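import Groth.Statements.S4472
import Mathlib
import Groth.Agent.Lib.Helper16.Blow2Chart
import Groth.Agent.Lib.Helper16.ReesBlowup3
import Groth.Agent.Lib.Helper8.ZConn4
import Groth.Agent.Lib.Helper8.ZConn6
-- import your own Groth.Agent.* helpers here

set_option autoImplicit false
universe u
open Coherent

namespace Groth.Agent.S4472

open AlgebraicGeometry CategoryTheory TopologicalSpace Opposite
open Groth.Agent.Lib.helper16.ReesBlowup HomogeneousLocalization

/-- A ring with an injective integral map into a local ring is local. -/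
theorem isLocalRing_of_integral_injective {B C : Type*} [CommRing B] [CommRing C] [IsLocalRing C]
    (f : B →+* C) (hinj : Function.Injective f) (hint : f.IsIntegral) : IsLocalRing B := by
  letI := f.toAlgebra
  haveI : Algebra.IsIntegral B C := ⟨hint⟩
  haveI : Nontrivial B := f.domain_nontrivial
  apply IsLocalRing.of_unique_max_ideal
  refine ⟨(IsLocalRing.maximalIdeal C).comap (algebraMap B C), ?_, ?_⟩
  · exact Ideal.isMaximal_comap_of_isIntegral_of_isMaximal (R := B) (IsLocalRing.maximalIdeal C)
  · intro P hP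
    obtain ⟨Q, hQ, hQP⟩ := Ideal.exists_ideal_over_maximal_of_isIntegral (S := C) P (by
      have : RingHom.ker (algebraMap B C) = ⊥ := (RingHom.injective_iff_ker_eq_bot _).mp hinj
      rw [this]; exact bot_le)
    rw [← hQP, IsLocalRing.eq_maximalIdeal hQ]

section Core

variable {A : Type u} [CommRing A] [IsNoetherianRing A] [IsLocalRing A]

theorem finite_ringOf_top {X : Scheme.{u}} (b : X ⟶ Spec (CommRingCat.of A)) [IsProper b] :
    (ringOf b ⊤).Finite := by
  haveI : IsNoetherianRing Γ(Spec (CommRingCat.of A), ⊤) :=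
    isNoetherianRing_of_ringEquiv A
      (Scheme.ΓSpecIso (CommRingCat.of A)).symm.commRingCatIsoToRingEquiv
  have hfin0 : b.appTop.hom.Finite := Groth.Agent.Lib.helper8.ZConn.finite_appTop_of_isProper b
  have hφ : ringOf b ⊤ = b.appTop.hom.comp (Scheme.ΓSpecIso (CommRingCat.of A)).inv.hom := by
    rw [ringOf]
    simp [Scheme.Hom.appLE]
  rw [hφ]
  refine RingHom.Finite.comp hfin0 (RingHom.Finite.of_surjective _ ?_)
  exact (Scheme.ΓSpecIso (CommRingCat.of A)).symm.commRingCatIsoToRingEquiv.surjective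

theorem isPreconnected_closedFibre {X : Scheme.{u}} (b : X ⟶ Spec (CommRingCat.of A)) [IsProper b]
    [IsLocalRing Γ(X, ⊤)] :
    _root_.IsPreconnected (b ⁻¹' {IsLocalRing.closedPoint A}) := by
  -- the ring map `A → B = Γ(X, ⊤)`
  set φ : A →+* Γ(X, ⊤) := ringOf b ⊤ with hφdef
  have hfac : X.toSpecΓ ≫ Spec.map (CommRingCat.ofHom φ) = b := toSpecΓ_ringOf_top b
  have hfin : φ.Finite := finite_ringOf_top b
  have hint : φ.IsIntegral := hfin.to_isIntegral
  letI algφ : Algebra A Γ(X, ⊤) := φ.toAlgebra
  haveI : Module.Finite A Γ(X, ⊤) := hfin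
  haveI : Algebra.IsIntegral A Γ(X, ⊤) := ⟨hint⟩
  haveI : IsNoetherianRing Γ(X, ⊤) := Algebra.FiniteType.isNoetherianRing A Γ(X, ⊤)
  -- `X` over `Spec B`
  letI : X.Over (Spec (CommRingCat.of Γ(X, ⊤))) := ⟨X.toSpecΓ⟩
  haveI : IsProper (X.toSpecΓ ≫ Spec.map (CommRingCat.ofHom φ)) := by rw [hfac]; infer_instance
  haveI : IsProper (X ↘ Spec (CommRingCat.of Γ(X, ⊤))) :=
    IsProper.of_comp X.toSpecΓ (Spec.map (CommRingCat.ofHom φ))
  have hsurj : Function.Surjective (Coh.toGlobal (X ↘ Spec (CommRingCat.of Γ(X, ⊤)))) := by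
    intro s
    refine ⟨s, ?_⟩
    show (X.toSpecΓ.appTop.hom.comp (Scheme.ΓSpecIso (CommRingCat.of Γ(X, ⊤))).inv.hom) s = s
    rw [Scheme.toSpecΓ_appTop]
    exact congrArg (fun k => k.hom s) (Scheme.ΓSpecIso (CommRingCat.of Γ(X, ⊤))).inv_hom_id
  -- comparison of the two closed fibres
  have hcp : ∀ x : X, b x = IsLocalRing.closedPoint A ↔
      X.toSpecΓ x = IsLocalRing.closedPoint Γ(X, ⊤) := by
    intro x
    have hbx : b x = (Spec.map (CommRingCat.ofHom φ)) (X.toSpecΓ x) := by
      rw [← hfac]; rfl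
    rw [hbx]
    constructor
    · intro h
      have h1 : (X.toSpecΓ x).asIdeal.comap φ = IsLocalRing.maximalIdeal A :=
        congrArg PrimeSpectrum.asIdeal h
      have h2 : ((X.toSpecΓ x).asIdeal.comap (algebraMap A Γ(X, ⊤))).IsMaximal := by
        show ((X.toSpecΓ x).asIdeal.comap φ).IsMaximal
        rw [h1]; infer_instance
      have h3 : (X.toSpecΓ x).asIdeal.IsMaximal :=
        Ideal.isMaximal_of_isIntegral_of_isMaximal_comap (R := A) _ h2
      exact PrimeSpectrum.ext (IsLocalRing.eq_maximalIdeal h3)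
    · intro h
      rw [h]
      apply PrimeSpectrum.ext
      show (IsLocalRing.maximalIdeal Γ(X, ⊤)).comap φ = IsLocalRing.maximalIdeal A
      have h2 : ((IsLocalRing.maximalIdeal Γ(X, ⊤)).comap (algebraMap A Γ(X, ⊤))).IsMaximal :=
        Ideal.isMaximal_comap_of_isIntegral_of_isMaximal (R := A) _
      exact IsLocalRing.eq_maximalIdeal h2
  have hset : b ⁻¹' {IsLocalRing.closedPoint A} =
      X.toSpecΓ ⁻¹' {IsLocalRing.closedPoint Γ(X, ⊤)} := by
    ext x
    exact hcp x
  have hclosed : IsClosed (b ⁻¹' {IsLocalRing.closedPoint A}) :=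
    (IsLocalRing.isClosed_singleton_closedPoint A).preimage b.continuous
  rw [isPreconnected_closed_iff]
  intro t t' ht ht' hcov ⟨x₁, hx₁s, hx₁t⟩ ⟨x₂, hx₂s, hx₂t⟩
  by_contra hne
  rw [Set.not_nonempty_iff_eq_empty] at hne
  refine Groth.Agent.Lib.helper8.ZConn.not_disconnected (A := Γ(X, ⊤)) (X := X) hsurj
    (b ⁻¹' {IsLocalRing.closedPoint A} ∩ t) (b ⁻¹' {IsLocalRing.closedPoint A} ∩ t')
    (hclosed.inter ht) (hclosed.inter ht') ?_ ?_ x₁ x₂ ⟨hx₁s, hx₁t⟩ ⟨hx₂s, hx₂t⟩
    ((hcp x₁).mp hx₁s) ((hcp x₂).mp hx₂s)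
  · rw [Set.disjoint_iff_inter_eq_empty]
    rw [← hne]
    ext x
    simp only [Set.mem_inter_iff]
    tauto
  · intro x hx
    have hx' : x ∈ b ⁻¹' {IsLocalRing.closedPoint A} := (hcp x).mpr hx
    rcases hcov hx' with h | h
    · exact Or.inl ⟨hx', h⟩
    · exact Or.inr ⟨hx', h⟩

end Core

section Blow

variable {A : Type u} [CommRing A] [IsDomain A] (I : Ideal A)

theorem F_ne_zero' (f : A) (hf : f ∈ I) (hf0 : f ≠ 0) : F I f hf ≠ 0 :=
  fun h => hf0 ((mon_eq_zero_iff I 1 f _).mp h)

theorem isDomain_away' (g : reesAlgebra I) (hg : g ≠ 0) :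
    IsDomain (Away (Rees.deg (reesAlgebra I)) g) := by
  haveI : IsDomain (reesAlgebra I) := inferInstance
  have hle : Submonoid.powers g ≤ nonZeroDivisors (reesAlgebra I) := by
    rw [Submonoid.powers_le]
    exact mem_nonZeroDivisors_of_ne_zero hg
  haveI : IsDomain (Localization (Submonoid.powers g)) :=
    IsLocalization.isDomain_localization hle
  exact Function.Injective.isDomain
    (algebraMap (Away (Rees.deg (reesAlgebra I)) g) (Localization (Submonoid.powers g)))
    (fun a b hab => HomogeneousLocalization.val_injective _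
      (by rwa [HomogeneousLocalization.algebraMap_apply, HomogeneousLocalization.algebraMap_apply] at hab))

theorem isIrreducible_basicOpen (g : reesAlgebra I) (hg0 : g ≠ 0) {m : ℕ}
    (g_deg : g ∈ Rees.deg (reesAlgebra I) m) (hm : 0 < m) :
    IsIrreducible ((Proj.basicOpen (Rees.deg (reesAlgebra I)) g : (Bl I).Opens) : Set (Bl I)) := by
  haveI := isDomain_away' I g hg0
  haveI : IrreducibleSpace (Spec (CommRingCat.of (Away (Rees.deg (reesAlgebra I)) g))) :=
    inferInstanceAs (IrreducibleSpace (PrimeSpectrum (Away (Rees.deg (reesAlgebra I)) g)))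
  have h1 : ((Proj.basicOpen (Rees.deg (reesAlgebra I)) g : (Bl I).Opens) : Set (Bl I)) =
      Set.range (Proj.awayι (Rees.deg (reesAlgebra I)) g g_deg hm) := by
    rw [← Proj.opensRange_awayι (Rees.deg (reesAlgebra I)) g g_deg hm]
    rfl
  rw [h1, ← Set.image_univ]
  exact (IrreducibleSpace.isIrreducible_univ _).image _
    (Scheme.Hom.continuous (Proj.awayι (Rees.deg (reesAlgebra I)) g g_deg hm)).continuousOn

theorem irreducibleSpace_bl (hI : I ≠ ⊥) : IrreducibleSpace (Bl I) := by
  obtain ⟨a, ha, ha0⟩ := Submodule.exists_mem_ne_zero_of_ne_bot hI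
  rw [irreducibleSpace_def]
  have hUa := isIrreducible_basicOpen I (F I a ha) (F_ne_zero' I a ha ha0) (F_mem I a ha) Nat.one_pos
  have hcl : closure ((chart I a ha : (Bl I).Opens) : Set (Bl I)) = Set.univ := by
    rw [Set.eq_univ_iff_forall]
    intro q
    have hq : q ∈ ⨆ i : I, chart I i.1 i.2 := by rw [iSup_chart]; trivial
    obtain ⟨i, hi⟩ := Opens.mem_iSup.mp hq
    have hi0 : i.1 ≠ 0 := by
      intro h0
      have h1 : F I i.1 i.2 = 0 := (mon_eq_zero_iff I 1 i.1 _).mpr h0
      have h2 : chart I i.1 i.2 = ⊥ := by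
        show Proj.basicOpen (Rees.deg (reesAlgebra I)) (F I i.1 i.2) = ⊥
        rw [h1, Proj.basicOpen_zero]
      rw [h2] at hi
      exact hi
    have hUy := isIrreducible_basicOpen I (F I i.1 i.2) (F_ne_zero' I i.1 i.2 hi0) (F_mem I i.1 i.2)
      Nat.one_pos
    have hUxy := isIrreducible_basicOpen I (F I a ha * F I i.1 i.2)
      (mul_ne_zero (F_ne_zero' I a ha ha0) (F_ne_zero' I i.1 i.2 hi0))
      (SetLike.mul_mem_graded (F_mem I a ha) (F_mem I i.1 i.2)) (by norm_num : 0 < 1 + 1)
    rw [Proj.basicOpen_mul] at hUxy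
    rw [mem_closure_iff]
    intro W hW hqW
    obtain ⟨z, hz⟩ := hUy.2 W (chart I a ha : (Bl I).Opens) hW (chart I a ha).2 ⟨q, hi, hqW⟩
      (by
        obtain ⟨z, hz⟩ := hUxy.1
        exact ⟨z, hz.2, hz.1⟩)
    exact ⟨z, hz.2.1, hz.2.2⟩
  have := hUa.closure
  rwa [hcl] at this

theorem isReduced_away (g : reesAlgebra I) :
    _root_.IsReduced (Away (Rees.deg (reesAlgebra I)) g) := by
  haveI : IsDomain (reesAlgebra I) := inferInstance
  haveI : _root_.IsReduced (Localization (Submonoid.powers g)) := inferInstance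
  refine isReduced_of_injective
    (algebraMap (Away (Rees.deg (reesAlgebra I)) g) (Localization (Submonoid.powers g)) :
      Away (Rees.deg (reesAlgebra I)) g →+* Localization (Submonoid.powers g)) ?_
  exact fun a b hab => HomogeneousLocalization.val_injective _
    (by rwa [HomogeneousLocalization.algebraMap_apply, HomogeneousLocalization.algebraMap_apply] at hab)

theorem isReduced_bl : IsReduced (Bl I) := by
  haveI : ∀ i, IsReduced ((Proj.affineOpenCover (Rees.deg (reesAlgebra I))).openCover.X i) := by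
    intro i
    haveI := isReduced_away I (i.2 : reesAlgebra I)
    show IsReduced (Spec (CommRingCat.of (Away (Rees.deg (reesAlgebra I)) (i.2 : reesAlgebra I))))
    infer_instance
  exact IsReduced.of_openCover (Bl I) (Proj.affineOpenCover (Rees.deg (reesAlgebra I))).openCover

theorem isIntegral_bl (hI : I ≠ ⊥) : IsIntegral (Bl I) := by
  haveI := irreducibleSpace_bl I hI
  haveI := isReduced_bl I
  exact isIntegral_of_irreducibleSpace_of_isReduced _

end Blow

section Local

variable {A : Type u} [CommRing A] [IsDomain A] (I : Ideal A)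
variable {K : Type u} [Field K] (g : A →+* K) (hg : Function.Injective g)

include hg in
theorem isUnit_g (a : A) (ha0 : a ≠ 0) : IsUnit (g a) :=
  IsUnit.mk0 _ (by rwa [Ne, map_eq_zero_iff g hg])

/-- the chart ring of the blow-up maps to any field containing `A`. -/
noncomputable def chartToField (a : A) (ha : a ∈ I) (ha0 : a ≠ 0) :
    Away (Rees.deg (reesAlgebra I)) (F I a ha) →+* K :=
  (IsLocalization.Away.lift (S := Localization.Away a) a (g := g) (isUnit_g g hg a ha0)).comp
    (Theta I a ha)

theorem chartToField_toAway (a : A) (ha : a ∈ I) (ha0 : a ≠ 0) (c : A) :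
    chartToField I g hg a ha ha0 (toAway I a ha c) = g c := by
  rw [chartToField, RingHom.comp_apply, Theta_toAway, IsLocalization.Away.lift_eq]

theorem chartToField_injective (a : A) (ha : a ∈ I) (ha0 : a ≠ 0) :
    Function.Injective (chartToField I g hg a ha ha0) := by
  have hlift : Function.Injective
      (IsLocalization.Away.lift (S := Localization.Away a) a (g := g) (isUnit_g g hg a ha0)) := by
    unfold IsLocalization.Away.lift
    rw [IsLocalization.lift_injective_iff]
    intro x y
    have hinj : Function.Injective (algebraMap A (Localization.Away a)) :=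
      IsLocalization.injective (Localization.Away a)
        (powers_le_nonZeroDivisors_of_noZeroDivisors ha0)
    constructor
    · intro h; rw [hinj h]
    · intro h; rw [hg h]
  intro s t hst
  rw [chartToField, RingHom.comp_apply, RingHom.comp_apply] at hst
  exact Theta_injective I a ha (hlift hst)

/-- global functions on the blow-up map injectively to any field containing `A`. -/
noncomputable def globalToField (a : A) (ha : a ∈ I) (ha0 : a ≠ 0) : Γ(Bl I, ⊤) →+* K :=
  haveI := isIso_awayToSection I a ha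
  (chartToField I g hg a ha ha0).comp
    (((asIso (Proj.awayToSection (Rees.deg (reesAlgebra I)) (F I a ha))).commRingCatIsoToRingEquiv.symm :
        Γ(Bl I, chart I a ha) →+* Away (Rees.deg (reesAlgebra I)) (F I a ha)).comp
      ((Bl I).presheaf.map (homOfLE (le_top : chart I a ha ≤ ⊤)).op).hom)

theorem globalToField_ringOf (a : A) (ha : a ∈ I) (ha0 : a ≠ 0) (c : A) :
    globalToField I g hg a ha ha0 (ringOf (bl I) ⊤ c) = g c := by
  haveI := isIso_awayToSection I a ha
  have h1 : ((Bl I).presheaf.map (homOfLE (le_top : chart I a ha ≤ ⊤)).op).hom (ringOf (bl I) ⊤ c) =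
      (Proj.awayToSection (Rees.deg (reesAlgebra I)) (F I a ha)).hom (toAway I a ha c) := by
    have := congrArg (fun k => k c) (ringOf_res (bl I) (chart I a ha))
    simp only [RingHom.comp_apply] at this
    rw [← this, ringOf_bl_chart]
    rfl
  rw [globalToField, RingHom.comp_apply, RingHom.comp_apply, h1]
  have h2 : ((asIso (Proj.awayToSection (Rees.deg (reesAlgebra I)) (F I a ha))).commRingCatIsoToRingEquiv.symm :
        Γ(Bl I, chart I a ha) →+* Away (Rees.deg (reesAlgebra I)) (F I a ha))
      ((Proj.awayToSection (Rees.deg (reesAlgebra I)) (F I a ha)).hom (toAway I a ha c)) =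
      toAway I a ha c :=
    (asIso (Proj.awayToSection (Rees.deg (reesAlgebra I)) (F I a ha))).commRingCatIsoToRingEquiv.symm_apply_apply _
  rw [h2, chartToField_toAway]

theorem globalToField_injective (hI : I ≠ ⊥) (a : A) (ha : a ∈ I) (ha0 : a ≠ 0) :
    Function.Injective (globalToField I g hg a ha ha0) := by
  haveI := isIso_awayToSection I a ha
  haveI := isIntegral_bl I hI
  haveI : Nonempty (chart I a ha) := by
    obtain ⟨z, hz⟩ := (isIrreducible_basicOpen I (F I a ha) (F_ne_zero' I a ha ha0) (F_mem I a ha)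
      Nat.one_pos).1
    exact ⟨⟨z, hz⟩⟩
  intro s t hst
  rw [globalToField, RingHom.comp_apply, RingHom.comp_apply, RingHom.comp_apply,
    RingHom.comp_apply] at hst
  have h1 := chartToField_injective I g hg a ha ha0 hst
  have h2 := (asIso (Proj.awayToSection (Rees.deg (reesAlgebra I))
      (F I a ha))).commRingCatIsoToRingEquiv.symm.injective h1
  exact map_injective_of_isIntegral (Bl I) (homOfLE (le_top : chart I a ha ≤ ⊤)) h2

end Local

section Final

variable {A : Type u} [CommRing A] [IsDomain A] [IsNoetherianRing A] [IsLocalRing A]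

theorem isLocalRing_global (hA : CAlg2.IsUnibranch A) (I : Ideal A) (hI : I ≠ ⊥) :
    IsLocalRing Γ(Bl I, ⊤) := by
  obtain ⟨a, ha, ha0⟩ := Submodule.exists_mem_ne_zero_of_ne_bot hI
  haveI : IsDomain (CAlg2.red A) := hA.1
  haveI : IsLocalRing (CAlg2.normRed A) := hA.2
  let K := FractionRing (CAlg2.red A)
  let g : A →+* K := (algebraMap (CAlg2.red A) K).comp (Ideal.Quotient.mk (nilradical A))
  have hg : Function.Injective g := by
    have hmk : Function.Injective (Ideal.Quotient.mk (nilradical A)) := by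
      rw [injective_iff_map_eq_zero]
      intro x hx
      rw [Ideal.Quotient.eq_zero_iff_mem, nilradical_eq_zero] at hx
      exact hx
    intro x y hxy
    exact hmk (IsFractionRing.injective (CAlg2.red A) K hxy)
  have hIfg : I.FG := (isNoetherianRing_iff_ideal_fg A).mp inferInstance I
  haveI := Groth.Agent.Lib.helper16.BlowUpProper.isProper_bl I hIfg
  have hψinj := globalToField_injective I g hg hI a ha ha0
  have hφfin : (ringOf (bl I) ⊤).Finite := finite_ringOf_top (bl I)
  have hmem : ∀ s, globalToField I g hg a ha ha0 s ∈ integralClosure (CAlg2.red A) K := by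
    intro s
    obtain ⟨p, hp, hps⟩ := hφfin.to_isIntegral s
    refine ⟨p.map (Ideal.Quotient.mk (nilradical A)), hp.map _, ?_⟩
    rw [Polynomial.eval₂_map]
    have h1 : Polynomial.eval₂ g (globalToField I g hg a ha ha0 s) p =
        globalToField I g hg a ha ha0 (Polynomial.eval₂ (ringOf (bl I) ⊤) s p) := by
      rw [Polynomial.hom_eval₂]
      congr 1
      ext c
      exact (globalToField_ringOf I g hg a ha ha0 c).symm
    show Polynomial.eval₂ g (globalToField I g hg a ha ha0 s) p = 0
    rw [h1, hps, map_zero]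
  let f : Γ(Bl I, ⊤) →+* CAlg2.normRed A :=
    (globalToField I g hg a ha ha0).codRestrict (integralClosure (CAlg2.red A) K) hmem
  have hfinj : Function.Injective f := fun s t h => hψinj (congrArg Subtype.val h)
  have hcomp : f.comp (ringOf (bl I) ⊤) =
      (algebraMap (CAlg2.red A) (CAlg2.normRed A)).comp (Ideal.Quotient.mk (nilradical A)) := by
    ext c
    exact globalToField_ringOf I g hg a ha ha0 c
  have hfint : f.IsIntegral := by
    apply RingHom.IsIntegral.tower_top (ringOf (bl I) ⊤) f
    rw [hcomp]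
    exact RingHom.IsIntegral.trans _ _
      (RingHom.isIntegral_of_surjective _ Ideal.Quotient.mk_surjective)
      (algebraMap_isIntegral_iff.mpr inferInstance)
  exact isLocalRing_of_integral_injective f hfinj hfint

theorem main (hA : CAlg2.IsUnibranch A) (𝔞 : Ideal A) {X : Scheme.{u}}
    (b : X ⟶ Spec (CommRingCat.of A))
    (hb : BlowUp.IsBlowUp b
      (Scheme.IdealSheafData.ofIdealTop (𝔞.map (Scheme.ΓSpecIso (CommRingCat.of A)).inv.hom))) :
    PreconnectedSpace ↥(b.fiber (IsLocalRing.closedPoint A)) := by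
  obtain ⟨φ, hφiso, hφ⟩ := exists_iso_bl 𝔞 b hb
  have hIfg : 𝔞.FG := (isNoetherianRing_iff_ideal_fg A).mp inferInstance 𝔞
  haveI := Groth.Agent.Lib.helper16.BlowUpProper.isProper_bl 𝔞 hIfg
  haveI : IsProper b := by rw [← hφ]; infer_instance
  by_cases h𝔞 : 𝔞 = ⊥
  · have hempty : IsEmpty (Bl 𝔞) := by
      constructor
      intro q
      have hq : q ∈ ⨆ i : 𝔞, chart 𝔞 i.1 i.2 := by rw [iSup_chart]; trivial
      obtain ⟨i, hi⟩ := Opens.mem_iSup.mp hq
      have h0 : i.1 = 0 := by
        have : (i.1 : A) ∈ (⊥ : Ideal A) := by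
          rw [← h𝔞]; exact i.2
        exact this
      have h1 : F 𝔞 i.1 i.2 = 0 := (mon_eq_zero_iff 𝔞 1 i.1 _).mpr h0
      have h2 : chart 𝔞 i.1 i.2 = ⊥ := by
        show Proj.basicOpen (Rees.deg (reesAlgebra 𝔞)) (F 𝔞 i.1 i.2) = ⊥
        rw [h1, Proj.basicOpen_zero]
      rw [h2] at hi
      exact hi
    haveI : IsEmpty X := Function.isEmpty φ
    haveI : IsEmpty ↥(b.fiber (IsLocalRing.closedPoint A)) :=
      Function.isEmpty (b.fiberι (IsLocalRing.closedPoint A))
    infer_instance
  · haveI : IsLocalRing Γ(Bl 𝔞, ⊤) := isLocalRing_global hA 𝔞 h𝔞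
    haveI : IsIso φ.appTop := inferInstanceAs (IsIso (φ.app ⊤))
    haveI : IsLocalRing Γ(X, ⊤) :=
      RingEquiv.isLocalRing (asIso φ.appTop).commRingCatIsoToRingEquiv
    have hpre := isPreconnected_closedFibre b
    haveI : PreconnectedSpace (b ⁻¹' {IsLocalRing.closedPoint A}) :=
      isPreconnected_iff_preconnectedSpace.mp hpre
    exact (b.fiberHomeo (IsLocalRing.closedPoint A)).symm.surjective.denseRange.preconnectedSpace
      (b.fiberHomeo (IsLocalRing.closedPoint A)).symm.continuous

end Final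


open AlgebraicGeometry CategoryTheory in
/-- Let A be a unibranch Noetherian local domain (a local domain whose integral closure is a local ring)
with maximal ideal m, let 𝔞 be an ideal of definition of A (𝔞 ⊆ m and m^p ⊆ 𝔞 for some p), and let b
: X → Spec A be a blowing up of Spec A in the ideal sheaf defined by 𝔞. Then the fibre of b over the
closed point is preconnected. Its underlying space is that of Proj of the associated graded ring ⊕
𝔞^i/𝔞^(i+1), so this says that Proj is connected (possibly empty). -/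
theorem result (A : Type u) [CommRing A] [IsDomain A]
    [IsNoetherianRing A] [IsLocalRing A] (hA : CAlg2.IsUnibranch A) (𝔞 : Ideal A)
    (hle : 𝔞 ≤ IsLocalRing.maximalIdeal A)
    (hpow : ∃ p : ℕ, IsLocalRing.maximalIdeal A ^ p ≤ 𝔞) {X : Scheme.{u}}
    (b : X ⟶ Spec (CommRingCat.of A))
    (hb : BlowUp.IsBlowUp b
      (Scheme.IdealSheafData.ofIdealTop (𝔞.map (Scheme.ΓSpecIso (CommRingCat.of A)).inv.hom))) :
    PreconnectedSpace ↥(b.fiber (IsLocalRing.closedPoint A)) := by
  exact main hA 𝔞 b hb

end Groth.Agent.S4472
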