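import Groth.Statements.S9267
import Mathlib
import Groth.Agent.Lib.Helper2.KC5
import Groth.Agent.S15816
import Groth.Agent.Lib.Helper26.Kos9

set_option autoImplicit false
universe u
attribute [local instance] HasDerivedCategory.standard
open CategoryTheory
open DerCA

namespace Groth.Agent.S9267

open CategoryTheory.Limits HomologicalComplex CochainComplex HomComplex
open Groth.Agent.Lib.helper2.CxH Groth.Agent.Lib.helper2.Cone Groth.Agent.Lib.helper2.KC

section Cone

variable {A : Type u} [CommRing A] {C : CochainComplex (ModuleCat.{u} A) ℤ}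

lemma smul_id_apply (x : A) (j : ℤ) (c : C.X j) :
    ((x • 𝟙 C : C ⟶ C).f j).hom c = x • c :=
  Groth.Agent.Lib.helper26.Kos.smul_id_f_apply' x j c

/-- build an element of the cone from its two components -/
noncomputable def mk (x : A) (p q : ℤ) (h : p + 1 = q) (k : C.X q) (l : C.X p) :
    (mappingCone (x • 𝟙 C)).X p :=
  cL (x • 𝟙 C) q p (by omega) k + cR (x • 𝟙 C) p l

lemma cF_mk (x : A) (p q : ℤ) (h : p + 1 = q) (k : C.X q) (l : C.X p) :
    cF (x • 𝟙 C) p q h (mk x p q h k l) = k := by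
  unfold mk
  rw [map_add, cF_cL, cF_cR, add_zero]

lemma cS_mk (x : A) (p q : ℤ) (h : p + 1 = q) (k : C.X q) (l : C.X p) :
    cS (x • 𝟙 C) p (mk x p q h k l) = l := by
  unfold mk
  rw [map_add, cS_cL, cS_cR, zero_add]

lemma cF_d' (x : A) (p q r : ℤ) (hpq : p + 1 = q) (hqr : q + 1 = r)
    (e : (mappingCone (x • 𝟙 C)).X p) :
    cF (x • 𝟙 C) q r hqr (((mappingCone (x • 𝟙 C)).d p q).hom e) =
      -(C.d q r).hom (cF (x • 𝟙 C) p q hpq e) :=
  cF_d _ p q r hpq hqr e

lemma cS_d' (x : A) (p q : ℤ) (hpq : p + 1 = q) (e : (mappingCone (x • 𝟙 C)).X p) :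
    cS (x • 𝟙 C) q (((mappingCone (x • 𝟙 C)).d p q).hom e) =
      x • (cF (x • 𝟙 C) p q hpq e) + (C.d p q).hom (cS (x • 𝟙 C) p e) := by
  rw [cS_d _ p q hpq e, smul_id_apply]

/-- If the cones of `b` and of `c` on `C` are exact in degree `j`, so is the cone of `b * c`. -/
lemma cone_mul (C : CochainComplex (ModuleCat.{u} A) ℤ) (b c : A) (j : ℤ)
    (hb : IsZero ((mappingCone (b • 𝟙 C)).homology j))
    (hc : IsZero ((mappingCone (c • 𝟙 C)).homology j)) :
    IsZero ((mappingCone ((b * c) • 𝟙 C)).homology j) := by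
  have e1 : j - 1 + 1 = j := by ring
  rw [isZero_homology_iff _ (j - 1) j (j + 1) e1 rfl] at hb hc ⊢
  intro x hx
  obtain ⟨u, hu⟩ : ∃ u, u = cF ((b * c) • 𝟙 C) j (j + 1) rfl x := ⟨_, rfl⟩
  obtain ⟨v, hv⟩ : ∃ v, v = cS ((b * c) • 𝟙 C) j x := ⟨_, rfl⟩
  have h1 : (C.d (j + 1) (j + 1 + 1)).hom u = 0 := by
    have := cF_d' (b * c) j (j + 1) (j + 1 + 1) rfl rfl x
    rw [hx, map_zero, ← hu] at this
    exact neg_eq_zero.mp this.symm
  have h2 : (b * c) • u + (C.d j (j + 1)).hom v = 0 := by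
    have := cS_d' (b * c) j (j + 1) rfl x
    rw [hx, map_zero, ← hu, ← hv] at this
    exact this.symm
  -- step 1
  obtain ⟨w1, hw1⟩ := hc (mk c j (j + 1) rfl (b • u) v) (by
    apply ext_elem (c • 𝟙 C) (j + 1) (j + 1 + 1) rfl
    · rw [cF_d' c j (j + 1) (j + 1 + 1) rfl rfl, cF_mk, map_zero, map_smul, h1, smul_zero,
        neg_zero]
    · rw [cS_d' c j (j + 1) rfl, cF_mk, cS_mk, map_zero, smul_smul, mul_comm c b]
      exact h2)
  obtain ⟨s, hs⟩ : ∃ s, s = cF (c • 𝟙 C) (j - 1) j e1 w1 := ⟨_, rfl⟩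
  obtain ⟨t, ht⟩ : ∃ t, t = cS (c • 𝟙 C) (j - 1) w1 := ⟨_, rfl⟩
  have h3 : -(C.d j (j + 1)).hom s = b • u := by
    have := cF_d' c (j - 1) j (j + 1) e1 rfl w1
    rw [hw1, cF_mk, ← hs] at this
    exact this.symm
  have h4 : c • s + (C.d (j - 1) j).hom t = v := by
    have := cS_d' c (j - 1) j e1 w1
    rw [hw1, cS_mk, ← hs, ← ht] at this
    exact this.symm
  -- step 2
  obtain ⟨w2, hw2⟩ := hb (mk b j (j + 1) rfl u s) (by
    apply ext_elem (b • 𝟙 C) (j + 1) (j + 1 + 1) rfl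
    · rw [cF_d' b j (j + 1) (j + 1 + 1) rfl rfl, cF_mk, map_zero, h1, neg_zero]
    · rw [cS_d' b j (j + 1) rfl, cF_mk, cS_mk, map_zero, ← h3]
      exact neg_add_cancel _)
  obtain ⟨p, hp⟩ : ∃ p, p = cF (b • 𝟙 C) (j - 1) j e1 w2 := ⟨_, rfl⟩
  obtain ⟨q, hq⟩ : ∃ q, q = cS (b • 𝟙 C) (j - 1) w2 := ⟨_, rfl⟩
  have h5 : -(C.d j (j + 1)).hom p = u := by
    have := cF_d' b (j - 1) j (j + 1) e1 rfl w2
    rw [hw2, cF_mk, ← hp] at this
    exact this.symm
  have h6 : b • p + (C.d (j - 1) j).hom q = s := by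
    have := cS_d' b (j - 1) j e1 w2
    rw [hw2, cS_mk, ← hp, ← hq] at this
    exact this.symm
  refine ⟨mk (b * c) (j - 1) j e1 p (c • q + t), ?_⟩
  apply ext_elem ((b * c) • 𝟙 C) j (j + 1) rfl
  · rw [cF_d' (b * c) (j - 1) j (j + 1) e1 rfl, cF_mk, h5, hu]
  · rw [cS_d' (b * c) (j - 1) j e1, cF_mk, cS_mk, ← hv, ← h4, ← h6, map_add, map_smul, smul_add,
      smul_smul, mul_comm c b]
    abel

end Cone

section KReg

variable {A : Type u} [CommRing A]

/-- Koszul-regularity in terms of the `CohIII.koszulCx` model. -/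
def KReg (l : List A) : Prop :=
  ∀ i : ℤ, i ≠ 0 → IsZero ((CohIII.koszulCx (ModuleCat.of A A) l).homology i)

lemma kreg_perm {l l' : List A} (h : l.Perm l') (hl : KReg l) : KReg l' := by
  intro i hi
  obtain ⟨e⟩ := Groth.Agent.Lib.helper26.Kos.nonempty_iso_of_perm (ModuleCat.of A A) h
  exact (hl i hi).of_iso ((HomologicalComplex.homologyFunctor _ _ i).mapIso e.symm)

lemma kreg_pow_head {a : A} {l : List A} (h : KReg (a :: l)) (n : ℕ) (hn : 1 ≤ n) :
    KReg (a ^ n :: l) := by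
  induction n, hn using Nat.le_induction with
  | base => rwa [pow_one]
  | succ n hn ih =>
    intro i hi
    rw [pow_succ]
    exact cone_mul (CohIII.koszulCx (ModuleCat.of A A) l) (a ^ n) a i (ih i hi) (h i hi)

lemma kreg_pow_gen (n : ℕ) (hn : 1 ≤ n) :
    ∀ (l1 l2 : List A), KReg (l1 ++ l2) → KReg (l1.map (· ^ n) ++ l2)
  | [], l2, h => h
  | a :: l1, l2, h => by
    have h1 : KReg (l1 ++ a :: l2) := kreg_perm (List.perm_middle.symm) h
    have h2 : KReg (l1.map (· ^ n) ++ a :: l2) := kreg_pow_gen n hn l1 (a :: l2) h1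
    have h3 : KReg (a :: (l1.map (· ^ n) ++ l2)) := kreg_perm List.perm_middle h2
    exact kreg_pow_head h3 n hn

lemma kreg_pow {l : List A} (h : KReg l) (n : ℕ) (hn : 1 ≤ n) : KReg (l.map (· ^ n)) := by
  have := kreg_pow_gen n hn l [] (by rwa [List.append_nil])
  rwa [List.append_nil] at this

end KReg



/-- For a Koszul-regular sequence f_1, ..., f_r in a ring R, the extended alternating Cech complex R → ⊕
R_{f_i} → ... → R_{f_1 ... f_r} has cohomology only in degree r. -/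
theorem result (R : Type u) [CommRing R] (fs : List R)
    (hfs : LCI.IsKoszulRegularSeq R fs) (q : ℤ) (hq : q ≠ (fs.length : ℤ)) :
    Limits.IsZero (DerCA.extCechH fs (ModuleCat.of R R) q) := by
  have hK : KReg fs := by
    intro i hi
    exact (hfs i hi).of_iso ((HomologicalComplex.homologyFunctor _ _ i).mapIso
      (eqToIso (Groth.Agent.S15816.koszul_eq fs).symm))
  have hq' : q - fs.length ≠ 0 := sub_ne_zero.mpr hq
  have : Subsingleton (extCechH fs (ModuleCat.of R R) q) := by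
    suffices h : ∀ y : (extCech (ModuleCat.of R R) fs).homology q, y = 0 from
      ⟨fun a b => by rw [h a, h b]⟩
    intro y
    obtain ⟨n, x, rfl⟩ := kcH_surj (ModuleCat.of R R) fs (q - fs.length) q (by ring) y
    rw [← kcH_trans (ModuleCat.of R R) fs n (n + 1) (Nat.le_succ n) (q - fs.length) q (by ring) x]
    have hz : IsZero ((Kn (ModuleCat.of R R) (n + 1) fs).homology (q - fs.length)) :=
      kreg_pow hK (n + 1) (Nat.succ_le_succ (Nat.zero_le n)) _ hq'
    have h0 : (HomologicalComplex.homologyMap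
        (CohIII.koszulTrans (ModuleCat.of R R) n (n + 1) (Nat.le_succ n) fs)
        (q - fs.length)).hom x = 0 :=
      (ModuleCat.subsingleton_of_isZero hz).elim _ _
    rw [h0, map_zero]
  exact ModuleCat.isZero_of_subsingleton _


end Groth.Agent.S9267
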