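import Groth.Statements.S4475
import Mathlib
import Groth.Agent.Lib.Helper6.KosTop
import Groth.Agent.S9267
import Groth.Agent.S2423
import Groth.Agent.Lib.Helper26.Seg21

set_option autoImplicit false
universe u
open Koszul3

namespace Groth.Agent.S4475

open CategoryTheory CategoryTheory.Limits
open CohIII Groth.Agent.Lib.helper2.CxH Groth.Agent.Lib.helper2.KC Groth.Agent.Lib.helper6.KosTop
open MvPolynomial

section Mono

variable {A : Type u} [CommRing A] {σ : Type} [Fintype σ] [DecidableEq σ]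

/-- the exponent vector `(1, …, 1)` -/
noncomputable def eone : σ →₀ ℕ := Finsupp.equivFunOnFinite.symm (fun _ => 1)

lemma eone_apply (i : σ) : (eone : σ →₀ ℕ) i = 1 := rfl

lemma prodX_pow (k : ℕ) :
    (∏ i : σ, (X i : MvPolynomial σ A)) ^ k = monomial (k • eone) 1 := by
  rw [monomial_eq, C_1, one_mul, Finsupp.prod_fintype _ _ (fun i => pow_zero _),
    ← Finset.prod_pow]
  refine Finset.prod_congr rfl (fun i _ => ?_)
  rw [Finsupp.smul_apply, eone_apply, smul_eq_mul, mul_one]

lemma prodX_pow_mul (k : ℕ) (a : σ →₀ ℕ) (c : A) :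
    (∏ i : σ, (X i : MvPolynomial σ A)) ^ k * monomial a c = monomial (a + k • eone) c := by
  rw [prodX_pow, monomial_mul, one_mul, add_comm]

/-- the reflected exponent -/
noncomputable def expo (N : ℕ) (c : σ →₀ ℕ) : σ →₀ ℕ := (N - 1) • eone - c

lemma expo_apply (N : ℕ) (c : σ →₀ ℕ) (i : σ) : expo N c i = N - 1 - c i := by
  rw [expo, Finsupp.tsub_apply, Finsupp.smul_apply, eone_apply, smul_eq_mul, mul_one]

lemma expo_add (N k : ℕ) (c : σ →₀ ℕ) (hc : ∀ i, c i < N) :
    expo N c + k • eone = expo (N + k) c := by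
  ext i
  rw [Finsupp.add_apply, expo_apply, expo_apply, Finsupp.smul_apply, eone_apply, smul_eq_mul,
    mul_one]
  have := hc i
  omega

lemma expo_lt (N : ℕ) (c : σ →₀ ℕ) (hc : ∀ i, c i < N) (i : σ) : expo N c i < N := by
  rw [expo_apply]
  have := hc i
  omega

lemma expo_expo (N : ℕ) (c : σ →₀ ℕ) (hc : ∀ i, c i < N) : expo N (expo N c) = c := by
  ext i
  rw [expo_apply, expo_apply]
  have := hc i
  omega

lemma support_of_mem_Jn (n : ℕ) : ∀ (l : List σ) (p : MvPolynomial σ A),
    p ∈ Jn (ModuleCat.of (MvPolynomial σ A) (MvPolynomial σ A)) n (l.map X) →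
    ∀ m ∈ p.support, ∃ i, n ≤ m i
  | [], p, hp, m, hm => by
    have h0 : p = 0 := (Submodule.mem_bot (MvPolynomial σ A)).mp hp
    rw [h0] at hm
    simp at hm
  | i :: l, p, hp, m, hm => by
    have hp' : p ∈ LinearMap.range ((X i ^ n : MvPolynomial σ A) •
        (LinearMap.id : MvPolynomial σ A →ₗ[MvPolynomial σ A] MvPolynomial σ A)) ⊔
        Jn (ModuleCat.of (MvPolynomial σ A) (MvPolynomial σ A)) n (l.map X) := hp
    obtain ⟨a, ⟨y, rfl⟩, b, hb, rfl⟩ := Submodule.mem_sup.mp hp'
    rcases Finset.mem_union.mp (MvPolynomial.support_add hm) with h1 | h2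
    · refine ⟨i, ?_⟩
      rw [MvPolynomial.mem_support_iff] at h1
      have h1' : coeff m ((X i ^ n : MvPolynomial σ A) * y) ≠ 0 := h1
      rw [X_pow_eq_monomial, coeff_monomial_mul'] at h1'
      by_contra hlt
      apply h1'
      rw [if_neg]
      intro hle
      apply hlt
      have := hle i
      simpa using this
    · exact support_of_mem_Jn n l b hb m h2

lemma monomial_mem_Jn (n : ℕ) (l : List σ) (i : σ) (hi : i ∈ l) (a : σ →₀ ℕ) (c : A)
    (h : n ≤ a i) :
    (monomial a c : MvPolynomial σ A) ∈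
      Jn (ModuleCat.of (MvPolynomial σ A) (MvPolynomial σ A)) n (l.map X) := by
  apply range_le_Jn (ModuleCat.of (MvPolynomial σ A) (MvPolynomial σ A)) n (l.map X) (X i)
    (List.mem_map_of_mem hi)
  refine ⟨(monomial (a - Finsupp.single i n) c : MvPolynomial σ A), ?_⟩
  show (X i ^ n : MvPolynomial σ A) * monomial (a - Finsupp.single i n) c = monomial a c
  have hle : Finsupp.single i n ≤ a := by
    intro j
    by_cases hj : j = i
    · subst hj
      simpa using h
    · simp [Finsupp.single_apply, Ne.symm hj]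
  rw [X_pow_eq_monomial, monomial_mul, one_mul, add_tsub_cancel_of_le hle]

end Mono

section Main

variable (A : Type u) [CommRing A] (r : ℕ)

abbrev SS : Type u := MvPolynomial (Fin (r + 1)) A

noncomputable abbrev fsX : List (SS A r) :=
  List.ofFn (fun j : Fin (r + 1) => (X j : SS A r))

noncomputable abbrev MM : ModuleCat.{u} (SS A r) := ModuleCat.of (SS A r) (SS A r)

noncomputable abbrev qq (p : ℕ) : ℤ := (p : ℤ) - ((fsX A r).length : ℤ)

lemma qq_eq : qq A r (r + 1) = 0 := by
  simp [qq, fsX]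

noncomputable abbrev GG (p n : ℕ) : Type u := (koszulHPow (fsX A r) (MM A r) p n : Type u)

noncomputable abbrev ττ (p n m : ℕ) (h : n ≤ m) : GG A r p n →ₗ[SS A r] GG A r p m :=
  (HomologicalComplex.homologyMap (koszulTrans (MM A r) n m h (fsX A r)) (qq A r p)).hom

noncomputable abbrev LL (p : ℕ) : Type u := koszulHLim (fsX A r) (MM A r) p

noncomputable abbrev ofL (p n : ℕ) : GG A r p n →ₗ[SS A r] LL A r p :=
  Module.DirectLimit.of (SS A r) ℕ (GG A r p) (ττ A r p) n

instance dirSys (p : ℕ) : DirectedSystem (GG A r p) (fun n m h => ττ A r p n m h) where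
  map_self := by
    intro n x
    exact trans_self (MM A r) n (fsX A r) (qq A r p) x
  map_map := by
    intro k j i hij hjk x
    exact trans_trans (MM A r) i j k hij hjk (fsX A r) (qq A r p) x

lemma part1 (i : ℕ) (hi : i ≠ r + 1) : Subsingleton (LL A r i) := by
  have hreg : RingTheory.Sequence.IsWeaklyRegular (SS A r) (fsX A r) := by
    rw [Groth.Agent.Lib.helper26.Seg.isWeaklyRegular_ofFn_iff]
    intro j z hz
    rw [MvPolynomial.mem_ideal_span_X_image] at hz ⊢
    intro m hm
    have hm' : Finsupp.single j 1 + m ∈ ((X j : SS A r) * z).support := by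
      rw [MvPolynomial.mem_support_iff, MvPolynomial.coeff_X_mul]
      exact MvPolynomial.mem_support_iff.mp hm
    obtain ⟨k, hk, hne⟩ := hz _ hm'
    refine ⟨k, hk, ?_⟩
    have hkj : k ≠ j := ne_of_lt hk
    rw [Finsupp.add_apply, Finsupp.single_apply, if_neg (Ne.symm hkj), zero_add] at hne
    exact hne
  have hK : Groth.Agent.S9267.KReg (fsX A r) := fun e he =>
    Groth.Agent.S2423.homology_isZero (fsX A r) (SS A r) hreg e he
  have hne : qq A r i ≠ 0 := by
    have hlen : (fsX A r).length = r + 1 := List.length_ofFn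
    show (i : ℤ) - ((fsX A r).length : ℤ) ≠ 0
    rw [hlen]
    intro h
    apply hi
    have : (i : ℤ) = ((r + 1 : ℕ) : ℤ) := by linarith
    exact_mod_cast this
  suffices h0 : ∀ z : LL A r i, z = 0 from ⟨fun a b => by rw [h0 a, h0 b]⟩
  intro z
  obtain ⟨n, x, rfl⟩ := Module.DirectLimit.exists_of (R := SS A r) (ι := ℕ) (G := GG A r i)
    (f := ττ A r i) z
  have h1 : ofL A r i (n + 1) (ττ A r i n (n + 1) (Nat.le_succ n) x) = ofL A r i n x :=
    Module.DirectLimit.of_f
  have hz : IsZero ((Kn (MM A r) (n + 1) (fsX A r)).homology (qq A r i)) :=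
    Groth.Agent.S9267.kreg_pow hK (n + 1) (Nat.succ_le_succ (Nat.zero_le n)) _ hne
  have h2 : ττ A r i n (n + 1) (Nat.le_succ n) x = 0 :=
    (ModuleCat.subsingleton_of_isZero hz).elim _ _
  have h3 : ofL A r i n x = 0 := by
    rw [← h1, h2]
    exact map_zero _
  exact h3

noncomputable def piN (N : ℕ) : SS A r →ₗ[SS A r] GG A r (r + 1) N :=
  pi (MM A r) N (fsX A r) (qq A r (r + 1)) (qq_eq A r)

lemma fsX_prod : (fsX A r).prod = ∏ i : Fin (r + 1), (X i : SS A r) := List.prod_ofFn

lemma tau_piN (N N' : ℕ) (h : N ≤ N') (a : Fin (r + 1) →₀ ℕ) (c : A) :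
    ττ A r (r + 1) N N' h (piN A r N (monomial a c)) =
      piN A r N' (monomial (a + (N' - N) • eone) c) := by
  unfold piN
  rw [pi_trans]
  congr 1
  show (fsX A r).prod ^ (N' - N) * (monomial a c : SS A r) = _
  rw [fsX_prod, prodX_pow_mul]

lemma ofL_stage (N N' : ℕ) (h : N ≤ N') (c : Fin (r + 1) →₀ ℕ) (hc : ∀ i, c i < N) (a : A) :
    ofL A r (r + 1) N (piN A r N (monomial (expo N c) a)) =
      ofL A r (r + 1) N' (piN A r N' (monomial (expo N' c) a)) := by
  have h1 : ofL A r (r + 1) N' (ττ A r (r + 1) N N' h (piN A r N (monomial (expo N c) a))) =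
      ofL A r (r + 1) N (piN A r N (monomial (expo N c) a)) :=
    Module.DirectLimit.of_f
  rw [← h1, tau_piN, expo_add N (N' - N) c hc, Nat.add_sub_cancel' h]

/-- a bound for the exponents -/
noncomputable def Nc (c : Fin (r + 1) →₀ ℕ) : ℕ := Finset.univ.sup c + 1

lemma lt_Nc (c : Fin (r + 1) →₀ ℕ) (i : Fin (r + 1)) : c i < Nc r c :=
  Nat.lt_succ_of_le (Finset.le_sup (f := c) (Finset.mem_univ i))

/-- the `A`-module structure on the limit -/
@[reducible] noncomputable def modA : Module A (LL A r (r + 1)) :=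
  Module.compHom (LL A r (r + 1)) (algebraMap A (SS A r))

attribute [local instance] modA

/-- the basis vectors -/
noncomputable def vv (c : Fin (r + 1) →₀ ℕ) : LL A r (r + 1) :=
  ofL A r (r + 1) (Nc r c) (piN A r (Nc r c) (monomial (expo (Nc r c) c) 1))

lemma vv_eq (c : Fin (r + 1) →₀ ℕ) (N : ℕ) (hN : ∀ i, c i < N) :
    vv A r c = ofL A r (r + 1) N (piN A r N (monomial (expo N c) 1)) := by
  unfold vv
  rcases le_total N (Nc r c) with h | h
  · exact (ofL_stage A r N (Nc r c) h c hN 1).symm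
  · exact ofL_stage A r (Nc r c) N h c (lt_Nc r c) 1

lemma smul_vv (a : A) (z : LL A r (r + 1)) :
    a • z = (C a : SS A r) • z := rfl

lemma sum_eq (s : Finset (Fin (r + 1) →₀ ℕ)) (g : (Fin (r + 1) →₀ ℕ) → A) (K : ℕ)
    (hK : ∀ c ∈ s, ∀ i, c i < K) :
    (∑ c ∈ s, g c • vv A r c) =
      (ofL A r (r + 1) K (piN A r K (∑ c ∈ s, monomial (expo K c) (g c))) : LL A r (r + 1)) := by
  rw [map_sum, map_sum]
  refine Finset.sum_congr rfl (fun c hc => ?_)
  rw [vv_eq A r c K (hK c hc), smul_vv, ← map_smul, ← map_smul, smul_eq_mul, C_mul_monomial,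
    mul_one]

lemma li : LinearIndependent A (vv A r) := by
  refine linearIndependent_iff'.mpr ?_
  intro s g hsum c hc
  by_contra hne
  obtain ⟨N, hN⟩ : ∃ N, ∀ c ∈ s, ∀ i, c i < N :=
    ⟨s.sup (fun c => Nc r c), fun c hc i =>
      lt_of_lt_of_le (lt_Nc r c i) (Finset.le_sup (f := fun c => Nc r c) hc)⟩
  have h1 : ofL A r (r + 1) N (piN A r N (∑ c ∈ s, monomial (expo N c) (g c))) = 0 :=
    (sum_eq A r s g N hN).symm.trans hsum
  obtain ⟨N', hNN', h2⟩ := Module.DirectLimit.of.zero_exact h1
  have hN' : ∀ c ∈ s, ∀ i, c i < N' := fun c hc i => lt_of_lt_of_le (hN c hc i) hNN'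
  have h3 : piN A r N' (∑ c ∈ s, monomial (expo N' c) (g c)) = 0 := by
    have : ττ A r (r + 1) N N' hNN' (piN A r N (∑ c ∈ s, monomial (expo N c) (g c))) =
        piN A r N' (∑ c ∈ s, monomial (expo N' c) (g c)) := by
      simp only [map_sum]
      refine Finset.sum_congr rfl (fun c hc => ?_)
      rw [tau_piN, expo_add N (N' - N) c (hN c hc), Nat.add_sub_cancel' hNN']
    rw [← this]
    exact h2
  have h4 := (pi_eq_zero_iff (MM A r) N' (fsX A r) (qq A r (r + 1)) (qq_eq A r) _).mp h3
  rw [show fsX A r = (List.finRange (r + 1)).map X from List.ofFn_eq_map] at h4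
  have h5 : coeff (expo N' c) (∑ c' ∈ s, monomial (expo N' c') (g c') : SS A r) = g c := by
    rw [coeff_sum, Finset.sum_eq_single c]
    · rw [coeff_monomial, if_pos rfl]
    · intro c' hc' hcc'
      rw [coeff_monomial, if_neg]
      intro heq
      apply hcc'
      have := congrArg (expo N') heq
      rwa [expo_expo N' c' (hN' c' hc'), expo_expo N' c (hN' c hc)] at this
    · intro h
      exact absurd hc h
  obtain ⟨i, hi⟩ := support_of_mem_Jn N' _ _ h4 (expo N' c) (by
    rw [MvPolynomial.mem_support_iff, h5]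
    exact hne)
  have := expo_lt N' c (hN' c hc) i
  omega

lemma sp : ⊤ ≤ Submodule.span A (Set.range (vv A r)) := by
  intro z _
  obtain ⟨n, x, rfl⟩ := Module.DirectLimit.exists_of (R := SS A r) (ι := ℕ)
    (G := GG A r (r + 1)) (f := ττ A r (r + 1)) z
  obtain ⟨g, rfl⟩ := pi_surjective (MM A r) n (fsX A r) (qq A r (r + 1)) (qq_eq A r) x
  refine MvPolynomial.induction_on' (P := fun g => (ofL A r (r + 1) n (piN A r n g) :
    LL A r (r + 1)) ∈ Submodule.span A (Set.range (vv A r))) g ?_ ?_
  · intro u a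
    have h1 : (monomial u a : SS A r) = (C a : SS A r) • (monomial u 1 : SS A r) := by
      rw [smul_eq_mul, C_mul_monomial, mul_one]
    show (ofL A r (r + 1) n (piN A r n (monomial u a)) :
      LL A r (r + 1)) ∈ _
    rw [h1, map_smul, map_smul, ← smul_vv]
    apply Submodule.smul_mem
    by_cases hu : ∀ i, u i < n
    · apply Submodule.subset_span
      refine ⟨expo n u, ?_⟩
      rw [vv_eq A r (expo n u) n (expo_lt n u hu), expo_expo n u hu]
    · obtain ⟨i, hi⟩ := not_forall.mp hu
      have hi' : n ≤ u i := not_lt.mp hi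
      have h0 : piN A r n (monomial u 1) = 0 := by
        unfold piN
        rw [pi_eq_zero_iff, show fsX A r = (List.finRange (r + 1)).map X from List.ofFn_eq_map]
        exact monomial_mem_Jn n _ i (List.mem_finRange i) u 1 hi'
      rw [h0, map_zero]
      exact Submodule.zero_mem _
  · intro p q hp hq
    show (ofL A r (r + 1) n (piN A r n (p + q)) :
      LL A r (r + 1)) ∈ _
    rw [map_add, map_add]
    exact Submodule.add_mem _ hp hq

lemma freeA : @Module.Free A (LL A r (r + 1)) _ _ (modA A r) :=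
  Module.Free.of_basis (Module.Basis.mk (li A r) (sp A r))

end Main



open CategoryTheory CategoryTheory.Limits in
/-- Let A be a ring, S = A[T_0, …, T_r] the polynomial ring and T = (T_0, …, T_r). Then the direct-limit
Koszul cohomology H^i((T), S), the colimit over n of the Koszul cohomologies H^i(T^n, S), vanishes
for every i ≠ r + 1, and H^(r+1)((T), S) is a free A-module (the source gives an explicit basis
indexed by the monomials with all exponents positive). -/
theorem result (A : Type u) [CommRing A] (r : ℕ) :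
    (∀ i : ℕ, i ≠ r + 1 →
      Subsingleton (CohIII.koszulHLim (List.ofFn (fun j : Fin (r + 1) => (MvPolynomial.X j : MvPolynomial (Fin (r + 1)) A)))
        (ModuleCat.of (MvPolynomial (Fin (r + 1)) A) (MvPolynomial (Fin (r + 1)) A)) i)) ∧
    Module.Free A (RestrictScalars A (MvPolynomial (Fin (r + 1)) A)
      (CohIII.koszulHLim (List.ofFn (fun j : Fin (r + 1) => (MvPolynomial.X j : MvPolynomial (Fin (r + 1)) A)))
        (ModuleCat.of (MvPolynomial (Fin (r + 1)) A) (MvPolynomial (Fin (r + 1)) A)) (r + 1))) := by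
  refine ⟨fun i hi => part1 A r i hi, ?_⟩
  exact freeA A r

end Groth.Agent.S4475
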