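import Groth.Statements.S4478
import Groth.Agent.Lib.Helper8.FormalSupp
import Groth.Agent.Lib.Helper8.FormalProLim

set_option autoImplicit false
universe u
open Coherent

namespace Groth.Agent.S4478

open AlgebraicGeometry CategoryTheory in
/-- The comparison statement extended to modules with proper support, over an affine base. Let A be a
Noetherian ring, I an ideal of A, X a scheme of finite type over Spec A and F a coherent O_X-module
whose support is proper over Spec A. Then for every p the I-adic completion of H^p(X, F) is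
isomorphic, as an additive group, to the inverse limit of the groups H^p(X, F/I^(n+1)F). (The source
proves that the canonical map is a topological isomorphism; only the existence of an additive
isomorphism is asserted, as for the proper case.) -/
theorem result (A : Type u) [CommRing A] [IsNoetherianRing A] (I : Ideal A)
    (X : Scheme.{u}) [X.Over (Spec (CommRingCat.of A))]
    [LocallyOfFiniteType (X ↘ Spec (CommRingCat.of A))] [QuasiCompact (X ↘ Spec (CommRingCat.of A))]
    (F : X.Modules) (hF : Coh.IsCoh F)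
    (hs : ClSub.IsProperOver (X ↘ Spec (CommRingCat.of A)) (CohB1.support F)) (p : ℕ) :
    Nonempty (AdicCompletion I (Coh.HH X F p) ≃+ Formal.HHlim I F p) := by
  haveI : AlgebraicGeometry.IsNoetherian X :=
    Groth.Agent.Lib.helper8.FF.isNoetherian_of_finiteType A X
  have hsub : ∀ (𝔞 : Ideal A) (N : X.Modules),
      (Coh.IsCoh N ∧ CohB1.support N ⊆ CohB1.support F) →
      (Coh.IsCoh (Groth.Agent.Lib.helper8.FF.Sb 𝔞 N) ∧
        CohB1.support (Groth.Agent.Lib.helper8.FF.Sb 𝔞 N) ⊆ CohB1.support F) := by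
    rintro 𝔞 N ⟨hN, hNs⟩
    have hQ : Coh.IsCoh (Groth.Agent.Lib.helper8.FF.Q 𝔞 N) :=
      Groth.Agent.Lib.helper8.FF.isCoh_Q 𝔞 N hN
    have hS : Coh.IsCoh (Groth.Agent.Lib.helper8.FF.Sb 𝔞 N) :=
      Groth.Agent.Lib.helper7.CohKer.isCoh_kernel hN hQ _
    exact ⟨hS, (Groth.Agent.Lib.helper8.Dev.support_subset_of_mono
      (Groth.Agent.Lib.helper8.FF.sbι 𝔞 N) hS hN).trans hNs⟩
  have hquot : ∀ (𝔞 : Ideal A) (N : X.Modules),
      (Coh.IsCoh N ∧ CohB1.support N ⊆ CohB1.support F) →
      (Coh.IsCoh (Groth.Agent.Lib.helper8.FF.Q 𝔞 N) ∧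
        CohB1.support (Groth.Agent.Lib.helper8.FF.Q 𝔞 N) ⊆ CohB1.support F) := by
    rintro 𝔞 N ⟨hN, hNs⟩
    have hQ : Coh.IsCoh (Groth.Agent.Lib.helper8.FF.Q 𝔞 N) :=
      Groth.Agent.Lib.helper8.FF.isCoh_Q 𝔞 N hN
    exact ⟨hQ, (Groth.Agent.Lib.helper8.Dev.support_subset_of_epi
      (Groth.Agent.Lib.helper8.FF.qπ 𝔞 N) hN hQ).trans hNs⟩
  have hfin : ∀ N : X.Modules, (Coh.IsCoh N ∧ CohB1.support N ⊆ CohB1.support F) →
      Coh.IsCoh N → ∀ q : ℕ, Module.Finite A (Coh.HH X N q) := by
    rintro N ⟨hN, hNs⟩ - q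
    exact Groth.Agent.Lib.helper8.FF.finite_HH_of_proper_support A X (CohB1.support F) hs
      N hN hNs q
  exact Groth.Agent.Lib.helper8.FF.nonempty_adicCompletion_equiv_HHlim
    (fun N => Coh.IsCoh N ∧ CohB1.support N ⊆ CohB1.support F) hsub hquot hfin I F
    ⟨hF, subset_rfl⟩ hF p

end Groth.Agent.S4478
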