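import Groth.Statements.S4481
import Mathlib
import Groth.Agent.Lib.Helper8.CechQcqs

set_option autoImplicit false
universe u
open Coherent

namespace Groth.Agent.S4481


section helpers

open CategoryTheory CategoryTheory.Limits AlgebraicGeometry TopologicalSpace Opposite
open Groth.Agent.Lib.helper27 Groth.Agent.Lib.helper8.CechQcqs

theorem image_iInf {X : Scheme.{u}} (U₀ : X.Opens) {m : ℕ} (V : Fin (m + 1) → U₀.toScheme.Opens) :
    U₀.ι ''ᵁ (⨅ k, V k) = ⨅ k, U₀.ι ''ᵁ V k := by
  apply le_antisymm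
  · exact le_iInf fun k => U₀.ι.image_mono (iInf_le V k)
  · intro x hx
    have hx' : ∀ k, x ∈ U₀.ι ''ᵁ V k := by
      intro k
      have : x ∈ ((⨅ k, U₀.ι ''ᵁ V k : X.Opens) : Set X) := hx
      rw [Opens.coe_iInf] at this
      exact Set.mem_iInter.mp this k
    have hx0 : x ∈ U₀ := U₀.ι_image_le (V 0) (hx' 0)
    have h1 : ((⟨x, hx0⟩ : U₀) : X) ∈ U₀.ι ''ᵁ (⨅ k, V k) := by
      rw [Scheme.Opens.mem_ι_image_iff]
      show (⟨x, hx0⟩ : U₀) ∈ ((⨅ k, V k : U₀.toScheme.Opens) : Set U₀.toScheme)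
      rw [Opens.coe_iInf]
      refine Set.mem_iInter.mpr fun k => ?_
      have := hx' k
      have h2 : ((⟨x, hx0⟩ : U₀) : X) ∈ U₀.ι ''ᵁ V k := this
      rw [Scheme.Opens.mem_ι_image_iff] at h2
      exact h2
    exact h1

end helpers

open AlgebraicGeometry CategoryTheory Opposite in
/-- Let X be a separated scheme, f_1, …, f_n global functions on X such that every open X_{f_i} is
quasi-compact, U the union of the X_{f_i}, and suppose there are sections g_1, …, g_n of O_X over U
with Σ g_i · (f_i|_U) = 1. Then for every quasi-coherent O_X-module G and every p > 0 the Čech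
cohomology group of G in degree p with respect to the family of opens (X_{f_i}) is zero. (The
published statement also covers a scheme whose underlying space is Noetherian, not necessarily
separated; this row treats separated X.) -/
theorem result (X : Scheme.{u}) [X.IsSeparated] (n : ℕ)
    (f : Fin n → Γ(X, ⊤)) (hqc : ∀ i, IsCompact (X.basicOpen (f i) : Set X))
    (g : Fin n → Γ(X, ⨆ i, X.basicOpen (f i)))
    (hg : (Finset.univ.sum fun i => g i *
      (X.presheaf.map (homOfLE (le_top : (⨆ i, X.basicOpen (f i)) ≤ ⊤)).op).hom (f i)) = 1)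
    (G : X.Modules) [Coh.IsQCoh G] (p : ℕ) (hp : 0 < p) :
    Limits.IsZero (CohB1.cechH (fun i : ULift.{u} (Fin n) => X.basicOpen (f i.down)) G p) := by
  classical
  obtain ⟨q, rfl⟩ := Nat.exists_eq_succ_of_ne_zero hp.ne'
  -- the open `U₀` and the qcqs scheme `Y`
  set U₀ : X.Opens := ⨆ i, X.basicOpen (f i) with hU₀
  have hle : ∀ i, X.basicOpen (f i) ≤ U₀ := fun i => le_iSup (fun i => X.basicOpen (f i)) i
  have hcU₀ : IsCompact (U₀ : Set X) := by
    rw [hU₀, TopologicalSpace.Opens.coe_iSup]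
    exact isCompact_iUnion hqc
  haveI : CompactSpace U₀.toScheme := isCompact_iff_compactSpace.mp hcU₀
  haveI : QuasiSeparatedSpace U₀.toScheme := quasiSeparatedSpace_of_quasiSeparated U₀.ι
  let M : U₀.toScheme.Modules := G.restrict U₀.ι
  haveI : M.IsQuasicoherent := inferInstance
  -- the functions on `Y`
  let fr : Fin n → Γ(X, U₀) := fun i => (X.presheaf.map (homOfLE (le_top : U₀ ≤ ⊤)).op).hom (f i)
  let f' : ULift.{u} (Fin n) → Γ(U₀.toScheme, ⊤) := fun i => U₀.topIso.inv (fr i.down)
  have hspan : Ideal.span (Set.range f') = ⊤ := by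
    rw [Ideal.eq_top_iff_one]
    have h1 := congrArg U₀.topIso.inv.hom hg
    rw [map_sum, map_one] at h1
    rw [← h1]
    refine Ideal.sum_mem _ fun i _ => ?_
    rw [map_mul]
    exact Ideal.mul_mem_left _ _ (Ideal.subset_span ⟨⟨i⟩, rfl⟩)
  have h₂ := Groth.Agent.Lib.helper8.CechQcqs.exactAt_of_span_eq_top M f' hspan q
  -- comparison of the opens
  have hbo : ∀ i : ULift.{u} (Fin n),
      U₀.ι ''ᵁ U₀.toScheme.basicOpen (f' i) = X.basicOpen (f i.down) := by
    intro i
    rw [Scheme.Opens.ι_image_basicOpen_topIso_inv]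
    show X.basicOpen ((X.presheaf.map (homOfLE (le_top : U₀ ≤ ⊤)).op).hom (f i.down)) = _
    rw [Scheme.basicOpen_res]
    exact inf_eq_right.mpr (hle i.down)
  have hEq : ∀ (m : ℕ) (a : Fin (m + 1) → ULift.{u} (Fin n)),
      U₀.ι ''ᵁ (∏ᶜ ((fun i => U₀.toScheme.basicOpen (f' i)) ∘ a) : U₀.toScheme.Opens) =
        (∏ᶜ ((fun i : ULift.{u} (Fin n) => X.basicOpen (f i.down)) ∘ a) : X.Opens) := by
    intro m a
    rw [Groth.Agent.Lib.helper27.CechAffine.prod_eq_iInf, Groth.Agent.Lib.helper27.CechAffine.prod_eq_iInf, image_iInf]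
    exact iInf_congr fun k => hbo (a k)
  -- transfer
  have h₁ : ((cechComplexFunctor (fun i : ULift.{u} (Fin n) => X.basicOpen (f i.down))).obj
      G.presheaf).ExactAt (q + 1) := by
    refine Groth.Agent.Lib.helper8.CechQcqs.exactAt_transfer (fun i : ULift.{u} (Fin n) => X.basicOpen (f i.down))
      (fun i => U₀.toScheme.basicOpen (f' i)) G.presheaf M.presheaf
      (fun m a => G.presheaf.mapIso (eqToIso (hEq m a)).op) ?_ q h₂
    intro m b i
    change G.presheaf.map _ ≫ G.presheaf.map _ = G.presheaf.map _ ≫ G.presheaf.map _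
    rw [← Functor.map_comp, ← Functor.map_comp]
    congr 1
  exact (HomologicalComplex.exactAt_iff_isZero_homology _ _).mp h₁

end Groth.Agent.S4481
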