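import Groth.Statements.S4482
import Mathlib
import Groth.Agent.S0847
import Groth.Agent.Lib.Helper12.SerreGamma3
import Groth.Agent.Lib.Helper12.ProjGlobalFn
import Groth.Agent.Lib.Helper12.TildeFT3
import Groth.Agent.Lib.Helper28.TildeTwist
import Groth.Agent.Lib.Helper28.AdjoinCover
import Groth.Agent.Lib.Helper18.HHZero
-- import your own Groth.Agent.* helpers here

set_option autoImplicit false
universe u
open Coherent

namespace Groth.Agent.S4482

open AlgebraicGeometry CategoryTheory Opposite TopologicalSpace in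
/-- `α_n(a • m) = a • α_n(m)` for `a` in the base ring. -/
theorem globalOf_smul {A S : Type u} [CommRing A] [CommRing S] [Algebra A S]
    (𝒜 : ℕ → Submodule A S) [GradedAlgebra 𝒜]
    {M : Type u} [AddCommGroup M] [Module A M] [Module S M]
    [IsScalarTower A S M] (ℳ : ℕ → Submodule A M) [DirectSum.Decomposition ℳ]
    [SetLike.GradedSMul 𝒜 ℳ] (n : ℕ) (a : A) (m : ℳ n) :
    GrTilde.globalOf 𝒜 ℳ (a • m) =
      (Groth.Agent.Lib.helper12.ProjGlobalFn.gl 𝒜 a) • GrTilde.globalOf 𝒜 ℳ m := by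
  refine Subtype.ext (funext fun x => Subtype.ext ?_)
  have h2 : (((Groth.Agent.Lib.helper12.ProjGlobalFn.gl 𝒜 a) • GrTilde.globalOf 𝒜 ℳ m :
      GrTilde.sect 𝒜 ℳ (n : ℤ) (op ⊤)).1 x : GrTilde.LocMod 𝒜 (M := M) x.1) =
      ((Groth.Agent.Lib.helper12.ProjGlobalFn.gl 𝒜 a).1 x).val •
        ((GrTilde.globalOf 𝒜 ℳ m).1 x : GrTilde.LocMod 𝒜 (M := M) x.1) :=
    GrTilde.coe_smul_val (n : ℤ) x.1 _ _
  rw [h2, Groth.Agent.Lib.helper12.ProjGlobalFn.gl_val]
  change LocalizedModule.mk ((a • m : ℳ n) : M) _ = _ • LocalizedModule.mk (m : M) _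
  rw [LocalizedModule.mk_smul_mk, one_mul, Submodule.coe_smul, algebraMap_smul]

open AlgebraicGeometry CategoryTheory in
/-- Let A be an Artinian local ring, S a graded A-algebra with S_0 the image of A, generated by r+1
elements of degree one spanning S_1, M a finitely generated graded S-module (graded in nonnegative
degrees) and X = Proj S. Then there is N such that for every n ≥ N the Euler characteristic of the
module M(n)~, namely the alternating sum over 0 ≤ j ≤ r of the lengths of the A-modules H^j(X,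
M(n)~), equals the length of the A-module M_n. -/
theorem result {A S : Type u} [CommRing A] [IsArtinianRing A]
    [IsLocalRing A] [CommRing S] [Algebra A S] (𝒜 : ℕ → Submodule A S) [GradedAlgebra 𝒜]
    (h0 : ∀ s ∈ 𝒜 0, s ∈ Set.range (algebraMap A S)) (r : ℕ) (g : Fin (r + 1) → S)
    (hg1 : ∀ i, g i ∈ 𝒜 1) (hspan : Submodule.span A (Set.range g) = 𝒜 1)
    (hgen : Algebra.adjoin A (Set.range g) = ⊤) {M : Type u} [AddCommGroup M] [Module A M] [Module S M]
    [IsScalarTower A S M] [Module.Finite S M] (ℳ : ℕ → Submodule A M) [DirectSum.Decomposition ℳ]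
    [SetLike.GradedSMul 𝒜 ℳ] :
    ∃ N : ℕ, ∀ n : ℕ, N ≤ n →
      ((Finset.range (r + 1)).sum fun j => (-1 : ℤ) ^ j *
          ((Module.length A (Coh.HH (Proj 𝒜) (GrTilde.tilde 𝒜 ℳ (n : ℤ)) j)).toNat : ℤ)) =
        ((Module.length A ↥(ℳ n)).toNat : ℤ) := by
  classical
  have hN : IsNoetherianRing S := by
    have hft : Algebra.FiniteType A S := ⟨⟨Finset.univ.image g, by
      rw [Finset.coe_image, Finset.coe_univ, Set.image_univ]; exact hgen⟩⟩
    exact Algebra.FiniteType.isNoetherianRing A S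
  have hNM : IsNoetherian S M := isNoetherian_of_isNoetherianRing_of_finite S M
  have hTF : ∃ k : ℕ, (Submodule.span S (⋃ i ∈ Set.Ici k, (ℳ i : Set M))).FG :=
    ⟨0, IsNoetherian.noetherian _⟩
  have hfg : (HomogeneousIdeal.irrelevant 𝒜).toIdeal.FG :=
    (isNoetherianRing_iff_ideal_fg S).mp inferInstance _
  obtain ⟨N₁, hbij⟩ := Groth.Agent.Lib.helper12.SerreGamma.alpha_bijective_eventually 𝒜 ℳ hTF
  have hcov : ∀ x : ProjectiveSpectrum 𝒜, ∃ f ∈ 𝒜 1, f ∉ x.asHomogeneousIdeal := fun x => by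
    obtain ⟨i, hi⟩ := Groth.Agent.Lib.helper28.AdjoinCover.exists_notMem_of_adjoin 𝒜 g
      (fun _ => 1) (fun _ => Nat.one_pos) hg1 hgen x
    exact ⟨g i, hg1 i, hi⟩
  have hcoh : Coh.IsCoh (GrTilde.tilde 𝒜 ℳ 0) :=
    ⟨Groth.Agent.Lib.helper28.TildeQCoh.tilde_isQuasicoherent 𝒜 ℳ 0,
      Groth.Agent.Lib.helper12.TildeFT.isFT_tilde_of_TF 𝒜 ℳ hfg hTF⟩
  have hvan : ∀ p : ℕ, 0 < p → ∃ d₀ : ℕ, ∀ n : ℕ, d₀ ≤ n →
      Subsingleton (Coh.HH (Proj 𝒜) (GrTilde.tilde 𝒜 ℳ (n : ℤ)) p) := by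
    intro p hp
    obtain ⟨d₀, hd₀⟩ := Groth.Agent.S0847.result 𝒜 (GrTilde.tilde 𝒜 ℳ 0) hcoh p hp
    refine ⟨d₀.toNat, fun n hn => ?_⟩
    have h1 := hd₀ (n : ℤ) (by omega)
    have e1 : (n : ℤ) * ((1 : ℕ) : ℤ) = n := by simp
    have φ := Groth.Agent.Lib.helper28.TildeTwist.tildeTwistIso 𝒜 ℳ Nat.one_pos hcov 0 (n : ℤ)
    rw [e1, zero_add] at φ
    exact @Equiv.subsingleton _ _
      (((Groth.Agent.Lib.Helper18.HH.functor (Proj 𝒜) p).mapIso φ).toLinearEquiv).symm.toEquiv h1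
  choose! d₀ hd₀ using hvan
  refine ⟨max N₁ ((Finset.range (r + 2)).sup d₀), fun n hn => ?_⟩
  rw [Finset.sum_range_succ', Finset.sum_eq_zero]
  · -- the `H⁰` term
    rw [pow_zero, one_mul, zero_add]
    letI := Groth.Agent.Lib.Helper18.HH.sectionsModuleOver (X := Proj 𝒜) A (GrTilde.tilde 𝒜 ℳ (n : ℤ))
    have hb := hbij n (le_trans (le_max_left _ _) hn)
    let αl : ℳ n →ₗ[A] (GrTilde.tilde 𝒜 ℳ (n : ℤ)).val.obj (Opposite.op ⊤) :=
      { toFun := fun m => GrTilde.globalOf 𝒜 ℳ m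
        map_add' := fun m m' => (GrMod.alpha 𝒜 ℳ n).map_add m m'
        map_smul' := fun a m => globalOf_smul 𝒜 ℳ n a m }
    have e : Coh.HH (Proj 𝒜) (GrTilde.tilde 𝒜 ℳ (n : ℤ)) 0 ≃ₗ[A] ℳ n :=
      (Groth.Agent.Lib.Helper18.HH.equiv₀Over A (GrTilde.tilde 𝒜 ℳ (n : ℤ))).trans
        (LinearEquiv.ofBijective αl hb).symm
    rw [e.length_eq]
  · intro j hj
    have hjr : j + 1 ∈ Finset.range (r + 2) := by
      rw [Finset.mem_range] at hj ⊢; omega
    have hs : Subsingleton (Coh.HH (Proj 𝒜) (GrTilde.tilde 𝒜 ℳ (n : ℤ)) (j + 1)) :=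
      hd₀ (j + 1) (Nat.succ_pos j) n
        (le_trans (Finset.le_sup hjr) (le_trans (le_max_right _ _) hn))
    rw [Module.length_eq_zero]
    simp

end Groth.Agent.S4482
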