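import Groth.Statements.S4484
import Groth.Agent.Lib.Helper8.SteinCount
import Groth.Agent.Lib.Helper8.SteinCount2

set_option autoImplicit false
universe u
open Coherent

namespace Groth.Agent.S4484

open AlgebraicGeometry CategoryTheory in
/-- Let X and Y be locally Noetherian integral schemes and f : X → Y a proper dominant morphism; regard
the function field R(X) as an extension of R(Y) through f. Suppose that the algebraic closure of
R(Y) in R(X) has finite separable degree n over R(Y). Then for every point y of Y whose local ring
is unibranch, the fibre X_y has finitely many, and at most n, connected components. -/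
theorem result {X Y : Scheme.{u}} [IsIntegral X]
    [IsIntegral Y] [IsLocallyNoetherian X] [IsLocallyNoetherian Y] (f : X ⟶ Y) [IsProper f]
    (hdom : f.base (genericPoint X) ⤳ genericPoint Y) [Algebra Y.functionField X.functionField]
    (halg : algebraMap Y.functionField X.functionField = CohIII.stalkToFunctionField f (genericPoint Y) hdom)
    (n : ℕ) (hn0 : 0 < n)
    (hn : Field.finSepDegree Y.functionField ↥(algebraicClosure Y.functionField X.functionField) = n)
    (y : Y) (hy : CAlg2.IsUnibranch (Y.presheaf.stalk y)) :
    Finite (_root_.ConnectedComponents ↥(f.fiber y)) ∧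
      Nat.card (_root_.ConnectedComponents ↥(f.fiber y)) ≤ n := by
  have h : f.base (genericPoint X) ⤳ y :=
    hdom.trans ((genericPoint_spec Y).specializes trivial)
  letI algAL : Algebra (Y.presheaf.stalk y) X.functionField :=
    (CohIII.stalkToFunctionField f y h).toAlgebra
  haveI : IsScalarTower (Y.presheaf.stalk y) Y.functionField X.functionField :=
    IsScalarTower.of_algebraMap_eq (fun a => by
      rw [halg]
      exact (Groth.Agent.Lib.helper8.SteinCount.stalkToFunctionField_algebraMap f hdom y h a).symm)
  have hloc : IsLocalRing (integralClosure (Y.presheaf.stalk y) Y.functionField) :=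
    Groth.Agent.Lib.helper8.SteinCount.isLocalRing_integralClosure_of_normRed hy.2
  obtain ⟨hfin, hle⟩ := Groth.Agent.Lib.helper8.SteinCount.card_maximalSpectrum_le'
    (A := Y.presheaf.stalk y) (L := X.functionField) Y.functionField hloc n hn0 hn
  have hcard := Groth.Agent.Lib.helper8.SteinCount.card_connectedComponents_le f y h
  obtain ⟨ι⟩ := (Cardinal.le_def _ _).mp hcard
  exact ⟨Finite.of_injective ι ι.injective,
    (Nat.card_le_card_of_injective ι ι.injective).trans hle⟩

end Groth.Agent.S4484
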