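import Groth.Statements.S4491
import Groth.Agent.S2406

set_option autoImplicit false
universe u
open FlatCx

namespace Groth.Agent.S4491

open CategoryTheory CategoryTheory.Limits MonoidalCategory in
theorem TFun_map_smul {A : Type u} [CommRing A] {ι : Type} {c : ComplexShape ι}
    (P : HomologicalComplex (ModuleCat.{u} A) c) (q : ι) (M : ModuleCat.{u} A) (f : A) :
    (CohIII.TFun P q).map (f • 𝟙 M) = f • 𝟙 _ := by
  show HomologicalComplex.homologyMap (CohIII.tensorMap P (f • 𝟙 M)) q = _
  have h1 : CohIII.tensorMap P (f • 𝟙 M) = f • 𝟙 _ := by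
    ext k : 1
    simp only [CohIII.tensorMap, NatTrans.mapHomologicalComplex_app_f,
      HomologicalComplex.smul_f_apply, HomologicalComplex.id_f]
    show (P.X k ◁ (f • 𝟙 M)) = f • 𝟙 _
    rw [MonoidalLinear.whiskerLeft_smul, MonoidalCategory.whiskerLeft_id]
    rfl
  rw [h1]
  show ShortComplex.homologyMap ((HomologicalComplex.shortComplexFunctor _ c q).map (f • 𝟙 _)) = _
  have h2 : (HomologicalComplex.shortComplexFunctor (ModuleCat.{u} A) c q).map
      (f • 𝟙 (CohIII.tensorObj P M)) = f • 𝟙 _ := by
    ext <;> rfl
  rw [h2, ShortComplex.homologyMap_smul, ShortComplex.homologyMap_id]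
  rfl

open CategoryTheory CategoryTheory.Limits in
/-- For the homological functor T_i(M) = H_i(P ⊗_A M) of a chain complex P of flat modules over a
commutative ring A. Let q + 1 = p and suppose T_p takes surjections to surjections. If
multiplication by f ∈ A is injective on an A-module M, then multiplication by f is injective on
T_q(M). In particular, when A is a domain, T_q(A) is torsion-free. -/
theorem result {A : Type u} [CommRing A]
    (P : ChainComplex (ModuleCat.{u} A) ℤ) (hP : ∀ i, Module.Flat A (P.X i)) (p q : ℤ) (hpq : q + 1 = p)
    (hex : (CohIII.TFun P p).PreservesEpimorphisms) :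
    (∀ (M : ModuleCat.{u} A) (f : A), Function.Injective (fun x : M => f • x) →
        Function.Injective (fun y : CohIII.T P q M => f • y)) ∧
      (IsDomain A → NoZeroSMulDivisors A (CohIII.T P q (ModuleCat.of A A))) := by
  have hmono : (CohIII.TFun P q).PreservesMonomorphisms :=
    (Groth.Agent.S2406.result P hP p q hpq).mp hex
  have key : ∀ (M : ModuleCat.{u} A) (f : A), Function.Injective (fun x : M => f • x) →
      Function.Injective (fun y : CohIII.T P q M => f • y) := by
    intro M f hf
    have h1 : Mono (f • 𝟙 M) := by
      rw [ModuleCat.mono_iff_injective]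
      exact hf
    have h2 : Mono ((CohIII.TFun P q).map (f • 𝟙 M)) := hmono.preserves _
    rw [TFun_map_smul, ModuleCat.mono_iff_injective] at h2
    exact h2
  refine ⟨key, ?_⟩
  intro hdom
  constructor
  intro a y hay
  by_cases ha : a = 0
  · exact Or.inl ha
  · right
    have hinj : Function.Injective (fun x : (ModuleCat.of A A) => a • x) := by
      intro x x' hxx
      exact mul_left_cancel₀ ha hxx
    have := key (ModuleCat.of A A) a hinj
    apply this
    show a • y = a • 0
    rw [hay, smul_zero]

end Groth.Agent.S4491
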