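import Groth.Statements.S4507
import Mathlib


set_option autoImplicit false
universe u
open FlatCx

namespace Groth.Agent.S4507

set_option linter.style.haveILetI false
open CategoryTheory CategoryTheory.Limits

variable {A : Type u} [CommRing A]

/-- index category -/
structure SCat (S : Submonoid A) : Type u where
  val : S

namespace SCat
variable {S : Submonoid A}

instance : Category.{u} (SCat S) where
  Hom s s' := {t : S // s.val * t = s'.val}
  id s := ⟨1, mul_one _⟩
  comp f g := ⟨f.1 * g.1, by rw [← mul_assoc, f.2, g.2]⟩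
  id_comp f := Subtype.ext (one_mul _)
  comp_id f := Subtype.ext (mul_one _)
  assoc f g h := Subtype.ext (mul_assoc _ _ _)

instance : IsFiltered (SCat S) where
  cocone_objs s s' := ⟨⟨s.val * s'.val⟩, ⟨s'.val, rfl⟩, ⟨s.val, mul_comm _ _⟩, trivial⟩
  cocone_maps s s' f g := ⟨⟨s'.val * s.val⟩, ⟨s.val, rfl⟩, Subtype.ext (by
     change f.1 * s.val = g.1 * s.val
     rw [mul_comm, f.2, mul_comm, g.2])⟩
  nonempty := ⟨⟨1⟩⟩

end SCat

variable (S : Submonoid A) (M : ModuleCat.{u} A)

/-- the diagram -/
noncomputable def D : SCat S ⥤ ModuleCat.{u} A where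
  obj _ := M
  map f := ModuleCat.ofHom (((f.1 : S) : A) • (LinearMap.id : M →ₗ[A] M))
  map_id s := by
    ext x
    change ((1 : S) : A) • x = x
    simp
  map_comp f g := by
    ext x
    change ((f.1 * g.1 : S) : A) • x = (g.1 : A) • ((f.1 : A) • x)
    rw [Submonoid.coe_mul, mul_comm, mul_smul]

/-- the maps to the localization -/
noncomputable def ιs (s : S) : M →ₗ[A] LocalizedModule S M :=
  (LocalizedModule.divBy s) ∘ₗ (LocalizedModule.mkLinearMap S M)

lemma ιs_apply (s : S) (m : M) : ιs S M s m = LocalizedModule.mk m s := by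
  change LocalizedModule.divBy s (LocalizedModule.mk m 1) = _
  rw [LocalizedModule.divBy_apply, LocalizedModule.liftOn_mk, one_mul]

lemma mk_smul_eq (a b t : S) (m : M) (h : a * t = b) :
    LocalizedModule.mk (((t : S) : A) • m) b = LocalizedModule.mk m a := by
  subst h
  rw [LocalizedModule.mk_eq]
  refine ⟨1, ?_⟩
  rw [one_smul, one_smul, mul_smul]
  rfl

/-- the cocone -/
noncomputable def c : Cocone (D S M) where
  pt := ModuleCat.of A (LocalizedModule S M)
  ι :=
    { app := fun s => ModuleCat.ofHom (ιs S M s.val)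
      naturality := by
        intro s s' f
        ext m
        change ιs S M s'.val (((f.1 : S) : A) • m) = ιs S M s.val m
        rw [ιs_apply, ιs_apply]
        exact mk_smul_eq S M s.val s'.val f.1 m f.2 }

/-- the cocone is a colimit -/
noncomputable def hc : IsColimit (c S M) := by
  apply isColimitOfReflects (forget (ModuleCat.{u} A))
  apply Types.FilteredColimit.isColimitOf
  · intro x
    induction x using LocalizedModule.induction_on with
    | h m s =>
      refine ⟨⟨s⟩, m, ?_⟩
      exact (ιs_apply S M s m).symm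
  · intro i j xi xj h
    let yi : (M : Type u) := xi
    let yj : (M : Type u) := xj
    have h' : (LocalizedModule.mk yi i.val : LocalizedModule S M) = LocalizedModule.mk yj j.val := by
      rw [← ιs_apply, ← ιs_apply]
      exact h
    rw [LocalizedModule.mk_eq] at h'
    obtain ⟨u, hu⟩ := h'
    refine ⟨⟨i.val * j.val * u⟩, ⟨j.val * u, by rw [mul_assoc]⟩,
      ⟨i.val * u, by rw [← mul_assoc, mul_comm j.val i.val]⟩, ?_⟩
    change (((j.val * u : S) : A)) • yi = (((i.val * u : S) : A)) • yj
    have h1 : (((j.val * u : S) : A)) • yi = u • j.val • yi := by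
      rw [mul_comm, Submonoid.coe_mul, mul_smul]; rfl
    have h2 : (((i.val * u : S) : A)) • yj = u • i.val • yj := by
      rw [mul_comm, Submonoid.coe_mul, mul_smul]; rfl
    rw [h1, h2, hu]

theorem main (T : ModuleCat.{u} A ⥤ ModuleCat.{u} A) [T.Additive] [T.Linear A]
    (hT : ∀ (J : Type u) [SmallCategory J] [IsFiltered J], PreservesColimitsOfShape J T)
    (S : Submonoid A) (M : ModuleCat.{u} A) :
    IsLocalizedModule S (T.map (ModuleCat.ofHom (LocalizedModule.mkLinearMap S M) :
      M ⟶ ModuleCat.of A (LocalizedModule S M))).hom := by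
  haveI := hT (SCat S)
  have hTc : IsColimit (T.mapCocone (c S M)) := isColimitOfPreserves T (hc S M)
  have hsm : ∀ (a : A) (N : ModuleCat.{u} A), T.map (a • 𝟙 N) = a • 𝟙 (T.obj N) := by
    intro a N
    rw [T.map_smul, T.map_id]
  have hmap : ∀ {s s' : SCat S} (f : s ⟶ s') (x : T.obj M),
      (T.map ((D S M).map f)).hom x = ((f.1 : S) : A) • x := by
    intro s s' f x
    exact congrArg (fun φ : T.obj M ⟶ T.obj M => φ.hom x) (hsm ((f.1 : S) : A) M)
  have hι1 : ιs S M 1 = LocalizedModule.mkLinearMap S M := by
    ext m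
    exact ιs_apply S M 1 m
  have hιs : ∀ s : S, ((s : A)) • (ModuleCat.ofHom (ιs S M s) :
      M ⟶ ModuleCat.of A (LocalizedModule S M)) =
      ModuleCat.ofHom (LocalizedModule.mkLinearMap S M) := by
    intro s
    ext m
    change (s : A) • ιs S M s m = LocalizedModule.mkLinearMap S M m
    rw [← hι1, ιs_apply, ιs_apply]
    have : (s : A) • (LocalizedModule.mk m s : LocalizedModule S M) =
        LocalizedModule.mk ((s : A) • m) s := (LocalizedModule.smul'_mk (s : A) m s)
    rw [this]
    exact LocalizedModule.mk_cancel s m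
  have hTιs : ∀ (s : S) (x : T.obj M), (s : A) • (T.map (ModuleCat.ofHom (ιs S M s) :
      M ⟶ ModuleCat.of A (LocalizedModule S M))).hom x =
      (T.map (ModuleCat.ofHom (LocalizedModule.mkLinearMap S M))).hom x := by
    intro s x
    rw [← hιs s, T.map_smul]
    rfl
  refine ⟨?_, ?_, ?_⟩
  · -- map_units
    intro s
    obtain ⟨w, hw⟩ := IsLocalizedModule.map_units (LocalizedModule.mkLinearMap S M) s
    rw [Module.End.isUnit_iff]
    let f : ModuleCat.of A (LocalizedModule S M) ⟶ ModuleCat.of A (LocalizedModule S M) :=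
      ModuleCat.ofHom w.val
    let g : ModuleCat.of A (LocalizedModule S M) ⟶ ModuleCat.of A (LocalizedModule S M) :=
      ModuleCat.ofHom w.inv
    have hfg : f ≫ g = 𝟙 _ := by
      ext x
      change (w.inv * w.val) x = x
      rw [w.inv_val]; rfl
    have hgf : g ≫ f = 𝟙 _ := by
      ext x
      change (w.val * w.inv) x = x
      rw [w.val_inv]; rfl
    have hf : f = (s : A) • 𝟙 _ := by
      ext x
      change w.val x = _
      rw [hw]
      rfl
    have hTf : T.map f = (s : A) • 𝟙 _ := by rw [hf, T.map_smul, T.map_id]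
    have hb : Function.Bijective (T.map f).hom := by
      rw [Function.bijective_iff_has_inverse]
      refine ⟨(T.map g).hom, fun x => ?_, fun x => ?_⟩
      · change (T.map f ≫ T.map g).hom x = x
        rw [← T.map_comp, hfg, T.map_id]; rfl
      · change (T.map g ≫ T.map f).hom x = x
        rw [← T.map_comp, hgf, T.map_id]; rfl
    rw [hTf] at hb
    exact hb
  · -- surj
    intro y
    obtain ⟨j, x, hx⟩ := Concrete.isColimit_exists_rep (D S M ⋙ T) hTc y
    refine ⟨(x, j.val), ?_⟩
    rw [← hx]
    exact hTιs j.val x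
  · -- exists_of_eq
    intro x₁ x₂ h
    have h' : (T.map ((c S M).ι.app ⟨1⟩)).hom x₁ = (T.map ((c S M).ι.app ⟨1⟩)).hom x₂ := by
      change (T.map (ModuleCat.ofHom (ιs S M 1))).hom x₁ = (T.map (ModuleCat.ofHom (ιs S M 1))).hom x₂
      rw [hι1]
      exact h
    obtain ⟨k, f, g, hfg⟩ := Concrete.isColimit_exists_of_rep_eq (D S M ⋙ T) hTc
      (i := ⟨1⟩) (j := ⟨1⟩) x₁ x₂ h'
    have hf : f.1 = g.1 := by
      have h1 := f.2
      have h2 := g.2
      change (1 : S) * f.1 = k.val at h1
      change (1 : S) * g.1 = k.val at h2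
      rw [one_mul] at h1 h2
      rw [h1, h2]
    refine ⟨f.1, ?_⟩
    have e1 := hmap f x₁
    have e2 := hmap g x₂
    change (T.map ((D S M).map f)).hom x₁ = (T.map ((D S M).map g)).hom x₂ at hfg
    rw [e1, e2, ← hf] at hfg
    exact hfg



open CategoryTheory CategoryTheory.Limits in
/-- The isomorphism T(S⁻¹M) ≅ S⁻¹T(M). Let A be a commutative ring, T an additive A-linear endofunctor
of the category of A-modules which preserves filtered colimits, S a multiplicative subset of A and M
an A-module. Then the A-linear map T(M) → T(S⁻¹M), image under T of the localization map M → S⁻¹M,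
is a localization of T(M) at S (so T(S⁻¹M) is canonically S⁻¹T(M), as an S⁻¹A-module). -/
theorem result {A : Type u} [CommRing A]
    (T : ModuleCat.{u} A ⥤ ModuleCat.{u} A) [T.Additive] [T.Linear A]
    (hT : ∀ (J : Type u) [SmallCategory J] [IsFiltered J], PreservesColimitsOfShape J T)
    (S : Submonoid A) (M : ModuleCat.{u} A) :
    IsLocalizedModule S (T.map (ModuleCat.ofHom (LocalizedModule.mkLinearMap S M) :
      M ⟶ ModuleCat.of A (LocalizedModule S M))).hom := by
  exact main T hT S M

end Groth.Agent.S4507
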