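import Groth.Statements.S4493
import Mathlib
import Groth.Agent.S4507

set_option autoImplicit false
universe u
open FlatCx

namespace Groth.Agent.S4493

set_option linter.style.haveILetI false
open CategoryTheory CategoryTheory.Limits

variable {A : Type u} [CommRing A] (T : ModuleCat.{u} A ⥤ ModuleCat.{u} A) [T.Additive] [T.Linear A]
    (hT : ∀ (J : Type u) [SmallCategory J] [IsFiltered J], PreservesColimitsOfShape J T)

include hT in
/-- `T` preserves localization maps. -/
theorem isLocalizedModule_map (S : Submonoid A) {M N : ModuleCat.{u} A} (f : M ⟶ N)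
    [IsLocalizedModule S f.hom] : IsLocalizedModule S (T.map f).hom := by
  let e : LocalizedModule S M ≃ₗ[A] N := IsLocalizedModule.iso S f.hom
  let E : ModuleCat.of A (LocalizedModule S M) ≅ N := e.toModuleIso
  have hf : f = ModuleCat.ofHom (LocalizedModule.mkLinearMap S M) ≫ E.hom := by
    ext x
    change f.hom x = e (LocalizedModule.mk x 1)
    rw [IsLocalizedModule.iso_apply_mk]
    simp
  have h0 := Groth.Agent.S4507.result T hT S M
  have h1 : (T.map f).hom = ((T.mapIso E).toLinearEquiv : _ ≃ₗ[A] _).toLinearMap ∘ₗ
      (T.map (ModuleCat.ofHom (LocalizedModule.mkLinearMap S M))).hom := by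
    rw [hf, T.map_comp]
    rfl
  rw [h1]
  exact IsLocalizedModule.of_linearEquiv S _ _

section loc
variable (m : Ideal A) [m.IsMaximal]

/-- restriction of scalars -/
noncomputable abbrev ρ : ModuleCat.{u} (Localization.AtPrime m) ⥤ ModuleCat.{u} A :=
  ModuleCat.restrictScalars (algebraMap A (Localization.AtPrime m))

/-- localized module as a module over the local ring -/
noncomputable abbrev locObj (M : ModuleCat.{u} A) : ModuleCat.{u} (Localization.AtPrime m) :=
  ModuleCat.of (Localization.AtPrime m) (LocalizedModule m.primeCompl M)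

/-- localized map -/
noncomputable def locMap {M N : ModuleCat.{u} A} (φ : M ⟶ N) : locObj m M ⟶ locObj m N :=
  ModuleCat.ofHom (LocalizedModule.map m.primeCompl φ.hom)

/-- the localized module, as an `A`-module by restriction of scalars -/
noncomputable def Mρ (M : ModuleCat.{u} A) : ModuleCat.{u} A := (ρ m).obj (locObj m M)

/-- the identity equivalence between the two `A`-module structures -/
noncomputable def idEquiv (M : ModuleCat.{u} A) :
    LocalizedModule m.primeCompl M ≃ₗ[A] Mρ m M where
  toFun x := x
  invFun x := x
  left_inv _ := rfl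
  right_inv _ := rfl
  map_add' _ _ := rfl
  map_smul' a x := by
    change (a • x : LocalizedModule m.primeCompl M) =
      (algebraMap A (Localization.AtPrime m) a • x : LocalizedModule m.primeCompl M)
    rw [algebraMap_smul]

/-- the canonical map `M → M_m` -/
noncomputable def toLoc (M : ModuleCat.{u} A) : M ⟶ Mρ m M :=
  ModuleCat.ofHom (X := M) (Y := Mρ m M)
    ((idEquiv m M).toLinearMap ∘ₗ LocalizedModule.mkLinearMap m.primeCompl M)

instance (M : ModuleCat.{u} A) : IsLocalizedModule m.primeCompl (toLoc m M).hom := by
  change IsLocalizedModule m.primeCompl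
    ((idEquiv m M).toLinearMap ∘ₗ LocalizedModule.mkLinearMap m.primeCompl M)
  exact IsLocalizedModule.of_linearEquiv _ _ _

/-- localized map, over `A` -/
noncomputable def locMapρ {M N : ModuleCat.{u} A} (φ : M ⟶ N) : Mρ m M ⟶ Mρ m N :=
  (ρ m).map (locMap m φ)

lemma toLoc_naturality {M N : ModuleCat.{u} A} (φ : M ⟶ N) :
    toLoc m M ≫ locMapρ m φ = φ ≫ toLoc m N := by
  ext x
  change LocalizedModule.map m.primeCompl φ.hom (LocalizedModule.mk x 1) =
    LocalizedModule.mk (φ.hom x) 1
  rw [LocalizedModule.map_mk]

end loc

section main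
include hT

theorem instLocT (m : Ideal A) [m.IsMaximal] (X : ModuleCat.{u} A) :
    IsLocalizedModule m.primeCompl (T.map (toLoc m X)).hom :=
  isLocalizedModule_map T hT m.primeCompl (toLoc m X)

theorem map_eq (m : Ideal A) [m.IsMaximal] {M N : ModuleCat.{u} A} (φ : M ⟶ N) :
    haveI := instLocT T hT m M
    haveI := instLocT T hT m N
    IsLocalizedModule.map m.primeCompl (T.map (toLoc m M)).hom (T.map (toLoc m N)).hom
      (T.map φ).hom = (T.map (locMapρ m φ)).hom := by
  haveI := instLocT T hT m M
  haveI := instLocT T hT m N
  apply IsLocalizedModule.linearMap_ext m.primeCompl (T.map (toLoc m M)).hom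
    (T.map (toLoc m N)).hom
  rw [IsLocalizedModule.map_comp]
  have := congrArg ModuleCat.Hom.hom (congrArg T.map (toLoc_naturality m φ))
  rw [T.map_comp, T.map_comp, ModuleCat.hom_comp, ModuleCat.hom_comp] at this
  exact this.symm

theorem exact_of_loc {M N L : ModuleCat.{u} A} (F : M ⟶ N) (G : N ⟶ L)
    (H : ∀ (m : Ideal A) [m.IsMaximal],
      Function.Exact (T.map (locMapρ m F)).hom (T.map (locMapρ m G)).hom) :
    Function.Exact (T.map F).hom (T.map G).hom := by
  haveI : ∀ (m : Ideal A) [m.IsMaximal] (X : ModuleCat.{u} A),
      IsLocalizedModule m.primeCompl (T.map (toLoc m X)).hom := fun m _ X => instLocT T hT m X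
  refine exact_of_isLocalized_maximal (fun P _ => T.obj (Mρ P M))
    (fun P _ => (T.map (toLoc P M)).hom) (fun P _ => T.obj (Mρ P N))
    (fun P _ => (T.map (toLoc P N)).hom) (fun P _ => T.obj (Mρ P L))
    (fun P _ => (T.map (toLoc P L)).hom) (T.map F).hom (T.map G).hom ?_
  intro J hJ
  have h1 := map_eq T hT J F
  have h2 := map_eq T hT J G
  rw [h1, h2]
  exact H J

theorem injective_of_loc {M N : ModuleCat.{u} A} (F : M ⟶ N)
    (H : ∀ (m : Ideal A) [m.IsMaximal], Function.Injective (T.map (locMapρ m F)).hom) :
    Function.Injective (T.map F).hom := by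
  haveI : ∀ (m : Ideal A) [m.IsMaximal] (X : ModuleCat.{u} A),
      IsLocalizedModule m.primeCompl (T.map (toLoc m X)).hom := fun m _ X => instLocT T hT m X
  refine injective_of_isLocalized_maximal (fun P _ => T.obj (Mρ P M))
    (fun P _ => (T.map (toLoc P M)).hom) (fun P _ => T.obj (Mρ P N))
    (fun P _ => (T.map (toLoc P N)).hom) (T.map F).hom ?_
  intro J hJ
  have h1 := map_eq T hT J F
  rw [h1]
  exact H J

theorem surjective_of_loc {M N : ModuleCat.{u} A} (F : M ⟶ N)
    (H : ∀ (m : Ideal A) [m.IsMaximal], Function.Surjective (T.map (locMapρ m F)).hom) :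
    Function.Surjective (T.map F).hom := by
  haveI : ∀ (m : Ideal A) [m.IsMaximal] (X : ModuleCat.{u} A),
      IsLocalizedModule m.primeCompl (T.map (toLoc m X)).hom := fun m _ X => instLocT T hT m X
  refine surjective_of_isLocalized_maximal (fun P _ => T.obj (Mρ P M))
    (fun P _ => (T.map (toLoc P M)).hom) (fun P _ => T.obj (Mρ P N))
    (fun P _ => (T.map (toLoc P N)).hom) (T.map F).hom ?_
  intro J hJ
  have h1 := map_eq T hT J F
  rw [h1]
  exact H J

end main

section locSC
variable (m : Ideal A) [m.IsMaximal]

lemma locMap_exact {M N L : ModuleCat.{u} A} (F : M ⟶ N) (G : N ⟶ L)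
    (h : Function.Exact F.hom G.hom) :
    Function.Exact (locMap m F).hom (locMap m G).hom := by
  have := LocalizedModule.map_exact m.primeCompl F.hom G.hom h
  exact this

/-- the localized short complex -/
noncomputable def locSC (S : ShortComplex (ModuleCat.{u} A)) (hS : S.ShortExact) :
    ShortComplex (ModuleCat.{u} (Localization.AtPrime m)) :=
  ShortComplex.mk (locMap m S.f) (locMap m S.g) (by
    have hex := locMap_exact m S.f S.g
      ((ShortComplex.ShortExact.moduleCat_exact_iff_function_exact S).mp hS.exact)
    ext x
    exact (hex _).mpr ⟨x, rfl⟩)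

lemma locSC_shortExact (S : ShortComplex (ModuleCat.{u} A)) (hS : S.ShortExact) :
    (locSC m S hS).ShortExact := by
  apply ModuleCat.shortComplex_shortExact
  · exact locMap_exact m S.f S.g
      ((ShortComplex.ShortExact.moduleCat_exact_iff_function_exact S).mp hS.exact)
  · exact LocalizedModule.map_injective m.primeCompl S.f.hom hS.moduleCat_injective_f
  · exact LocalizedModule.map_surjective m.primeCompl S.g.hom hS.moduleCat_surjective_g

end locSC

include hT in
theorem main :
    ((∀ (m : Ideal A) [m.IsMaximal],
        PreservesFiniteLimits (ModuleCat.restrictScalars (algebraMap A (Localization.AtPrime m)) ⋙ T)) →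
      PreservesFiniteLimits T) ∧
    ((∀ (m : Ideal A) [m.IsMaximal],
        PreservesFiniteColimits (ModuleCat.restrictScalars (algebraMap A (Localization.AtPrime m)) ⋙ T)) →
      PreservesFiniteColimits T) := by
  constructor
  · intro H
    rw [Functor.preservesFiniteLimits_iff_forall_exact_map_and_mono]
    intro S hS
    have key : ∀ (m : Ideal A) [m.IsMaximal],
        ((locSC m S hS).map (ρ m ⋙ T)).Exact ∧ Mono ((ρ m ⋙ T).map (locSC m S hS).f) :=
      fun m _ => (Functor.preservesFiniteLimits_iff_forall_exact_map_and_mono (ρ m ⋙ T)).mp (H m) _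
        (locSC_shortExact m S hS)
    constructor
    · apply ModuleCat.shortComplex_exact
      exact exact_of_loc T hT S.f S.g (fun m _ =>
        (ShortComplex.ShortExact.moduleCat_exact_iff_function_exact _).mp (key m).1)
    · rw [ModuleCat.mono_iff_injective]
      exact injective_of_loc T hT S.f (fun m _ => (ModuleCat.mono_iff_injective _).mp (key m).2)
  · intro H
    rw [Functor.preservesFiniteColimits_iff_forall_exact_map_and_epi]
    intro S hS
    have key : ∀ (m : Ideal A) [m.IsMaximal],
        ((locSC m S hS).map (ρ m ⋙ T)).Exact ∧ Epi ((ρ m ⋙ T).map (locSC m S hS).g) :=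
      fun m _ => (Functor.preservesFiniteColimits_iff_forall_exact_map_and_epi (ρ m ⋙ T)).mp (H m) _
        (locSC_shortExact m S hS)
    constructor
    · apply ModuleCat.shortComplex_exact
      exact exact_of_loc T hT S.f S.g (fun m _ =>
        (ShortComplex.ShortExact.moduleCat_exact_iff_function_exact _).mp (key m).1)
    · rw [ModuleCat.epi_iff_surjective]
      exact surjective_of_loc T hT S.g (fun m _ => (ModuleCat.epi_iff_surjective _).mp (key m).2)



open CategoryTheory CategoryTheory.Limits in
/-- Let A be a commutative ring and T an additive A-linear endofunctor of the category of A-modules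
which preserves filtered colimits. For a maximal ideal m write T_m for T precomposed with
restriction of scalars along A → A_m (a functor from A_m-modules to A-modules). If T_m is left exact
for every maximal ideal m then T is left exact, and if T_m is right exact for every maximal ideal m
then T is right exact (exactness meaning preservation of finite limits, resp. finite colimits). -/
theorem result {A : Type u} [CommRing A]
    (T : ModuleCat.{u} A ⥤ ModuleCat.{u} A) [T.Additive] [T.Linear A]
    (hT : ∀ (J : Type u) [SmallCategory J] [IsFiltered J], PreservesColimitsOfShape J T) :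
    ((∀ (m : Ideal A) [m.IsMaximal],
        PreservesFiniteLimits (ModuleCat.restrictScalars (algebraMap A (Localization.AtPrime m)) ⋙ T)) →
      PreservesFiniteLimits T) ∧
    ((∀ (m : Ideal A) [m.IsMaximal],
        PreservesFiniteColimits (ModuleCat.restrictScalars (algebraMap A (Localization.AtPrime m)) ⋙ T)) →
      PreservesFiniteColimits T) := by
  exact main T hT

end Groth.Agent.S4493
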