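import Groth.Statements.S4495
-- import your own Groth.Agent.* helpers here

set_option autoImplicit false
universe u
open FlatCx

namespace Groth.Agent.S4495

open CategoryTheory AlgebraicGeometry Opposite in
/-- A locally ringed space Z is connected, in the sense that it is not the disjoint union of two
nonempty open subsets (the empty space being allowed), if and only if every idempotent of the ring
of global sections Γ(Z, O_Z) is 0 or 1 (equivalently, Γ(Z, O_Z) is not isomorphic to a product of
two nonzero rings). -/
theorem result (Z : LocallyRingedSpace.{u}) :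
    PreconnectedSpace Z ↔
      ∀ e : Z.presheaf.obj (op ⊤), IsIdempotentElem e → e = 0 ∨ e = 1 := by
  constructor
  · intro hZ e he
    have hdisj : Z.toRingedSpace.basicOpen e ⊓ Z.toRingedSpace.basicOpen (1 - e) = ⊥ := by
      rw [← RingedSpace.basicOpen_mul]
      have : e * (1 - e) = 0 := by rw [mul_sub, mul_one, he.eq, sub_self]
      rw [this]; exact Z.basicOpen_zero ⊤
    have hcov : ∀ x : Z, x ∈ Z.toRingedSpace.basicOpen e ∨
        x ∈ Z.toRingedSpace.basicOpen (1 - e) := by
      intro x
      rw [RingedSpace.mem_top_basicOpen, RingedSpace.mem_top_basicOpen]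
      have : Z.presheaf.germ ⊤ x trivial e + Z.presheaf.germ ⊤ x trivial (1 - e) = 1 := by
        rw [← map_add]; simp
      exact IsLocalRing.isUnit_or_isUnit_of_add_one this
    have key : ∀ f : Z.presheaf.obj (op ⊤), IsIdempotentElem f →
        (∀ x : Z, x ∈ Z.toRingedSpace.basicOpen f) → f = 1 := by
      intro f hf hx
      have hu : IsUnit f := by
        apply Z.toRingedSpace.isUnit_of_isUnit_germ ⊤ f
        intro x hx'
        exact (RingedSpace.mem_top_basicOpen _ f x).1 (hx x)
      exact (IsIdempotentElem.iff_eq_one_of_isUnit hu).1 hf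
    have hpre := isPreconnected_univ (α := Z)
    by_cases h1 : ∃ x : Z, x ∈ Z.toRingedSpace.basicOpen e
    · by_cases h2 : ∃ x : Z, x ∈ Z.toRingedSpace.basicOpen (1 - e)
      · exfalso
        obtain ⟨x1, hx1⟩ := h1
        obtain ⟨x2, hx2⟩ := h2
        have := hpre _ _ (Z.toRingedSpace.basicOpen e).2 (Z.toRingedSpace.basicOpen (1 - e)).2
          (fun x _ => hcov x) ⟨x1, trivial, hx1⟩ ⟨x2, trivial, hx2⟩
        obtain ⟨x, -, hx1, hx2⟩ := this
        have : x ∈ Z.toRingedSpace.basicOpen e ⊓ Z.toRingedSpace.basicOpen (1 - e) := ⟨hx1, hx2⟩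
        rw [hdisj] at this
        exact this
      · right
        apply key e he
        intro x
        rcases hcov x with h | h
        · exact h
        · exact (h2 ⟨x, h⟩).elim
    · left
      have : 1 - e = 1 := by
        apply key (1 - e) he.one_sub
        intro x
        rcases hcov x with h | h
        · exact (h1 ⟨x, h⟩).elim
        · exact h
      have h3 : e = 1 - (1 - e) := by ring
      rw [h3, this, sub_self]
  · intro h
    rw [preconnectedSpace_iff_clopen]
    intro s hs
    let U₁ : TopologicalSpace.Opens Z := ⟨s, hs.2⟩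
    let U₂ : TopologicalSpace.Opens Z := ⟨sᶜ, hs.1.isOpen_compl⟩
    let U : Bool → TopologicalSpace.Opens Z := fun b => if b then U₁ else U₂
    have hdisj : U₁ ⊓ U₂ = ⊥ := by
      ext x
      simp [U₁, U₂]
    have hcover : (⊤ : TopologicalSpace.Opens Z) ≤ iSup U := by
      intro x _
      rw [TopologicalSpace.Opens.mem_iSup]
      by_cases hx : x ∈ s
      · exact ⟨true, hx⟩
      · exact ⟨false, hx⟩
    let sf : ∀ b : Bool, Z.presheaf.obj (op (U b)) := fun b => if b then 1 else 0
    have hsub : ∀ i j : Bool, i ≠ j → Subsingleton (Z.presheaf.obj (op (U i ⊓ U j))) := by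
      intro i j hij
      have hbot : U i ⊓ U j = ⊥ := by
        rcases i with _ | _ <;> rcases j with _ | _
        · exact (hij rfl).elim
        · simpa [U, inf_comm] using hdisj
        · simpa [U] using hdisj
        · exact (hij rfl).elim
      exact CommRingCat.subsingleton_of_isTerminal (Z.toSheafedSpace.sheaf.isTerminalOfEqEmpty hbot)
    have hcompat : TopCat.Presheaf.IsCompatible Z.presheaf U sf := by
      intro i j
      rcases i with _ | _ <;> rcases j with _ | _
      · simp [sf]
      · exact (hsub false true (by decide)).elim _ _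
      · exact (hsub true false (by decide)).elim _ _
      · simp [sf]
    obtain ⟨(e : Z.presheaf.obj (op ⊤)), he, -⟩ := Z.toSheafedSpace.sheaf.existsUnique_gluing' U ⊤
      (fun i => homOfLE le_top) hcover sf hcompat
    have he' : ∀ i : Bool,
        (Z.presheaf.map (homOfLE le_top : U i ⟶ ⊤).op).hom e = sf i := he
    have hidem : IsIdempotentElem e := by
      apply Z.toSheafedSpace.sheaf.eq_of_locally_eq' U ⊤ (fun i => homOfLE le_top) hcover
      intro i
      change (Z.presheaf.map (homOfLE le_top : U i ⟶ ⊤).op).hom (e * e) =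
        (Z.presheaf.map (homOfLE le_top : U i ⟶ ⊤).op).hom e
      erw [map_mul]
      rw [he' i]
      rcases i with _ | _ <;> simp [sf]
    have he1 : (Z.presheaf.map (homOfLE le_top : U₁ ⟶ ⊤).op).hom e = 1 := he' true
    have he0 : (Z.presheaf.map (homOfLE le_top : U₂ ⟶ ⊤).op).hom e = 0 := he' false
    rcases h e hidem with h0 | h1
    · left
      by_contra hne
      obtain ⟨x, hx⟩ := Set.nonempty_iff_ne_empty.2 hne
      have hU : Nonempty U₁ := ⟨⟨x, hx⟩⟩
      have := Z.component_nontrivial U₁ (hU := hU)
      rw [h0, map_zero] at he1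
      exact zero_ne_one he1
    · right
      by_contra hne
      obtain ⟨x, hx⟩ := (Set.ne_univ_iff_exists_notMem s).1 hne
      have hU : Nonempty U₂ := ⟨⟨x, hx⟩⟩
      have := Z.component_nontrivial U₂ (hU := hU)
      rw [h1, map_one] at he0
      exact one_ne_zero he0

end Groth.Agent.S4495
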