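import Groth.Statements.S4499
import Mathlib
import Groth.Agent.S2429

set_option autoImplicit false
universe u
attribute [local instance] HasDerivedCategory.standard
open FlatCx

namespace Groth.Agent.S4499

set_option linter.style.haveILetI false

open CategoryTheory
open TensorProduct
open Groth.Agent.Lib.helper7.TorAPI Groth.Agent.Lib.helper10.ExtShift CategoryTheory.MonoidalCategory
  CategoryTheory.Limits

variable {A : Type u} [CommRing A]

theorem main {P₁ P₀ : Type u} [AddCommGroup P₁] [Module A P₁] [AddCommGroup P₀] [Module A P₀]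
    [Module.Flat A P₁] [Module.Flat A P₀] (d : P₁ →ₗ[A] P₀)
    (M : Type u) [AddCommGroup M] [Module A M] :
    Nonempty (LinearMap.ker ((LinearMap.ker d).subtype.rTensor M) ≃ₗ[A]
        DRing.Tor A 2 (P₀ ⧸ LinearMap.range d) M) ∧
      LinearMap.range ((LinearMap.ker d).subtype.rTensor M) ≤
        LinearMap.ker (d.rTensor M) ∧
      Nonempty ((↥(LinearMap.ker (d.rTensor M)) ⧸
          Submodule.comap (LinearMap.ker (d.rTensor M)).subtype
            (LinearMap.range ((LinearMap.ker d).subtype.rTensor M))) ≃ₗ[A]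
        DRing.Tor A 1 (P₀ ⧸ LinearMap.range d) M) := by
  let Z := LinearMap.ker d
  let B := LinearMap.range d
  let dR : P₁ →ₗ[A] B := d.rangeRestrict
  have hdR : Function.Surjective dR := LinearMap.surjective_rangeRestrict d
  have hex1 : Function.Exact Z.subtype dR := by
    intro y
    constructor
    · intro hy
      exact ⟨⟨y, congrArg Subtype.val hy⟩, rfl⟩
    · rintro ⟨z, rfl⟩
      apply Subtype.ext
      exact z.2
  have hex2 : Function.Exact B.subtype B.mkQ := LinearMap.exact_subtype_mkQ B
  have hS1 := sc_shortExact A Z.subtype dR (Submodule.injective_subtype _) hex1 hdR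
  have hS2 := sc_shortExact A B.subtype B.mkQ (Submodule.injective_subtype _) hex2
    (Submodule.mkQ_surjective _)
  let N : ModuleCat.{u} A := ModuleCat.of A M
  haveI : Module.Flat A (sc A Z.subtype dR hex1).X₂ := inferInstanceAs (Module.Flat A P₁)
  haveI : Module.Flat A (sc A B.subtype B.mkQ hex2).X₂ := inferInstanceAs (Module.Flat A P₀)
  have h11 : IsZero ((T 1 (sc A Z.subtype dR hex1).X₂).obj N) := isZero_T_flat _ _ 0
  have h21 : IsZero ((T 1 (sc A B.subtype B.mkQ hex2).X₂).obj N) := isZero_T_flat _ _ 0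
  have h22 : IsZero ((T 2 (sc A B.subtype B.mkQ hex2).X₂).obj N) := isZero_T_flat _ _ 1
  obtain ⟨e1⟩ := Groth.Agent.S2429.tor1_ker hS1 N h11
  obtain ⟨e2⟩ := Groth.Agent.S2429.tor1_ker hS2 N h21
  obtain ⟨e3⟩ := exists_iso_of_isZero₁ hS2 N 1 h22 h21
  have hdsub : d = B.subtype ∘ₗ dR := rfl
  have hle : LinearMap.range (Z.subtype.rTensor M) ≤ LinearMap.ker (d.rTensor M) := by
    rintro _ ⟨z, rfl⟩
    rw [LinearMap.mem_ker, ← LinearMap.comp_apply, ← LinearMap.rTensor_comp]
    have : d ∘ₗ Z.subtype = 0 := by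
      ext x
      exact x.2
    rw [this, LinearMap.rTensor_zero, LinearMap.zero_apply]
  refine ⟨⟨?_⟩, hle, ⟨?_⟩⟩
  · exact (e1.symm ≪≫ e3.symm).toLinearEquiv
  · -- the map ker(d⊗1) → K
    let K := LinearMap.ker (B.subtype.rTensor M)
    let γ₁ : LinearMap.ker (d.rTensor M) →ₗ[A] B ⊗[A] M :=
      (dR.rTensor M) ∘ₗ (LinearMap.ker (d.rTensor M)).subtype
    have hγ₁ : ∀ x, γ₁ x ∈ K := by
      intro x
      rw [LinearMap.mem_ker]
      change B.subtype.rTensor M (dR.rTensor M x.1) = 0
      rw [← LinearMap.comp_apply, ← LinearMap.rTensor_comp, ← hdsub]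
      exact x.2
    have hγr : LinearMap.range γ₁ = K := by
      apply le_antisymm
      · rintro _ ⟨x, rfl⟩
        exact hγ₁ x
      · intro k hk
        obtain ⟨x, hx⟩ := LinearMap.rTensor_surjective M hdR k
        have hxk : x ∈ LinearMap.ker (d.rTensor M) := by
          rw [LinearMap.mem_ker, hdsub, LinearMap.rTensor_comp, LinearMap.comp_apply, hx]
          exact hk
        exact ⟨⟨x, hxk⟩, hx⟩
    have hγk : LinearMap.ker γ₁ = Submodule.comap (LinearMap.ker (d.rTensor M)).subtype
        (LinearMap.range (Z.subtype.rTensor M)) := by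
      ext x
      rw [LinearMap.mem_ker, Submodule.mem_comap]
      have hex : Function.Exact (Z.subtype.rTensor M) (dR.rTensor M) :=
        rTensor_exact M hex1 hdR
      exact hex x.1
    have e4 : (↥(LinearMap.ker (d.rTensor M)) ⧸ LinearMap.ker γ₁) ≃ₗ[A] LinearMap.range γ₁ :=
      γ₁.quotKerEquivRange
    exact (Submodule.quotEquivOfEq _ _ hγk.symm) ≪≫ₗ e4 ≪≫ₗ (LinearEquiv.ofEq _ _ hγr) ≪≫ₗ
      e2.symm.toLinearEquiv



/-- Let A be a Noetherian local ring with residue field k, and d : P₁ → P₀ an A-linear map between flat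
A-modules, viewed as a two-term chain complex, so that H₁ = Ker d, H₀ = Coker d and H₁ of the
complex tensored with k is Ker(d ⊗ 1_k). Let α : (Ker d) ⊗_A k → P₁ ⊗_A k be the map induced by the
inclusion Ker d → P₁; its image lies in Ker(d ⊗ 1_k). Then there is an exact sequence 0 →
Tor₂^A(Coker d, k) → (Ker d) ⊗_A k → Ker(d ⊗ 1_k) → Tor₁^A(Coker d, k) → 0 with middle map α, stated
here as: Ker α is isomorphic to Tor₂^A(Coker d, k), and the quotient of Ker(d ⊗ 1_k) by the image of
α is isomorphic to Tor₁^A(Coker d, k) (existence of A-linear isomorphisms only; Tor is Mathlib's,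
left derived in the second variable). (In the published statement the cokernel is printed without
its prime, as the module of 0-cycles; the proof is about the cokernel of d.) -/
theorem result {A : Type u} [CommRing A] [IsNoetherianRing A]
    [IsLocalRing A] {P₁ P₀ : Type u} [AddCommGroup P₁] [Module A P₁] [AddCommGroup P₀] [Module A P₀]
    [Module.Flat A P₁] [Module.Flat A P₀] (d : P₁ →ₗ[A] P₀) :
    Nonempty (LinearMap.ker ((LinearMap.ker d).subtype.rTensor (IsLocalRing.ResidueField A)) ≃ₗ[A]
        DRing.Tor A 2 (P₀ ⧸ LinearMap.range d) (IsLocalRing.ResidueField A)) ∧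
      LinearMap.range ((LinearMap.ker d).subtype.rTensor (IsLocalRing.ResidueField A)) ≤
        LinearMap.ker (d.rTensor (IsLocalRing.ResidueField A)) ∧
      Nonempty ((↥(LinearMap.ker (d.rTensor (IsLocalRing.ResidueField A))) ⧸
          Submodule.comap (LinearMap.ker (d.rTensor (IsLocalRing.ResidueField A))).subtype
            (LinearMap.range ((LinearMap.ker d).subtype.rTensor (IsLocalRing.ResidueField A)))) ≃ₗ[A]
        DRing.Tor A 1 (P₀ ⧸ LinearMap.range d) (IsLocalRing.ResidueField A)) := by
  exact main d (IsLocalRing.ResidueField A)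

end Groth.Agent.S4499
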