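import Groth.Statements.S4505
import Groth.Agent.Lib.Helper11.LengthFormula
import Groth.Agent.Lib.Helper11.TensorAHLin
import Groth.Agent.Lib.Helper11.GCM6
import Groth.Agent.Lib.Helper11.GCM7
import Groth.Agent.Lib.Helper11.NegCxRows

set_option autoImplicit false
universe u
attribute [local instance] HasDerivedCategory.standard
open Coherent

namespace Groth.Agent.S4505

open AlgebraicGeometry CategoryTheory in
/-- (b) ⇔ (c), for a complex reduced to one sheaf and a local base (so that the point y is the closed
point and O_y = A). Let A be a Noetherian local ring with maximal ideal m and residue field k, X a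
proper A-scheme with structure morphism f, F a coherent O_X-module flat over Spec A, and write
T^p(M) = H^p(X, f^*(M~) ⊗ F) for an A-module M. Then the functor T^p takes injections to injections
and surjections to surjections (F is cohomologically flat in degree p) if and only if there is n₀
such that for every n ≥ n₀ one has length_A T^p(A/m^(n+1)) = length_A T^p(k) · length_A (A/m^(n+1))
(lengths of A-modules, valued in ℕ∞; all are finite here). -/
theorem result (A : Type u) [CommRing A]
    [IsNoetherianRing A] [IsLocalRing A] (X : Scheme.{u}) [X.Over (Spec (CommRingCat.of A))]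
    [IsProper (X ↘ Spec (CommRingCat.of A))] (F : X.Modules) (hF : Coh.IsCoh F)
    (hfl : FlatMod.IsFlatOver (X ↘ Spec (CommRingCat.of A)) F) (p : ℕ) :
    ((CohIII.tensorAFunctor A F ⋙ CohIII.HAb X p).PreservesMonomorphisms ∧
        (CohIII.tensorAFunctor A F ⋙ CohIII.HAb X p).PreservesEpimorphisms) ↔
      ∃ n₀ : ℕ, ∀ n : ℕ, n₀ ≤ n →
        Module.length A (Coh.HH X ((CohIII.tensorAFunctor A F).obj
            (ModuleCat.of A (A ⧸ IsLocalRing.maximalIdeal A ^ (n + 1)))) p) =
          Module.length A (Coh.HH X ((CohIII.tensorAFunctor A F).obj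
              (ModuleCat.of A (IsLocalRing.ResidueField A))) p) *
            Module.length A (A ⧸ IsLocalRing.maximalIdeal A ^ (n + 1)) := by
  classical
  have hFq : F.IsQuasicoherent := hF.1
  obtain ⟨L, hL, -, -, -, -, -, hM⟩ :=
    Groth.Agent.Lib.helper11.GCM.exists_grothendieck_complex_module A X F hF hfl
  obtain ⟨Φ⟩ := hM p
  have hLf : ∀ i, Module.Finite A (L.X i) ∧ Module.Flat A (L.X i) := fun i =>
    ⟨(hL i).1, have := (hL i).2; inferInstance⟩
  have hP := Groth.Agent.Lib.helper11.NegCx.neg_fin_flat L hLf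
  let Ψ : CohIII.tensorAFunctor A F ⋙ CohIII.HAb X p ≅
      CohIII.TFun (Groth.Agent.Lib.helper11.NegCx.neg L) (-(p : ℤ)) ⋙
        forget₂ (ModuleCat.{u} A) AddCommGrpCat.{u} :=
    Φ.symm ≪≫ Functor.isoWhiskerRight (Groth.Agent.Lib.helper11.NegCx.TFunIso' L (p : ℤ)).symm _
  have hlen : ∀ M : ModuleCat.{u} A,
      Module.length A (Coh.HH X ((CohIII.tensorAFunctor A F).obj M) p) =
        Module.length A ((CohIII.TFun (Groth.Agent.Lib.helper11.NegCx.neg L) (-(p : ℤ))).obj M) :=
    fun M => (Groth.Agent.Lib.helper11.TensorAHLin.linEquivOfIso Ψ M).length_eq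
  rw [Groth.Agent.Lib.helper11.GCM.preservesMono_iff Ψ.symm,
    Groth.Agent.Lib.helper11.GCM.preservesEpi_iff Ψ.symm]
  constructor
  · rintro ⟨hm, he⟩
    refine ⟨0, fun n _ => ?_⟩
    rw [hlen, hlen]
    exact Groth.Agent.Lib.helper11.LengthFormula.length_formula_of_exact _ hP (-(p : ℤ)) hm he n
  · rintro ⟨n₀, h⟩
    apply Groth.Agent.Lib.helper11.LengthFormula.exact_of_length_formula _ hP (-(p : ℤ))
    refine ⟨n₀, fun n hn => ?_⟩
    have := h n hn
    rw [hlen, hlen] at this
    exact this

end Groth.Agent.S4505
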