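import Groth.Statements.S4506
import Groth.Agent.Lib.Helper11.GCM6
import Groth.Agent.Lib.Helper11.GCM7
import Groth.Agent.S4490

set_option autoImplicit false
universe u
attribute [local instance] HasDerivedCategory.standard
open Coherent

namespace Groth.Agent.S4506

open AlgebraicGeometry CategoryTheory in
/-- (a) ⇔ (c) (local criterion for the exchange property), for a complex reduced to one sheaf over a
local base. Let A be a Noetherian local ring with maximal ideal m and residue field k, X a proper
A-scheme with structure morphism f, F a coherent O_X-module flat over Spec A, and T^p(M) = H^p(X,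
f^*(M~) ⊗ F). Then T^p takes surjections to surjections if and only if, for every n, the map
T^p(A/m^(n+1)) → T^p(A/m) induced by the projection A/m^(n+1) → A/m = k is surjective. -/
theorem result (A : Type u) [CommRing A]
    [IsNoetherianRing A] [IsLocalRing A] (X : Scheme.{u}) [X.Over (Spec (CommRingCat.of A))]
    [IsProper (X ↘ Spec (CommRingCat.of A))] (F : X.Modules) (hF : Coh.IsCoh F)
    (hfl : FlatMod.IsFlatOver (X ↘ Spec (CommRingCat.of A)) F) (p : ℕ) :
    (CohIII.tensorAFunctor A F ⋙ CohIII.HAb X p).PreservesEpimorphisms ↔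
      ∀ n : ℕ, Function.Surjective ((CohIII.tensorAFunctor A F ⋙ CohIII.HAb X p).map (ModuleCat.ofHom
        (Ideal.Quotient.factorₐ A (Ideal.pow_le_self (I := IsLocalRing.maximalIdeal A)
          (Nat.succ_ne_zero n))).toLinearMap :
        ModuleCat.of A (A ⧸ IsLocalRing.maximalIdeal A ^ (n + 1)) ⟶
          ModuleCat.of A (A ⧸ IsLocalRing.maximalIdeal A))).hom := by
  obtain ⟨L, hL, -, -, -, -, -, hM⟩ :=
    Groth.Agent.Lib.helper11.GCM.exists_grothendieck_complex_module A X F hF hfl
  obtain ⟨Φ⟩ := hM p
  have hLf : ∀ i, Module.Finite A (L.X i) ∧ Module.Flat A (L.X i) := fun i =>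
    ⟨(hL i).1, have := (hL i).2; inferInstance⟩
  have key := (Groth.Agent.S4490.result (Groth.Agent.Lib.helper11.NegCx.neg L)
    (Groth.Agent.Lib.helper11.NegCx.neg_fin_flat L hLf) (-(p : ℤ))).2
  rw [Groth.Agent.Lib.helper11.GCM.preservesEpi_iff Φ,
    ← Functor.PreservesEpimorphisms.iso_iff (Groth.Agent.Lib.helper11.NegCx.TFunIso' L (p : ℤ))]
  constructor
  · intro h n
    rw [Groth.Agent.Lib.helper11.GCM.surjective_map_iff Φ,
      ← Groth.Agent.Lib.helper11.NegCx.surjective_map_iff_of_iso
        (Groth.Agent.Lib.helper11.NegCx.TFunIso' L (p : ℤ))]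
    have hsurj : Function.Surjective (Ideal.Quotient.factorₐ A
        (Ideal.pow_le_self (I := IsLocalRing.maximalIdeal A) (Nat.succ_ne_zero n))).toLinearMap :=
      Ideal.Quotient.factor_surjective
        (Ideal.pow_le_self (I := IsLocalRing.maximalIdeal A) (Nat.succ_ne_zero n))
    have : Epi (ModuleCat.ofHom (Ideal.Quotient.factorₐ A
        (Ideal.pow_le_self (I := IsLocalRing.maximalIdeal A) (Nat.succ_ne_zero n))).toLinearMap :
        ModuleCat.of A (A ⧸ IsLocalRing.maximalIdeal A ^ (n + 1)) ⟶
          ModuleCat.of A (A ⧸ IsLocalRing.maximalIdeal A)) :=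
      (ModuleCat.epi_iff_surjective _).mpr hsurj
    exact (ModuleCat.epi_iff_surjective _).mp (h.preserves _)
  · intro h
    refine key.mpr ⟨0, fun n _ => ?_⟩
    have := h n
    rw [Groth.Agent.Lib.helper11.GCM.surjective_map_iff Φ,
      ← Groth.Agent.Lib.helper11.NegCx.surjective_map_iff_of_iso
        (Groth.Agent.Lib.helper11.NegCx.TFunIso' L (p : ℤ))] at this
    exact this

end Groth.Agent.S4506
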