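import Groth.Statements.S9444
import Mathlib
import Groth.Agent.Lib.Helper24.CohenCoeff
import Groth.Agent.Lib.Helper24.CohenPS

set_option autoImplicit false
universe u
open CAlg

namespace Groth.Agent.S9444

-- MARK
section Aux
open IsLocalRing

theorem exists_fin_generators {R : Type u} [CommRing R] (c : Ideal R) (hc : c.FG) :
    ∃ w : Fin c.spanFinrank → R, Ideal.span (Set.range w) = c := by
  obtain ⟨S, hS, hspan⟩ := Submodule.FG.exists_span_finset_card_eq_spanFinrank hc
  let e := Finset.equivFinOfCardEq hS
  refine ⟨fun i => (e.symm i : R), ?_⟩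
  refine Eq.trans ?_ hspan
  show Submodule.span R _ = Submodule.span R _
  congr 1
  ext x
  constructor
  · rintro ⟨i, rfl⟩
    exact (e.symm i).2
  · intro hx
    exact ⟨e ⟨x, hx⟩, by simp⟩

theorem spanFinrank_span_range_le {R : Type u} [CommRing R] {d : ℕ} (x : Fin d → R) :
    (Ideal.span (Set.range x)).spanFinrank ≤ d := by
  classical
  have h1 : Set.range x = ((Finset.univ.image x : Finset R) : Set R) := by simp
  have h2 := Submodule.spanFinrank_span_le_ncard_of_finite (R := R) (Set.finite_range x)
  refine h2.trans ?_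
  rw [h1, Set.ncard_coe_finset]
  exact Finset.card_image_le.trans (by simp)

/-- a coefficient field in the equicharacteristic case -/
theorem exists_coeff_field (R : Type u) [CommRing R] [IsLocalRing R] [IsNoetherianRing R]
    [IsAdicComplete (maximalIdeal R) R] (k₀ : Type u) [Field k₀] [Algebra k₀ R] :
    ∃ (K : Type u) (_ : Field K) (v : K →+* R), Function.Surjective ((residue R).comp v) := by
  obtain ⟨W, _, _, hW, hWn, hWc, v, e, hv, hve⟩ :=
    Groth.Agent.Lib.Helper24.CohenCoeff.exists_coeff_ring R
  have hkill : ∀ a ∈ maximalIdeal W, v a = 0 := by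
    rcases hW with ⟨hf, _⟩ | ⟨_, _, _, p, hp, hmax⟩
    · intro a ha
      rw [IsLocalRing.isField_iff_maximalIdeal_eq.1 hf] at ha
      rw [(Ideal.mem_bot).1 ha, map_zero]
    · have hpR : (p : R) = 0 := by
        by_cases hk : (p : k₀) = 0
        · have := congrArg (algebraMap k₀ R) hk
          simpa using this
        · exfalso
          have hu : IsUnit (algebraMap k₀ R (p : k₀)) := (IsUnit.mk0 _ hk).map _
          rw [map_natCast] at hu
          have hmem : (p : W) ∈ maximalIdeal W := by
            rw [hmax]; exact Ideal.subset_span rfl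
          have hnu : ¬ IsUnit (p : W) := (IsLocalRing.mem_maximalIdeal _).1 hmem
          apply hnu
          have : IsUnit (v (p : W)) := by rw [map_natCast]; exact hu
          exact hv.map_nonunit _ this
      intro a ha
      rw [hmax, Ideal.mem_span_singleton] at ha
      obtain ⟨b, rfl⟩ := ha
      rw [map_mul, map_natCast, hpR, zero_mul]
  let v' : ResidueField W →+* R := Ideal.Quotient.lift (maximalIdeal W) v hkill
  have hv' : ∀ a, v' (residue W a) = v a := fun a => Ideal.Quotient.lift_mk _ _ _
  refine ⟨ResidueField W, inferInstance, v', ?_⟩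
  intro y
  obtain ⟨a, ha⟩ := IsLocalRing.residue_surjective (e.symm y)
  refine ⟨residue W a, ?_⟩
  rw [RingHom.comp_apply, hv', hve, ha, RingEquiv.apply_symm_apply]

noncomputable def psMapEquiv {K k : Type u} [CommRing K] [CommRing k] (d : ℕ) (e : K ≃+* k) :
    MvPowerSeries (Fin d) K ≃+* MvPowerSeries (Fin d) k :=
  RingEquiv.ofRingHom (MvPowerSeries.map (e : K →+* k)) (MvPowerSeries.map (e.symm : k →+* K))
    (by rw [← MvPowerSeries.map_comp]; simp [MvPowerSeries.map_id])
    (by rw [← MvPowerSeries.map_comp]; simp [MvPowerSeries.map_id])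

end Aux



/-- A complete regular local ring containing a field (that is, containing the prime field F_p or ℚ) is
isomorphic to a power series ring in finitely many variables over its residue field (existence of an
isomorphism only). -/
theorem result (R : Type u)
    [CommRing R] [IsRegularLocalRing R] [IsAdicComplete (IsLocalRing.maximalIdeal R) R]
    (k₀ : Type u) [Field k₀] [Algebra k₀ R] :
    ∃ d : ℕ, Nonempty (R ≃+* MvPowerSeries (Fin d) (IsLocalRing.ResidueField R)) := by
  classical
  obtain ⟨K, _, v, hres⟩ := exists_coeff_field R k₀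
  have hfg : (IsLocalRing.maximalIdeal R).FG := (IsLocalRing.maximalIdeal R).fg_of_isNoetherianRing
  obtain ⟨d, x, hx, hdim⟩ : ∃ (d : ℕ) (x : Fin d → R),
      Ideal.span (Set.range x) = IsLocalRing.maximalIdeal R ∧ ringKrullDim R = d := by
    obtain ⟨x, hx⟩ := exists_fin_generators (IsLocalRing.maximalIdeal R) hfg
    exact ⟨_, x, hx, (IsRegularLocalRing.spanFinrank_maximalIdeal (R := R)).symm⟩
  have hKc : IsAdicComplete (IsLocalRing.maximalIdeal K) K := by
    rw [IsLocalRing.maximalIdeal_eq_bot]; infer_instance
  have hmK : IsLocalRing.maximalIdeal R =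
      (IsLocalRing.maximalIdeal K).map v ⊔ Ideal.span (Set.range x) := by
    rw [IsLocalRing.maximalIdeal_eq_bot, Ideal.map_bot, bot_sup_eq, hx]
  obtain ⟨f, hfC, hfX, hfs, hfm⟩ :=
    Groth.Agent.Lib.Helper24.CohenPS.exists_ps_surjective v hres d x hmK
  -- dimension of the power series ring
  have hS : ringKrullDim (MvPowerSeries (Fin d) K) ≤ d := by
    refine (ringKrullDim_le_spanFinrank_maximalIdeal _).trans ?_
    rw [Groth.Agent.LibCR29.maximalIdeal_ps, IsLocalRing.maximalIdeal_eq_bot, Ideal.map_bot,
      bot_sup_eq]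
    exact_mod_cast spanFinrank_span_range_le _
  have hinj : Function.Injective f := by
    rw [injective_iff_map_eq_zero]
    intro r hr
    by_contra hne
    have hr0 : r ∈ nonZeroDivisors (MvPowerSeries (Fin d) K) := mem_nonZeroDivisors_of_ne_zero hne
    have h1 := ringKrullDim_quotient_succ_le_of_nonZeroDivisor hr0
    -- `R` is a quotient of `S ⧸ (r)`
    let g : MvPowerSeries (Fin d) K ⧸ Ideal.span {r} →+* R :=
      Ideal.Quotient.lift _ f (by
        intro a ha
        rw [Ideal.mem_span_singleton] at ha
        obtain ⟨b, rfl⟩ := ha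
        rw [map_mul, hr, zero_mul])
    have hg : Function.Surjective g := by
      intro y
      obtain ⟨a, rfl⟩ := hfs y
      exact ⟨Ideal.Quotient.mk _ a, Ideal.Quotient.lift_mk _ _ _⟩
    have h2 := ringKrullDim_le_of_surjective g hg
    rw [hdim] at h2
    have h3 : ((d : ℕ) : WithBot ℕ∞) + 1 ≤ d := (add_le_add h2 le_rfl).trans (h1.trans hS)
    have h4 : ((d + 1 : ℕ) : WithBot ℕ∞) ≤ ((d : ℕ) : WithBot ℕ∞) := by
      push_cast; exact h3
    have h5 : d + 1 ≤ d := by exact_mod_cast h4
    omega
  let E : K ≃+* IsLocalRing.ResidueField R :=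
    RingEquiv.ofBijective ((IsLocalRing.residue R).comp v)
      ⟨((IsLocalRing.residue R).comp v).injective, hres⟩
  exact ⟨d, ⟨(RingEquiv.ofBijective f ⟨hinj, hfs⟩).symm.trans (psMapEquiv d E)⟩⟩

end Groth.Agent.S9444
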