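import Groth.Statements.S4513
import Mathlib
import Groth.Agent.S4512
import Groth.Agent.Lib.Helper24.GeomReducedFinite
import Groth.Agent.Lib.Helper24.FormalFibreDescent

set_option autoImplicit false
set_option linter.style.haveILetI false
universe u
open EGA41

namespace Groth.Agent.S4513

open IsLocalRing in
/-- Let A be a Noetherian local ring and k a field mapping to A such that A is formally smooth over k
for the adic topology of its maximal ideal (k discrete). Then every field K with k → K → A
(compatible ring maps) is a separable extension of k, i.e. K is geometrically reduced over k. -/
theorem result {k A K : Type u} [Field k] [CommRing A]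
    [IsLocalRing A] [IsNoetherianRing A] [Algebra k A] (h : CAlgX.IsAdicFormallySmooth k A (maximalIdeal A))
    [Field K] [Algebra k K] [Algebra K A] [IsScalarTower k K A] :
    Algebra.IsGeometricallyReduced k K := by
  classical
  apply Groth.Agent.Lib.Helper24.GeomReducedFinite.isGeometricallyReduced_of_forall_finite
  intro k' _ _ hfin
  have hreg : IsRegularRing (TensorProduct k k' A) := (Groth.Agent.S4512.result h).1 k' hfin
  haveI : IsReduced (TensorProduct k k' A) :=
    Groth.Agent.Lib.Helper24.FormalFibreDescent.isReduced_of_isRegularRing _
  -- the injection `k' ⊗ K → k' ⊗ A`
  let g : K →ₐ[k] A := IsScalarTower.toAlgHom k K A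
  have hg : Function.Injective g := (algebraMap K A).injective
  let G : TensorProduct k k' K →ₐ[k'] TensorProduct k k' A :=
    Algebra.TensorProduct.map (AlgHom.id k' k') g
  have hG : Function.Injective G := by
    have : (G : TensorProduct k k' K → TensorProduct k k' A) = (g.toLinearMap.lTensor k') := by
      ext x
      induction x using TensorProduct.induction_on with
      | zero => simp
      | tmul a b => simp [G]
      | add a b ha hb => simp [map_add, ha, hb]
    rw [this]
    exact Module.Flat.lTensor_preserves_injective_linearMap _ hg
  exact isReduced_of_injective G.toRingHom hG

end Groth.Agent.S4513
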