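import Groth.Statements.S4515
import Mathlib

set_option autoImplicit false
universe u
open EGA41

namespace Groth.Agent.S4515

section
open TensorProduct

variable {A : Type u} [CommRing A] (I : Ideal A)

/-- the multiplication map `I ⊗ N → N` -/
noncomputable def mulMap (N : Type u) [AddCommGroup N] [Module A N] : I ⊗[A] N →ₗ[A] N :=
  (TensorProduct.lid A N).toLinearMap ∘ₗ LinearMap.rTensor N I.subtype

@[simp] theorem mulMap_tmul (N : Type u) [AddCommGroup N] [Module A N] (a : I) (n : N) :
    mulMap I N (a ⊗ₜ n) = (a : A) • n := by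
  simp [mulMap]

theorem exists_mulMap_eq {N : Type u} [AddCommGroup N] [Module A N] (x : N)
    (hx : x ∈ (I • ⊤ : Submodule A N)) : ∃ t : I ⊗[A] N, mulMap I N t = x := by
  refine Submodule.smul_induction_on hx ?_ ?_
  · intro a ha n _
    exact ⟨(⟨a, ha⟩ : I) ⊗ₜ n, by simp⟩
  · rintro x y ⟨t, rfl⟩ ⟨s, rfl⟩
    exact ⟨t + s, map_add _ _ _⟩

theorem mulMap_lTensor_mem {N : Type u} [AddCommGroup N] [Module A N] (K : Submodule A N)
    (s : I ⊗[A] K) : mulMap I N (LinearMap.lTensor I K.subtype s) ∈ I • K := by
  induction s using TensorProduct.induction_on with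
  | zero => simp
  | tmul a k =>
    simp only [LinearMap.lTensor_tmul, Submodule.subtype_apply, mulMap_tmul]
    exact Submodule.smul_mem_smul a.2 k.2
  | add t s ht hs =>
    simp only [map_add]
    exact Submodule.add_mem _ ht hs

theorem mem_smul_ker {N M : Type u} [AddCommGroup N] [Module A N] [AddCommGroup M] [Module A M]
    [Module.Flat A M] (u : N →ₗ[A] M) (hu : Function.Surjective u) (x : N)
    (hx : x ∈ (I • ⊤ : Submodule A N)) (hux : u x = 0) : x ∈ I • LinearMap.ker u := by
  obtain ⟨t, rfl⟩ := exists_mulMap_eq I x hx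
  have hnat : ∀ t : I ⊗[A] N, mulMap I M (LinearMap.lTensor I u t) = u (mulMap I N t) := by
    intro t
    induction t using TensorProduct.induction_on with
    | zero => simp
    | tmul a n => simp
    | add t s ht hs => simp only [map_add, ht, hs]
  have hinjM : Function.Injective (mulMap I M) := by
    unfold mulMap
    rw [LinearMap.coe_comp]
    exact (TensorProduct.lid A M).injective.comp
      (Module.Flat.rTensor_preserves_injective_linearMap I.subtype Subtype.val_injective)
  have h0 : LinearMap.lTensor I u t = 0 := by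
    apply hinjM
    rw [hnat, hux, map_zero]
  have hex : Function.Exact (LinearMap.lTensor I (LinearMap.ker u).subtype) (LinearMap.lTensor I u) :=
    lTensor_exact I (LinearMap.exact_subtype_ker_map u) hu
  obtain ⟨s, rfl⟩ := (hex t).1 h0
  exact mulMap_lTensor_mem I _ s

end


/-- Let A be a ring, J an ideal of A, and M, N two A-modules which are Hausdorff for the J-adic
topology; suppose moreover that N is J-adically complete and M is flat. Let u : N → M be A-linear.
If the induced map N/JN → M/JM is bijective (surjectivity and injectivity written out below), then u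
is bijective. -/
theorem result {A : Type u} [CommRing A] (J : Ideal A)
    {M N : Type u} [AddCommGroup M] [Module A M] [AddCommGroup N] [Module A N]
    [IsHausdorff J M] [IsAdicComplete J N] [Module.Flat A M] (u : N →ₗ[A] M)
    (hsurj : ∀ m : M, ∃ n : N, m - u n ∈ (J • ⊤ : Submodule A M))
    (hinj : ∀ n : N, u n ∈ (J • ⊤ : Submodule A M) → n ∈ (J • ⊤ : Submodule A N)) :
    Function.Bijective u := by
  have hsurj' : Function.Surjective u := by
    apply surjective_of_mkQ_comp_surjective (I := J)
    intro y
    obtain ⟨m, rfl⟩ := Submodule.mkQ_surjective _ y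
    obtain ⟨n, hn⟩ := hsurj m
    refine ⟨n, ?_⟩
    simp only [LinearMap.comp_apply, Submodule.mkQ_apply]
    rw [eq_comm, Submodule.Quotient.eq]
    exact hn
  refine ⟨?_, hsurj'⟩
  rw [← LinearMap.ker_eq_bot, eq_bot_iff]
  have hK : LinearMap.ker u ≤ J • LinearMap.ker u := by
    intro n hn
    exact mem_smul_ker J u hsurj' n (hinj n (by rw [LinearMap.mem_ker.1 hn]; exact Submodule.zero_mem _))
      (LinearMap.mem_ker.1 hn)
  have hpow : ∀ k : ℕ, LinearMap.ker u ≤ (J ^ k • ⊤ : Submodule A N) := by
    intro k
    induction k with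
    | zero => simp
    | succ k ih =>
      calc LinearMap.ker u ≤ J • LinearMap.ker u := hK
        _ ≤ J • (J ^ k • ⊤ : Submodule A N) := Submodule.smul_mono le_rfl ih
        _ = (J ^ (k + 1) • ⊤ : Submodule A N) := by rw [← Submodule.mul_smul, ← pow_succ']
  intro n hn
  rw [Submodule.mem_bot]
  apply IsHausdorff.haus (I := J) inferInstance
  intro k
  rw [SModEq.zero]
  exact hpow k hn

end Groth.Agent.S4515
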