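import Groth.Statements.S4516
import Mathlib

set_option autoImplicit false
universe u
open EGA41

namespace Groth.Agent.S4516



/-- Let p be a prime, B an A-algebra of characteristic p and A' an A-subalgebra of B contained in
A[B^p]. Then the canonical map between Ω_{B/A} and Ω_{B/A'} is bijective (every A-derivation of B
vanishes on A[B^p]). -/
theorem result (p : ℕ) [Fact p.Prime] {A B : Type u}
    [CommRing A] [CommRing B] [Algebra A B] [CharP B p] (A' : Subalgebra A B)
    (hA' : A' ≤ EGA41.pPowerSubalgebra p A B) :
    Function.Bijective (KaehlerDifferential.map A A' B B) := by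
  have hD : ∀ x ∈ EGA41.pPowerSubalgebra p A B, KaehlerDifferential.D A B x = 0 := by
    intro x hx
    unfold EGA41.pPowerSubalgebra at hx
    induction hx using Algebra.adjoin_induction with
    | mem x hx =>
      obtain ⟨b, rfl⟩ := hx
      rw [Derivation.leibniz_pow, ← Nat.cast_smul_eq_nsmul B, CharP.cast_eq_zero, zero_smul]
    | algebraMap r => simp
    | add x y _ _ hx hy => rw [map_add, hx, hy, add_zero]
    | mul x y _ _ hx hy => rw [Derivation.leibniz, hx, hy, smul_zero, smul_zero, add_zero]
  constructor
  · rw [← LinearMap.ker_eq_bot, ← KaehlerDifferential.range_mapBaseChange, LinearMap.range_eq_bot]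
    apply LinearMap.ext
    intro t
    induction t using TensorProduct.induction_on with
    | zero => simp
    | tmul b y =>
      rw [KaehlerDifferential.mapBaseChange_tmul]
      have h0 : KaehlerDifferential.map A A A' B y = 0 := by
        have hy : y ∈ Submodule.span A' (Set.range (KaehlerDifferential.D A A')) := by
          rw [KaehlerDifferential.span_range_derivation]
          trivial
        induction hy using Submodule.span_induction with
        | mem y hy =>
          obtain ⟨a', rfl⟩ := hy
          rw [KaehlerDifferential.map_D]
          exact hD _ (hA' a'.2)
        | zero => simp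
        | add y z _ _ hy hz => rw [map_add, hy, hz, add_zero]
        | smul c y _ hy => rw [map_smul, hy, smul_zero]
      rw [h0, smul_zero]
      rfl
    | add t s ht hs =>
      rw [map_add, ht, hs]
      simp
  · exact KaehlerDifferential.map_surjective A A' B

end Groth.Agent.S4516
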