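import Groth.Statements.S4519
import Groth.Agent.Lib.Helper17.PBasis
import Mathlib

set_option autoImplicit false
universe u
open EGA41

namespace Groth.Agent.S4519

/-- Let p be a prime, B a ring of characteristic p and A a subring of B with B^p ⊆ A (here: A → B
injective with every p-th power in its image; R → A → B with the image of R in B equal to the set of
p-th powers, so that R stands for B^p). If B admits a p-basis over A, then B is a formally smooth
A-algebra relative to R for the discrete topologies (square-zero liftings, as in the prelude's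
relative notion). -/
theorem result (p : ℕ) [Fact p.Prime] {R A B : Type u} [CommRing R] [CommRing A]
    [CommRing B] [Algebra R A] [Algebra A B] [Algebra R B] [IsScalarTower R A B] [CharP B p]
    (hinj : Function.Injective (algebraMap A B)) (hpow : ∀ b : B, b ^ p ∈ Set.range (algebraMap A B))
    (hR : Set.range (algebraMap R B) = Set.range fun b : B => b ^ p)
    {ι : Type u} (x : ι → B) (hx : EGA41.IsPBasis p A x) :
    EGA41.IsFormallySmoothRel R A B := by
  classical
  intro C _ _ _ _ J hJ u₀ ⟨u, hu⟩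
  have hp : p.Prime := Fact.out
  have hRle : ∀ r : EGA41.pPowerSubalgebra p A B, ∃ a : A, algebraMap A B a = (r : B) := by
    rintro ⟨r, hr⟩
    have hle : EGA41.pPowerSubalgebra p A B ≤ (⊥ : Subalgebra A B) := by
      apply Algebra.adjoin_le
      rintro _ ⟨b, rfl⟩
      exact Algebra.mem_bot.mpr (hpow b)
    exact Algebra.mem_bot.mp (hle hr)
  choose ρ₀ hρ₀ using hRle
  obtain ⟨ρ, hρ⟩ : ∃ ρ : EGA41.pPowerSubalgebra p A B →+* A, ∀ r, algebraMap A B (ρ r) = (r : B) :=
    ⟨{ toFun := ρ₀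
       map_one' := hinj (by rw [hρ₀, map_one]; rfl)
       map_mul' := fun r s => hinj (by rw [map_mul, hρ₀, hρ₀, hρ₀]; rfl)
       map_zero' := hinj (by rw [hρ₀, map_zero]; rfl)
       map_add' := fun r s => hinj (by rw [map_add, hρ₀, hρ₀, hρ₀]; rfl) }, hρ₀⟩
  have hρ_alg : ∀ (a : A) (h : algebraMap A B a ∈ EGA41.pPowerSubalgebra p A B),
      ρ ⟨algebraMap A B a, h⟩ = a := fun a h => hinj (hρ _)
  letI : Algebra (EGA41.pPowerSubalgebra p A B) C := ((algebraMap A C).comp ρ).toAlgebra
  have halg : ∀ r, algebraMap (EGA41.pPowerSubalgebra p A B) C r = algebraMap A C (ρ r) :=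
    fun r => rfl
  have halgQ : ∀ r, algebraMap (EGA41.pPowerSubalgebra p A B) (C ⧸ J) r
      = Ideal.Quotient.mk J (algebraMap A C (ρ r)) := fun r => rfl
  have hu' : ∀ b, Ideal.Quotient.mk J (u b) = u₀ b := fun b => AlgHom.congr_fun hu b
  -- the key identity
  have hzp : ∀ i, u (x i) ^ p = algebraMap (EGA41.pPowerSubalgebra p A B) C
      (Groth.Agent.Lib.helper17.PBasis.ppow p A (x i)) := by
    intro i
    rw [halg]
    obtain ⟨r, hr⟩ : x i ^ p ∈ Set.range (algebraMap R B) := by
      rw [hR]; exact ⟨x i, rfl⟩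
    have h1 : ρ (Groth.Agent.Lib.helper17.PBasis.ppow p A (x i)) = algebraMap R A r := by
      apply hinj
      rw [hρ, ← IsScalarTower.algebraMap_apply, hr]; rfl
    rw [h1, ← map_pow, ← hr, u.commutes, ← IsScalarTower.algebraMap_apply]
  obtain ⟨w, hw, hwu⟩ := Groth.Agent.Lib.helper17.PBasis.existsUnique_algHom hx (fun i => u (x i)) hzp
  have hzpQ : ∀ i, (u₀ (x i)) ^ p = algebraMap (EGA41.pPowerSubalgebra p A B) (C ⧸ J)
      (Groth.Agent.Lib.helper17.PBasis.ppow p A (x i)) := by
    intro i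
    rw [← hu', ← map_pow, hzp]; rfl
  obtain ⟨w₂, -, hw₂u⟩ :=
    Groth.Agent.Lib.helper17.PBasis.existsUnique_algHom hx (fun i => u₀ (x i)) hzpQ
  obtain ⟨v, hv⟩ : ∃ v : B →ₐ[A] C, ∀ b, v b = w b := by
    refine ⟨{ w.toRingHom with commutes' := fun a => ?_ }, fun b => rfl⟩
    have hmem : algebraMap A B a ∈ EGA41.pPowerSubalgebra p A B := Subalgebra.algebraMap_mem _ a
    have := w.commutes ⟨algebraMap A B a, hmem⟩
    rw [halg, hρ_alg] at this
    exact this
  obtain ⟨u₀R, hu₀R⟩ : ∃ u₀R : B →ₐ[EGA41.pPowerSubalgebra p A B] C ⧸ J, ∀ b, u₀R b = u₀ b := by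
    refine ⟨{ u₀.toRingHom with commutes' := fun r => ?_ }, fun b => rfl⟩
    show u₀ (r : B) = _
    rw [← hρ r, u₀.commutes, halgQ]; rfl
  refine ⟨v, ?_⟩
  have h1 : (Ideal.Quotient.mkₐ (EGA41.pPowerSubalgebra p A B) J).comp w = w₂ :=
    hw₂u _ (fun i => by rw [AlgHom.comp_apply, hw]; exact hu' _)
  have h2 : u₀R = w₂ := hw₂u _ (fun i => by rw [hu₀R])
  ext b
  have := AlgHom.congr_fun (h1.trans h2.symm) b
  rw [hu₀R] at this
  show Ideal.Quotient.mk J (v b) = u₀ b
  rw [hv]
  exact this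

end Groth.Agent.S4519
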