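import Groth.Statements.S4520
import Groth.Agent.LibImperf29b

set_option autoImplicit false
universe u
open EGA41

namespace Groth.Agent.S4520

open TensorProduct in
/-- Let p be a prime, B a reduced ring of characteristic p, A a subring with B^p ⊆ A ⊆ B (here A → B
injective with all p-th powers in its image, and R → A → B with image in B the set of p-th powers, R
standing for B^p). Suppose B has a p-basis (x_λ) over A and A has a p-basis over R, and let x'_λ ∈ A
map to x_λ^p. Then the elements 1 ⊗ d_{A/ℤ}(x'_λ) form a basis of the B-module Υ_{B/A}, the kernel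
of B ⊗_A Ω_{A/ℤ} → Ω_{B/ℤ}. (The published statement also identifies Υ_{B/A} with the Frobenius
twist of Ω_{B/A}; this row states only the basis.) -/
theorem result (p : ℕ) [Fact p.Prime] {R A B : Type u} [CommRing R] [CommRing A]
    [CommRing B] [IsReduced B] [Algebra R A] [Algebra A B] [Algebra R B] [IsScalarTower R A B] [CharP B p]
    (hinj : Function.Injective (algebraMap A B)) (hpow : ∀ b : B, b ^ p ∈ Set.range (algebraMap A B))
    (hR : Set.range (algebraMap R B) = Set.range fun b : B => b ^ p)
    {Λ M : Type u} (x : Λ → B) (hx : EGA41.IsPBasis p A x) (x' : Λ → A) (hx' : ∀ i, algebraMap A B (x' i) = x i ^ p)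
    (y : M → A) (hy : EGA41.IsPBasis p R y) :
    ∃ b : Module.Basis Λ B (EGA41.imperfection ℤ A B),
      ∀ i, (b i : B ⊗[A] Ω[A⁄ℤ]) = (1 : B) ⊗ₜ[A] KaehlerDifferential.D ℤ A (x' i) := by
  obtain ⟨cA, hcA1, hcA2⟩ := Groth.Agent.LibImperf29b.basisA p hinj hpow hR x hx x' hx' y hy
  obtain ⟨cB, hcB1, hcB2⟩ := Groth.Agent.LibImperf29b.basisB p hinj hR x hx y hy
  have h0 : ∀ l, KaehlerDifferential.mapBaseChange ℤ A B ((cA.baseChange B) (Sum.inl l)) = 0 := by
    intro l
    rw [Module.Basis.baseChange_apply, KaehlerDifferential.mapBaseChange_tmul, one_smul, hcA1,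
      KaehlerDifferential.map_D, hx', Derivation.leibniz_pow, ← Nat.cast_smul_eq_nsmul B,
      CharP.cast_eq_zero, zero_smul]
  have hli : LinearIndependent B
      (fun m => KaehlerDifferential.mapBaseChange ℤ A B ((cA.baseChange B) (Sum.inr m))) := by
    have h : (fun m => KaehlerDifferential.mapBaseChange ℤ A B ((cA.baseChange B) (Sum.inr m)))
        = fun m => cB (Sum.inl m) := by
      funext m
      rw [Module.Basis.baseChange_apply, KaehlerDifferential.mapBaseChange_tmul, one_smul, hcA2,
        KaehlerDifferential.map_D, hcB1]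
    rw [h]
    exact cB.linearIndependent.comp _ Sum.inl_injective
  obtain ⟨c, hc⟩ := Groth.Agent.LibImperf29a.exists_basis_ker (cA.baseChange B)
    (KaehlerDifferential.mapBaseChange ℤ A B) h0 hli
  refine ⟨c, fun i => ?_⟩
  exact (hc i).trans (by rw [Module.Basis.baseChange_apply, hcA1])

end Groth.Agent.S4520
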