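import Groth.Statements.S4522
import Groth.Agent.LibPB29c
import Groth.Agent.S2468
-- import your own Groth.Agent.* helpers here

set_option autoImplicit false
universe u
open EGA41

namespace Groth.Agent.S4522

open Groth.Agent.LibPB29


/-- Let L be a field of characteristic p > 0 and K a subfield with L^p ⊆ K ⊆ L (here R → K → L with the
image of R in L the set of p-th powers and every p-th power of L in the image of K). Then the
canonical L-linear map L ⊗_K Ω_{K/L^p} → Ω_{L/L^p} is injective, so that 0 → Ω_{K/L^p} ⊗_K L →
Ω_{L/L^p} → Ω_{L/K} → 0 is exact: the imperfection module of L over K relative to L^p vanishes. -/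
theorem result (p : ℕ) [Fact p.Prime] {R K L : Type u} [Field R] [Field K] [Field L]
    [Algebra R K] [Algebra K L] [Algebra R L] [IsScalarTower R K L] [CharP L p]
    (hR : Set.range (algebraMap R L) = Set.range fun y : L => y ^ p)
    (hK : ∀ y : L, y ^ p ∈ Set.range (algebraMap K L)) :
    Function.Injective (KaehlerDifferential.mapBaseChange R K L) := by
  have hcK : CharP K p := (Algebra.charP_iff K L p).2 inferInstance
  obtain ⟨B, hBbasis, b, hb⟩ := exists_pbasis p R (K := K)
  apply LinearMap.injective_of_linearIndependent (v := b.baseChange L) (b.baseChange L).span_eq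
  have hfun : (KaehlerDifferential.mapBaseChange R K L) ∘ (b.baseChange L) =
      fun z : B => KaehlerDifferential.D R L (algebraMap K L z) := by
    funext z
    simp [Module.Basis.baseChange_apply, hb]
  rw [hfun]
  refine ((Groth.Agent.S2468.result p (fun z : B => algebraMap K L z)).1).1 ?_
  unfold IsPIndependent
  have h0 : LinearIndependent (pPowerSubalgebra p R K)
      (fun e : {e : B →₀ ℕ // ∀ i, e i < p} => pMonomial (Subtype.val : B → K) e.1) := hBbasis.1
  have hmem : ∀ r : pPowerSubalgebra p R L, ∃ a : R, algebraMap R L a = r := by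
    intro r
    have hle : pPowerSubalgebra p R L ≤ ⊥ := by
      apply Algebra.adjoin_le
      rintro _ ⟨y, rfl⟩
      have : y ^ p ∈ Set.range (algebraMap R L) := by rw [hR]; exact ⟨y, rfl⟩
      exact Algebra.mem_bot.2 this
    exact Algebra.mem_bot.1 (hle r.2)
  choose a ha using hmem
  have := h0.map_of_injective_injective (R' := pPowerSubalgebra p R L)
    (fun r => ⟨algebraMap R K (a r), Subalgebra.algebraMap_mem _ _⟩)
    ((algebraMap K L : K →+* L).toAddMonoidHom) ?_ ?_ ?_
  · have hfun2 : (fun e : {e : B →₀ ℕ // ∀ i, e i < p} =>
        pMonomial (fun z : B => algebraMap K L z) e.1) =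
        ((algebraMap K L : K →+* L).toAddMonoidHom ∘
          fun e : {e : B →₀ ℕ // ∀ i, e i < p} => pMonomial (Subtype.val : B → K) e.1) := by
      funext e
      simp only [pMonomial, Function.comp_apply, RingHom.toAddMonoidHom_eq_coe,
        AddMonoidHom.coe_coe]
      rw [map_finsuppProd]
      simp only [map_pow]
    rw [hfun2]
    exact this
  · intro r hr
    apply Subtype.ext
    have h1 : algebraMap R K (a r) = 0 := congrArg Subtype.val hr
    rw [← ha r, IsScalarTower.algebraMap_apply R K L, h1, map_zero]
    rfl
  · intro m hm
    exact (map_eq_zero (algebraMap K L)).1 hm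
  · intro r m
    simp only [RingHom.toAddMonoidHom_eq_coe, AddMonoidHom.coe_coe]
    rw [Algebra.smul_def, Algebra.smul_def, map_mul]
    congr 1
    show algebraMap K L (algebraMap R K (a r)) = (r : L)
    rw [← IsScalarTower.algebraMap_apply, ha]

end Groth.Agent.S4522
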