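import Groth.Statements.S4526
import Groth.Agent.LibCart29d
-- import your own Groth.Agent.* helpers here

set_option autoImplicit false
universe u
open EGA41

namespace Groth.Agent.S4526

open Groth.Agent.LibCart29 Module in

/-- Let k ⊆ K ⊆ L be three fields with L an extension of finite type of k. Then Ω_{L/k} and Ω_{K/k} are
finite-dimensional and rank_L Ω_{L/k} − rank_K Ω_{K/k} ≥ trdeg_K L. (The published statement also
gives the exact value trdeg_K L + d(L/K, k) and an equality criterion; this row states only the
inequality.) -/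
theorem result {k K L : Type u} [Field k] [Field K] [Field L]
    [Algebra k K] [Algebra K L] [Algebra k L] [IsScalarTower k K L] [Algebra.EssFiniteType k L] :
    Module.Finite L (Ω[L⁄k]) ∧ Module.Finite K (Ω[K⁄k]) ∧
      (Cardinal.toNat (Algebra.trdeg K L) : ℤ) ≤ (Module.finrank L (Ω[L⁄k]) : ℤ) - Module.finrank K (Ω[K⁄k]) := by
  have hess : Algebra.EssFiniteType K L := Algebra.EssFiniteType.of_comp k K L
  have hfinL : Module.Finite L (Ω[L⁄k]) := inferInstance
  obtain ⟨⟨h1, h2⟩, h3⟩ := fg_le k K L
  have hfinT : Module.Finite L (TensorProduct K L (Ω[K⁄k])) :=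
    finiteDimensional_of_ker_range (KaehlerDifferential.mapBaseChange k K L) h2 inferInstance
  have hfinK : Module.Finite K (Ω[K⁄k]) := by
    rw [← Module.rank_lt_aleph0_iff] at hfinT ⊢
    rw [Module.rank_baseChange, Cardinal.lift_lt_aleph0] at hfinT
    exact hfinT
  refine ⟨hfinL, hfinK, ?_⟩
  have hi := ind_eq_finrank_sub (KaehlerDifferential.mapBaseChange k K L)
  rw [ind_eq_chi, Module.finrank_baseChange] at hi
  rw [← hi]
  exact h3

end Groth.Agent.S4526
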