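import Groth.Statements.S4529
import Mathlib

set_option autoImplicit false
universe u
open EGA41

namespace Groth.Agent.S4529

/-- an endomorphism congruent to the identity modulo `J • ⊤` is bijective, under either hypothesis. -/
lemma bijective_of_congr_id {A : Type u} [CommRing A] {M : Type u} [AddCommGroup M] [Module A M]
    (J : Ideal A) (hJ : IsNilpotent J ∨ (J ≤ (⊥ : Ideal A).jacobson ∧ Module.Finite A M))
    (t : M →ₗ[A] M) (ht : ∀ m, t m - m ∈ (J • ⊤ : Submodule A M)) : Function.Bijective t := by
  rcases hJ with hnil | ⟨hjac, hfin⟩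
  · -- nilpotent case
    obtain ⟨k, hk⟩ := hnil
    let e : Module.End A M := 1 - t
    have he : ∀ m, e m ∈ (J • ⊤ : Submodule A M) := by
      intro m
      have := ht m
      have h2 : e m = -(t m - m) := by simp [e]
      rw [h2]
      exact Submodule.neg_mem _ this
    have hpow : ∀ n : ℕ, ∀ m, (e ^ n) m ∈ (J ^ n • ⊤ : Submodule A M) := by
      intro n
      induction n with
      | zero => intro m; simp
      | succ n ih =>
        intro m
        rw [pow_succ' e n, Module.End.mul_apply]
        have h1 : e ((e ^ n) m) ∈ Submodule.map e (J ^ n • ⊤ : Submodule A M) :=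
          Submodule.mem_map_of_mem (ih m)
        rw [Submodule.map_smul''] at h1
        have h2 : Submodule.map e ⊤ ≤ (J • ⊤ : Submodule A M) := by
          rintro _ ⟨x, -, rfl⟩
          exact he x
        have h3 : (J ^ n • Submodule.map e ⊤ : Submodule A M) ≤ J ^ (n + 1) • ⊤ := by
          rw [pow_succ, Submodule.mul_smul]
          exact Submodule.smul_mono le_rfl h2
        exact h3 h1
    have hnilp : IsNilpotent e := by
      refine ⟨k, ?_⟩
      apply LinearMap.ext
      intro m
      have := hpow k m
      rw [hk, Ideal.zero_eq_bot, Submodule.bot_smul, Submodule.mem_bot] at this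
      simpa using this
    have hunit : IsUnit (1 - e) := hnilp.isUnit_one_sub
    have hte : (1 - e : Module.End A M) = t := by simp [e]
    rw [hte] at hunit
    exact (Module.End.isUnit_iff t).1 hunit
  · -- Jacobson case
    have hsurj : Function.Surjective t := by
      apply LinearMap.surjective_of_surjective_comp_mkQ t J hjac
      intro y
      obtain ⟨m, rfl⟩ := Submodule.mkQ_surjective _ y
      refine ⟨m, ?_⟩
      rw [LinearMap.comp_apply, Submodule.mkQ_apply, Submodule.mkQ_apply, Submodule.Quotient.eq]
      exact ht m
    exact OrzechProperty.bijective_of_surjective_endomorphism t hsurj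

/-- Let A be a ring, M, N two A-modules with N projective, u : M → N a homomorphism and J an ideal of A;
suppose either (i) J is nilpotent, or (ii) J is contained in the Jacobson radical of A and M is of
finite type. Then u is left invertible if and only if the induced map u₀ : M/JM → N/JN is left
invertible. (A left inverse of u₀ composed with N → N/JN is an A-linear map v : N → M/JM with v ∘ u
the projection, and conversely; the right-hand side is written in that form.) -/
theorem result {A : Type u} [CommRing A] {M N : Type u} [AddCommGroup M] [Module A M]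
    [AddCommGroup N] [Module A N] [Module.Projective A N] (u : M →ₗ[A] N) (J : Ideal A)
    (hJ : IsNilpotent J ∨ (J ≤ (⊥ : Ideal A).jacobson ∧ Module.Finite A M)) :
    (∃ w : N →ₗ[A] M, w ∘ₗ u = LinearMap.id) ↔
      ∃ v : N →ₗ[A] M ⧸ (J • ⊤ : Submodule A M), v ∘ₗ u = (J • ⊤ : Submodule A M).mkQ := by
  constructor
  · rintro ⟨w, hw⟩
    refine ⟨(J • ⊤ : Submodule A M).mkQ ∘ₗ w, ?_⟩
    rw [LinearMap.comp_assoc, hw, LinearMap.comp_id]
  · rintro ⟨v, hv⟩
    obtain ⟨w₀, hw₀⟩ := Module.projective_lifting_property (J • ⊤ : Submodule A M).mkQ v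
      (Submodule.mkQ_surjective _)
    set t : M →ₗ[A] M := w₀ ∘ₗ u with ht
    have htm : ∀ m, t m - m ∈ (J • ⊤ : Submodule A M) := by
      intro m
      rw [← Submodule.Quotient.eq]
      have h1 := LinearMap.congr_fun hw₀ (u m)
      have h2 := LinearMap.congr_fun hv m
      simp only [LinearMap.comp_apply, Submodule.mkQ_apply] at h1 h2
      rw [ht, LinearMap.comp_apply, h1, h2]
    have hbij := bijective_of_congr_id J hJ t htm
    let te : M ≃ₗ[A] M := LinearEquiv.ofBijective t hbij
    refine ⟨te.symm.toLinearMap ∘ₗ w₀, ?_⟩
    apply LinearMap.ext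
    intro m
    simp only [LinearMap.comp_apply, LinearEquiv.coe_coe, LinearMap.id_apply]
    rw [LinearEquiv.symm_apply_eq]
    rfl

end Groth.Agent.S4529
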