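import Groth.Statements.S4530
import Mathlib
import Groth.Agent.S7753

set_option autoImplicit false
universe u
open EGA41

namespace Groth.Agent.S4530

section pieces
open TensorProduct
variable {A : Type u} [CommRing A] {M N : Type u} [AddCommGroup M] [Module A M]
  [AddCommGroup N] [Module A N]

/-- left invertibility of `u` after localizing at `S` -/
def LI (S : Submonoid A) (u : M →ₗ[A] N) : Prop :=
  ∃ w : LocalizedModule S N →ₗ[A] LocalizedModule S M,
    w ∘ₗ (LocalizedModule.map S u).restrictScalars A = LinearMap.id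

lemma map_comp_mk (S : Submonoid A) (u : M →ₗ[A] N) :
    (LocalizedModule.map S u).restrictScalars A ∘ₗ LocalizedModule.mkLinearMap S M =
      LocalizedModule.mkLinearMap S N ∘ₗ u := by
  ext m
  simp [LocalizedModule.map_mk]

/-- `κ ⊗ M → κ ⊗ M_p` is injective. -/
lemma lTensor_mk_injective (p : PrimeSpectrum A) :
    Function.Injective
      ((LocalizedModule.mkLinearMap p.asIdeal.primeCompl M).lTensor p.asIdeal.ResidueField) := by
  set κ := p.asIdeal.ResidueField
  set S := p.asIdeal.primeCompl
  have hu : ∀ s : S, IsUnit (algebraMap A κ s) := by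
    intro s
    rw [isUnit_iff_ne_zero, Ne, Ideal.algebraMap_residueField_eq_zero]
    exact s.2
  have h : ∀ s : S, IsUnit (algebraMap A (Module.End A (κ ⊗[A] M)) s) := by
    intro s
    obtain ⟨c, hc⟩ := (hu s).exists_left_inv
    rw [Module.End.isUnit_iff]
    constructor
    · intro x y hxy
      simp only [Module.algebraMap_end_apply] at hxy
      have h1 : ∀ z : κ ⊗[A] M, c • ((s : A) • z) = z := by
        intro z
        rw [← algebraMap_smul κ (s : A) z, smul_smul, hc, one_smul]
      rw [← h1 x, hxy, h1 y]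
    · intro x
      refine ⟨c • x, ?_⟩
      simp only [Module.algebraMap_end_apply]
      rw [← algebraMap_smul κ (s : A) (c • x), smul_smul, mul_comm, hc, one_smul]
  let ρ := LocalizedModule.lift S (TensorProduct.mk A κ M 1) h
  let Ψ : κ ⊗[A] (LocalizedModule S M) →ₗ[A] κ ⊗[A] M :=
    TensorProduct.lift (LinearMap.mk₂ A (fun (c : κ) (y : LocalizedModule S M) => c • ρ y)
      (fun c c' y => add_smul c c' _) (fun a c y => by rw [smul_assoc])
      (fun c y y' => by rw [map_add, smul_add])
      (fun a c y => by rw [map_smul, smul_comm]))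
  have hΨ : ∀ x, Ψ (((LocalizedModule.mkLinearMap S M).lTensor κ) x) = x := by
    intro x
    induction x using TensorProduct.induction_on with
    | zero => simp
    | tmul c m =>
      simp only [LinearMap.lTensor_tmul, LocalizedModule.mkLinearMap_apply, Ψ,
        TensorProduct.lift.tmul, LinearMap.mk₂_apply, ρ, LocalizedModule.lift_mk_one,
        TensorProduct.mk_apply]
      rw [TensorProduct.smul_tmul', smul_eq_mul, mul_one]
    | add x y hx hy => rw [map_add, map_add, hx, hy]
  exact Function.LeftInverse.injective hΨ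

theorem a_imp_b (u : M →ₗ[A] N) (p : PrimeSpectrum A) (h : LI p.asIdeal.primeCompl u) :
    Function.Injective (u.lTensor p.asIdeal.ResidueField) := by
  obtain ⟨w, hw⟩ := h
  rw [injective_iff_map_eq_zero]
  intro x hx
  apply lTensor_mk_injective p
  rw [map_zero]
  have h1 : (((LocalizedModule.map p.asIdeal.primeCompl u).restrictScalars A).lTensor
      p.asIdeal.ResidueField)
      (((LocalizedModule.mkLinearMap p.asIdeal.primeCompl M).lTensor p.asIdeal.ResidueField) x)
        = 0 := by
    rw [← LinearMap.comp_apply, ← LinearMap.lTensor_comp, map_comp_mk, LinearMap.lTensor_comp,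
      LinearMap.comp_apply, hx, map_zero]
  have h2 := congrArg (w.lTensor p.asIdeal.ResidueField) h1
  rw [← LinearMap.comp_apply, ← LinearMap.lTensor_comp, hw, LinearMap.lTensor_id,
    LinearMap.id_apply, map_zero] at h2
  exact h2

/-- global splitting data gives a left inverse after inverting `s`. -/
theorem d_of_G (u : M →ₗ[A] N) (w : N →ₗ[A] M) (s : A) (h : w ∘ₗ u = s • LinearMap.id) :
    LI (Submonoid.powers s) u := by
  have hs : IsUnit (algebraMap A (Module.End A (LocalizedModule (Submonoid.powers s) M)) s) :=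
    IsLocalizedModule.map_units (S := Submonoid.powers s)
      (LocalizedModule.mkLinearMap (Submonoid.powers s) M) ⟨s, Submonoid.mem_powers s⟩
  refine ⟨(hs.unit⁻¹).val ∘ₗ
    (LocalizedModule.map (Submonoid.powers s) w).restrictScalars A, ?_⟩
  apply IsLocalizedModule.ext (Submonoid.powers s)
    (LocalizedModule.mkLinearMap (Submonoid.powers s) M)
    (IsLocalizedModule.map_units (S := Submonoid.powers s)
      (LocalizedModule.mkLinearMap (Submonoid.powers s) M))
  rw [LinearMap.comp_assoc, LinearMap.comp_assoc, map_comp_mk,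
    ← LinearMap.comp_assoc _ _ ((LocalizedModule.map (Submonoid.powers s) w).restrictScalars A),
    map_comp_mk, LinearMap.comp_assoc, h]
  ext m
  simp only [LinearMap.coe_comp, Function.comp_apply, LinearMap.smul_apply, LinearMap.id_coe,
    id_eq, map_smul]
  exact Module.End.isUnit_apply_inv_apply_of_isUnit hs _

/-- localizing further preserves left invertibility. -/
theorem a_of_d (u : M →ₗ[A] N) (p : PrimeSpectrum A) (f : A) (hf : f ∉ p.asIdeal)
    (h : LI (Submonoid.powers f) u) : LI p.asIdeal.primeCompl u := by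
  obtain ⟨wf, hwf⟩ := h
  have hle : ∀ s : Submonoid.powers f, (s : A) ∈ p.asIdeal.primeCompl := by
    rintro ⟨s, n, rfl⟩
    exact fun hmem => hf (p.2.mem_of_pow_mem n hmem)
  have hu := IsLocalizedModule.map_units (S := p.asIdeal.primeCompl)
    (LocalizedModule.mkLinearMap p.asIdeal.primeCompl M)
  let can : LocalizedModule (Submonoid.powers f) M →ₗ[A] LocalizedModule p.asIdeal.primeCompl M :=
    LocalizedModule.lift (Submonoid.powers f)
      (LocalizedModule.mkLinearMap p.asIdeal.primeCompl M) (fun s => hu ⟨s, hle s⟩)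
  have hcan : can ∘ₗ LocalizedModule.mkLinearMap (Submonoid.powers f) M =
      LocalizedModule.mkLinearMap p.asIdeal.primeCompl M := LocalizedModule.lift_comp _ _ _
  let g : N →ₗ[A] LocalizedModule p.asIdeal.primeCompl M :=
    can ∘ₗ wf ∘ₗ LocalizedModule.mkLinearMap (Submonoid.powers f) N
  refine ⟨LocalizedModule.lift p.asIdeal.primeCompl g hu, ?_⟩
  apply IsLocalizedModule.ext p.asIdeal.primeCompl
    (LocalizedModule.mkLinearMap p.asIdeal.primeCompl M) hu
  rw [LinearMap.comp_assoc, map_comp_mk, ← LinearMap.comp_assoc, LocalizedModule.lift_comp]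
  change can ∘ₗ wf ∘ₗ LocalizedModule.mkLinearMap (Submonoid.powers f) N ∘ₗ u = _
  rw [← map_comp_mk, ← LinearMap.comp_assoc _ _ wf, hwf, LinearMap.id_comp, hcan, LinearMap.id_comp]

/-- the finite free case of (b) ⇒ global splitting data -/
theorem G_of_b_free (u : M →ₗ[A] N) [Module.Finite A M] [Module.Finite A N] [Module.Free A N]
    (p : PrimeSpectrum A) (h : Function.Injective (u.lTensor p.asIdeal.ResidueField)) :
    ∃ (w : N →ₗ[A] M) (s : A), s ∉ p.asIdeal ∧ w ∘ₗ u = s • LinearMap.id := by
  have hinj : Function.Injective ((u.baseChange (Localization.AtPrime p.asIdeal)).lTensor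
      (IsLocalRing.ResidueField (Localization.AtPrime p.asIdeal))) :=
    Groth.Agent.S7753.inj_transfer A (Localization.AtPrime p.asIdeal)
      (IsLocalRing.ResidueField (Localization.AtPrime p.asIdeal)) M N u h
  obtain ⟨l', hl'⟩ := (IsLocalRing.split_injective_iff_lTensor_residueField_injective
    (u.baseChange (Localization.AtPrime p.asIdeal))).2 hinj
  have hfp : Module.FinitePresentation A N := Module.finitePresentation_of_projective A N
  obtain ⟨w, s, hw⟩ := Module.FinitePresentation.exists_lift_of_isLocalizedModule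
    p.asIdeal.primeCompl (TensorProduct.mk A (Localization.AtPrime p.asIdeal) M 1)
    (l'.restrictScalars A ∘ₗ TensorProduct.mk A (Localization.AtPrime p.asIdeal) N 1)
  have h1 : (TensorProduct.mk A (Localization.AtPrime p.asIdeal) M 1) ∘ₗ (w ∘ₗ u) =
      (TensorProduct.mk A (Localization.AtPrime p.asIdeal) M 1) ∘ₗ ((s : A) • LinearMap.id) := by
    ext m
    have e1 := LinearMap.congr_fun hw (u m)
    have e2 := LinearMap.congr_fun hl' ((1 : Localization.AtPrime p.asIdeal) ⊗ₜ[A] m)
    simp only [LinearMap.coe_comp, Function.comp_apply, TensorProduct.mk_apply,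
      LinearMap.smul_apply, LinearMap.coe_restrictScalars, LinearMap.baseChange_tmul,
      LinearMap.id_coe, id_eq] at e1 e2 ⊢
    rw [e1, e2, TensorProduct.tmul_smul]
    rfl
  obtain ⟨t, ht⟩ := Module.Finite.exists_smul_of_comp_eq_of_isLocalizedModule
    p.asIdeal.primeCompl (TensorProduct.mk A (Localization.AtPrime p.asIdeal) M 1) _ _ h1
  refine ⟨(t : A) • w, (t : A) * s, ?_, ?_⟩
  · exact fun hmem => (p.2.mem_or_mem hmem).elim t.2 s.2
  · have := ht
    rw [Submonoid.smul_def, Submonoid.smul_def] at this
    rw [LinearMap.smul_comp, this, smul_smul]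

/-- (b) ⇒ global splitting data, for projective `N` -/
theorem G_of_b (u : M →ₗ[A] N) [Module.Finite A M] [Module.Projective A N]
    (p : PrimeSpectrum A) (h : Function.Injective (u.lTensor p.asIdeal.ResidueField)) :
    ∃ (w : N →ₗ[A] M) (s : A), s ∉ p.asIdeal ∧ w ∘ₗ u = s • LinearMap.id := by
  classical
  obtain ⟨i, hi⟩ := (Module.projective_def'.1 ‹Module.Projective A N›)
  obtain ⟨T, hT⟩ := (Module.Finite.fg_top : (⊤ : Submodule A M).FG)
  let ι₀ : Finset N := T.biUnion (fun m => (i (u m)).support)
  have hsupp : ∀ m, (i ∘ₗ u) m ∈ Finsupp.supported A A (ι₀ : Set N) := by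
    intro m
    have hm : m ∈ Submodule.span A (T : Set M) := by rw [hT]; trivial
    induction hm using Submodule.span_induction with
    | mem x hx =>
      rw [Finsupp.mem_supported]
      intro n hn
      exact Finset.mem_coe.2 (Finset.mem_biUnion.2 ⟨x, hx, hn⟩)
    | zero => rw [map_zero]; exact Submodule.zero_mem _
    | add x y _ _ hx hy => rw [map_add]; exact Submodule.add_mem _ hx hy
    | smul a x _ hx => rw [map_smul]; exact Submodule.smul_mem _ _ hx
  let u'' : M →ₗ[A] Finsupp.supported A A (ι₀ : Set N) :=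
    LinearMap.codRestrict (Finsupp.supported A A (ι₀ : Set N)) (i ∘ₗ u) hsupp
  have hfree : Module.Free A (Finsupp.supported A A (ι₀ : Set N)) :=
    Module.Free.of_equiv (Finsupp.supportedEquivFinsupp (ι₀ : Set N)).symm
  have hfin : Module.Finite A (Finsupp.supported A A (ι₀ : Set N)) :=
    Module.Finite.equiv (Finsupp.supportedEquivFinsupp (ι₀ : Set N)).symm
  have hcomp : (Finsupp.supported A A (ι₀ : Set N)).subtype ∘ₗ u'' = i ∘ₗ u := by
    ext m; rfl
  have hi_inj : Function.Injective (i.lTensor p.asIdeal.ResidueField) := by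
    apply Function.LeftInverse.injective
      (g := (Finsupp.linearCombination A (id : N → N)).lTensor p.asIdeal.ResidueField)
    intro x
    rw [← LinearMap.comp_apply, ← LinearMap.lTensor_comp, hi, LinearMap.lTensor_id,
      LinearMap.id_apply]
  have key : ∀ x, ((Finsupp.supported A A (ι₀ : Set N)).subtype.lTensor p.asIdeal.ResidueField)
      ((u''.lTensor p.asIdeal.ResidueField) x) =
      (i.lTensor p.asIdeal.ResidueField) ((u.lTensor p.asIdeal.ResidueField) x) := by
    intro x
    rw [← LinearMap.comp_apply, ← LinearMap.lTensor_comp, hcomp, LinearMap.lTensor_comp,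
      LinearMap.comp_apply]
  have hinj : Function.Injective (u''.lTensor p.asIdeal.ResidueField) := by
    intro x y hxy
    apply h
    apply hi_inj
    rw [← key, ← key, hxy]
  have step1 := @G_of_b_free A _ M (↥(Finsupp.supported A A (ι₀ : Set N))) _ _ _ _ u'' _ hfin
  have step2 := @step1 hfree p
  have step3 := step2 hinj
  obtain ⟨w'', s, hs, hw''⟩ := step3
  refine ⟨w'' ∘ₗ (Finsupp.restrictDom A A (ι₀ : Set N)) ∘ₗ i, s, hs, ?_⟩
  have h2 : (Finsupp.restrictDom A A (ι₀ : Set N)) ∘ₗ (i ∘ₗ u) = u'' := by
    rw [← hcomp, ← LinearMap.comp_assoc, Finsupp.restrictDom_comp_subtype, LinearMap.id_comp]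
  rw [LinearMap.comp_assoc, LinearMap.comp_assoc, h2, hw'']

end pieces


open TensorProduct in
/-- Let A be a ring, M an A-module of finite type, N a projective A-module, u : M → N a homomorphism.
For a prime ideal 𝔭 the following are equivalent: (a) u_𝔭 : M_𝔭 → N_𝔭 is left invertible; (b) u ⊗ 1
: M ⊗ k(𝔭) → N ⊗ k(𝔭) is injective; (d) there is f ∉ 𝔭 with u_f : M_f → N_f left invertible.
Moreover the set of such 𝔭 is open in Spec A. (The published statement also has a determinant
criterion (c); this row omits it.) -/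
theorem result {A : Type u} [CommRing A] {M N : Type u} [AddCommGroup M] [Module A M]
    [Module.Finite A M] [AddCommGroup N] [Module A N] [Module.Projective A N] (u : M →ₗ[A] N) :
    (∀ p : PrimeSpectrum A,
      [∃ w : LocalizedModule p.asIdeal.primeCompl N →ₗ[A] LocalizedModule p.asIdeal.primeCompl M,
          w ∘ₗ LocalizedModule.map p.asIdeal.primeCompl u = LinearMap.id,
       Function.Injective (u.lTensor p.asIdeal.ResidueField),
       ∃ f : A, f ∉ p.asIdeal ∧
          ∃ w : LocalizedModule (Submonoid.powers f) N →ₗ[A] LocalizedModule (Submonoid.powers f) M,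
            w ∘ₗ LocalizedModule.map (Submonoid.powers f) u = LinearMap.id].TFAE) ∧
    IsOpen {p : PrimeSpectrum A |
      ∃ w : LocalizedModule p.asIdeal.primeCompl N →ₗ[A] LocalizedModule p.asIdeal.primeCompl M,
        w ∘ₗ LocalizedModule.map p.asIdeal.primeCompl u = LinearMap.id} := by
  have tfae : ∀ p : PrimeSpectrum A,
      [LI p.asIdeal.primeCompl u, Function.Injective (u.lTensor p.asIdeal.ResidueField),
        ∃ f : A, f ∉ p.asIdeal ∧ LI (Submonoid.powers f) u].TFAE := by
    intro p
    tfae_have 1 → 2 := a_imp_b u p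
    tfae_have 2 → 3 := by
      intro h
      obtain ⟨w, s, hs, hw⟩ := G_of_b u p h
      exact ⟨s, hs, d_of_G u w s hw⟩
    tfae_have 3 → 1 := by
      rintro ⟨f, hf, h⟩
      exact a_of_d u p f hf h
    tfae_finish
  refine ⟨tfae, ?_⟩
  have hset : {p : PrimeSpectrum A | LI p.asIdeal.primeCompl u} =
      ⋃ f ∈ {f : A | LI (Submonoid.powers f) u},
        (PrimeSpectrum.basicOpen f : Set (PrimeSpectrum A)) := by
    ext p
    simp only [Set.mem_ofPred_eq, Set.mem_iUnion, SetLike.mem_coe, PrimeSpectrum.mem_basicOpen,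
      exists_prop]
    have h02 : LI p.asIdeal.primeCompl u ↔ ∃ f : A, f ∉ p.asIdeal ∧ LI (Submonoid.powers f) u :=
      (tfae p).out 0 2
    rw [h02]
    constructor
    · rintro ⟨f, hf, h⟩; exact ⟨f, h, hf⟩
    · rintro ⟨f, h, hf⟩; exact ⟨f, hf, h⟩
  change IsOpen {p : PrimeSpectrum A | LI p.asIdeal.primeCompl u}
  rw [hset]
  exact isOpen_biUnion fun f _ => (PrimeSpectrum.basicOpen f).2

end Groth.Agent.S4530
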