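import Groth.Statements.S4531
import Groth.Agent.Lib.Helper24.LeftInv2

set_option autoImplicit false
universe u
open EGA41

namespace Groth.Agent.S4531

open TensorProduct in
/-- Let A be a ring, M an A-module of finite type, N a projective A-module and u : M → N a homomorphism.
(i) u is left invertible if and only if u_𝔪 : M_𝔪 → N_𝔪 is left invertible for every maximal ideal 𝔪
of A. (ii) If A' is an A-algebra which is a faithfully flat A-module, u is left invertible if and
only if u ⊗ 1 : M ⊗_A A' → N ⊗_A A' is left invertible (as an A'-linear map). -/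
theorem result {A : Type u} [CommRing A] {M N : Type u} [AddCommGroup M] [Module A M]
    [Module.Finite A M] [AddCommGroup N] [Module A N] [Module.Projective A N] (u : M →ₗ[A] N) :
    ((∃ w : N →ₗ[A] M, w ∘ₗ u = LinearMap.id) ↔
      ∀ (m : Ideal A) [m.IsMaximal],
        ∃ w : LocalizedModule m.primeCompl N →ₗ[A] LocalizedModule m.primeCompl M,
          w ∘ₗ LocalizedModule.map m.primeCompl u = LinearMap.id) ∧
    ∀ (A' : Type u) [CommRing A'] [Algebra A A'] [Module.FaithfullyFlat A A'],
      (∃ w : N →ₗ[A] M, w ∘ₗ u = LinearMap.id) ↔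
        ∃ w : A' ⊗[A] N →ₗ[A'] A' ⊗[A] M, w ∘ₗ u.baseChange A' = LinearMap.id := by
  refine ⟨⟨?_, fun h => Groth.Agent.Lib.Helper24.LeftInv.leftInverse_of_localized u h⟩,
    fun A' _ _ _ => ⟨?_, Groth.Agent.Lib.Helper24.LeftInv.leftInverse_of_baseChange u A'⟩⟩
  · rintro ⟨w, hw⟩ m _
    refine ⟨(LocalizedModule.map m.primeCompl w).restrictScalars A, ?_⟩
    ext x
    simp only [LinearMap.comp_apply, LinearMap.restrictScalars_apply, LinearMap.id_apply]
    rw [Groth.Agent.Lib.Helper24.LeftInv.map_comp_apply, hw, LocalizedModule.map_id]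
    rfl
  · rintro ⟨w, hw⟩
    exact ⟨w.baseChange A', by rw [← LinearMap.baseChange_comp, hw, LinearMap.baseChange_id]⟩

end Groth.Agent.S4531
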