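import Groth.Statements.S4533
import Groth.Agent.LibPS29
-- import your own Groth.Agent.* helpers here

set_option autoImplicit false
universe u
open EGA41

namespace Groth.Agent.S4533
open Groth.Agent.LibPS29

lemma exists_uniform_nilpotent {E : Type u} [CommRing E] {n : ℕ} (z : Fin n → E)
    (hz : ∀ i, IsNilpotent (z i)) : ∃ N : ℕ, 1 ≤ N ∧ ∀ i, z i ^ (N + 1) = 0 := by
  choose k hk using hz
  refine ⟨1 + ∑ i, k i, by omega, fun i => ?_⟩
  have h1 : k i ≤ ∑ j, k j := Finset.single_le_sum (f := k) (fun _ _ => Nat.zero_le _) (Finset.mem_univ i)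
  exact pow_eq_zero_of_le (by omega) (hk i)


/-- Let A carry the 𝔞-adic topology and let B = A[[T_1, …, T_n]] carry the product topology, i.e. the
adic topology of the ideal 𝔞B + (T_1, …, T_n) (the kernel of the constant-coefficient map added to
the extension of 𝔞). Then B is a formally smooth A-algebra for these topologies. (The published
statement allows any linearly topologized base ring and any set of indeterminates with the product
topology; this row takes an adic base and finitely many indeterminates, where the product topology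
is adic.) -/
theorem result (A : Type u) [CommRing A] (𝔞 : Ideal A) (n : ℕ) :
    EGA41.IsFormallySmoothAdic A 𝔞 (MvPowerSeries (Fin n) A)
      (𝔞.map (MvPowerSeries.C : A →+* MvPowerSeries (Fin n) A) ⊔
        RingHom.ker (MvPowerSeries.constantCoeff : MvPowerSeries (Fin n) A →+* A)) := by
  intro C _ _ J hJ _ u hu
  obtain ⟨l, hl⟩ := hJ
  obtain ⟨m, hm⟩ := hu
  have huX : ∀ i, u (MvPowerSeries.X i) ^ m = 0 := by
    intro i
    rw [← map_pow]
    apply hm
    apply Ideal.pow_mem_pow
    apply Ideal.mem_sup_right
    rw [RingHom.mem_ker]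
    exact MvPowerSeries.constantCoeff_X i
  choose c hc using fun i => Ideal.Quotient.mk_surjective (u (MvPowerSeries.X i))
  have hcnil : ∀ i, IsNilpotent (c i) := by
    intro i
    refine ⟨m * l, ?_⟩
    have h1 : c i ^ m ∈ J := by
      rw [← Ideal.Quotient.eq_zero_iff_mem, map_pow, hc, huX]
    have h2 : (c i ^ m) ^ l ∈ J ^ l := Ideal.pow_mem_pow h1 l
    rw [hl] at h2
    rw [pow_mul]
    exact h2
  obtain ⟨N, hN, hcN⟩ := exists_uniform_nilpotent c hcnil
  have hzN : ∀ i, u (MvPowerSeries.X i) ^ (N + 1) = 0 := by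
    intro i
    rw [← hc, ← map_pow, hcN, map_zero]
  refine ⟨ev c N hcN, ?_⟩
  rw [algHom_eq_ev (fun i => u (MvPowerSeries.X i)) N hzN u (fun _ => rfl)]
  apply algHom_eq_ev
  intro i
  simp only [AlgHom.comp_apply, Ideal.Quotient.mkₐ_eq_mk]
  rw [ev_X c N hN hcN i, hc]

end Groth.Agent.S4533
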