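import Groth.Statements.S4534
import Mathlib

set_option autoImplicit false
universe u
open EGA41

namespace Groth.Agent.S4534

/-- Let A → B → C be continuous homomorphisms of adic rings (A with the 𝔞-adic, B the 𝔟-adic, C the
𝔠-adic topology; continuity: a power of 𝔞 maps into 𝔟 and a power of 𝔟 into 𝔠). If B is formally
smooth over A and C formally smooth over B, then C is formally smooth over A. -/
theorem result {A B C : Type u} [CommRing A] [CommRing B] [CommRing C] [Algebra A B] [Algebra B C]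
    [Algebra A C] [IsScalarTower A B C] (𝔞 : Ideal A) (𝔟 : Ideal B) (𝔠 : Ideal C)
    (hAB : ∃ k : ℕ, (𝔞 ^ k).map (algebraMap A B) ≤ 𝔟) (hBC : ∃ k : ℕ, (𝔟 ^ k).map (algebraMap B C) ≤ 𝔠)
    (hB : EGA41.IsFormallySmoothAdic A 𝔞 B 𝔟) (hC : EGA41.IsFormallySmoothAdic B 𝔟 C 𝔠) :
    EGA41.IsFormallySmoothAdic A 𝔞 C 𝔠 := by
  intro D _ _ J hJ hD u hu
  obtain ⟨k1, hk1⟩ := hBC
  obtain ⟨k2, hk2⟩ := hu
  let uB : B →ₐ[A] D ⧸ J := u.comp (IsScalarTower.toAlgHom A B C)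
  have huB : ∃ k, ∀ x ∈ 𝔟 ^ k, uB x = 0 := ⟨k1 * k2, fun x hx => by
    have h1 : algebraMap B C x ∈ (𝔟 ^ (k1 * k2)).map (algebraMap B C) :=
      Ideal.mem_map_of_mem _ hx
    rw [pow_mul, Ideal.map_pow] at h1
    exact hk2 _ (Ideal.pow_right_mono hk1 k2 h1)⟩
  obtain ⟨vB, hvB⟩ := hB D J hJ hD uB huB
  letI : Algebra B D := vB.toRingHom.toAlgebra
  haveI : IsScalarTower A B D := IsScalarTower.of_algebraMap_eq (fun a => (vB.commutes a).symm)
  obtain ⟨N, hN⟩ := hJ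
  obtain ⟨k3, hk3⟩ := huB
  have hD' : ∃ k, (𝔟 ^ k).map (algebraMap B D) = ⊥ := ⟨k3 * N, by
    rw [pow_mul, Ideal.map_pow, eq_bot_iff]
    have hN' : J ^ N = ⊥ := hN
    rw [← hN']
    apply Ideal.pow_right_mono
    rw [Ideal.map_le_iff_le_comap]
    intro x hx
    have h2 := hk3 x hx
    rw [← hvB] at h2
    have h3 : Ideal.Quotient.mk J (vB x) = 0 := h2
    have h5 : vB x ∈ J := Ideal.Quotient.eq_zero_iff_mem.mp h3
    exact h5⟩
  let uC : C →ₐ[B] D ⧸ J :=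
    { u.toRingHom with
      commutes' := fun b => by
        have h4 := congrArg (fun f => f b) hvB
        exact h4.symm }
  obtain ⟨v, hv⟩ := hC D J ⟨N, hN⟩ hD' uC ⟨k2, hk2⟩
  refine ⟨v.restrictScalars A, ?_⟩
  ext c
  exact congrArg (fun f => f c) hv

end Groth.Agent.S4534
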