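import Groth.Statements.S4535
import Mathlib

set_option autoImplicit false
universe u
open EGA41

namespace Groth.Agent.S4535

open TensorProduct in
/-- Let B (𝔟-adic) be formally smooth over A (𝔞-adic) and let A' (𝔞'-adic) be a topological A-algebra (a
power of 𝔞 maps into 𝔞'). Then the A'-algebra A' ⊗_A B, with the tensor product topology, i.e. the
adic topology of the ideal generated by the images of 𝔞' and 𝔟, is formally smooth over A'. -/
theorem result {A B A' : Type u} [CommRing A] [CommRing B] [CommRing A'] [Algebra A B] [Algebra A A']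
    (𝔞 : Ideal A) (𝔟 : Ideal B) (𝔞' : Ideal A') (hAA' : ∃ k : ℕ, (𝔞 ^ k).map (algebraMap A A') ≤ 𝔞')
    (hB : EGA41.IsFormallySmoothAdic A 𝔞 B 𝔟) :
    EGA41.IsFormallySmoothAdic A' 𝔞' (A' ⊗[A] B)
      (𝔞'.map (algebraMap A' (A' ⊗[A] B)) ⊔
        𝔟.map (Algebra.TensorProduct.includeRight : B →ₐ[A] A' ⊗[A] B).toRingHom) := by
  intro C _ _ J hJ hC u hu
  letI : Algebra A C := ((algebraMap A' C).comp (algebraMap A A')).toAlgebra
  haveI : IsScalarTower A A' C := IsScalarTower.of_algebraMap_eq (fun a => rfl)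
  obtain ⟨k0, hk0⟩ := hAA'
  obtain ⟨k1, hk1⟩ := hC
  obtain ⟨k2, hk2⟩ := hu
  have hC' : ∃ k, (𝔞 ^ k).map (algebraMap A C) = ⊥ := ⟨k0 * k1, by
    rw [IsScalarTower.algebraMap_eq A A' C, ← Ideal.map_map, pow_mul, Ideal.map_pow, eq_bot_iff,
      ← hk1]
    exact Ideal.map_mono (Ideal.pow_right_mono hk0 k1)⟩
  let uB : B →ₐ[A] C ⧸ J :=
    (u.restrictScalars A).comp (Algebra.TensorProduct.includeRight : B →ₐ[A] A' ⊗[A] B)
  have huB : ∃ k, ∀ x ∈ 𝔟 ^ k, uB x = 0 := ⟨k2, fun x hx => by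
    apply hk2
    have h1 : (Algebra.TensorProduct.includeRight : B →ₐ[A] A' ⊗[A] B).toRingHom x ∈
        (𝔟 ^ k2).map (Algebra.TensorProduct.includeRight : B →ₐ[A] A' ⊗[A] B).toRingHom :=
      Ideal.mem_map_of_mem _ hx
    rw [Ideal.map_pow] at h1
    exact Ideal.pow_right_mono le_sup_right k2 h1⟩
  obtain ⟨vB, hvB⟩ := hB C J hJ hC' uB huB
  let v : A' ⊗[A] B →ₐ[A'] C :=
    Algebra.TensorProduct.lift (Algebra.ofId A' C) vB (fun _ _ => Commute.all _ _)
  refine ⟨v, ?_⟩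
  apply Algebra.TensorProduct.ext
  · ext
  · ext b
    have h2 := congrArg (fun f => f b) hvB
    simpa [v, uB] using h2

end Groth.Agent.S4535
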