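import Groth.Statements.S4536
import Mathlib

set_option autoImplicit false
universe u
open EGA41

namespace Groth.Agent.S4536

/-- Let A carry the 𝔞-adic and B the 𝔟-adic topology, A → B being continuous (a power of 𝔞 maps into 𝔟).
Then B is formally smooth over A if and only if for every n the (A/𝔞ⁿ)-algebra B/𝔞ⁿB, with the adic
topology of the image of 𝔟, is formally smooth over the discrete ring A/𝔞ⁿ. -/
theorem result {A B : Type u} [CommRing A] [CommRing B] [Algebra A B]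
    (𝔞 : Ideal A) (𝔟 : Ideal B) (hAB : ∃ k : ℕ, (𝔞 ^ k).map (algebraMap A B) ≤ 𝔟) :
    EGA41.IsFormallySmoothAdic A 𝔞 B 𝔟 ↔
      ∀ n : ℕ, EGA41.IsFormallySmoothAdic (A ⧸ 𝔞 ^ n) ⊥ (B ⧸ (𝔞 ^ n).map (algebraMap A B))
        (𝔟.map (Ideal.Quotient.mk ((𝔞 ^ n).map (algebraMap A B)))) := by
  constructor
  · intro h n C _ _ J hJ _ u hu
    letI : Algebra A C := ((algebraMap (A ⧸ 𝔞 ^ n) C).comp (algebraMap A (A ⧸ 𝔞 ^ n))).toAlgebra
    haveI : IsScalarTower A (A ⧸ 𝔞 ^ n) C := IsScalarTower.of_algebraMap_eq (fun a => rfl)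
    have hzero : ∀ a ∈ 𝔞 ^ n, algebraMap A C a = 0 := fun a ha => by
      rw [IsScalarTower.algebraMap_apply A (A ⧸ 𝔞 ^ n) C, Ideal.Quotient.algebraMap_eq,
        Ideal.Quotient.eq_zero_iff_mem.mpr ha, map_zero]
    have hC' : ∃ k, (𝔞 ^ k).map (algebraMap A C) = ⊥ := ⟨n, by
      rw [eq_bot_iff, Ideal.map_le_iff_le_comap]
      intro a ha
      exact hzero a ha⟩
    obtain ⟨k2, hk2⟩ := hu
    let uB : B →ₐ[A] C ⧸ J :=
      (u.restrictScalars A).comp (Ideal.Quotient.mkₐ A ((𝔞 ^ n).map (algebraMap A B)))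
    have huB : ∃ k, ∀ x ∈ 𝔟 ^ k, uB x = 0 := ⟨k2, fun x hx => by
      apply hk2
      rw [← Ideal.map_pow]
      exact Ideal.mem_map_of_mem _ hx⟩
    obtain ⟨vB, hvB⟩ := h C J hJ hC' uB huB
    have hker : ∀ b ∈ (𝔞 ^ n).map (algebraMap A B), vB b = 0 := by
      intro b hb
      have hle : (𝔞 ^ n).map (algebraMap A B) ≤ RingHom.ker vB.toRingHom := by
        rw [Ideal.map_le_iff_le_comap]
        intro a ha
        show vB (algebraMap A B a) = 0
        rw [vB.commutes]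
        exact hzero a ha
      exact hle hb
    let v0 : (B ⧸ (𝔞 ^ n).map (algebraMap A B)) →ₐ[A] C :=
      Ideal.Quotient.liftₐ ((𝔞 ^ n).map (algebraMap A B)) vB hker
    let v : (B ⧸ (𝔞 ^ n).map (algebraMap A B)) →ₐ[A ⧸ 𝔞 ^ n] C :=
      { v0.toRingHom with
        commutes' := fun r => by
          obtain ⟨a, rfl⟩ := Ideal.Quotient.mk_surjective r
          show v0 (algebraMap (A ⧸ 𝔞 ^ n) _ (Ideal.Quotient.mk _ a)) = _
          rw [Ideal.Quotient.algebraMap_quotient_map_quotient]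
          show vB (algebraMap A B a) = _
          rw [vB.commutes]
          rfl }
    refine ⟨v, ?_⟩
    ext b
    obtain ⟨b, rfl⟩ := Ideal.Quotient.mk_surjective b
    exact congrArg (fun f => f b) hvB
  · intro h C _ _ J hJ hC u hu
    obtain ⟨n, hn⟩ := hC
    have hzero : ∀ a ∈ 𝔞 ^ n, algebraMap A C a = 0 := fun a ha => by
      have : algebraMap A C a ∈ (𝔞 ^ n).map (algebraMap A C) := Ideal.mem_map_of_mem _ ha
      rwa [hn] at this
    letI : Algebra (A ⧸ 𝔞 ^ n) C := (Ideal.Quotient.lift (𝔞 ^ n) (algebraMap A C) hzero).toAlgebra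
    haveI : IsScalarTower A (A ⧸ 𝔞 ^ n) C := IsScalarTower.of_algebraMap_eq (fun a => rfl)
    have hkerU : ∀ b ∈ (𝔞 ^ n).map (algebraMap A B), u.toRingHom b = 0 := by
      intro b hb
      have hle : (𝔞 ^ n).map (algebraMap A B) ≤ RingHom.ker u.toRingHom := by
        rw [Ideal.map_le_iff_le_comap]
        intro a ha
        show u (algebraMap A B a) = 0
        rw [u.commutes, IsScalarTower.algebraMap_apply A C (C ⧸ J), hzero a ha, map_zero]
      exact hle hb
    let u' : (B ⧸ (𝔞 ^ n).map (algebraMap A B)) →ₐ[A ⧸ 𝔞 ^ n] C ⧸ J :=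
      { Ideal.Quotient.lift ((𝔞 ^ n).map (algebraMap A B)) u.toRingHom hkerU with
        commutes' := fun r => by
          obtain ⟨a, rfl⟩ := Ideal.Quotient.mk_surjective r
          show Ideal.Quotient.lift ((𝔞 ^ n).map (algebraMap A B)) u.toRingHom hkerU
            (algebraMap (A ⧸ 𝔞 ^ n) _ (Ideal.Quotient.mk _ a)) = _
          rw [Ideal.Quotient.algebraMap_quotient_map_quotient, Ideal.Quotient.lift_mk]
          show u (algebraMap A B a) = _
          rw [u.commutes]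
          rfl }
    obtain ⟨k2, hk2⟩ := hu
    have hu' : ∃ k, ∀ x ∈ (𝔟.map (Ideal.Quotient.mk ((𝔞 ^ n).map (algebraMap A B)))) ^ k,
        u' x = 0 := ⟨k2, fun x hx => by
      rw [← Ideal.map_pow] at hx
      obtain ⟨b, hb, rfl⟩ := (Ideal.mem_map_iff_of_surjective _ Ideal.Quotient.mk_surjective).mp hx
      exact hk2 b hb⟩
    obtain ⟨v', hv'⟩ := h n C J hJ ⟨1, by rw [pow_one, Ideal.map_bot]⟩ u' hu'
    refine ⟨(v'.restrictScalars A).comp (Ideal.Quotient.mkₐ A ((𝔞 ^ n).map (algebraMap A B))), ?_⟩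
    ext b
    exact congrArg (fun f => f (Ideal.Quotient.mk _ b)) hv'

end Groth.Agent.S4536
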