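import Groth.Statements.S4539
import Mathlib
import Groth.Agent.S1569
import Groth.Agent.Lib.Helper3.GeomRed

set_option autoImplicit false
universe u
open EGA41

namespace Groth.Agent.S4539

open IsLocalRing

section aux

variable (p : ℕ) [hp : (Ideal.span {(p : ℤ)}).IsPrime]

local notation "P" => Localization.AtPrime (Ideal.span {(p : ℤ)})

theorem maxP : maximalIdeal P = Ideal.span {(p : P)} := by
  rw [← Localization.AtPrime.map_eq_maximalIdeal, Ideal.map_span, Set.image_singleton]
  congr 2
  simp

theorem injP : Function.Injective (algebraMap ℤ P) :=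
  IsLocalization.injective P (M := (Ideal.span {(p : ℤ)}).primeCompl)
    (Ideal.primeCompl_le_nonZeroDivisors _)

theorem maxP_zero (h0 : p = 0) : maximalIdeal P = ⊥ := by
  rw [maxP]
  have : (p : P) = 0 := by subst h0; simp
  rw [this]; simp

theorem prime_of_ne_zero (h0 : p ≠ 0) : Nat.Prime p := by
  have h1 : Prime (p : ℤ) :=
    (Ideal.span_singleton_prime (by exact_mod_cast h0)).mp hp
  exact Nat.prime_iff_prime_int.mpr h1

theorem perfect_res : PerfectField (ResidueField P) := by
  by_cases h0 : p = 0
  · -- char zero
    haveI : CharZero (ResidueField P) := by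
      refine charZero_of_inj_zero (fun n hn => ?_)
      have h2 : (algebraMap P (ResidueField P)) (n : P) = 0 := by
        rw [map_natCast]; exact hn
      have h3 : (n : P) ∈ maximalIdeal P := by
        rwa [← IsLocalRing.residue_eq_zero_iff]
      rw [maxP_zero p h0] at h3
      simp only [Ideal.mem_bot] at h3
      have h4 : (algebraMap ℤ P) (n : ℤ) = 0 := by
        rw [← h3]; simp
      have h5 := injP p (h4.trans (map_zero _).symm)
      exact_mod_cast h5
    infer_instance
  · have hpp : Nat.Prime p := prime_of_ne_zero p h0
    haveI : Fact p.Prime := ⟨hpp⟩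
    haveI hmax : (Ideal.span {(p : ℤ)}).IsMaximal :=
      Ideal.IsPrime.isMaximal hp (by simpa using h0)
    let e := IsLocalization.AtPrime.equivQuotMaximalIdeal (Ideal.span {(p : ℤ)}) P
    haveI : Finite (ℤ ⧸ Ideal.span {(p : ℤ)}) := by
      exact Finite.of_equiv _ (Int.quotientSpanNatEquivZMod p).symm.toEquiv
    haveI : Finite (ResidueField P) := Finite.of_equiv _ e.toEquiv
    infer_instance

variable {A : Type} [CommRing A] [IsLocalRing A] [CharP (ResidueField A) p]
    [Algebra (Localization.AtPrime (Ideal.span {(p : ℤ)})) A]
    [IsLocalHom (algebraMap (Localization.AtPrime (Ideal.span {(p : ℤ)})) A)]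

theorem forward (h : EGA41.IsCohenAlgebra P A) : EGA41.IsCohenRingEGA A := by
  obtain ⟨hNP, hNA, hc, hflat, hm, hgr⟩ := h
  by_cases h0 : p = 0
  · left
    have hmA : maximalIdeal A = ⊥ := by rw [← hm, maxP_zero p h0, Ideal.map_bot]
    refine ⟨IsLocalRing.isField_iff_maximalIdeal_eq.mpr hmA, ?_⟩
    refine charZero_of_inj_zero (fun n hn => ?_)
    have h1 : (n : ResidueField A) = 0 := by
      rw [← map_natCast (algebraMap A (ResidueField A)), hn, map_zero]
    have h2 := (CharP.cast_eq_zero_iff (ResidueField A) p n).mp h1
    rw [h0] at h2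
    exact Nat.eq_zero_of_zero_dvd h2
  · right
    have hpp := prime_of_ne_zero p h0
    have hmA : maximalIdeal A = Ideal.span {(p : A)} := by
      rw [← hm, maxP, Ideal.map_span, Set.image_singleton, map_natCast]
    have hnzd : (p : A) ∈ nonZeroDivisors A := by
      have hP : IsSMulRegular P (p : P) := by
        have hne : (p : P) ≠ 0 := by
          intro h
          have h4 : (algebraMap ℤ P) (p : ℤ) = 0 := by
            rw [← h]; simp
          have h5 := injP p (h4.trans (map_zero _).symm)
          exact h0 (by exact_mod_cast h5)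
        exact (IsRegular.of_ne_zero hne).isSMulRegular
      have hA : IsSMulRegular A (algebraMap P A (p : P)) := IsSMulRegular.of_flat hP
      rw [map_natCast] at hA
      rw [mem_nonZeroDivisors_iff_right]
      intro x hx
      apply hA
      simp only [smul_eq_mul, mul_zero]
      rw [mul_comm]; exact hx
    obtain ⟨hd, hdvr⟩ := Groth.Agent.S1569.isDVR_of_maximalIdeal_eq_span (p : A) hnzd hmA
    exact ⟨hd, hdvr, hc, p, hpp, hmA⟩

theorem inj_of [IsDomain A] (hpA : p ≠ 0 → (p : A) ≠ 0) :
    Function.Injective (algebraMap P A) := by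
  rw [injective_iff_map_eq_zero]
  intro x hx
  by_contra hx0
  have hker : (RingHom.ker (algebraMap P A)).IsPrime := RingHom.ker_isPrime _
  have hne : RingHom.ker (algebraMap P A) ≠ ⊥ := fun h => hx0 (by
    have : x ∈ RingHom.ker (algebraMap P A) := hx
    rwa [h, Ideal.mem_bot] at this)
  have hmax : (RingHom.ker (algebraMap P A)).IsMaximal := hker.isMaximal hne
  have h1 := IsLocalRing.eq_maximalIdeal hmax
  by_cases h0 : p = 0
  · rw [maxP_zero p h0] at h1
    exact hne h1
  · have h2 : (p : P) ∈ RingHom.ker (algebraMap P A) := by
      rw [h1, maxP]; exact Ideal.mem_span_singleton_self _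
    rw [RingHom.mem_ker, map_natCast] at h2
    exact hpA h0 h2

theorem backward (h : EGA41.IsCohenRingEGA A) : EGA41.IsCohenAlgebra P A := by
  haveI hNP : IsNoetherianRing P := inferInstance
  haveI := perfect_res p
  rcases h with ⟨hf, hcz⟩ | ⟨hd, hdvr, hc, q, hq, hmq⟩
  · -- field of char zero
    letI := hf.toField
    have hmA : maximalIdeal A = ⊥ := IsLocalRing.isField_iff_maximalIdeal_eq.mp hf
    have h0 : p = 0 := by
      have h1 : (p : ResidueField A) = 0 := CharP.cast_eq_zero _ p
      have h2 : algebraMap A (ResidueField A) (p : A) = 0 := by rw [map_natCast]; exact h1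
      have h3 : (p : A) ∈ maximalIdeal A := by rwa [← IsLocalRing.residue_eq_zero_iff]
      rw [hmA, Ideal.mem_bot] at h3
      exact_mod_cast h3
    have hinj : Function.Injective (algebraMap P A) := inj_of p (fun h => absurd h0 h)
    haveI : Module.IsTorsionFree P A := Module.isTorsionFree_iff_algebraMap_injective.mpr hinj
    refine ⟨hNP, inferInstance, ?_, inferInstance, ?_, ?_⟩
    · rw [hmA]; infer_instance
    · rw [hmA, maxP_zero p h0, Ideal.map_bot]
    · exact Groth.Agent.Lib.helper3.GeomRed.isGeometricallyReduced_of_perfectField _ _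
  · have hqA : (q : A) ∈ maximalIdeal A := by rw [hmq]; exact Ideal.mem_span_singleton_self _
    have h1 : (q : ResidueField A) = 0 := by
      rw [← map_natCast (algebraMap A (ResidueField A))]
      exact (IsLocalRing.residue_eq_zero_iff _).mpr hqA
    have h2 := (CharP.cast_eq_zero_iff (ResidueField A) p q).mp h1
    have hqp : q = p := by
      rcases (Nat.dvd_prime hq).mp h2 with h | h
      · exact absurd h (CharP.char_ne_one (ResidueField A) p)
      · exact h.symm
    obtain rfl := hqp
    have hpA : (q : A) ≠ 0 := by
      intro h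
      rw [h, Ideal.span_singleton_zero] at hmq
      exact IsDiscreteValuationRing.not_isField A (IsLocalRing.isField_iff_maximalIdeal_eq.mpr hmq)
    have hinj : Function.Injective (algebraMap (Localization.AtPrime (Ideal.span {(q : ℤ)})) A) :=
      inj_of q (fun _ => hpA)
    haveI : Module.IsTorsionFree (Localization.AtPrime (Ideal.span {(q : ℤ)})) A :=
      Module.isTorsionFree_iff_algebraMap_injective.mpr hinj
    refine ⟨hNP, inferInstance, hc, inferInstance, ?_, ?_⟩
    · rw [maxP, Ideal.map_span, Set.image_singleton, map_natCast, hmq]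
    · exact Groth.Agent.Lib.helper3.GeomRed.isGeometricallyReduced_of_perfectField _ _

end aux


open IsLocalRing in
/-- Let A be a local ring with residue characteristic p (p = 0 or a prime), P the prime local ring ℤ_(p)
(ℚ if p = 0) and P → A its unique local homomorphism. Then A is a Cohen ring, i.e. a Cohen P-algebra
— Noetherian and complete, flat over P, with pA its maximal ideal (and residue field separable over
the prime field) — if and only if A is a field of characteristic 0 or a complete discrete valuation
ring of residue characteristic > 0 whose maximal ideal is generated by p·1. -/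
theorem result (p : ℕ) [hp : (Ideal.span {(p : ℤ)}).IsPrime]
    {A : Type} [CommRing A] [IsLocalRing A] [CharP (ResidueField A) p]
    [Algebra (Localization.AtPrime (Ideal.span {(p : ℤ)})) A]
    [IsLocalHom (algebraMap (Localization.AtPrime (Ideal.span {(p : ℤ)})) A)] :
    EGA41.IsCohenAlgebra (Localization.AtPrime (Ideal.span {(p : ℤ)})) A ↔ EGA41.IsCohenRingEGA A := by
  exact ⟨forward p, backward p⟩

end Groth.Agent.S4539
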