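import Groth.Statements.S4540
import Groth.Agent.S4544
import Groth.Agent.Lib.Helper17.NilLocalFree
import Mathlib

set_option autoImplicit false
universe u
open EGA41

namespace Groth.Agent.S4540

open IsLocalRing TensorProduct in
/-- Let A, B be Noetherian local rings and A → B a local homomorphism making B a formally smooth
A-algebra for the adic topologies of the maximal ideals. Then for every ideal of definition 𝔟 of B,
the (B/𝔟)-module Ω_{B/A} ⊗_B (B/𝔟) is free. -/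
theorem result {A B : Type u} [CommRing A] [IsLocalRing A]
    [IsNoetherianRing A] [CommRing B] [IsLocalRing B] [IsNoetherianRing B] [Algebra A B] [IsLocalHom (algebraMap A B)]
    (h : EGA41.IsFormallySmoothAdic A (maximalIdeal A) B (maximalIdeal B))
    (𝔟 : Ideal B) (hle : 𝔟 ≤ maximalIdeal B) (hpow : ∃ k : ℕ, maximalIdeal B ^ k ≤ 𝔟) :
    Module.Free (B ⧸ 𝔟) ((B ⧸ 𝔟) ⊗[B] Ω[B⁄A]) := by
  have hproj : Module.Projective (B ⧸ 𝔟) ((B ⧸ 𝔟) ⊗[B] Ω[B⁄A]) :=
    Groth.Agent.S4544.result (maximalIdeal A) (maximalIdeal B)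
      ⟨1, by rw [pow_one]; exact IsLocalRing.map_maximalIdeal_le (algebraMap A B)⟩ h 𝔟 hpow
  have hne : 𝔟 ≠ ⊤ := ne_top_of_le_ne_top (IsLocalRing.maximalIdeal.isMaximal B).ne_top hle
  haveI : Nontrivial (B ⧸ 𝔟) := Ideal.Quotient.nontrivial_iff.mpr hne
  haveI : IsLocalRing (B ⧸ 𝔟) :=
    IsLocalRing.of_surjective' (Ideal.Quotient.mk 𝔟) Ideal.Quotient.mk_surjective
  refine Groth.Agent.Lib.helper17.NilLocalFree.free_of_projective (B ⧸ 𝔟) ?_ _
  obtain ⟨k, hk⟩ := hpow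
  refine ⟨k, ?_⟩
  rw [← IsLocalRing.map_maximalIdeal_of_surjective (Ideal.Quotient.mk 𝔟)
    Ideal.Quotient.mk_surjective, ← Ideal.map_pow, eq_bot_iff]
  calc Ideal.map (Ideal.Quotient.mk 𝔟) (maximalIdeal B ^ k)
      ≤ Ideal.map (Ideal.Quotient.mk 𝔟) 𝔟 := Ideal.map_mono hk
    _ = ⊥ := Ideal.map_quotient_self 𝔟

end Groth.Agent.S4540
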