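import Groth.Statements.S4541
import Groth.Agent.Lib.Helper17.PBasis
import Mathlib

set_option autoImplicit false
universe u
open EGA41

namespace Groth.Agent.S4541


open Groth.Agent.Lib.helper17.PBasis in
/-- The case of an ideal with `N ^ p = 0` (Frobenius trick). -/
theorem powzero_case (p : ℕ) [hp : Fact p.Prime] {A B : Type u} [CommRing A] [CharP A p]
    [PerfectRing A p] [CommRing B] [Algebra A B] [CharP B p] [IsReduced B]
    {ι : Type u} (x : ι → B) (hx : EGA41.IsPBasis p A x)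
    (E : Type u) [CommRing E] [Algebra A E] (N : Ideal E) (hN : N ^ p = ⊥)
    (v : B →ₐ[A] E ⧸ N) (z : ι → E) (hvz : ∀ i, Ideal.Quotient.mk N (z i) = v (x i)) :
    ∃! w : B →ₐ[A] E, (Ideal.Quotient.mkₐ A N).comp w = v ∧ ∀ i, w (x i) = z i := by
  classical
  have hpp : p.Prime := hp.out
  have hpA : (p : A) = 0 := CharP.cast_eq_zero A p
  have hpB : (p : B) = 0 := CharP.cast_eq_zero B p
  have hpE : (p : E) = 0 := by rw [← map_natCast (algebraMap A E), hpA, map_zero]
  have hNp : ∀ n ∈ N, n ^ p = 0 := by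
    intro n hn
    have := Ideal.pow_mem_pow hn p
    rwa [hN] at this
  -- the Frobenius lift F̃ : E/N → E
  obtain ⟨Ft, hFt⟩ : ∃ Ft : E ⧸ N →+* E, ∀ e, Ft (Ideal.Quotient.mk N e) = e ^ p :=
    ⟨Ideal.Quotient.lift N (frobHom E p hpp hpE) (fun n hn => hNp n hn), fun e => rfl⟩
  have hmkFt : ∀ t, Ideal.Quotient.mk N (Ft t) = t ^ p := by
    intro t
    obtain ⟨e, rfl⟩ := Ideal.Quotient.mk_surjective t
    rw [hFt, map_pow]
  -- every element of R is a p-th power
  have hRpow : ∀ r : EGA41.pPowerSubalgebra p A B, ∃ b : B, b ^ p = (r : B) := by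
    rintro ⟨r, hr⟩
    show ∃ b : B, b ^ p = r
    induction hr using Algebra.adjoin_induction with
    | mem b hb =>
      obtain ⟨c, rfl⟩ := hb
      exact ⟨c, rfl⟩
    | algebraMap a =>
      obtain ⟨c, hc⟩ := surjective_frobenius A p a
      refine ⟨algebraMap A B c, ?_⟩
      rw [← map_pow, ← hc]; rfl
    | add a b _ _ ha hb =>
      obtain ⟨a', rfl⟩ := ha
      obtain ⟨b', rfl⟩ := hb
      exact ⟨a' + b', add_pow_of_natCast_eq_zero p hpp hpB a' b'⟩
    | mul a b _ _ ha hb =>
      obtain ⟨a', rfl⟩ := ha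
      obtain ⟨b', rfl⟩ := hb
      exact ⟨a' * b', mul_pow a' b' p⟩
  have hfrob_inj : ∀ b c : B, b ^ p = c ^ p → b = c := by
    intro b c h
    have := frobenius_inj B p
    apply this
    simpa [frobenius_def] using h
  choose β₀ hβ₀ using hRpow
  obtain ⟨β, hβ⟩ : ∃ β : EGA41.pPowerSubalgebra p A B →+* B, ∀ r, β r ^ p = (r : B) :=
    ⟨{ toFun := β₀
       map_one' := hfrob_inj _ _ (by rw [hβ₀, one_pow]; rfl)
       map_mul' := fun r s => hfrob_inj _ _ (by rw [hβ₀, mul_pow, hβ₀, hβ₀]; rfl)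
       map_zero' := hfrob_inj _ _ (by rw [hβ₀, zero_pow hpp.ne_zero]; rfl)
       map_add' := fun r s => hfrob_inj _ _ (by
         rw [hβ₀, add_pow_of_natCast_eq_zero p hpp hpB, hβ₀, hβ₀]; rfl) }, hβ₀⟩
  have hβ_pow : ∀ (b : B) (h : b ^ p ∈ EGA41.pPowerSubalgebra p A B), β ⟨b ^ p, h⟩ = b :=
    fun b h => hfrob_inj _ _ (hβ _)
  -- ψ : R → E
  let ψ : EGA41.pPowerSubalgebra p A B →+* E := Ft.comp (v.toRingHom.comp β)
  have hψ : ∀ r, ψ r = Ft (v (β r)) := fun r => rfl
  letI : Algebra (EGA41.pPowerSubalgebra p A B) E := ψ.toAlgebra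
  have halg : ∀ r, algebraMap (EGA41.pPowerSubalgebra p A B) E r = Ft (v (β r)) := fun r => rfl
  have halgQ : ∀ r, algebraMap (EGA41.pPowerSubalgebra p A B) (E ⧸ N) r
      = Ideal.Quotient.mk N (Ft (v (β r))) := fun r => rfl
  have hzp : ∀ i, z i ^ p = algebraMap (EGA41.pPowerSubalgebra p A B) E (ppow p A (x i)) := by
    intro i
    rw [halg]
    have : β (ppow p A (x i)) = x i := hβ_pow (x i) _
    rw [this, ← hvz, hFt]
  obtain ⟨w, hw, hwu⟩ := existsUnique_algHom hx z hzp
  -- A-linearity of w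
  have hwA : ∀ a : A, w (algebraMap A B a) = algebraMap A E a := by
    intro a
    have hmem : algebraMap A B a ∈ EGA41.pPowerSubalgebra p A B := Subalgebra.algebraMap_mem _ a
    have h1 := w.commutes ⟨algebraMap A B a, hmem⟩
    rw [halg] at h1
    obtain ⟨c, hc⟩ := surjective_frobenius A p a
    have hc' : c ^ p = a := hc
    have h2 : β ⟨algebraMap A B a, hmem⟩ = algebraMap A B c := by
      apply hfrob_inj
      rw [hβ, ← map_pow, hc']
    rw [h2, v.commutes] at h1
    have h3 : algebraMap A (E ⧸ N) c = Ideal.Quotient.mk N (algebraMap A E c) := rfl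
    rw [h3, hFt, ← map_pow, hc'] at h1
    exact h1
  obtain ⟨wA, hwA'⟩ : ∃ wA : B →ₐ[A] E, ∀ b, wA b = w b :=
    ⟨{ w.toRingHom with commutes' := hwA }, fun b => rfl⟩
  -- v is R-linear
  have hvR : ∀ r : EGA41.pPowerSubalgebra p A B,
      v (r : B) = algebraMap (EGA41.pPowerSubalgebra p A B) (E ⧸ N) r := by
    intro r
    rw [halgQ, hmkFt, ← map_pow, hβ]
  obtain ⟨vR, hvR'⟩ : ∃ vR : B →ₐ[EGA41.pPowerSubalgebra p A B] E ⧸ N, ∀ b, vR b = v b :=
    ⟨{ v.toRingHom with commutes' := hvR }, fun b => rfl⟩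
  have hzpQ : ∀ i, (Ideal.Quotient.mk N (z i)) ^ p
      = algebraMap (EGA41.pPowerSubalgebra p A B) (E ⧸ N) (ppow p A (x i)) := by
    intro i
    rw [← map_pow, hzp]; rfl
  obtain ⟨w₂, -, hw₂u⟩ := existsUnique_algHom hx (fun i => Ideal.Quotient.mk N (z i)) hzpQ
  have hmkw : ∀ b, Ideal.Quotient.mk N (w b) = v b := by
    have h1 : (Ideal.Quotient.mkₐ (EGA41.pPowerSubalgebra p A B) N).comp w = w₂ :=
      hw₂u _ (fun i => by rw [AlgHom.comp_apply, hw]; rfl)
    have h2 : vR = w₂ := hw₂u _ (fun i => by rw [hvR', hvz])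
    intro b
    have := AlgHom.congr_fun (h1.trans h2.symm) b
    rw [hvR'] at this
    exact this
  refine ⟨wA, ⟨?_, fun i => by rw [hwA', hw]⟩, ?_⟩
  · ext b
    show Ideal.Quotient.mk N (wA b) = v b
    rw [hwA', hmkw]
  · rintro w' ⟨hw'v, hw'x⟩
    have hw'v' : ∀ b, Ideal.Quotient.mk N (w' b) = v b := fun b => AlgHom.congr_fun hw'v b
    obtain ⟨w'R, hw'R⟩ : ∃ w'R : B →ₐ[EGA41.pPowerSubalgebra p A B] E, ∀ b, w'R b = w' b := by
      refine ⟨{ w'.toRingHom with commutes' := fun r => ?_ }, fun b => rfl⟩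
      show w' (r : B) = _
      rw [halg, ← hβ r, map_pow, ← hFt, hw'v']
    have := hwu w'R (fun i => by rw [hw'R, hw'x])
    ext b
    rw [← hw'R, this, hwA']

/-- Let p be a prime, A a perfect ring of characteristic p and B a reduced A-algebra of characteristic p
which admits a p-basis (x_α) over A. Then B is a formally smooth A-algebra (discrete topologies);
more precisely, for every A-algebra E, every nilpotent ideal R of E, every A-algebra homomorphism v
: B → E/R and every family (z_α) of elements of E lifting the v(x_α), there is a unique A-algebra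
homomorphism w : B → E lifting v with w(x_α) = z_α for all α. (The published statement assumes,
instead of A perfect and B reduced, that the canonical map A^(p) ⊗_A B → B^(p), a ⊗ b ↦ a b^p with
Frobenius-twisted structures, is injective; when A is perfect that condition says exactly that B is
reduced, which is the case stated here. The published statement also treats admissible topological
E; only discrete E is stated.) -/
theorem result (p : ℕ) [Fact p.Prime] {A B : Type u} [CommRing A] [CharP A p]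
    [PerfectRing A p] [CommRing B] [Algebra A B] [CharP B p] [IsReduced B]
    {ι : Type u} (x : ι → B) (hx : EGA41.IsPBasis p A x) :
    Algebra.FormallySmooth A B ∧
    ∀ (E : Type u) [CommRing E] [Algebra A E] (R : Ideal E), IsNilpotent R →
      ∀ (v : B →ₐ[A] E ⧸ R) (z : ι → E), (∀ i, Ideal.Quotient.mk R (z i) = v (x i)) →
        ∃! w : B →ₐ[A] E, (Ideal.Quotient.mkₐ A R).comp w = v ∧ ∀ i, w (x i) = z i := by
  classical
  have hpp : p.Prime := Fact.out
  have hmain : ∀ (E : Type u) [CommRing E] [Algebra A E] (R : Ideal E), IsNilpotent R →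
      ∀ (v : B →ₐ[A] E ⧸ R) (z : ι → E), (∀ i, Ideal.Quotient.mk R (z i) = v (x i)) →
        ∃! w : B →ₐ[A] E, (Ideal.Quotient.mkₐ A R).comp w = v ∧ ∀ i, w (x i) = z i := by
    intro E _ _ R hR
    revert ‹Algebra A E›
    apply Ideal.IsNilpotent.induction_on (S := E) R hR
      (P := fun E _ R => ∀ [Algebra A E] (v : B →ₐ[A] E ⧸ R) (z : ι → E),
        (∀ i, Ideal.Quotient.mk R (z i) = v (x i)) →
        ∃! w : B →ₐ[A] E, (Ideal.Quotient.mkₐ A R).comp w = v ∧ ∀ i, w (x i) = z i)
    · intro E _ I hI _ v z hvz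
      refine powzero_case p x hx E I ?_ v z hvz
      obtain ⟨k, hk⟩ : ∃ k, p = 2 + k := ⟨p - 2, by have := hpp.two_le; omega⟩
      rw [hk, pow_add, hI, Ideal.bot_mul]
    · intro E _ I J hIJ h₁ h₂ _ v z hvz
      let e : ((E ⧸ I) ⧸ J.map (Ideal.Quotient.mk I)) ≃ₐ[A] E ⧸ J :=
        { (DoubleQuot.quotQuotEquivQuotSup I J).trans
            (Ideal.quotEquivOfEq (sup_eq_right.mpr hIJ)) with
          commutes' := fun x => rfl }
      have he : ∀ c : E, e (Ideal.Quotient.mk _ (Ideal.Quotient.mk I c)) = Ideal.Quotient.mk J c :=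
        fun c => rfl
      have hes : ∀ c : E, e.symm (Ideal.Quotient.mk J c)
          = Ideal.Quotient.mk _ (Ideal.Quotient.mk I c) := by
        intro c
        rw [← he, AlgEquiv.symm_apply_apply]
      obtain ⟨w₁, ⟨hw₁v, hw₁x⟩, hw₁u⟩ := h₂ (e.symm.toAlgHom.comp v)
        (fun i => Ideal.Quotient.mk I (z i)) (fun i => by
          rw [AlgHom.comp_apply, ← hvz, ← hes]; rfl)
      have hw₁v' : ∀ b, Ideal.Quotient.mk _ (w₁ b) = e.symm (v b) :=
        fun b => AlgHom.congr_fun hw₁v b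
      obtain ⟨w, ⟨hwv, hwx⟩, hwu⟩ := h₁ w₁ z (fun i => (hw₁x i).symm)
      have hwv' : ∀ b, Ideal.Quotient.mk I (w b) = w₁ b := fun b => AlgHom.congr_fun hwv b
      refine ⟨w, ⟨?_, hwx⟩, ?_⟩
      · ext b
        show Ideal.Quotient.mk J (w b) = v b
        rw [← he, hwv', hw₁v', AlgEquiv.apply_symm_apply]
      · rintro w' ⟨hw'v, hw'x⟩
        have hw'v' : ∀ b, Ideal.Quotient.mk J (w' b) = v b := fun b => AlgHom.congr_fun hw'v b
        apply hwu
        refine ⟨?_, hw'x⟩
        apply hw₁u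
        refine ⟨?_, fun i => ?_⟩
        · ext b
          show Ideal.Quotient.mk _ (Ideal.Quotient.mk I (w' b)) = e.symm (v b)
          rw [← hw'v', hes]
        · show Ideal.Quotient.mk I (w' (x i)) = _
          rw [hw'x]
  refine ⟨?_, hmain⟩
  apply Algebra.FormallySmooth.of_comp_surjective
  intro E _ _ I hI f
  choose z hz using fun i => Ideal.Quotient.mk_surjective (f (x i))
  obtain ⟨w, ⟨hw, -⟩, -⟩ := hmain E I ⟨2, hI⟩ f z hz
  exact ⟨w, hw⟩

end Groth.Agent.S4541
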