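import Groth.Statements.S4543
import Groth.Agent.S4542
import Mathlib

set_option autoImplicit false
universe u
open EGA41

namespace Groth.Agent.S4543


section flat
open TensorProduct
variable {A X Y : Type u} [CommRing A] [CommRing X] [CommRing Y] [Algebra A X] [Algebra A Y]

lemma one_tmul_eq_zero_iff (𝔞 : Ideal A) (x : X) :
    (1 : A ⧸ 𝔞) ⊗ₜ[A] x = 0 ↔ x ∈ 𝔞.map (algebraMap A X) := by
  have h1 : TensorProduct.quotTensorEquivQuotSMul X 𝔞 ((1 : A ⧸ 𝔞) ⊗ₜ[A] x)
      = Submodule.Quotient.mk x := by
    have := TensorProduct.quotTensorEquivQuotSMul_mk_tmul (M := X) 𝔞 (1 : A) x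
    rwa [map_one, one_smul] at this
  rw [← (TensorProduct.quotTensorEquivQuotSMul X 𝔞).map_eq_zero_iff, h1,
    Submodule.Quotient.mk_eq_zero, Ideal.smul_top_eq_map]
  rfl

lemma lTensor_injective_of_ker_le (J : Ideal A) {Xq : Type u} [AddCommGroup Xq] [Module A Xq]
    (π : X →ₗ[A] Xq) (hπ : Function.Surjective π)
    (hker : ∀ y, π y = 0 → y ∈ (J • ⊤ : Submodule A X))
    (M : Type u) [AddCommGroup M] [Module A M] (hM : ∀ j ∈ J, ∀ m : M, j • m = 0) :
    Function.Injective (LinearMap.lTensor M π) := by
  rw [injective_iff_map_eq_zero]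
  intro τ hτ
  have hex := lTensor_exact M (LinearMap.exact_subtype_ker_map π) hπ
  obtain ⟨σ, rfl⟩ := (hex τ).mp hτ
  have hzero : LinearMap.lTensor M (LinearMap.ker π).subtype = 0 := by
    apply TensorProduct.ext'
    intro m y
    rw [LinearMap.lTensor_tmul, LinearMap.zero_apply, Submodule.subtype_apply]
    have hy : (y : X) ∈ (J • ⊤ : Submodule A X) := hker _ y.2
    refine Submodule.smul_induction_on hy ?_ ?_
    · intro j hj x _
      rw [TensorProduct.tmul_smul, TensorProduct.smul_tmul', hM j hj m, TensorProduct.zero_tmul]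
    · intro x y hx hy
      rw [TensorProduct.tmul_add, hx, hy, add_zero]
  rw [hzero, LinearMap.zero_apply]

lemma mem_of_map_mem [Module.Flat A Y] (J : Ideal A) (v : X →ₐ[A] Y)
    (w : (X ⧸ J.map (algebraMap A X)) ≃ₗ[A] (Y ⧸ J.map (algebraMap A Y)))
    (hw : ∀ x, w (Ideal.Quotient.mk _ x) = Ideal.Quotient.mk _ (v x)) (n : ℕ) (x : X)
    (hx : x ∈ (J ^ n).map (algebraMap A X)) (hvx : v x ∈ (J ^ (n + 1)).map (algebraMap A Y)) :
    x ∈ (J ^ (n + 1)).map (algebraMap A X) := by
  classical
  have h𝔞𝔟 : J ^ (n + 1) ≤ J ^ n := Ideal.pow_le_pow_right (Nat.le_succ n)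
  have hfA : ∃ fA : (A ⧸ J ^ (n + 1)) →ₗ[A] (A ⧸ J ^ n), Function.Surjective fA ∧
      (∀ a : A, fA (Ideal.Quotient.mk _ a) = Ideal.Quotient.mk _ a) :=
    ⟨(Ideal.Quotient.factorₐ A h𝔞𝔟).toLinearMap, Ideal.Quotient.factor_surjective h𝔞𝔟, fun a => rfl⟩
  obtain ⟨fA, hfAsurj, hfA⟩ := hfA
  have hMq : ∀ j ∈ J, ∀ m : ↥(LinearMap.ker fA), j • m = 0 := by
    intro j hj m
    apply Subtype.ext
    obtain ⟨a, ha⟩ := Ideal.Quotient.mk_surjective m.1
    have h1 : fA m.1 = 0 := m.2
    rw [← ha, hfA, Ideal.Quotient.eq_zero_iff_mem] at h1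
    show j • m.1 = 0
    rw [← ha, Algebra.smul_def]
    show Ideal.Quotient.mk _ j * Ideal.Quotient.mk _ a = 0
    rw [← map_mul, Ideal.Quotient.eq_zero_iff_mem, pow_succ']
    exact Ideal.mul_mem_mul hj h1
  have hex := rTensor_exact X (LinearMap.exact_subtype_ker_map fA) hfAsurj
  have h1 : fA.rTensor X ((1 : A ⧸ J ^ (n + 1)) ⊗ₜ[A] x) = 0 := by
    rw [LinearMap.rTensor_tmul]
    have : fA 1 = 1 := hfA 1
    rw [this]
    exact (one_tmul_eq_zero_iff (J ^ n) x).mpr hx
  obtain ⟨τ, hτ⟩ := (hex _).mp h1
  -- push forward along v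
  have h2 : ((LinearMap.ker fA).subtype.rTensor Y) ((v.toLinearMap.lTensor ↥(LinearMap.ker fA)) τ) = 0 := by
    rw [← LinearMap.comp_apply, LinearMap.rTensor_comp_lTensor, ← LinearMap.lTensor_comp_rTensor,
      LinearMap.comp_apply, hτ, LinearMap.lTensor_tmul]
    exact (one_tmul_eq_zero_iff (J ^ (n + 1)) (v x)).mpr hvx
  have h3 : (v.toLinearMap.lTensor ↥(LinearMap.ker fA)) τ = 0 := by
    have hinj := Module.Flat.rTensor_preserves_injective_linearMap (M := Y)
      (LinearMap.ker fA).subtype (Submodule.injective_subtype _)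
    exact hinj (by rw [h2, map_zero])
  -- T5
  have hπX : Function.Injective (LinearMap.lTensor ↥(LinearMap.ker fA)
      (Ideal.Quotient.mkₐ A (J.map (algebraMap A X))).toLinearMap) :=
    lTensor_injective_of_ker_le J _ Ideal.Quotient.mk_surjective (fun y hy => by
      rw [Ideal.smul_top_eq_map]
      exact Ideal.Quotient.eq_zero_iff_mem.mp hy) _ hMq
  have hcomm : (Ideal.Quotient.mkₐ A (J.map (algebraMap A Y))).toLinearMap ∘ₗ v.toLinearMap
      = w.toLinearMap ∘ₗ (Ideal.Quotient.mkₐ A (J.map (algebraMap A X))).toLinearMap := by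
    ext y
    exact (hw y).symm
  have h4 : τ = 0 := by
    apply hπX
    rw [map_zero]
    apply (LinearEquiv.lTensor ↥(LinearMap.ker fA) w).injective
    rw [map_zero]
    show (w.toLinearMap.lTensor ↥(LinearMap.ker fA)) _ = 0
    rw [← LinearMap.comp_apply, ← LinearMap.lTensor_comp, ← hcomm, LinearMap.lTensor_comp,
      LinearMap.comp_apply, h3, map_zero]
  rw [h4, map_zero] at hτ
  exact (one_tmul_eq_zero_iff (J ^ (n + 1)) x).mp hτ.symm

lemma injective_of_flat [Module.Flat A Y] (J : Ideal A) (v : X →ₐ[A] Y)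
    (w : (X ⧸ J.map (algebraMap A X)) ≃ₗ[A] (Y ⧸ J.map (algebraMap A Y)))
    (hw : ∀ x, w (Ideal.Quotient.mk _ x) = Ideal.Quotient.mk _ (v x))
    [IsHausdorff (J.map (algebraMap A X)) X] : Function.Injective v := by
  rw [injective_iff_map_eq_zero]
  intro x hx
  have hall : ∀ n : ℕ, x ∈ (J ^ n).map (algebraMap A X) := by
    intro n
    induction n with
    | zero => rw [pow_zero, Ideal.one_eq_top, Ideal.map_top]; trivial
    | succ n ih =>
      refine mem_of_map_mem J v w hw n x ih ?_
      rw [hx]
      exact Ideal.zero_mem _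
  apply IsHausdorff.haus' (I := J.map (algebraMap A X))
  intro n
  rw [SModEq.zero, smul_eq_mul, Ideal.mul_top, ← Ideal.map_pow]
  exact hall n

end flat

open IsLocalRing in
/-- Let A be a Noetherian ring, J an ideal of A, B and B' two A-algebras which are Noetherian local
rings, the structure maps being continuous for the J-adic topology on A (JB and JB' lie in the
maximal ideals); suppose B and B' are complete for the J-adic topologies, B is a formally smooth
A-algebra for the J-adic topology on A and the JB-adic topology on B (nilpotent test ideals, test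
algebras killed by a power of J, test maps killing a power of JB), and B' is a flat A-module. Then
every (A/J)-algebra isomorphism u₀ : B/JB ≅ B'/JB' comes from an A-algebra isomorphism u : B ≅ B' by
passing to quotients. (B is taken formally smooth for the JB-adic topology, the topology along which
the argument lifts B → B'/JB' to B'; read with the convention that a local ring carries the adic
topology of its maximal ideal, the published hypothesis would be formal smoothness for the
maximal-ideal topology on B, a weaker condition when JB is strictly smaller than the maximal ideal,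
and that reading is not what the argument establishes.) -/
theorem result {A B B' : Type u} [CommRing A] [IsNoetherianRing A] (J : Ideal A)
    [CommRing B] [IsLocalRing B] [IsNoetherianRing B] [Algebra A B]
    [CommRing B'] [IsLocalRing B'] [IsNoetherianRing B'] [Algebra A B']
    (hB : J.map (algebraMap A B) ≤ maximalIdeal B) (hB' : J.map (algebraMap A B') ≤ maximalIdeal B')
    [IsAdicComplete (J.map (algebraMap A B)) B] [IsAdicComplete (J.map (algebraMap A B')) B']
    (hfs : EGA41.IsFormallySmoothAdic A J B (J.map (algebraMap A B))) [Module.Flat A B']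
    (u₀ : (B ⧸ J.map (algebraMap A B)) ≃ₐ[A ⧸ J] (B' ⧸ J.map (algebraMap A B'))) :
    ∃ u : B ≃ₐ[A] B', ∀ b : B,
      Ideal.Quotient.mk (J.map (algebraMap A B')) (u b) = u₀ (Ideal.Quotient.mk (J.map (algebraMap A B)) b) := by
  classical
  haveI hH : IsHausdorff ((J.map (algebraMap A B')).map (Ideal.Quotient.mk (J.map (algebraMap A B'))))
      (B' ⧸ J.map (algebraMap A B')) := by
    rw [Ideal.map_quotient_self]
    refine ⟨fun x hx => ?_⟩
    have := hx 1
    rw [pow_one, SModEq.zero] at this
    simpa using this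
  obtain ⟨uu, huu⟩ : ∃ uu : B →ₐ[A] B' ⧸ J.map (algebraMap A B'),
      ∀ b, uu b = u₀ (Ideal.Quotient.mk (J.map (algebraMap A B)) b) :=
    ⟨((u₀ : _ →ₐ[A ⧸ J] _).restrictScalars A).comp (Ideal.Quotient.mkₐ A (J.map (algebraMap A B))),
      fun b => rfl⟩
  obtain ⟨v, -, hv⟩ := Groth.Agent.S4542.result J (J.map (algebraMap A B)) (J.map (algebraMap A B'))
    hfs ⟨1, by rw [pow_one]⟩ (J.map (algebraMap A B')) ⟨1, by rw [pow_one]⟩ uu ⟨1, by
      rw [Ideal.map_le_iff_le_comap]
      intro x hx
      rw [pow_one] at hx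
      rw [Ideal.mem_comap]
      show uu x ∈ _
      rw [huu, Ideal.Quotient.eq_zero_iff_mem.mpr hx, map_zero]
      exact Ideal.zero_mem _⟩
  have hv' : ∀ b, Ideal.Quotient.mk (J.map (algebraMap A B')) (v b)
      = u₀ (Ideal.Quotient.mk (J.map (algebraMap A B)) b) := by
    intro b
    have := congrArg (fun f => f b) hv
    simp only [AlgHom.comp_apply] at this
    rw [huu] at this
    exact this
  -- surjectivity
  have hmap : (J.map (algebraMap A B)).map v.toRingHom = J.map (algebraMap A B') := by
    rw [Ideal.map_map]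
    congr 1
    ext a
    exact v.commutes a
  haveI : IsHausdorff ((J.map (algebraMap A B)).map v.toRingHom) B' := by
    rw [hmap]; infer_instance
  have hsurj : Function.Surjective v := by
    have h := surjective_of_mk_map_comp_surjective (I := J.map (algebraMap A B)) v.toRingHom (by
      intro y
      obtain ⟨y', rfl⟩ := Ideal.Quotient.mk_surjective y
      obtain ⟨z, hz⟩ := u₀.surjective (Ideal.Quotient.mk (J.map (algebraMap A B')) y')
      obtain ⟨b, rfl⟩ := Ideal.Quotient.mk_surjective z
      refine ⟨b, ?_⟩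
      rw [← hv', Ideal.Quotient.eq] at hz
      show Ideal.Quotient.mk _ (v b) = Ideal.Quotient.mk _ y'
      rw [Ideal.Quotient.eq, hmap]
      exact hz)
    exact h
  have hinj : Function.Injective v :=
    injective_of_flat J v (u₀.toLinearEquiv.restrictScalars A) (fun x => (hv' x).symm)
  exact ⟨AlgEquiv.ofBijective v ⟨hinj, hsurj⟩, fun b => hv' b⟩

end Groth.Agent.S4543
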