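import Groth.Statements.S4545
import Groth.Agent.LibAdm29c
import Groth.Agent.LibCart29d
import Mathlib.FieldTheory.IsAlgClosed.AlgebraicClosure
-- import your own Groth.Agent.* helpers here

set_option autoImplicit false
universe u
open EGA41

namespace Groth.Agent.S4545

open Groth.Agent.LibAdm29 Groth.Agent.LibPB29 Groth.Agent.LibCart29 TensorProduct in

open TensorProduct in
/-- Let K be a field of characteristic p > 0, k₀ a subfield and (k_α) a decreasing filtered family of
subfields of K containing k₀. Then ⋂_α k_α(K^p) = k₀(K^p) if and only if for every extension L of K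
such that Υ_{L/K/k₀} has finite rank over L there is an α with k_α admissible for L over K relative
to k₀, i.e. with Υ_{L/K/k₀} → Υ_{L/K/k_α} injective. (The published statement has two further
equivalent conditions; this row states (a) ⇔ (b).) -/
theorem result (p : ℕ) [Fact p.Prime] {k₀ K : Type u}
    [Field k₀] [Field K] [Algebra k₀ K] [CharP K p]
    {ι : Type u} [Preorder ι] [IsDirected ι (· ≤ ·)] [Nonempty ι] (k : ι → IntermediateField k₀ K) (hk : Antitone k) :
    (⨅ i, k i ⊔ IntermediateField.adjoin k₀ (Set.range fun y : K => y ^ p)) =
        IntermediateField.adjoin k₀ (Set.range fun y : K => y ^ p) ↔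
      ∀ (L : Type u) [Field L] [Algebra K L] [Algebra k₀ L] [IsScalarTower k₀ K L],
        Module.Finite L (EGA41.imperfection k₀ K L) →
          ∃ i, ∀ ω ∈ EGA41.imperfection k₀ K L,
            ((KaehlerDifferential.map k₀ (k i) K K).restrictScalars K).baseChange L ω = 0 → ω = 0 := by
  constructor
  · intro hI L _ _ _ _ hfin
    exact exists_injOn_of_fg p k hk hI (EGA41.imperfection k₀ K L) (Module.Finite.iff_fg.1 hfin)
  · intro H
    apply le_antisymm
    · intro x hx
      by_contra hx'
      obtain ⟨y, hy⟩ := IsAlgClosed.exists_pow_nat_eq (algebraMap K (AlgebraicClosure K) x)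
        (Fact.out : p.Prime).pos
      let L : IntermediateField K (AlgebraicClosure K) := IntermediateField.adjoin K {y}
      have hfin : Module.Finite L (EGA41.imperfection k₀ K L) :=
        (simple_le k₀ (K := K) (L := L) _ (adjoin_gen_eq_top (K := K) y)).1.2
      obtain ⟨i, hi⟩ := H L hfin
      have hgen : algebraMap K L x = (IntermediateField.AdjoinSimple.gen K y) ^ p := by
        apply Subtype.ext
        simp [hy]
      have hpL : (p : L) = 0 := by
        have : (p : L) = algebraMap K L (p : K) := by simp
        rw [this, CharP.cast_eq_zero, map_zero]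
      have hω : (1 : L) ⊗ₜ[K] KaehlerDifferential.D k₀ K x ∈ EGA41.imperfection k₀ K L := by
        change KaehlerDifferential.mapBaseChange k₀ K L _ = 0
        rw [KaehlerDifferential.mapBaseChange_tmul, one_smul, KaehlerDifferential.map_D, hgen,
          Derivation.leibniz_pow, ← Nat.cast_smul_eq_nsmul L, hpL, zero_smul]
      have h0 : ((KaehlerDifferential.map k₀ (k i) K K).restrictScalars K).baseChange L
          ((1 : L) ⊗ₜ[K] KaehlerDifferential.D k₀ K x) = 0 := by
        rw [LinearMap.baseChange_tmul, LinearMap.restrictScalars_apply, KaehlerDifferential.map_D]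
        have : KaehlerDifferential.D (k i) K ((algebraMap K K) x) = 0 :=
          D_eq_zero_of_mem_sup p (k i) x ((iInf_le _ i :
            (⨅ i, k i ⊔ IntermediateField.adjoin k₀ (Set.range fun y : K => y ^ p)) ≤ _) hx)
        rw [this, TensorProduct.tmul_zero]
      exact one_tmul_ne_zero (L := L) _ (D_ne_zero_of_notMem p x hx') (hi _ hω h0)
    · exact le_iInf (fun i => le_sup_right)

end Groth.Agent.S4545
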