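import Groth.Statements.S4546
import Groth.Agent.LibAdm29c
-- import your own Groth.Agent.* helpers here

set_option autoImplicit false
universe u
open EGA41

namespace Groth.Agent.S4546

open Groth.Agent.LibAdm29 Groth.Agent.LibPB29 TensorProduct

/-- `d x` lies in `N` when `x ∈ S(L^p)` and `d S ⊆ N` -/
lemma D_mem_of_mem_sup {k₀ L : Type u} [Field k₀] [Field L] [Algebra k₀ L] (p : ℕ) [CharP L p]
    (S : IntermediateField k₀ L) (N : Submodule L (Ω[L⁄k₀]))
    (hN : ∀ c ∈ S, KaehlerDifferential.D k₀ L c ∈ N) (x : L)
    (hx : x ∈ S ⊔ IntermediateField.adjoin k₀ (Set.range fun y : L => y ^ p)) :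
    KaehlerDifferential.D k₀ L x ∈ N := by
  let E : IntermediateField k₀ L :=
    { carrier := {y | KaehlerDifferential.D k₀ L y ∈ N}
      mul_mem' := fun {a b} ha hb => by
        change KaehlerDifferential.D k₀ L (a * b) ∈ N
        rw [Derivation.leibniz]
        exact add_mem (N.smul_mem _ hb) (N.smul_mem _ ha)
      one_mem' := by
        change KaehlerDifferential.D k₀ L 1 ∈ N
        rw [Derivation.map_one_eq_zero]; exact N.zero_mem
      add_mem' := fun {a b} ha hb => by
        change KaehlerDifferential.D k₀ L (a + b) ∈ N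
        rw [map_add]; exact add_mem ha hb
      zero_mem' := by
        change KaehlerDifferential.D k₀ L 0 ∈ N
        rw [map_zero]; exact N.zero_mem
      algebraMap_mem' := fun c => by
        change KaehlerDifferential.D k₀ L (algebraMap k₀ L c) ∈ N
        rw [Derivation.map_algebraMap]; exact N.zero_mem
      inv_mem' := fun a ha => by
        change KaehlerDifferential.D k₀ L a⁻¹ ∈ N
        rw [Derivation.leibniz_inv]
        exact N.smul_mem _ ha }
  have h1 : S ≤ E := fun z hz => hN z hz
  have h2 : IntermediateField.adjoin k₀ (Set.range fun y : L => y ^ p) ≤ E := by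
    rw [IntermediateField.adjoin_le_iff]
    rintro _ ⟨z, rfl⟩
    change KaehlerDifferential.D k₀ L (z ^ p) ∈ N
    rw [Derivation.leibniz_pow, ← Nat.cast_smul_eq_nsmul L, CharP.cast_eq_zero, zero_smul]
    exact N.zero_mem
  exact sup_le h1 h2 hx


/-- Let K be a field of characteristic p > 0, k₀ a subfield, (k_α) a decreasing filtered family of
subfields of K containing k₀ with ⋂_α k_α(K^p) = k₀(K^p). Then for every extension L of K such that
Υ_{L/K/k₀} has finite rank over L, one has ⋂_α k_α(L^p) = k₀(L^p) (the k_α being viewed inside L). -/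
theorem result (p : ℕ) [Fact p.Prime] {k₀ K L : Type u}
    [Field k₀] [Field K] [Field L] [Algebra k₀ K] [Algebra K L] [Algebra k₀ L] [IsScalarTower k₀ K L] [CharP K p] [CharP L p]
    {ι : Type u} [Preorder ι] [IsDirected ι (· ≤ ·)] [Nonempty ι] (k : ι → IntermediateField k₀ K) (hk : Antitone k)
    (h : (⨅ i, k i ⊔ IntermediateField.adjoin k₀ (Set.range fun y : K => y ^ p)) =
      IntermediateField.adjoin k₀ (Set.range fun y : K => y ^ p))
    [Module.Finite L (EGA41.imperfection k₀ K L)] :
    (⨅ i, (k i).map (IsScalarTower.toAlgHom k₀ K L) ⊔ IntermediateField.adjoin k₀ (Set.range fun y : L => y ^ p)) =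
      IntermediateField.adjoin k₀ (Set.range fun y : L => y ^ p) := by
  apply le_antisymm
  · intro x hx
    apply mem_of_D_eq_zero p x
    -- the generating sets
    let S : ι → Set (L ⊗[K] Ω[K⁄k₀]) := fun i =>
      (fun c : K => (1 : L) ⊗ₜ[K] KaehlerDifferential.D k₀ K c) '' (k i : Set K)
    let g := KaehlerDifferential.mapBaseChange k₀ K L
    -- Claim A + B
    have hAB : ∀ i, ∃ η ∈ Submodule.span L (S i), g η = KaehlerDifferential.D k₀ L x := by
      intro i
      have hx' : x ∈ (k i).map (IsScalarTower.toAlgHom k₀ K L) ⊔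
          IntermediateField.adjoin k₀ (Set.range fun y : L => y ^ p) :=
        (iInf_le _ i : (⨅ i, (k i).map (IsScalarTower.toAlgHom k₀ K L) ⊔
          IntermediateField.adjoin k₀ (Set.range fun y : L => y ^ p)) ≤ _) hx
      have := D_mem_of_mem_sup p ((k i).map (IsScalarTower.toAlgHom k₀ K L))
        ((Submodule.span L (S i)).map g) ?_ x hx'
      · exact Submodule.mem_map.1 this
      · intro c hc
        obtain ⟨c', hc', rfl⟩ := (IntermediateField.mem_map _).1 hc
        refine Submodule.mem_map.2 ⟨(1 : L) ⊗ₜ[K] KaehlerDifferential.D k₀ K c',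
          Submodule.subset_span ⟨c', hc', rfl⟩, ?_⟩
        change KaehlerDifferential.mapBaseChange k₀ K L _ = _
        rw [KaehlerDifferential.mapBaseChange_tmul, one_smul, KaehlerDifferential.map_D]
        rfl
    -- Claim C
    have hC : ∀ i, ∀ η ∈ Submodule.span L (S i),
        ((KaehlerDifferential.map k₀ (k i) K K).restrictScalars K).baseChange L η = 0 := by
      intro i η hη
      have hle : Submodule.span L (S i) ≤ LinearMap.ker
          (((KaehlerDifferential.map k₀ (k i) K K).restrictScalars K).baseChange L) := by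
        rw [Submodule.span_le]
        rintro _ ⟨c, hc, rfl⟩
        change ((KaehlerDifferential.map k₀ (k i) K K).restrictScalars K).baseChange L _ = 0
        rw [LinearMap.baseChange_tmul, LinearMap.restrictScalars_apply, KaehlerDifferential.map_D]
        have : KaehlerDifferential.D (k i) K ((algebraMap K K) c) = 0 :=
          Derivation.map_algebraMap _ (⟨c, hc⟩ : k i)
        rw [this, TensorProduct.tmul_zero]
      exact hle hη
    have hmono : ∀ i j, i ≤ j → Submodule.span L (S j) ≤ Submodule.span L (S i) := by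
      intro i j hij
      apply Submodule.span_mono
      rintro _ ⟨c, hc, rfl⟩
      exact ⟨c, hk hij hc, rfl⟩
    obtain ⟨i₀⟩ := ‹Nonempty ι›
    obtain ⟨η₀, hη₀, hgη₀⟩ := hAB i₀
    have hWfg : (EGA41.imperfection k₀ K L ⊔ Submodule.span L {η₀}).FG :=
      Submodule.FG.sup (Module.Finite.iff_fg.1 inferInstance) (Submodule.fg_span_singleton η₀)
    obtain ⟨i₁, hi₁⟩ := exists_injOn_of_fg p k hk h _ hWfg
    obtain ⟨i, hi0, hi1⟩ := exists_ge_ge i₀ i₁
    obtain ⟨η, hη, hgη⟩ := hAB i
    have hηW : η ∈ EGA41.imperfection k₀ K L ⊔ Submodule.span L {η₀} := by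
      have : η = (η - η₀) + η₀ := by abel
      rw [this]
      refine Submodule.add_mem_sup ?_ (Submodule.mem_span_singleton_self η₀)
      change KaehlerDifferential.mapBaseChange k₀ K L (η - η₀) = 0
      rw [map_sub]
      change g η - g η₀ = 0
      rw [hgη, hgη₀, sub_self]
    have hη0 : η = 0 := hi₁ η hηW (hC i₁ η (hmono i₁ i hi1 hη))
    rw [← hgη, hη0, map_zero]
  · exact le_iInf (fun i => le_sup_right)

end Groth.Agent.S4546
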