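import Groth.Statements.S4547
import Mathlib

set_option autoImplicit false
universe u
open EGA41

namespace Groth.Agent.S4547

open IsLocalRing TensorProduct in
lemma core {A : Type u} [CommRing A] [IsLocalRing A] {M N : Type u}
    [AddCommGroup M] [Module A M] [Module.Finite A M] [AddCommGroup N] [Module A N]
    [Module.Projective A N] (u : M →ₗ[A] N) (m : ℕ) (x : Fin m → M)
    (hx : Submodule.span A (Set.range x) = ⊤)
    (hli : LinearIndependent (ResidueField A) (fun i => (1 : ResidueField A) ⊗ₜ[A] u (x i))) :
    LinearIndependent A x ∧ ∃ w : N →ₗ[A] M, w ∘ₗ u = LinearMap.id := by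
  classical
  -- the k-linear map e and its left inverse r
  let e : (Fin m → ResidueField A) →ₗ[ResidueField A] (ResidueField A) ⊗[A] N :=
    Fintype.linearCombination (ResidueField A) (fun i => (1 : ResidueField A) ⊗ₜ[A] u (x i))
  have he : LinearMap.ker e = ⊥ := by
    rw [LinearMap.ker_eq_bot, injective_iff_map_eq_zero]
    intro a ha
    rw [Fintype.linearCombination_apply] at ha
    funext i
    exact Fintype.linearIndependent_iff.mp hli a ha i
  obtain ⟨r, hr⟩ := LinearMap.exists_leftInverse_of_injective e he
  have hr' : ∀ j : Fin m, r ((1 : ResidueField A) ⊗ₜ[A] u (x j)) = Pi.single j 1 := by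
    intro j
    have h1 := LinearMap.congr_fun hr (Pi.single j 1)
    rw [LinearMap.comp_apply, Fintype.linearCombination_apply_single, one_smul] at h1
    exact h1
  -- lift through projectivity
  let ρ : N →ₗ[A] (Fin m → ResidueField A) :=
    (r.restrictScalars A) ∘ₗ (TensorProduct.mk A (ResidueField A) N 1)
  let π : (Fin m → A) →ₗ[A] (Fin m → ResidueField A) :=
    (Algebra.linearMap A (ResidueField A)).compLeft (Fin m)
  have hπsurj : Function.Surjective π := by
    intro y
    choose z hz using fun i => IsLocalRing.residue_surjective (y i)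
    exact ⟨z, funext hz⟩
  obtain ⟨ψ, hψ⟩ := Module.projective_lifting_property π ρ hπsurj
  let w0 : (Fin m → A) →ₗ[A] M := Fintype.linearCombination A x
  have hw0surj : Function.Surjective w0 := by
    rw [← LinearMap.range_eq_top, Fintype.range_linearCombination, hx]
  let Θ : (Fin m → A) →ₗ[A] (Fin m → A) := ψ ∘ₗ u ∘ₗ w0
  have hΘ : π ∘ₗ Θ = π := by
    apply (Pi.basisFun A (Fin m)).ext
    intro j
    rw [Pi.basisFun_apply]
    have h1 : Θ (Pi.single j 1) = ψ (u (x j)) := by
      show ψ (u (w0 (Pi.single j 1))) = _
      rw [Fintype.linearCombination_apply_single, one_smul]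
    rw [LinearMap.comp_apply, h1]
    have h2 : π (ψ (u (x j))) = ρ (u (x j)) := LinearMap.congr_fun hψ (u (x j))
    rw [h2]
    show r ((1 : ResidueField A) ⊗ₜ[A] u (x j)) = _
    rw [hr']
    funext i
    show _ = algebraMap A (ResidueField A) ((Pi.single j (1 : A) : Fin m → A) i)
    by_cases hij : i = j
    · subst hij
      rw [Pi.single_eq_same, Pi.single_eq_same, map_one]
    · rw [Pi.single_eq_of_ne hij, Pi.single_eq_of_ne hij, map_zero]
  have hΘsurj : Function.Surjective Θ := by
    rw [← LinearMap.range_eq_top, eq_top_iff]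
    apply Submodule.le_of_le_smul_of_le_jacobson_bot (I := IsLocalRing.maximalIdeal A)
      Module.Finite.fg_top (IsLocalRing.maximalIdeal_le_jacobson _)
    intro y _
    have h1 : π (y - Θ y) = 0 := by
      rw [map_sub, ← LinearMap.comp_apply, hΘ, sub_self]
    have h2 : y - Θ y ∈ (IsLocalRing.maximalIdeal A • ⊤ : Submodule A (Fin m → A)) := by
      have h3 : y - Θ y = ∑ i, (y - Θ y) i • (Pi.single i (1 : A) : Fin m → A) := by
        funext l
        rw [Finset.sum_apply]
        simp [Pi.single_apply]
      rw [h3]
      refine Submodule.sum_mem _ fun i _ => Submodule.smul_mem_smul ?_ Submodule.mem_top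
      have h4 : algebraMap A (ResidueField A) ((y - Θ y) i) = 0 := congrFun h1 i
      exact (IsLocalRing.residue_eq_zero_iff _).mp h4
    have h5 : y = Θ y + (y - Θ y) := by abel
    rw [h5]
    exact Submodule.add_mem_sup (LinearMap.mem_range_self Θ y) h2
  have hΘinj : Function.Injective Θ := OrzechProperty.injective_of_surjective_endomorphism Θ hΘsurj
  have hw0inj : Function.Injective w0 := by
    intro a b hab
    apply hΘinj
    show ψ (u (w0 a)) = ψ (u (w0 b))
    rw [hab]
  refine ⟨?_, ?_⟩
  · rw [Fintype.linearIndependent_iff]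
    intro g hg i
    have h1 : w0 g = w0 0 := by
      rw [map_zero]
      show Fintype.linearCombination A x g = 0
      rw [Fintype.linearCombination_apply]
      exact hg
    exact congrFun (hw0inj h1) i
  · let Θe := LinearEquiv.ofBijective Θ ⟨hΘinj, hΘsurj⟩
    refine ⟨w0 ∘ₗ Θe.symm.toLinearMap ∘ₗ ψ, ?_⟩
    ext z
    obtain ⟨y, rfl⟩ := hw0surj z
    show w0 (Θe.symm (ψ (u (w0 y)))) = w0 y
    have h1 : ψ (u (w0 y)) = Θe y := rfl
    rw [h1, LinearEquiv.symm_apply_apply]



open IsLocalRing TensorProduct in
/-- Let A be a local ring with residue field k, M an A-module of finite type, N a projective A-module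
and u : M → N a homomorphism. Then u is left invertible if and only if there is a finite system of
generators (x_i) of M such that the elements 1 ⊗ u(x_i) of k ⊗_A N are linearly independent over k;
and such a system (x_i) is then a basis of M. -/
theorem result {A : Type u} [CommRing A] [IsLocalRing A] {M N : Type u}
    [AddCommGroup M] [Module A M] [Module.Finite A M] [AddCommGroup N] [Module A N] [Module.Projective A N]
    (u : M →ₗ[A] N) :
    ((∃ w : N →ₗ[A] M, w ∘ₗ u = LinearMap.id) ↔
      ∃ (m : ℕ) (x : Fin m → M), Submodule.span A (Set.range x) = ⊤ ∧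
        LinearIndependent (ResidueField A) (fun i => (1 : ResidueField A) ⊗ₜ[A] u (x i))) ∧
    ∀ (m : ℕ) (x : Fin m → M), Submodule.span A (Set.range x) = ⊤ →
      LinearIndependent (ResidueField A) (fun i => (1 : ResidueField A) ⊗ₜ[A] u (x i)) →
        ∃ b : Module.Basis (Fin m) A M, ∀ i, b i = x i := by
  classical
  refine ⟨⟨?_, ?_⟩, ?_⟩
  · rintro ⟨w, hw⟩
    haveI : Module.Projective A M := Module.Projective.of_split u w hw
    haveI : Module.Free A M := Module.free_of_flat_of_isLocalRing
    let b := Module.finBasis A M
    refine ⟨_, b, b.span_eq, ?_⟩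
    have hinj : Function.Injective (u.baseChange (ResidueField A)) := by
      apply Function.LeftInverse.injective (g := w.baseChange (ResidueField A))
      intro z
      rw [← LinearMap.comp_apply, ← LinearMap.baseChange_comp, hw, LinearMap.baseChange_id,
        LinearMap.id_apply]
    have h1 := (b.baseChange (ResidueField A)).linearIndependent.map' _
      (LinearMap.ker_eq_bot.mpr hinj)
    have h2 : (fun i => (1 : ResidueField A) ⊗ₜ[A] u (b i)) =
        (u.baseChange (ResidueField A)) ∘ (b.baseChange (ResidueField A)) := by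
      funext i
      rw [Function.comp_apply, Module.Basis.baseChange_apply, LinearMap.baseChange_tmul]
    rw [h2]
    exact h1
  · rintro ⟨m, x, hx, hli⟩
    exact (core u m x hx hli).2
  · intro m x hx hli
    have h1 := (core u m x hx hli).1
    refine ⟨Module.Basis.mk h1 hx.ge, fun i => ?_⟩
    rw [Module.Basis.mk_apply]


end Groth.Agent.S4547
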