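import Groth.Statements.S4548
import Groth.Agent.LibPS29f
import Groth.Agent.LibPS29g
-- import your own Groth.Agent.* helpers here

set_option autoImplicit false
universe u
open EGA41

namespace Groth.Agent.S4548

open Groth.Agent.LibPS29 Groth.Agent.LibPB29 in

/-- Let k be a field of characteristic p > 0, A = k[[T_1, …, T_r]] and K its field of fractions. Then
there is a decreasing filtered family (A_α) of Noetherian subrings of A (rendered: a nonempty
family, directed downwards for inclusion) such that A is a free A_α-module of finite type for every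
α and, K_α denoting the subfield of K generated by A_α (its field of fractions inside K), ⋂_α K_α =
K^p. -/
theorem result (p : ℕ) [Fact p.Prime] (k : Type u) [Field k] [CharP k p]
    (r : ℕ) :
    ∃ (ι : Type u) (_ : Nonempty ι) (S : ι → Subring (MvPowerSeries (Fin r) k)),
      (∀ a b : ι, ∃ c, S c ≤ S a ⊓ S b) ∧
      (∀ i, IsNoetherianRing (S i) ∧ Module.Free (S i) (MvPowerSeries (Fin r) k) ∧ Module.Finite (S i) (MvPowerSeries (Fin r) k)) ∧
      ((⨅ i, Subfield.closure (algebraMap (MvPowerSeries (Fin r) k) (FractionRing (MvPowerSeries (Fin r) k)) '' (S i)) :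
          Set (FractionRing (MvPowerSeries (Fin r) k)))) =
        Set.range fun x : FractionRing (MvPowerSeries (Fin r) k) => x ^ p := by
  classical
  have hne : NeZero p := ⟨(Fact.out : p.Prime).ne_zero⟩
  obtain ⟨B, hB, -⟩ := exists_pbasis p (kp p k) (K := k)
  have hanti : ∀ {α β : Finset B}, α ⊆ β →
      (kal p B β).toSubfield ≤ (kal p B α).toSubfield := fun h x hx => kal_anti p B h hx
  have hkp : ∀ α : Finset B, kp p k ≤ (kal p B α).toSubfield := by
    intro α x hx
    exact (kal p B α).algebraMap_mem ⟨x, hx⟩
  refine ⟨Finset B, ⟨∅⟩, fun α => SL p (kal p B α).toSubfield, ?_, ?_, ?_⟩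
  · intro a b
    exact ⟨a ∪ b, le_inf (SL_mono p (hanti Finset.subset_union_left))
      (SL_mono p (hanti Finset.subset_union_right))⟩
  · intro α
    have hfin : Module.Finite (kal p B α).toSubfield k := finite_kal p B hB.2 α
    let c := Module.finBasis (kal p B α).toSubfield k
    exact ⟨isNoetherianRing_SL p _, Module.Free.of_equiv (PsiEquiv p _ c),
      Module.Finite.equiv (PsiEquiv p _ c)⟩
  · have hdom : IsDomain (MvPowerSeries (Fin r) k) := NoZeroDivisors.to_isDomain _
    have hcK : CharP (FractionRing (MvPowerSeries (Fin r) k)) p :=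
      charP_of_injective_algebraMap
        (algebraMap k (FractionRing (MvPowerSeries (Fin r) k))).injective p
    have key := iInf_closure_eq (K := FractionRing (MvPowerSeries (Fin r) k))
      (fun α : Finset B => SL (σ := Fin r) p (kal p B α).toSubfield) (SL p (kp p k))
      (fun f => ⟨fun hf α => SL_mono p (hkp α) hf,
        fun h => ⟨fun n => mem_kp_of_forall_mem_kal p B hB _ (fun α => (h α).1 n), (h ∅).2⟩⟩)
      (fun α a b f ha hb hb0 h => mem_SL_of_mul p _ a b f ha hb hb0 h)
      (fun g hg => ⟨g ^ (p - 1), by
        rw [← pow_succ', Nat.sub_add_cancel (Fact.out : p.Prime).one_le]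
        exact pow_p_mem_SL p g, mul_ne_zero hg (pow_ne_zero _ hg)⟩)
    beta_reduce
    rw [Set.iInf_eq_iInter, ← Subfield.coe_iInf, key]
    ext z
    constructor
    · intro hz
      have hle : Subfield.closure (algebraMap (MvPowerSeries (Fin r) k)
          (FractionRing (MvPowerSeries (Fin r) k)) '' (SL (σ := Fin r) p (kp p k) : Set _)) ≤
          (frobenius (FractionRing (MvPowerSeries (Fin r) k)) p).fieldRange := by
        rw [Subfield.closure_le]
        rintro _ ⟨f, hf, rfl⟩
        obtain ⟨g, rfl⟩ := exists_pow_eq_of_mem_SL p f hf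
        exact ⟨algebraMap _ _ g, by rw [frobenius_def, map_pow]⟩
      obtain ⟨w, hw⟩ := hle hz
      exact ⟨w, hw⟩
    · rintro ⟨w, rfl⟩
      obtain ⟨f, g, hg, rfl⟩ := IsFractionRing.div_surjective (A := MvPowerSeries (Fin r) k) w
      change (algebraMap _ _ f / algebraMap _ _ g) ^ p ∈ Subfield.closure _
      rw [div_pow, ← map_pow, ← map_pow]
      exact div_mem (Subfield.subset_closure ⟨f ^ p, pow_p_mem_SL p f, rfl⟩)
        (Subfield.subset_closure ⟨g ^ p, pow_p_mem_SL p g, rfl⟩)

end Groth.Agent.S4548
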