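import Groth.Statements.S4549
import Groth.Agent.LibAdm29c
-- import your own Groth.Agent.* helpers here

set_option autoImplicit false
universe u
open EGA41

namespace Groth.Agent.S4549

open Groth.Agent.LibAdm29 Groth.Agent.LibPB29 TensorProduct

/-- a `p`-generating family generates `K` over `k₀(K^p)` as a field -/
lemma adjoin_eq_top_of_isPGenerating (p : ℕ) [Fact p.Prime] {k₀ K : Type u} [Field k₀] [Field K]
    [Algebra k₀ K] [CharP K p] {B : Type u} (x : B → K) (hx : IsPGenerating p k₀ x) :
    IntermediateField.adjoin k₀ ((Set.range fun y : K => y ^ p) ∪ Set.range x) = ⊤ := by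
  let _ : Field (pPowerSubalgebra p k₀ K) := (isField_R p k₀ K).toField
  rw [eq_top_iff]
  intro y _
  have hr : Set.range x = x '' Set.univ := Set.image_univ.symm
  rw [hr]
  have h1 := (mem_adjoin_iff_mem_V p k₀ x Set.univ y).2
  apply h1
  rw [(isPGenerating_iff p k₀ x).1 hx]
  trivial


open TensorProduct in
/-- Let K be a field of characteristic p, k₀ a subfield and L an extension of K such that Υ_{L/K/k₀} has
finite rank over L. Then there is a subfield k of K containing k₀(K^p), with [K : k] finite, which
is k₀-admissible for the extension L of K, i.e. such that Υ_{L/K/k₀} → Υ_{L/K/k} is injective. (The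
published statement uses the characteristic exponent and so also covers characteristic 0, where k =
K works; this row treats characteristic p > 0.) -/
theorem result (p : ℕ) [Fact p.Prime] {k₀ K L : Type u} [Field k₀] [Field K] [Field L]
    [Algebra k₀ K] [Algebra K L] [Algebra k₀ L] [IsScalarTower k₀ K L] [CharP K p]
    [Module.Finite L (EGA41.imperfection k₀ K L)] :
    ∃ k : IntermediateField k₀ K, (∀ y : K, y ^ p ∈ k) ∧ Module.Finite k K ∧
      ∀ ω ∈ EGA41.imperfection k₀ K L,
        ((KaehlerDifferential.map k₀ k K K).restrictScalars K).baseChange L ω = 0 → ω = 0 := by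
  classical
  obtain ⟨B, hB, b, hb⟩ := exists_pbasis p k₀ (K := K)
  obtain ⟨T, hT⟩ := exists_finset_le_span b (EGA41.imperfection k₀ K L)
    (Module.Finite.iff_fg.1 inferInstance)
  let R : Set K := Set.range fun y : K => y ^ p
  let C : Set K := (Subtype.val : B → K) '' {w : B | w ∉ T}
  let k : IntermediateField k₀ K := IntermediateField.adjoin k₀ (R ∪ C)
  have hpow : ∀ y : K, y ^ p ∈ k := fun y =>
    IntermediateField.subset_adjoin k₀ _ (Or.inl ⟨y, rfl⟩)
  -- (2) `T` is `p`-independent over `k`
  have hind0 := (Groth.Agent.S4521.result p (Subtype.val : B → K)).1 hB.1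
  have hind : IsPIndependent p k (fun z : {z // z ∈ T} => ((z : B) : K)) := by
    rw [Groth.Agent.S4521.result]
    intro a ha
    apply hind0 (a : B)
    have ha' : ((a : B) : K) ∈ (IntermediateField.adjoin k
        ((Set.range fun y : K => y ^ p) ∪
          (fun z : {z // z ∈ T} => ((z : B) : K)) '' {b | b ≠ a})).restrictScalars k₀ := ha
    rw [IntermediateField.restrictScalars_adjoin] at ha'
    refine (IntermediateField.adjoin_le_iff.2 ?_) ha'
    rintro z (hz | hz | ⟨w, hw, rfl⟩)
    · -- `z ∈ k`
      refine (IntermediateField.adjoin.mono k₀ _ _ ?_) hz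
      rintro y (hy | ⟨w, hw, rfl⟩)
      · exact Or.inl hy
      · refine Or.inr ⟨w, ?_, rfl⟩
        intro hwa
        exact hw (hwa ▸ a.2)
    · exact IntermediateField.subset_adjoin k₀ _ (Or.inl hz)
    · refine IntermediateField.subset_adjoin k₀ _ (Or.inr ⟨(w : B), ?_, rfl⟩)
      intro hwa
      exact hw (Subtype.ext hwa)
  -- (3) finiteness
  have htop : IntermediateField.adjoin k ((Subtype.val : B → K) '' (T : Set B)) = ⊤ := by
    rw [← IntermediateField.restrictScalars_eq_top_iff (K := k₀),
      IntermediateField.restrictScalars_adjoin, eq_top_iff,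
      ← adjoin_eq_top_of_isPGenerating p (Subtype.val : B → K) hB.2]
    rw [IntermediateField.adjoin_le_iff]
    rintro z (hz | ⟨w, rfl⟩)
    · exact IntermediateField.subset_adjoin k₀ _
        (Or.inl (IntermediateField.subset_adjoin k₀ _ (Or.inl hz)))
    · by_cases hw : w ∈ T
      · exact IntermediateField.subset_adjoin k₀ _ (Or.inr ⟨w, hw, rfl⟩)
      · exact IntermediateField.subset_adjoin k₀ _
          (Or.inl (IntermediateField.subset_adjoin k₀ _ (Or.inr ⟨w, hw, rfl⟩)))
  have hfin : Module.Finite k K := by
    have hfinS : Finite ((Subtype.val : B → K) '' (T : Set B)) :=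
      (T.finite_toSet.image _)
    have h1 : FiniteDimensional k
        (IntermediateField.adjoin k ((Subtype.val : B → K) '' (T : Set B))) := by
      apply IntermediateField.finiteDimensional_adjoin
      intro z _
      refine ⟨Polynomial.X ^ p - Polynomial.C (⟨z ^ p, hpow z⟩ : k),
        Polynomial.monic_X_pow_sub_C _ (Fact.out : p.Prime).ne_zero, ?_⟩
      simp
    rw [htop] at h1
    exact Module.Finite.equiv (IntermediateField.topEquiv (F := k) (E := K)).toLinearEquiv
  exact ⟨k, hpow, hfin, fun ω hω =>
    injOn_of_isPIndependent p k (Subtype.val : B → K) b hb T hind ω (hT hω)⟩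

end Groth.Agent.S4549
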