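import Groth.Statements.S4550
import Groth.Agent.LibPS29d
import Mathlib.RingTheory.MvPowerSeries.Expand
-- import your own Groth.Agent.* helpers here

set_option autoImplicit false
universe u
open EGA41

namespace Groth.Agent.S4550

open Groth.Agent.LibPS29 in

/-- Let k be a field, (k_α) a decreasing filtered family of subfields of k with intersection k₀, and
suppose there is a power q of the characteristic exponent of k with k^q ⊆ k₀. Then, inside k((T_1,
…, T_r)), one has ⋂_α k_α((T_1, …, T_r)) = k₀((T_1, …, T_r)); here F((T)) is the subfield of the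
fraction field of k[[T]] generated by the power series with all coefficients in F. -/
theorem result {k : Type u} [Field k] {ι : Type u} [Nonempty ι] (F : ι → Subfield k)
    (hdir : ∀ a b : ι, ∃ c, F c ≤ F a ⊓ F b) (e : ℕ) (hq : ∀ x : k, x ^ ringExpChar k ^ e ∈ ⨅ i, F i) (r : ℕ) :
    (⨅ i, Subfield.closure (algebraMap (MvPowerSeries (Fin r) k) (FractionRing (MvPowerSeries (Fin r) k)) ''
        {f | ∀ n, MvPowerSeries.coeff n f ∈ F i})) =
      Subfield.closure (algebraMap (MvPowerSeries (Fin r) k) (FractionRing (MvPowerSeries (Fin r) k)) ''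
        {f | ∀ n, MvPowerSeries.coeff n f ∈ ⨅ i, F i}) := by
  have hp0 : ringExpChar k ≠ 0 := expChar_ne_zero k (ringExpChar k)
  have : IsDomain (MvPowerSeries (Fin r) k) := NoZeroDivisors.to_isDomain _
  refine iInf_closure_eq (K := FractionRing (MvPowerSeries (Fin r) k))
    (fun i => coeffSubring (σ := Fin r) (F i)) (coeffSubring (⨅ i, F i)) ?_ ?_ ?_
  · intro f
    simp only [mem_coeffSubring, Subfield.mem_iInf]
    exact ⟨fun h i n => h n i, fun h n i => h i n⟩
  · intro i a b f ha hb hb0 h
    exact mem_coeffSubring_of_mul (F i) a b f ha hb hb0 h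
  · intro g hg
    have hqpos : 0 < ringExpChar k ^ e := Nat.pos_of_ne_zero (pow_ne_zero e hp0)
    refine ⟨g ^ (ringExpChar k ^ e - 1), ?_, mul_ne_zero hg (pow_ne_zero _ hg)⟩
    rw [← pow_succ', Nat.sub_add_cancel hqpos,
      ← MvPowerSeries.map_iterateFrobenius_expand (ringExpChar k) hp0 g e]
    intro n
    rw [MvPowerSeries.coeff_map, iterateFrobenius_def]
    exact hq _

end Groth.Agent.S4550
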