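import Groth.Statements.S4552
import Mathlib
-- import your own Groth.Agent.* helpers here

set_option autoImplicit false
universe u
open EGA41

namespace Groth.Agent.S4552

lemma proj_of_lift {A : Type u} [CommRing A] (I : Ideal A) (M : Type u)
    [AddCommGroup M] [Module A M]
    (H : ∀ (P Q : Type u) [AddCommGroup P] [Module A P] [AddCommGroup Q] [Module A Q],
      (∀ a ∈ I, ∀ y : P, a • y = 0) → (∀ a ∈ I, ∀ y : Q, a • y = 0) →
      ∀ f : P →ₗ[A] Q, Function.Surjective f → ∀ v : M →ₗ[A] Q, ∃ w : M →ₗ[A] P, f ∘ₗ w = v) :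
    Module.Projective (A ⧸ I) (M ⧸ (I • ⊤ : Submodule A M)) := by
  have hsurj : Function.Surjective (algebraMap A (A ⧸ I)) := Ideal.Quotient.mk_surjective
  refine Module.Projective.of_lifting_property ?_
  intro P Q _ _ _ _ f g hf
  letI : Module A P := Module.compHom P (Ideal.Quotient.mk I)
  letI : Module A Q := Module.compHom Q (Ideal.Quotient.mk I)
  haveI : IsScalarTower A (A ⧸ I) P := IsScalarTower.of_algebraMap_smul fun r x => rfl
  haveI : IsScalarTower A (A ⧸ I) Q := IsScalarTower.of_algebraMap_smul fun r x => rfl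
  have hP : ∀ a ∈ I, ∀ y : P, a • y = 0 := by
    intro a ha y
    change (Ideal.Quotient.mk I a) • y = 0
    rw [Ideal.Quotient.eq_zero_iff_mem.2 ha, zero_smul]
  have hQ : ∀ a ∈ I, ∀ y : Q, a • y = 0 := by
    intro a ha y
    change (Ideal.Quotient.mk I a) • y = 0
    rw [Ideal.Quotient.eq_zero_iff_mem.2 ha, zero_smul]
  obtain ⟨w, hw⟩ := H P Q hP hQ (f.restrictScalars A) hf
    ((g.restrictScalars A) ∘ₗ (I • ⊤ : Submodule A M).mkQ)
  have hker : (I • ⊤ : Submodule A M) ≤ LinearMap.ker w := by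
    rw [Submodule.smul_le]
    intro a ha m _
    rw [LinearMap.mem_ker, map_smul]
    exact hP a ha _
  refine ⟨((I • ⊤ : Submodule A M).liftQ w hker).extendScalarsOfSurjective hsurj, ?_⟩
  ext x
  obtain ⟨x, rfl⟩ := Submodule.Quotient.mk_surjective _ x
  have := LinearMap.congr_fun hw x
  simpa using this

lemma lift_of_proj {A : Type u} [CommRing A] (I : Ideal A) (M : Type u)
    [AddCommGroup M] [Module A M]
    (hproj : Module.Projective (A ⧸ I) (M ⧸ (I • ⊤ : Submodule A M)))
    (P Q : Type u) [AddCommGroup P] [Module A P] [AddCommGroup Q] [Module A Q]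
    (hP : ∀ a ∈ I, ∀ y : P, a • y = 0) (hQ : ∀ a ∈ I, ∀ y : Q, a • y = 0)
    (f : P →ₗ[A] Q) (hf : Function.Surjective f) (v : M →ₗ[A] Q) :
    ∃ w : M →ₗ[A] P, f ∘ₗ w = v := by
  have hsurj : Function.Surjective (algebraMap A (A ⧸ I)) := Ideal.Quotient.mk_surjective
  have tP : Module.IsTorsionBySet A P I := fun x a => hP a.1 a.2 x
  have tQ : Module.IsTorsionBySet A Q I := fun x a => hQ a.1 a.2 x
  letI : Module (A ⧸ I) P := tP.module
  letI : Module (A ⧸ I) Q := tQ.module
  haveI : IsScalarTower A (A ⧸ I) P := tP.isScalarTower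
  haveI : IsScalarTower A (A ⧸ I) Q := tQ.isScalarTower
  have hker : (I • ⊤ : Submodule A M) ≤ LinearMap.ker v := by
    rw [Submodule.smul_le]
    intro a ha m _
    rw [LinearMap.mem_ker, map_smul]
    exact hQ a ha _
  obtain ⟨h, hh⟩ := Module.projective_lifting_property
    (f.extendScalarsOfSurjective hsurj)
    (((I • ⊤ : Submodule A M).liftQ v hker).extendScalarsOfSurjective hsurj) hf
  refine ⟨(h.restrictScalars A) ∘ₗ (I • ⊤ : Submodule A M).mkQ, ?_⟩
  ext x
  have := LinearMap.congr_fun hh (Submodule.Quotient.mk x)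
  simpa using this

/-- For the 𝔞-adic topology on A and the deduced topology on M: the topological A-module M is formally
projective (for every open ideal 𝔞ⁿ, every pair of (A/𝔞ⁿ)-modules P, Q, every surjection P → Q and
every continuous A-linear map M → Q — here automatically continuous — there is a continuous A-linear
lift M → P) if and only if it is strictly formally projective, i.e. M/𝔞ⁿM is a projective
(A/𝔞ⁿ)-module for every n. -/
theorem result {A : Type u} [CommRing A] (𝔞 : Ideal A) (M : Type u)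
    [AddCommGroup M] [Module A M] :
    (∀ (n : ℕ) (P Q : Type u) [AddCommGroup P] [Module A P] [AddCommGroup Q] [Module A Q],
      (∀ a ∈ 𝔞 ^ n, ∀ y : P, a • y = 0) → (∀ a ∈ 𝔞 ^ n, ∀ y : Q, a • y = 0) →
      ∀ f : P →ₗ[A] Q, Function.Surjective f → ∀ v : M →ₗ[A] Q, ∃ w : M →ₗ[A] P, f ∘ₗ w = v) ↔
    ∀ n : ℕ, Module.Projective (A ⧸ 𝔞 ^ n) (M ⧸ (𝔞 ^ n • ⊤ : Submodule A M)) := by
  constructor
  · intro H n
    exact proj_of_lift (𝔞 ^ n) M (fun P Q _ _ _ _ => H n P Q)
  · intro H n P Q _ _ _ _ hP hQ f hf v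
    exact lift_of_proj (𝔞 ^ n) M (H n) P Q hP hQ f hf v

end Groth.Agent.S4552
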