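import Groth.Statements.S4553
import Groth.Agent.LibAdic29
import Groth.Agent.LibAdic29c
-- import your own Groth.Agent.* helpers here

set_option autoImplicit false
universe u
open EGA41

namespace Groth.Agent.S4553
open Groth.Agent.LibAdic29 Groth.Agent.LibLoc29

section

variable {A B : Type u} [CommRing A] [CommRing B] [Algebra A B] (𝔞 : Ideal A) (𝔟 : Ideal B)

/-- lifting property of `B` over `A` against test rings killed by `𝔞`. -/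
def LiftKilled (n : ℕ) : Prop :=
  ∀ (T T₀ : Type u) [CommRing T] [Algebra A T] [CommRing T₀] [Algebra A T₀] (π : T →ₐ[A] T₀),
    Function.Surjective π → RingHom.ker π ^ n = ⊥ → (∀ a ∈ 𝔞, algebraMap A T a = 0) →
    ∀ ψ : B →ₐ[A] T₀, (∃ k : ℕ, ∀ x ∈ 𝔟 ^ k, ψ x = 0) → ∃ s : B →ₐ[A] T, π.comp s = ψ

theorem liftKilled_of_quotient
    (h₀ : EGA41.IsFormallySmoothAdic (A ⧸ 𝔞) ⊥ (B ⧸ 𝔞.map (algebraMap A B))
        (𝔟.map (Ideal.Quotient.mk (𝔞.map (algebraMap A B))))) (n : ℕ) :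
    LiftKilled 𝔞 𝔟 n := by
  intro T T₀ _ _ _ _ π hπ hker hkill ψ hψ
  have hkill₀ : ∀ a ∈ 𝔞, algebraMap A T₀ a = 0 := by
    intro a ha
    rw [← π.commutes, hkill a ha, map_zero]
  let algT : Algebra (A ⧸ 𝔞) T := (Ideal.Quotient.lift 𝔞 (algebraMap A T) hkill).toAlgebra
  let algT₀ : Algebra (A ⧸ 𝔞) T₀ := (Ideal.Quotient.lift 𝔞 (algebraMap A T₀) hkill₀).toAlgebra
  have : IsScalarTower A (A ⧸ 𝔞) T := IsScalarTower.of_algebraMap_eq (fun _ => rfl)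
  have : IsScalarTower A (A ⧸ 𝔞) T₀ := IsScalarTower.of_algebraMap_eq (fun _ => rfl)
  let π₀ : T →ₐ[A ⧸ 𝔞] T₀ :=
    { π.toRingHom with
      commutes' := fun x => by
        obtain ⟨a, rfl⟩ := Ideal.Quotient.mk_surjective x
        change π (algebraMap A T a) = algebraMap A T₀ a
        exact π.commutes a }
  have hψkill : ∀ x ∈ 𝔞.map (algebraMap A B), ψ x = 0 := by
    intro x hx
    have hle : 𝔞.map (algebraMap A B) ≤ RingHom.ker ψ := by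
      rw [Ideal.map_le_iff_le_comap]
      intro a ha
      rw [Ideal.mem_comap, RingHom.mem_ker, AlgHom.commutes]
      exact hkill₀ a ha
    exact hle hx
  let ψ₁ : (B ⧸ 𝔞.map (algebraMap A B)) →ₐ[A] T₀ :=
    Ideal.Quotient.liftₐ (𝔞.map (algebraMap A B)) ψ hψkill
  let ψ₀ : (B ⧸ 𝔞.map (algebraMap A B)) →ₐ[A ⧸ 𝔞] T₀ :=
    { ψ₁.toRingHom with
      commutes' := fun x => by
        obtain ⟨a, rfl⟩ := Ideal.Quotient.mk_surjective x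
        change ψ₁ (algebraMap A (B ⧸ 𝔞.map (algebraMap A B)) a) = algebraMap A T₀ a
        exact ψ₁.commutes a }
  have hψ₀ : ∃ k : ℕ, ∀ x ∈ (𝔟.map (Ideal.Quotient.mk (𝔞.map (algebraMap A B)))) ^ k,
      ψ₀ x = 0 := by
    obtain ⟨k, hk⟩ := hψ
    refine ⟨k, fun x hx => ?_⟩
    have hle : (𝔟.map (Ideal.Quotient.mk (𝔞.map (algebraMap A B)))) ^ k ≤
        RingHom.ker ψ₀ := by
      rw [← Ideal.map_pow, Ideal.map_le_iff_le_comap]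
      intro b hb
      rw [Ideal.mem_comap, RingHom.mem_ker]
      exact hk b hb
    exact hle hx
  have hdisc : ∃ k : ℕ, ((⊥ : Ideal (A ⧸ 𝔞)) ^ k).map (algebraMap (A ⧸ 𝔞) T) = ⊥ :=
    ⟨1, by rw [pow_one, Ideal.map_bot]⟩
  have hker₀ : RingHom.ker π₀ ^ n = ⊥ := hker
  obtain ⟨s₀, hs₀⟩ := liftSurj_of_isFormallySmoothAdic h₀ n T T₀ π₀ hπ hker₀ hdisc ψ₀ hψ₀
  refine ⟨(s₀.restrictScalars A).comp (Ideal.Quotient.mkₐ A (𝔞.map (algebraMap A B))), ?_⟩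
  ext b
  have := congrArg (fun f : (B ⧸ 𝔞.map (algebraMap A B)) →ₐ[A ⧸ 𝔞] T₀ =>
    f (Ideal.Quotient.mk _ b)) hs₀
  exact this

theorem quotient_of_isFormallySmoothAdic (h : EGA41.IsFormallySmoothAdic A 𝔞 B 𝔟) :
    EGA41.IsFormallySmoothAdic (A ⧸ 𝔞) ⊥ (B ⧸ 𝔞.map (algebraMap A B))
        (𝔟.map (Ideal.Quotient.mk (𝔞.map (algebraMap A B)))) := by
  intro C _ _ J hJ _ u hu
  let _ : Algebra A C := Algebra.compHom C (algebraMap A (A ⧸ 𝔞))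
  have : IsScalarTower A (A ⧸ 𝔞) C := IsScalarTower.of_algebraMap_eq (fun _ => rfl)
  let uB : B →ₐ[A] C ⧸ J :=
    (u.restrictScalars A).comp (Ideal.Quotient.mkₐ A (𝔞.map (algebraMap A B)))
  have hkillC : ∀ a ∈ 𝔞, algebraMap A C a = 0 := by
    intro a ha
    rw [IsScalarTower.algebraMap_apply A (A ⧸ 𝔞) C]
    have : algebraMap A (A ⧸ 𝔞) a = 0 := Ideal.Quotient.eq_zero_iff_mem.2 ha
    rw [this, map_zero]
  have hC : ∃ k : ℕ, (𝔞 ^ k).map (algebraMap A C) = ⊥ := by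
    refine ⟨1, ?_⟩
    rw [pow_one, Ideal.map_eq_bot_iff_le_ker]
    intro a ha
    exact hkillC a ha
  have huB : ∃ k : ℕ, ∀ x ∈ 𝔟 ^ k, uB x = 0 := by
    obtain ⟨k, hk⟩ := hu
    refine ⟨k, fun x hx => ?_⟩
    apply hk
    rw [← Ideal.map_pow]
    exact Ideal.mem_map_of_mem _ hx
  obtain ⟨vB, hvB⟩ := h C J hJ hC uB huB
  have hvkill : ∀ x ∈ 𝔞.map (algebraMap A B), vB x = 0 := by
    intro x hx
    have hle : 𝔞.map (algebraMap A B) ≤ RingHom.ker vB := by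
      rw [Ideal.map_le_iff_le_comap]
      intro a ha
      rw [Ideal.mem_comap, RingHom.mem_ker, AlgHom.commutes]
      exact hkillC a ha
    exact hle hx
  let v₁ : (B ⧸ 𝔞.map (algebraMap A B)) →ₐ[A] C :=
    Ideal.Quotient.liftₐ (𝔞.map (algebraMap A B)) vB hvkill
  let v₀ : (B ⧸ 𝔞.map (algebraMap A B)) →ₐ[A ⧸ 𝔞] C :=
    { v₁.toRingHom with
      commutes' := fun x => by
        obtain ⟨a, rfl⟩ := Ideal.Quotient.mk_surjective x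
        change v₁ (algebraMap A (B ⧸ 𝔞.map (algebraMap A B)) a) = algebraMap A C a
        exact v₁.commutes a }
  refine ⟨v₀, ?_⟩
  ext x
  obtain ⟨b, rfl⟩ := Ideal.Quotient.mk_surjective x
  have := congrArg (fun f : B →ₐ[A] C ⧸ J => f b) hvB
  exact this

/-- formal projectivity of the topological `A`-module `B`. -/
def FProj : Prop :=
  ∀ (n : ℕ) (P Q : Type u) [AddCommGroup P] [Module A P] [AddCommGroup Q] [Module A Q],
    (∀ a ∈ 𝔞 ^ n, ∀ y : P, a • y = 0) → (∀ a ∈ 𝔞 ^ n, ∀ y : Q, a • y = 0) →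
    ∀ f : P →ₗ[A] Q, Function.Surjective f → ∀ v : B →ₗ[A] Q, (∃ m : ℕ, ∀ x ∈ 𝔟 ^ m, v x = 0) →
      ∃ w : B →ₗ[A] P, (∃ m : ℕ, ∀ x ∈ 𝔟 ^ m, w x = 0) ∧ f ∘ₗ w = v

theorem step1b (hL : LiftKilled 𝔞 𝔟 2) {C C₀ : Type u} [CommRing C]
    [Algebra A C] [CommRing C₀] [Algebra A C₀] (q : C →ₐ[A] C₀) (hq : Function.Surjective q)
    (hK2 : RingHom.ker q ^ 2 = ⊥) (hKa : ∀ a ∈ 𝔞, ∀ k ∈ RingHom.ker q, a • k = 0)
    (u : B →ₐ[A] C₀) (w : B →ₗ[A] C) (M : ℕ) (hqw : ∀ b, q (w b) = u b)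
    (huM : ∀ x ∈ 𝔟 ^ M, u x = 0) (hwM : ∀ x ∈ 𝔟 ^ M, w x = 0) :
    ∃ v : B →ₐ[A] C, q.comp v = u := by
  have h1 := πT_surjective (𝔞 := 𝔞) (𝔠 := 𝔟 ^ M) (u := u) hq
  have h2 := ker_πT_sq (𝔞 := 𝔞) hq huM hK2
  have h3 : ∀ a ∈ 𝔞, algebraMap A (FP q u ⧸ IT q u 𝔞 (𝔟 ^ M)) a = 0 :=
    fun a ha => algebraMap_quot_IT_eq_zero a ha
  have hL' := hL (FP q u ⧸ IT q u 𝔞 (𝔟 ^ M)) (B ⧸ I₀ 𝔞 (𝔟 ^ M)) (πT q u 𝔞 (𝔟 ^ M)) h1
  have hL'' := hL' h2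
  have hL3 := hL'' h3
  obtain ⟨ψ, hψdef⟩ : ∃ ψ : B →ₐ[A] B ⧸ I₀ 𝔞 (𝔟 ^ M),
    ψ = Ideal.Quotient.mkₐ A (I₀ 𝔞 (𝔟 ^ M)) := ⟨_, rfl⟩
  have hψ : ∃ k : ℕ, ∀ x ∈ 𝔟 ^ k, ψ x = 0 := by
    refine ⟨M, fun x hx => ?_⟩
    rw [hψdef]
    exact Ideal.Quotient.eq_zero_iff_mem.2 (Ideal.mem_sup_right hx)
  have hL4 := hL3 ψ hψ
  obtain ⟨s, hs⟩ := hL4
  rw [hψdef] at hs
  exact exists_lift_of_section hq hqw hKa huM hwM s hs

theorem step1 (hproj : FProj 𝔞 𝔟) (hL : LiftKilled 𝔞 𝔟 2) {C C₀ : Type u} [CommRing C]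
    [Algebra A C] [CommRing C₀] [Algebra A C₀] (q : C →ₐ[A] C₀) (hq : Function.Surjective q)
    (hK2 : RingHom.ker q ^ 2 = ⊥) (hKa : ∀ a ∈ 𝔞, ∀ k ∈ RingHom.ker q, a • k = 0)
    (n : ℕ) (hC : (𝔞 ^ n).map (algebraMap A C) = ⊥) (u : B →ₐ[A] C₀)
    (hu : ∃ m : ℕ, ∀ x ∈ 𝔟 ^ m, u x = 0) : ∃ v : B →ₐ[A] C, q.comp v = u := by
  have hPkill : ∀ a ∈ 𝔞 ^ n, ∀ y : C, a • y = 0 := by
    intro a ha y
    have h1 : algebraMap A C a ∈ (𝔞 ^ n).map (algebraMap A C) := Ideal.mem_map_of_mem _ ha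
    rw [hC, Ideal.mem_bot] at h1
    rw [Algebra.smul_def, h1, zero_mul]
  have hQkill : ∀ a ∈ 𝔞 ^ n, ∀ y : C₀, a • y = 0 := by
    intro a ha y
    obtain ⟨c, rfl⟩ := hq y
    rw [← map_smul, hPkill a ha c, map_zero]
  obtain ⟨w, ⟨m', hw⟩, hwq⟩ := hproj n C C₀ hPkill hQkill q.toLinearMap hq u.toLinearMap hu
  obtain ⟨m, hu⟩ := hu
  have hqw : ∀ b, q (w b) = u b := fun b => LinearMap.congr_fun hwq b
  exact step1b 𝔞 𝔟 hL q hq hK2 hKa u w (max m m') hqw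
    (fun x hx => hu x (Ideal.pow_le_pow_right (le_max_left m m') hx))
    (fun x hx => hw x (Ideal.pow_le_pow_right (le_max_right m m') hx))

theorem step2 (hproj : FProj 𝔞 𝔟) (hL : LiftKilled 𝔞 𝔟 2) (i : ℕ) :
    ∀ (C C₀ : Type u) [CommRing C] [Algebra A C] [CommRing C₀] [Algebra A C₀] (q : C →ₐ[A] C₀),
      Function.Surjective q → RingHom.ker q ^ 2 = ⊥ → ∀ n : ℕ, (𝔞 ^ n).map (algebraMap A C) = ⊥ →
      (𝔞 ^ i).map (algebraMap A C) * RingHom.ker q = ⊥ →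
      ∀ u : B →ₐ[A] C₀, (∃ m : ℕ, ∀ x ∈ 𝔟 ^ m, u x = 0) → ∃ v : B →ₐ[A] C, q.comp v = u := by
  induction i with
  | zero =>
    intro C C₀ _ _ _ _ q hq _ n _ hi u _
    rw [pow_zero, Ideal.one_eq_top, Ideal.map_top, Ideal.top_mul] at hi
    have hinj : Function.Injective q := (RingHom.injective_iff_ker_eq_bot q.toRingHom).2 hi
    let e : C ≃ₐ[A] C₀ := AlgEquiv.ofBijective q ⟨hinj, hq⟩
    refine ⟨(e.symm : C₀ →ₐ[A] C).comp u, ?_⟩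
    ext b
    change q (e.symm (u b)) = u b
    exact e.apply_symm_apply (u b)
  | succ i ih =>
    intro C C₀ _ _ _ _ q hq hK2 n hn hi u hu
    set K := RingHom.ker q with hK
    set K₁ : Ideal C := 𝔞.map (algebraMap A C) * K with hK₁
    have hK₁le : K₁ ≤ K := by
      rw [hK₁, Ideal.mul_le]
      intro r _ s hs
      exact Ideal.mul_mem_left _ r hs
    have hq₁ := qFactor_surjective q hq K₁ hK₁le
    have hker₁ : RingHom.ker (qFactor q K₁ hK₁le) ^ 2 = ⊥ := by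
      rw [ker_qFactor]
      have := Ideal.map_pow (Ideal.Quotient.mk K₁) K 2
      rw [← this, hK2, Ideal.map_bot]
    have hKa₁ : ∀ a ∈ 𝔞, ∀ k ∈ RingHom.ker (qFactor q K₁ hK₁le), a • k = 0 := by
      intro a ha k hk
      rw [ker_qFactor, Ideal.mem_map_iff_of_surjective _ Ideal.Quotient.mk_surjective] at hk
      obtain ⟨k', hk', rfl⟩ := hk
      rw [Algebra.smul_def, IsScalarTower.algebraMap_apply A C (C ⧸ K₁)]
      change Ideal.Quotient.mk K₁ (algebraMap A C a) * Ideal.Quotient.mk K₁ k' = 0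
      rw [← map_mul, Ideal.Quotient.eq_zero_iff_mem]
      exact Ideal.mul_mem_mul (Ideal.mem_map_of_mem _ ha) hk'
    have hn₁ : (𝔞 ^ n).map (algebraMap A (C ⧸ K₁)) = ⊥ := by
      rw [IsScalarTower.algebraMap_eq A C (C ⧸ K₁), ← Ideal.map_map, hn, Ideal.map_bot]
    obtain ⟨u₁, hu₁⟩ := step1 𝔞 𝔟 hproj hL (qFactor q K₁ hK₁le) hq₁ hker₁ hKa₁ n hn₁ u hu
    have hu₁c : ∃ k : ℕ, ∀ x ∈ 𝔟 ^ k, u₁ x = 0 := by
      obtain ⟨k, hk⟩ := hu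
      refine ⟨k * 2, fun x hx => ?_⟩
      have h1 : (𝔟 ^ k).map u₁.toRingHom ≤ RingHom.ker (qFactor q K₁ hK₁le) := by
        rw [Ideal.map_le_iff_le_comap]
        intro y hy
        rw [Ideal.mem_comap, RingHom.mem_ker]
        have := congrArg (fun f : B →ₐ[A] C₀ => f y) hu₁
        simp only [AlgHom.comp_apply] at this
        change qFactor q K₁ hK₁le (u₁ y) = 0
        rw [this]
        exact hk y hy
      have h2 : u₁.toRingHom x ∈ ((𝔟 ^ k) ^ 2).map u₁.toRingHom := by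
        apply Ideal.mem_map_of_mem
        rw [← pow_mul]
        exact hx
      rw [Ideal.map_pow] at h2
      have h3 := Ideal.pow_right_mono h1 2 h2
      rw [hker₁, Ideal.mem_bot] at h3
      exact h3
    have hkmk : RingHom.ker (Ideal.Quotient.mkₐ A K₁) = K₁ := Ideal.Quotient.mkₐ_ker A K₁
    have hK₁2 : RingHom.ker (Ideal.Quotient.mkₐ A K₁) ^ 2 = ⊥ := by
      rw [hkmk, eq_bot_iff, ← hK2]
      exact Ideal.pow_right_mono hK₁le 2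
    have hi' : (𝔞 ^ i).map (algebraMap A C) * RingHom.ker (Ideal.Quotient.mkₐ A K₁) = ⊥ := by
      rw [hkmk, hK₁, ← mul_assoc, ← Ideal.map_mul, ← pow_succ]
      exact hi
    obtain ⟨v, hv⟩ := ih C (C ⧸ K₁) (Ideal.Quotient.mkₐ A K₁)
      (Ideal.Quotient.mkₐ_surjective A K₁) hK₁2 n hn hi' u₁ hu₁c
    refine ⟨v, ?_⟩
    rw [← hu₁, ← hv]
    ext b
    rfl

theorem of_quotient (hproj : FProj 𝔞 𝔟)
    (h₀ : EGA41.IsFormallySmoothAdic (A ⧸ 𝔞) ⊥ (B ⧸ 𝔞.map (algebraMap A B))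
        (𝔟.map (Ideal.Quotient.mk (𝔞.map (algebraMap A B))))) :
    EGA41.IsFormallySmoothAdic A 𝔞 B 𝔟 := by
  apply isFormallySmoothAdic_of_liftSurj
  intro C C₀ _ _ _ _ q hq hker hC u hu
  obtain ⟨n, hn⟩ := hC
  refine step2 𝔞 𝔟 hproj (liftKilled_of_quotient 𝔞 𝔟 h₀ 2) n C C₀ q hq hker n hn ?_ u hu
  rw [hn, Ideal.bot_mul]

end


/-- Let A be 𝔞-adic (a preadmissible ring with ideal of definition 𝔞), B a topological A-algebra for the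
𝔟-adic topology (a power of 𝔞 maps into 𝔟) which is a formally projective topological A-module, and
put A₀ = A/𝔞, B₀ = B/𝔞B with the quotient topologies (A₀ discrete). Then B is a formally smooth
A-algebra if and only if B₀ is a formally smooth A₀-algebra. -/
theorem result {A B : Type u} [CommRing A] [CommRing B] [Algebra A B]
    (𝔞 : Ideal A) (𝔟 : Ideal B) (hAB : ∃ k : ℕ, (𝔞 ^ k).map (algebraMap A B) ≤ 𝔟)
    (hproj : ∀ (n : ℕ) (P Q : Type u) [AddCommGroup P] [Module A P] [AddCommGroup Q] [Module A Q],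
      (∀ a ∈ 𝔞 ^ n, ∀ y : P, a • y = 0) → (∀ a ∈ 𝔞 ^ n, ∀ y : Q, a • y = 0) →
      ∀ f : P →ₗ[A] Q, Function.Surjective f → ∀ v : B →ₗ[A] Q, (∃ m : ℕ, ∀ x ∈ 𝔟 ^ m, v x = 0) →
        ∃ w : B →ₗ[A] P, (∃ m : ℕ, ∀ x ∈ 𝔟 ^ m, w x = 0) ∧ f ∘ₗ w = v) :
    EGA41.IsFormallySmoothAdic A 𝔞 B 𝔟 ↔
      EGA41.IsFormallySmoothAdic (A ⧸ 𝔞) ⊥ (B ⧸ 𝔞.map (algebraMap A B))
        (𝔟.map (Ideal.Quotient.mk (𝔞.map (algebraMap A B)))) := by
  exact ⟨quotient_of_isFormallySmoothAdic 𝔞 𝔟, of_quotient 𝔞 𝔟 hproj⟩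

end Groth.Agent.S4553
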