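import Groth.Statements.S4554
import Groth.Agent.LibAdic29
import Groth.Agent.LibAdic29b
-- import your own Groth.Agent.* helpers here

set_option autoImplicit false
universe u
open EGA41

namespace Groth.Agent.S4554
open TensorProduct
open Groth.Agent.LibAdic29

section

variable {A B A' : Type u} [CommRing A] [CommRing B] [CommRing A'] [Algebra A B] [Algebra A A']
  (𝔞 : Ideal A) (𝔟 : Ideal B)

/-- base change: formal smoothness of `B` over `A` gives that of `A' ⊗ B` over `A'`. -/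
theorem baseChange (h : EGA41.IsFormallySmoothAdic A 𝔞 B 𝔟) :
    EGA41.IsFormallySmoothAdic A' (𝔞.map (algebraMap A A')) (A' ⊗[A] B)
        ((𝔞.map (algebraMap A A')).map (algebraMap A' (A' ⊗[A] B)) ⊔
          𝔟.map (Algebra.TensorProduct.includeRight : B →ₐ[A] A' ⊗[A] B).toRingHom) := by
  intro C' _ _ J' hJ' hC' u' hu'
  let _ : Algebra A C' := Algebra.compHom C' (algebraMap A A')
  have : IsScalarTower A A' C' := IsScalarTower.of_algebraMap_eq (fun _ => rfl)
  let u : B →ₐ[A] C' ⧸ J' :=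
    (u'.restrictScalars A).comp (Algebra.TensorProduct.includeRight : B →ₐ[A] A' ⊗[A] B)
  have hC : ∃ k : ℕ, (𝔞 ^ k).map (algebraMap A C') = ⊥ := by
    obtain ⟨k, hk⟩ := hC'
    refine ⟨k, ?_⟩
    rw [IsScalarTower.algebraMap_eq A A' C', ← Ideal.map_map, Ideal.map_pow]
    exact hk
  have hu : ∃ k : ℕ, ∀ x ∈ 𝔟 ^ k, u x = 0 := by
    obtain ⟨k, hk⟩ := hu'
    refine ⟨k, fun x hx => ?_⟩
    apply hk
    refine Ideal.pow_right_mono le_sup_right k ?_
    rw [← Ideal.map_pow]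
    exact Ideal.mem_map_of_mem _ hx
  obtain ⟨v, hv⟩ := h C' J' hJ' hC u hu
  refine ⟨Algebra.TensorProduct.lift (Algebra.ofId A' C') v (fun _ _ => Commute.all _ _), ?_⟩
  apply Algebra.TensorProduct.ext
  · ext
  · ext b
    have := congrArg (fun f : B →ₐ[A] C' ⧸ J' => f b) hv
    simpa [u] using this

/-- descent: formal smoothness of `A' ⊗ B` over `A'` gives that of `B` over `A`, when `A'` has an
`A`-linear retraction. -/
theorem descent (ρ : A' →ₗ[A] A) (hρ : ρ 1 = 1)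
    (h : EGA41.IsFormallySmoothAdic A' (𝔞.map (algebraMap A A')) (A' ⊗[A] B)
        ((𝔞.map (algebraMap A A')).map (algebraMap A' (A' ⊗[A] B)) ⊔
          𝔟.map (Algebra.TensorProduct.includeRight : B →ₐ[A] A' ⊗[A] B).toRingHom)) :
    EGA41.IsFormallySmoothAdic A 𝔞 B 𝔟 := by
  apply isFormallySmoothAdic_of_liftSurj
  intro C C₀ _ _ _ _ q hq hker hC u hu
  -- the base-changed problem
  let q' : A' ⊗[A] C →ₐ[A'] A' ⊗[A] C₀ := Algebra.TensorProduct.map (AlgHom.id A' A') q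
  let u' : A' ⊗[A] B →ₐ[A'] A' ⊗[A] C₀ := Algebra.TensorProduct.map (AlgHom.id A' A') u
  have hq' : Function.Surjective q' :=
    Algebra.TensorProduct.map_surjective (f := AlgHom.id A' A') (g := q)
      (fun x => ⟨x, rfl⟩) hq
  have hkerq' : RingHom.ker q' =
      (RingHom.ker q).map (Algebra.TensorProduct.includeRight : C →ₐ[A] A' ⊗[A] C) := by
    have := Algebra.TensorProduct.lTensor_ker (R := A) (A := A') q hq
    rw [← this]
    ext x
    rfl
  have hker' : RingHom.ker q' ^ 2 = ⊥ := by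
    rw [hkerq']
    have : ((RingHom.ker q).map (Algebra.TensorProduct.includeRight : C →ₐ[A] A' ⊗[A] C)) ^ 2 =
        ((RingHom.ker q) ^ 2).map
          (Algebra.TensorProduct.includeRight : C →ₐ[A] A' ⊗[A] C).toRingHom :=
      (Ideal.map_pow _ _ _).symm
    rw [this, hker, Ideal.map_bot]
  have halg : ∀ (D : Type u) [CommRing D] [Algebra A D],
      algebraMap A (A' ⊗[A] D) =
        (Algebra.TensorProduct.includeRight : D →ₐ[A] A' ⊗[A] D).toRingHom.comp
          (algebraMap A D) := by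
    intro D _ _
    ext a
    simp
  have hdisc : ∀ (D : Type u) [CommRing D] [Algebra A D] (k : ℕ),
      (𝔞 ^ k).map (algebraMap A D) = ⊥ →
      ((𝔞.map (algebraMap A A')) ^ k).map (algebraMap A' (A' ⊗[A] D)) = ⊥ := by
    intro D _ _ k hk
    rw [← Ideal.map_pow, Ideal.map_map, ← IsScalarTower.algebraMap_eq, halg D, ← Ideal.map_map, hk,
      Ideal.map_bot]
  have hC' : ∃ k : ℕ, ((𝔞.map (algebraMap A A')) ^ k).map (algebraMap A' (A' ⊗[A] C)) = ⊥ := by
    obtain ⟨k, hk⟩ := hC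
    exact ⟨k, hdisc C k hk⟩
  have hu' : ∃ k : ℕ, ∀ x ∈ ((𝔞.map (algebraMap A A')).map (algebraMap A' (A' ⊗[A] B)) ⊔
          𝔟.map (Algebra.TensorProduct.includeRight : B →ₐ[A] A' ⊗[A] B).toRingHom) ^ k,
        u' x = 0 := by
    obtain ⟨k₁, hk₁⟩ := hC
    obtain ⟨k₂, hk₂⟩ := hu
    have hC₀ : (𝔞 ^ k₁).map (algebraMap A C₀) = ⊥ := by
      have : algebraMap A C₀ = q.toRingHom.comp (algebraMap A C) := by
        ext a; simp
      rw [this, ← Ideal.map_map, hk₁, Ideal.map_bot]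
    refine ⟨k₁ + k₂, fun x hx => ?_⟩
    have hx' := Ideal.sup_pow_add_le_pow_sup_pow hx
    suffices hle : ((𝔞.map (algebraMap A A')).map (algebraMap A' (A' ⊗[A] B))) ^ k₁ ⊔
        (𝔟.map (Algebra.TensorProduct.includeRight : B →ₐ[A] A' ⊗[A] B).toRingHom) ^ k₂ ≤
        RingHom.ker u' from hle hx'
    rw [sup_le_iff]
    constructor
    · rw [← Ideal.map_pow, Ideal.map_le_iff_le_comap]
      intro a' ha'
      rw [Ideal.mem_comap, RingHom.mem_ker, AlgHom.commutes]
      have h1 : algebraMap A' (A' ⊗[A] C₀) a' ∈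
          ((𝔞.map (algebraMap A A')) ^ k₁).map (algebraMap A' (A' ⊗[A] C₀)) :=
        Ideal.mem_map_of_mem _ ha'
      rw [hdisc C₀ k₁ hC₀, Ideal.mem_bot] at h1
      exact h1
    · rw [← Ideal.map_pow, Ideal.map_le_iff_le_comap]
      intro b hb
      rw [Ideal.mem_comap, RingHom.mem_ker]
      change u' ((1 : A') ⊗ₜ[A] b) = 0
      simp only [u', Algebra.TensorProduct.map_tmul, AlgHom.coe_id, id_eq]
      rw [hk₂ b hb, TensorProduct.tmul_zero]
  obtain ⟨v', hv'⟩ := liftSurj_of_isFormallySmoothAdic h 2 (A' ⊗[A] C) (A' ⊗[A] C₀) q' hq' hker'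
    hC' u' hu'
  -- the descended map
  have hv'b : ∀ b : B, q' (v' ((1 : A') ⊗ₜ[A] b)) = (1 : A') ⊗ₜ[A] u b := by
    intro b
    have := congrArg (fun f : A' ⊗[A] B →ₐ[A'] A' ⊗[A] C₀ => f ((1 : A') ⊗ₜ[A] b)) hv'
    simpa [u'] using this
  let vfun : B → C := fun b => rhoC ρ C (v' ((1 : A') ⊗ₜ[A] b))
  have hqv : ∀ b, q (vfun b) = u b := by
    intro b
    simp only [vfun]
    rw [rhoC_natural ρ q]
    change rhoC ρ C₀ (q' (v' ((1 : A') ⊗ₜ[A] b))) = u b
    rw [hv'b, rhoC_one_tmul ρ hρ]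
  have hmul : ∀ b b', vfun (b * b') = vfun b * vfun b' := by
    intro b b'
    obtain ⟨c, hc⟩ := hq (u b)
    obtain ⟨c', hc'⟩ := hq (u b')
    set x := v' ((1 : A') ⊗ₜ[A] b) with hx
    set y := v' ((1 : A') ⊗ₜ[A] b') with hy
    have hxk : x - (1 : A') ⊗ₜ[A] c ∈ RingHom.ker q' := by
      rw [RingHom.mem_ker, map_sub, hv'b]
      simp [q', hc]
    have hyk : y - (1 : A') ⊗ₜ[A] c' ∈ RingHom.ker q' := by
      rw [RingHom.mem_ker, map_sub, hv'b]
      simp [q', hc']
    have hkk : (x - (1 : A') ⊗ₜ[A] c) * (y - (1 : A') ⊗ₜ[A] c') = 0 := by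
      have : (x - (1 : A') ⊗ₜ[A] c) * (y - (1 : A') ⊗ₜ[A] c') ∈ RingHom.ker q' ^ 2 := by
        rw [pow_two]; exact Ideal.mul_mem_mul hxk hyk
      rw [hker', Ideal.mem_bot] at this
      exact this
    have hρk : ∀ z ∈ RingHom.ker q', rhoC ρ C z ∈ RingHom.ker q := by
      intro z hz
      rw [RingHom.mem_ker, rhoC_natural ρ q]
      change rhoC ρ C₀ (q' z) = 0
      rw [(RingHom.mem_ker).1 hz, map_zero]
    have hkk2 : rhoC ρ C (x - (1 : A') ⊗ₜ[A] c) * rhoC ρ C (y - (1 : A') ⊗ₜ[A] c') = 0 := by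
      have : rhoC ρ C (x - (1 : A') ⊗ₜ[A] c) * rhoC ρ C (y - (1 : A') ⊗ₜ[A] c') ∈
          RingHom.ker q ^ 2 := by
        rw [pow_two]; exact Ideal.mul_mem_mul (hρk _ hxk) (hρk _ hyk)
      rw [hker, Ideal.mem_bot] at this
      exact this
    have hxy : vfun (b * b') = rhoC ρ C (x * y) := by
      simp only [vfun]
      rw [hx, hy, ← map_mul, Algebra.TensorProduct.tmul_mul_tmul, one_mul]
    have hdec : x * y = ((1 : A') ⊗ₜ[A] c) * y + ((1 : A') ⊗ₜ[A] c') * x
        - ((1 : A') ⊗ₜ[A] (c * c')) + (x - (1 : A') ⊗ₜ[A] c) * (y - (1 : A') ⊗ₜ[A] c') := by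
      have : ((1 : A') ⊗ₜ[A] (c * c')) = ((1 : A') ⊗ₜ[A] c) * ((1 : A') ⊗ₜ[A] c') := by
        rw [Algebra.TensorProduct.tmul_mul_tmul, one_mul]
      rw [this]
      ring
    rw [hxy, hdec, hkk, add_zero, map_sub, map_add, rhoC_mul, rhoC_mul, rhoC_one_tmul ρ hρ]
    have e1 : vfun b = rhoC ρ C x := rfl
    have e2 : vfun b' = rhoC ρ C y := rfl
    rw [e1, e2]
    rw [map_sub, map_sub, rhoC_one_tmul ρ hρ, rhoC_one_tmul ρ hρ] at hkk2
    linear_combination (-1 : C) * hkk2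
  have hadd : ∀ b b', vfun (b + b') = vfun b + vfun b' := by
    intro b b'
    simp only [vfun]
    rw [TensorProduct.tmul_add, map_add, map_add]
  have halgv : ∀ a : A, vfun (algebraMap A B a) = algebraMap A C a := by
    intro a
    simp only [vfun]
    rw [Algebra.algebraMap_eq_smul_one, TensorProduct.tmul_smul, ← Algebra.TensorProduct.one_def]
    have : v' (a • (1 : A' ⊗[A] B)) = a • (1 : A' ⊗[A] C) := by
      rw [← Algebra.algebraMap_eq_smul_one, ← Algebra.algebraMap_eq_smul_one,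
        IsScalarTower.algebraMap_apply A A' (A' ⊗[A] B), AlgHom.commutes,
        ← IsScalarTower.algebraMap_apply]
    rw [this, map_smul, Algebra.TensorProduct.one_def, rhoC_one_tmul ρ hρ,
      ← Algebra.algebraMap_eq_smul_one]
  have hone : vfun 1 = 1 := by
    have := halgv 1
    simpa using this
  have hzero : vfun 0 = 0 := by
    have := halgv 0
    simpa using this
  refine ⟨{ toFun := vfun, map_one' := hone, map_mul' := hmul, map_zero' := hzero,
            map_add' := hadd, commutes' := halgv }, ?_⟩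
  ext b
  exact hqv b

end


open TensorProduct in
/-- Let A be 𝔞-adic, B a topological A-algebra for the 𝔟-adic topology (a power of 𝔞 maps into 𝔟) which
is a formally projective topological A-module, and A' an A-algebra with the topology deduced from A
(the 𝔞A'-adic topology) which is a faithfully flat, projective A-module of finite type. Then B' = A'
⊗_A B, with the tensor product topology (the adic topology of the ideal generated by the images of 𝔞
and 𝔟), is a formally smooth A'-algebra if and only if B is a formally smooth A-algebra. -/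
theorem result {A B A' : Type u} [CommRing A] [CommRing B]
    [CommRing A'] [Algebra A B] [Algebra A A'] (𝔞 : Ideal A) (𝔟 : Ideal B) (hAB : ∃ k : ℕ, (𝔞 ^ k).map (algebraMap A B) ≤ 𝔟)
    (hproj : ∀ (n : ℕ) (P Q : Type u) [AddCommGroup P] [Module A P] [AddCommGroup Q] [Module A Q],
      (∀ a ∈ 𝔞 ^ n, ∀ y : P, a • y = 0) → (∀ a ∈ 𝔞 ^ n, ∀ y : Q, a • y = 0) →
      ∀ f : P →ₗ[A] Q, Function.Surjective f → ∀ v : B →ₗ[A] Q, (∃ m : ℕ, ∀ x ∈ 𝔟 ^ m, v x = 0) →
        ∃ w : B →ₗ[A] P, (∃ m : ℕ, ∀ x ∈ 𝔟 ^ m, w x = 0) ∧ f ∘ₗ w = v)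
    [Module.FaithfullyFlat A A'] [Module.Projective A A'] [Module.Finite A A'] :
    EGA41.IsFormallySmoothAdic A' (𝔞.map (algebraMap A A')) (A' ⊗[A] B)
        ((𝔞.map (algebraMap A A')).map (algebraMap A' (A' ⊗[A] B)) ⊔
          𝔟.map (Algebra.TensorProduct.includeRight : B →ₐ[A] A' ⊗[A] B).toRingHom) ↔
      EGA41.IsFormallySmoothAdic A 𝔞 B 𝔟 := by
  obtain ⟨ρ, hρ⟩ := exists_retraction_of_faithfullyFlat_projective A A'
  exact ⟨descent 𝔞 𝔟 ρ hρ, baseChange 𝔞 𝔟⟩

end Groth.Agent.S4554
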