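import Groth.Statements.S4555
import Groth.Agent.LibPS29
-- import your own Groth.Agent.* helpers here

set_option autoImplicit false
universe u
open EGA41

namespace Groth.Agent.S4555
open Groth.Agent.LibPS29

lemma exists_uniform_nilpotent {E : Type u} [CommRing E] {n : ℕ} (z : Fin n → E)
    (hz : ∀ i, IsNilpotent (z i)) : ∃ N : ℕ, 1 ≤ N ∧ ∀ i, z i ^ (N + 1) = 0 := by
  choose k hk using hz
  refine ⟨1 + ∑ i, k i, by omega, fun i => ?_⟩
  have h1 : k i ≤ ∑ j, k j := Finset.single_le_sum (f := k) (fun _ _ => Nat.zero_le _) (Finset.mem_univ i)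
  exact pow_eq_zero_of_le (by omega) (hk i)


/-- Let A carry the 𝔞-adic topology, B = A[[T_1, …, T_n]] the product topology (the adic topology of 𝔞B
+ (T_1, …, T_n)), and let E be a discrete topological A-algebra (a power of 𝔞 kills E). (i) If f : B
→ E is a continuous A-algebra homomorphism then each f(T_i) is nilpotent. (ii) Conversely, for every
family (z_i) of nilpotent elements of E there is one and only one continuous A-algebra homomorphism
g : B → E with g(T_i) = z_i for all i. -/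
theorem result (A : Type u) [CommRing A] (𝔞 : Ideal A) (n : ℕ) (E : Type u) [CommRing E]
    [Algebra A E] (hE : ∃ k : ℕ, (𝔞 ^ k).map (algebraMap A E) = ⊥) :
    (∀ f : MvPowerSeries (Fin n) A →ₐ[A] E,
      (∃ m : ℕ, ∀ x ∈ (𝔞.map (MvPowerSeries.C : A →+* MvPowerSeries (Fin n) A) ⊔
        RingHom.ker (MvPowerSeries.constantCoeff : MvPowerSeries (Fin n) A →+* A)) ^ m, f x = 0) →
      ∀ i, IsNilpotent (f (MvPowerSeries.X i))) ∧
    ∀ z : Fin n → E, (∀ i, IsNilpotent (z i)) →
      ∃! g : MvPowerSeries (Fin n) A →ₐ[A] E,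
        (∃ m : ℕ, ∀ x ∈ (𝔞.map (MvPowerSeries.C : A →+* MvPowerSeries (Fin n) A) ⊔
          RingHom.ker (MvPowerSeries.constantCoeff : MvPowerSeries (Fin n) A →+* A)) ^ m, g x = 0) ∧
        ∀ i, g (MvPowerSeries.X i) = z i := by
  constructor
  · rintro f ⟨m, hm⟩ i
    refine ⟨m, ?_⟩
    rw [← map_pow]
    apply hm
    apply Ideal.pow_mem_pow
    apply Ideal.mem_sup_right
    rw [RingHom.mem_ker]
    exact MvPowerSeries.constantCoeff_X i
  · intro z hz
    obtain ⟨N, hN, hzN⟩ := exists_uniform_nilpotent z hz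
    obtain ⟨k, hk⟩ := hE
    refine ⟨ev z N hzN, ⟨⟨k + n * N, fun x hx => ev_eq_zero_of_mem_pow 𝔞 z N hzN k hk x hx⟩,
      fun i => ev_X z N hN hzN i⟩, ?_⟩
    rintro g ⟨_, hg⟩
    exact algHom_eq_ev z N hzN g hg

end Groth.Agent.S4555
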