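import Groth.Statements.S4556
import Mathlib.Algebra.Algebra.Prod
import Mathlib.Algebra.Algebra.Subalgebra.Basic

set_option autoImplicit false
universe u
open EGA41

namespace Groth.Agent.S4556

/-- Let B be a formally smooth A-algebra, E and E' two A-algebras, R (resp. R') a nilpotent ideal of E
(resp. E'), f : E → E' a surjective A-algebra homomorphism with f(R) = R', and f' : E/R → E'/R' the
induced homomorphism. Let u : B → E/R be an A-algebra homomorphism and v' : B → E' an A-algebra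
homomorphism through which f' ∘ u factors (v' followed by E' → E'/R' equals f' ∘ u). Then there is
an A-algebra homomorphism v : B → E with f ∘ v = v'. (The published statement assumes only f(R) ⊆
R'; in that form it fails for B = ℚ[x, x⁻¹], E = ℚ[t], E' = ℚ[t]/(t²), R = 0, R' = (t), u : x ↦ 1
and v' : x ↦ 1 + t, since any v sends x to a unit of ℚ[t], a constant; the argument identifies R'
with the image of R, and that equality is assumed here.) -/
theorem result {A B E E' : Type u} [CommRing A] [CommRing B] [Algebra A B]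
    [Algebra.FormallySmooth A B] [CommRing E] [CommRing E'] [Algebra A E] [Algebra A E']
    (R : Ideal E) (R' : Ideal E') (hR : IsNilpotent R) (hR' : IsNilpotent R')
    (f : E →ₐ[A] E') (hf : Function.Surjective f) (hfR : R.map f.toRingHom = R')
    (u : B →ₐ[A] E ⧸ R) (v' : B →ₐ[A] E')
    (huv : (Ideal.Quotient.mkₐ A R').comp v' =
      (Ideal.quotientMapₐ R' f (fun x hx => hfR.le (Ideal.mem_map_of_mem f.toRingHom hx))).comp u) :
    ∃ v : B →ₐ[A] E, f.comp v = v' := by
  let f' : (E ⧸ R) →ₐ[A] (E' ⧸ R') :=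
    Ideal.quotientMapₐ R' f (fun x hx => hfR.le (Ideal.mem_map_of_mem f.toRingHom hx))
  let φ : (E' × (E ⧸ R)) →ₐ[A] (E' ⧸ R') :=
    (Ideal.Quotient.mkₐ A R').comp (AlgHom.fst A E' (E ⧸ R))
  let ψ : (E' × (E ⧸ R)) →ₐ[A] (E' ⧸ R') := f'.comp (AlgHom.snd A E' (E ⧸ R))
  let P : Subalgebra A (E' × (E ⧸ R)) := AlgHom.equalizer φ ψ
  let g₀ : E →ₐ[A] E' × (E ⧸ R) := f.prod (Ideal.Quotient.mkₐ A R)
  have hg₀ : ∀ e, g₀ e ∈ P := by
    intro e
    change φ (g₀ e) = ψ (g₀ e)
    rfl
  let g : E →ₐ[A] P := g₀.codRestrict P hg₀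
  have hgsurj : Function.Surjective g := by
    rintro ⟨⟨e', ē⟩, hmem⟩
    obtain ⟨e, rfl⟩ := Ideal.Quotient.mk_surjective ē
    have h1 : Ideal.Quotient.mk R' e' = Ideal.Quotient.mk R' (f e) := hmem
    have h2 : f e - e' ∈ R' := by
      rw [← Ideal.Quotient.eq]; exact h1.symm
    rw [← hfR] at h2
    obtain ⟨ρ, hρ, hρe⟩ := (Ideal.mem_map_iff_of_surjective f.toRingHom hf).1 h2
    have hρe' : f ρ = f e - e' := hρe
    refine ⟨e - ρ, ?_⟩
    apply Subtype.ext
    apply Prod.ext
    · change f (e - ρ) = e'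
      rw [map_sub, hρe']; ring
    · change Ideal.Quotient.mk R (e - ρ) = Ideal.Quotient.mk R e
      rw [map_sub, (Ideal.Quotient.eq_zero_iff_mem).2 hρ, sub_zero]
  have hle : RingHom.ker (g : E →+* P) ≤ R := by
    intro x hx
    have h1 : g x = 0 := hx
    have h2 : Ideal.Quotient.mk R x = 0 := congrArg (fun p : P => p.1.2) h1
    exact Ideal.Quotient.eq_zero_iff_mem.1 h2
  have hgker : IsNilpotent (RingHom.ker (g : E →+* P)) := by
    obtain ⟨k, hk⟩ := hR
    refine ⟨k, ?_⟩
    have := Ideal.pow_right_mono hle k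
    rw [hk] at this
    exact le_bot_iff.1 this
  let w₀ : B →ₐ[A] E' × (E ⧸ R) := v'.prod u
  have hw₀ : ∀ b, w₀ b ∈ P := fun b => by
    change φ (w₀ b) = ψ (w₀ b)
    exact AlgHom.congr_fun huv b
  let w : B →ₐ[A] P := w₀.codRestrict P hw₀
  refine ⟨Algebra.FormallySmooth.liftOfSurjective w g hgsurj hgker, ?_⟩
  ext b
  have h := Algebra.FormallySmooth.liftOfSurjective_apply w g hgsurj hgker b
  exact congrArg (fun p : P => p.1.1) h

end Groth.Agent.S4556
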