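import Groth.Statements.S4559
import Groth.Agent.Lib.Helper24.AdicUnram

set_option autoImplicit false
universe u
open EGA41

namespace Groth.Agent.S4559

/-- Let A be 𝔞-adic and B a topological A-algebra for the 𝔟-adic topology (a power of 𝔞 maps into 𝔟).
Then B is a formally unramified A-algebra (for every homomorphism E → C of discrete A-algebras with
nilpotent kernel and every continuous u : B → C there is at most one continuous lift B → E; here E
discrete means killed by a power of 𝔞, and one may take C = E/J) if and only if the separated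
completion of Ω_{B/A}, i.e. its 𝔟-adic completion, is zero. -/
theorem result {A B : Type u} [CommRing A] [CommRing B] [Algebra A B]
    (𝔞 : Ideal A) (𝔟 : Ideal B) (hAB : ∃ k : ℕ, (𝔞 ^ k).map (algebraMap A B) ≤ 𝔟) :
    (∀ (E : Type u) [CommRing E] [Algebra A E], (∃ k : ℕ, (𝔞 ^ k).map (algebraMap A E) = ⊥) →
      ∀ J : Ideal E, IsNilpotent J → ∀ v₁ v₂ : B →ₐ[A] E,
        (∃ m : ℕ, ∀ x ∈ 𝔟 ^ m, v₁ x = 0) → (∃ m : ℕ, ∀ x ∈ 𝔟 ^ m, v₂ x = 0) →
        (∀ b : B, Ideal.Quotient.mk J (v₁ b) = Ideal.Quotient.mk J (v₂ b)) → v₁ = v₂) ↔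
    Subsingleton (AdicCompletion 𝔟 (Ω[B⁄A])) := by
  obtain ⟨k, hk⟩ := hAB
  constructor
  · intro H
    -- `B ⧸ 𝔟²` is formally unramified over `A`
    haveI hunr : Algebra.FormallyUnramified A (B ⧸ 𝔟 ^ 2) := by
      rw [Algebra.FormallyUnramified.iff_comp_injective]
      intro E' _ _ I hI f₁ f₂ hf
      let v₁ : B →ₐ[A] E' := f₁.comp (Ideal.Quotient.mkₐ A (𝔟 ^ 2))
      let v₂ : B →ₐ[A] E' := f₂.comp (Ideal.Quotient.mkₐ A (𝔟 ^ 2))
      have hkE : ∃ k' : ℕ, (𝔞 ^ k').map (algebraMap A E') = ⊥ := by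
        refine ⟨k * 2, ?_⟩
        rw [Ideal.map_eq_bot_iff_le_ker]
        intro a ha
        rw [RingHom.mem_ker, ← f₁.commutes a,
          IsScalarTower.algebraMap_apply A B (B ⧸ 𝔟 ^ 2), Ideal.Quotient.algebraMap_eq]
        have h1 : algebraMap A B a ∈ 𝔟 ^ 2 := by
          have h2 : algebraMap A B a ∈ ((𝔞 ^ k).map (algebraMap A B)) ^ 2 := by
            rw [← Ideal.map_pow, ← pow_mul]
            exact Ideal.mem_map_of_mem _ ha
          exact Ideal.pow_right_mono hk 2 h2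
        rw [Ideal.Quotient.eq_zero_iff_mem.mpr h1, map_zero]
      have hc₁ : ∃ m : ℕ, ∀ x ∈ 𝔟 ^ m, v₁ x = 0 := ⟨2, fun x hx => by
        show f₁ (Ideal.Quotient.mk _ x) = 0
        rw [Ideal.Quotient.eq_zero_iff_mem.mpr hx, map_zero]⟩
      have hc₂ : ∃ m : ℕ, ∀ x ∈ 𝔟 ^ m, v₂ x = 0 := ⟨2, fun x hx => by
        show f₂ (Ideal.Quotient.mk _ x) = 0
        rw [Ideal.Quotient.eq_zero_iff_mem.mpr hx, map_zero]⟩
      have h12 := H E' hkE I ⟨2, hI⟩ v₁ v₂ hc₁ hc₂ (fun b =>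
        DFunLike.congr_fun hf (Ideal.Quotient.mk (𝔟 ^ 2) b))
      apply AlgHom.ext
      intro y
      obtain ⟨b, rfl⟩ := Ideal.Quotient.mk_surjective y
      exact DFunLike.congr_fun h12 b
    have hd : ∀ x ∈ 𝔟 ^ 2, KaehlerDifferential.D A B x ∈
        𝔟 • (⊤ : Submodule B (Ω[B⁄A])) := by
      intro x hx
      rw [pow_two] at hx
      refine Submodule.mul_induction_on hx ?_ ?_
      · intro b hb c hc
        rw [Derivation.leibniz]
        exact add_mem (Submodule.smul_mem_smul hb Submodule.mem_top)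
          (Submodule.smul_mem_smul hc Submodule.mem_top)
      · intro y z hy hz
        rw [map_add]; exact add_mem hy hz
    have h := Groth.Agent.Lib.Helper24.AdicUnram.smul_top_eq_top_of_subsingleton 𝔟 (𝔟 ^ 2)
      (Ideal.pow_le_self two_ne_zero) hd
    refine ⟨fun x y => ?_⟩
    apply AdicCompletion.ext
    intro n
    haveI : Subsingleton (Ω[B⁄A] ⧸ (𝔟 ^ n • (⊤ : Submodule B (Ω[B⁄A])))) :=
      Submodule.Quotient.subsingleton_iff.mpr
        (Groth.Agent.Lib.Helper24.AdicUnram.pow_smul_top_eq_top 𝔟 h n)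
    exact Subsingleton.elim _ _
  · intro hsub E _ _ _ J hJ v₁ v₂ h₁ h₂ hv
    have h : 𝔟 • (⊤ : Submodule B (Ω[B⁄A])) = ⊤ := by
      apply eq_top_iff.mpr
      intro ω _
      have h0 : AdicCompletion.of 𝔟 (Ω[B⁄A]) ω = 0 := Subsingleton.elim _ _
      have h1 := congrArg (fun z => z.val 1) h0
      simp only [AdicCompletion.of_apply] at h1
      have h2 : Submodule.mkQ (𝔟 ^ 1 • (⊤ : Submodule B (Ω[B⁄A]))) ω = 0 := h1
      rw [Submodule.mkQ_apply, Submodule.Quotient.mk_eq_zero, pow_one] at h2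
      exact h2
    exact Groth.Agent.Lib.Helper24.AdicUnram.eq_of_smul_top_eq_top 𝔟 h E J hJ v₁ v₂ h₁ h₂ hv

end Groth.Agent.S4559
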