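import Groth.Statements.S4560
import Groth.Agent.Lib.Helper24.AdicUnram

set_option autoImplicit false
universe u
open EGA41

namespace Groth.Agent.S4560

/-- Let A be a ring, 𝔪 an ideal of A, B an A-algebra; give A the 𝔪-adic topology and B the topology
deduced from it (the 𝔪B-adic topology), and put A₀ = A/𝔪, B₀ = B/𝔪B. Then B is a formally unramified
A-algebra (for these topologies: E discrete means killed by a power of 𝔪, and continuity of maps B →
E is then automatic) if and only if Ω_{B₀/A₀} = 0, i.e. B₀ is a formally unramified A₀-algebra. -/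
theorem result {A B : Type u} [CommRing A] [CommRing B] [Algebra A B] (𝔪 : Ideal A) :
    (∀ (E : Type u) [CommRing E] [Algebra A E], (∃ k : ℕ, (𝔪 ^ k).map (algebraMap A E) = ⊥) →
      ∀ J : Ideal E, IsNilpotent J → ∀ v₁ v₂ : B →ₐ[A] E,
        (∀ b : B, Ideal.Quotient.mk J (v₁ b) = Ideal.Quotient.mk J (v₂ b)) → v₁ = v₂) ↔
    Subsingleton (Ω[B ⧸ 𝔪.map (algebraMap A B)⁄A ⧸ 𝔪]) := by
  constructor
  · intro H
    suffices h : Algebra.FormallyUnramified (A ⧸ 𝔪) (B ⧸ 𝔪.map (algebraMap A B)) from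
      h.subsingleton_kaehlerDifferential
    rw [Algebra.FormallyUnramified.iff_comp_injective]
    intro E' _ _ I hI f₁ f₂ hf
    letI : Algebra A E' := Algebra.compHom E' (algebraMap A (A ⧸ 𝔪))
    haveI : IsScalarTower A (A ⧸ 𝔪) E' := IsScalarTower.of_algebraMap_eq fun _ => rfl
    let v₁ : B →ₐ[A] E' :=
      (f₁.restrictScalars A).comp (Ideal.Quotient.mkₐ A (𝔪.map (algebraMap A B)))
    let v₂ : B →ₐ[A] E' :=
      (f₂.restrictScalars A).comp (Ideal.Quotient.mkₐ A (𝔪.map (algebraMap A B)))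
    have hk : ∃ k : ℕ, (𝔪 ^ k).map (algebraMap A E') = ⊥ := by
      refine ⟨1, ?_⟩
      rw [pow_one, Ideal.map_eq_bot_iff_le_ker]
      intro m hm
      rw [RingHom.mem_ker]
      show algebraMap (A ⧸ 𝔪) E' (Ideal.Quotient.mk 𝔪 m) = 0
      rw [Ideal.Quotient.eq_zero_iff_mem.mpr hm, map_zero]
    have h12 := H E' hk I ⟨2, hI⟩ v₁ v₂ (fun b =>
      DFunLike.congr_fun hf (Ideal.Quotient.mk (𝔪.map (algebraMap A B)) b))
    apply AlgHom.ext
    intro y
    obtain ⟨b, rfl⟩ := Ideal.Quotient.mk_surjective y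
    exact DFunLike.congr_fun h12 b
  · intro hsub E _ _ hk J hJ v₁ v₂ hv
    haveI : Algebra.FormallyUnramified (A ⧸ 𝔪) (B ⧸ 𝔪.map (algebraMap A B)) := ⟨hsub⟩
    haveI : Algebra.FormallyUnramified A (A ⧸ 𝔪) :=
      Algebra.FormallyUnramified.of_surjective (Algebra.ofId A (A ⧸ 𝔪))
        Ideal.Quotient.mk_surjective
    haveI : Algebra.FormallyUnramified A (B ⧸ 𝔪.map (algebraMap A B)) :=
      Algebra.FormallyUnramified.comp A (A ⧸ 𝔪) _
    have hd : ∀ x ∈ 𝔪.map (algebraMap A B), KaehlerDifferential.D A B x ∈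
        𝔪.map (algebraMap A B) • (⊤ : Submodule B (Ω[B⁄A])) := by
      intro x hx
      unfold Ideal.map at hx
      induction hx using Submodule.span_induction with
      | mem y hy =>
        obtain ⟨a, -, rfl⟩ := hy
        rw [Derivation.map_algebraMap]
        exact zero_mem _
      | zero => rw [map_zero]; exact zero_mem _
      | add y z _ _ hy hz => rw [map_add]; exact add_mem hy hz
      | smul b y hy ih =>
        rw [smul_eq_mul, Derivation.leibniz]
        exact add_mem (Submodule.smul_mem _ _ ih) (Submodule.smul_mem_smul hy Submodule.mem_top)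
    have h := Groth.Agent.Lib.Helper24.AdicUnram.smul_top_eq_top_of_subsingleton
      (𝔪.map (algebraMap A B)) (𝔪.map (algebraMap A B)) le_rfl hd
    obtain ⟨k, hk⟩ := hk
    have hcont : ∀ v : B →ₐ[A] E, ∀ x ∈ (𝔪.map (algebraMap A B)) ^ k, v x = 0 := by
      intro v x hx
      rw [← Ideal.map_pow] at hx
      have hle : (𝔪 ^ k).map (algebraMap A B) ≤ RingHom.ker v := by
        rw [Ideal.map_le_iff_le_comap]
        intro a ha
        rw [Ideal.mem_comap, RingHom.mem_ker, AlgHom.commutes]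
        have h1 : algebraMap A E a ∈ (𝔪 ^ k).map (algebraMap A E) := Ideal.mem_map_of_mem _ ha
        rw [hk] at h1
        exact h1
      exact hle hx
    exact Groth.Agent.Lib.Helper24.AdicUnram.eq_of_smul_top_eq_top (𝔪.map (algebraMap A B)) h E J hJ
      v₁ v₂ ⟨k, hcont v₁⟩ ⟨k, hcont v₂⟩ hv

end Groth.Agent.S4560
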