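import Groth.Statements.S4561
import Groth.Agent.LibPS29d
import Mathlib.Algebra.Algebra.Operations
import Mathlib.LinearAlgebra.Finsupp.LinearCombination
import Mathlib.Algebra.CharP.Algebra
import Mathlib.RingTheory.Finiteness.Defs
-- import your own Groth.Agent.* helpers here

set_option autoImplicit false
universe u
open EGA41

namespace Groth.Agent.S4561

lemma closure_le_span (p : ℕ) [Fact p.Prime] {k₀ K₀ : Type u} [Field k₀] [Field K₀]
    [Algebra k₀ K₀] [CharP k₀ p]
    (hfin : Module.Finite (Subfield.closure (Set.range fun x : k₀ => x ^ p)) k₀) :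
    ∃ s : Finset K₀, ((s : Set K₀) ⊆ Set.range (algebraMap k₀ K₀)) ∧
      ∀ c ∈ Subfield.closure (Set.range (algebraMap k₀ K₀) ∪ Set.range fun y : K₀ => y ^ p),
        c ∈ Submodule.span (Subfield.closure (Set.range fun y : K₀ => y ^ p)) (s : Set K₀) := by
  classical
  set Q := Subfield.closure (Set.range fun x : k₀ => x ^ p) with hQ
  set P := Subfield.closure (Set.range fun y : K₀ => y ^ p) with hP
  obtain ⟨t, ht⟩ := (Module.Finite.fg_top : (⊤ : Submodule Q k₀).FG)
  refine ⟨t.image (algebraMap k₀ K₀), ?_, ?_⟩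
  · intro x hx
    rw [Finset.coe_image] at hx
    obtain ⟨y, _, rfl⟩ := hx
    exact ⟨y, rfl⟩
  set N : Submodule P K₀ := Submodule.span P ((t.image (algebraMap k₀ K₀) : Finset K₀) : Set K₀)
    with hN
  have hA : ∀ q ∈ Q, algebraMap k₀ K₀ q ∈ P := by
    intro q hq
    have h1 : algebraMap k₀ K₀ q ∈ Q.map (algebraMap k₀ K₀) := ⟨q, hq, rfl⟩
    rw [hQ, RingHom.map_field_closure] at h1
    refine Subfield.closure_mono ?_ h1
    rintro _ ⟨_, ⟨x, rfl⟩, rfl⟩
    exact ⟨algebraMap k₀ K₀ x, by simp⟩
  have hB : ∀ a : k₀, algebraMap k₀ K₀ a ∈ N := by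
    intro a
    have ha : a ∈ Submodule.span Q (t : Set k₀) := by rw [ht]; trivial
    induction ha using Submodule.span_induction with
    | mem x hx =>
      apply Submodule.subset_span
      rw [Finset.coe_image]
      exact ⟨x, hx, rfl⟩
    | zero => rw [map_zero]; exact zero_mem _
    | add x y _ _ hx hy => rw [map_add]; exact add_mem hx hy
    | smul q x _ hx =>
      have : algebraMap k₀ K₀ (q • x) =
          (⟨algebraMap k₀ K₀ q, hA q q.2⟩ : P) • algebraMap k₀ K₀ x := by
        rw [Subfield.smul_def, smul_eq_mul, map_mul]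
        rfl
      rw [this]
      exact Submodule.smul_mem _ _ hx
  have hC : ∀ x y : K₀, x ∈ N → y ∈ N → x * y ∈ N := by
    intro x y hx hy
    have h1 : x * y ∈ N * N := Submodule.mul_mem_mul hx hy
    have h2 : N * N ≤ N := by
      rw [hN, Submodule.span_mul_span, Submodule.span_le]
      rintro _ ⟨a, ha, b, hb, rfl⟩
      rw [Finset.mem_coe, Finset.mem_image] at ha hb
      obtain ⟨a', _, rfl⟩ := ha
      obtain ⟨b', _, rfl⟩ := hb
      change algebraMap k₀ K₀ a' * algebraMap k₀ K₀ b' ∈ N
      rw [← map_mul]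
      exact hB _
    exact h2 h1
  have hD : (1 : K₀) ∈ N := by
    have := hB 1
    rwa [map_one] at this
  have hpow : ∀ (x : K₀) (n : ℕ), x ∈ N → x ^ n ∈ N := by
    intro x n hx
    induction n with
    | zero => rw [pow_zero]; exact hD
    | succ n ih => rw [pow_succ]; exact hC _ _ ih hx
  have hpP : ∀ y : K₀, y ^ p ∈ P := fun y => Subfield.subset_closure ⟨y, rfl⟩
  let S : Subfield K₀ :=
    { carrier := N
      mul_mem' := fun {a b} ha hb => hC a b ha hb
      one_mem' := hD
      add_mem' := fun {a b} ha hb => N.add_mem ha hb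
      zero_mem' := N.zero_mem
      neg_mem' := fun {a} ha => N.neg_mem ha
      inv_mem' := by
        intro c hc
        by_cases hc0 : c = 0
        · rw [hc0, inv_zero]; exact N.zero_mem
        · have hp1 : p - 1 + 1 = p := Nat.sub_add_cancel (Fact.out : p.Prime).one_le
          have : c⁻¹ = (⟨(c ^ p)⁻¹, P.inv_mem (hpP c)⟩ : P) • c ^ (p - 1) := by
            rw [Subfield.smul_def, smul_eq_mul]
            have hcp : c ^ p ≠ 0 := pow_ne_zero _ hc0
            field_simp
            rw [← pow_succ', hp1]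
          rw [this]
          exact Submodule.smul_mem _ _ (hpow c _ hc) }
  intro c hc
  have hle : Subfield.closure (Set.range (algebraMap k₀ K₀) ∪ Set.range fun y : K₀ => y ^ p) ≤ S := by
    rw [Subfield.closure_le]
    rintro _ (⟨a, rfl⟩ | ⟨y, rfl⟩)
    · exact hB a
    · change y ^ p ∈ N
      have : y ^ p = (⟨y ^ p, hpP y⟩ : P) • (1 : K₀) := by
        rw [Subfield.smul_def, smul_eq_mul, mul_one]
      rw [this]
      exact Submodule.smul_mem _ _ hD
  exact hle hc


/-- Let k₀ be a field of characteristic p > 0 with [k₀ : k₀^p] < ∞ and K₀ an extension of k₀. Inside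
K₀((T_1, …, T_r)) one has (k₀(K₀^p))((T_1, …, T_r)) = k₀(K₀^p((T_1, …, T_r))); here, for a subfield
F of K₀, F((T)) denotes the subfield of the fraction field of K₀[[T]] generated by the power series
with all coefficients in F. -/
theorem result (p : ℕ) [Fact p.Prime] {k₀ K₀ : Type u} [Field k₀] [Field K₀] [Algebra k₀ K₀] [CharP k₀ p]
    (hfin : Module.Finite (Subfield.closure (Set.range fun x : k₀ => x ^ p)) k₀) (r : ℕ) :
    Subfield.closure (algebraMap (MvPowerSeries (Fin r) K₀) (FractionRing (MvPowerSeries (Fin r) K₀)) ''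
        {f | ∀ n, MvPowerSeries.coeff n f ∈
          Subfield.closure (Set.range (algebraMap k₀ K₀) ∪ Set.range fun y : K₀ => y ^ p)}) =
      Subfield.closure
        (Set.range (algebraMap k₀ (FractionRing (MvPowerSeries (Fin r) K₀))) ∪
          (Subfield.closure (algebraMap (MvPowerSeries (Fin r) K₀) (FractionRing (MvPowerSeries (Fin r) K₀)) ''
            {f | ∀ n, MvPowerSeries.coeff n f ∈ Subfield.closure (Set.range fun y : K₀ => y ^ p)}) :
            Set (FractionRing (MvPowerSeries (Fin r) K₀)))) := by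
  classical
  have hk : ∀ a : k₀, algebraMap k₀ (FractionRing (MvPowerSeries (Fin r) K₀)) a =
      algebraMap (MvPowerSeries (Fin r) K₀) (FractionRing (MvPowerSeries (Fin r) K₀))
        (MvPowerSeries.C (algebraMap k₀ K₀ a)) := by
    intro a
    have h1 : algebraMap k₀ (MvPowerSeries (Fin r) K₀) a = MvPowerSeries.C (algebraMap k₀ K₀ a) :=
      MvPowerSeries.algebraMap_apply
    rw [← h1]
    exact IsScalarTower.algebraMap_apply k₀ (MvPowerSeries (Fin r) K₀)
      (FractionRing (MvPowerSeries (Fin r) K₀)) a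
  apply le_antisymm
  · rw [Subfield.closure_le]
    rintro _ ⟨f, hf, rfl⟩
    obtain ⟨s, hs, hspan⟩ := closure_le_span (K₀ := K₀) p hfin
    have hrep : ∀ n, ∃ g : K₀ → (Subfield.closure (Set.range fun y : K₀ => y ^ p)),
        ∑ a ∈ s, g a • a = MvPowerSeries.coeff n f := by
      intro n
      obtain ⟨g, -, hg⟩ := Submodule.mem_span_finset.1 (hspan _ (hf n))
      exact ⟨g, hg⟩
    choose g hg using hrep
    let G : K₀ → MvPowerSeries (Fin r) K₀ := fun a n => (g n a : K₀)
    have hfsum : f = ∑ a ∈ s, (MvPowerSeries.C a : MvPowerSeries (Fin r) K₀) * G a := by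
      refine MvPowerSeries.ext (fun n => ?_)
      rw [map_sum, ← hg n]
      refine Finset.sum_congr rfl (fun a _ => ?_)
      rw [MvPowerSeries.coeff_C_mul, Subfield.smul_def, smul_eq_mul, mul_comm]
      rfl
    rw [hfsum, map_sum]
    refine sum_mem (fun a ha => ?_)
    rw [map_mul]
    refine mul_mem ?_ ?_
    · obtain ⟨b, rfl⟩ := hs ha
      rw [← hk]
      exact Subfield.subset_closure (Or.inl ⟨b, rfl⟩)
    · apply Subfield.subset_closure
      right
      apply Subfield.subset_closure
      exact ⟨_, fun n => (g n a).2, rfl⟩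
  · rw [Subfield.closure_le]
    rintro x (⟨a, rfl⟩ | hx)
    · rw [hk]
      apply Subfield.subset_closure
      refine ⟨_, fun n => ?_, rfl⟩
      rw [MvPowerSeries.coeff_C]
      split_ifs
      · exact Subfield.subset_closure (Or.inl ⟨a, rfl⟩)
      · exact zero_mem _
    · refine Subfield.closure_mono ?_ hx
      apply Set.image_mono
      intro f hf n
      exact Subfield.closure_mono Set.subset_union_right (hf n)

end Groth.Agent.S4561
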