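import Groth.Statements.S4565
import Groth.Agent.Lib.Helper24.AnUnram2
import Groth.Agent.S0568
import Groth.Agent.S0542

set_option autoImplicit false
universe u
open TensorProduct
open CAlg

namespace Groth.Agent.S4565

/-- Let A be a Noetherian local domain with fraction field K whose adic completion Â is reduced, R the
total ring of fractions of Â and K' a finite extension of K. If R ⊗_A K' (equal to R ⊗_K K', since K
is a localization of A and the nonzero elements of A are invertible in R) is reduced, then the
integral closure of A in K' is a finitely generated A-module. -/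
theorem result {A K' R : Type u}
    [CommRing A] [IsDomain A] [IsLocalRing A] [IsNoetherianRing A]
    (hred : IsReduced (AdicCompletion (IsLocalRing.maximalIdeal A) A))
    [CommRing R] [Algebra (AdicCompletion (IsLocalRing.maximalIdeal A) A) R]
    [IsFractionRing (AdicCompletion (IsLocalRing.maximalIdeal A) A) R] [Algebra A R]
    [IsScalarTower A (AdicCompletion (IsLocalRing.maximalIdeal A) A) R]
    [Field K'] [Algebra A K'] [Algebra (FractionRing A) K'] [IsScalarTower A (FractionRing A) K']
    [FiniteDimensional (FractionRing A) K'] (h : IsReduced (R ⊗[A] K')) :
    Module.Finite A (integralClosure A K') := by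
  classical
  haveI : IsNoetherianRing (AdicCompletion (IsLocalRing.maximalIdeal A) A) :=
    Groth.Agent.S0542.result A _ (IsLocalRing.maximalIdeal A).fg_of_isNoetherianRing
  haveI : Module.FaithfullyFlat A (AdicCompletion (IsLocalRing.maximalIdeal A) A) :=
    Module.FaithfullyFlat.of_flat_of_isLocalHom
  have hnag : CAlg.IsNagata (AdicCompletion (IsLocalRing.maximalIdeal A) A) :=
    Groth.Agent.S0568.result _
  -- nonzero elements of `A` become units in `R`
  have hunit : ∀ y : nonZeroDivisors A, IsUnit (algebraMap A R y) := by
    intro y
    have h1 : algebraMap A (AdicCompletion (IsLocalRing.maximalIdeal A) A) y ∈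
        nonZeroDivisors (AdicCompletion (IsLocalRing.maximalIdeal A) A) := by
      have hreg : IsSMulRegular (AdicCompletion (IsLocalRing.maximalIdeal A) A) (y : A) :=
        Module.Flat.isSMulRegular_of_nonZeroDivisors y.2
      rw [mem_nonZeroDivisors_iff_right]
      intro z hz
      apply hreg
      change (y : A) • z = (y : A) • (0 : AdicCompletion (IsLocalRing.maximalIdeal A) A)
      rw [smul_zero, Algebra.smul_def, mul_comm]
      exact hz
    rw [IsScalarTower.algebraMap_apply A (AdicCompletion (IsLocalRing.maximalIdeal A) A) R]
    exact IsLocalization.map_units R ⟨_, h1⟩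
  letI algKR : Algebra (FractionRing A) R :=
    (IsLocalization.lift (M := nonZeroDivisors A) (S := FractionRing A) hunit).toAlgebra
  haveI : IsScalarTower A (FractionRing A) R :=
    IsScalarTower.of_algebraMap_eq (fun a => by
      change algebraMap A R a = IsLocalization.lift hunit (algebraMap A (FractionRing A) a)
      rw [IsLocalization.lift_eq])
  haveI : IsReduced (K' ⊗[A] R) :=
    isReduced_of_injective (Algebra.TensorProduct.comm A K' R)
      (Algebra.TensorProduct.comm A K' R).injective
  haveI : IsReduced (K' ⊗[FractionRing A] R) :=
    isReduced_of_injective (IsLocalization.algebraTensorEquiv (nonZeroDivisors A) (FractionRing A) K' R)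
      (IsLocalization.algebraTensorEquiv (nonZeroDivisors A) (FractionRing A) K' R).injective
  exact Groth.Agent.Lib.Helper24.AnUnram.finite_integralClosure_of_reduced_tensor A
    (AdicCompletion (IsLocalRing.maximalIdeal A) A) (fun q _ => hnag.2 q) R
    (IsFractionRing.injective (AdicCompletion (IsLocalRing.maximalIdeal A) A) R)
    (FractionRing A) K'

end Groth.Agent.S4565
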