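import Groth.Statements.S4567
import Mathlib
import Groth.Agent.Lib.Helper13.Br11
-- import your own Groth.Agent.* helpers here

set_option autoImplicit false
universe u
open AlgebraicGeometry
open CAlg2

namespace Groth.Agent.S4567

open AlgebraicGeometry CategoryTheory Limits Groth.Agent.Lib.helper13.Br in
theorem key1 (A : Type u) [CommRing A] [IsDomain A]
    (hG : ∀ (p : Ideal A) [p.IsPrime], CAlg2.IsGeomUnibranch (Localization.AtPrime p)) :
    UniversallyInjective (specIC A) := by
  have htfae := (tfae_universallyInjective (specIC A)).out 0 2 rfl rfl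
  rw [htfae]
  constructor
  · intro x' x'' h
    obtain ⟨j, hj, hjloc⟩ := exists_isLocalization_normRed' (R := A)
      (A := Localization.AtPrime ((specIC A) x'').asIdeal)
      (R₁ := integralClosure A (FractionRing A)) (K := FractionRing A) ((specIC A) x'').asIdeal
    letI algj : Algebra (integralClosure A (FractionRing A))
        (CAlg2.normRed (Localization.AtPrime ((specIC A) x'').asIdeal)) := j.toAlgebra
    haveI : IsLocalization (Algebra.algebraMapSubmonoid (integralClosure A (FractionRing A))
        ((specIC A) x'').asIdeal.primeCompl)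
        (CAlg2.normRed (Localization.AtPrime ((specIC A) x'').asIdeal)) := hjloc
    have hq' : x'.asIdeal.comap (algebraMap A (integralClosure A (FractionRing A))) =
        ((specIC A) x'').asIdeal := congrArg PrimeSpectrum.asIdeal h
    have hq'' : x''.asIdeal.comap (algebraMap A (integralClosure A (FractionRing A))) =
        ((specIC A) x'').asIdeal := rfl
    obtain ⟨θ', -, hmax', hcomap', -⟩ := exists_lift (R := A)
      (A := Localization.AtPrime ((specIC A) x'').asIdeal)
      (R₁ := integralClosure A (FractionRing A))
      (B := CAlg2.normRed (Localization.AtPrime ((specIC A) x'').asIdeal))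
      ((specIC A) x'').asIdeal (toNormRed _) (toNormRed_isIntegral _) hj
      x'.asIdeal hq' (specEv (CommRingCat.of (integralClosure A (FractionRing A))) x')
      (ker_specEv _ x')
    obtain ⟨θ'', -, hmax'', hcomap'', -⟩ := exists_lift (R := A)
      (A := Localization.AtPrime ((specIC A) x'').asIdeal)
      (R₁ := integralClosure A (FractionRing A))
      (B := CAlg2.normRed (Localization.AtPrime ((specIC A) x'').asIdeal))
      ((specIC A) x'').asIdeal (toNormRed _) (toNormRed_isIntegral _) hj
      x''.asIdeal hq'' (specEv (CommRingCat.of (integralClosure A (FractionRing A))) x'')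
      (ker_specEv _ x'')
    haveI : IsLocalRing (CAlg2.normRed (Localization.AtPrime ((specIC A) x'').asIdeal)) :=
      (hG _).1.2
    have hk : RingHom.ker θ' = RingHom.ker θ'' := by
      rw [IsLocalRing.eq_maximalIdeal hmax', IsLocalRing.eq_maximalIdeal hmax'']
    apply PrimeSpectrum.ext
    rw [← hcomap', ← hcomap'', hk]
  · intro x'
    obtain ⟨j, hj, hjloc⟩ := exists_isLocalization_normRed' (R := A)
      (A := Localization.AtPrime ((specIC A) x').asIdeal)
      (R₁ := integralClosure A (FractionRing A)) (K := FractionRing A) ((specIC A) x').asIdeal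
    obtain ⟨θ, hs, hmax, -, hcompat⟩ := exists_theta_spec A x' j hj hjloc
    have := isPurelyInseparable_of_isGeomUnibranch _ (hG _) θ hs hmax _ hcompat
    exact isPurelyInseparable_of_comp _ _ this

open AlgebraicGeometry CategoryTheory Limits Groth.Agent.Lib.helper13.Br in
theorem key2 (A : Type u) [CommRing A] [IsDomain A]
    (hUI : UniversallyInjective (specIC A)) (p : Ideal A) [p.IsPrime] :
    CAlg2.IsGeomUnibranch (Localization.AtPrime p) := by
  have htfae := (tfae_universallyInjective (specIC A)).out 0 2 rfl rfl
  rw [htfae] at hUI
  obtain ⟨hinj, hpi⟩ := hUI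
  obtain ⟨j, hj, hjloc⟩ := exists_isLocalization_normRed' (R := A)
    (A := Localization.AtPrime p)
    (R₁ := integralClosure A (FractionRing A)) (K := FractionRing A) p
  letI algj : Algebra (integralClosure A (FractionRing A))
      (CAlg2.normRed (Localization.AtPrime p)) := j.toAlgebra
  haveI : IsLocalization (Algebra.algebraMapSubmonoid (integralClosure A (FractionRing A))
      p.primeCompl) (CAlg2.normRed (Localization.AtPrime p)) := hjloc
  haveI hprime := nilradical_isPrime_of_atPrime (A := Localization.AtPrime p) p
  have hdom : IsDomain (CAlg2.red (Localization.AtPrime p)) := Ideal.Quotient.isDomain _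
  have hcc : ∀ (m' : Ideal (CAlg2.normRed (Localization.AtPrime p))) [m'.IsMaximal],
      (m'.comap j).comap (algebraMap A (integralClosure A (FractionRing A))) = p := by
    intro m' _
    exact comap_comap_of_isMaximal (R := A) (A := Localization.AtPrime p) p (toNormRed _)
      (toNormRed_isIntegral _) hj m'
  have hunique : ∀ (m' m'' : Ideal (CAlg2.normRed (Localization.AtPrime p))),
      m'.IsMaximal → m''.IsMaximal → m' = m'' := by
    intro m' m'' hm' hm''
    apply eq_of_comap_eq (R := A) (R₁ := integralClosure A (FractionRing A)) p
    haveI : (m'.comap j).IsPrime := Ideal.comap_isPrime j m'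
    haveI : (m''.comap j).IsPrime := Ideal.comap_isPrime j m''
    have := @hinj ⟨m'.comap j, inferInstance⟩ ⟨m''.comap j, inferInstance⟩
      (PrimeSpectrum.ext ((hcc m').trans (hcc m'').symm))
    exact congrArg PrimeSpectrum.asIdeal this
  have hloc : IsLocalRing (CAlg2.normRed (Localization.AtPrime p)) := by
    obtain ⟨m₀, hm₀⟩ := Ideal.exists_maximal (CAlg2.normRed (Localization.AtPrime p))
    exact IsLocalRing.of_unique_max_ideal ⟨m₀, hm₀, fun m hm => hunique m m₀ hm hm₀⟩
  refine ⟨⟨hdom, hloc⟩, ?_⟩
  intro m' hm' z
  haveI : (m'.comap j).IsPrime := Ideal.comap_isPrime j m'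
  exact pow_mem_range_spec A ⟨m'.comap j, inferInstance⟩ p (hcc m') j hj hjloc m' rfl (hpi _) z


/-- Let A be a domain with integral closure A' (in its fraction field) and f : Spec A' → Spec A the
canonical morphism. Then f is radicial (universally injective) if and only if every local ring A_p
is geometrically unibranch; when this holds f is a homeomorphism. -/
theorem result {A : Type u} [CommRing A] [IsDomain A] :
    (UniversallyInjective (Spec.map (CommRingCat.ofHom (algebraMap A (integralClosure A (FractionRing A))))) ↔
      ∀ (p : Ideal A) [p.IsPrime], CAlg2.IsGeomUnibranch (Localization.AtPrime p)) ∧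
    ((∀ (p : Ideal A) [p.IsPrime], CAlg2.IsGeomUnibranch (Localization.AtPrime p)) →
      IsHomeomorph (PrimeSpectrum.comap (algebraMap A (integralClosure A (FractionRing A))))) := by
  refine ⟨⟨fun h p _ => key2 A h p, fun h => key1 A h⟩, fun hG => ?_⟩
  have hUI := key1 A hG
  rw [isHomeomorph_iff_continuous_isClosedMap_bijective]
  refine ⟨?_, ?_, ?_, ?_⟩
  · exact PrimeSpectrum.continuous_comap _
  · exact PrimeSpectrum.isClosedMap_comap_of_isIntegral _
      (algebraMap_isIntegral_iff.mpr inferInstance)
  · exact (Groth.Agent.Lib.helper13.Br.specIC A).injective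
  · exact Algebra.IsIntegral.comap_surjective _ _

end Groth.Agent.S4567
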