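import Groth.Statements.S4569
import Mathlib
-- import your own Groth.Agent.* helpers here

set_option autoImplicit false
universe u
open CAlg

namespace Groth.Agent.S4569

lemma key {A : Type u} [CommRing A] (x : A)
    (hx : x ∈ nonZeroDivisors A) [hp : (Ideal.span ({x} : Set A)).IsPrime] :
    ∀ (n : ℕ) (s a : A), s ∉ Ideal.span ({x} : Set A) → x ^ n ∣ s * a → x ^ n ∣ a := by
  intro n
  induction n with
  | zero => intro s a _ _; simp
  | succ n ih =>
    intro s a hs h
    have h1 : x ∣ s * a := dvd_trans (dvd_pow_self x (Nat.succ_ne_zero n)) h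
    have h2 : s * a ∈ Ideal.span ({x} : Set A) := Ideal.mem_span_singleton.2 h1
    have h3 : a ∈ Ideal.span ({x} : Set A) := (hp.mem_or_mem h2).resolve_left hs
    obtain ⟨a', rfl⟩ := Ideal.mem_span_singleton.1 h3
    obtain ⟨b, hb⟩ := h
    have h4 : s * a' = x ^ n * b := by
      have : x * (s * a') = x * (x ^ n * b) := by
        rw [← mul_assoc x (x ^ n), ← pow_succ', ← hb]; ring
      exact (mul_cancel_left_mem_nonZeroDivisors hx).1 this
    obtain ⟨c, hc⟩ := ih s a' hs ⟨b, h4⟩
    exact ⟨c, by rw [hc, pow_succ]; ring⟩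

/-- Let A be a ring, x a non-zero-divisor of A with p = xA prime. For every n > 0 the inverse image in A
of x^n A_p is x^n A. -/
theorem result {A : Type u} [CommRing A] (x : A)
    (hx : x ∈ nonZeroDivisors A) [(Ideal.span ({x} : Set A)).IsPrime] (n : ℕ) (hn : 0 < n) :
    Ideal.comap (algebraMap A (Localization.AtPrime (Ideal.span ({x} : Set A))))
      (Ideal.map (algebraMap A (Localization.AtPrime (Ideal.span ({x} : Set A)))) (Ideal.span ({x ^ n} : Set A))) =
      Ideal.span ({x ^ n} : Set A) := by
  apply le_antisymm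
  · intro a ha
    rw [Ideal.mem_comap,
      IsLocalization.algebraMap_mem_map_algebraMap_iff (Ideal.span ({x} : Set A)).primeCompl] at ha
    obtain ⟨s, hs, hsa⟩ := ha
    rw [Ideal.mem_span_singleton] at hsa ⊢
    exact key x hx n s a hs hsa
  · exact Ideal.le_comap_map

end Groth.Agent.S4569
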