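import Groth.Statements.S4573
import Mathlib
import Groth.Agent.Lib.Helper19.FSDiff3

set_option autoImplicit false
universe u
open TensorProduct IsLocalRing
open EGA41

namespace Groth.Agent.S4573

-- MARK


/-- Let k be a field of characteristic exponent p and A a Noetherian local k-algebra. Then A is formally
smooth over k for the adic topology of its maximal ideal if and only if, for every finite extension
k' of k with k'^p ⊆ k, the ring k' ⊗_k A is regular. -/
theorem result {k A : Type u} [Field k] (p : ℕ)
    [ExpChar k p] [CommRing A] [IsLocalRing A] [IsNoetherianRing A] [Algebra k A] :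
    CAlgX.IsAdicFormallySmooth k A (maximalIdeal A) ↔
      ∀ (k' : Type u) [Field k'] [Algebra k k'], Module.Finite k k' →
        (∀ x : k', x ^ p ∈ (algebraMap k k').range) → IsRegularRing (k' ⊗[k] A) := by
  constructor
  · intro h k' _ _ hfin _
    exact Groth.Agent.Lib.helper19.CohenK.isGeometricallyRegular_of_isAdicFormallySmooth k A h k' hfin
  · intro H
    rcases ‹ExpChar k p› with _ | hp
    · -- characteristic zero
      have h1 := H k inferInstance (fun x => ⟨x ^ 1, rfl⟩)
      have h2 : IsRegularRing A :=
        IsRegularRing.of_ringEquiv (Algebra.TensorProduct.lid k A).toRingEquiv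
      have h3 : IsRegularLocalRing A := IsRegularLocalRing.of_isRegularRing_of_isLocalRing A
      have hfs : Algebra.FormallySmooth k (ResidueField A) :=
        Groth.Agent.Lib.helper17.FieldLift.formallySmooth_of_charZero
      exact (Groth.Agent.Lib.helper19.CohenK.regular_iff_isAdicFormallySmooth k A).1 h3
    · have : Fact p.Prime := ⟨hp⟩
      exact Groth.Agent.Lib.helper19.FSDiff.isAdicFormallySmooth_of_pRadical k A p H

end Groth.Agent.S4573
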