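import Groth.Statements.S4574
import Mathlib
import Groth.Agent.Lib.Helper19.FSDiff3
import Groth.Agent.Lib.Helper24.FibLoc

set_option autoImplicit false
universe u
open IsLocalRing
open EGA41

namespace Groth.Agent.S4574

-- MARK
open TensorProduct in
theorem isRegularRing_tensor_localization (k A k' : Type u) [Field k] [Field k'] [Algebra k k']
    [CommRing A] [Algebra k A] (p : Ideal A) [p.IsPrime] (h : IsRegularRing (k' ⊗[k] A)) :
    IsRegularRing (k' ⊗[k] Localization.AtPrime p) := by
  letI : Algebra (k' ⊗[k] A) (k' ⊗[k] Localization.AtPrime p) :=
    (Algebra.TensorProduct.map (AlgHom.id k' k')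
      (IsScalarTower.toAlgHom k A (Localization.AtPrime p))).toRingHom.toAlgebra
  haveI : IsScalarTower k' (k' ⊗[k] A) (k' ⊗[k] Localization.AtPrime p) :=
    IsScalarTower.of_algebraMap_eq' (by
      ext x
      simp [RingHom.algebraMap_toAlgebra])
  have H : (algebraMap (k' ⊗[k] A) (k' ⊗[k] Localization.AtPrime p)).comp
      (Algebra.TensorProduct.includeRight (R := k) (A := k') (B := A)).toRingHom =
      (Algebra.TensorProduct.includeRight (R := k) (A := k')
        (B := Localization.AtPrime p)).toRingHom.comp
        (algebraMap A (Localization.AtPrime p)) := by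
    ext x
    simp [RingHom.algebraMap_toAlgebra]
  haveI := IsLocalization.tensorProduct_tensorProduct_right k k' p.primeCompl
    (Localization.AtPrime p) H
  exact Groth.Agent.Lib.Helper24.FibLoc.locStable_isRegularRing.loc (k' ⊗[k] A)
    (k' ⊗[k] Localization.AtPrime p)
    (p.primeCompl.map (Algebra.TensorProduct.includeRight (R := k) (A := k'))) h



/-- Let k be a field and A a Noetherian local k-algebra, formally smooth over k for its adic topology.
Then every localization A_p at a prime p is formally smooth over k for the pA_p-adic topology. -/
theorem result {k A : Type u} [Field k] [CommRing A]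
    [IsLocalRing A] [IsNoetherianRing A] [Algebra k A] (h : CAlgX.IsAdicFormallySmooth k A (maximalIdeal A))
    (p : Ideal A) [p.IsPrime] :
    CAlgX.IsAdicFormallySmooth k (Localization.AtPrime p) (maximalIdeal (Localization.AtPrime p)) := by
  have hgr := Groth.Agent.Lib.helper19.CohenK.isGeometricallyRegular_of_isAdicFormallySmooth k A h
  obtain ⟨q, hq⟩ := CharP.exists k
  rcases CharP.char_is_prime_or_zero k q with hq' | rfl
  · have : Fact q.Prime := ⟨hq'⟩
    apply Groth.Agent.Lib.helper19.FSDiff.isAdicFormallySmooth_of_pRadical k
      (Localization.AtPrime p) q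
    intro k' _ _ hfin _
    exact isRegularRing_tensor_localization k A k' p (hgr k' hfin)
  · have : CharZero k := CharP.charP_to_charZero k
    have h1 := hgr k inferInstance
    have h2 : IsRegularRing A :=
      IsRegularRing.of_ringEquiv (Algebra.TensorProduct.lid k A).toRingEquiv
    have h3 : IsRegularLocalRing (Localization.AtPrime p) := inferInstance
    have hfs : Algebra.FormallySmooth k (ResidueField (Localization.AtPrime p)) :=
      Groth.Agent.Lib.helper17.FieldLift.formallySmooth_of_charZero
    exact (Groth.Agent.Lib.helper19.CohenK.regular_iff_isAdicFormallySmooth k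
      (Localization.AtPrime p)).1 h3

end Groth.Agent.S4574
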