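import Groth.Statements.S4606
import Mathlib
import Groth.Agent.S2463
import Groth.Agent.S12136
import Groth.Agent.Lib.Helper17.RegSmooth
import Groth.Agent.Lib.Helper17.AdicFSLoc

set_option autoImplicit false
set_option linter.style.haveILetI false
universe u
open TensorProduct KaehlerDifferential IsLocalRing
open EGA41

namespace Groth.Agent.S4606

section
variable {A B C : Type u} [CommRing A] [CommRing B] [CommRing C] [Algebra A B] [Algebra B C]
  [Algebra A C] [IsScalarTower A B C]

/-- Injectivity of `lTensor` is invariant under replacing the module by a linearly equivalent one. -/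
theorem injective_lTensor_of_linearEquiv {R M M' N P : Type u} [CommRing R] [AddCommGroup M]
    [AddCommGroup M'] [AddCommGroup N] [AddCommGroup P] [Module R M] [Module R M'] [Module R N]
    [Module R P] (ε : M ≃ₗ[R] M') (f : N →ₗ[R] P) (h : Function.Injective (f.lTensor M)) :
    Function.Injective (f.lTensor M') := by
  have hcomm : f.lTensor M' ∘ₗ (ε.toLinearMap.rTensor N) =
      (ε.toLinearMap.rTensor P) ∘ₗ f.lTensor M := by
    rw [LinearMap.lTensor_comp_rTensor, LinearMap.rTensor_comp_lTensor]
  have h1 : Function.Injective (f.lTensor M' ∘ (ε.toLinearMap.rTensor N)) := by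
    have : (f.lTensor M' ∘ (ε.toLinearMap.rTensor N)) =
        ((ε.toLinearMap.rTensor P) ∘ f.lTensor M) := by
      ext x
      exact LinearMap.congr_fun hcomm x
    rw [this]
    exact (ε.rTensor P).injective.comp h
  exact Function.Injective.of_comp_right h1 (ε.rTensor N).surjective

theorem formallySmooth_of_adic [IsNoetherianRing B] [Algebra.FormallySmooth A B]
    (hsurj : Function.Surjective (algebraMap B C)) (p : Ideal C) [p.IsPrime]
    (h : CAlgX.IsAdicFormallySmooth A (Localization.AtPrime p)
      (maximalIdeal (Localization.AtPrime p))) :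
    Algebra.FormallySmooth A (Localization.AtPrime p) := by
  -- notation
  let q' : Ideal B := p.comap (algebraMap B C)
  let B' := Localization.AtPrime q'
  let J : Ideal B := RingHom.ker (algebraMap B C)
  let J' : Ideal B' := J.map (algebraMap B B')
  let C' := B' ⧸ J'
  let I : Ideal B' := maximalIdeal B'
  let Q : Ideal C' := I.map (Ideal.Quotient.mk J')
  -- algebra structure C → C'
  let g0 : B →+* C' := (Ideal.Quotient.mk J').comp (algebraMap B B')
  have hg0 : RingHom.ker (algebraMap B C) ≤ RingHom.ker g0 := fun x hx => by
    rw [RingHom.mem_ker]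
    change Ideal.Quotient.mk J' (algebraMap B B' x) = 0
    rw [Ideal.Quotient.eq_zero_iff_mem]
    exact Ideal.mem_map_of_mem _ hx
  letI algCC' : Algebra C C' := ((algebraMap B C).liftOfSurjective hsurj ⟨g0, hg0⟩).toAlgebra
  have hCC' : (algebraMap C C').comp (algebraMap B C) = g0 :=
    RingHom.liftOfSurjective_comp _ hsurj ⟨g0, hg0⟩
  haveI : IsScalarTower B C C' := IsScalarTower.of_algebraMap_eq' hCC'.symm
  haveI : IsScalarTower A B C' := inferInstance
  haveI : IsScalarTower A C C' := IsScalarTower.of_algebraMap_eq' (by
    rw [IsScalarTower.algebraMap_eq A B C', IsScalarTower.algebraMap_eq A B C,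
      ← RingHom.comp_assoc, hCC']
    rfl)
  have hloc : IsLocalization.AtPrime C' p := by
    have h1 := IsLocalization.of_surjective q'.primeCompl B' (algebraMap B C) hsurj
      (Ideal.Quotient.mk J') Ideal.Quotient.mk_surjective hCC'.symm (by rw [Ideal.mk_ker])
    have hM : q'.primeCompl.map (algebraMap B C) = p.primeCompl := by
      ext x
      constructor
      · rintro ⟨b, hb, rfl⟩
        exact hb
      · intro hx
        obtain ⟨b, rfl⟩ := hsurj x
        exact ⟨b, hx, rfl⟩
    rwa [hM] at h1
  haveI : IsLocalRing C' := IsLocalization.AtPrime.isLocalRing C' p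
  have hJ'I : J' ≤ I :=
    IsLocalRing.le_maximalIdeal (Ideal.Quotient.nontrivial_iff.mp inferInstance)
  haveI hQmax : Q.IsMaximal := by
    rcases Ideal.map_eq_top_or_isMaximal_of_surjective (Ideal.Quotient.mk J')
      Ideal.Quotient.mk_surjective (IsLocalRing.maximalIdeal.isMaximal B') with h1 | h1
    · exfalso
      have h2 : (1 : C') ∈ I.map (Ideal.Quotient.mk J') := by
        rw [h1]; trivial
      obtain ⟨b, hb, hb1⟩ := (Ideal.mem_map_iff_of_surjective _ Ideal.Quotient.mk_surjective).mp h2
      have h3 : b - 1 ∈ J' := by
        rw [← Ideal.Quotient.eq_zero_iff_mem, map_sub, hb1, map_one, sub_self]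
      have h4 : (1 : B') ∈ I := by
        have : (1 : B') = b - (b - 1) := by ring
        rw [this]
        exact I.sub_mem hb (hJ'I h3)
      exact (IsLocalRing.maximalIdeal.isMaximal B').ne_top ((Ideal.eq_top_iff_one _).mpr h4)
    · exact h1
  have hQeq : Q = maximalIdeal C' := IsLocalRing.eq_maximalIdeal hQmax
  -- the isomorphism
  let e : C' ≃ₐ[A] Localization.AtPrime p :=
    (IsLocalization.algEquiv p.primeCompl C' (Localization.AtPrime p)).restrictScalars A
  -- transport adic formal smoothness
  have hadic : CAlgX.IsAdicFormallySmooth A C' Q := by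
    refine Groth.Agent.Lib.helper17.AdicFSLoc.isAdicFormallySmooth_of_algEquiv e Q
      (maximalIdeal (Localization.AtPrime p)) ?_ h
    rw [Ideal.map_le_iff_le_comap]
    have hsurj' : Function.Surjective (e.symm : Localization.AtPrime p →+* C') :=
      e.symm.surjective
    haveI := Ideal.comap_isMaximal_of_surjective (e.symm : Localization.AtPrime p →+* C')
      hsurj' (K := Q)
    exact (IsLocalRing.eq_maximalIdeal this).ge
  -- formal smoothness of B'
  haveI : Algebra.FormallySmooth B B' := Algebra.FormallySmooth.of_isLocalization q'.primeCompl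
  haveI : Algebra.FormallySmooth A B' := Algebra.FormallySmooth.comp A B B'
  have hB' : CAlgX.IsAdicFormallySmooth A B' I :=
    Groth.Agent.Lib.helper17.RegSmooth.isAdicFormallySmooth_of_formallySmooth A B' I
  haveI : IsNoetherianRing B' := IsLocalization.isNoetherianRing q'.primeCompl B' inferInstance
  obtain ⟨g, hg⟩ := (Groth.Agent.S12136.result (A := A) I J' hB' Q ⟨1, by simp [Q]⟩
    ⟨1, by simp [Q]⟩).mp hadic
  have hinj1 : Function.Injective ((kerCotangentToTensor A B' C').lTensor (C' ⧸ Q)) := by
    rw [← LinearMap.baseChange_eq_ltensor]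
    exact Function.LeftInverse.injective (g := g) (fun x => LinearMap.congr_fun hg x)
  -- pass to the residue field
  let ε0 : (C' ⧸ Q) ≃ₐ[C'] Q.ResidueField :=
    AlgEquiv.ofBijective (IsScalarTower.toAlgHom C' (C' ⧸ Q) Q.ResidueField)
      (Ideal.bijective_algebraMap_quotient_residueField Q)
  let ε : (C' ⧸ Q) ≃ₗ[B'] Q.ResidueField := (ε0.restrictScalars B').toLinearEquiv
  have hinj2 : Function.Injective ((kerCotangentToTensor A B' C').lTensor Q.ResidueField) :=
    injective_lTensor_of_linearEquiv ε _ hinj1
  haveI hfin' : Module.Finite B' (RingHom.ker (algebraMap B' C')).Cotangent :=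
    Module.Finite.of_surjective (Ideal.toCotangent _) (Ideal.toCotangent_surjective _)
  haveI hFS1 : Algebra.FormallySmooth A (Localization.AtPrime Q) :=
    ((Groth.Agent.S2463.result (A := A) (B := B') (C := C')
      Ideal.Quotient.mk_surjective Q).out 0 1).mpr hinj2
  -- `C'` is its own localization at `Q`
  have hunits : Q.primeCompl ≤ IsUnit.submonoid C' := by
    intro x hx
    have hx1 : x ∉ Q := hx
    by_contra hx'
    exact hx1 (hQeq ▸ (IsLocalRing.mem_maximalIdeal x).mpr hx')
  let e2 : C' ≃ₐ[A] Localization.AtPrime Q :=
    (IsLocalization.atUnits C' Q.primeCompl (S := Localization.AtPrime Q) hunits).restrictScalars A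
  haveI : Algebra.FormallySmooth A C' := Algebra.FormallySmooth.of_equiv (R := A) (A := Localization.AtPrime Q) (B := C') e2.symm
  exact Algebra.FormallySmooth.of_equiv e

end

/-- Let B be a Noetherian A-algebra formally smooth for the discrete topologies, B → C a surjection with
kernel J, p a prime of C and q its contraction to A. Then C_p is formally smooth over A_q (A_q
discrete, C_p with the adic topology of its maximal ideal) if and only if κ(p) ⊗ J/J² → κ(p) ⊗ (C
⊗_B Ω_{B/A}) is injective. (The equivalent variant with the q-adic topology on A_q is not stated.) -/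
theorem result {A B C : Type u} [CommRing A]
    [CommRing B] [CommRing C] [Algebra A B] [Algebra B C] [Algebra A C] [IsScalarTower A B C] [IsNoetherianRing B]
    [Algebra.FormallySmooth A B] (hsurj : Function.Surjective (algebraMap B C)) (p : Ideal C) [p.IsPrime]
    [Algebra (Localization.AtPrime (p.comap (algebraMap A C))) (Localization.AtPrime p)]
    [IsScalarTower A (Localization.AtPrime (p.comap (algebraMap A C))) (Localization.AtPrime p)] :
    CAlgX.IsAdicFormallySmooth (Localization.AtPrime (p.comap (algebraMap A C))) (Localization.AtPrime p)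
        (maximalIdeal (Localization.AtPrime p)) ↔
      Function.Injective ((kerCotangentToTensor A B C).lTensor p.ResidueField) := by
  haveI hfin : Module.Finite B (RingHom.ker (algebraMap B C)).Cotangent :=
    Module.Finite.of_surjective (Ideal.toCotangent _) (Ideal.toCotangent_surjective _)
  have key : Algebra.FormallySmooth A (Localization.AtPrime p) ↔
      Function.Injective ((kerCotangentToTensor A B C).lTensor p.ResidueField) :=
    (Groth.Agent.S2463.result (A := A) hsurj p).out 0 1
  rw [← key]
  constructor
  · intro h
    exact formallySmooth_of_adic hsurj p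
      (Groth.Agent.Lib.helper17.AdicFSLoc.isAdicFormallySmooth_restrictScalars_of_isLocalization
        (p.comap (algebraMap A C)).primeCompl _ h)
  · intro h
    exact Groth.Agent.Lib.helper17.AdicFSLoc.isAdicFormallySmooth_of_isLocalization_base
      (p.comap (algebraMap A C)).primeCompl _
      (Groth.Agent.Lib.helper17.RegSmooth.isAdicFormallySmooth_of_formallySmooth A _ _)

end Groth.Agent.S4606
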