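import Groth.Statements.S4578
import Mathlib
import Groth.Agent.S2463
import Groth.Agent.S4606
import Groth.Agent.S4512
import Groth.Agent.S2035
import Groth.Agent.S2036
import Groth.Agent.Lib.Helper17.RegSmooth

set_option autoImplicit false
set_option linter.style.haveILetI false
universe u
open IsLocalRing
open EGA41

namespace Groth.Agent.S4578

/-- Let k₀ be a field, k an extension field of k₀ which is separable (formally smooth) over k₀, C a
k-algebra of finite type and p a prime ideal of C. The following are equivalent: C_p is formally
smooth over k₀ (discrete topologies); C_p is formally smooth over k₀ for the adic topology of its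
maximal ideal; C_f is formally smooth over k₀ for some f ∉ p; C_p is geometrically regular over k₀.
(The published statement adds that the set of primes p having these properties is open in Spec C;
that openness is not stated here.) -/
theorem result {k₀ k C : Type u} [Field k₀] [Field k] [Algebra k₀ k]
    [Algebra.FormallySmooth k₀ k] [CommRing C] [Algebra k C] [Algebra k₀ C] [IsScalarTower k₀ k C]
    [Algebra.FiniteType k C]
    (p : Ideal C) [p.IsPrime] :
    [Algebra.FormallySmooth k₀ (Localization.AtPrime p),
     CAlgX.IsAdicFormallySmooth k₀ (Localization.AtPrime p) (maximalIdeal (Localization.AtPrime p)),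
     ∃ f : C, f ∉ p ∧ Algebra.FormallySmooth k₀ (Localization.Away f),
     CAlg.IsGeometricallyRegular k₀ (Localization.AtPrime p)].TFAE := by
  classical
  obtain ⟨n, f, hf⟩ := Algebra.FiniteType.iff_quotient_mvPolynomial''.mp
    (inferInstance : Algebra.FiniteType k C)
  letI algBC : Algebra (MvPolynomial (Fin n) k) C := f.toRingHom.toAlgebra
  haveI : IsScalarTower k (MvPolynomial (Fin n) k) C :=
    IsScalarTower.of_algebraMap_eq (fun x => (f.commutes x).symm)
  haveI : IsScalarTower k₀ (MvPolynomial (Fin n) k) C :=
    IsScalarTower.of_algebraMap_eq (fun x => by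
      rw [IsScalarTower.algebraMap_apply k₀ k C, IsScalarTower.algebraMap_apply k₀ k
        (MvPolynomial (Fin n) k), ← IsScalarTower.algebraMap_apply k (MvPolynomial (Fin n) k) C])
  haveI : Algebra.FormallySmooth k₀ (MvPolynomial (Fin n) k) :=
    Algebra.FormallySmooth.comp k₀ k (MvPolynomial (Fin n) k)
  have hsurj : Function.Surjective (algebraMap (MvPolynomial (Fin n) k) C) := hf
  haveI hfin : Module.Finite (MvPolynomial (Fin n) k)
      (RingHom.ker (algebraMap (MvPolynomial (Fin n) k) C)).Cotangent :=
    Module.Finite.of_surjective (Ideal.toCotangent _) (Ideal.toCotangent_surjective _)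
  haveI : IsNoetherianRing C := Algebra.FiniteType.isNoetherianRing k C
  haveI : IsNoetherianRing (Localization.AtPrime p) :=
    IsLocalization.isNoetherianRing p.primeCompl _ inferInstance
  have h13 : Algebra.FormallySmooth k₀ (Localization.AtPrime p) ↔
      ∃ f : C, f ∉ p ∧ Algebra.FormallySmooth k₀ (Localization.Away f) :=
    (Groth.Agent.S2463.result (A := k₀) hsurj p).out 0 2
  tfae_have 1 ↔ 3 := h13
  tfae_have 1 → 2 := fun h =>
    Groth.Agent.Lib.helper17.RegSmooth.isAdicFormallySmooth_of_formallySmooth k₀ _ _
  tfae_have 2 → 1 := fun h => Groth.Agent.S4606.formallySmooth_of_adic (A := k₀) hsurj p h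
  tfae_have 2 → 4 := fun h => (Groth.Agent.S4512.result h).1
  tfae_have 4 → 2 := by
    intro h
    obtain ⟨c, hc⟩ := CharP.exists k₀
    rcases CharP.char_is_prime_or_zero k₀ c with hc' | hc'
    · haveI : Fact c.Prime := ⟨hc'⟩
      exact (Groth.Agent.S2036.result (k := k₀) (A := Localization.AtPrime p) c).mp h
    · subst hc'
      haveI : CharZero k₀ := CharP.charP_to_charZero k₀
      have h1 : IsRegularRing (TensorProduct k₀ k₀ (Localization.AtPrime p)) :=
        h k₀ inferInstance
      haveI : IsRegularRing (Localization.AtPrime p) :=
        IsRegularRing.of_ringEquiv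
          (Algebra.TensorProduct.lid k₀ (Localization.AtPrime p)).toRingEquiv
      have h2 : IsRegularLocalRing (Localization.AtPrime p) :=
        IsRegularLocalRing.of_isRegularRing_of_isLocalRing _
      exact (Groth.Agent.S2035.result (k := k₀) (A := Localization.AtPrime p)).mp h2
  tfae_finish

end Groth.Agent.S4578
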