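import Groth.Statements.S4579
import Mathlib
import Groth.Agent.S4577
import Groth.Agent.S4578
import Groth.Agent.Lib.Helper19.CohenK4
import Groth.Agent.Lib.Helper17.RegSmooth
import Groth.Agent.Lib.Helper17.QFCpl
import Groth.Agent.Lib.Helper24.FibLoc

set_option autoImplicit false
set_option linter.style.haveILetI false
universe u
open EGA41

namespace Groth.Agent.S4579

/-- Let k₀ be a field, k a separable (formally smooth) extension field of k₀ and C a k-algebra of finite
type. The following are equivalent: C is formally smooth over k₀ (discrete topologies); every C_p, p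
prime, is formally smooth over k₀; every C_m, m maximal, is; C is geometrically regular over k₀.
(Geometric regularity is tested on finite extensions of k₀. The published statement quantifies the
last condition over all extensions k' of k₀; for infinite ones the base change need not be
Noetherian, so it need not be regular in the Noetherian sense, and the printed proof passes through
the local rings as here.) -/
theorem result {k₀ k C : Type u} [Field k₀] [Field k] [Algebra k₀ k]
    [Algebra.FormallySmooth k₀ k] [CommRing C] [Algebra k C] [Algebra k₀ C] [IsScalarTower k₀ k C]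
    [Algebra.FiniteType k C] :
    [Algebra.FormallySmooth k₀ C,
     ∀ (p : Ideal C) [p.IsPrime], Algebra.FormallySmooth k₀ (Localization.AtPrime p),
     ∀ (m : Ideal C) [m.IsMaximal], Algebra.FormallySmooth k₀ (Localization.AtPrime m),
     CAlg.IsGeometricallyRegular k₀ C].TFAE := by
  classical
  obtain ⟨n, f, hf⟩ := Algebra.FiniteType.iff_quotient_mvPolynomial''.mp
    (inferInstance : Algebra.FiniteType k C)
  letI algBC : Algebra (MvPolynomial (Fin n) k) C := f.toRingHom.toAlgebra
  haveI : IsScalarTower k (MvPolynomial (Fin n) k) C :=
    IsScalarTower.of_algebraMap_eq (fun x => (f.commutes x).symm)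
  haveI : IsScalarTower k₀ (MvPolynomial (Fin n) k) C :=
    IsScalarTower.of_algebraMap_eq (fun x => by
      rw [IsScalarTower.algebraMap_apply k₀ k C, IsScalarTower.algebraMap_apply k₀ k
        (MvPolynomial (Fin n) k), ← IsScalarTower.algebraMap_apply k (MvPolynomial (Fin n) k) C])
  haveI : Algebra.FormallySmooth k₀ (MvPolynomial (Fin n) k) :=
    Algebra.FormallySmooth.comp k₀ k (MvPolynomial (Fin n) k)
  have hsurj : Function.Surjective (algebraMap (MvPolynomial (Fin n) k) C) := hf
  haveI hfin : Module.Finite (MvPolynomial (Fin n) k)
      (RingHom.ker (algebraMap (MvPolynomial (Fin n) k) C)).Cotangent :=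
    Module.Finite.of_surjective (Ideal.toCotangent _) (Ideal.toCotangent_surjective _)
  haveI : IsNoetherianRing C := Algebra.FiniteType.isNoetherianRing k C
  tfae_have 1 ↔ 3 := Groth.Agent.S4577.result (A := k₀) hsurj
  tfae_have 1 → 2 := by
    intro h p hp
    haveI : Algebra.FormallySmooth C (Localization.AtPrime p) :=
      Algebra.FormallySmooth.of_isLocalization p.primeCompl
    exact Algebra.FormallySmooth.comp k₀ C (Localization.AtPrime p)
  tfae_have 2 → 3 := fun h m hm => h m
  tfae_have 4 → 2 := by
    intro h p hp
    have h4 : CAlg.IsGeometricallyRegular k₀ (Localization.AtPrime p) := fun k' _ _ hk' =>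
      Groth.Agent.Lib.helper17.QFCpl.tensor_loc_general
        Groth.Agent.Lib.Helper24.FibLoc.locStable_isRegularRing k₀ k' C (Localization.AtPrime p)
        p.primeCompl (h k' hk')
    exact ((Groth.Agent.S4578.result (k₀ := k₀) (k := k) (C := C) p).out 3 0).mp h4
  tfae_have 1 → 4 := by
    intro h k' _ _ hk'
    haveI : Module.Finite C (TensorProduct k₀ C k') := Module.Finite.base_change k₀ C k'
    haveI : IsNoetherianRing (TensorProduct k₀ C k') :=
      IsNoetherianRing.of_finite C (TensorProduct k₀ C k')
    haveI hN : IsNoetherianRing (TensorProduct k₀ k' C) :=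
      isNoetherianRing_of_ringEquiv _ (Algebra.TensorProduct.comm k₀ C k').toRingEquiv
    rw [isRegularRing_iff]
    intro P hP
    haveI : Algebra.FormallySmooth (TensorProduct k₀ k' C) (Localization.AtPrime P) :=
      Algebra.FormallySmooth.of_isLocalization P.primeCompl
    haveI : Algebra.FormallySmooth k' (Localization.AtPrime P) :=
      Algebra.FormallySmooth.comp k' (TensorProduct k₀ k' C) (Localization.AtPrime P)
    haveI : IsNoetherianRing (Localization.AtPrime P) :=
      IsLocalization.isNoetherianRing P.primeCompl _ inferInstance
    exact Groth.Agent.Lib.helper19.CohenK.isRegularLocalRing_of_isAdicFormallySmooth_field k' _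
      (Groth.Agent.Lib.helper17.RegSmooth.isAdicFormallySmooth_of_formallySmooth k' _ _)
  tfae_finish

end Groth.Agent.S4579
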