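import Groth.Statements.S4580
import Groth.Agent.LibJac29
import Groth.Agent.LibQuotLoc29
-- import your own Groth.Agent.* helpers here

set_option autoImplicit false
universe u
open EGA41

namespace Groth.Agent.S4580

open KaehlerDifferential TensorProduct IsLocalRing Groth.Agent.LibJac29 Groth.Agent.LibQuotLoc29

section
variable {k₀ : Type u} [CommRing k₀] (R : Type u) [CommRing R] [Algebra k₀ R]

lemma tower1 (J q : Ideal R) [q.IsPrime] : IsScalarTower k₀ (R ⧸ J)
    (Localization.AtPrime q ⧸ J.map (algebraMap R (Localization.AtPrime q))) := by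
  apply IsScalarTower.of_algebraMap_eq
  intro c
  rfl

variable [Algebra.FormallySmooth k₀ R] [IsNoetherianRing R]
  (J q : Ideal R) [q.IsPrime] (hJq : J ≤ q) [(q.map (Ideal.Quotient.mk J)).IsPrime]

include hJq in
theorem main :
    Algebra.FormallySmooth k₀ (Localization.AtPrime (q.map (Ideal.Quotient.mk J))) ↔
      ∃ (m : ℕ) (f : Fin m → R) (D : Fin m → Derivation k₀ R R),
        (∀ i, f i ∈ J) ∧
        J.map (algebraMap R (Localization.AtPrime q)) =
          Ideal.span (Set.range fun i => algebraMap R (Localization.AtPrime q) (f i)) ∧
        Matrix.det (Matrix.of fun i j => D j (f i)) ∉ q := by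
  classical
  have hloc := isLocalization_atPrime_quotient R J q hJq
  let e₀ : Localization.AtPrime (q.map (Ideal.Quotient.mk J)) ≃ₐ[R ⧸ J]
      (Localization.AtPrime q ⧸ J.map (algebraMap R (Localization.AtPrime q))) :=
    IsLocalization.algEquiv (q.map (Ideal.Quotient.mk J)).primeCompl _ _
  have htower := tower1 (k₀ := k₀) R J q
  let e : Localization.AtPrime (q.map (Ideal.Quotient.mk J)) ≃ₐ[k₀]
      (Localization.AtPrime q ⧸ J.map (algebraMap R (Localization.AtPrime q))) :=
    e₀.restrictScalars k₀
  rw [Algebra.FormallySmooth.iff_of_equiv e]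
  let Pe : Algebra.Extension.{u} k₀
      (Localization.AtPrime q ⧸ J.map (algebraMap R (Localization.AtPrime q))) :=
    { Ring := Localization.AtPrime q
      σ := Function.surjInv Ideal.Quotient.mk_surjective
      algebraMap_σ := Function.surjInv_eq _ }
  have hPe : Algebra.FormallySmooth k₀ Pe.Ring :=
    inferInstanceAs (Algebra.FormallySmooth k₀ (Localization.AtPrime q))
  rw [Pe.formallySmooth_iff_split_injection]
  have hkerI : Pe.ker = J.map (algebraMap R (Localization.AtPrime q)) := Ideal.mk_ker
  have hJtop : J.map (algebraMap R (Localization.AtPrime q)) ≤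
      maximalIdeal (Localization.AtPrime q) := by
    rw [← Localization.AtPrime.map_eq_maximalIdeal]
    exact Ideal.map_mono hJq
  constructor
  · rintro ⟨l, hl⟩
    have : IsLocalRing Pe.Ring := inferInstanceAs (IsLocalRing (Localization.AtPrime q))
    have : IsNoetherianRing Pe.Ring :=
      inferInstanceAs (IsNoetherianRing (Localization.AtPrime q))
    obtain ⟨m, g, lam, hgS, hspan, hδ⟩ := exists_functionals_of_retraction Pe
      (hkerI.le.trans hJtop) ((algebraMap R (Localization.AtPrime q)) '' J)
      (by rw [hkerI]; rfl) l hl
    choose f hfJ hfg using hgS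
    obtain ⟨t, ht, ψ, hψ⟩ := exists_functionals_clear_denominators q.primeCompl
      (Localization.AtPrime q) (ResidueField (Localization.AtPrime q)) residue_surjective
      (M := Ω[R⁄k₀])
      (fun j => (lam j).restrictScalars R ∘ₗ (KaehlerDifferential.map k₀ k₀ R (Localization.AtPrime q)))
      (fun i => D k₀ R (f i))
    refine ⟨m, f, fun j => (ψ j).compDer (D k₀ R), hfJ, ?_, ?_⟩
    · rw [← hkerI, ← hspan]
      congr 2
      funext i
      exact (hfg i).symm
    · intro hdet
      have hρ : algebraMap R (ResidueField (Localization.AtPrime q))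
          (Matrix.det (Matrix.of fun i j => ((ψ j).compDer (D k₀ R)) (f i))) = 0 := by
        rw [IsScalarTower.algebraMap_apply R (Localization.AtPrime q), ResidueField.algebraMap_eq,
          residue_eq_zero_iff, IsLocalization.AtPrime.to_map_mem_maximal_iff _ q]
        exact hdet
      rw [RingHom.map_det] at hρ
      have hmat : (algebraMap R (ResidueField (Localization.AtPrime q))).mapMatrix
          (Matrix.of fun i j => ((ψ j).compDer (D k₀ R)) (f i)) =
          (algebraMap R (ResidueField (Localization.AtPrime q)) t) •
            (1 : Matrix (Fin m) (Fin m) (ResidueField (Localization.AtPrime q))) := by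
        ext i j
        have h1 := hψ i j
        simp only [LinearMap.coe_comp, LinearMap.coe_restrictScalars, Function.comp_apply,
          KaehlerDifferential.map_D, hfg] at h1
        simp only [RingHom.mapMatrix_apply, Matrix.map_apply, Matrix.of_apply,
          Derivation.coe_comp, LinearMap.coe_comp, LinearMap.coe_restrictScalars,
          Function.comp_apply, Derivation.coeFn_coe, Matrix.smul_apply, Matrix.one_apply,
          smul_eq_mul]
        exact h1.trans (congrArg _ (hδ i j))
      rw [hmat, Matrix.det_smul, Matrix.det_one, mul_one, Fintype.card_fin] at hρ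
      have ht0 : algebraMap R (ResidueField (Localization.AtPrime q)) t ≠ 0 := by
        rw [IsScalarTower.algebraMap_apply R (Localization.AtPrime q), ResidueField.algebraMap_eq,
          Ne, residue_eq_zero_iff, IsLocalization.AtPrime.to_map_mem_maximal_iff _ q]
        exact ht
      exact pow_ne_zero _ ht0 hρ
  · rintro ⟨m, f, D, hfJ, hspan, hdet⟩
    have hunits : ∀ x : q.primeCompl, IsUnit
        ((algebraMap R (Module.End R (Localization.AtPrime q))) x) :=
      IsLocalizedModule.map_units (Algebra.linearMap R (Localization.AtPrime q))
    let lam₀ : Fin m → (Ω[Localization.AtPrime q⁄k₀] →ₗ[R] Localization.AtPrime q) := fun j =>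
      IsLocalizedModule.lift q.primeCompl
        (KaehlerDifferential.map k₀ k₀ R (Localization.AtPrime q))
        ((Algebra.linearMap R (Localization.AtPrime q)) ∘ₗ (D j).liftKaehlerDifferential) hunits
    let lam : Fin m → (Ω[Localization.AtPrime q⁄k₀] →ₗ[Localization.AtPrime q]
        Localization.AtPrime q) := fun j =>
      (lam₀ j).extendScalarsOfIsLocalization q.primeCompl (Localization.AtPrime q)
    have hlam : ∀ i j, lam j (KaehlerDifferential.D k₀ (Localization.AtPrime q)
        (algebraMap R (Localization.AtPrime q) (f i))) =
        algebraMap R (Localization.AtPrime q) (D j (f i)) := by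
      intro i j
      rw [← KaehlerDifferential.map_D k₀ k₀ R (Localization.AtPrime q)]
      simp only [lam, lam₀, LinearMap.extendScalarsOfIsLocalization_apply',
        IsLocalizedModule.lift_apply]
      simp
    refine exists_retraction_of_det_isUnit Pe (fun i => algebraMap R (Localization.AtPrime q) (f i))
      (hspan.symm.trans hkerI.symm) lam ?_
    have hmat : (Matrix.of fun i j => lam j (KaehlerDifferential.D k₀ Pe.Ring
        (algebraMap R (Localization.AtPrime q) (f i)))) =
        (algebraMap R (Localization.AtPrime q)).mapMatrix (Matrix.of fun i j => D j (f i)) := by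
      ext i j
      simp only [RingHom.mapMatrix_apply, Matrix.map_apply, Matrix.of_apply]
      exact hlam i j
    rw [hmat, ← RingHom.map_det]
    apply IsUnit.map
    exact IsLocalization.map_units (Localization.AtPrime q) (⟨_, hdet⟩ : q.primeCompl)

end


/-- Let k₀ be a field, k a separable (formally smooth) extension field of k₀, B = k[T_1, ..., T_r], J an
ideal of B and q a prime of B containing J, with image p in C = B/J. Then C_p is formally smooth
over k₀ for the discrete topologies if and only if there exist f_1, ..., f_m ∈ J whose images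
generate J B_q and k₀-derivations D_1, ..., D_m of B with det(D_j f_i) ∉ q. -/
theorem result {k₀ k : Type u} [Field k₀] [Field k] [Algebra k₀ k]
    [Algebra.FormallySmooth k₀ k] (r : ℕ) (J q : Ideal (MvPolynomial (Fin r) k)) [q.IsPrime] (hJq : J ≤ q)
    [(q.map (Ideal.Quotient.mk J)).IsPrime] :
    Algebra.FormallySmooth k₀ (Localization.AtPrime (q.map (Ideal.Quotient.mk J))) ↔
      ∃ (m : ℕ) (f : Fin m → MvPolynomial (Fin r) k) (D : Fin m → Derivation k₀ (MvPolynomial (Fin r) k) (MvPolynomial (Fin r) k)),
        (∀ i, f i ∈ J) ∧
        J.map (algebraMap (MvPolynomial (Fin r) k) (Localization.AtPrime q)) =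
          Ideal.span (Set.range fun i => algebraMap (MvPolynomial (Fin r) k) (Localization.AtPrime q) (f i)) ∧
        Matrix.det (Matrix.of fun i j => D j (f i)) ∉ q := by
  have : Algebra.FormallySmooth k₀ (MvPolynomial (Fin r) k) :=
    Algebra.FormallySmooth.comp k₀ k (MvPolynomial (Fin r) k)
  exact main (MvPolynomial (Fin r) k) J q hJq

end Groth.Agent.S4580
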