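import Groth.Statements.S4581
import Groth.Agent.Lib.Helper24.DerExt
import Groth.Agent.S0542

set_option autoImplicit false
universe u
open EGA41
open scoped TensorProduct

namespace Groth.Agent.S4581

/-- Let A₀ be a semi-local Noetherian ring, A a module-finite A₀-algebra and Â the completion of A for
the adic topology of its Jacobson radical. For the discrete topologies, Â is a formally smooth
A-algebra relative to A₀. -/
theorem result {A₀ A : Type u} [CommRing A₀]
    [IsNoetherianRing A₀] [Finite (MaximalSpectrum A₀)] [CommRing A] [Algebra A₀ A] [Module.Finite A₀ A] :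
    EGA41.IsFormallySmoothRel A₀ A (AdicCompletion (Ideal.jacobson (⊥ : Ideal A)) A) := by
  classical
  intro C _ _ _ _ J hJ u₀ hu
  obtain ⟨u, hu⟩ := hu
  haveI : IsNoetherianRing A := IsNoetherianRing.of_finite A₀ A
  have hI : (Ideal.jacobson (⊥ : Ideal A)).FG := Ideal.fg_of_isNoetherianRing _
  haveI : IsNoetherianRing (AdicCompletion (Ideal.jacobson (⊥ : Ideal A)) A) :=
    Groth.Agent.S0542.result A _ hI
  have hJmul : ∀ x ∈ J, ∀ y ∈ J, x * y = 0 := by
    intro x hx y hy
    have h1 : x * y ∈ J ^ 2 := by rw [pow_two]; exact Ideal.mul_mem_mul hx hy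
    rw [hJ] at h1
    exact h1
  have hu' : ∀ x, Ideal.Quotient.mk J (u x) = u₀ x := fun x => AlgHom.congr_fun hu x
  -- the derivation `D a = u (ρ a) - σ a`
  have hD0 : ∀ a : A, u (algebraMap A _ a) - algebraMap A C a ∈ J := by
    intro a
    rw [← Ideal.Quotient.eq, hu', u₀.commutes]
    rfl
  let L : A →ₗ[A₀] C :=
    (u.toLinearMap.comp (Algebra.linearMap A (AdicCompletion (Ideal.jacobson (⊥ : Ideal A)) A)
      |>.restrictScalars A₀)) - (Algebra.linearMap A C |>.restrictScalars A₀)
  have hL : ∀ a, L a = u (algebraMap A _ a) - algebraMap A C a := fun a => rfl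
  let D : Derivation A₀ A C := Derivation.mk' L (by
    intro a b
    rw [hL, hL, hL, Algebra.smul_def, Algebra.smul_def, map_mul, map_mul, map_mul]
    have h1 := hJmul _ (hD0 a) _ (hD0 b)
    linear_combination h1)
  have hDa : ∀ a, D a = u (algebraMap A _ a) - algebraMap A C a := fun a => rfl
  let φ : Ω[A⁄A₀] →ₗ[A] C := D.liftKaehlerDifferential
  have hφd : ∀ a, φ (KaehlerDifferential.D A₀ A a) = D a := fun a =>
    Derivation.liftKaehlerDifferential_comp_D D a
  have hφJ : ∀ ω, φ ω ∈ J := by
    intro ω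
    have h1 : ω ∈ Submodule.span A (Set.range (KaehlerDifferential.D A₀ A)) := by
      rw [KaehlerDifferential.span_range_derivation]; trivial
    induction h1 using Submodule.span_induction with
    | mem x hx =>
      obtain ⟨a, rfl⟩ := hx
      rw [hφd, hDa]
      exact hD0 a
    | zero => rw [map_zero]; exact J.zero_mem
    | add x y _ _ hx hy => rw [map_add]; exact J.add_mem hx hy
    | smul a x _ hx =>
      rw [map_smul, Algebra.smul_def]
      exact J.mul_mem_left _ hx
  -- `u (a • x) * j = a • (u x * j)` for `j ∈ J`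
  have husmul : ∀ (a : A) (x : AdicCompletion (Ideal.jacobson (⊥ : Ideal A)) A) (j : C), j ∈ J →
      u (a • x) * j = a • (u x * j) := by
    intro a x j hj
    rw [Algebra.smul_def, map_mul, Algebra.smul_def]
    have h1 := hJmul _ (hD0 a) _ hj
    linear_combination (u x) * h1
  let B₂ : AdicCompletion (Ideal.jacobson (⊥ : Ideal A)) A →ₗ[A] Ω[A⁄A₀] →ₗ[A] C :=
    LinearMap.mk₂ A (fun x ω => u x * φ ω)
      (fun x y ω => by rw [map_add, add_mul])
      (fun a x ω => husmul a x _ (hφJ ω))
      (fun x ω ω' => by rw [map_add, mul_add])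
      (fun a x ω => by rw [map_smul, Algebra.smul_def, Algebra.smul_def]; ring)
  let φh : (AdicCompletion (Ideal.jacobson (⊥ : Ideal A)) A) ⊗[A] (Ω[A⁄A₀]) →ₗ[A] C :=
    TensorProduct.lift B₂
  have hφh : ∀ x ω, φh (x ⊗ₜ[A] ω) = u x * φ ω := fun x ω => rfl
  have hφhJ : ∀ n, φh n ∈ J := by
    intro n
    induction n using TensorProduct.induction_on with
    | zero => rw [map_zero]; exact J.zero_mem
    | tmul x ω => rw [hφh]; exact J.mul_mem_left _ (hφJ ω)
    | add x y hx hy => rw [map_add]; exact J.add_mem hx hy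
  have hφhsmul : ∀ (x : AdicCompletion (Ideal.jacobson (⊥ : Ideal A)) A) n,
      φh (x • n) = u x * φh n := by
    intro x n
    induction n using TensorProduct.induction_on with
    | zero => rw [smul_zero, map_zero, mul_zero]
    | tmul y ω =>
      rw [TensorProduct.smul_tmul', hφh, hφh, smul_eq_mul, map_mul, mul_assoc]
    | add y z hy hz => rw [smul_add, map_add, map_add, hy, hz, mul_add]
  -- the extension of `d`
  let δ : A →+ (AdicCompletion (Ideal.jacobson (⊥ : Ideal A)) A) ⊗[A] (Ω[A⁄A₀]) :=
    { toFun := fun a => (1 : AdicCompletion (Ideal.jacobson (⊥ : Ideal A)) A) ⊗ₜ[A]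
        KaehlerDifferential.D A₀ A a
      map_zero' := by rw [map_zero, TensorProduct.tmul_zero]
      map_add' := fun a b => by rw [map_add, TensorProduct.tmul_add] }
  have hδa : ∀ a, δ a = (1 : AdicCompletion (Ideal.jacobson (⊥ : Ideal A)) A) ⊗ₜ[A]
      KaehlerDifferential.D A₀ A a := fun a => rfl
  obtain ⟨δ', hδ'1, hδ'2⟩ := Groth.Agent.Lib.Helper24.DerExt.exists_extension
    (Ideal.jacobson (⊥ : Ideal A)) hI _ δ (by
      intro a b
      rw [hδa, hδa, hδa, Derivation.leibniz, TensorProduct.tmul_add, TensorProduct.tmul_smul,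
        TensorProduct.tmul_smul, ← algebraMap_smul (AdicCompletion (Ideal.jacobson (⊥ : Ideal A)) A) a,
        ← algebraMap_smul (AdicCompletion (Ideal.jacobson (⊥ : Ideal A)) A) b])
  -- the corrected map
  have hDh : ∀ x, φh (δ' x) ∈ J := fun x => hφhJ _
  have hDhρ : ∀ a, φh (δ' (algebraMap A _ a)) = D a := by
    intro a
    rw [hδ'2, hδa, hφh, map_one, one_mul, hφd]
  have hDhmul : ∀ x y, φh (δ' (x * y)) = u x * φh (δ' y) + u y * φh (δ' x) := by
    intro x y
    rw [hδ'1, map_add, hφhsmul, hφhsmul]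
  have hDh1 : φh (δ' 1) = 0 := by
    have h1 := hDhρ 1
    rw [map_one] at h1
    rw [h1, hDa, map_one, map_one, map_one, sub_self]
  let v₀ : AdicCompletion (Ideal.jacobson (⊥ : Ideal A)) A →+* C :=
    { toFun := fun x => u x - φh (δ' x)
      map_one' := by rw [hDh1, map_one, sub_zero]
      map_mul' := fun x y => by
        rw [map_mul, hDhmul]
        have h1 := hJmul _ (hDh x) _ (hDh y)
        linear_combination (-1 : C) * h1
      map_zero' := by rw [map_zero, map_zero, map_zero, sub_zero]
      map_add' := fun x y => by rw [map_add, map_add, map_add]; ring }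
  have hv₀ : ∀ x, v₀ x = u x - φh (δ' x) := fun x => rfl
  refine ⟨{ toRingHom := v₀
            commutes' := fun a => ?_ }, ?_⟩
  · show v₀ (algebraMap A _ a) = algebraMap A C a
    rw [hv₀, hDhρ, hDa]
    ring
  · apply AlgHom.ext
    intro x
    show Ideal.Quotient.mk J (v₀ x) = u₀ x
    rw [hv₀, map_sub, Ideal.Quotient.eq_zero_iff_mem.2 (hDh x), sub_zero, hu']

end Groth.Agent.S4581
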