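import Groth.Statements.S4586
import Groth.Agent.S15542
import Groth.Agent.S15543
import Groth.Agent.S3398
import Groth.Agent.S3399
import Groth.Agent.S3402
import Groth.Agent.Lib.Helper9.ProConsLoc

set_option autoImplicit false
universe u
open AlgebraicGeometry CategoryTheory Topology
open EGA41

namespace Groth.Agent.S4586

/-- Let f : X → Y be surjective and either quasi-compact or locally of finite presentation, E ⊆ Y. Then
E is locally constructible (resp. pro-constructible, resp. ind-constructible) if and only if f⁻¹(E)
is. -/
theorem result {X Y : Scheme.{u}} (f : X ⟶ Y) [Surjective f]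
    (hf : QuasiCompact f ∨ LocallyOfFinitePresentation f) (E : Set Y) :
    (IsLocallyConstructible E ↔ IsLocallyConstructible (f.base ⁻¹' E)) ∧
    (ProCons.IsProConstructible E ↔ ProCons.IsProConstructible (f.base ⁻¹' E)) ∧
    (ProCons.IsIndConstructible E ↔ ProCons.IsIndConstructible (f.base ⁻¹' E)) := by
  have hsurj : Function.Surjective f.base := f.surjective
  have himg : ∀ A : Set Y, f.base '' (f.base ⁻¹' A) = A :=
    fun A => Set.image_preimage_eq A hsurj
  have hpro : ∀ A : Set Y, ProCons.IsProConstructible (f.base ⁻¹' A) →
      ProCons.IsProConstructible A := by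
    intro A hA
    rcases hf with hqc | hlfp
    · have h := Groth.Agent.S3398.result f (f.base ⁻¹' A) hA
      rwa [himg] at h
    · rw [Groth.Agent.Lib.helper9.isProConstructible_iff_compl]
      have h1 : ProCons.IsIndConstructible (f.base ⁻¹' Aᶜ) := by
        rw [Set.preimage_compl]
        exact Groth.Agent.Lib.helper9.isProConstructible_iff_compl.mp hA
      have h := Groth.Agent.S3399.result f _ h1
      rwa [himg] at h
  have hind : ∀ A : Set Y, ProCons.IsIndConstructible (f.base ⁻¹' A) →
      ProCons.IsIndConstructible A := by
    intro A hA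
    rw [Groth.Agent.Lib.helper9.isIndConstructible_iff_compl]
    apply hpro
    rw [Set.preimage_compl]
    exact Groth.Agent.Lib.helper9.isIndConstructible_iff_compl.mp hA
  have hpro' : ProCons.IsProConstructible E ↔ ProCons.IsProConstructible (f.base ⁻¹' E) :=
    ⟨fun h => Groth.Agent.S15542.result f E h, hpro E⟩
  have hind' : ProCons.IsIndConstructible E ↔ ProCons.IsIndConstructible (f.base ⁻¹' E) :=
    ⟨fun h => Groth.Agent.S15543.result f E h, hind E⟩
  refine ⟨?_, hpro', hind'⟩
  rw [Groth.Agent.S3402.result Y E, Groth.Agent.S3402.result X (f.base ⁻¹' E), hpro', hind']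

end Groth.Agent.S4586
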