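import Groth.Statements.S4587
import Mathlib.AlgebraicGeometry.Properties
import Mathlib.Topology.Sober
import Mathlib.Topology.Irreducible

set_option autoImplicit false
universe u
open AlgebraicGeometry CategoryTheory
open EGA41

namespace Groth.Agent.S4587

/-- Topological version: a continuous map between quasi-sober T₀ spaces is generalizing iff
for every irreducible closed `Y'` every irreducible component of `f ⁻¹' Y'` dominates `Y'`. -/
theorem generalizingMap_iff_top {X Y : Type u} [TopologicalSpace X] [TopologicalSpace Y]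
    [QuasiSober X] [QuasiSober Y] [T0Space Y] {f : X → Y} (hf : Continuous f) :
    GeneralizingMap f ↔
      ∀ Y' : Set Y, IsClosed Y' → IsIrreducible Y' →
        ∀ Z ∈ irreducibleComponents ↥(f ⁻¹' Y'), closure (f '' (Subtype.val '' Z)) = Y' := by
  constructor
  · intro hgen Y' hY'cl hY'irr Z hZ
    have hWcl : IsClosed (f ⁻¹' Y') := hY'cl.preimage hf
    have hZcl : IsClosed Z := isClosed_of_mem_irreducibleComponents Z hZ
    have hZirr : IsIrreducible Z := hZ.1
    have hZ'cl : IsClosed (Subtype.val '' Z : Set X) :=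
      hWcl.isClosedEmbedding_subtypeVal.isClosedMap _ hZcl
    have hZ'irr : IsIrreducible (Subtype.val '' Z : Set X) :=
      hZirr.image _ continuous_subtype_val.continuousOn
    obtain ⟨η, hη⟩ := QuasiSober.sober hY'irr hY'cl
    obtain ⟨z, hz⟩ := QuasiSober.sober hZ'irr hZ'cl
    obtain ⟨zW, hzWZ, hzWz⟩ := hz.mem
    have hzW : z ∈ f ⁻¹' Y' := hzWz ▸ zW.2
    have hηz : η ⤳ f z := hη.specializes hzW
    obtain ⟨z', hz'z, hfz'⟩ := hgen hηz
    have hz'W : z' ∈ f ⁻¹' Y' := by
      show f z' ∈ Y'
      rw [hfz']
      exact hη.mem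
    -- the closure of `z'` in the subspace contains `Z`, hence equals it
    set T : Set ↥(f ⁻¹' Y') := closure {(⟨z', hz'W⟩ : ↥(f ⁻¹' Y'))} with hT
    have hTirr : IsIrreducible T := isIrreducible_singleton.closure
    have hZT : Z ≤ T := by
      intro w hw
      rw [hT, closure_subtype, Set.image_singleton]
      have hwZ' : (w : X) ∈ Subtype.val '' Z := ⟨w, hw, rfl⟩
      rw [← hz.def] at hwZ'
      exact specializes_iff_mem_closure.mp
        (hz'z.trans (specializes_iff_mem_closure.mpr hwZ'))
    have hTZ : T ≤ Z := hZ.2 hTirr hZT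
    have hz'Z : (⟨z', hz'W⟩ : ↥(f ⁻¹' Y')) ∈ Z := hTZ (subset_closure rfl)
    apply subset_antisymm
    · apply closure_minimal _ hY'cl
      rintro _ ⟨_, ⟨w, -, rfl⟩, rfl⟩
      exact w.2
    · intro y hy
      have hy' : y ∈ closure ({η} : Set Y) := by
        rw [hη.def]
        exact hy
      refine closure_minimal ?_ isClosed_closure hy'
      rw [Set.singleton_subset_iff]
      exact subset_closure ⟨z', ⟨⟨z', hz'W⟩, hz'Z, rfl⟩, hfz'⟩
  · intro H a b hb
    have hY'cl : IsClosed (closure ({b} : Set Y)) := isClosed_closure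
    have hY'irr : IsIrreducible (closure ({b} : Set Y)) := isIrreducible_singleton.closure
    have haW : a ∈ f ⁻¹' closure ({b} : Set Y) := specializes_iff_mem_closure.mp hb
    have hWcl : IsClosed (f ⁻¹' closure ({b} : Set Y)) := hY'cl.preimage hf
    set Z : Set ↥(f ⁻¹' closure ({b} : Set Y)) := irreducibleComponent ⟨a, haW⟩ with hZdef
    have hZ : Z ∈ irreducibleComponents ↥(f ⁻¹' closure ({b} : Set Y)) :=
      irreducibleComponent_mem_irreducibleComponents _
    have hZcl : IsClosed Z := isClosed_of_mem_irreducibleComponents Z hZ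
    have hZ'cl : IsClosed (Subtype.val '' Z : Set X) :=
      hWcl.isClosedEmbedding_subtypeVal.isClosedMap _ hZcl
    have hZ'irr : IsIrreducible (Subtype.val '' Z : Set X) :=
      hZ.1.image _ continuous_subtype_val.continuousOn
    obtain ⟨z, hz⟩ := QuasiSober.sober hZ'irr hZ'cl
    have haZ' : a ∈ Subtype.val '' Z := ⟨⟨a, haW⟩, mem_irreducibleComponent, rfl⟩
    have hza : z ⤳ a := hz.specializes haZ'
    refine ⟨z, hza, ?_⟩
    have hdom := H _ hY'cl hY'irr Z hZ
    have hsub : f '' (Subtype.val '' Z) ⊆ closure {f z} := by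
      rintro _ ⟨x, hx, rfl⟩
      rw [← hz.def] at hx
      exact specializes_iff_mem_closure.mp ((specializes_iff_mem_closure.mpr hx).map hf)
    have h1 : f z ⤳ b := by
      rw [specializes_iff_mem_closure]
      apply closure_minimal hsub isClosed_closure
      rw [hdom]
      exact subset_closure rfl
    have h2 : b ⤳ f z := by
      rw [specializes_iff_mem_closure]
      obtain ⟨zW, -, hzWz⟩ := hz.mem
      exact hzWz ▸ zW.2
    exact (h1.antisymm h2).eq

/-- A morphism of schemes f : X → Y is generizing if and only if, for every irreducible closed subset Y'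
of Y, each irreducible component of f⁻¹(Y') has dense image in Y'. -/
theorem result {X Y : Scheme.{u}} (f : X ⟶ Y) :
    GeneralizingMap f.base ↔
      ∀ Y' : Set Y, IsClosed Y' → IsIrreducible Y' →
        ∀ Z ∈ irreducibleComponents ↥(f.base ⁻¹' Y'), closure (f.base '' (Subtype.val '' Z)) = Y' := by
  exact generalizingMap_iff_top f.continuous

end Groth.Agent.S4587
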