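import Groth.Statements.S4588
import Mathlib
import Groth.Agent.Lib.Helper19.Eisen4
import Groth.Agent.Lib.Helper24.SmoothRegularIff

set_option autoImplicit false
universe u
open IsLocalRing
open EGA41

namespace Groth.Agent.S4588

-- MARK


/-- Let A be a regular local ring with maximal ideal m and residue field K, and F_i(T_i) = T_i^{d_i} +
Σ_{k<d_i} c_{ik} T_i^k (1 ≤ i ≤ r) monic one-variable polynomials of degrees d_i ≥ 2 with all
non-leading coefficients in m; put A' = A[T_1, …, T_r]/(F_1, …, F_r). Then (i) A' is local with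
residue field K, and (ii) A' is regular if and only if the classes in m/m² of the constant terms
c_{i0} are linearly independent over K. -/
theorem result {A : Type u} [CommRing A]
    [IsRegularLocalRing A] {r : ℕ} (d : Fin r → ℕ) (hd : ∀ i, 2 ≤ d i) (c : Fin r → ℕ → A)
    (hc : ∀ i k, c i k ∈ maximalIdeal A) :
    let F : Fin r → MvPolynomial (Fin r) A := fun i =>
      MvPolynomial.X i ^ d i + (Finset.range (d i)).sum fun k => MvPolynomial.C (c i k) * MvPolynomial.X i ^ k
    IsLocalRing (MvPolynomial (Fin r) A ⧸ Ideal.span (Set.range F)) ∧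
    (∀ (M : Ideal (MvPolynomial (Fin r) A ⧸ Ideal.span (Set.range F))) [M.IsMaximal],
      Function.Surjective ((Ideal.Quotient.mk M).comp (algebraMap A _))) ∧
    (IsRegularRing (MvPolynomial (Fin r) A ⧸ Ideal.span (Set.range F)) ↔
      LinearIndependent (ResidueField A) (fun i => (maximalIdeal A).toCotangent ⟨c i 0, hc i 0⟩)) := by
    classical
  intro F
  open Groth.Agent.Lib.helper19.PPoly Groth.Agent.Lib.helper19.Eisen in
  let P : Fin r → Polynomial A := fun i =>
    Polynomial.X ^ d i + ∑ k ∈ Finset.range (d i), Polynomial.C (c i k) * Polynomial.X ^ k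
  obtain ⟨hloc, -, hsurj, hdim, -, hiff⟩ := eisenstein_main r A d hd c hc P (fun i => rfl)
  have hI : Ideal.span (Set.range F) = qIdeal A P := by
    unfold qIdeal
    congr 2
    funext i
    simp [F, P, map_sum, MvPolynomial.algebraMap_eq]
  suffices h : ∀ (I : Ideal (MvPolynomial (Fin r) A)), I = qIdeal A P →
      IsLocalRing (MvPolynomial (Fin r) A ⧸ I) ∧
      (∀ (M : Ideal (MvPolynomial (Fin r) A ⧸ I)) [M.IsMaximal],
        Function.Surjective ((Ideal.Quotient.mk M).comp (algebraMap A _))) ∧
      (IsRegularRing (MvPolynomial (Fin r) A ⧸ I) ↔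
        LinearIndependent (ResidueField A)
          (fun i => (maximalIdeal A).toCotangent ⟨c i 0, hc i 0⟩)) from h _ hI
  rintro _ rfl
  refine ⟨hloc, ?_, ?_⟩
  · intro M hM z
    have hMeq : M = maximalIdeal (Q A P) := IsLocalRing.eq_maximalIdeal hM
    obtain ⟨y, rfl⟩ := Ideal.Quotient.mk_surjective z
    obtain ⟨a, ha⟩ := hsurj y
    refine ⟨a, ?_⟩
    rw [RingHom.comp_apply]
    symm
    rw [Ideal.Quotient.eq, hMeq]
    exact ha
  · rw [← cInd_iff_linearIndependent (fun i => c i 0) (fun i => hc i 0), ← hiff]
    have hA : ((maximalIdeal A).spanFinrank : WithBot ℕ∞) = ringKrullDim A :=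
      IsRegularLocalRing.spanFinrank_maximalIdeal
    constructor
    · intro hreg
      have hrl : IsRegularLocalRing (Q A P) :=
        IsRegularLocalRing.of_isRegularRing_of_isLocalRing (R := Q A P)
      have hB : ((maximalIdeal (Q A P)).spanFinrank : WithBot ℕ∞) = ringKrullDim (Q A P) :=
        IsRegularLocalRing.spanFinrank_maximalIdeal
      rw [hdim, ← hA] at hB
      exact_mod_cast hB.symm
    · intro heq
      have hrl : IsRegularLocalRing (Q A P) := by
        rw [isRegularLocalRing_iff, hdim, ← hA, heq]
      exact Groth.Agent.Lib.Helper24.SmoothRegularIff.isRegularRing_of_isRegularLocalRing _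

end Groth.Agent.S4588
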