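import Groth.Statements.S4590
import Mathlib.RingTheory.Flat.FaithfullyFlat.Algebra
import Mathlib.RingTheory.Flat.TorsionFree
import Mathlib.RingTheory.Polynomial.ScaleRoots
import Mathlib.RingTheory.IntegralClosure.Algebra.Basic
import Mathlib.Algebra.Polynomial.Lifts
import Mathlib.Algebra.Ring.GeomSum
import Mathlib.Tactic.Ring
import Mathlib.Tactic.LinearCombination
import Mathlib.Tactic.FieldSimp

set_option autoImplicit false
universe u
open CAlg

namespace Groth.Agent.S4590


open Polynomial

/-- Ideal computation in `B`. -/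
lemma pow_mem_of_nilp {B : Type*} [CommRing B] (S 𝔞 : Ideal B) (hS : S ≤ 𝔞) (a u : B) (n N : ℕ)
    (hn : 1 ≤ n) (hN : 1 ≤ N) (ha : a ∈ 𝔞) (hu : u ∈ S * 𝔞 ^ (n - 1))
    (hnil : (a ^ n + u) ^ N = 0) : a ^ (n * N) ∈ S * 𝔞 ^ (n * N - 1) := by
  have key := Commute.geom_sum₂_mul (Commute.all (a ^ n + u) (a ^ n)) N
  rw [hnil, add_sub_cancel_left, zero_sub] at key
  have han : a ^ n + u ∈ 𝔞 ^ n := by
    refine Ideal.add_mem _ (Ideal.pow_mem_pow ha n) ?_
    have : S * 𝔞 ^ (n - 1) ≤ 𝔞 ^ n := by
      calc S * 𝔞 ^ (n - 1) ≤ 𝔞 * 𝔞 ^ (n - 1) := Ideal.mul_mono_left hS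
        _ = 𝔞 ^ n := by rw [← pow_succ']; congr 1; omega
    exact this hu
  have hsum : ∑ i ∈ Finset.range N, (a ^ n + u) ^ i * (a ^ n) ^ (N - 1 - i) ∈ 𝔞 ^ (n * (N - 1)) := by
    refine Submodule.sum_mem _ fun i hi => ?_
    have hi' : i < N := Finset.mem_range.1 hi
    have h1 : (a ^ n + u) ^ i ∈ 𝔞 ^ (n * i) := by
      rw [pow_mul]; exact Ideal.pow_mem_pow han i
    have h2 : (a ^ n) ^ (N - 1 - i) ∈ 𝔞 ^ (n * (N - 1 - i)) := by
      rw [pow_mul]; exact Ideal.pow_mem_pow (Ideal.pow_mem_pow ha n) _
    have h3 := Ideal.mul_mem_mul h1 h2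
    rw [← pow_add, ← Nat.mul_add] at h3
    have : i + (N - 1 - i) = N - 1 := by omega
    rwa [this] at h3
  have h4 : (a ^ n) ^ N = -((∑ i ∈ Finset.range N, (a ^ n + u) ^ i * (a ^ n) ^ (N - 1 - i)) * u) := by
    rw [key, neg_neg]
  rw [pow_mul, h4]
  refine (Ideal.neg_mem_iff _).2 ?_
  have h5 := Ideal.mul_mem_mul hsum hu
  have h6 : 𝔞 ^ (n * (N - 1)) * (S * 𝔞 ^ (n - 1)) = S * 𝔞 ^ (n * N - 1) := by
    rw [← mul_assoc, mul_comm _ S, mul_assoc, ← pow_add]
    congr 2
    obtain ⟨N', rfl⟩ : ∃ N', N = N' + 1 := ⟨N - 1, by omega⟩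
    obtain ⟨n', rfl⟩ : ∃ n', n = n' + 1 := ⟨n - 1, by omega⟩
    simp only [Nat.add_sub_cancel]
    ring_nf
    omega
  rwa [h6] at h5

/-- Elements of `(s, a)^k` divided by `s^k` are combinations of powers of `a / s`. -/
lemma div_mem_span_pow {A K : Type*} [CommRing A] [Field K] [Algebra A K] (s a : A)
    (hs : algebraMap A K s ≠ 0) (k : ℕ) (z : A) (hz : z ∈ (Ideal.span {s, a}) ^ k) :
    algebraMap A K z / (algebraMap A K s) ^ k ∈
      Submodule.span A {y : K | ∃ i ≤ k, y = (algebraMap A K a / algebraMap A K s) ^ i} := by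
  set x := algebraMap A K a / algebraMap A K s with hx
  induction k generalizing z with
  | zero =>
    rw [pow_zero, div_one, Algebra.algebraMap_eq_smul_one]
    exact Submodule.smul_mem _ _ (Submodule.subset_span ⟨0, le_rfl, by simp⟩)
  | succ k ih =>
    have hmono : Submodule.span A {y : K | ∃ i ≤ k, y = x ^ i} ≤
        Submodule.span A {y : K | ∃ i ≤ k + 1, y = x ^ i} :=
      Submodule.span_mono fun y ⟨i, hi, hy⟩ => ⟨i, by omega, hy⟩
    have hshift : ∀ y ∈ Submodule.span A {y : K | ∃ i ≤ k, y = x ^ i},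
        x * y ∈ Submodule.span A {y : K | ∃ i ≤ k + 1, y = x ^ i} := by
      intro y hy
      refine Submodule.span_induction ?_ ?_ ?_ ?_ hy
      · rintro _ ⟨i, hi, rfl⟩
        exact Submodule.subset_span ⟨i + 1, by omega, by rw [pow_succ']⟩
      · rw [mul_zero]; exact Submodule.zero_mem _
      · intro y₁ y₂ _ _ h₁ h₂; rw [mul_add]; exact Submodule.add_mem _ h₁ h₂
      · intro r y₁ _ h₁; rw [mul_smul_comm]; exact Submodule.smul_mem _ _ h₁
    rw [pow_succ'] at hz
    refine Submodule.mul_induction_on hz ?_ ?_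
    · intro y hy w hw
      obtain ⟨r, r', rfl⟩ := Ideal.mem_span_pair.1 hy
      have hw' := ih w hw
      have e : algebraMap A K ((r * s + r' * a) * w) / algebraMap A K s ^ (k + 1)
          = r • (algebraMap A K w / algebraMap A K s ^ k)
            + r' • (x * (algebraMap A K w / algebraMap A K s ^ k)) := by
        rw [Algebra.smul_def, Algebra.smul_def, hx, map_mul, map_add, map_mul, map_mul]
        field_simp
        ring
      rw [e]
      exact Submodule.add_mem _ (Submodule.smul_mem _ _ (hmono hw'))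
        (Submodule.smul_mem _ _ (hshift _ hw'))
    · intro y₁ y₂ h₁ h₂
      rw [map_add, add_div]
      exact Submodule.add_mem _ h₁ h₂

/-- Let A be a domain with fraction field K, B a faithfully flat A-algebra, C = B_red and R the total
ring of fractions of C. Then A → C is injective with nonzero elements going to non-zero-divisors, so
that K embeds in R, and an element of K is integral over C in R if and only if it is integral over
A. -/
theorem result {A B : Type u} [CommRing A] [IsDomain A]
    [CommRing B] [Algebra A B] [Module.FaithfullyFlat A B] :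
    Function.Injective (algebraMap A (B ⧸ nilradical B)) ∧
    (∀ a : A, a ≠ 0 → algebraMap A (B ⧸ nilradical B) a ∈ nonZeroDivisors (B ⧸ nilradical B)) ∧
    ∀ (R : Type u) [CommRing R] [Algebra (B ⧸ nilradical B) R] [IsFractionRing (B ⧸ nilradical B) R]
      [Algebra A R] [IsScalarTower A (B ⧸ nilradical B) R] [Algebra (FractionRing A) R]
      [IsScalarTower A (FractionRing A) R] (x : FractionRing A),
      IsIntegral (B ⧸ nilradical B) (algebraMap (FractionRing A) R x) ↔ IsIntegral A x := by
  classical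
  have hAB : Function.Injective (algebraMap A B) := FaithfulSMul.algebraMap_injective A B
  have hntB : Nontrivial B := hAB.nontrivial
  have hmk : ∀ a : A, algebraMap A (B ⧸ nilradical B) a
      = Ideal.Quotient.mk (nilradical B) (algebraMap A B a) := fun a => rfl
  have hregB : ∀ a : A, a ≠ 0 → ∀ b : B, algebraMap A B a * b = 0 → b = 0 := by
    intro a ha b hb
    have hreg : IsSMulRegular B a :=
      Module.Flat.isSMulRegular_of_nonZeroDivisors (mem_nonZeroDivisors_of_ne_zero ha)
    apply hreg
    show a • b = a • (0 : B)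
    rw [smul_zero, Algebra.smul_def, hb]
  -- (1)
  have h1 : Function.Injective (algebraMap A (B ⧸ nilradical B)) := by
    rw [injective_iff_map_eq_zero]
    intro a ha
    rw [hmk, Ideal.Quotient.eq_zero_iff_mem] at ha
    obtain ⟨n, hn⟩ := (mem_nilradical).1 ha
    rw [← map_pow] at hn
    have := hAB (hn.trans (map_zero _).symm)
    exact pow_eq_zero_iff (M₀ := A) (by
      rintro rfl
      rw [pow_zero] at this
      exact one_ne_zero this) |>.1 this
  -- (2)
  have h2 : ∀ a : A, a ≠ 0 →
      algebraMap A (B ⧸ nilradical B) a ∈ nonZeroDivisors (B ⧸ nilradical B) := by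
    intro a ha
    rw [mem_nonZeroDivisors_iff_right]
    intro c hc
    obtain ⟨b, rfl⟩ := Ideal.Quotient.mk_surjective c
    rw [hmk, ← map_mul, Ideal.Quotient.eq_zero_iff_mem] at hc
    obtain ⟨n, hn⟩ := (mem_nilradical).1 hc
    rw [Ideal.Quotient.eq_zero_iff_mem]
    refine (mem_nilradical).2 ⟨n, ?_⟩
    rw [mul_pow, mul_comm, ← map_pow] at hn
    exact hregB (a ^ n) (pow_ne_zero _ ha) _ hn
  refine ⟨h1, h2, ?_⟩
  intro R _ _ _ _ _ _ _ x
  have hCR : Function.Injective (algebraMap (B ⧸ nilradical B) R) :=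
    IsFractionRing.injective _ _
  constructor
  · -- integral over `C` implies integral over `A`
    intro hx
    obtain ⟨a, s, rfl⟩ := IsLocalization.exists_mk'_eq (nonZeroDivisors A) x
    have hs0 : (s : A) ≠ 0 := nonZeroDivisors.ne_zero s.2
    set K := FractionRing A
    have hsK : algebraMap A K s ≠ 0 := by
      rw [Ne, map_eq_zero_iff _ (IsFractionRing.injective A K)]; exact hs0
    set xR := algebraMap K R (IsLocalization.mk' K a s) with hxR
    set f := algebraMap (B ⧸ nilradical B) R with hf
    have hxs : f (algebraMap A (B ⧸ nilradical B) s) * xR = f (algebraMap A (B ⧸ nilradical B) a) := by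
      rw [hf, hxR, ← IsScalarTower.algebraMap_apply A (B ⧸ nilradical B) R,
        ← IsScalarTower.algebraMap_apply A (B ⧸ nilradical B) R,
        IsScalarTower.algebraMap_apply A K R, IsScalarTower.algebraMap_apply A K R, ← map_mul,
        mul_comm, IsLocalization.mk'_spec]
    have hntC : Nontrivial (B ⧸ nilradical B) := by
      refine Ideal.Quotient.nontrivial_iff.2 ?_
      intro htop
      have : (1 : B) ∈ nilradical B := htop ▸ Submodule.mem_top
      obtain ⟨k, hk⟩ := (mem_nilradical).1 this
      rw [one_pow] at hk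
      exact one_ne_zero hk
    obtain ⟨p, hpm, hp0⟩ := hx
    have hq := scaleRoots_eval₂_eq_zero f (s := algebraMap A (B ⧸ nilradical B) s) hp0
    rw [hxs] at hq
    -- lift `p` to `B`
    obtain ⟨P, hP, -, hPm⟩ := Polynomial.lifts_and_degree_eq_and_monic
      ((Polynomial.mem_lifts p).2
        (Polynomial.map_surjective _ Ideal.Quotient.mk_surjective p)) hpm
    set n := P.natDegree with hn
    set sB := algebraMap A B s with hsB
    set aB := algebraMap A B a with haB
    set β := (P.scaleRoots sB).eval aB with hβ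
    have hβnil : β ∈ nilradical B := by
      rw [← Ideal.Quotient.eq_zero_iff_mem]
      apply hCR
      rw [map_zero, hβ, ← eval₂_at_apply, ← eval_map, map_scaleRoots _ _ _ (by
        rw [hPm.leadingCoeff, map_one]; exact one_ne_zero), hP, ← eval₂_at_apply]
      exact hq
    -- `β = aB ^ n + u`
    obtain ⟨N0, hN0⟩ := (mem_nilradical).1 hβnil
    have hN : β ^ (N0 + 1) = 0 := by rw [pow_succ, hN0, zero_mul]
    have hn1 : 1 ≤ n := by
      by_contra hcon
      have hn0 : n = 0 := by omega
      have hP1 : P = 1 := by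
        have := eq_C_of_natDegree_eq_zero (hn ▸ hn0 : P.natDegree = 0)
        rw [this]
        have hlc := hPm.leadingCoeff
        rw [leadingCoeff, ← hn, hn0] at hlc
        rw [hlc, C_1]
      have : β = 1 := by rw [hβ, hP1]; simp
      rw [this, one_pow] at hN
      exact one_ne_zero hN
    set I : Ideal A := Ideal.span {(s : A), a} with hI
    set S : Ideal B := Ideal.map (algebraMap A B) (Ideal.span {(s : A)}) with hS
    set 𝔞 : Ideal B := Ideal.map (algebraMap A B) I with h𝔞
    have hsS : sB ∈ S := Ideal.mem_map_of_mem _ (Ideal.subset_span rfl)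
    have hs𝔞 : sB ∈ 𝔞 := Ideal.mem_map_of_mem _ (Ideal.subset_span (by simp))
    have ha𝔞 : aB ∈ 𝔞 := Ideal.mem_map_of_mem _ (Ideal.subset_span (by simp))
    have hS𝔞 : S ≤ 𝔞 := Ideal.map_mono (Ideal.span_mono (by simp))
    set u : B := ∑ i ∈ Finset.range n, P.coeff i * sB ^ (n - i) * aB ^ i with hu
    have hβu : β = aB ^ n + u := by
      rw [hβ, eval_eq_sum_range, natDegree_scaleRoots, ← hn, Finset.sum_range_succ, add_comm]
      congr 1
      · rw [coeff_scaleRoots, ← hn, Nat.sub_self, pow_zero, mul_one]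
        have := hPm.leadingCoeff
        rw [leadingCoeff, ← hn] at this
        rw [this, one_mul]
      · refine Finset.sum_congr rfl fun i _ => ?_
        rw [coeff_scaleRoots, ← hn]
    have huS : u ∈ S * 𝔞 ^ (n - 1) := by
      refine Submodule.sum_mem _ fun i hi => ?_
      have hi' : i < n := Finset.mem_range.1 hi
      have e : P.coeff i * sB ^ (n - i) * aB ^ i
          = sB * (P.coeff i * (sB ^ (n - i - 1) * aB ^ i)) := by
        have : n - i = (n - i - 1) + 1 := by omega
        rw [this, pow_succ]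
        simp only [Nat.add_sub_cancel]
        ring
      rw [e]
      refine Ideal.mul_mem_mul hsS (Ideal.mul_mem_left _ _ ?_)
      have h3 := Ideal.mul_mem_mul (Ideal.pow_mem_pow hs𝔞 (n - i - 1)) (Ideal.pow_mem_pow ha𝔞 i)
      rw [← pow_add] at h3
      have : n - i - 1 + i = n - 1 := by omega
      rwa [this] at h3
    rw [hβu] at hN
    have hkey := pow_mem_of_nilp S 𝔞 hS𝔞 aB u n (N0 + 1) hn1 (by omega) ha𝔞 huS hN
    set m := n * (N0 + 1) with hm
    have hm1 : 1 ≤ m := Nat.mul_pos hn1 (by omega)
    have hmem : a ^ m ∈ Ideal.span {(s : A)} * I ^ (m - 1) := by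
      rw [← Ideal.comap_map_eq_self_of_faithfullyFlat (B := B) (Ideal.span {(s : A)} * I ^ (m - 1)),
        Ideal.mem_comap, Ideal.map_mul, Ideal.map_pow, map_pow]
      exact hkey
    obtain ⟨z, hz, hsz⟩ := Ideal.mem_span_singleton_mul.1 hmem
    set xK : K := algebraMap A K a / algebraMap A K s with hxK
    have hxeq : IsLocalization.mk' K a s = xK := by
      rw [hxK, eq_div_iff hsK, IsLocalization.mk'_spec]
    rw [hxeq]
    set T : Submodule A K := Submodule.span A {y : K | ∃ i ≤ m - 1, y = xK ^ i} with hT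
    have hxm : xK ^ m ∈ T := by
      have h4 := div_mem_span_pow (K := K) (s : A) a hsK (m - 1) z hz
      have h5 : xK ^ m = algebraMap A K z / algebraMap A K s ^ (m - 1) := by
        have hm' : m = (m - 1) + 1 := by omega
        have e1 : (algebraMap A K a) ^ m = algebraMap A K s * algebraMap A K z := by
          rw [← map_pow, ← hsz, map_mul]
        have e2 : (algebraMap A K s) ^ m = (algebraMap A K s) ^ (m - 1) * algebraMap A K s := by
          conv_lhs => rw [hm', pow_succ]
        rw [hxK, div_pow, e1, e2, mul_comm (algebraMap A K (s : A)) (algebraMap A K z),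
          mul_div_mul_right _ _ hsK]
      rw [h5]
      exact h4
    refine isIntegral_of_smul_mem_submodule (M := K) T ?_ ?_ xK ?_
    · intro hbot
      have : (1 : K) ∈ T := Submodule.subset_span ⟨0, Nat.zero_le _, by simp⟩
      rw [hbot, Submodule.mem_bot] at this
      exact one_ne_zero this
    · have hfin : {y : K | ∃ i ≤ m - 1, y = xK ^ i}.Finite := by
        refine (Finset.finite_toSet ((Finset.range m).image fun i => xK ^ i)).subset ?_
        rintro y ⟨i, hi, rfl⟩
        simp only [Finset.coe_image, Set.mem_image, Finset.mem_coe, Finset.mem_range]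
        exact ⟨i, by omega, rfl⟩
      exact Submodule.fg_span hfin
    · intro y hy
      refine Submodule.span_induction ?_ ?_ ?_ ?_ hy
      · rintro _ ⟨i, hi, rfl⟩
        rw [smul_eq_mul, ← pow_succ']
        rcases Nat.lt_or_ge (i + 1) m with h6 | h6
        · exact Submodule.subset_span ⟨i + 1, by omega, rfl⟩
        · have : i + 1 = m := by omega
          rw [this]; exact hxm
      · rw [smul_zero]; exact Submodule.zero_mem _
      · intro y₁ y₂ _ _ h₁ h₂; rw [smul_add]; exact Submodule.add_mem _ h₁ h₂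
      · intro r y₁ _ h₁; rw [smul_comm]; exact Submodule.smul_mem _ _ h₁
  · intro hx
    have h3 : IsIntegral A (algebraMap (FractionRing A) R x) :=
      hx.map (IsScalarTower.toAlgHom A (FractionRing A) R)
    exact h3.tower_top

end Groth.Agent.S4590
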