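import Groth.Statements.S4592
import Mathlib.CategoryTheory.Limits.ConcreteCategory.Basic

set_option autoImplicit false
universe u
open CategoryTheory CategoryTheory.Limits
open EGA41

namespace Groth.Agent.S4592

/-- A filtered colimit of commutative rings is the zero ring if and only if some ring of the system is
zero (the clause that all later rings of the system are then zero is not restated). -/
theorem result {I : Type u} [SmallCategory I] [IsFiltered I]
    (D : I ⥤ CommRingCat.{u}) (c : Cocone D) (hc : IsColimit c) :
    Subsingleton c.pt ↔ ∃ i : I, Subsingleton (D.obj i) := by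
  constructor
  · intro h
    obtain ⟨i⟩ := IsFiltered.nonempty (C := I)
    have h01 : (c.ι.app i) (1 : D.obj i) = (c.ι.app i) (0 : D.obj i) :=
      @Subsingleton.elim c.pt h _ _
    obtain ⟨k, f, g, hk⟩ := Concrete.isColimit_exists_of_rep_eq D hc (1 : D.obj i) (0 : D.obj i) h01
    refine ⟨k, ?_⟩
    have h10 : (1 : D.obj k) = 0 := by
      have e1 : (D.map f) (1 : D.obj i) = 1 := map_one (D.map f).hom
      have e2 : (D.map g) (0 : D.obj i) = 0 := map_zero (D.map g).hom
      rw [← e1, ← e2]; exact hk
    exact subsingleton_of_zero_eq_one h10.symm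
  · rintro ⟨i, hi⟩
    have h10 : (1 : c.pt) = 0 := by
      have e1 : (c.ι.app i) (1 : D.obj i) = 1 := map_one (c.ι.app i).hom
      have e2 : (c.ι.app i) (0 : D.obj i) = 0 := map_zero (c.ι.app i).hom
      rw [← e1, ← e2, Subsingleton.elim (1 : D.obj i) 0]
    exact subsingleton_of_zero_eq_one h10.symm

end Groth.Agent.S4592
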