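import Groth.Statements.S4593
import Mathlib.Algebra.Category.Ring.FilteredColimits
import Mathlib.CategoryTheory.Limits.ConcreteCategory.Basic
import Mathlib.RingTheory.Spectrum.Prime.RingHom

set_option autoImplicit false
universe u
open CategoryTheory CategoryTheory.Limits AlgebraicGeometry
open EGA41

namespace Groth.Agent.S4593

section aux

variable {I : Type u} [SmallCategory I] [IsFiltered I]
  (B : CommRingCat.{u}) (D : I ⥤ CommRingCat.{u}) (s : (Functor.const I).obj B ⟶ D) (c : Cocone D)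

omit [IsFiltered I] in
theorem s_comp_map {i j : I} (g : i ⟶ j) : s.app i ≫ D.map g = s.app j := by
  have := s.naturality g
  simp only [Functor.const_obj_obj, Functor.const_obj_map, Category.id_comp] at this
  exact this.symm

theorem s_comp_ι (i j : I) : s.app i ≫ c.ι.app i = s.app j ≫ c.ι.app j := by
  have h : ∀ {a b : I} (g : a ⟶ b), s.app a ≫ c.ι.app a = s.app b ≫ c.ι.app b := by
    intro a b g
    rw [← s_comp_map B D s g, Category.assoc, c.w]
  rw [h (IsFiltered.leftToMax i j), h (IsFiltered.rightToMax i j)]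

omit [IsFiltered I] in
theorem map_mem {i j : I} (g : i ⟶ j) (p : Ideal B) (y : D.obj i)
    (hy : y ∈ p.map (s.app i).hom) : (D.map g).hom y ∈ p.map (s.app j).hom := by
  have h1 : (D.map g).hom y ∈ (p.map (s.app i).hom).map (D.map g).hom := Ideal.mem_map_of_mem _ hy
  rw [Ideal.map_map] at h1
  have h2 : (D.map g).hom.comp (s.app i).hom = (s.app j).hom := by
    rw [← CommRingCat.hom_comp, s_comp_map B D s g]
  rwa [h2] at h1

theorem exists_rep_mem (hc : IsColimit c) (i₀ : I) (p : Ideal B) (x : c.pt)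
    (hx : x ∈ p.map (s.app i₀ ≫ c.ι.app i₀).hom) :
    ∃ (i : I) (y : D.obj i), (c.ι.app i).hom y = x ∧ y ∈ p.map (s.app i).hom := by
  unfold Ideal.map at hx
  induction hx using Submodule.span_induction with
  | mem x hx =>
    obtain ⟨a, ha, rfl⟩ := hx
    exact ⟨i₀, (s.app i₀).hom a, rfl, Ideal.mem_map_of_mem _ ha⟩
  | zero => exact ⟨i₀, 0, map_zero _, Ideal.zero_mem _⟩
  | add x₁ x₂ _ _ h₁ h₂ =>
    obtain ⟨i, y₁, rfl, hy₁⟩ := h₁
    obtain ⟨j, y₂, rfl, hy₂⟩ := h₂
    refine ⟨IsFiltered.max i j, (D.map (IsFiltered.leftToMax i j)).hom y₁ +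
      (D.map (IsFiltered.rightToMax i j)).hom y₂, ?_, ?_⟩
    · rw [map_add]
      congr 1
      · rw [← RingHom.comp_apply, ← CommRingCat.hom_comp, c.w]
      · rw [← RingHom.comp_apply, ← CommRingCat.hom_comp, c.w]
    · exact Ideal.add_mem _ (map_mem B D s _ p y₁ hy₁) (map_mem B D s _ p y₂ hy₂)
  | smul a x _ h =>
    obtain ⟨i, y, rfl, hy⟩ := h
    obtain ⟨j, z, hz⟩ := Concrete.isColimit_exists_rep D hc a
    have hz' : (c.ι.app j).hom z = a := hz
    subst hz'
    refine ⟨IsFiltered.max i j, (D.map (IsFiltered.rightToMax i j)).hom z *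
      (D.map (IsFiltered.leftToMax i j)).hom y, ?_, ?_⟩
    · rw [map_mul, smul_eq_mul]
      congr 1
      · rw [← RingHom.comp_apply, ← CommRingCat.hom_comp, c.w]
      · rw [← RingHom.comp_apply, ← CommRingCat.hom_comp, c.w]
    · exact Ideal.mul_mem_left _ _ (map_mem B D s _ p y hy)

theorem comap_map_eq (hc : IsColimit c) (i₀ : I) (p : Ideal B)
    (h : ∀ i : I, (p.map (s.app i).hom).comap (s.app i).hom = p) :
    (p.map (s.app i₀ ≫ c.ι.app i₀).hom).comap (s.app i₀ ≫ c.ι.app i₀).hom = p := by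
  apply le_antisymm _ Ideal.le_comap_map
  intro b hb
  rw [Ideal.mem_comap] at hb
  obtain ⟨i, y, hy, hym⟩ := exists_rep_mem B D s c hc i₀ p _ hb
  have h1 : (c.ι.app i).hom y = (c.ι.app i).hom ((s.app i).hom b) := by
    rw [hy, s_comp_ι B D s c i₀ i]
    rfl
  obtain ⟨k, f, g, hfg⟩ := Concrete.isColimit_exists_of_rep_eq D hc y ((s.app i).hom b) h1
  have hfg' : (D.map f).hom y = (D.map g).hom ((s.app i).hom b) := hfg
  have h2 : (D.map g).hom ((s.app i).hom b) = (s.app k).hom b := by
    rw [← RingHom.comp_apply, ← CommRingCat.hom_comp, s_comp_map B D s g]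
  have h3 : (s.app k).hom b ∈ p.map (s.app k).hom := by
    rw [← h2, ← hfg']
    exact map_mem B D s f p y hym
  rw [← h k]
  exact h3

end aux

/-- Let B be a ring, (A_i) a filtered system of B-algebras with colimit A. The image of Spec A in Spec B
is the intersection of the images of the Spec A_i. -/
theorem result {I : Type u} [SmallCategory I] [IsFiltered I]
    (B : CommRingCat.{u}) (D : I ⥤ CommRingCat.{u}) (s : (Functor.const I).obj B ⟶ D) (c : Cocone D)
    (hc : IsColimit c) (i₀ : I) :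
    Set.range (Spec.map (s.app i₀ ≫ c.ι.app i₀)).base = ⋂ i : I, Set.range (Spec.map (s.app i)).base := by
  have key : ∀ {R S : CommRingCat.{u}} (φ : R ⟶ S) (p : PrimeSpectrum R),
      p ∈ Set.range (Spec.map φ).base ↔ (p.asIdeal.map φ.hom).comap φ.hom = p.asIdeal := by
    intro R S φ p
    exact PrimeSpectrum.mem_range_comap_iff (f := φ.hom) (p := p)
  ext p
  rw [Set.mem_iInter]
  constructor
  · intro hp i
    rw [s_comp_ι B D s c i₀ i] at hp
    obtain ⟨q, rfl⟩ := hp
    refine ⟨(Spec.map (c.ι.app i)).base q, ?_⟩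
    rw [Spec.map_comp]
    rfl
  · intro hp
    have hp' : ∀ i, ((show PrimeSpectrum B from p).asIdeal.map (s.app i).hom).comap (s.app i).hom =
        (show PrimeSpectrum B from p).asIdeal := fun i => (key (s.app i) p).mp (hp i)
    exact (key _ p).mpr (comap_map_eq B D s c hc i₀ _ hp')

end Groth.Agent.S4593
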