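import Groth.Statements.S4594
import Mathlib

set_option autoImplicit false
universe u
open TensorProduct KaehlerDifferential
open EGA41

namespace Groth.Agent.S4594


lemma exists_factor {R X Y Z : Type*} [CommRing R] [AddCommGroup X] [AddCommGroup Y]
    [AddCommGroup Z] [Module R X] [Module R Y] [Module R Z]
    (π : X →ₗ[R] Y) (hπ : Function.Surjective π) (F : X →ₗ[R] Z)
    (h : LinearMap.ker π ≤ LinearMap.ker F) :
    ∃ F' : Y →ₗ[R] Z, F' ∘ₗ π = F := by
  refine ⟨(Submodule.liftQ (LinearMap.ker π) F h) ∘ₗ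
    (LinearMap.quotKerEquivOfSurjective π hπ).symm.toLinearMap, ?_⟩
  ext x
  have : (LinearMap.quotKerEquivOfSurjective π hπ).symm (π x) = Submodule.Quotient.mk x := by
    rw [LinearEquiv.symm_apply_eq]; rfl
  simp [this]

section aux
variable {Λ A C : Type u} [CommRing Λ] [CommRing A] [CommRing C] [Algebra Λ A] [Algebra A C]
  [Algebra Λ C] [IsScalarTower Λ A C]

lemma core (hsurj : Function.Surjective (algebraMap A C)) (L : Ideal A)
    (hL : (RingHom.ker (algebraMap A C)) ^ 2 ≤ L)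
    (f : A →ₐ[Λ] A ⧸ L) (hfK : ∀ x ∈ RingHom.ker (algebraMap A C), f x = 0)
    (hf : ∀ a, f a - Ideal.Quotient.mk L a ∈
      (RingHom.ker (algebraMap A C)).map (Ideal.Quotient.mk L))
    (x : A) (hx : x ∈ RingHom.ker (algebraMap A C))
    (hdx : (1 : C) ⊗ₜ[A] KaehlerDifferential.D Λ A x = 0) : x ∈ L := by
  classical
  have hN : ((RingHom.ker (algebraMap A C)).map (Ideal.Quotient.mk L)) ^ 2 = ⊥ := by
    rw [← Ideal.map_pow, eq_bot_iff]
    calc Ideal.map (Ideal.Quotient.mk L) ((RingHom.ker (algebraMap A C)) ^ 2)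
        ≤ Ideal.map (Ideal.Quotient.mk L) L := Ideal.map_mono hL
      _ = ⊥ := Ideal.map_quotient_self L
  have he : (Ideal.Quotient.mkₐ Λ ((RingHom.ker (algebraMap A C)).map (Ideal.Quotient.mk L))).comp f
      = IsScalarTower.toAlgHom Λ A ((A ⧸ L) ⧸ (RingHom.ker (algebraMap A C)).map (Ideal.Quotient.mk L)) := by
    ext a
    show Ideal.Quotient.mk _ (f a) = Ideal.Quotient.mk _ (Ideal.Quotient.mk L a)
    rw [Ideal.Quotient.eq]
    exact hf a
  have hd : ∃ d : Derivation Λ A ↥((RingHom.ker (algebraMap A C)).map (Ideal.Quotient.mk L)),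
      ∀ a, ((d a : ↥((RingHom.ker (algebraMap A C)).map (Ideal.Quotient.mk L))) : A ⧸ L)
        = f a - Ideal.Quotient.mk L a :=
    ⟨derivationToSquareZeroOfLift _ hN f he, fun a => rfl⟩
  obtain ⟨d, hd⟩ := hd
  -- the bilinear map
  obtain ⟨β, hβ⟩ := exists_factor (Algebra.linearMap A C) hsurj
    ((LinearMap.lsmul A (Ω[A⁄Λ] →ₗ[A] ↥((RingHom.ker (algebraMap A C)).map (Ideal.Quotient.mk L)))).flip
      d.liftKaehlerDifferential) (by
      intro k hk
      rw [LinearMap.mem_ker] at hk ⊢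
      refine LinearMap.ext fun ω => ?_
      apply Subtype.ext
      show ((k • d.liftKaehlerDifferential ω :
        ↥((RingHom.ker (algebraMap A C)).map (Ideal.Quotient.mk L))) : A ⧸ L) = 0
      rw [Submodule.coe_smul_of_tower, Algebra.smul_def]
      have h1 : algebraMap A (A ⧸ L) k ∈ (RingHom.ker (algebraMap A C)).map (Ideal.Quotient.mk L) :=
        Ideal.mem_map_of_mem _ hk
      have h2 : algebraMap A (A ⧸ L) k * (d.liftKaehlerDifferential ω).1 ∈
          ((RingHom.ker (algebraMap A C)).map (Ideal.Quotient.mk L)) ^ 2 := by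
        rw [pow_two]
        exact Ideal.mul_mem_mul h1 (d.liftKaehlerDifferential ω).2
      rw [hN] at h2
      exact h2)
  have hβ1 : β 1 = d.liftKaehlerDifferential := by
    have := congrArg (fun f => f (1 : A)) hβ
    simp only [LinearMap.comp_apply, Algebra.linearMap_apply, map_one, LinearMap.flip_apply,
      LinearMap.lsmul_apply, one_smul] at this
    exact this
  have h3 : (TensorProduct.lift β) ((1 : C) ⊗ₜ[A] KaehlerDifferential.D Λ A x) = d x := by
    rw [TensorProduct.lift.tmul, hβ1, Derivation.liftKaehlerDifferential_comp_D]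
  rw [hdx, map_zero] at h3
  have h4 := hd x
  rw [← h3, hfK x hx, zero_sub, Submodule.coe_zero] at h4
  rw [← Ideal.Quotient.eq_zero_iff_mem]
  exact neg_eq_zero.mp h4.symm

lemma exists_f (hsurj : Function.Surjective (algebraMap A C)) (p : ℕ)
    [Algebra (Λ ⧸ Ideal.span {(p : Λ)}) C] [IsScalarTower Λ (Λ ⧸ Ideal.span {(p : Λ)}) C]
    [Algebra.FormallySmooth (Λ ⧸ Ideal.span {(p : Λ)}) C]
    (L : Ideal A) (hpL : (p : A) ∈ L) (hL : (RingHom.ker (algebraMap A C)) ^ 2 ≤ L) :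
    ∃ f : A →ₐ[Λ] A ⧸ L, (∀ x ∈ RingHom.ker (algebraMap A C), f x = 0) ∧
      ∀ a, f a - Ideal.Quotient.mk L a ∈ (RingHom.ker (algebraMap A C)).map (Ideal.Quotient.mk L) := by
  classical
  have hN : ((RingHom.ker (algebraMap A C)).map (Ideal.Quotient.mk L)) ^ 2 = ⊥ := by
    rw [← Ideal.map_pow, eq_bot_iff]
    calc Ideal.map (Ideal.Quotient.mk L) ((RingHom.ker (algebraMap A C)) ^ 2)
        ≤ Ideal.map (Ideal.Quotient.mk L) L := Ideal.map_mono hL
      _ = ⊥ := Ideal.map_quotient_self L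
  have hΛp : ∀ l ∈ Ideal.span {(p : Λ)}, algebraMap Λ (A ⧸ L) l = 0 := by
    intro l hl
    have h1 : Ideal.span {(p : Λ)} ≤ RingHom.ker (algebraMap Λ (A ⧸ L)) := by
      rw [Ideal.span_le, Set.singleton_subset_iff, SetLike.mem_coe, RingHom.mem_ker, map_natCast]
      have : ((p : ℕ) : A ⧸ L) = Ideal.Quotient.mk L (p : A) := (map_natCast _ p).symm
      rw [this, Ideal.Quotient.eq_zero_iff_mem]
      exact hpL
    exact h1 hl
  letI : Algebra (Λ ⧸ Ideal.span {(p : Λ)}) (A ⧸ L) :=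
    (Ideal.Quotient.lift (Ideal.span {(p : Λ)}) (algebraMap Λ (A ⧸ L)) hΛp).toAlgebra
  haveI : IsScalarTower Λ (Λ ⧸ Ideal.span {(p : Λ)}) (A ⧸ L) :=
    IsScalarTower.of_algebraMap_eq (fun l => rfl)
  -- the map ψ
  have hg : RingHom.ker (algebraMap A C) ≤ RingHom.ker
      ((Ideal.Quotient.mk ((RingHom.ker (algebraMap A C)).map (Ideal.Quotient.mk L))).comp
        (Ideal.Quotient.mk L)) := fun x hx => by
    rw [RingHom.mem_ker]
    show Ideal.Quotient.mk _ (Ideal.Quotient.mk L x) = 0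
    exact Ideal.Quotient.eq_zero_iff_mem.mpr (Ideal.mem_map_of_mem _ hx)
  have hψ₀ : ∃ ψ₀ : C →+* (A ⧸ L) ⧸ (RingHom.ker (algebraMap A C)).map (Ideal.Quotient.mk L),
      ∀ a, ψ₀ (algebraMap A C a) = Ideal.Quotient.mk _ (Ideal.Quotient.mk L a) :=
    ⟨RingHom.liftOfSurjective (algebraMap A C) hsurj ⟨_, hg⟩,
      fun a => RingHom.liftOfRightInverse_comp_apply _ _ _ ⟨_, hg⟩ a⟩
  obtain ⟨ψ₀, hψ₀⟩ := hψ₀
  have hψ : ∃ ψ : C →ₐ[Λ ⧸ Ideal.span {(p : Λ)}]
      (A ⧸ L) ⧸ (RingHom.ker (algebraMap A C)).map (Ideal.Quotient.mk L), ∀ c, ψ c = ψ₀ c := by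
    refine ⟨{ ψ₀ with commutes' := ?_ }, fun c => rfl⟩
    intro r
    obtain ⟨l, rfl⟩ := Ideal.Quotient.mk_surjective r
    show ψ₀ (algebraMap (Λ ⧸ Ideal.span {(p : Λ)}) C (algebraMap Λ (Λ ⧸ Ideal.span {(p : Λ)}) l)) = _
    rw [← IsScalarTower.algebraMap_apply Λ (Λ ⧸ Ideal.span {(p : Λ)}) C,
      IsScalarTower.algebraMap_apply Λ A C, hψ₀]
    rfl
  obtain ⟨ψ, hψ⟩ := hψ
  obtain ⟨σ, hσ⟩ := Algebra.FormallySmooth.exists_lift
    ((RingHom.ker (algebraMap A C)).map (Ideal.Quotient.mk L)) ⟨2, hN⟩ ψ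
  have hσ' : ∀ c, Ideal.Quotient.mk _ (σ c) = ψ c := fun c => congrArg (fun f => f c) hσ
  refine ⟨(σ.restrictScalars Λ).comp (IsScalarTower.toAlgHom Λ A C), ?_, ?_⟩
  · intro x hx
    show σ (algebraMap A C x) = 0
    rw [RingHom.mem_ker.mp hx, map_zero]
  · intro a
    show σ (algebraMap A C a) - _ ∈ _
    rw [← Ideal.Quotient.eq, hσ', hψ, hψ₀]

end aux

/-- Let Λ be a ring, A → C a surjection of Λ-algebras with kernel J, C of characteristic p > 0, and π
the class of p·1 in J/J². If C is formally smooth over Λ/pΛ for the discrete topologies, then 0 →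
(J/J²)/Cπ → Ω_{A/Λ} ⊗_A C → Ω_{C/Λ} → 0 is exact: the kernel of the conormal map J/J² → Ω_{A/Λ} ⊗_A
C is the span of π, and the base-change map to Ω_{C/Λ} is surjective with kernel the image of J/J². -/
theorem result {Λ A C : Type u} [CommRing Λ] [CommRing A]
    [CommRing C] [Algebra Λ A] [Algebra A C] [Algebra Λ C] [IsScalarTower Λ A C]
    (hsurj : Function.Surjective (algebraMap A C)) (p : ℕ) [Fact p.Prime] [CharP C p]
    [Algebra (Λ ⧸ Ideal.span {(p : Λ)}) C] [IsScalarTower Λ (Λ ⧸ Ideal.span {(p : Λ)}) C]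
    [Algebra.FormallySmooth (Λ ⧸ Ideal.span {(p : Λ)}) C]
    (hp : (p : A) ∈ RingHom.ker (algebraMap A C)) :
    LinearMap.ker (kerCotangentToTensor Λ A C) =
        Submodule.span A {(RingHom.ker (algebraMap A C)).toCotangent ⟨(p : A), hp⟩} ∧
      LinearMap.range (kerCotangentToTensor Λ A C) = (LinearMap.ker (mapBaseChange Λ A C)).restrictScalars A ∧
      Function.Surjective (mapBaseChange Λ A C) := by
  refine ⟨?_, KaehlerDifferential.range_kerCotangentToTensor Λ A C hsurj,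
    KaehlerDifferential.mapBaseChange_surjective Λ A C hsurj⟩
  apply le_antisymm
  · intro ξ hξ
    obtain ⟨x, rfl⟩ := Ideal.toCotangent_surjective _ ξ
    rw [LinearMap.mem_ker, KaehlerDifferential.kerCotangentToTensor_toCotangent] at hξ
    have hpL : (p : A) ∈ Ideal.span {(p : A)} ⊔ (RingHom.ker (algebraMap A C)) ^ 2 :=
      le_sup_left (a := Ideal.span {(p : A)}) (Ideal.subset_span rfl)
    obtain ⟨f, hf1, hf2⟩ := exists_f (Λ := Λ) hsurj p
      (Ideal.span {(p : A)} ⊔ (RingHom.ker (algebraMap A C)) ^ 2) hpL le_sup_right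
    have hxL := core hsurj _ le_sup_right f hf1 hf2 x.1 x.2 hξ
    obtain ⟨y, hy, z, hz, hyz⟩ := Submodule.mem_sup.mp hxL
    obtain ⟨a, rfl⟩ := Ideal.mem_span_singleton'.mp hy
    have hzK : z ∈ RingHom.ker (algebraMap A C) := Ideal.pow_le_self two_ne_zero hz
    have h1 : x = a • (⟨(p : A), hp⟩ : ↥(RingHom.ker (algebraMap A C))) + ⟨z, hzK⟩ := by
      apply Subtype.ext
      rw [← hyz]
      rfl
    rw [h1, map_add, map_smul, (Ideal.toCotangent_eq_zero _ ⟨z, hzK⟩).mpr hz, add_zero]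
    exact Submodule.smul_mem _ _ (Submodule.subset_span rfl)
  · rw [Submodule.span_le, Set.singleton_subset_iff, SetLike.mem_coe, LinearMap.mem_ker,
      KaehlerDifferential.kerCotangentToTensor_toCotangent]
    show (1 : C) ⊗ₜ[A] KaehlerDifferential.D Λ A ((p : ℕ) : A) = 0
    rw [Derivation.map_natCast, TensorProduct.tmul_zero]

end Groth.Agent.S4594
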