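import Groth.Statements.S4595
import Mathlib
import Groth.Agent.Lib.Helper19.PPoly5

set_option autoImplicit false
universe u
open TensorProduct IsLocalRing
open EGA41

namespace Groth.Agent.S4595

-- MARK


/-- Let A be an Artinian local ring of characteristic p > 0 with maximal ideal m of square zero and
residue field K, f_1, …, f_r ∈ A, and B = A[T_1, …, T_r]/(T_1^p − f_1, …, T_r^p − f_r). Then B is
local, and dim_K m = dim_{K'}(m'/m'²) (m', K' the maximal ideal and residue field of B) if and only
if the d f_i ⊗ 1 are linearly independent in Ω_A ⊗_A K. -/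
theorem result {A : Type u} [CommRing A]
    [IsArtinianRing A] [IsLocalRing A] (hm : maximalIdeal A ^ 2 = ⊥) (p : ℕ) [Fact p.Prime] [CharP A p]
    {r : ℕ} (f : Fin r → A) :
    let B := MvPolynomial (Fin r) A ⧸ Ideal.span (Set.range fun i => MvPolynomial.X i ^ p - MvPolynomial.C (f i))
    ∃ _ : IsLocalRing B,
      (Module.finrank (ResidueField A) (CotangentSpace A) = Module.finrank (ResidueField B) (CotangentSpace B) ↔
        LinearIndependent (ResidueField A) (fun i => (1 : ResidueField A) ⊗ₜ[A] KaehlerDifferential.D ℤ A (f i))) := by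
    classical
  intro B
  open Groth.Agent.Lib.helper19.PPoly Groth.Agent.Lib.helper19.FSDiff in
  have hK : CharP (ResidueField A) p := charP_residueField A p
  have hp2 : (p : A) ∈ maximalIdeal A ^ 2 := by
    rw [CharP.cast_eq_zero A p]; exact Ideal.zero_mem _
  let P : Fin r → Polynomial A := fun i => Polynomial.X ^ p - Polynomial.C (f i)
  have hP : ∀ i, P i = Polynomial.X ^ p + (p : Polynomial A) * (0 : Polynomial A) -
      Polynomial.C (f i) := fun i => by
    show Polynomial.X ^ p - Polynomial.C (f i) = _
    rw [mul_zero, add_zero]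
  have hmon : ∀ i, (P i).Monic := fun i =>
    Polynomial.monic_X_pow_sub_C (f i) (Fact.out : p.Prime).ne_zero
  obtain ⟨hloc, -, -, hiff⟩ := main p r A hp2 P (fun _ => 0) f hP hmon
  have hI : Ideal.span (Set.range fun i => MvPolynomial.X i ^ p - MvPolynomial.C (f i)) =
      qIdeal A P := by
    unfold qIdeal
    congr 2
    funext i
    simp [P, MvPolynomial.algebraMap_eq]
  suffices h : ∀ (I : Ideal (MvPolynomial (Fin r) A)), I = qIdeal A P →
      ∃ _ : IsLocalRing (MvPolynomial (Fin r) A ⧸ I),
        (Module.finrank (ResidueField A) (CotangentSpace A) =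
          Module.finrank (ResidueField (MvPolynomial (Fin r) A ⧸ I))
            (CotangentSpace (MvPolynomial (Fin r) A ⧸ I)) ↔
        LinearIndependent (ResidueField A)
          (fun i => (1 : ResidueField A) ⊗ₜ[A] KaehlerDifferential.D ℤ A (f i))) from h _ hI
  rintro _ rfl
  refine ⟨hloc, ?_⟩
  rw [linearIndependent_iff_dInd, ← hiff,
    ← spanFinrank_maximalIdeal_eq_finrank_cotangentSpace A,
    ← spanFinrank_maximalIdeal_eq_finrank_cotangentSpace (Q A P)]

end Groth.Agent.S4595
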