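import Groth.Statements.S4596
-- import your own Groth.Agent.* helpers here

set_option autoImplicit false
universe u
open AlgebraicGeometry CategoryTheory
open EGA41

namespace Groth.Agent.S4596

/-- If g ∘ f is quasi-compact and f is surjective then g is quasi-compact. -/
theorem result {X Y Z : Scheme.{u}} (f : X ⟶ Y) (g : Y ⟶ Z)
    [QuasiCompact (f ≫ g)] [Surjective f] : QuasiCompact g := by
  refine ⟨fun U hU hU' => ?_⟩
  have h1 : IsCompact ((f ≫ g) ⁻¹' U) :=
    QuasiCompact.isCompact_preimage (f := f ≫ g) U hU hU'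
  have h2 : (f ≫ g) ⁻¹' U = f ⁻¹' (g ⁻¹' U) := by
    ext x
    simp
  rw [h2] at h1
  have := h1.image f.continuous
  rwa [Set.image_preimage_eq _ f.surjective] at this

end Groth.Agent.S4596
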