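import Groth.Statements.S4597
import Mathlib.AlgebraicGeometry.PullbackCarrier

set_option autoImplicit false
universe u
open AlgebraicGeometry CategoryTheory CategoryTheory.Limits
open EGA41

namespace Groth.Agent.S4597

/-- Let f : X → Y, g : Y' → Y and f' : X ×_Y Y' → Y' the base change. If g is quasi-compact surjective
and f' quasi-compact, f is quasi-compact; if g is surjective and f' dominant, f is dominant. -/
theorem result {X Y Y' : Scheme.{u}} (f : X ⟶ Y)
    (g : Y' ⟶ Y) [Surjective g] :
    (QuasiCompact g → QuasiCompact (pullback.snd f g) → QuasiCompact f) ∧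
    (IsDominant (pullback.snd f g) → IsDominant f) := by
  constructor
  · intro hg hsnd
    constructor
    intro V hVo hVc
    have h1 : IsCompact (g ⁻¹' V) := hg.isCompact_preimage V hVo hVc
    have h2 : IsCompact ((pullback.snd f g) ⁻¹' (g ⁻¹' V)) :=
      hsnd.isCompact_preimage _ (hVo.preimage g.continuous) h1
    have h3 : f ⁻¹' V = (pullback.fst f g) '' ((pullback.snd f g) ⁻¹' (g ⁻¹' V)) := by
      ext x
      constructor
      · intro hx
        obtain ⟨y', hy'⟩ := g.surjective (f x)
        obtain ⟨z, hz1, hz2⟩ := Scheme.Pullback.exists_preimage_pullback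
          (f := f) (g := g) x y' hy'.symm
        refine ⟨z, ?_, hz1⟩
        simp only [Set.mem_preimage, hz2, hy']
        exact hx
      · rintro ⟨z, hz, rfl⟩
        simp only [Set.mem_preimage] at hz ⊢
        rw [← Scheme.Hom.comp_apply, pullback.condition, Scheme.Hom.comp_apply]
        exact hz
    rw [h3]
    exact h2.image (pullback.fst f g).continuous
  · intro h
    have : IsDominant (pullback.snd f g ≫ g) := inferInstance
    rw [← pullback.condition] at this
    exact IsDominant.of_comp (pullback.fst f g) f

end Groth.Agent.S4597
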