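import Groth.Statements.S4598
import Mathlib.AlgebraicGeometry.Morphisms.QuasiSeparated
import Mathlib.AlgebraicGeometry.Morphisms.UnderlyingMap
import Mathlib.CategoryTheory.MorphismProperty.Descent
import Mathlib.AlgebraicGeometry.PullbackCarrier

set_option autoImplicit false
universe u
open AlgebraicGeometry CategoryTheory CategoryTheory.Limits
open EGA41

namespace Groth.Agent.S4598

theorem quasiCompact_descendsAlong :
    MorphismProperty.DescendsAlong @QuasiCompact (@Surjective ⊓ @QuasiCompact) := by
  apply MorphismProperty.DescendsAlong.mk'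
  intro X Y Z f g _ hf hfst
  obtain ⟨hfs, hfq⟩ := hf
  have hfs' : Surjective f := hfs
  have hfq' : QuasiCompact f := hfq
  have hfst' : QuasiCompact (pullback.fst f g) := hfst
  have hsnd : Surjective (pullback.snd f g) :=
    MorphismProperty.pullback_snd (P := @Surjective) f g hfs
  refine ⟨fun U hU hUc => ?_⟩
  have h1 : IsCompact (f ⁻¹' U) := hfq'.isCompact_preimage U hU hUc
  have h2 : IsCompact ((pullback.fst f g) ⁻¹' (f ⁻¹' U)) :=
    hfst'.isCompact_preimage _ (hU.preimage f.continuous) h1
  have h3 : (pullback.fst f g) ⁻¹' (f ⁻¹' U) = (pullback.snd f g) ⁻¹' (g ⁻¹' U) := by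
    ext x
    simp only [Set.mem_preimage]
    rw [← Scheme.Hom.comp_apply, ← Scheme.Hom.comp_apply, pullback.condition]
  rw [h3] at h2
  have h4 := h2.image (pullback.snd f g).continuous
  rwa [Set.image_preimage_eq _ (pullback.snd f g).surjective] at h4

/-- If g : Y' → Y is quasi-compact and surjective and the base change X ×_Y Y' → Y' of f : X → Y is
quasi-separated, then f is quasi-separated. -/
theorem result {X Y Y' : Scheme.{u}} (f : X ⟶ Y)
    (g : Y' ⟶ Y) [QuasiCompact g] [Surjective g] [QuasiSeparated (pullback.snd f g)] :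
    QuasiSeparated f := by
  have := quasiCompact_descendsAlong.{u}
  have h1 : MorphismProperty.RespectsIso (@QuasiCompact : MorphismProperty Scheme.{u}) :=
    inferInstance
  have h2 : (@Surjective ⊓ @QuasiCompact : MorphismProperty Scheme.{u}).IsStableUnderBaseChange :=
    inferInstance
  have h : (MorphismProperty.diagonal @QuasiCompact).DescendsAlong
      (@Surjective ⊓ @QuasiCompact : MorphismProperty Scheme.{u}) := inferInstance
  rw [quasiSeparated_eq_diagonal_is_quasiCompact] at *
  exact MorphismProperty.of_pullback_snd_of_descendsAlong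
    (P := MorphismProperty.diagonal @QuasiCompact)
    (Q := (@Surjective ⊓ @QuasiCompact : MorphismProperty Scheme.{u})) (f := f) (g := g)
    ⟨‹Surjective g›, ‹QuasiCompact g›⟩ ‹_›

end Groth.Agent.S4598
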