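import Groth.Statements.S4601
import Mathlib.RingTheory.Flat.Basic
import Mathlib.RingTheory.Flat.Stability
import Mathlib.RingTheory.Flat.Localization
import Mathlib.RingTheory.Localization.FractionRing
import Mathlib.RingTheory.Nilpotent.Lemmas
import Mathlib.RingTheory.Nilpotent.Basic
import Mathlib.LinearAlgebra.Basis.VectorSpace
import Mathlib.RingTheory.TensorProduct.Basic
-- import your own Groth.Agent.* helpers here

set_option autoImplicit false
universe u
open TensorProduct
open CAlg

namespace Groth.Agent.S4601

/-- tensors of nilpotent elements are nilpotent -/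
lemma isNilpotent_of_mem_range {A B K' : Type u} [CommRing A] [CommRing B] [Algebra A B]
    [CommRing K'] [Algebra A K'] (z : K' ⊗[A] B)
    (hz : z ∈ LinearMap.range
      (((nilradical B).restrictScalars A).subtype.lTensor K')) : IsNilpotent z := by
  obtain ⟨w, rfl⟩ := hz
  induction w using TensorProduct.induction_on with
  | zero => rw [map_zero]; exact IsNilpotent.zero
  | tmul k n =>
    rw [LinearMap.lTensor_tmul]
    obtain ⟨N, hN⟩ : IsNilpotent (n : B) := n.2
    refine ⟨N, ?_⟩
    change (k ⊗ₜ[A] (n : B)) ^ N = 0
    rw [Algebra.TensorProduct.tmul_pow, hN, TensorProduct.tmul_zero]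
  | add w w' hw hw' =>
    rw [map_add]
    exact Commute.isNilpotent_add (Commute.all _ _) hw hw'


/-- Let A be a domain with fraction field K, B a Noetherian A-algebra which is flat over A, K' an
extension field of K, B₁ = B_red and R its total ring of fractions. For every sub-A-algebra A' of
K', the map (A' ⊗_A B)_red → (K' ⊗_A R)_red is injective, i.e. an element of A' ⊗_A B with nilpotent
image in K' ⊗_A R is nilpotent. -/
theorem result {A B K' R : Type u} [CommRing A]
    [IsDomain A] [CommRing B] [Algebra A B] [IsNoetherianRing B] [Module.Flat A B]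
    [Field K'] [Algebra A K'] [Algebra (FractionRing A) K'] [IsScalarTower A (FractionRing A) K']
    [CommRing R] [Algebra (B ⧸ nilradical B) R] [IsFractionRing (B ⧸ nilradical B) R]
    [Algebra B R] [IsScalarTower B (B ⧸ nilradical B) R] [Algebra A R] [IsScalarTower A B R]
    (A' : Subalgebra A K') (x : ↥A' ⊗[A] B)
    (hx : IsNilpotent (Algebra.TensorProduct.map A'.val (IsScalarTower.toAlgHom A B R) x)) :
    IsNilpotent x := by
  have hflat : Module.Flat A K' := Module.Flat.trans A (FractionRing A) K'
  -- the two maps
  let φ1 : ↥A' ⊗[A] B →ₐ[A] K' ⊗[A] B := Algebra.TensorProduct.map A'.val (AlgHom.id A B)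
  let φ2 : K' ⊗[A] B →ₐ[A] K' ⊗[A] R :=
    Algebra.TensorProduct.map (AlgHom.id A K') (IsScalarTower.toAlgHom A B R)
  have hcomp : ∀ y, Algebra.TensorProduct.map A'.val (IsScalarTower.toAlgHom A B R) y =
      φ2 (φ1 y) := by
    intro y
    induction y using TensorProduct.induction_on with
    | zero => simp
    | tmul a b => simp [φ1, φ2]
    | add y y' hy hy' => rw [map_add, map_add, map_add, hy, hy']
  have hinj : Function.Injective φ1 := by
    have : (φ1 : ↥A' ⊗[A] B → K' ⊗[A] B) = (A'.val.toLinearMap.rTensor B) := by
      funext y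
      induction y using TensorProduct.induction_on with
      | zero => simp
      | tmul a b => simp [φ1]
      | add y y' hy hy' => rw [map_add, map_add, hy, hy']
    rw [this]
    exact Module.Flat.rTensor_preserves_injective_linearMap _ Subtype.val_injective
  -- the kernel of `B → R` is the nilradical
  let g : B →ₗ[A] R := (IsScalarTower.toAlgHom A B R).toLinearMap
  have hker : ∀ b : B, g b = 0 ↔ b ∈ nilradical B := by
    intro b
    change algebraMap B R b = 0 ↔ _
    rw [IsScalarTower.algebraMap_apply B (B ⧸ nilradical B) R,
      map_eq_zero_iff _ (IsFractionRing.injective (B ⧸ nilradical B) R)]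
    exact Ideal.Quotient.eq_zero_iff_mem
  have hexact : Function.Exact ((nilradical B).restrictScalars A).subtype g := by
    intro b
    rw [hker]
    constructor
    · intro hb
      exact ⟨⟨b, hb⟩, rfl⟩
    · rintro ⟨n, rfl⟩
      exact n.2
  have hexact' := Module.Flat.lTensor_exact K' hexact
  have hφ2 : ∀ z, φ2 z = g.lTensor K' z := by
    intro z
    induction z using TensorProduct.induction_on with
    | zero => simp
    | tmul a b => simp [φ2, g]
    | add y y' hy hy' => rw [map_add, map_add, hy, hy']
  have hnil : ∀ z, φ2 z = 0 → IsNilpotent z := by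
    intro z hz
    rw [hφ2] at hz
    exact isNilpotent_of_mem_range z ((hexact' z).1 hz)
  obtain ⟨n, hn⟩ := hx
  rw [← map_pow, hcomp] at hn
  obtain ⟨m, hm⟩ := hnil _ hn
  rw [← map_pow, ← pow_mul] at hm
  exact ⟨n * m, hinj (hm.trans (map_zero φ1).symm)⟩

end Groth.Agent.S4601
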