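import Groth.Statements.S4602
import Mathlib
import Groth.Agent.S2035
import Groth.Agent.S0564
import Groth.Agent.Lib.Helper17.GenFib0

set_option autoImplicit false
set_option linter.style.haveILetI false
universe u
open IsLocalRing
open EGA41

namespace Groth.Agent.S4602

/-- Let A be a regular local ring with fraction field of characteristic zero, B a domain containing A
and module-finite over it, with fraction field L, n a prime of B, C = B_n, q a prime of the
completion Ĉ with q ∩ C = 0. Then Ĉ_q is formally smooth over L for the adic topology of its maximal
ideal. (Case (ii) of the published statement, in characteristic p with a suitable filtered family of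
subrings, is not stated.) -/
theorem result
    {A B : Type u} [CommRing A] [IsRegularLocalRing A] [CharZero A] [CommRing B] [IsDomain B] [Algebra A B]
    [Module.Finite A B] (hinj : Function.Injective (algebraMap A B)) (n : Ideal B) [n.IsPrime]
    (q : Ideal (AdicCompletion (maximalIdeal (Localization.AtPrime n)) (Localization.AtPrime n))) [q.IsPrime]
    (hq : q.comap (algebraMap (Localization.AtPrime n)
      (AdicCompletion (maximalIdeal (Localization.AtPrime n)) (Localization.AtPrime n))) = ⊥)
    [Algebra B (Localization.AtPrime q)]
    [IsScalarTower B (AdicCompletion (maximalIdeal (Localization.AtPrime n)) (Localization.AtPrime n))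
      (Localization.AtPrime q)]
    [Algebra (FractionRing B) (Localization.AtPrime q)] [IsScalarTower B (FractionRing B) (Localization.AtPrime q)] :
    CAlgX.IsAdicFormallySmooth (FractionRing B) (Localization.AtPrime q) (maximalIdeal (Localization.AtPrime q)) := by
  classical
  set p : Ideal A := n.comap (algebraMap A B) with hp
  haveI : n.LiesOver p := ⟨rfl⟩
  letI algA'C : Algebra (Localization.AtPrime p) (Localization.AtPrime n) :=
    Localization.AtPrime.algebraOfLiesOver p n
  haveI : IsRegularLocalRing (Localization.AtPrime p) := Groth.Agent.S0564.result A p
  haveI : IsDomain A := Function.Injective.isDomain (algebraMap A B) hinj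
  haveI : IsNoetherianRing B := IsNoetherianRing.of_finite A B
  haveI : IsNoetherianRing (Localization.AtPrime n) :=
    IsLocalization.isNoetherianRing n.primeCompl _ inferInstance
  haveI : Algebra.EssFiniteType A (Localization.AtPrime n) :=
    Algebra.EssFiniteType.comp A B _
  haveI : Algebra.EssFiniteType (Localization.AtPrime p) (Localization.AtPrime n) :=
    Algebra.EssFiniteType.of_comp A _ _
  haveI : Algebra.QuasiFinite (Localization.AtPrime p) (Localization.AtPrime n) :=
    Algebra.QuasiFinite.of_restrictScalars A _ _
  have hfib : Module.Finite (maximalIdeal (Localization.AtPrime p)).ResidueField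
      ((maximalIdeal (Localization.AtPrime p)).Fiber (Localization.AtPrime n)) := inferInstance
  -- injectivity
  have hinjBC : Function.Injective (algebraMap B (Localization.AtPrime n)) :=
    IsLocalization.injective _ n.primeCompl_le_nonZeroDivisors
  have hinj' : Function.Injective
      (algebraMap (Localization.AtPrime p) (Localization.AtPrime n)) := by
    rw [injective_iff_map_eq_zero]
    intro x hx
    obtain ⟨a, s, rfl⟩ := IsLocalization.exists_mk'_eq p.primeCompl x
    have h1 : algebraMap (Localization.AtPrime p) (Localization.AtPrime n)
        (algebraMap A (Localization.AtPrime p) a) = 0 := by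
      rw [← IsLocalization.mk'_spec (Localization.AtPrime p) a s, map_mul, hx, zero_mul]
    rw [← IsScalarTower.algebraMap_apply, IsScalarTower.algebraMap_apply A B] at h1
    have h3 : algebraMap A B a = 0 := hinjBC (by rw [h1, map_zero])
    have h2 : a = 0 := hinj (by rw [h3, map_zero])
    rw [h2, IsLocalization.mk'_zero]
  haveI : CharZero (Localization.AtPrime p) :=
    charZero_of_injective_algebraMap (IsLocalization.injective _ p.primeCompl_le_nonZeroDivisors)
  haveI hloc : IsRegularLocalRing (Localization.AtPrime q) :=
    Groth.Agent.Lib.helper17.GenFib0.isRegularLocalRing_atPrime_completion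
      (Localization.AtPrime p) (Localization.AtPrime n) hinj' hfib q hq
  haveI : CharZero (FractionRing B) :=
    charZero_of_injective_algebraMap (R := A)
      ((IsFractionRing.injective B (FractionRing B)).comp hinj)
  exact (Groth.Agent.S2035.result (k := FractionRing B) (A := Localization.AtPrime q)).mp hloc

end Groth.Agent.S4602
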