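import Groth.Statements.S4603
import Groth.Agent.Lib.Helper9.ProConsMore
import Groth.Agent.S3398
import Mathlib.AlgebraicGeometry.Morphisms.UnderlyingMap

set_option autoImplicit false
universe u
open AlgebraicGeometry CategoryTheory
open EGA41

namespace Groth.Agent.S4603

/-- In a quasi-sober T₀ space every point has a maximal generization. -/
theorem exists_maximal_generization {X : Type u} [TopologicalSpace X] [QuasiSober X] [T0Space X]
    (x : X) : ∃ x₀ : X, x₀ ⤳ x ∧ ∀ x' : X, x' ⤳ x₀ → x' = x₀ := by
  obtain ⟨x₀, hx₀⟩ := QuasiSober.sober (isIrreducible_irreducibleComponent (x := x))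
    isClosed_irreducibleComponent
  refine ⟨x₀, hx₀.specializes mem_irreducibleComponent, fun x' hx' => ?_⟩
  have hsub : irreducibleComponent x ⊆ closure ({x'} : Set X) := by
    rw [← hx₀.def]
    exact closure_minimal (Set.singleton_subset_iff.mpr (specializes_iff_mem_closure.mp hx'))
      isClosed_closure
  have heq : closure ({x'} : Set X) = irreducibleComponent x :=
    eq_irreducibleComponent isIrreducible_singleton.closure.isPreirreducible hsub
  have hx'mem : x' ∈ irreducibleComponent x := heq ▸ subset_closure rfl
  exact (hx'.antisymm (hx₀.specializes hx'mem)).eq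

/-- Let f : X → Y be quasi-compact. The following are equivalent: f is dominant; the fibre of f over
every maximal point of Y (a point with no proper generization, i.e. the generic point of an
irreducible component) is nonempty; every maximal point of Y is the image of a maximal point of X. -/
theorem result {X Y : Scheme.{u}} (f : X ⟶ Y) [QuasiCompact f] :
    [IsDominant f,
     ∀ y : Y, (∀ y' : Y, y' ⤳ y → y' = y) → y ∈ Set.range f.base,
     ∀ y : Y, (∀ y' : Y, y' ⤳ y → y' = y) → ∃ x : X, (∀ x' : X, x' ⤳ x → x' = x) ∧ f.base x = y].TFAE := by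
  tfae_have 1 → 2 := by
    intro hdom y hy
    have huniv : ProCons.IsProConstructible (Set.univ : Set X) :=
      Groth.Agent.Lib.helper9.isProConstructible_of_isClosed isClosed_univ
    have hrange : ProCons.IsProConstructible (Set.range f.base) := by
      have := Groth.Agent.S3398.result f Set.univ huniv
      rwa [Set.image_univ] at this
    have hmem : y ∈ closure (Set.range f.base) := hdom.denseRange y
    obtain ⟨y', hy'r, hy'y⟩ :=
      (Groth.Agent.Lib.helper9.mem_closure_iff_of_isProConstructible hrange y).mp hmem
    rw [← hy y' hy'y]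
    exact hy'r
  tfae_have 2 → 3 := by
    intro h y hy
    obtain ⟨x, rfl⟩ := h y hy
    obtain ⟨x₀, hx₀x, hx₀⟩ := exists_maximal_generization x
    exact ⟨x₀, hx₀, hy _ (hx₀x.map f.continuous)⟩
  tfae_have 3 → 1 := by
    intro h
    refine ⟨fun y => ?_⟩
    obtain ⟨y₀, hy₀y, hy₀⟩ := exists_maximal_generization y
    obtain ⟨x, -, hx⟩ := h y₀ hy₀
    have : y₀ ∈ closure (Set.range f.base) := subset_closure ⟨x, hx⟩
    exact hy₀y.mem_closed isClosed_closure this
  tfae_finish

end Groth.Agent.S4603
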