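import Groth.Statements.S4604
import Mathlib

set_option autoImplicit false
universe u
open IsLocalRing
open EGA41

namespace Groth.Agent.S4604


open MvPolynomial IsLocalRing

noncomputable def FF {A : Type u} [CommRing A] {r : ℕ} (d : Fin r → ℕ) (c : Fin r → ℕ → A) :
    Fin r → MvPolynomial (Fin r) A := fun i =>
  MvPolynomial.X i ^ d i + (Finset.range (d i)).sum fun k => MvPolynomial.C (c i k) * MvPolynomial.X i ^ k

section
variable {A : Type u} [CommRing A] [IsLocalRing A] {r : ℕ} (d : Fin r → ℕ) (c : Fin r → ℕ → A)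

lemma cc (hd : ∀ i, 2 ≤ d i) (i : Fin r) : constantCoeff (FF d c i) = c i 0 := by
  have h0 : d i ≠ 0 := by have := hd i; omega
  show constantCoeff (X i ^ d i + (Finset.range (d i)).sum fun k => C (c i k) * X i ^ k) = c i 0
  rw [map_add, map_pow, constantCoeff_X, zero_pow h0, zero_add, map_sum]
  rw [Finset.sum_eq_single 0]
  · rw [map_mul, constantCoeff_C, map_pow, constantCoeff_X, pow_zero, mul_one]
  · intro k _ hk
    rw [map_mul, map_pow, constantCoeff_X, zero_pow hk, mul_zero]
  · intro h
    exfalso; apply h; rw [Finset.mem_range]; have := hd i; omega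

lemma rel (i : Fin r) :
    (Ideal.Quotient.mk (Ideal.span (Set.range (FF d c))) (X i)) ^ d i +
      (Finset.range (d i)).sum (fun k => Ideal.Quotient.mk (Ideal.span (Set.range (FF d c))) (C (c i k)) *
        (Ideal.Quotient.mk (Ideal.span (Set.range (FF d c))) (X i)) ^ k) = 0 := by
  have h : Ideal.Quotient.mk (Ideal.span (Set.range (FF d c))) (FF d c i) = 0 :=
    Ideal.Quotient.eq_zero_iff_mem.mpr (Ideal.subset_span ⟨i, rfl⟩)
  rw [← h]
  show _ = Ideal.Quotient.mk (Ideal.span (Set.range (FF d c)))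
    (X i ^ d i + (Finset.range (d i)).sum fun k => C (c i k) * X i ^ k)
  rw [map_add, map_pow, map_sum]
  simp only [map_mul, map_pow]

lemma mm (hm : maximalIdeal A ^ 2 = ⊥) {a b : A} (ha : a ∈ maximalIdeal A) (hb : b ∈ maximalIdeal A) :
    a * b = 0 := by
  have h : a * b ∈ maximalIdeal A ^ 2 := by rw [pow_two]; exact Ideal.mul_mem_mul ha hb
  rw [hm] at h
  exact Ideal.mem_bot.mp h

lemma nilC (hm : maximalIdeal A ^ 2 = ⊥) {a b : A} (ha : a ∈ maximalIdeal A) (hb : b ∈ maximalIdeal A) :
    Ideal.Quotient.mk (Ideal.span (Set.range (FF d c))) (C a) *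
      Ideal.Quotient.mk (Ideal.span (Set.range (FF d c))) (C b) = 0 := by
  rw [← map_mul, ← C_mul, mm hm ha hb, C_0, map_zero]

lemma nilX (hm : maximalIdeal A ^ 2 = ⊥) (hc : ∀ i k, c i k ∈ maximalIdeal A) (i : Fin r) :
    IsNilpotent (Ideal.Quotient.mk (Ideal.span (Set.range (FF d c))) (X i)) := by
  have hr := rel d c i
  obtain ⟨t, ht⟩ : ∃ t, t = Ideal.Quotient.mk (Ideal.span (Set.range (FF d c))) (X i) := ⟨_, rfl⟩
  rw [← ht] at hr ⊢
  obtain ⟨y, hy⟩ : ∃ y, y = (Finset.range (d i)).sum
      (fun k => Ideal.Quotient.mk (Ideal.span (Set.range (FF d c))) (C (c i k)) * t ^ k) := ⟨_, rfl⟩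
  rw [← hy] at hr
  have hyy : y * y = 0 := by
    rw [hy, Finset.sum_mul_sum]
    apply Finset.sum_eq_zero; intro k _
    apply Finset.sum_eq_zero; intro l _
    rw [mul_mul_mul_comm, nilC d c hm (hc i k) (hc i l), zero_mul]
  refine ⟨d i * 2, ?_⟩
  have e : (-y) ^ 2 = y * y := by ring
  rw [pow_mul, eq_neg_of_add_eq_zero_left hr, e, hyy]

lemma nil0 (hm : maximalIdeal A ^ 2 = ⊥) (hc : ∀ i k, c i k ∈ maximalIdeal A)
    (p : MvPolynomial (Fin r) A) (hp : constantCoeff p = 0) :
    Ideal.Quotient.mk (Ideal.span (Set.range (FF d c))) p ∈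
      nilradical (MvPolynomial (Fin r) A ⧸ Ideal.span (Set.range (FF d c))) := by
  have h1 : p ∈ Ideal.span (X '' (Set.univ : Set (Fin r))) := by
    rw [mem_ideal_span_X_image]
    intro m hm'
    by_contra hcon
    push_neg at hcon
    have h0 : m = 0 := by
      ext i; exact hcon i (Set.mem_univ i)
    subst h0
    rw [mem_support_iff] at hm'
    exact hm' hp
  have h2 : Ideal.span (X '' (Set.univ : Set (Fin r))) ≤
      Ideal.comap (Ideal.Quotient.mk (Ideal.span (Set.range (FF d c))))
        (nilradical (MvPolynomial (Fin r) A ⧸ Ideal.span (Set.range (FF d c)))) := by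
    rw [Ideal.span_le]
    rintro _ ⟨i, _, rfl⟩
    exact mem_nilradical.mpr (nilX d c hm hc i)
  exact h2 h1

lemma unit_of (hm : maximalIdeal A ^ 2 = ⊥) (hc : ∀ i k, c i k ∈ maximalIdeal A)
    (p : MvPolynomial (Fin r) A) (hu : IsUnit (constantCoeff p)) :
    IsUnit (Ideal.Quotient.mk (Ideal.span (Set.range (FF d c))) p) := by
  have h1 : Ideal.Quotient.mk (Ideal.span (Set.range (FF d c))) p =
      Ideal.Quotient.mk _ (C (constantCoeff p)) + Ideal.Quotient.mk _ (p - C (constantCoeff p)) := by
    rw [← map_add]; congr 1; ring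
  rw [h1]
  apply IsNilpotent.isUnit_add_left_of_commute
  · exact mem_nilradical.mp (nil0 d c hm hc _ (by rw [map_sub, constantCoeff_C, sub_self]))
  · exact (hu.map C).map (Ideal.Quotient.mk _)
  · exact Commute.all _ _

theorem main (hm : maximalIdeal A ^ 2 = ⊥) (hd : ∀ i, 2 ≤ d i) (hc : ∀ i k, c i k ∈ maximalIdeal A) :
    ∃ _ : IsLocalRing (MvPolynomial (Fin r) A ⧸ Ideal.span (Set.range (FF d c))),
      Function.Surjective ((Ideal.Quotient.mk (maximalIdeal (MvPolynomial (Fin r) A ⧸ Ideal.span (Set.range (FF d c))))).comp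
        (algebraMap A (MvPolynomial (Fin r) A ⧸ Ideal.span (Set.range (FF d c))))) ∧
      maximalIdeal A ⊓ Ideal.comap (algebraMap A (MvPolynomial (Fin r) A ⧸ Ideal.span (Set.range (FF d c))))
          (maximalIdeal (MvPolynomial (Fin r) A ⧸ Ideal.span (Set.range (FF d c))) ^ 2) =
        Ideal.span (Set.range fun i => c i 0) := by
  have hg0 : ∀ a ∈ Ideal.span (Set.range (FF d c)),
      ((residue A).comp (constantCoeff (R := A) (σ := Fin r))) a = 0 := by
    intro a ha
    have : Ideal.span (Set.range (FF d c)) ≤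
        RingHom.ker ((residue A).comp (constantCoeff (R := A) (σ := Fin r))) := by
      rw [Ideal.span_le]
      rintro _ ⟨i, rfl⟩
      show (residue A) (constantCoeff (FF d c i)) = 0
      rw [cc d c hd i]
      exact (residue_eq_zero_iff _).mpr (hc i 0)
    exact this ha
  obtain ⟨g, hg⟩ : ∃ g : (MvPolynomial (Fin r) A ⧸ Ideal.span (Set.range (FF d c))) →+* ResidueField A,
      ∀ p, g (Ideal.Quotient.mk _ p) = residue A (constantCoeff p) :=
    ⟨Ideal.Quotient.lift _ _ hg0, fun p => Ideal.Quotient.lift_mk _ _ _⟩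
  haveI : IsLocalHom g := ⟨by
    intro x hx
    obtain ⟨p, rfl⟩ := Ideal.Quotient.mk_surjective x
    rw [hg] at hx
    exact unit_of d c hm hc p (isUnit_of_map_unit (residue A) _ hx)⟩
  have hloc : IsLocalRing (MvPolynomial (Fin r) A ⧸ Ideal.span (Set.range (FF d c))) :=
    RingHom.domain_isLocalRing g
  refine ⟨hloc, ?_, ?_⟩
  · intro y
    obtain ⟨x, rfl⟩ := Ideal.Quotient.mk_surjective y
    obtain ⟨p, rfl⟩ := Ideal.Quotient.mk_surjective x
    refine ⟨constantCoeff p, ?_⟩
    rw [RingHom.comp_apply, Ideal.Quotient.eq]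
    have hn : Ideal.Quotient.mk (Ideal.span (Set.range (FF d c))) (C (constantCoeff p) - p) ∈ nilradical _ :=
      nil0 d c hm hc _ (by rw [map_sub, constantCoeff_C, sub_self])
    have h1 : algebraMap A (MvPolynomial (Fin r) A ⧸ Ideal.span (Set.range (FF d c))) (constantCoeff p) -
        Ideal.Quotient.mk _ p = Ideal.Quotient.mk _ (C (constantCoeff p) - p) := by
      rw [map_sub]; rfl
    rw [h1]
    exact nilradical_le_prime _ hn
  · have ht : ∀ i, Ideal.Quotient.mk (Ideal.span (Set.range (FF d c))) (X i) ∈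
        maximalIdeal (MvPolynomial (Fin r) A ⧸ Ideal.span (Set.range (FF d c))) := fun i =>
      nilradical_le_prime _ (mem_nilradical.mpr (nilX d c hm hc i))
    have hcm : ∀ i k, Ideal.Quotient.mk (Ideal.span (Set.range (FF d c))) (C (c i k)) ∈
        maximalIdeal (MvPolynomial (Fin r) A ⧸ Ideal.span (Set.range (FF d c))) := by
      intro i k
      apply nilradical_le_prime
      rw [mem_nilradical]
      exact ⟨2, by rw [pow_two]; exact nilC d c hm (hc i k) (hc i k)⟩
    apply le_antisymm
    · intro a ha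
      obtain ⟨ha1, ha2⟩ := Ideal.mem_inf.mp ha
      obtain ⟨J, hJ⟩ : ∃ J : Ideal A, J = Ideal.span (Set.range fun i => c i 0) := ⟨_, rfl⟩
      rw [← hJ]
      have he0 : ∀ q ∈ Ideal.span (Set.range (FF d c)),
          ((Ideal.Quotient.mk J).comp (constantCoeff (R := A) (σ := Fin r))) q = 0 := by
        intro q hq
        have : Ideal.span (Set.range (FF d c)) ≤
            RingHom.ker ((Ideal.Quotient.mk J).comp (constantCoeff (R := A) (σ := Fin r))) := by
          rw [Ideal.span_le]
          rintro _ ⟨i, rfl⟩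
          show (Ideal.Quotient.mk J) (constantCoeff (FF d c i)) = 0
          rw [cc d c hd i, hJ]
          exact Ideal.Quotient.eq_zero_iff_mem.mpr (Ideal.subset_span ⟨i, rfl⟩)
        exact this hq
      obtain ⟨ε, hε⟩ : ∃ ε : (MvPolynomial (Fin r) A ⧸ Ideal.span (Set.range (FF d c))) →+* (A ⧸ J),
          ∀ p, ε (Ideal.Quotient.mk _ p) = Ideal.Quotient.mk J (constantCoeff p) :=
        ⟨Ideal.Quotient.lift _ _ he0, fun p => Ideal.Quotient.lift_mk _ _ _⟩
      have h1 : maximalIdeal (MvPolynomial (Fin r) A ⧸ Ideal.span (Set.range (FF d c))) ≤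
          Ideal.comap ε (Ideal.map (Ideal.Quotient.mk J) (maximalIdeal A)) := by
        intro x hx
        obtain ⟨p, rfl⟩ := Ideal.Quotient.mk_surjective x
        rw [Ideal.mem_comap, hε]
        apply Ideal.mem_map_of_mem
        by_contra hcon
        have hu : IsUnit (constantCoeff p) := by
          by_contra h; exact hcon ((mem_maximalIdeal _).mpr h)
        exact ((mem_maximalIdeal _).mp hx) (unit_of d c hm hc p hu)
      have h2 : maximalIdeal (MvPolynomial (Fin r) A ⧸ Ideal.span (Set.range (FF d c))) ^ 2 ≤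
          Ideal.comap ε ((Ideal.map (Ideal.Quotient.mk J) (maximalIdeal A)) ^ 2) :=
        (Ideal.pow_right_mono h1 2).trans (Ideal.le_comap_pow ε 2)
      have h3 : (Ideal.map (Ideal.Quotient.mk J) (maximalIdeal A)) ^ 2 = ⊥ := by
        rw [← Ideal.map_pow, hm, Ideal.map_bot]
      have h4 := h2 (Ideal.mem_comap.mp ha2)
      rw [Ideal.mem_comap, h3, Ideal.mem_bot] at h4
      have h5 : ε (algebraMap A _ a) = Ideal.Quotient.mk J a := by
        have : algebraMap A (MvPolynomial (Fin r) A ⧸ Ideal.span (Set.range (FF d c))) a =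
            Ideal.Quotient.mk _ (C a) := rfl
        rw [this, hε, constantCoeff_C]
      rw [h5] at h4
      exact Ideal.Quotient.eq_zero_iff_mem.mp h4
    · rw [Ideal.span_le]
      rintro _ ⟨i, rfl⟩
      refine Ideal.mem_inf.mpr ⟨hc i 0, ?_⟩
      show algebraMap A (MvPolynomial (Fin r) A ⧸ Ideal.span (Set.range (FF d c))) (c i 0) ∈
        maximalIdeal (MvPolynomial (Fin r) A ⧸ Ideal.span (Set.range (FF d c))) ^ 2
      obtain ⟨d', hd'⟩ : ∃ d', d i = d' + 2 := ⟨d i - 2, by have := hd i; omega⟩
      have hr := rel d c i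
      rw [hd', Finset.sum_range_succ', pow_zero, mul_one] at hr
      have e1 : algebraMap A (MvPolynomial (Fin r) A ⧸ Ideal.span (Set.range (FF d c))) (c i 0) =
          -((Ideal.Quotient.mk (Ideal.span (Set.range (FF d c))) (X i)) ^ (d' + 2) +
            (Finset.range (d' + 1)).sum (fun k => Ideal.Quotient.mk (Ideal.span (Set.range (FF d c))) (C (c i (k + 1))) *
              (Ideal.Quotient.mk (Ideal.span (Set.range (FF d c))) (X i)) ^ (k + 1))) := by
        have : algebraMap A (MvPolynomial (Fin r) A ⧸ Ideal.span (Set.range (FF d c))) (c i 0) =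
            Ideal.Quotient.mk _ (C (c i 0)) := rfl
        rw [this]
        linear_combination hr
      rw [e1]
      apply Submodule.neg_mem
      apply Ideal.add_mem
      · rw [pow_add]
        exact Ideal.mul_mem_left _ _ (Ideal.pow_mem_pow (ht i) 2)
      · apply Ideal.sum_mem
        intro k _
        have e2 : Ideal.Quotient.mk (Ideal.span (Set.range (FF d c))) (C (c i (k + 1))) *
              (Ideal.Quotient.mk (Ideal.span (Set.range (FF d c))) (X i)) ^ (k + 1) =
            (Ideal.Quotient.mk (Ideal.span (Set.range (FF d c))) (X i)) ^ k *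
              (Ideal.Quotient.mk (Ideal.span (Set.range (FF d c))) (C (c i (k + 1))) *
                Ideal.Quotient.mk (Ideal.span (Set.range (FF d c))) (X i)) := by ring
        rw [e2, pow_two]
        exact Ideal.mul_mem_left _ _ (Ideal.mul_mem_mul (hcm i _) (ht i))

end


/-- (i) and the kernel statement of (ii): let A be a local ring with maximal ideal m of square zero,
F_i(T_i) = T_i^{d_i} + Σ_{k<d_i} c_{ik} T_i^k (1 ≤ i ≤ r) monic of degrees d_i ≥ 2 with non-leading
coefficients in m, and A' = A[T_1, …, T_r]/(F_1, …, F_r). Then A' is local with residue field K, and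
the kernel of m → m'/m'² (m' the maximal ideal of A') is the ideal generated by the constant terms
c_{i0}. -/
theorem result {A : Type u} [CommRing A] [IsLocalRing A]
    (hm : maximalIdeal A ^ 2 = ⊥) {r : ℕ} (d : Fin r → ℕ) (hd : ∀ i, 2 ≤ d i) (c : Fin r → ℕ → A)
    (hc : ∀ i k, c i k ∈ maximalIdeal A) :
    let F : Fin r → MvPolynomial (Fin r) A := fun i =>
      MvPolynomial.X i ^ d i + (Finset.range (d i)).sum fun k => MvPolynomial.C (c i k) * MvPolynomial.X i ^ k
    ∃ _ : IsLocalRing (MvPolynomial (Fin r) A ⧸ Ideal.span (Set.range F)),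
      Function.Surjective ((Ideal.Quotient.mk (maximalIdeal (MvPolynomial (Fin r) A ⧸ Ideal.span (Set.range F)))).comp
        (algebraMap A (MvPolynomial (Fin r) A ⧸ Ideal.span (Set.range F)))) ∧
      maximalIdeal A ⊓ Ideal.comap (algebraMap A (MvPolynomial (Fin r) A ⧸ Ideal.span (Set.range F)))
          (maximalIdeal (MvPolynomial (Fin r) A ⧸ Ideal.span (Set.range F)) ^ 2) =
        Ideal.span (Set.range fun i => c i 0) := by
  intro F
  exact main d c hm hd hc


end Groth.Agent.S4604
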