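import Groth.Statements.S4605
import Mathlib.RingTheory.Ideal.Quotient.Nilpotent
import Mathlib.FieldTheory.IsAlgClosed.AlgebraicClosure
import Mathlib.Algebra.CharP.Basic
import Mathlib.Algebra.CharP.Algebra
import Mathlib.Algebra.CharP.Frobenius
import Mathlib.Algebra.CharP.Lemmas
-- import your own Groth.Agent.* helpers here

set_option autoImplicit false
universe u
open IsLocalRing
open EGA41

namespace Groth.Agent.S4605

open MvPolynomial

section

variable {A : Type u} [CommRing A] [IsLocalRing A] (p : ℕ) [Fact p.Prime]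
  [CharP (ResidueField A) p] {ι : Type u} (c : ι → Fin p → A) (f : ι → A)

/-- the defining polynomials -/
noncomputable def FF : ι → MvPolynomial ι A := fun i =>
  X i ^ p + (p : MvPolynomial ι A) * (Finset.univ.sum fun j : Fin p =>
    if (j : ℕ) = 0 then 0 else C (c i j) * X i ^ (p - (j : ℕ))) - C (f i)

/-- the quotient ring -/
abbrev Q : Type u := MvPolynomial ι A ⧸ Ideal.span (Set.range (FF p c f))

/-- the classes of the variables -/
noncomputable def tt (i : ι) : Q p c f := Ideal.Quotient.mk _ (X i)

/-- the extension of the maximal ideal -/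
noncomputable def II : Ideal (Q p c f) := (maximalIdeal A).map (algebraMap A (Q p c f))

include p in
omit [Fact p.Prime] in
lemma p_mem : (p : A) ∈ maximalIdeal A := by
  rw [← residue_eq_zero_iff, map_natCast]
  exact CharP.cast_eq_zero _ _

lemma II_sq (hm : maximalIdeal A ^ 2 = ⊥) : II p c f ^ 2 = ⊥ := by
  unfold II
  rw [← Ideal.map_pow, hm, Ideal.map_bot]

lemma algebraMap_mem {a : A} (ha : a ∈ maximalIdeal A) : algebraMap A (Q p c f) a ∈ II p c f :=
  Ideal.mem_map_of_mem _ ha

lemma p_mul_mem (x : Q p c f) : (p : Q p c f) * x ∈ II p c f := by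
  have : (p : Q p c f) = algebraMap A (Q p c f) (p : A) := by rw [map_natCast]
  rw [this]
  exact Ideal.mul_mem_right _ _ (algebraMap_mem p c f (p_mem p))

lemma rel (i : ι) : tt p c f i ^ p = algebraMap A (Q p c f) (f i) -
    (p : Q p c f) * (Finset.univ.sum fun j : Fin p =>
      if (j : ℕ) = 0 then 0 else algebraMap A (Q p c f) (c i j) * tt p c f i ^ (p - (j : ℕ))) := by
  have h0 : Ideal.Quotient.mk (Ideal.span (Set.range (FF p c f)))
      (X i ^ p + (p : MvPolynomial ι A) * (Finset.univ.sum fun j : Fin p =>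
        if (j : ℕ) = 0 then 0 else C (c i j) * X i ^ (p - (j : ℕ))) - C (f i)) = 0 :=
    Ideal.Quotient.eq_zero_iff_mem.2 (Ideal.subset_span ⟨i, rfl⟩)
  rw [map_sub, map_add, map_mul, map_pow, map_natCast, map_sum] at h0
  have h1 : ∀ j : Fin p, Ideal.Quotient.mk (Ideal.span (Set.range (FF p c f)))
      (if (j : ℕ) = 0 then 0 else C (c i j) * X i ^ (p - (j : ℕ))) =
      if (j : ℕ) = 0 then 0 else algebraMap A (Q p c f) (c i j) * tt p c f i ^ (p - (j : ℕ)) := by
    intro j
    split_ifs
    · rw [map_zero]
    · rw [map_mul, map_pow]; rfl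
  simp only [h1] at h0
  have h2 : Ideal.Quotient.mk (Ideal.span (Set.range (FF p c f))) (C (f i)) =
      algebraMap A (Q p c f) (f i) := rfl
  have h3 : Ideal.Quotient.mk (Ideal.span (Set.range (FF p c f))) (X i) = tt p c f i := rfl
  rw [h2, h3] at h0
  linear_combination h0

lemma tt_pow_sub_mem (i : ι) : tt p c f i ^ p - algebraMap A (Q p c f) (f i) ∈ II p c f := by
  rw [rel, sub_sub_cancel_left]
  exact neg_mem (p_mul_mem p c f _)

/-- monomials in the classes of the variables -/
noncomputable def mon (e : ι →₀ ℕ) : Q p c f := e.prod fun i n => tt p c f i ^ n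

lemma mon_self (e : ι →₀ ℕ) (i : ι) :
    mon p c f e = tt p c f i ^ (e i) * mon p c f (e.erase i) :=
  (Finsupp.mul_prod_erase' e i (fun i n => tt p c f i ^ n) (fun _ => pow_zero _)).symm

lemma mon_update (e : ι →₀ ℕ) (i : ι) (k : ℕ) :
    mon p c f (e.update i k) = tt p c f i ^ k * mon p c f (e.erase i) := by
  classical
  rw [mon_self p c f (e.update i k) i, Finsupp.erase_update_eq_erase, Finsupp.coe_update,
    Function.update_self]

lemma mon_mul_tt (e : ι →₀ ℕ) (i : ι) :
    mon p c f e * tt p c f i = tt p c f i ^ (e i + 1) * mon p c f (e.erase i) := by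
  rw [mon_self p c f e i, pow_succ]
  ring

omit [IsLocalRing A] [Fact p.Prime] [CharP (ResidueField A) p] in
lemma update_mem {e : ι →₀ ℕ} (he : ∀ j, e j < p) (i : ι) {k : ℕ} (hk : k < p) :
    ∀ j, (e.update i k) j < p := by
  classical
  intro j
  rw [Finsupp.coe_update]
  by_cases h : j = i
  · subst h
    rw [Function.update_self]
    exact hk
  · rw [Function.update_of_ne h]
    exact he j

/-- the span of the reduced monomials -/
noncomputable def SS : Submodule A (Q p c f) :=
  Submodule.span A (Set.range fun e : {e : ι →₀ ℕ // ∀ i, e i < p} => mon p c f e.1)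

lemma mon_update_mem (e : {e : ι →₀ ℕ // ∀ i, e i < p}) (i : ι) {k : ℕ} (hk : k < p) :
    tt p c f i ^ k * mon p c f (e.1.erase i) ∈ SS p c f := by
  rw [← mon_update]
  exact Submodule.subset_span ⟨⟨e.1.update i k, update_mem p e.2 i hk⟩, rfl⟩

lemma mul_tt_mem (x : Q p c f) (hx : x ∈ SS p c f) (i : ι) : x * tt p c f i ∈ SS p c f := by
  have hp0 : 0 < p := (Fact.out : p.Prime).pos
  unfold SS at hx
  induction hx using Submodule.span_induction with
  | mem x hx =>
    obtain ⟨e, rfl⟩ := hx
    change mon p c f e.1 * tt p c f i ∈ SS p c f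
    rw [mon_mul_tt]
    by_cases h : e.1 i + 1 < p
    · exact mon_update_mem p c f e i h
    · have hep : e.1 i + 1 = p := by
        have := e.2 i
        omega
      rw [hep, rel, sub_mul]
      refine sub_mem ?_ ?_
      · have := mon_update_mem p c f e i hp0
        rw [pow_zero, one_mul] at this
        have h3 : algebraMap A (Q p c f) (f i) * mon p c f (e.1.erase i) =
            f i • mon p c f (e.1.erase i) := (Algebra.smul_def _ _).symm
        rw [h3]
        exact Submodule.smul_mem _ _ this
      · rw [mul_assoc, Finset.sum_mul, Finset.mul_sum]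
        refine Submodule.sum_mem _ (fun j _ => ?_)
        split_ifs with hj
        · rw [zero_mul, mul_zero]
          exact Submodule.zero_mem _
        · have hjp : p - (j : ℕ) < p := by
            have := j.2
            omega
          have h1 := mon_update_mem p c f e i hjp
          have h2 : (p : Q p c f) * (algebraMap A (Q p c f) (c i j) * tt p c f i ^ (p - (j : ℕ)) *
              mon p c f (e.1.erase i)) =
              ((p : A) * c i j) • (tt p c f i ^ (p - (j : ℕ)) * mon p c f (e.1.erase i)) := by
            have h3 : ((p : A) * c i j) • (tt p c f i ^ (p - (j : ℕ)) * mon p c f (e.1.erase i)) =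
                algebraMap A (Q p c f) ((p : A) * c i j) *
                  (tt p c f i ^ (p - (j : ℕ)) * mon p c f (e.1.erase i)) :=
              Algebra.smul_def ((p : A) * c i j)
                (tt p c f i ^ (p - (j : ℕ)) * mon p c f (e.1.erase i))
            rw [h3, map_mul, map_natCast]
            ring
          rw [h2]
          exact Submodule.smul_mem _ _ h1
  | zero =>
    rw [zero_mul]
    exact Submodule.zero_mem _
  | add x y _ _ hx hy =>
    rw [add_mul]
    exact Submodule.add_mem _ hx hy
  | smul a x _ hx =>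
    rw [smul_mul_assoc]
    exact Submodule.smul_mem _ _ hx

lemma SS_eq_top : SS p c f = ⊤ := by
  have hp0 : 0 < p := (Fact.out : p.Prime).pos
  rw [eq_top_iff]
  rintro x -
  obtain ⟨P, rfl⟩ := Ideal.Quotient.mk_surjective x
  induction P using MvPolynomial.induction_on with
  | C a =>
    have h1 : Ideal.Quotient.mk (Ideal.span (Set.range (FF p c f))) (C a) =
        a • mon p c f (0 : ι →₀ ℕ) := by
      unfold mon
      rw [Finsupp.prod_zero_index]
      have h3 : a • (1 : Q p c f) = algebraMap A (Q p c f) a * 1 :=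
        Algebra.smul_def a (1 : Q p c f)
      rw [h3, mul_one]
      rfl
    rw [h1]
    exact Submodule.smul_mem _ _ (Submodule.subset_span ⟨⟨0, fun _ => hp0⟩, rfl⟩)
  | add P P' hP hP' =>
    rw [map_add]
    exact Submodule.add_mem _ hP hP'
  | mul_X P i hP =>
    rw [map_mul]
    exact mul_tt_mem p c f _ hP i

lemma II_ne_top : II p c f ≠ ⊤ := by
  classical
  have hp0 : 0 < p := (Fact.out : p.Prime).pos
  let ψ : A →+* AlgebraicClosure (ResidueField A) :=
    (algebraMap (ResidueField A) (AlgebraicClosure (ResidueField A))).comp (residue A)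
  have hr : ∀ i, ∃ z : AlgebraicClosure (ResidueField A), z ^ p = ψ (f i) :=
    fun i => IsAlgClosed.exists_pow_nat_eq _ hp0
  choose r hr using hr
  have : CharP (AlgebraicClosure (ResidueField A)) p :=
    charP_of_injective_algebraMap
      (algebraMap (ResidueField A) (AlgebraicClosure (ResidueField A))).injective p
  let φ0 : MvPolynomial ι A →+* AlgebraicClosure (ResidueField A) := eval₂Hom ψ r
  have hker : Ideal.span (Set.range (FF p c f)) ≤ RingHom.ker φ0 := by
    rw [Ideal.span_le]
    rintro _ ⟨i, rfl⟩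
    rw [SetLike.mem_coe, RingHom.mem_ker]
    unfold FF
    rw [map_sub, map_add, map_mul, map_pow, map_natCast, CharP.cast_eq_zero, zero_mul, add_zero]
    simp only [φ0, coe_eval₂Hom, eval₂_X, eval₂_C]
    rw [hr, sub_self]
  let φ : Q p c f →+* AlgebraicClosure (ResidueField A) :=
    Ideal.Quotient.lift _ φ0 (fun x hx => hker hx)
  intro htop
  have h1 : (1 : Q p c f) ∈ II p c f := htop ▸ Submodule.mem_top
  have hle : II p c f ≤ RingHom.ker φ := by
    unfold II
    rw [Ideal.map_le_iff_le_comap]
    intro a ha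
    rw [Ideal.mem_comap, RingHom.mem_ker]
    change φ0 (C a) = 0
    simp only [φ0, coe_eval₂Hom, eval₂_C]
    change algebraMap (ResidueField A) (AlgebraicClosure (ResidueField A)) (residue A a) = 0
    rw [(residue_eq_zero_iff a).2 ha, map_zero]
  have := hle h1
  rw [RingHom.mem_ker, map_one] at this
  exact one_ne_zero this

/-- the quotient by `m A'` -/
abbrev BB : Type u := Q p c f ⧸ II p c f

instance : Nontrivial (BB p c f) := Ideal.Quotient.nontrivial_iff.2 (II_ne_top p c f)

instance : CharP (BB p c f) p := by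
  refine (CharP.charP_iff_prime_eq_zero (R := BB p c f) (Fact.out : p.Prime)).2 ?_
  rw [← map_natCast (Ideal.Quotient.mk (II p c f))]
  refine Ideal.Quotient.eq_zero_iff_mem.2 ?_
  have := p_mul_mem p c f 1
  rwa [mul_one] at this

lemma pi_tt_pow (i : ι) : Ideal.Quotient.mk (II p c f) (tt p c f i ^ p) =
    Ideal.Quotient.mk (II p c f) (algebraMap A (Q p c f) (f i)) :=
  Ideal.Quotient.eq.2 (tt_pow_sub_mem p c f i)

lemma pi_mon_pow (e : ι →₀ ℕ) : Ideal.Quotient.mk (II p c f) (mon p c f e ^ p) =
    Ideal.Quotient.mk (II p c f) (algebraMap A (Q p c f) (e.prod fun i n => f i ^ n)) := by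
  unfold mon
  rw [Finsupp.prod, ← Finset.prod_pow, map_prod, Finsupp.prod, map_prod, map_prod]
  refine Finset.prod_congr rfl (fun i _ => ?_)
  rw [← pow_mul, mul_comm, pow_mul, map_pow, pi_tt_pow, ← map_pow, ← map_pow]

lemma pi_sum_pow (l : {e : ι →₀ ℕ // ∀ i, e i < p} →₀ A) :
    Ideal.Quotient.mk (II p c f) ((l.sum fun e a => a • mon p c f e.1) ^ p) =
      Ideal.Quotient.mk (II p c f) (algebraMap A (Q p c f)
        (l.sum fun e a => a ^ p * e.1.prod fun i n => f i ^ n)) := by
  rw [map_pow, Finsupp.sum, map_sum]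
  refine (sum_pow_char (R := BB p c f) p l.support
    (fun e => Ideal.Quotient.mk (II p c f) (l e • mon p c f e.1))).trans ?_
  rw [Finsupp.sum, map_sum, map_sum]
  refine Finset.sum_congr rfl (fun e _ => ?_)
  have h3 : l e • mon p c f e.1 = algebraMap A (Q p c f) (l e) * mon p c f e.1 :=
    Algebra.smul_def (l e) (mon p c f e.1)
  rw [h3]
  refine (map_pow (Ideal.Quotient.mk (II p c f)) _ p).symm.trans ?_
  rw [mul_pow, map_mul, pi_mon_pow, ← map_mul, ← map_pow, ← map_mul]

lemma coeff_mem_of_mem
    (hind : LinearIndependent (↥(frobenius (ResidueField A) p).fieldRange)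
      (fun e : {e : ι →₀ ℕ // ∀ i, e i < p} => EGA41.pMonomial (fun i => residue A (f i)) e.1))
    (l : {e : ι →₀ ℕ // ∀ i, e i < p} →₀ A)
    (hy : (l.sum fun e a => a ^ p * e.1.prod fun i n => f i ^ n) ∈ maximalIdeal A) :
    ∀ e, l e ∈ maximalIdeal A := by
  classical
  let g : {e : ι →₀ ℕ // ∀ i, e i < p} → ↥(frobenius (ResidueField A) p).fieldRange :=
    fun e => ⟨residue A (l e) ^ p, ⟨residue A (l e), frobenius_def _ _⟩⟩
  have hsum : ∑ e ∈ l.support, g e •
      EGA41.pMonomial (fun i => residue A (f i)) e.1 = 0 := by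
    rw [← residue_eq_zero_iff, Finsupp.sum, map_sum] at hy
    rw [← hy]
    refine Finset.sum_congr rfl (fun e _ => ?_)
    rw [map_mul, map_pow, map_finsuppProd]
    simp only [map_pow]
    rfl
  have h0 := linearIndependent_iff'.1 hind l.support g hsum
  intro e
  by_cases he : e ∈ l.support
  · have h1 := h0 e he
    have h2 : residue A (l e) ^ p = 0 := congrArg Subtype.val h1
    rw [← residue_eq_zero_iff]
    exact pow_eq_zero_iff (Fact.out : p.Prime).ne_zero |>.1 h2
  · rw [Finsupp.notMem_support_iff.1 he]
    exact zero_mem _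

lemma isUnit_of_notMem (hm : maximalIdeal A ^ 2 = ⊥)
    (hind : LinearIndependent (↥(frobenius (ResidueField A) p).fieldRange)
      (fun e : {e : ι →₀ ℕ // ∀ i, e i < p} => EGA41.pMonomial (fun i => residue A (f i)) e.1))
    (x : Q p c f) (hx : x ∉ II p c f) : IsUnit x := by
  have hxS : x ∈ SS p c f := by
    rw [SS_eq_top]
    exact Submodule.mem_top
  obtain ⟨l, hl⟩ := Finsupp.mem_span_range_iff_exists_finsupp.1 hxS
  have hy : (l.sum fun e a => a ^ p * e.1.prod fun i n => f i ^ n) ∉ maximalIdeal A := by
    intro hy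
    apply hx
    rw [← hl, Finsupp.sum]
    refine sum_mem (fun e _ => ?_)
    have h3 : l e • mon p c f e.1 = algebraMap A (Q p c f) (l e) * mon p c f e.1 :=
      Algebra.smul_def (l e) (mon p c f e.1)
    rw [h3]
    exact Ideal.mul_mem_right _ _ (algebraMap_mem p c f (coeff_mem_of_mem p f hind l hy e))
  have hyu : IsUnit (l.sum fun e a => a ^ p * e.1.prod fun i n => f i ^ n) := by
    rwa [mem_maximalIdeal, mem_nonunits_iff, not_not] at hy
  have hnil : IsNilpotent (II p c f) := ⟨2, II_sq p c f hm⟩
  have h1 : IsUnit (Ideal.Quotient.mk (II p c f) (x ^ p)) := by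
    rw [← hl, pi_sum_pow]
    exact (hyu.map (algebraMap A (Q p c f))).map (Ideal.Quotient.mk (II p c f))
  have h2 : IsUnit (x ^ p) := (IsNilpotent.isUnit_quotient_mk_iff hnil).1 h1
  exact (isUnit_pow_iff (Fact.out : p.Prime).ne_zero).1 h2

theorem main (hm : maximalIdeal A ^ 2 = ⊥)
    (hind : LinearIndependent (↥(frobenius (ResidueField A) p).fieldRange)
      (fun e : {e : ι →₀ ℕ // ∀ i, e i < p} => EGA41.pMonomial (fun i => residue A (f i)) e.1)) :
    ∃ _ : IsLocalRing (Q p c f), maximalIdeal (Q p c f) = II p c f := by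
  have hne : II p c f ≠ ⊤ := II_ne_top p c f
  have hnt : Nontrivial (Q p c f) := by
    by_contra h
    rw [not_nontrivial_iff_subsingleton] at h
    exact hne (Subsingleton.elim _ _)
  have hloc : IsLocalRing (Q p c f) := by
    refine IsLocalRing.of_isUnit_or_isUnit_one_sub_self (fun x => ?_)
    by_cases hx : x ∈ II p c f
    · right
      apply isUnit_of_notMem p c f hm hind
      intro h1
      apply hne
      rw [Ideal.eq_top_iff_one]
      have := add_mem hx h1
      rwa [add_sub_cancel] at this
    · left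
      exact isUnit_of_notMem p c f hm hind x hx
  refine ⟨hloc, ?_⟩
  ext x
  rw [mem_maximalIdeal, mem_nonunits_iff]
  constructor
  · intro hx
    by_contra h
    exact hx (isUnit_of_notMem p c f hm hind x h)
  · intro hx hu
    exact hne (Ideal.eq_top_of_isUnit_mem _ hx hu)

end


/-- Let A be a local ring with maximal ideal m of square zero and residue field K of characteristic p >
0, F_i(T_i) = T_i^p + p Σ_{k=1}^{p-1} c_{ik} T_i^{p-k} − f_i (i in a finite index set) with c_{ik},
f_i ∈ A, and suppose the residues of the f_i in K are p-independent over K^p. Then A' = A[T_i]/(F_i)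
is local with maximal ideal m A'. (The identification of the residue field with K(a_i^{1/p}) is not
restated.) -/
theorem result {A : Type u} [CommRing A]
    [IsLocalRing A] (hm : maximalIdeal A ^ 2 = ⊥) (p : ℕ) [Fact p.Prime] [CharP (ResidueField A) p]
    {ι : Type u} [Finite ι] (c : ι → Fin p → A) (f : ι → A)
    (hind : LinearIndependent (↥(frobenius (ResidueField A) p).fieldRange)
      (fun e : {e : ι →₀ ℕ // ∀ i, e i < p} => EGA41.pMonomial (fun i => residue A (f i)) e.1)) :
    let F : ι → MvPolynomial ι A := fun i =>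
      MvPolynomial.X i ^ p + (p : MvPolynomial ι A) * (Finset.univ.sum fun j : Fin p =>
        if (j : ℕ) = 0 then 0 else MvPolynomial.C (c i j) * MvPolynomial.X i ^ (p - (j : ℕ))) - MvPolynomial.C (f i)
    ∃ _ : IsLocalRing (MvPolynomial ι A ⧸ Ideal.span (Set.range F)),
      maximalIdeal (MvPolynomial ι A ⧸ Ideal.span (Set.range F)) =
        (maximalIdeal A).map (algebraMap A (MvPolynomial ι A ⧸ Ideal.span (Set.range F))) := by
  intro F
  exact main p c f hm hind

end Groth.Agent.S4605
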