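import Groth.Statements.S4607
import Mathlib

set_option autoImplicit false
universe u
open TensorProduct
open EGA41

namespace Groth.Agent.S4607

open AlgebraicGeometry CategoryTheory CategoryTheory.Limits

/-- First assertion, case of two factors: for A-algebras A' and A'' the image of Spec(A' ⊗_A A'') in
Spec A is the intersection of the images of Spec A' and Spec A''. -/
theorem result {A A' A'' : Type u} [CommRing A] [CommRing A'] [CommRing A'']
    [Algebra A A'] [Algebra A A''] :
    Set.range (PrimeSpectrum.comap (algebraMap A (A' ⊗[A] A''))) =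
      Set.range (PrimeSpectrum.comap (algebraMap A A')) ∩ Set.range (PrimeSpectrum.comap (algebraMap A A'')) := by
  ext x
  constructor
  · rintro ⟨w, rfl⟩
    refine ⟨⟨PrimeSpectrum.comap (Algebra.TensorProduct.includeLeftRingHom) w, ?_⟩,
      ⟨PrimeSpectrum.comap (Algebra.TensorProduct.includeRight : A'' →ₐ[A] A' ⊗[A] A'').toRingHom w, ?_⟩⟩
    · rw [← PrimeSpectrum.comap_comp_apply]
      congr 1
    · rw [← PrimeSpectrum.comap_comp_apply]
      have : (Algebra.TensorProduct.includeRight : A'' →ₐ[A] A' ⊗[A] A'').toRingHom.comp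
          (algebraMap A A'') = algebraMap A (A' ⊗[A] A'') :=
        AlgHom.comp_algebraMap (Algebra.TensorProduct.includeRight : A'' →ₐ[A] A' ⊗[A] A'')
      rw [this]
  · rintro ⟨⟨x', hx'⟩, ⟨x'', hx''⟩⟩
    let f : Spec (.of A') ⟶ Spec (.of A) := Spec.map (CommRingCat.ofHom (algebraMap A A'))
    let g : Spec (.of A'') ⟶ Spec (.of A) := Spec.map (CommRingCat.ofHom (algebraMap A A''))
    have h : f.base x' = g.base x'' := by
      change PrimeSpectrum.comap (algebraMap A A') x' = PrimeSpectrum.comap (algebraMap A A'') x''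
      rw [hx', hx'']
    obtain ⟨z, hz1, hz2⟩ := AlgebraicGeometry.Scheme.Pullback.exists_preimage_pullback (f := f) (g := g) x' x'' h
    let w : PrimeSpectrum (A' ⊗[A] A'') := (pullbackSpecIso A A' A'').hom.base z
    refine ⟨w, ?_⟩
    have h1 : PrimeSpectrum.comap (Algebra.TensorProduct.includeLeftRingHom) w = x' := by
      have := congrArg (fun φ => φ.base z) (pullbackSpecIso_hom_fst A A' A'')
      simp only at this
      rw [← hz1, ← this]
      rfl
    rw [← hx', ← h1, ← PrimeSpectrum.comap_comp_apply]
    congr 1
  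
end Groth.Agent.S4607
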