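import Groth.Statements.S4608
import Mathlib.AlgebraicGeometry.Limits
import Mathlib.AlgebraicGeometry.Morphisms.QuasiCompact

set_option autoImplicit false
universe u
open AlgebraicGeometry CategoryTheory CategoryTheory.Limits
open EGA41

namespace Groth.Agent.S4608

theorem isClosed_range_inl (X Y : Scheme.{u}) :
    IsClosed (Set.range (coprod.inl : X ⟶ X ⨿ Y)) := by
  have h := isCompl_range_inl_inr X Y
  have : Set.range (coprod.inl : X ⟶ X ⨿ Y) = (Set.range (coprod.inr : Y ⟶ X ⨿ Y))ᶜ :=
    h.eq_compl
  rw [this, isClosed_compl_iff]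
  exact (coprod.inr : Y ⟶ X ⨿ Y).isOpenEmbedding.isOpen_range

theorem isClosed_range_inr (X Y : Scheme.{u}) :
    IsClosed (Set.range (coprod.inr : Y ⟶ X ⨿ Y)) := by
  have h := isCompl_range_inl_inr X Y
  have : Set.range (coprod.inr : Y ⟶ X ⨿ Y) = (Set.range (coprod.inl : X ⟶ X ⨿ Y))ᶜ :=
    h.symm.eq_compl
  rw [this, isClosed_compl_iff]
  exact (coprod.inl : X ⟶ X ⨿ Y).isOpenEmbedding.isOpen_range

/-- A morphism from a disjoint union X' ⨿ X'' → Y is quasi-compact if and only if its two components
are. -/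
theorem result {X' X'' Y : Scheme.{u}} (f' : X' ⟶ Y) (f'' : X'' ⟶ Y) :
    QuasiCompact (coprod.desc f' f'') ↔ QuasiCompact f' ∧ QuasiCompact f'' := by
  constructor
  · intro h
    refine ⟨⟨fun U hU hc => ?_⟩, ⟨fun U hU hc => ?_⟩⟩
    · have h1 := h.isCompact_preimage U hU hc
      have h2 := (coprod.inl : X' ⟶ X' ⨿ X'').isOpenEmbedding.isInducing.isCompact_preimage
        (isClosed_range_inl X' X'') h1
      convert h2 using 1
      ext x
      simp only [Set.mem_preimage]
      rw [← Scheme.Hom.comp_apply, coprod.inl_desc]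
    · have h1 := h.isCompact_preimage U hU hc
      have h2 := (coprod.inr : X'' ⟶ X' ⨿ X'').isOpenEmbedding.isInducing.isCompact_preimage
        (isClosed_range_inr X' X'') h1
      convert h2 using 1
      ext x
      simp only [Set.mem_preimage]
      rw [← Scheme.Hom.comp_apply, coprod.inr_desc]
  · rintro ⟨h', h''⟩
    refine ⟨fun U hU hc => ?_⟩
    have h1 := (h'.isCompact_preimage U hU hc).image (coprod.inl : X' ⟶ X' ⨿ X'').continuous
    have h2 := (h''.isCompact_preimage U hU hc).image (coprod.inr : X'' ⟶ X' ⨿ X'').continuous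
    convert h1.union h2 using 1
    ext z
    obtain ⟨(x | x), rfl⟩ := (coprodMk X' X'').surjective z
    · rw [coprodMk_inl]
      simp only [Set.mem_preimage, Set.mem_union, Set.mem_image]
      constructor
      · intro hz
        refine Or.inl ⟨x, ?_, rfl⟩
        rwa [← Scheme.Hom.comp_apply, coprod.inl_desc] at hz
      · rintro (⟨y, hy, hxy⟩ | ⟨y, hy, hxy⟩)
        · have := (coprod.inl : X' ⟶ X' ⨿ X'').isOpenEmbedding.injective hxy
          subst this
          rwa [← Scheme.Hom.comp_apply, coprod.inl_desc]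
        · exact absurd hxy (inr_ne_inl _ _ _ _)
    · rw [coprodMk_inr]
      simp only [Set.mem_preimage, Set.mem_union, Set.mem_image]
      constructor
      · intro hz
        refine Or.inr ⟨x, ?_, rfl⟩
        rwa [← Scheme.Hom.comp_apply, coprod.inr_desc] at hz
      · rintro (⟨y, hy, hxy⟩ | ⟨y, hy, hxy⟩)
        · exact absurd hxy (inl_ne_inr _ _ _ _)
        · have := (coprod.inr : X'' ⟶ X' ⨿ X'').isOpenEmbedding.injective hxy
          subst this
          rwa [← Scheme.Hom.comp_apply, coprod.inr_desc]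

end Groth.Agent.S4608
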