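import Groth.Statements.S4609
import Mathlib.AlgebraicGeometry.Limits
import Mathlib.AlgebraicGeometry.Morphisms.QuasiSeparated

set_option autoImplicit false
universe u
open AlgebraicGeometry CategoryTheory CategoryTheory.Limits
open EGA41

namespace Groth.Agent.S4609

theorem isClosed_range_inl (X Y : Scheme.{u}) :
    IsClosed (Set.range (coprod.inl : X ⟶ X ⨿ Y)) := by
  have h := isCompl_range_inl_inr X Y
  have : Set.range (coprod.inl : X ⟶ X ⨿ Y) = (Set.range (coprod.inr : Y ⟶ X ⨿ Y))ᶜ :=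
    h.eq_compl
  rw [this, isClosed_compl_iff]
  exact (coprod.inr : Y ⟶ X ⨿ Y).isOpenEmbedding.isOpen_range

theorem isClosed_range_inr (X Y : Scheme.{u}) :
    IsClosed (Set.range (coprod.inr : Y ⟶ X ⨿ Y)) := by
  have h := isCompl_range_inl_inr X Y
  have : Set.range (coprod.inr : Y ⟶ X ⨿ Y) = (Set.range (coprod.inl : X ⟶ X ⨿ Y))ᶜ :=
    h.symm.eq_compl
  rw [this, isClosed_compl_iff]
  exact (coprod.inl : X ⟶ X ⨿ Y).isOpenEmbedding.isOpen_range

/-- A morphism from a disjoint union X' ⨿ X'' → Y is quasi-separated if and only if its two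
components are. -/
theorem result {X' X'' Y : Scheme.{u}} (f' : X' ⟶ Y) (f'' : X'' ⟶ Y) :
    QuasiSeparated (coprod.desc f' f'') ↔ QuasiSeparated f' ∧ QuasiSeparated f'' := by
  constructor
  · intro h
    constructor
    · have : QuasiSeparated (coprod.inl ≫ coprod.desc f' f'') := inferInstance
      rwa [coprod.inl_desc] at this
    · have : QuasiSeparated (coprod.inr ≫ coprod.desc f' f'') := inferInstance
      rwa [coprod.inr_desc] at this
  · rintro ⟨h', h''⟩
    rw [HasAffineProperty.eq_targetAffineLocally (P := @QuasiSeparated)]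
    intro U
    show QuasiSeparatedSpace ↥((coprod.desc f' f'') ⁻¹ᵁ U.1)
    refine (isQuasiSeparated_iff_quasiSeparatedSpace
      (((coprod.desc f' f'') ⁻¹ᵁ U.1 : (X' ⨿ X'').Opens) : Set ↥(X' ⨿ X''))
      ((coprod.desc f' f'') ⁻¹ᵁ U.1).2).mp ?_
    have hq' : IsQuasiSeparated ((f' ⁻¹ᵁ U.1 : X'.Opens) : Set X') :=
      f'.isQuasiSeparated_preimage U.2.isQuasiSeparated
    have hq'' : IsQuasiSeparated ((f'' ⁻¹ᵁ U.1 : X''.Opens) : Set X'') :=
      f''.isQuasiSeparated_preimage U.2.isQuasiSeparated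
    intro A B hA hAo hAc hB hBo hBc
    let il : X' ⟶ X' ⨿ X'' := coprod.inl
    let ir : X'' ⟶ X' ⨿ X'' := coprod.inr
    have hsubl : ∀ C : Set ↥(X' ⨿ X''), C ⊆ ((coprod.desc f' f'') ⁻¹ᵁ U.1 : (X' ⨿ X'').Opens) →
        il ⁻¹' C ⊆ ((f' ⁻¹ᵁ U.1 : X'.Opens) : Set X') := by
      intro C hC x hx
      have := hC hx
      show f' x ∈ U.1
      have h2 : (coprod.desc f' f'') (il x) ∈ U.1 := this
      rwa [← Scheme.Hom.comp_apply, coprod.inl_desc] at h2
    have hsubr : ∀ C : Set ↥(X' ⨿ X''), C ⊆ ((coprod.desc f' f'') ⁻¹ᵁ U.1 : (X' ⨿ X'').Opens) →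
        ir ⁻¹' C ⊆ ((f'' ⁻¹ᵁ U.1 : X''.Opens) : Set X'') := by
      intro C hC x hx
      have := hC hx
      show f'' x ∈ U.1
      have h2 : (coprod.desc f' f'') (ir x) ∈ U.1 := this
      rwa [← Scheme.Hom.comp_apply, coprod.inr_desc] at h2
    have hcl : ∀ C : Set ↥(X' ⨿ X''), IsCompact C → IsCompact (il ⁻¹' C) := fun C hC =>
      il.isOpenEmbedding.isInducing.isCompact_preimage (isClosed_range_inl X' X'') hC
    have hcr : ∀ C : Set ↥(X' ⨿ X''), IsCompact C → IsCompact (ir ⁻¹' C) := fun C hC =>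
      ir.isOpenEmbedding.isInducing.isCompact_preimage (isClosed_range_inr X' X'') hC
    have h1 : IsCompact (il ⁻¹' A ∩ il ⁻¹' B) :=
      hq' _ _ (hsubl A hA) (hAo.preimage il.continuous) (hcl A hAc)
        (hsubl B hB) (hBo.preimage il.continuous) (hcl B hBc)
    have h2 : IsCompact (ir ⁻¹' A ∩ ir ⁻¹' B) :=
      hq'' _ _ (hsubr A hA) (hAo.preimage ir.continuous) (hcr A hAc)
        (hsubr B hB) (hBo.preimage ir.continuous) (hcr B hBc)
    have h3 := (h1.image il.continuous).union (h2.image ir.continuous)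
    convert h3 using 1
    ext z
    obtain ⟨(x | x), rfl⟩ := (coprodMk X' X'').surjective z
    · rw [coprodMk_inl]
      constructor
      · rintro ⟨hzA, hzB⟩
        exact Or.inl ⟨x, ⟨hzA, hzB⟩, rfl⟩
      · rintro (⟨y, ⟨hyA, hyB⟩, hxy⟩ | ⟨y, _, hxy⟩)
        · rw [← hxy]; exact ⟨hyA, hyB⟩
        · exact absurd hxy (inr_ne_inl _ _ _ _)
    · rw [coprodMk_inr]
      constructor
      · rintro ⟨hzA, hzB⟩
        exact Or.inr ⟨x, ⟨hzA, hzB⟩, rfl⟩
      · rintro (⟨y, _, hxy⟩ | ⟨y, ⟨hyA, hyB⟩, hxy⟩)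
        · exact absurd hxy (inl_ne_inr _ _ _ _)
        · rw [← hxy]; exact ⟨hyA, hyB⟩

end Groth.Agent.S4609
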