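import Groth.Statements.S4611
import Mathlib

set_option autoImplicit false
universe u
open EGA41

namespace Groth.Agent.S4611

/-- A local algebra essentially of finite type over a ring A is A-isomorphic to a quotient of a
localization A[T_1, …, T_n]_q of a polynomial algebra at a prime ideal q; stated as the existence of
a surjective A-algebra map from such a localization. -/
theorem result {A B : Type u} [CommRing A]
    [CommRing B] [IsLocalRing B] [Algebra A B] [Algebra.EssFiniteType A B] :
    ∃ (n : ℕ) (q : Ideal (MvPolynomial (Fin n) A)) (_ : q.IsPrime)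
      (φ : Localization.AtPrime q →ₐ[A] B), Function.Surjective φ := by
  classical
  obtain ⟨σ, hσ⟩ := (Algebra.essFiniteType_iff (R := A) (S := B)).mp inferInstance
  let n := σ.card
  let g : Fin n → B := fun i => (σ.equivFin.symm i : B)
  have hg : Set.range g = (σ : Set B) := by
    ext b
    constructor
    · rintro ⟨i, rfl⟩
      exact (σ.equivFin.symm i).2
    · intro hb
      exact ⟨σ.equivFin ⟨b, hb⟩, by simp [g]⟩
  let ψ : MvPolynomial (Fin n) A →ₐ[A] B := MvPolynomial.aeval g
  have hψ : ∀ b ∈ Algebra.adjoin A (σ : Set B), ∃ P, ψ P = b := by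
    intro b hb
    rw [← hg, Algebra.adjoin_range_eq_range_aeval] at hb
    exact hb
  let q : Ideal (MvPolynomial (Fin n) A) := (IsLocalRing.maximalIdeal B).comap ψ
  have hq : q.IsPrime := Ideal.comap_isPrime _ _
  have hunit : ∀ y : q.primeCompl, IsUnit (ψ y) := by
    intro y
    have : (y : MvPolynomial (Fin n) A) ∉ q := y.2
    rw [Ideal.mem_comap] at this
    exact IsLocalRing.notMem_maximalIdeal.mp this
  refine ⟨n, q, hq, IsLocalization.liftAlgHom (M := q.primeCompl) (f := ψ) hunit, ?_⟩
  intro b
  obtain ⟨t, ht, htu, hbt⟩ := hσ b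
  obtain ⟨T, rfl⟩ := hψ t ht
  obtain ⟨X, hX⟩ := hψ _ hbt
  have hT : T ∈ q.primeCompl := by
    change T ∉ q
    rw [Ideal.mem_comap]
    exact IsLocalRing.notMem_maximalIdeal.mpr htu
  refine ⟨IsLocalization.mk' _ X ⟨T, hT⟩, ?_⟩
  rw [IsLocalization.coe_liftAlgHom, IsLocalization.lift_mk'_spec]
  simpa [mul_comm] using hX
  
end Groth.Agent.S4611
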