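import Groth.Statements.S4613
-- import your own Groth.Agent.* helpers here

set_option autoImplicit false
universe u
open AlgebraicGeometry CategoryTheory
open EGA41

namespace Groth.Agent.S4613

theorem ker_fg_of_finitePresentation {A B : Type u} [CommRing A] [CommRing B] (f : A →+* B)
    (hf : Function.Surjective f) (h : f.FinitePresentation) : (RingHom.ker f).FG := by
  algebraize [f]
  have h' : Algebra.FinitePresentation A B := h
  exact Algebra.FinitePresentation.ker_fG_of_surjective (Algebra.ofId A B) hf

/-- For a closed immersion j : X → Y: j is locally of finite presentation if and only if its ideal sheaf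
is of finite type, i.e. for every affine open U of Y the kernel of Γ(U, O_Y) → Γ(j⁻¹U, O_X) is
finitely generated. (An immersion with image closed in an open U reduces to this case.) -/
theorem result {X Y : Scheme.{u}} (j : X ⟶ Y)
    [IsClosedImmersion j] :
    LocallyOfFinitePresentation j ↔ ∀ U : Y.affineOpens, (RingHom.ker (j.app U).hom).FG := by
  constructor
  · intro h U
    have hV : IsAffineOpen (j ⁻¹ᵁ U.1) := U.2.preimage j
    have h1 := HasRingHomProperty.appLE (P := @LocallyOfFinitePresentation) j h U
      ⟨j ⁻¹ᵁ U.1, hV⟩ le_rfl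
    rw [Scheme.Hom.appLE_eq_app] at h1
    exact ker_fg_of_finitePresentation _ (j.app_surjective U.1 U.2) h1
  · intro h
    rw [HasRingHomProperty.iff_appLE (P := @LocallyOfFinitePresentation)]
    intro U V e
    have h1 : (j.app U.1).hom.FinitePresentation :=
      RingHom.FinitePresentation.of_surjective _ (j.app_surjective U.1 U.2) (h U)
    have hV : IsAffineOpen (j ⁻¹ᵁ U.1) := U.2.preimage j
    have h2 := HasRingHomProperty.appLE (P := @LocallyOfFinitePresentation) (𝟙 X) inferInstance
      ⟨j ⁻¹ᵁ U.1, hV⟩ V e
    rw [Scheme.Hom.appLE]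
    rw [Scheme.Hom.appLE, Scheme.Hom.id_app] at h2
    have h3 : (X.presheaf.map (homOfLE e).op).hom.FinitePresentation := by
      have h4 : (𝟙 Γ(X, j ⁻¹ᵁ U.1) ≫ X.presheaf.map (homOfLE e).op) =
          X.presheaf.map (homOfLE e).op := Category.id_comp _
      rw [← h4]
      exact h2
    exact h3.comp h1

end Groth.Agent.S4613
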