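import Groth.Statements.S4620
import Groth.Agent.Lib.Helper3.GeomConnPt

set_option autoImplicit false
open CategoryTheory AlgebraicGeometry
universe u
open FBase

namespace Groth.Agent.S4620

/-- Let X be a scheme over a field k and Y an irreducible component of X which is geometrically
irreducible, i.e. the inverse image of Y in X ⊗_k L is irreducible for every extension field L of k.
Then the connected component of X containing Y is geometrically connected: for every extension field
K of k, the inverse image in X ⊗_k K of the connected component of a point y of Y is connected.
(Geometric irreducibility and connectedness of a locally closed subset do not depend on the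
subscheme structure chosen, and are expressed here through inverse images under the projection.) -/
theorem result {k K : Type u} [Field k] [Field K] [Algebra k K]
    {X : Scheme.{u}} (f : X ⟶ Spec (CommRingCat.of k)) (Y : Set ↥X) (hY : Y ∈ irreducibleComponents ↥X)
    (hgi : ∀ (L : Type u) [Field L] [Algebra k L], IsIrreducible (⇑(FBase.bcπ f L) ⁻¹' Y))
    (y : X) (hy : y ∈ Y) :
    _root_.IsConnected (⇑(FBase.bcπ f K) ⁻¹' connectedComponent y) := by
  have hYirr : IsIrreducible Y := hY.1
  have hYsub : Y ⊆ connectedComponent y :=
    hYirr.isConnected.isPreconnected.subset_connectedComponent hy
  have hS : _root_.IsPreconnected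
      ((Limits.pullback.fst f (Groth.Agent.Lib.helper3.GeomConnPt.gbar k)) ⁻¹' Y) :=
    (hgi (AlgebraicClosure k)).isConnected.isPreconnected
  have h1 := Groth.Agent.Lib.helper3.GeomConnPt.isConnected_preimage_gbar f
    (C := connectedComponent y) isConnected_connectedComponent hS
    (Set.preimage_mono hYsub) (x := y) mem_connectedComponent
    (Set.preimage_mono (Set.singleton_subset_iff.mpr hy))
  exact Groth.Agent.Lib.helper3.GeomConnPt.isConnected_preimage_of_gbar f h1 K

end Groth.Agent.S4620
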