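import Groth.Statements.S4621
import Groth.Agent.Lib.Helper3.GeomConnPt

set_option autoImplicit false
open CategoryTheory AlgebraicGeometry
universe u
open FBase

namespace Groth.Agent.S4621

/-- Let h : Y → X be a morphism of schemes over a field k, with Y nonempty and geometrically connected
over k. Then the connected component of X containing the (connected) image h(Y) is geometrically
connected: for every extension field K of k, the inverse image in X ⊗_k K of the connected component
of h(y), for a point y of Y, is connected. -/
theorem result {k K : Type u} [Field k] [Field K] [Algebra k K]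
    {X Y : Scheme.{u}} (f : X ⟶ Spec (CommRingCat.of k)) (g : Y ⟶ Spec (CommRingCat.of k)) (h : Y ⟶ X) (w : h ≫ f = g)
    [GeometricallyConnected g] (y : Y) :
    _root_.IsConnected (⇑(FBase.bcπ f K) ⁻¹' connectedComponent (h y)) := by
  subst w
  have hYc : ConnectedSpace Y :=
    GeometricallyConnected.connectedSpace_of_subsingleton (h ≫ f)
  have hrange : Set.range h ⊆ connectedComponent (h y) :=
    (isPreconnected_range h.continuous).subset_connectedComponent ⟨y, rfl⟩
  have hgeo := (‹GeometricallyConnected (h ≫ f)›).geometrically_connectedSpace
  have hY : ConnectedSpace ↥(Limits.pullback (h ≫ f) (Groth.Agent.Lib.helper3.GeomConnPt.gbar k)) :=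
    pullback_of_geometrically hgeo _ _
  have hYb : ConnectedSpace ↥(Limits.pullback h
      (Limits.pullback.fst f (Groth.Agent.Lib.helper3.GeomConnPt.gbar k))) :=
    (Limits.pullbackRightPullbackFstIso f (Groth.Agent.Lib.helper3.GeomConnPt.gbar k)
      h).hom.homeomorph.connectedSpace_iff.mpr hY
  have hS : _root_.IsPreconnected (Set.range (Limits.pullback.snd h
      (Limits.pullback.fst f (Groth.Agent.Lib.helper3.GeomConnPt.gbar k)))) :=
    isPreconnected_range (Limits.pullback.snd h _).continuous
  have hSeq := Scheme.Pullback.range_snd h
    (Limits.pullback.fst f (Groth.Agent.Lib.helper3.GeomConnPt.gbar k))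
  have h1 := Groth.Agent.Lib.helper3.GeomConnPt.isConnected_preimage_gbar f
    (C := connectedComponent (h y)) isConnected_connectedComponent hS
    (by rw [hSeq]; exact Set.preimage_mono hrange) (x := h y) mem_connectedComponent
    (by
      rw [hSeq]
      intro z hz
      exact ⟨y, hz.symm⟩)
  exact Groth.Agent.Lib.helper3.GeomConnPt.isConnected_preimage_of_gbar f h1 K

end Groth.Agent.S4621
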