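import Groth.Statements.S4626
import Mathlib.RingTheory.Flat.Basic
import Mathlib.AlgebraicGeometry.Morphisms.Flat
-- import your own Groth.Agent.* helpers here

set_option autoImplicit false
open CategoryTheory AlgebraicGeometry
universe u
open FBase

namespace Groth.Agent.S4626

open CategoryTheory CategoryTheory.Limits AlgebraicGeometry in
/-- a common field extension of two field extensions -/
lemma exists_compositum (k K L : Type u) [Field k] [Field K] [Field L] [Algebra k K] [Algebra k L] :
    ∃ (Ω : Type u) (_ : Field Ω) (a : K →+* Ω) (b : L →+* Ω),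
      a.comp (algebraMap k K) = b.comp (algebraMap k L) := by
  have : Nontrivial (TensorProduct k K L) :=
    Algebra.TensorProduct.nontrivial_of_algebraMap_injective_of_flat_left (R := k) K L
      (algebraMap k L).injective
  obtain ⟨m, hm⟩ := Ideal.exists_maximal (TensorProduct k K L)
  let _ : Field (TensorProduct k K L ⧸ m) := Ideal.Quotient.field m
  refine ⟨TensorProduct k K L ⧸ m, inferInstance,
    (Ideal.Quotient.mk m).comp (Algebra.TensorProduct.includeLeft (R := k) (S := k) (A := K) (B := L)).toRingHom,
    (Ideal.Quotient.mk m).comp (Algebra.TensorProduct.includeRight (R := k) (A := K) (B := L)).toRingHom, ?_⟩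
  ext c
  simp only [RingHom.coe_comp, Function.comp_apply, AlgHom.toRingHom_eq_coe, RingHom.coe_coe,
    AlgHom.commutes]

open CategoryTheory CategoryTheory.Limits AlgebraicGeometry in
lemma descend {k K : Type u} [Field k] [Field K] [Algebra k K]
    {X : Scheme.{u}} (f : X ⟶ Spec (CommRingCat.of k))
    (h : GeometricallyReduced (pullback.snd f (Spec.map (CommRingCat.ofHom (algebraMap k K))))) :
    GeometricallyReduced f := by
  rw [geometricallyReduced_iff, geometrically_iff_of_commRing_of_isClosedUnderIsomorphisms]
  intro L _ _
  obtain ⟨Ω, _, a, b, hab⟩ := exists_compositum k K L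
  let gK : Spec (.of K) ⟶ Spec (.of k) := Spec.map (CommRingCat.ofHom (algebraMap k K))
  let gL : Spec (.of L) ⟶ Spec (.of k) := Spec.map (CommRingCat.ofHom (algebraMap k L))
  let gΩK : Spec (.of Ω) ⟶ Spec (.of K) := Spec.map (CommRingCat.ofHom a)
  let gΩL : Spec (.of Ω) ⟶ Spec (.of L) := Spec.map (CommRingCat.ofHom b)
  have hg : gΩK ≫ gK = gΩL ≫ gL := by
    simp only [gΩK, gΩL, gK, gL, ← Spec.map_comp, ← CommRingCat.ofHom_comp, hab]
  have hZ : IsReduced (pullback (pullback.snd f gL) gΩL) := by
    have h1 : IsPullback (pullback.fst (pullback.snd f gL) gΩL ≫ pullback.fst f gL)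
        (pullback.snd (pullback.snd f gL) gΩL) f (gΩL ≫ gL) :=
      (IsPullback.of_hasPullback (pullback.snd f gL) gΩL).paste_horiz
        (IsPullback.of_hasPullback f gL)
    rw [← hg] at h1
    have hw : (pullback.fst (pullback.snd f gL) gΩL ≫ pullback.fst f gL) ≫ f =
        (pullback.snd (pullback.snd f gL) gΩL ≫ gΩK) ≫ gK := by
      rw [Category.assoc, Category.assoc]; exact h1.w
    let l : pullback (pullback.snd f gL) gΩL ⟶ pullback f gK := pullback.lift _ _ hw
    have hl1 : l ≫ pullback.fst f gK = pullback.fst (pullback.snd f gL) gΩL ≫ pullback.fst f gL :=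
      pullback.lift_fst _ _ _
    have hl2 : l ≫ pullback.snd f gK = pullback.snd (pullback.snd f gL) gΩL ≫ gΩK :=
      pullback.lift_snd _ _ _
    rw [← hl1] at h1
    have h2 : IsPullback l (pullback.snd (pullback.snd f gL) gΩL) (pullback.snd f gK) gΩK :=
      IsPullback.of_right h1 hl2 (IsPullback.of_hasPullback f gK)
    exact h.geometrically_isReduced gΩK l _ h2
  have hsurj : Surjective gΩL := by
    refine ⟨fun x => ?_⟩
    have : Nonempty (PrimeSpectrum Ω) := inferInstance
    obtain ⟨y⟩ := this
    have hsub : Subsingleton (PrimeSpectrum L) := inferInstance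
    exact ⟨y, hsub.elim _ _⟩
  have hdom : IsSchemeTheoreticallyDominant gΩL := IsSchemeTheoreticallyDominant.of_isDominant gΩL
  exact IsSchemeTheoreticallyDominant.isReduced (pullback.fst (pullback.snd f gL) gΩL)

/-- Let X be a scheme over a field k and K an extension field of k. Then X is geometrically reduced over
k if and only if X ⊗_k K, with its structure of K-scheme, is geometrically reduced over K. -/
theorem result {k K : Type u} [Field k] [Field K] [Algebra k K]
    {X : Scheme.{u}} (f : X ⟶ Spec (CommRingCat.of k)) :
    GeometricallyReduced f ↔ GeometricallyReduced (FBase.bcStr f K) := by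
  constructor
  · intro h
    exact MorphismProperty.pullback_snd (P := @GeometricallyReduced) f _ h
  · intro h
    exact descend f h

end Groth.Agent.S4626
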