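import Groth.Statements.S4628
import Mathlib.RingTheory.Flat.Basic
import Mathlib.RingTheory.FiniteType
import Mathlib.RingTheory.Polynomial.Basic
-- import your own Groth.Agent.* helpers here

set_option autoImplicit false
open CategoryTheory AlgebraicGeometry
universe u
open FBase

namespace Groth.Agent.S4628
section Helpers
open CategoryTheory.Limits TensorProduct

/-- algebraic core -/
theorem isReduced_tensor {k A B : Type u} [Field k] [CommRing A] [CommRing B] [Algebra k A]
    [Algebra k B] [_root_.IsReduced B]
    [GeometricallyReduced (Spec.map (CommRingCat.ofHom (algebraMap k A)))] :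
    _root_.IsReduced (A ⊗[k] B) := by
  apply IsReduced.tensorProduct_of_flat_of_forall_fg
  intro B' hB'
  have hft : Algebra.FiniteType k B' := (Subalgebra.fg_iff_finiteType B').mp hB'
  have hN : IsNoetherianRing B' := Algebra.FiniteType.isNoetherianRing k B'
  have hred : _root_.IsReduced B' := isReduced_of_injective B'.val Subtype.val_injective
  have : AlgebraicGeometry.IsReduced (Spec (CommRingCat.of B')) := by
    rw [affine_isReduced_iff]; exact hred
  have : IsLocallyNoetherian (Spec (CommRingCat.of B')) := inferInstance
  have h1 : AlgebraicGeometry.IsReduced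
      (pullback (Spec.map (CommRingCat.ofHom (algebraMap k A)))
        (Spec.map (CommRingCat.ofHom (algebraMap k B')))) := inferInstance
  have h2 : AlgebraicGeometry.IsReduced (Spec (CommRingCat.of (A ⊗[k] B'))) :=
    isReduced_of_isOpenImmersion (pullbackSpecIso k A B').inv
  rw [affine_isReduced_iff] at h2
  exact h2

theorem geomRed_comp_openImm {U X Y : Scheme.{u}} (j : U ⟶ X) [IsOpenImmersion j] (f : X ⟶ Y)
    [GeometricallyReduced f] : GeometricallyReduced (j ≫ f) := by
  constructor
  intro K _ y Z fst snd h
  let p : Z ⟶ pullback f y := pullback.lift (fst ≫ j) snd (by simpa using h.w)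
  have hp : p ≫ pullback.snd f y = snd := pullback.lift_snd _ _ _
  have hW : AlgebraicGeometry.IsReduced (pullback f y) :=
    pullback_of_geometrically (GeometricallyReduced.geometrically_isReduced (f := f)) K y
  have top : IsPullback fst p j (pullback.fst f y) := by
    refine IsPullback.of_bot ?_ (pullback.lift_fst _ _ _).symm (IsPullback.of_hasPullback f y)
    rw [hp]; exact h
  have : IsOpenImmersion p := MorphismProperty.of_isPullback top ‹IsOpenImmersion j›
  exact isReduced_of_isOpenImmersion p

theorem isReduced_pullback_affine {k : Type u} [Field k] {R T : CommRingCat.{u}}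
    (f : Spec R ⟶ Spec (CommRingCat.of k)) (g : Spec T ⟶ Spec (CommRingCat.of k))
    [GeometricallyReduced f] [_root_.IsReduced T] : AlgebraicGeometry.IsReduced (pullback f g) := by
  obtain ⟨φ, rfl⟩ := Spec.map_surjective f
  obtain ⟨ψ, rfl⟩ := Spec.map_surjective g
  algebraize [φ.hom, ψ.hom]
  have : GeometricallyReduced (Spec.map (CommRingCat.ofHom (algebraMap k R))) := ‹_›
  have h := isReduced_tensor (k := k) (A := R) (B := T)
  have h2 : AlgebraicGeometry.IsReduced (Spec (CommRingCat.of (R ⊗[k] T))) := by
    rw [affine_isReduced_iff]; exact h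
  exact isReduced_of_isOpenImmersion (pullbackSpecIso k R T).hom


end Helpers


open CategoryTheory.Limits in
/-- Let X be a scheme over a field k which is geometrically reduced (X ⊗_k K is reduced for every
extension field K of k), and let S be any reduced scheme over k. Then the product X ×_k S is
reduced. (No Noetherian or finiteness assumption on S.) -/
theorem result {k : Type u} [Field k] {X S : Scheme.{u}}
    (f : X ⟶ Spec (CommRingCat.of k)) (g : S ⟶ Spec (CommRingCat.of k)) [GeometricallyReduced f]
    [AlgebraicGeometry.IsReduced S] : AlgebraicGeometry.IsReduced (pullback f g) := by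
  let 𝒰X := X.affineOpenCover
  let 𝒰S := S.affineOpenCover
  let 𝒰 := Scheme.Pullback.openCoverOfLeftRight 𝒰X.openCover 𝒰S.openCover f g
  apply +allowSynthFailures @IsReduced.of_openCover (𝒰 := 𝒰)
  rintro ⟨i, j⟩
  have h1 : GeometricallyReduced (𝒰X.f i ≫ f) := geomRed_comp_openImm _ _
  have h2 : AlgebraicGeometry.IsReduced (Spec (𝒰S.X j)) := isReduced_of_isOpenImmersion (𝒰S.f j)
  have h3 : _root_.IsReduced (𝒰S.X j) := by rwa [affine_isReduced_iff] at h2
  exact isReduced_pullback_affine (𝒰X.f i ≫ f) (𝒰S.f j ≫ g)

end Groth.Agent.S4628
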