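import Groth.Statements.S4630
import Mathlib
import Groth.Agent.Lib.Helper3.CommonPt
import Groth.Agent.Lib.Helper3.StalkBC

set_option autoImplicit false
open CategoryTheory AlgebraicGeometry
universe u
open FBase

namespace Groth.Agent.S4630

/-- Let X be a scheme over a field k, k' an extension field of k, and x' a point of X' = X ⊗_k k' lying
over the point x of X. Then X is geometrically pointwise integral at x over k if and only if X' is
geometrically pointwise integral at x' over k'. -/
theorem result {k K : Type u} [Field k] [Field K] [Algebra k K]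
    {X : Scheme.{u}} (f : X ⟶ Spec (CommRingCat.of k)) (x' : ↥(FBase.bc f K)) :
    FBase.IsGeomPtIntegralAt f ((FBase.bcπ f K) x') ↔ FBase.IsGeomPtIntegralAt (FBase.bcStr f K) x' := by
  constructor
  · intro H L _ _ z hz
    letI : Algebra k L := ((algebraMap K L).comp (algebraMap k K)).toAlgebra
    haveI : IsScalarTower k K L := IsScalarTower.of_algebraMap_eq (fun _ => rfl)
    let e := Groth.Agent.Lib.helper3.CommonPt.towerIso f K L
    have h1 : (Limits.pullback.fst f (Spec.map (CommRingCat.ofHom (algebraMap k L)))) (e.hom z) =
        (FBase.bcπ f K) x' := by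
      have h2 : (Limits.pullback.fst f (Spec.map (CommRingCat.ofHom (algebraMap k L)))) (e.hom z) =
          (e.hom ≫ Limits.pullback.fst f (Spec.map (CommRingCat.ofHom (algebraMap k L)))) z := rfl
      rw [h2, Groth.Agent.Lib.helper3.CommonPt.towerIso_hom_fst, Scheme.Hom.comp_apply]
      exact congrArg _ hz
    have hd : IsDomain ((Limits.pullback f
        (Spec.map (CommRingCat.ofHom (algebraMap k L)))).presheaf.stalk (e.hom z)) :=
      H L (e.hom z) h1
    have e2 := (asIso (e.hom.stalkMap z)).commRingCatIsoToRingEquiv
    exact e2.symm.injective.isDomain e2.symm.toRingHom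
  · intro H K₂ _ _ x₂ hx₂
    obtain ⟨L, _, _, φ, z, hφ, hz1, hz2⟩ :=
      Groth.Agent.Lib.helper3.CommonPt.exists_common_point f K K₂ x' x₂ hx₂.symm
    subst hz2
    have hd : IsDomain ((Limits.pullback (Limits.pullback.snd f
        (Spec.map (CommRingCat.ofHom (algebraMap k K))))
        (Spec.map (CommRingCat.ofHom (algebraMap K L)))).presheaf.stalk z) := H L z hz1
    exact (Groth.Agent.Lib.helper3.StalkBC.stalkMap_injective_of_flat φ z).isDomain
      (φ.stalkMap z).hom

end Groth.Agent.S4630
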