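import Groth.Statements.S4631
import Mathlib
import Groth.Agent.Lib.Helper3.StalkBC
import Groth.Agent.Lib.Helper3.GeomRedSch
import Groth.Agent.S2500

set_option autoImplicit false
open CategoryTheory AlgebraicGeometry
universe u
open FBase

namespace Groth.Agent.S4631

/-- Let X be a scheme over an algebraically closed field k and x a point of X. Then X is geometrically
pointwise integral at x over k if and only if the local ring of X at x is a domain. -/
theorem result {k : Type u} [Field k] [IsAlgClosed k] {X : Scheme.{u}}
    (f : X ⟶ Spec (CommRingCat.of k)) (x : X) :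
    FBase.IsGeomPtIntegralAt f x ↔ IsDomain ↑(X.presheaf.stalk x) := by
  constructor
  · intro h
    -- base change along the identity
    have hiso : IsIso (Spec.map (CommRingCat.ofHom (algebraMap k k))) := by
      have : CommRingCat.ofHom (algebraMap k k) = 𝟙 (CommRingCat.of k) := rfl
      rw [this, Spec.map_id]
      infer_instance
    have hiso2 : IsIso (FBase.bcπ f k) :=
      Limits.pullback_fst_iso_of_right_iso f (Spec.map (CommRingCat.ofHom (algebraMap k k)))
    let x' : ↥(FBase.bc f k) := (inv (FBase.bcπ f k)) x
    have hx' : (FBase.bcπ f k) x' = x := by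
      change ((inv (FBase.bcπ f k)) ≫ (FBase.bcπ f k)) x = x
      rw [IsIso.inv_hom_id]
      rfl
    have hd := h k x' hx'
    have hstalk : IsIso ((FBase.bcπ f k).stalkMap x') := inferInstance
    have hd2 : IsDomain ↑(X.presheaf.stalk ((FBase.bcπ f k) x')) :=
      (asIso ((FBase.bcπ f k).stalkMap x')).commRingCatIsoToRingEquiv.toMulEquiv.isDomain
    rw [hx'] at hd2
    exact hd2
  · intro hdom K _ _ x' hx'
    obtain ⟨y, φ, hφ⟩ := Groth.Agent.Lib.helper3.StalkBC.exists_point_injective
      (FBase.bcπ f K) x x' hx'
    have hS : IsIntegral (Spec (X.presheaf.stalk x)) := inferInstance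
    have hS2 : AlgebraicGeometry.IsReduced (Spec (X.presheaf.stalk x)) := inferInstance
    have hS3 : IrreducibleSpace (Spec (X.presheaf.stalk x)) := inferInstance
    have hgr : GeometricallyReduced (X.fromSpecStalk x ≫ f) :=
      Groth.Agent.Lib.helper3.GeomRed.geometricallyReduced_of_perfectField _
    have hgi : GeometricallyIrreducible (X.fromSpecStalk x ≫ f) := Groth.Agent.S2500.result _
    have hgint : GeometricallyIntegral (X.fromSpecStalk x ≫ f) :=
      GeometricallyIntegral.of_geometricallyReduced_of_geometricallyIrreducible _
    have hint : IsIntegral (Limits.pullback (X.fromSpecStalk x ≫ f)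
        (Spec.map (CommRingCat.ofHom (algebraMap k K)))) :=
      GeometricallyIntegral.isIntegral_of_subsingleton (Limits.pullback.snd (X.fromSpecStalk x ≫ f)
        (Spec.map (CommRingCat.ofHom (algebraMap k K))))
    have hne : Nonempty ↥(Limits.pullback (X.fromSpecStalk x) (FBase.bcπ f K)) := ⟨y⟩
    have hint2 : IsIntegral (Limits.pullback (X.fromSpecStalk x) (FBase.bcπ f K)) :=
      isIntegral_of_isOpenImmersion (Limits.pullbackRightPullbackFstIso f
        (Spec.map (CommRingCat.ofHom (algebraMap k K))) (X.fromSpecStalk x)).hom
    have hst : IsDomain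
      ((Limits.pullback (X.fromSpecStalk x) (FBase.bcπ f K)).presheaf.stalk y) := inferInstance
    exact hφ.isDomain φ

end Groth.Agent.S4631
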