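import Groth.Statements.S4636
import Mathlib
import Groth.Agent.Lib.Helper16.QCohAss
import Groth.Agent.S1707

set_option autoImplicit false
open CategoryTheory AlgebraicGeometry
universe u
open AssSch

namespace Groth.Agent.S4636

section helpers
open CategoryTheory CategoryTheory.Limits AlgebraicGeometry TopologicalSpace

open Opposite
open Groth.Agent.Lib.helper16.QCohAss

theorem nontrivial_of_isAssPoint {X : Scheme.{u}} (F : X.Modules) (x : X)
    (h : Curv2.IsAssPoint F x) : Nontrivial ↑(F.presheaf.stalk x) := by
  by_contra hcon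
  rw [not_nontrivial_iff_subsingleton] at hcon
  exact not_isAssociatedPrime_of_subsingleton h

theorem main {X : Scheme.{u}} (F : X.Modules)
    (hF : Coh.IsQCoh F) (x : X) :
    (x ∈ AssSch.Ass F ∧ ∀ y ∈ AssSch.Ass F, y ⤳ x → y = x) ↔
      (Nontrivial ↑(F.presheaf.stalk x) ∧ ∀ y : X, Nontrivial ↑(F.presheaf.stalk y) → y ⤳ x → y = x) := by
  haveI : F.IsQuasicoherent := hF
  constructor
  · rintro ⟨hx, hmax⟩
    refine ⟨nontrivial_of_isAssPoint F x hx, ?_⟩
    intro y hy hyx
    obtain ⟨n, hn⟩ := exists_ne (0 : ToType (F.presheaf.stalk y))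
    obtain ⟨V, hV, hyV, m, hm⟩ := exists_affine_section_of_germ_ne_zero F y n
    have hm0 : (F.presheaf.germ V y hyV).hom m ≠ 0 := by rw [hm]; exact hn
    obtain ⟨y', hy'V, hy'y, hy', -⟩ := exists_weakAssPoint_specializes F hV y hyV m hm0
    have h1 : y' = x := hmax y' ((isAssPoint_iff_isWeakAssPoint F y').2 hy') (hy'y.trans hyx)
    rw [h1] at hy'y
    exact ((hy'y.antisymm hyx).symm).eq
  · rintro ⟨hx, hmax⟩
    have hx' : x ∈ CohB1.support F := by
      intro hsub
      exact (not_nontrivial_iff_subsingleton.2 hsub) hx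
    have hmax' : ∀ y : ↥X, y ∈ CohB1.support F → y ⤳ x → y = x := by
      intro y hy hyx
      apply hmax y _ hyx
      rw [← not_subsingleton_iff_nontrivial]
      exact hy
    have h1 := Groth.Agent.S1707.result X F hF x hx' hmax'
    refine ⟨(isAssPoint_iff_isWeakAssPoint F x).2 h1, ?_⟩
    intro y hy hyx
    exact hmax y (nontrivial_of_isAssPoint F y hy) hyx


end helpers


/-- Let X be a locally Noetherian scheme, F a coherent O_X-module and x a point of X. Then x is a
maximal associated point of F (an associated point such that every associated point specialising to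
x equals x) if and only if x is the generic point of an irreducible component of Supp F, i.e. F_x ≠
0 and every point y with F_y ≠ 0 that specialises to x equals x. -/
theorem result {X : Scheme.{u}} [IsLocallyNoetherian X] (F : X.Modules)
    (hF : Coh.IsCoh F) (x : X) :
    (x ∈ AssSch.Ass F ∧ ∀ y ∈ AssSch.Ass F, y ⤳ x → y = x) ↔
      (Nontrivial ↑(F.presheaf.stalk x) ∧ ∀ y : X, Nontrivial ↑(F.presheaf.stalk y) → y ⤳ x → y = x) := by
  exact main F hF.1 x

end Groth.Agent.S4636
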