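import Groth.Statements.S4638
import Mathlib
import Groth.Agent.Lib.Helper16.QCohAss

set_option autoImplicit false
open CategoryTheory AlgebraicGeometry
universe u
open AssSch

namespace Groth.Agent.S4638

section helpers
open CategoryTheory CategoryTheory.Limits AlgebraicGeometry TopologicalSpace

open Opposite
open Groth.Agent.Lib.helper16.QCohAss

theorem main {X : Scheme.{u}} (F : X.Modules)
    (hF : Coh.IsQCoh F) (f : Γ(X, ⊤)) :
    (∀ x : X, IsSMulRegular ↑(F.presheaf.stalk x) ((X.presheaf.germ ⊤ x trivial).hom f)) ↔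
      AssSch.Ass F ⊆ (X.basicOpen f : Set ↥X) := by
  haveI : F.IsQuasicoherent := hF
  constructor
  · intro hreg x hx
    by_contra hxf
    have hnu : ¬ IsUnit ((X.presheaf.germ ⊤ x trivial).hom f) := by
      intro hu
      exact hxf ((X.mem_basicOpen f x trivial).2 hu)
    have hmem : (X.presheaf.germ ⊤ x trivial).hom f ∈ IsLocalRing.maximalIdeal (X.presheaf.stalk x) :=
      (IsLocalRing.mem_maximalIdeal _).2 hnu
    obtain ⟨n, hn⟩ := (isAssPoint_iff_isWeakAssPoint F x).1 hx
    have hn0 : n ≠ 0 := by
      rintro rfl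
      have h1 : (1 : X.presheaf.stalk x) ∈ (ann (X.presheaf.stalk x)
          (0 : ToType (F.presheaf.stalk x))).radical :=
        Ideal.le_radical (by rw [mem_ann, smul_zero])
      rw [hn] at h1
      exact (IsLocalRing.maximalIdeal.isMaximal _).ne_top ((Ideal.eq_top_iff_one _).2 h1)
    rw [← hn] at hmem
    obtain ⟨k, hk⟩ := hmem
    rw [mem_ann] at hk
    apply hn0
    apply (hreg x).pow k
    simp only [smul_zero]
    exact hk
  · intro hAss x a b hab
    by_contra hne
    have hn0 : a - b ≠ 0 := sub_ne_zero.2 hne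
    have hrn : (X.presheaf.germ ⊤ x trivial).hom f • (a - b) = 0 := by
      rw [smul_sub]; exact sub_eq_zero.2 hab
    obtain ⟨V, hV, hxV, m, hm⟩ := exists_affine_section_of_germ_ne_zero F x (a - b)
    set fV : Γ(X, V) := (X.presheaf.map (homOfLE (le_top : V ≤ ⊤)).op).hom f with hfV
    have hgf : ∀ (y : X) (hy : y ∈ V), (X.presheaf.germ V y hy).hom fV =
        (X.presheaf.germ ⊤ y trivial).hom f := fun y hy =>
      TopCat.Presheaf.germ_res_apply X.presheaf (homOfLE (le_top : V ≤ ⊤)) y hy f
    have h1 : (F.presheaf.germ V x hxV).hom (fV • m) = 0 := by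
      rw [germ_smul', hgf, hm]; exact hrn
    obtain ⟨c, hc, hcm⟩ := ker_germ F hV x hxV _ h1
    set m₁ := c • m with hm₁
    have hfm₁ : fV • m₁ = 0 := by
      rw [hm₁, smul_comm]; exact hcm
    have hcu : IsUnit ((X.presheaf.germ V x hxV).hom c) := by
      letI := TopCat.Presheaf.algebra_section_stalk X.presheaf (⟨x, hxV⟩ : V)
      haveI : IsLocalization.AtPrime (X.presheaf.stalk x) (hV.primeIdealOf ⟨x, hxV⟩).asIdeal :=
        hV.isLocalization_stalk ⟨x, hxV⟩
      exact isUnit_of_notMem (R := X.presheaf.stalk x) hc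
    have hm₁0 : (F.presheaf.germ V x hxV).hom m₁ ≠ 0 := by
      rw [hm₁, germ_smul', hm]
      intro h0
      exact hn0 ((hcu.smul_eq_zero).1 h0)
    obtain ⟨y, hyV, -, hy, hym⟩ := exists_weakAssPoint_specializes F hV x hxV m₁ hm₁0
    have hyf : y ∈ X.basicOpen f := hAss ((isAssPoint_iff_isWeakAssPoint F y).2 hy)
    have hu : IsUnit ((X.presheaf.germ ⊤ y trivial).hom f) := (X.mem_basicOpen f y trivial).1 hyf
    apply hym
    have h2 : (F.presheaf.germ V y hyV).hom (fV • m₁) = 0 := by rw [hfm₁, map_zero]
    rw [germ_smul', hgf] at h2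
    exact (hu.smul_eq_zero).1 h2


end helpers


/-- Let X be a locally Noetherian scheme, F a quasi-coherent O_X-module and f a global section of O_X.
Then f is F-regular, i.e. multiplication by the germ of f is injective on every stalk of F, if and
only if every associated point of F lies in the open subset X_f where f does not vanish. -/
theorem result {X : Scheme.{u}} [IsLocallyNoetherian X] (F : X.Modules)
    (hF : Coh.IsQCoh F) (f : Γ(X, ⊤)) :
    (∀ x : X, IsSMulRegular ↑(F.presheaf.stalk x) (X.presheaf.germ ⊤ x trivial f)) ↔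
      AssSch.Ass F ⊆ (X.basicOpen f : Set ↥X) := by
  exact main F hF f

end Groth.Agent.S4638
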