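import Groth.Statements.S4639
import Groth.Agent.S2488

set_option autoImplicit false
open CategoryTheory AlgebraicGeometry
universe u
open FDesc

namespace Groth.Agent.S4639

open CategoryTheory.Limits

/-- The property of being quasi-compact and universally bicontinuous (every base change is a
homeomorphism onto its image) descends along a surjective, flat and quasi-compact base change. -/
theorem result :
    MorphismProperty.DescendsAlong
      (MorphismProperty.universally (topologically (fun f => Topology.IsEmbedding f)) ⊓ @QuasiCompact : MorphismProperty Scheme.{u})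
      (@Surjective ⊓ @Flat ⊓ @QuasiCompact : MorphismProperty Scheme.{u}) := by
  constructor
  intro A X Y Z fst snd f g hpb hf h
  obtain ⟨huniv, hqc⟩ := h
  have hg : QuasiCompact g := (Groth.Agent.S0079.result.{u}).of_isPullback hpb hf hqc
  refine ⟨?_, hg⟩
  intro YT T i₁ i₂ gT hsq
  -- `hsq : IsPullback gT i₁ i₂ g`
  have hgT : QuasiCompact gT := MorphismProperty.of_isPullback (P := @QuasiCompact) hsq.flip hg
  let pT := pullback.fst i₂ f
  have hpT : (@Surjective ⊓ @Flat ⊓ @QuasiCompact : MorphismProperty Scheme.{u}) pT :=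
    MorphismProperty.pullback_fst _ _ hf
  -- big square
  have hbig : IsPullback (pullback.snd pT gT ≫ i₁) (pullback.fst pT gT) g (pT ≫ i₂) :=
    (IsPullback.of_hasPullback pT gT).flip.paste_horiz hsq.flip
  have hcond : pT ≫ i₂ = pullback.snd i₂ f ≫ f := pullback.condition
  rw [hcond] at hbig
  have hcomm : (pullback.fst pT gT ≫ pullback.snd i₂ f) ≫ f = (pullback.snd pT gT ≫ i₁) ≫ g := by
    rw [Category.assoc]
    exact hbig.w.symm
  let k : pullback pT gT ⟶ A := hpb.lift _ _ hcomm
  have hk1 : k ≫ fst = pullback.fst pT gT ≫ pullback.snd i₂ f := hpb.lift_fst _ _ _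
  have hk2 : k ≫ snd = pullback.snd pT gT ≫ i₁ := hpb.lift_snd _ _ _
  have hleft : IsPullback k (pullback.fst pT gT) fst (pullback.snd i₂ f) := by
    apply IsPullback.of_right (h₁₂ := snd) (h₂₂ := f) (v₁₃ := g)
    · rw [hk2]; exact hbig
    · exact hk1
    · exact hpb.flip
  have hemb : Topology.IsEmbedding (pullback.fst pT gT) := huniv _ _ _ hleft.flip
  have hqc' : QuasiCompact (pullback.fst pT gT) := inferInstance
  have := (Groth.Agent.S2488.result.{u}).of_isPullback (IsPullback.of_hasPullback pT gT) hpT
    ⟨hemb, hqc'⟩
  exact this.1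

end Groth.Agent.S4639
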