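import Groth.Statements.S4640
import Mathlib

set_option autoImplicit false
universe u
open FDesc

namespace Groth.Agent.S4640

section aux
open TensorProduct

variable {A K : Type u} [CommRing A] [IsDedekindDomain A] [Field K]
    [Algebra A K] [IsFractionRing A K]

theorem mem_of_smul_mem {N : Type u} [AddCommGroup N] [Module A N]
    (P : Submodule K (K ⊗[A] N)) (s : A) (hs0 : s ≠ 0) (y : K ⊗[A] N) (h : s • y ∈ P) : y ∈ P := by
  have hs : algebraMap A K s ≠ 0 := by
    intro h0
    exact hs0 ((IsFractionRing.injective A K) (h0.trans (map_zero _).symm))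
  have h1 : (algebraMap A K s) • y ∈ P := by
    rw [algebraMap_smul]
    exact h
  have h2 := P.smul_mem (algebraMap A K s)⁻¹ h1
  rwa [smul_smul, inv_mul_cancel₀ hs, one_smul] at h2

theorem eq_zero_of_smul_eq_zero {N : Type u} [AddCommGroup N] [Module A N]
    (s : A) (hs0 : s ≠ 0) (y : K ⊗[A] N) (h : s • y = 0) : y = 0 := by
  have := mem_of_smul_mem (K := K) (⊥ : Submodule K (K ⊗[A] N)) s hs0 y
    (by rw [h]; exact Submodule.zero_mem _)
  simpa using this

theorem main {M : Type u} [AddCommGroup M] [Module A M]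
    (P' : Submodule K (K ⊗[A] M)) (Q : Submodule A M) :
    Q = LinearMap.ker ((P'.restrictScalars A).mkQ ∘ₗ TensorProduct.mk A K M 1) ↔
      (Module.Flat A (M ⧸ Q) ∧ LinearMap.ker (Q.mkQ.baseChange K) = P') := by
  have hker : ∀ m : M, m ∈ LinearMap.ker ((P'.restrictScalars A).mkQ ∘ₗ TensorProduct.mk A K M 1) ↔
      (1 : K) ⊗ₜ[A] m ∈ P' := by
    intro m
    rw [LinearMap.mem_ker, LinearMap.comp_apply, Submodule.mkQ_apply,
      Submodule.Quotient.mk_eq_zero, Submodule.restrictScalars_mem]
    rfl
  have htens0 : ∀ (N : Type u) [AddCommGroup N] [Module A N] (x : N),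
      (1 : K) ⊗ₜ[A] x = 0 ↔ ∃ t : A, t ≠ 0 ∧ t • x = 0 := by
    intro N _ _ x
    have := IsLocalizedModule.eq_zero_iff (nonZeroDivisors A) (TensorProduct.mk A K N 1) (m := x)
    simp only [TensorProduct.mk_apply] at this
    rw [this]
    constructor
    · rintro ⟨t, ht⟩
      exact ⟨(t : A), nonZeroDivisors.coe_ne_zero t, ht⟩
    · rintro ⟨t, ht0, ht⟩
      exact ⟨⟨t, mem_nonZeroDivisors_of_ne_zero ht0⟩, ht⟩
  have hsurj : ∀ x : K ⊗[A] M, ∃ (m : M) (s : A), s ≠ 0 ∧ s • x = (1 : K) ⊗ₜ[A] m := by
    intro x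
    obtain ⟨⟨m, s⟩, hms⟩ := IsLocalizedModule.surj (nonZeroDivisors A) (TensorProduct.mk A K M 1) x
    exact ⟨m, (s : A), nonZeroDivisors.coe_ne_zero s, hms⟩
  constructor
  · intro hQ
    have hQm : ∀ m : M, m ∈ Q ↔ (1 : K) ⊗ₜ[A] m ∈ P' := by
      intro m
      rw [← hker m, ← hQ]
    refine ⟨?_, ?_⟩
    · rw [IsDedekindDomain.flat_iff_torsion_eq_bot, eq_bot_iff]
      intro x hx
      rw [Submodule.mem_torsion_iff] at hx
      obtain ⟨a, ha⟩ := hx
      obtain ⟨m, rfl⟩ := Submodule.Quotient.mk_surjective Q x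
      rw [Submodule.mem_bot, Submodule.Quotient.mk_eq_zero, hQm]
      have h1 : (a : A) • m ∈ Q := by
        rw [← Submodule.Quotient.mk_eq_zero, Submodule.Quotient.mk_smul]
        exact ha
      rw [hQm, TensorProduct.tmul_smul] at h1
      exact mem_of_smul_mem P' (a : A) (nonZeroDivisors.coe_ne_zero a) _ h1
    · ext x
      obtain ⟨m, s, hs0, hms⟩ := hsurj x
      rw [LinearMap.mem_ker]
      constructor
      · intro hx
        have h1 : (1 : K) ⊗ₜ[A] (Q.mkQ m) = 0 := by
          have : Q.mkQ.baseChange K (s • x) = 0 := by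
            rw [LinearMap.map_smul_of_tower, hx, smul_zero]
          rw [hms, LinearMap.baseChange_tmul] at this
          exact this
        rw [htens0] at h1
        obtain ⟨t, ht0, ht⟩ := h1
        have h2 : t • m ∈ Q := by
          rw [← Submodule.Quotient.mk_eq_zero, Submodule.Quotient.mk_smul]
          exact ht
        rw [hQm, TensorProduct.tmul_smul] at h2
        have h3 := mem_of_smul_mem P' t ht0 _ h2
        rw [← hms] at h3
        exact mem_of_smul_mem P' s hs0 x h3
      · intro hx
        have h1 : (1 : K) ⊗ₜ[A] m ∈ P' := by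
          rw [← hms, ← algebraMap_smul K s x]
          exact P'.smul_mem _ hx
        rw [← hQm] at h1
        apply eq_zero_of_smul_eq_zero s hs0
        rw [← LinearMap.map_smul_of_tower, hms, LinearMap.baseChange_tmul]
        have : Q.mkQ m = 0 := by
          rw [Submodule.mkQ_apply, Submodule.Quotient.mk_eq_zero]
          exact h1
        rw [this, TensorProduct.tmul_zero]
  · rintro ⟨hflat, hP⟩
    ext m
    rw [hker, ← hP, LinearMap.mem_ker, LinearMap.baseChange_tmul, htens0]
    constructor
    · intro hm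
      refine ⟨1, one_ne_zero, ?_⟩
      rw [one_smul, Submodule.mkQ_apply, Submodule.Quotient.mk_eq_zero]
      exact hm
    · rintro ⟨t, ht0, ht⟩
      have h1 : Q.mkQ m ∈ Submodule.torsion A (M ⧸ Q) := by
        rw [Submodule.mem_torsion_iff]
        exact ⟨⟨t, mem_nonZeroDivisors_of_ne_zero ht0⟩, ht⟩
      rw [Module.Flat.torsion_eq_bot, Submodule.mem_bot, Submodule.mkQ_apply,
        Submodule.Quotient.mk_eq_zero] at h1
      exact h1

end aux

open TensorProduct in
/-- Let A be a Dedekind domain with fraction field K, M an A-module and P' a K-submodule of K ⊗_A M. Let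
φ : M → (K ⊗_A M)/P' be m ↦ class of 1 ⊗ m. Then a submodule Q of M equals ker φ if and only if M/Q
is a flat A-module and the kernel of the induced surjection K ⊗_A M → K ⊗_A (M/Q) is P'. Thus M/ker
φ is the unique flat quotient of M with generic fibre (K ⊗_A M)/P'. (The published statement takes A
Noetherian, regular and of dimension 1; a field is allowed here, where the statement is immediate.) -/
theorem result {A K : Type u} [CommRing A] [IsDedekindDomain A] [Field K]
    [Algebra A K] [IsFractionRing A K] {M : Type u} [AddCommGroup M] [Module A M]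
    (P' : Submodule K (K ⊗[A] M)) (Q : Submodule A M) :
    Q = LinearMap.ker ((P'.restrictScalars A).mkQ ∘ₗ TensorProduct.mk A K M 1) ↔
      (Module.Flat A (M ⧸ Q) ∧ LinearMap.ker (Q.mkQ.baseChange K) = P') := by
  exact main P' Q

end Groth.Agent.S4640
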