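import Groth.Statements.S4641
import Groth.Agent.Lib.Helper16.WeakAss
import Groth.Agent.Lib.Helper16.QCohAss

set_option autoImplicit false
open CategoryTheory AlgebraicGeometry
universe u
open AssSch

namespace Groth.Agent.S4641

open Groth.Agent.Lib.helper16

theorem exists_radical_ann_eq {A B : Type*} [CommRing A] [CommRing B] [IsLocalRing A]
    [IsLocalRing B] [IsNoetherianRing A] (φ : A →+* B) [IsLocalHom φ] (N : Type*)
    [AddCommGroup N] [Module B N]
    (hflat : letI := Module.compHom N φ; Module.Flat A N) (n : N)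
    (hn : (QCohAss.ann B n).radical = IsLocalRing.maximalIdeal B) :
    ∃ a : A, (QCohAss.ann A a).radical = IsLocalRing.maximalIdeal A := by
  letI : Module A N := Module.compHom N φ
  haveI : Module.Flat A N := hflat
  have hsmul : ∀ (a : A) (v : N), a • v = φ a • v := fun _ _ => rfl
  have hn0 : n ≠ 0 := by
    rintro rfl
    have h1 : (1 : B) ∈ (QCohAss.ann B (0 : N)).radical :=
      Ideal.le_radical (QCohAss.mem_ann.2 (smul_zero _))
    rw [hn] at h1
    exact (IsLocalRing.maximalIdeal.isMaximal B).ne_top ((Ideal.eq_top_iff_one _).2 h1)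
  have hzd : ∀ a ∈ IsLocalRing.maximalIdeal A, a ∉ nonZeroDivisors A := by
    intro a ha hreg
    have hregN : IsSMulRegular N a := Module.Flat.isSMulRegular_of_nonZeroDivisors hreg
    have hφa : φ a ∈ IsLocalRing.maximalIdeal B :=
      (IsLocalRing.mem_maximalIdeal _).2 (fun hu =>
        (IsLocalRing.mem_maximalIdeal _).1 ha (isUnit_of_map_unit φ a hu))
    rw [← hn] at hφa
    obtain ⟨k, hk⟩ := hφa
    have h1 : (φ a) ^ k • n = 0 := QCohAss.mem_ann.1 hk
    have h2 : a ^ k • n = a ^ k • (0 : N) := by rw [smul_zero, hsmul, map_pow]; exact h1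
    exact hn0 ((hregN.pow k) h2)
  have hsub : ((IsLocalRing.maximalIdeal A : Ideal A) : Set A) ⊆
      ⋃ p ∈ associatedPrimes A A, (p : Set A) := by
    rw [biUnion_associatedPrimes_eq_compl_nonZeroDivisors]
    exact fun a ha => hzd a ha
  have hfin : (associatedPrimes A A).Finite := associatedPrimes.finite A A
  rw [← hfin.coe_toFinset] at hsub
  obtain ⟨P, hP, hle⟩ := (Ideal.subset_union_prime (f := fun p : Ideal A => p) ⊥ ⊥
    (fun p hp _ _ => (hfin.mem_toFinset.1 hp).isPrime)).1 hsub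
  have hP' : IsAssociatedPrime P A := hfin.mem_toFinset.1 hP
  have hPeq : IsLocalRing.maximalIdeal A = P :=
    (IsLocalRing.maximalIdeal.isMaximal A).eq_of_le hP'.isPrime.ne_top hle
  unfold IsAssociatedPrime at hP'
  rw [Submodule.isAssociatedPrime_def] at hP'
  obtain ⟨-, x, hx⟩ := hP'
  refine ⟨x, ?_⟩
  rw [hPeq, hx]
  congr 1
  ext r
  rw [Submodule.mem_colon_singleton, LinearMap.mem_ker, LinearMap.toSpanSingleton_apply,
    Submodule.mem_bot]

theorem locData_self {A : Type*} [CommRing A] (p : Ideal A) [p.IsPrime] (R : Type*) [CommRing R]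
    [IsLocalRing R] [Algebra A R] [IsLocalization.AtPrime R p] :
    QCohAss.LocData A p R A R (algebraMap A R).toAddMonoidHom where
  smul a m := by
    show algebraMap A R (a * m) = algebraMap A R a * algebraMap A R m
    rw [map_mul]
  ker m hm := by
    obtain ⟨c, hc⟩ := (IsLocalization.map_eq_zero_iff p.primeCompl R m).1 hm
    exact ⟨c, c.2, hc⟩
  surj n := by
    obtain ⟨⟨m, s⟩, h⟩ := IsLocalization.surj p.primeCompl n
    exact ⟨s, m, s.2, by rw [smul_eq_mul, mul_comm]; exact h⟩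

theorem minimal_mem_ass {Y : Scheme.{u}} {W : Y.Opens} (hW : IsAffineOpen W)
    (Q : PrimeSpectrum Γ(Y, W)) (hq : Q.asIdeal ∈ minimalPrimes Γ(Y, W)) :
    hW.fromSpec Q ∈ AssSch.Ass (Coh.structureModule Y) := by
  have hzW : hW.fromSpec Q ∈ W := QCohAss.fromSpec_mem hW Q
  have hQz : hW.primeIdealOf ⟨hW.fromSpec Q, hzW⟩ = Q := QCohAss.primeIdealOf_fromSpec hW Q
  have hann1 : WeakAss.ann (1 : Γ(Y, W)) = ⊥ := by
    ext b; rw [WeakAss.mem_ann, mul_one, Ideal.mem_bot]
  show Curv2.IsAssPoint _ _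
  rw [QCohAss.isAssPoint_iff_isWeakAssPoint]
  apply WeakAss.isWeakAssPoint_of_minimal hW 1 _ hzW
  rw [hQz, hann1]; exact hq

theorem aux {Y : Scheme.{u}} [IsLocallyNoetherian Y]
    (hY : AssSch.NoEmbedded (Coh.structureModule Y)) (y0 : Y) (a : Y.presheaf.stalk y0)
    (ha : (QCohAss.ann (Y.presheaf.stalk y0) a).radical =
      IsLocalRing.maximalIdeal (Y.presheaf.stalk y0)) (y : Y) (hy : y ⤳ y0) : y = y0 := by
  obtain ⟨_, ⟨W, hW, rfl⟩, hy0W, -⟩ :=
    Y.isBasis_affineOpens.exists_subset_of_mem_open (Set.mem_univ y0) isOpen_univ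
  letI := TopCat.Presheaf.algebra_section_stalk Y.presheaf (⟨y0, hy0W⟩ : W)
  haveI : IsLocalization.AtPrime (Y.presheaf.stalk y0) (hW.primeIdealOf ⟨y0, hy0W⟩).asIdeal :=
    hW.isLocalization_stalk ⟨y0, hy0W⟩
  obtain ⟨a', ha'⟩ := (locData_self (hW.primeIdealOf ⟨y0, hy0W⟩).asIdeal
    (Y.presheaf.stalk y0)).weakAss_iff.1 ⟨a, ha⟩
  have hy0Ass : y0 ∈ AssSch.Ass (Coh.structureModule Y) := by
    show Curv2.IsAssPoint _ _
    rw [QCohAss.isAssPoint_iff_isWeakAssPoint]
    exact WeakAss.isWeakAssPoint_of_minimal hW a' y0 hy0W ha'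
  have hyW : y ∈ W := hy.mem_open W.2 hy0W
  set P0 := hW.primeIdealOf ⟨y0, hy0W⟩ with hP0
  set Py := hW.primeIdealOf ⟨y, hyW⟩ with hPy
  have e0 : hW.fromSpec P0 = y0 := hW.fromSpec_primeIdealOf ⟨y0, hy0W⟩
  have ey : hW.fromSpec Py = y := hW.fromSpec_primeIdealOf ⟨y, hyW⟩
  have hle : Py.asIdeal ≤ P0.asIdeal := by
    have h1 : hW.fromSpec Py ⤳ hW.fromSpec P0 := by rw [e0, ey]; exact hy
    exact (PrimeSpectrum.le_iff_specializes _ _).2
      (hW.fromSpec.isOpenEmbedding.isInducing.specializes_iff.1 h1)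
  obtain ⟨q, hq, hqle⟩ :=
    Ideal.exists_minimalPrimes_le (bot_le : (⊥ : Ideal Γ(Y, W)) ≤ Py.asIdeal)
  haveI hqprime : q.IsPrime := hq.1.1
  set Q : PrimeSpectrum Γ(Y, W) := ⟨q, hqprime⟩ with hQ
  have hzAss := minimal_mem_ass hW Q hq
  have hzW : hW.fromSpec Q ∈ W := QCohAss.fromSpec_mem hW Q
  have hQz : hW.primeIdealOf ⟨hW.fromSpec Q, hzW⟩ = Q := QCohAss.primeIdealOf_fromSpec hW Q
  have hzy0 : hW.fromSpec Q ⤳ y0 := by
    apply QCohAss.specializes_of_le hW y0 _ hy0W hzW
    rw [hQz]; exact hqle.trans hle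
  have h0z : y0 = hW.fromSpec Q := hY y0 hy0Ass _ hzAss hzy0
  have hP0Q : P0 = Q := hW.fromSpec.isOpenEmbedding.injective (e0.trans h0z)
  have hP0y : Py = P0 := by
    apply PrimeSpectrum.ext
    apply le_antisymm hle
    rw [hP0Q]; exact hqle
  rw [← ey, hP0y, e0]

theorem result' {X Y : Scheme.{u}} (f : X ⟶ Y) [IsLocallyNoetherian X]
    [IsLocallyNoetherian Y] (hY : AssSch.NoEmbedded (Coh.structureModule Y)) (F : X.Modules)
    (hfl : FlatMod.IsFlatOver f F) (x : X) (hx : x ∈ AssSch.Ass F) (y : Y) (hy : y ⤳ f x) :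
    y = f x := by
  have hx' : Curv2.IsWeakAssPoint F x := (QCohAss.isAssPoint_iff_isWeakAssPoint F x).1 hx
  obtain ⟨n, hn⟩ := hx'
  obtain ⟨a, ha⟩ := exists_radical_ann_eq (f.stalkMap x).hom (F.presheaf.stalk x) (hfl x) n hn
  exact aux hY (f x) a ha y hy



/-- Let f : X → Y be a morphism of locally Noetherian schemes such that Y has no embedded associated
points, and let F be a quasi-coherent O_X-module which is flat over Y. Then for every associated
point x of F, f(x) is a maximal point of Y (every point of Y specialising to f(x) equals f(x)). (The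
published statement assumes only Y locally Noetherian; X is taken locally Noetherian here so that
associated points are those whose maximal ideal is an annihilator.) -/
theorem result {X Y : Scheme.{u}} (f : X ⟶ Y) [IsLocallyNoetherian X]
    [IsLocallyNoetherian Y] (hY : AssSch.NoEmbedded (Coh.structureModule Y)) (F : X.Modules) (hF : Coh.IsQCoh F)
    (hfl : FlatMod.IsFlatOver f F) (x : X) (hx : x ∈ AssSch.Ass F) (y : Y) (hy : y ⤳ f x) : y = f x := by
  exact Groth.Agent.S4641.result' f hY F hfl x hx y hy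

end Groth.Agent.S4641
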