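import Groth.Statements.S4643
import Groth.Agent.Lib.Helper5.FlatLocalDimAdd

set_option autoImplicit false
open CategoryTheory AlgebraicGeometry
universe u
open FBase

namespace Groth.Agent.S4643

open CategoryTheory.Limits in
/-- Let X and Y be schemes locally of finite type over a field k. Then the dimension of X ×_k Y is the
sum of the dimensions of X and Y (Krull dimensions of the underlying spaces, valued in WithBot ℕ∞,
the empty scheme having dimension ⊥). -/
theorem result {k : Type u} [Field k] {X Y : Scheme.{u}}
    (f : X ⟶ Spec (CommRingCat.of k)) (g : Y ⟶ Spec (CommRingCat.of k)) [LocallyOfFiniteType f] [LocallyOfFiniteType g] :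
    topologicalKrullDim ↥(pullback f g) = topologicalKrullDim ↥X + topologicalKrullDim ↥Y := by
  classical
  rw [Groth.Agent.Lib.helper5.FieldBC.dim_eq_iSup_localDim ↥(pullback f g)]
  have hnonneg : ∀ (T : Type u) [TopologicalSpace T] (t : T), (0 : WithBot ℕ∞) ≤ FlatMor.localDim T t := by
    intro T _ t
    unfold FlatMor.localDim
    refine le_iInf fun U => ?_
    haveI : Nonempty ↥(U.1 : Set T) := ⟨⟨t, U.2⟩⟩
    exact Groth.Agent.Lib.helper3.TopDim.dim_nonneg
  apply le_antisymm
  · refine iSup_le fun t => ?_
    rw [Groth.Agent.Lib.helper5.FieldBC.localDim_pullback_eq_add k f g t]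
    exact add_le_add (Groth.Agent.Lib.helper3.TopDim.localDim_le_dim _)
      (Groth.Agent.Lib.helper3.TopDim.localDim_le_dim _)
  · rcases isEmpty_or_nonempty ↥X with hX | hX
    · have : topologicalKrullDim ↥X = ⊥ := by
        unfold topologicalKrullDim
        haveI : IsEmpty (TopologicalSpace.IrreducibleCloseds ↥X) :=
          ⟨fun Z => hX.elim Z.isIrreducible.nonempty.some⟩
        exact Order.krullDim_eq_bot
      rw [this, WithBot.bot_add]
      exact bot_le
    rcases isEmpty_or_nonempty ↥Y with hY | hY
    · have : topologicalKrullDim ↥Y = ⊥ := by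
        unfold topologicalKrullDim
        haveI : IsEmpty (TopologicalSpace.IrreducibleCloseds ↥Y) :=
          ⟨fun Z => hY.elim Z.isIrreducible.nonempty.some⟩
        exact Order.krullDim_eq_bot
      rw [this, WithBot.add_bot]
      exact bot_le
    rw [Groth.Agent.Lib.helper5.FieldBC.dim_eq_iSup_localDim ↥X,
      Groth.Agent.Lib.helper5.FieldBC.dim_eq_iSup_localDim ↥Y]
    -- express the local dimensions as elements of `ℕ∞`
    have hex : ∀ (T : Type u) [TopologicalSpace T] (t : T), ∃ a : ℕ∞, FlatMor.localDim T t = (a : WithBot ℕ∞) := by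
      intro T _ t
      have h0 := hnonneg T t
      have hne : FlatMor.localDim T t ≠ ⊥ := by
        intro h
        rw [h] at h0
        exact absurd h0 (by simp)
      exact ⟨_, (WithBot.coe_unbot _ hne).symm⟩
    choose a ha using fun x : ↥X => hex ↥X x
    choose b hb using fun y : ↥Y => hex ↥Y y
    simp_rw [ha, hb]
    rw [← WithBot.coe_iSup (OrderTop.bddAbove _), ← WithBot.coe_iSup (OrderTop.bddAbove _),
      ← WithBot.coe_add, ENat.iSup_add]
    simp_rw [ENat.add_iSup]
    rw [WithBot.coe_iSup (OrderTop.bddAbove _)]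
    refine iSup_le fun x => ?_
    rw [WithBot.coe_iSup (OrderTop.bddAbove _)]
    refine iSup_le fun y => ?_
    obtain ⟨t, ht1, ht2⟩ := Scheme.Pullback.exists_preimage_pullback (f := f) (g := g) x y
      (Subsingleton.elim (α := PrimeSpectrum k) _ _)
    refine le_trans (le_of_eq ?_) (le_iSup (fun t : ↥(pullback f g) => FlatMor.localDim ↥(pullback f g) t) t)
    rw [Groth.Agent.Lib.helper5.FieldBC.localDim_pullback_eq_add k f g t, ht1, ht2, ha, hb]
    push_cast
    rfl

end Groth.Agent.S4643
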