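import Groth.Statements.S4644
import Mathlib
import Groth.Agent.Lib.Helper3.NowhereDenseGen
import Groth.Agent.Lib.Helper2.IM7
import Groth.Agent.Lib.Helper3.ProperIsolDim
import Groth.Agent.Lib.Helper8.DimLt
-- import your own Groth.Agent.* helpers here

set_option autoImplicit false
open CategoryTheory AlgebraicGeometry
universe u
open FBase

namespace Groth.Agent.S4644

/-! The next five lemmas are copies of helper20's `GenericZero` lemmas (kept here to keep the import
closure small). -/

lemma le_of_add_one_le_succ {a : WithBot ℕ∞} {r : ℕ}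
    (h : a + 1 ≤ ((r + 1 : ℕ) : WithBot ℕ∞)) : a ≤ (r : WithBot ℕ∞) := by
  induction a using WithBot.recBotCoe with
  | bot => exact bot_le
  | coe y =>
    induction y using ENat.recTopCoe with
    | top =>
      exfalso
      have h1 : ((⊤ : ℕ∞) : WithBot ℕ∞) + 1 = ((⊤ : ℕ∞) : WithBot ℕ∞) := by
        rw [← WithBot.coe_one, ← WithBot.coe_add, top_add]
      rw [h1] at h
      have h2 : ((⊤ : ℕ∞) : WithBot ℕ∞) ≤ (((r + 1 : ℕ) : ℕ∞) : WithBot ℕ∞) := by exact_mod_cast h
      rw [WithBot.coe_le_coe] at h2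
      exact absurd h2 (by simp)
    | coe n =>
      have h2 : ((n + 1 : ℕ) : WithBot ℕ∞) ≤ ((r + 1 : ℕ) : WithBot ℕ∞) := by exact_mod_cast h
      have h3 : n + 1 ≤ r + 1 := by exact_mod_cast h2
      exact_mod_cast (show n ≤ r by omega)

lemma eq_bot_of_add_one_le_zero {a : WithBot ℕ∞}
    (h : a + 1 ≤ ((0 : ℕ) : WithBot ℕ∞)) : a = ⊥ := by
  induction a using WithBot.recBotCoe with
  | bot => rfl
  | coe y =>
    exfalso
    have h1 : ((y + 1 : ℕ∞) : WithBot ℕ∞) ≤ ((0 : ℕ∞) : WithBot ℕ∞) := by exact_mod_cast h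
    rw [WithBot.coe_le_coe] at h1
    simp at h1

theorem dim_component_add_one_le_of_no_generic {T : Type u} [TopologicalSpace T] [QuasiSober T]
    (r : ℕ)
    (heq : ∀ C ∈ irreducibleComponents T, topologicalKrullDim ↥C ≤ (r : WithBot ℕ∞))
    (Z : Set T) (hZ : IsClosed Z)
    (hgen : ∀ x : T, closure ({x} : Set T) ∈ irreducibleComponents T → x ∉ Z) :
    ∀ W ∈ irreducibleComponents ↥Z, topologicalKrullDim ↥W + 1 ≤ (r : WithBot ℕ∞) := by
  intro W hW
  have hWirr : IsIrreducible W := hW.1
  have hWcl : IsClosed W := isClosed_of_mem_irreducibleComponents W hW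
  let W' : Set T := Subtype.val '' W
  have hW'irr : IsIrreducible W' := hWirr.image _ continuous_subtype_val.continuousOn
  have hW'cl : IsClosed W' := (hZ.isClosedEmbedding_subtypeVal.isClosedMap) W hWcl
  have hW'Z : W' ⊆ Z := by
    rintro _ ⟨w, -, rfl⟩
    exact w.2
  obtain ⟨C, hC, hWC, hmax⟩ := exists_preirreducible W' hW'irr.isPreirreducible
  obtain ⟨z, hz⟩ := hW'irr.nonempty
  have hCirr : IsIrreducible C := ⟨⟨z, hWC hz⟩, hC⟩
  have hCmem : C ∈ irreducibleComponents T := by
    rw [irreducibleComponents, Set.mem_ofPred_eq]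
    exact ⟨hCirr, fun u hu hCu => (hmax u hu.isPreirreducible hCu).le⟩
  have hCcl : IsClosed C := isClosed_of_mem_irreducibleComponents C hCmem
  obtain ⟨ξ, hξ⟩ := QuasiSober.sober hCirr hCcl
  have hξC : closure ({ξ} : Set T) = C := hξ
  have hξZ : ξ ∉ Z := hgen ξ (by rw [hξC]; exact hCmem)
  have hne : W' ≠ C := by
    intro h
    apply hξZ
    apply hW'Z
    rw [h, ← hξC]
    exact subset_closure rfl
  have h1 := Groth.Agent.Lib.helper8.DimLt.topologicalKrullDim_add_one_le hWC hW'cl hCirr hne
  have h2 : topologicalKrullDim ↥W ≤ topologicalKrullDim ↥W' := by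
    let g : ↥W → ↥W' := fun w => ⟨w.1.1, ⟨w.1, w.2, rfl⟩⟩
    have hg : Topology.IsInducing g := by
      have h3 : Topology.IsInducing (fun w : ↥W => (w.1.1 : T)) :=
        Topology.IsInducing.subtypeVal.comp Topology.IsInducing.subtypeVal
      have hgc : Continuous g :=
        (continuous_subtype_val.comp continuous_subtype_val).subtype_mk _
      exact Topology.IsInducing.of_comp (f := g) (g := Subtype.val) hgc
        continuous_subtype_val h3
    exact hg.topologicalKrullDim_le
  exact (add_le_add_left h2 1).trans (h1.trans (heq C hCmem))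

theorem dim_lt_of_no_generic {T : Type u} [TopologicalSpace T] [QuasiSober T] (r : ℕ)
    (heq : ∀ C ∈ irreducibleComponents T, topologicalKrullDim ↥C ≤ (r : WithBot ℕ∞))
    (Z : Set T) (hZ : IsClosed Z)
    (hgen : ∀ x : T, closure ({x} : Set T) ∈ irreducibleComponents T → x ∉ Z) :
    topologicalKrullDim ↥Z < (r : WithBot ℕ∞) := by
  cases r with
  | zero =>
    refine lt_of_le_of_lt (b := (⊥ : WithBot ℕ∞)) ?_ (WithBot.bot_lt_coe _)
    exact Groth.Agent.Lib.helper3.ProperIsolDim.dim_le_of_irreducibleComponents ⊥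
      (fun W hW => (eq_bot_of_add_one_le_zero
        (dim_component_add_one_le_of_no_generic 0 heq Z hZ hgen W hW)).le)
  | succ r' =>
    refine lt_of_le_of_lt (b := ((r' : ℕ) : WithBot ℕ∞)) ?_ (by exact_mod_cast Nat.lt_succ_self r')
    exact Groth.Agent.Lib.helper3.ProperIsolDim.dim_le_of_irreducibleComponents _
      (fun W hW => le_of_add_one_le_succ
        (dim_component_add_one_le_of_no_generic (r' + 1) heq Z hZ hgen W hW))

open Groth.Agent.Lib.helper3.FTField Groth.Agent.Lib.helper3.DimIneq Groth.Agent.Lib.helper2.IM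

theorem main {k : Type u} [Field k] {Y : Scheme.{u}} [Nonempty ↥Y]
    (g : Y ⟶ Spec (CommRingCat.of k)) [LocallyOfFiniteType g]
    (heq : ∀ T ∈ irreducibleComponents ↥Y, topologicalKrullDim ↥T = topologicalKrullDim ↥Y)
    (Z : Set ↥Y) (hZ : IsLocallyClosed Z) :
    IsNowhereDense Z ↔ topologicalKrullDim ↥Z < topologicalKrullDim ↥Y := by
  letI : Y.Over (Spec (CommRingCat.of k)) := ⟨g⟩
  haveI : LocallyOfFiniteType (Y ↘ Spec (CommRingCat.of k)) := ‹LocallyOfFiniteType g›
  haveI : IsLocallyNoetherian Y := LocallyOfFiniteType.isLocallyNoetherian g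
  haveI : JacobsonSpace Y := LocallyOfFiniteType.jacobsonSpace g
  -- the dimension is a natural number
  obtain ⟨n, hn⟩ : ∃ n : ℕ, topologicalKrullDim ↥Y = (n : WithBot ℕ∞) := by
    obtain ⟨y⟩ := ‹Nonempty ↥Y›
    have hT := irreducibleComponent_mem_irreducibleComponents y
    obtain ⟨ξ, hξ⟩ := QuasiSober.sober (isIrreducible_irreducibleComponent (x := y))
      isClosed_irreducibleComponent
    have hξ' : closure ({ξ} : Set Y) = irreducibleComponent y := hξ
    obtain ⟨n, hn⟩ := exists_nat_trdeg_residueField k Y ξ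
    have h1 := dim_closure_eq_trdeg k Y ξ n hn
    rw [hξ', heq _ hT] at h1
    exact ⟨n, h1⟩
  have hP : ∀ T : Set ↥Y, T ∈ irreducibleComponents ↥Y →
      topologicalKrullDim ↥T = (n : WithBot ℕ∞) := fun T hT => (heq T hT).trans hn
  constructor
  · intro hnd
    have hgen : ∀ x : Y, closure ({x} : Set Y) ∈ irreducibleComponents Y → x ∉ closure Z := by
      intro x hx hxC
      have hmax : ∀ t : Y, t ⤳ x → t = x := by
        intro t ht
        have h1 : closure ({x} : Set Y) ⊆ closure {t} :=
          closure_minimal (Set.singleton_subset_iff.mpr (specializes_iff_mem_closure.mp ht))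
            isClosed_closure
        have h2 : closure ({t} : Set Y) ⊆ closure {x} :=
          hx.2 (isIrreducible_singleton.closure) h1
        have h3 : x ⤳ t := specializes_iff_mem_closure.mpr (h2 (subset_closure rfl))
        exact (ht.antisymm h3).eq
      obtain ⟨w, hw⟩ := Groth.Agent.Lib.helper3.NowhereDenseGen.interior_nonempty_of_maximal_point
        x hmax (closure Z) isClosed_closure hxC
      have h0 : interior (closure Z) = ∅ := hnd
      rw [h0] at hw
      exact hw
    have h1 := dim_lt_of_no_generic n (fun C hC => (hP C hC).le) (closure Z) isClosed_closure hgen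
    rw [hn]
    exact lt_of_le_of_lt (Groth.Agent.Lib.helper3.TopDim.dim_mono subset_closure) h1
  · intro hlt
    by_contra hnd
    -- a nonempty open subset of `Y` contained in `Z`
    obtain ⟨x, hx⟩ : (interior (closure Z)).Nonempty := Set.nonempty_iff_ne_empty.mpr hnd
    obtain ⟨U, F, hU, hF, rfl⟩ := hZ
    have hclF : closure (U ∩ F) ⊆ F := closure_minimal Set.inter_subset_right hF
    obtain ⟨z, hz1, hz2⟩ : (interior (closure (U ∩ F)) ∩ (U ∩ F)).Nonempty :=
      mem_closure_iff.mp (interior_subset hx) _ isOpen_interior hx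
    let W : Y.Opens := ⟨interior (closure (U ∩ F)) ∩ U, isOpen_interior.inter hU⟩
    have hWZ : (W : Set Y) ⊆ U ∩ F := fun w hw => ⟨hw.2, hclF (interior_subset hw.1)⟩
    have hzW : z ∈ (W : Set Y) := ⟨hz1, hz2.1⟩
    obtain ⟨y, hyW, hycl⟩ := nonempty_inter_closedPoints ⟨z, hzW⟩ W.2.isLocallyClosed
    have hycl' : IsClosed ({y} : Set Y) := hycl
    have h1 := le_ringKrullDim_stalk_add_dim_closure k Y n hP y
    have h2 : topologicalKrullDim ↥(closure ({y} : Set Y)) ≤ 0 := by
      rw [hycl'.closure_eq]
      exact topologicalKrullDim_zero_of_discreteTopology _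
    have h3 : (n : WithBot ℕ∞) ≤ ringKrullDim (Y.presheaf.stalk y) :=
      h1.trans ((add_le_add_right h2 _).trans (by rw [add_zero]))
    have h4 : ringKrullDim (Y.presheaf.stalk y) ≤ topologicalKrullDim ((W.1 : Set Y)) := by
      rw [dim_opens_eq_iSup_stalk W]
      exact le_iSup (fun y : W => ringKrullDim (Y.presheaf.stalk y.1)) ⟨y, hyW⟩
    have h5 : topologicalKrullDim ((W.1 : Set Y)) ≤ topologicalKrullDim ↥(U ∩ F) :=
      Groth.Agent.Lib.helper3.TopDim.dim_mono hWZ
    rw [hn] at hlt
    exact absurd (h3.trans (h4.trans h5)) (not_le.mpr hlt)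


/-- Let Y be a nonempty scheme locally of finite type over a field k whose irreducible components all
have the same dimension, and let Z be a locally closed subset of Y (the underlying set of a
subscheme). Then Z is nowhere dense in Y if and only if dim Z < dim Y. (For Y empty the left side
holds and the right side fails, so Y is taken nonempty; dimensions are Krull dimensions of the
underlying spaces.) -/
theorem result {k : Type u} [Field k] {Y : Scheme.{u}} [Nonempty ↥Y]
    (g : Y ⟶ Spec (CommRingCat.of k)) [LocallyOfFiniteType g]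
    (heq : ∀ T ∈ irreducibleComponents ↥Y, topologicalKrullDim ↥T = topologicalKrullDim ↥Y)
    (Z : Set ↥Y) (hZ : IsLocallyClosed Z) :
    IsNowhereDense Z ↔ topologicalKrullDim ↥Z < topologicalKrullDim ↥Y := by
  exact main g heq Z hZ

end Groth.Agent.S4644
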