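import Groth.Statements.S4645
import Mathlib
import Groth.Agent.Lib.Helper3.ResFieldBC
import Groth.Agent.Lib.Helper3.FinGalois
import Groth.Agent.Lib.Helper3.ClopenComp
import Groth.Agent.Lib.Helper3.ConnPreimage
import Groth.Agent.Lib.Helper3.GenericFibre
import Groth.Agent.Lib.Helper3.SepClosedIn

set_option autoImplicit false
open CategoryTheory AlgebraicGeometry
universe u
open FBase

namespace Groth.Agent.S4645

open scoped TensorProduct

theorem finite_fibre {k : Type u} [Field k] {X : Scheme.{u}} (f : X ⟶ Spec (CommRingCat.of k))
    (x : X) (L : Type u) [Field L] [Algebra k L] [Module.Finite k L]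
    [Algebra k (X.residueField x)]
    (hφ : X.fromSpecResidueField x ≫ f =
      Spec.map (CommRingCat.ofHom (algebraMap k (X.residueField x)))) :
    ((Limits.pullback.fst f (Spec.map (CommRingCat.ofHom (algebraMap k L)))) ⁻¹' {x}).Finite := by
  have h1 : Module.Finite (X.residueField x) ((X.residueField x) ⊗[k] L) := inferInstance
  have h2 : IsArtinianRing ((X.residueField x) ⊗[k] L) :=
    IsArtinianRing.of_finite (X.residueField x) _
  have hfin : Finite (PrimeSpectrum ((X.residueField x) ⊗[k] L)) := inferInstance
  have hsub : (Limits.pullback.fst f (Spec.map (CommRingCat.ofHom (algebraMap k L)))) ⁻¹' {x} ⊆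
      Set.range (Groth.Agent.Lib.helper3.ResFieldBC.toBC f x L hφ) := fun ξ' hξ' =>
    Groth.Agent.Lib.helper3.ResFieldBC.exists_toBC_eq f x L hφ ξ' hξ'
  exact (Set.finite_range _).subset hsub

/-- Let X be a scheme over a field k with finitely many connected components, each of which contains a
point x such that the separable algebraic closure of k in κ(x) has finite degree over k. Then there
is a finite separable extension k'' of k such that all connected components of X ⊗_k k'' are
geometrically connected over k'': for every extension field K of k'' and every point x' of X ⊗_k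
k'', the inverse image in (X ⊗_k k'') ⊗_{k''} K of the connected component of x' is connected. -/
theorem result {k : Type u} [Field k] {X : Scheme.{u}}
    (f : X ⟶ Spec (CommRingCat.of k)) [Finite (_root_.ConnectedComponents ↥X)]
    (hx : ∀ c : _root_.ConnectedComponents ↥X, ∃ x : X, _root_.ConnectedComponents.mk x = c ∧
      FBase.ResidueFieldProp f x (fun K _ _ => FiniteDimensional k (separableClosure k K))) :
    ∃ (k'' : Type u) (_ : Field k'') (_ : Algebra k k''), FiniteDimensional k k'' ∧ Algebra.IsSeparable k k'' ∧
      ∀ (K : Type u) [Field K] [Algebra k'' K] (x' : ↥(FBase.bc f k'')),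
        _root_.IsConnected (⇑(FBase.bcπ (FBase.bcStr f k'') K) ⁻¹' connectedComponent x') := by
  classical
  choose x hxc hxp using hx
  have hx' : ∀ c : _root_.ConnectedComponents ↥X, ∃ φ : k →+* X.residueField (x c),
      Spec.map (CommRingCat.ofHom φ) = X.fromSpecResidueField (x c) ≫ f ∧
      (letI := φ.toAlgebra; FiniteDimensional k (separableClosure k (X.residueField (x c)))) := hxp
  choose φ hφ hfin using hx'
  obtain ⟨L, instL, algL, hL1, hL2, hL3⟩ :=
    @Groth.Agent.Lib.helper3.FinGalois.exists_finite_galois k _ (_root_.ConnectedComponents ↥X) _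
    (fun c => ↥(@separableClosure k (X.residueField (x c)) _ _ (φ c).toAlgebra))
    (fun c => inferInstance)
    (fun c => by letI := (φ c).toAlgebra; exact inferInstance)
    (fun c => hfin c)
    (fun c => by letI := (φ c).toAlgebra; exact inferInstance)
  refine ⟨L, instL, algL, hL1, inferInstance, ?_⟩
  intro K _ _ y
  change ↥(Limits.pullback f (Spec.map (CommRingCat.ofHom (algebraMap k L)))) at y
  change _root_.IsConnected (⇑(Limits.pullback.fst (Limits.pullback.snd f
    (Spec.map (CommRingCat.ofHom (algebraMap k L))))
    (Spec.map (CommRingCat.ofHom (algebraMap L K)))) ⁻¹' connectedComponent y)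
  -- a point of the component of `y` over `x c`
  let c : _root_.ConnectedComponents ↥X := _root_.ConnectedComponents.mk
    ((Limits.pullback.fst f (Spec.map (CommRingCat.ofHom (algebraMap k L)))) y)
  have hC : IsClopen (connectedComponent
      ((Limits.pullback.fst f (Spec.map (CommRingCat.ofHom (algebraMap k L)))) y)) :=
    Groth.Agent.Lib.helper3.ClopenComp.isClopen_connectedComponent_of_finite _
  have hxcC : x c ∈ connectedComponent
      ((Limits.pullback.fst f (Spec.map (CommRingCat.ofHom (algebraMap k L)))) y) := by
    have h1 := hxc c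
    rw [ConnectedComponents.coe_eq_coe] at h1
    rw [← h1]
    exact mem_connectedComponent
  letI : Algebra k (X.residueField (x c)) := (φ c).toAlgebra
  have halg : Algebra.IsAlgebraic k L := Algebra.IsAlgebraic.of_finite k L
  have hmeet : ∀ U : Set ↥(Limits.pullback f (Spec.map (CommRingCat.ofHom (algebraMap k L)))),
      IsClopen U → U ⊆ (Limits.pullback.fst f (Spec.map (CommRingCat.ofHom (algebraMap k L)))) ⁻¹'
        connectedComponent ((Limits.pullback.fst f
          (Spec.map (CommRingCat.ofHom (algebraMap k L)))) y) → U.Nonempty →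
      (U ∩ (Limits.pullback.fst f (Spec.map (CommRingCat.ofHom (algebraMap k L)))) ⁻¹'
        {x c}).Nonempty := by
    intro U hU hUA hUne
    have himg : IsClopen ((Limits.pullback.fst f
        (Spec.map (CommRingCat.ofHom (algebraMap k L)))) '' U) :=
      ⟨Groth.Agent.Lib.helper3.GeomAlg.isClosedMap_fst_of_isAlgebraic f L U hU.1,
        Groth.Agent.Lib.helper3.GeomConnPt.isOpenMap_fst_specMap f L U hU.2⟩
    obtain ⟨u, hu⟩ := hUne
    have h1 : connectedComponent ((Limits.pullback.fst f
        (Spec.map (CommRingCat.ofHom (algebraMap k L)))) y) ⊆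
        (Limits.pullback.fst f (Spec.map (CommRingCat.ofHom (algebraMap k L)))) '' U :=
      isPreconnected_connectedComponent.subset_isClopen himg ⟨_, hUA hu, ⟨u, hu, rfl⟩⟩
    obtain ⟨u', hu'U, hu'x⟩ := h1 hxcC
    exact ⟨u', hu'U, hu'x⟩
  obtain ⟨hclopen, y₀, hy₀C, hy₀F⟩ :=
    Groth.Agent.Lib.helper3.ClopenComp.isClopen_connectedComponent_of_finite_meets
      (hC.preimage (Scheme.Hom.continuous _))
      (finite_fibre f (x c) L (hφ c).symm) hmeet (y := y) mem_connectedComponent
  -- `L` is separably closed in `κ(y₀)`
  let ψ : L →+* (Limits.pullback f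
      (Spec.map (CommRingCat.ofHom (algebraMap k L)))).residueField y₀ :=
    (Spec.preimage ((Limits.pullback f
      (Spec.map (CommRingCat.ofHom (algebraMap k L)))).fromSpecResidueField y₀ ≫
        Limits.pullback.snd f (Spec.map (CommRingCat.ofHom (algebraMap k L))))).hom
  have hψ : Spec.map (CommRingCat.ofHom ψ) =
      (Limits.pullback f (Spec.map (CommRingCat.ofHom (algebraMap k L)))).fromSpecResidueField y₀ ≫
        Limits.pullback.snd f (Spec.map (CommRingCat.ofHom (algebraMap k L))) :=
    Spec.map_preimage _
  letI : Algebra L ((Limits.pullback f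
      (Spec.map (CommRingCat.ofHom (algebraMap k L)))).residueField y₀) := ψ.toAlgebra
  have hsc : separableClosure L ((Limits.pullback f
      (Spec.map (CommRingCat.ofHom (algebraMap k L)))).residueField y₀) = ⊥ :=
    Groth.Agent.Lib.helper3.ResFieldBC.separableClosure_residueField_eq_bot f (x c) L
      (hφ c).symm (hL3 c).some y₀ hy₀F hψ.symm
  have hirr : IsIrreducible ((Limits.pullback.fst (Limits.pullback.snd f
      (Spec.map (CommRingCat.ofHom (algebraMap k L))))
      (Spec.map (CommRingCat.ofHom (algebraMap L (SeparableClosure L))))) ⁻¹' {y₀}) := by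
    rw [Groth.Agent.Lib.helper3.GenericFibre.isIrreducible_preimage_singleton_iff
      (Limits.pullback.snd f (Spec.map (CommRingCat.ofHom (algebraMap k L)))) y₀ ψ hψ
      (SeparableClosure L)]
    exact Groth.Agent.Lib.helper3.SepClosedIn.geomIrr_of_separableClosure_eq_bot hsc
      (SeparableClosure L)
  have h1 : _root_.IsConnected ((Limits.pullback.fst (Limits.pullback.snd f
      (Spec.map (CommRingCat.ofHom (algebraMap k L))))
      (Spec.map (CommRingCat.ofHom (algebraMap L (SeparableClosure L))))) ⁻¹'
        connectedComponent y) :=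
    Groth.Agent.Lib.helper3.ConnPreimage.isConnected_preimage_of_isAlgebraic
      (Limits.pullback.snd f (Spec.map (CommRingCat.ofHom (algebraMap k L)))) (SeparableClosure L)
      isConnected_connectedComponent hirr.isConnected.isPreconnected
      (Set.preimage_mono (Set.singleton_subset_iff.mpr hy₀C)) hy₀C subset_rfl
  exact Groth.Agent.Lib.helper3.ConnPreimage.isConnected_preimage_of_sepClosed
    (Limits.pullback.snd f (Spec.map (CommRingCat.ofHom (algebraMap k L)))) (SeparableClosure L) h1 K

end Groth.Agent.S4645
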