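import Groth.Statements.S4647
import Mathlib

set_option autoImplicit false
open CategoryTheory AlgebraicGeometry
universe u
open FDesc

namespace Groth.Agent.S4647

theorem eq_of_specializes_generic {Y : Type*} [TopologicalSpace Y] [T0Space Y] (y : Y)
    (hy : closure {y} ∈ irreducibleComponents Y) (w : Y) (hw : w ⤳ y) : w = y := by
  have h1 : closure {y} ⊆ closure {w} := hw.closure_subset
  have h2 : closure {w} ⊆ closure {y} := hy.2 (isIrreducible_singleton.closure) h1
  have h3 : y ⤳ w := by
    rw [specializes_iff_closure_subset]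
    exact h2
  exact (hw.antisymm h3).eq

theorem exists_generic (Y : Scheme.{u}) (y : Y) [IsDomain (Y.presheaf.stalk y)] :
    ∃ g : Y, g ⤳ y ∧ ∀ w : Y, w ⤳ y → g ⤳ w := by
  refine ⟨(Y.fromSpecStalk y) ⟨⊥, Ideal.isPrime_bot⟩, ?_, ?_⟩
  · have : (Y.fromSpecStalk y) ⟨⊥, Ideal.isPrime_bot⟩ ∈ Set.range (Y.fromSpecStalk y) := ⟨_, rfl⟩
    rw [Scheme.range_fromSpecStalk] at this
    exact this
  · intro w hw
    obtain ⟨p, rfl⟩ : w ∈ Set.range (Y.fromSpecStalk y) := by
      rw [Scheme.range_fromSpecStalk]; exact hw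
    apply Specializes.map _ (Y.fromSpecStalk y).continuous
    have : (⟨⊥, Ideal.isPrime_bot⟩ : PrimeSpectrum (Y.presheaf.stalk y)) ⤳ (p : PrimeSpectrum _) := by
      rw [← PrimeSpectrum.le_iff_specializes]
      exact bot_le (a := p.asIdeal)
    exact this

open TopologicalSpace in
theorem exists_open_generic {T : Type*} [TopologicalSpace T] [T0Space T] [QuasiSober T]
    (U : Set T) (hUo : IsOpen U) (hU : NoetherianSpace ↥U) (y : T) (hyU : y ∈ U) (g : T)
    (hgy : g ⤳ y) (hg : ∀ w : T, w ⤳ y → g ⤳ w) :
    ∃ V : Set T, y ∈ V ∧ IsOpen V ∧ ∀ w ∈ V, g ⤳ w := by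
  classical
  haveI : QuasiSober ↥U := hUo.isOpenEmbedding_subtypeVal.quasiSober
  have hfin := NoetherianSpace.finite_irreducibleComponents (α := ↥U)
  set y' : ↥U := ⟨y, hyU⟩ with hy'
  have hgU : g ∈ U := hgy.mem_open hUo hyU
  set g' : ↥U := ⟨g, hgU⟩ with hg'
  let B : Set ↥U := ⋃ C ∈ {C ∈ irreducibleComponents ↥U | y' ∉ C}, C
  have hBc : IsClosed B := (hfin.subset (Set.sep_subset _ _)).isClosed_biUnion
    (fun C hC => isClosed_of_mem_irreducibleComponents C hC.1)
  refine ⟨Subtype.val '' Bᶜ, ⟨y', ?_, rfl⟩, hUo.isOpenEmbedding_subtypeVal.isOpenMap _ hBc.isOpen_compl, ?_⟩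
  · simp only [B, Set.mem_compl_iff, Set.mem_iUnion, not_exists]
    intro C hC hyC
    exact hC.2 hyC
  · rintro _ ⟨w', hw', rfl⟩
    have hirr := isIrreducible_irreducibleComponent (x := w')
    have hgp := hirr.isGenericPoint_genericPoint isClosed_irreducibleComponent
    have hyC : y' ∈ irreducibleComponent w' := by
      by_contra hcon
      apply hw'
      simp only [B, Set.mem_iUnion]
      exact ⟨irreducibleComponent w', ⟨irreducibleComponent_mem_irreducibleComponents w', hcon⟩,
        mem_irreducibleComponent⟩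
    have h1 : hirr.genericPoint ⤳ y' := hgp.specializes hyC
    have h2 : (hirr.genericPoint : T) ⤳ y := h1.map continuous_subtype_val
    have h3 : g ⤳ (hirr.genericPoint : T) := hg _ h2
    have h4 : g' ⤳ hirr.genericPoint := by
      exact Topology.IsInducing.subtypeVal.specializes_iff.mp h3
    have h5 : g' = hirr.genericPoint := by
      apply eq_of_specializes_generic _ _ _ h4
      rw [hgp.def]
      exact irreducibleComponent_mem_irreducibleComponents w'
    have h6 : hirr.genericPoint ⤳ w' := hgp.specializes mem_irreducibleComponent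
    rw [← h5] at h6
    exact h6.map continuous_subtype_val


/-- Let f : X → Y be a faithfully flat (flat and surjective) morphism. If all local rings of X are
domains (in particular if X is locally integral) and the underlying space of Y is locally
Noetherian, then Y is locally integral: every point of Y has an open neighbourhood which is an
integral scheme. -/
theorem result {X Y : Scheme.{u}} (f : X ⟶ Y) [Flat f] [Surjective f]
    (hX : ∀ x : X, IsDomain ↑(X.presheaf.stalk x))
    (hY : ∀ y : Y, ∃ U : Y.Opens, y ∈ U ∧ TopologicalSpace.NoetherianSpace ↥U) (y : Y) :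
    ∃ U : Y.Opens, y ∈ U ∧ IsIntegral (U : Scheme.{u}) := by
  -- stalks of Y are domains
  have hYdom : ∀ y : Y, IsDomain (Y.presheaf.stalk y) := by
    intro y
    obtain ⟨x, rfl⟩ := f.surjective y
    have hinj : Function.Injective (f.stalkMap x).hom := by
      algebraize [(f.stalkMap x).hom]
      have : Module.FaithfullyFlat (Y.presheaf.stalk (f x)) (X.presheaf.stalk x) :=
        @Module.FaithfullyFlat.of_flat_of_isLocalHom _ _ _ _ _ _ _
          (Flat.stalkMap f x) (f.toLRSHom.prop x)
      exact ‹RingHom.FaithfullyFlat _›.injective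
    haveI := hX x
    exact hinj.isDomain _
  haveI : IsReduced Y := by
    haveI : ∀ y, _root_.IsReduced (Y.presheaf.stalk y) := fun y => by
      haveI := hYdom y
      infer_instance
    exact isReduced_of_isReduced_stalk Y
  obtain ⟨U, hyU, hU⟩ := hY y
  haveI := hYdom y
  obtain ⟨g, hgy, hg⟩ := exists_generic Y y
  obtain ⟨V, hyV, hV⟩ := exists_open_generic (T := Y) U.1 U.2 hU y hyU g hgy hg
  refine ⟨⟨V, hV.1⟩, hyV, ?_⟩
  have hgV : g ∈ V := hgy.mem_open hV.1 hyV
  have hirrV : IrreducibleSpace ↥(⟨V, hV.1⟩ : Y.Opens) := by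
    rw [irreducibleSpace_def, Set.top_eq_univ]
    have : (Set.univ : Set ↥(⟨V, hV.1⟩ : Y.Opens)) = closure {⟨g, hgV⟩} := by
      symm
      rw [Set.eq_univ_iff_forall]
      intro w
      rw [← specializes_iff_mem_closure]
      exact Topology.IsInducing.subtypeVal.specializes_iff.mp (hV.2 w.1 w.2)
    rw [this]
    exact isIrreducible_singleton.closure
  haveI : IrreducibleSpace ↥((⟨V, hV.1⟩ : Y.Opens) : Scheme.{u}) := hirrV
  exact isIntegral_of_irreducibleSpace_of_isReduced _

end Groth.Agent.S4647
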