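import Groth.Statements.S4650
import Mathlib.AlgebraicGeometry.Properties

set_option autoImplicit false
open CategoryTheory AlgebraicGeometry
universe u
open FDesc

namespace Groth.Agent.S4650

/-- Let f : X → Y be a morphism of schemes along which generizations lift (this holds for flat,
quasi-flat or open morphisms). Then every irreducible component of X dominates an irreducible
component of Y: the closure of its image is an irreducible component of Y. -/
theorem result {X Y : Scheme.{u}} (f : X ⟶ Y)
    (hf : GeneralizingMap ⇑f) (T : Set ↥X) (hT : T ∈ irreducibleComponents ↥X) :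
    closure (⇑f '' T) ∈ irreducibleComponents ↥Y := by
  have hTirr : IsIrreducible T := hT.1
  have hTcl : IsClosed T := isClosed_of_mem_irreducibleComponents T hT
  have hξ : IsGenericPoint hTirr.genericPoint T := by
    have := hTirr.isGenericPoint_genericPoint_closure
    rwa [hTcl.closure_eq] at this
  set ξ := hTirr.genericPoint with hξdef
  have himg : IsGenericPoint (f ξ) (closure (f '' T)) := hξ.image f.continuous
  rw [← himg.def]
  refine ⟨isIrreducible_singleton.closure, ?_⟩
  intro Z hZ hle
  -- generic point of `closure Z`
  have hZcl : IsIrreducible (closure Z) := hZ.closure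
  have hζ : IsGenericPoint hZcl.genericPoint (closure Z) := by
    have := hZcl.isGenericPoint_genericPoint_closure
    rwa [closure_closure] at this
  set ζ := hZcl.genericPoint with hζdef
  have h1 : ζ ⤳ f ξ := by
    rw [specializes_iff_mem_closure, hζ.def]
    exact subset_closure (hle (subset_closure rfl))
  obtain ⟨ξ', hξ', hfξ'⟩ := hf h1
  have h2 : closure {ξ'} ≤ T := by
    refine hT.2 isIrreducible_singleton.closure ?_
    rw [← hξ.def]
    exact hξ'.closure_subset
  have h3 : ξ ⤳ ξ' := by
    rw [specializes_iff_mem_closure, hξ.def]
    exact h2 (subset_closure rfl)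
  have h4 : f ξ ⤳ ζ := hfξ' ▸ h3.map f.continuous
  calc Z ≤ closure Z := subset_closure
    _ = closure {ζ} := hζ.def.symm
    _ ≤ closure {f ξ} := h4.closure_subset

end Groth.Agent.S4650
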