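import Groth.Statements.S4651
import Groth.Agent.S4650

set_option autoImplicit false
open CategoryTheory AlgebraicGeometry
universe u
open FDesc

namespace Groth.Agent.S4651

/-- Let Y be a scheme whose family of irreducible components is locally finite (every point has an open
neighbourhood meeting only finitely many irreducible components), and let f : X → Y be a morphism
along which generizations lift (e.g. flat, quasi-flat or open) such that every fibre f⁻¹(y) is a
finite set (e.g. f quasi-finite or radicial). Then the family of irreducible components of X is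
locally finite. -/
theorem result {X Y : Scheme.{u}} (f : X ⟶ Y)
    (hY : ∀ y : Y, ∃ U : Set ↥Y, IsOpen U ∧ y ∈ U ∧ {Z ∈ irreducibleComponents ↥Y | (Z ∩ U).Nonempty}.Finite)
    (hf : GeneralizingMap ⇑f) (hfin : ∀ y : Y, (⇑f ⁻¹' {y}).Finite) (x : X) :
    ∃ U : Set ↥X, IsOpen U ∧ x ∈ U ∧ {T ∈ irreducibleComponents ↥X | (T ∩ U).Nonempty}.Finite := by
  obtain ⟨U, hUo, hyU, hfinU⟩ := hY (f x)
  refine ⟨f ⁻¹' U, hUo.preimage f.continuous, hyU, ?_⟩
  have hS : {ξ : X | ∃ Z ∈ {Z ∈ irreducibleComponents ↥Y | (Z ∩ U).Nonempty},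
      IsGenericPoint (f ξ) Z}.Finite := by
    have : {ξ : X | ∃ Z ∈ {Z ∈ irreducibleComponents ↥Y | (Z ∩ U).Nonempty},
        IsGenericPoint (f ξ) Z} =
        ⋃ Z ∈ {Z ∈ irreducibleComponents ↥Y | (Z ∩ U).Nonempty},
          {ξ : X | IsGenericPoint (f ξ) Z} := by
      ext ξ
      simp only [Set.mem_ofPred_eq, Set.mem_iUnion, exists_prop]
    rw [this]
    refine hfinU.biUnion fun Z _ => ?_
    by_cases hne : {ξ : X | IsGenericPoint (f ξ) Z}.Nonempty
    · obtain ⟨ξ₀, hξ₀⟩ := hne
      refine (hfin (f ξ₀)).subset fun ξ hξ => ?_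
      exact IsGenericPoint.eq hξ hξ₀
    · rw [Set.not_nonempty_iff_eq_empty] at hne
      rw [hne]
      exact Set.finite_empty
  refine (hS.image (fun ξ => closure {ξ})).subset ?_
  rintro T ⟨hT, t, htT, htV⟩
  have hTirr : IsIrreducible T := hT.1
  have hTcl : IsClosed T := isClosed_of_mem_irreducibleComponents T hT
  have hξ : IsGenericPoint hTirr.genericPoint T := by
    have := hTirr.isGenericPoint_genericPoint_closure
    rwa [hTcl.closure_eq] at this
  exact ⟨hTirr.genericPoint, ⟨closure (f '' T), ⟨Groth.Agent.S4650.result f hf T hT, f t,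
    subset_closure ⟨t, htT, rfl⟩, htV⟩, hξ.image f.continuous⟩, hξ.def⟩

end Groth.Agent.S4651
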