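import Groth.Statements.S4652
import Groth.Agent.Lib.Helper16.FLF6

set_option autoImplicit false
open CategoryTheory AlgebraicGeometry
universe u
open FDesc

namespace Groth.Agent.S4652

/-- Let X be a scheme, F a finitely presented O_X-module and x a point of X. Then F_x is a flat module
over the local ring O_{X,x} if and only if x has an open neighbourhood U such that the restriction
of F to U is finite locally free. -/
theorem result {X : Scheme.{u}} (F : X.Modules) (hF : CohB1.IsFP F) (x : X) :
    FlatMod.IsFlatAt F x ↔ ∃ U : X.Opens, x ∈ U ∧ FlatMod.IsFinLocFree ((Scheme.Modules.pullback U.ι).obj F) := by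
  open Groth.Agent.Lib.helper16.FLF Groth.Agent.Lib.helper16.CohFP in
  haveI : F.IsFinitePresentation := hF
  haveI : F.IsQuasicoherent := inferInstance
  constructor
  · intro hflat
    haveI : Module.Flat (X.presheaf.stalk x) (F.presheaf.stalk x) := hflat
    haveI := finite_stalk_of_isFinitePresentation F hF x
    have hfree : Module.Free (X.presheaf.stalk x) (F.presheaf.stalk x) :=
      Module.free_of_flat_of_isLocalRing
    obtain ⟨U, hU, hxU, -⟩ := TopologicalSpace.Opens.isBasis_iff_nbhd.mp X.isBasis_affineOpens
      (show x ∈ (⊤ : X.Opens) from trivial)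
    haveI := fp_sections_of_isFinitePresentation F hF hU
    obtain ⟨f, n, hxf, ⟨e⟩⟩ := exists_basicOpen_free_sections F hU x hxU hfree
    obtain ⟨iso⟩ := restrict_iso_freeMod_of_sections F (hU.basicOpen f) n e
    refine ⟨X.basicOpen f, hxf, ?_⟩
    rw [isFinLocFree_pullback_iff_restrict]
    exact isFinLocFree_of_iso iso.symm (isFinLocFree_freeMod _ n)
  · rintro ⟨U, hxU, h⟩
    rw [isFinLocFree_pullback_iff_restrict] at h
    obtain ⟨V, n, hxV, -, ⟨iso⟩⟩ := exists_iso_freeMod_of_isFinLocFree_restrict F U.ι h ⟨x, hxU⟩
    haveI := (free_stalk_of_restrict_iso_freeMod F n iso x hxV).1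
    exact inferInstanceAs (Module.Flat (X.presheaf.stalk x) (F.presheaf.stalk x))

end Groth.Agent.S4652
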