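import Groth.Statements.S4656
import Mathlib.RingTheory.Flat.FaithfullyFlat.Algebra
import Mathlib.RingTheory.RingHom.Flat

set_option autoImplicit false
open CategoryTheory AlgebraicGeometry
universe u
open FDesc

namespace Groth.Agent.S4656

open TensorProduct in
/-- If `A → B → C` with `C` faithfully flat over `B` and flat over `A`, then `B` is flat over `A`. -/
lemma flat_of_flat_of_faithfullyFlat (A B C : Type*) [CommRing A] [CommRing B] [CommRing C]
    [Algebra A B] [Algebra B C] [Algebra A C] [IsScalarTower A B C]
    [Module.FaithfullyFlat B C] [Module.Flat A C] : Module.Flat A B := by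
  rw [Module.Flat.iff_lTensor_preserves_injective_linearMap]
  intro N P _ _ _ _ f hf
  let g : B ⊗[A] N →ₗ[B] B ⊗[A] P := AlgebraTensorModule.lTensor B B f
  have hg : (g : B ⊗[A] N → B ⊗[A] P) = f.lTensor B := rfl
  rw [← hg, ← Module.FaithfullyFlat.lTensor_injective_iff_injective B C g]
  have key := AlgebraTensorModule.lTensor_comp_cancelBaseChange (R := A) (A := B) (B := B)
    (M := C) f
  have h1 : Function.Injective (AlgebraTensorModule.lTensor B C f) :=
    Module.Flat.lTensor_preserves_injective_linearMap (M := C) f hf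
  have h2 : Function.Injective ((AlgebraTensorModule.cancelBaseChange A B B C P).toLinearMap ∘ₗ
      AlgebraTensorModule.lTensor B C g) := by
    rw [← key]
    exact h1.comp (LinearEquiv.injective _)
  have h3 : Function.Injective (AlgebraTensorModule.lTensor B C g) := by
    rw [LinearMap.coe_comp] at h2
    exact Function.Injective.of_comp h2
  exact h3

/-- Let f : X → Y and g : Y → Z be morphisms of schemes and x a point of X at which f is flat (the local
ring of X at x is flat over that of Y at f(x)). Then the composite g ∘ f is flat at x if and only if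
g is flat at f(x). -/
theorem result {X Y Z : Scheme.{u}} (f : X ⟶ Y) (g : Y ⟶ Z) (x : X)
    (hf : (f.stalkMap x).hom.Flat) :
    ((f ≫ g).stalkMap x).hom.Flat ↔ (g.stalkMap (f x)).hom.Flat := by
  have hχ : ((f ≫ g).stalkMap x).hom = (f.stalkMap x).hom.comp (g.stalkMap (f x)).hom := by
    rw [Scheme.Hom.stalkMap_comp]; rfl
  rw [hχ]
  constructor
  · intro h
    letI i1 : Algebra (Y.presheaf.stalk (f x)) (X.presheaf.stalk x) := (f.stalkMap x).hom.toAlgebra
    letI i2 : Algebra (Z.presheaf.stalk (g (f x))) (Y.presheaf.stalk (f x)) :=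
      (g.stalkMap (f x)).hom.toAlgebra
    letI i3 : Algebra (Z.presheaf.stalk (g (f x))) (X.presheaf.stalk x) :=
      ((f.stalkMap x).hom.comp (g.stalkMap (f x)).hom).toAlgebra
    haveI : IsScalarTower (Z.presheaf.stalk (g (f x))) (Y.presheaf.stalk (f x))
        (X.presheaf.stalk x) := IsScalarTower.of_algebraMap_eq' rfl
    haveI h1 : Module.Flat (Z.presheaf.stalk (g (f x))) (X.presheaf.stalk x) := h
    haveI h2 : Module.Flat (Y.presheaf.stalk (f x)) (X.presheaf.stalk x) := hf
    haveI : Module.FaithfullyFlat (Y.presheaf.stalk (f x)) (X.presheaf.stalk x) :=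
      @Module.FaithfullyFlat.of_flat_of_isLocalHom _ _ _ _ _ _ _ h2 (f.toLRSHom.prop x)
    exact flat_of_flat_of_faithfullyFlat (Z.presheaf.stalk (g (f x))) (Y.presheaf.stalk (f x))
      (X.presheaf.stalk x)
  · intro h
    exact RingHom.Flat.comp h hf

end Groth.Agent.S4656
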