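import Groth.Statements.S4661
import Groth.Agent.Lib.Helper24.RedMod4
import Groth.Agent.S4671

set_option autoImplicit false
open CategoryTheory AlgebraicGeometry
universe u
open FBase

namespace Groth.Agent.S4661

open CategoryTheory.Limits in
/-- Let X and Y be locally Noetherian schemes over a field k such that X ×_k Y is locally Noetherian, F
a coherent O_X-module which is geometrically reduced over k (F ⊗_k k' is a reduced module for every
finite purely inseparable extension k' of k) and G a coherent O_Y-module which is a reduced module.
Then F ⊗_k G, i.e. the tensor product on X ×_k Y of the inverse images of F and G, is a reduced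
module. -/
theorem result {k : Type u} [Field k] {X Y : Scheme.{u}}
    [IsLocallyNoetherian X] [IsLocallyNoetherian Y] (f : X ⟶ Spec (CommRingCat.of k)) (g : Y ⟶ Spec (CommRingCat.of k))
    [IsLocallyNoetherian (pullback f g)] (F : X.Modules) (hF : Coh.IsCoh F) (G : Y.Modules) (hG : Coh.IsCoh G)
    (hFgr : ∀ (k' : Type u) [Field k'] [Algebra k k'] [FiniteDimensional k k'] [IsPurelyInseparable k k'],
      AssSch.IsReducedMod ((Scheme.Modules.pullback (FBase.bcπ f k')).obj F))
    (hGr : AssSch.IsReducedMod G) :
    AssSch.IsReducedMod (CohB1.tensorMod ((Scheme.Modules.pullback (pullback.fst f g)).obj F)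
      ((Scheme.Modules.pullback (pullback.snd f g)).obj G)) := by
  haveI : F.IsQuasicoherent := hF.1
  haveI : G.IsQuasicoherent := hG.1
  constructor
  · exact Groth.Agent.S4671.result f g F hF.1 G hG.1
      (Groth.Agent.Lib.Helper24.RedMod.isFlatOver_field g G)
      (fun x _ => Groth.Agent.Lib.Helper24.RedMod.mem_ass_structureModule_spec_field _)
      (Groth.Agent.Lib.Helper24.RedMod.noEmbedded_of_forall f F
        (fun k' _ _ _ _ => hFgr k')) hGr.1
  · intro z hz
    have e := (CategoryTheory.Limits.pullback.fst f g).fiberι_asFiber z
    have h := Groth.Agent.Lib.Helper24.RedMod.length_tensS_fiberι f g F G hG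
      (fun k' _ _ _ _ => hFgr k') hGr (CategoryTheory.Limits.pullback.fst f g z)
      ((CategoryTheory.Limits.pullback.fst f g).asFiber z) (by rw [e]; exact hz)
    rw [e] at h
    exact h

end Groth.Agent.S4661
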