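import Groth.Statements.S4662
import Groth.Agent.Lib.Helper5.FlatLocalDimAdd

set_option autoImplicit false
open CategoryTheory AlgebraicGeometry
universe u
open FBase

namespace Groth.Agent.S4662

open CategoryTheory.Limits in
/-- Let X and Y be integral schemes locally of finite type over a field k. Then every irreducible
component of X ×_k Y has dimension dim X + dim Y (Krull dimensions of the underlying spaces, valued
in WithBot ℕ∞). -/
theorem result {k : Type u} [Field k] {X Y : Scheme.{u}}
    (f : X ⟶ Spec (CommRingCat.of k)) (g : Y ⟶ Spec (CommRingCat.of k)) [IsIntegral X] [IsIntegral Y]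
    [LocallyOfFiniteType f] [LocallyOfFiniteType g] (Z : Set ↥(pullback f g))
    (hZ : Z ∈ irreducibleComponents ↥(pullback f g)) :
    topologicalKrullDim ↥Z = topologicalKrullDim ↥X + topologicalKrullDim ↥Y := by
  letI : X.Over (Spec (CommRingCat.of k)) := ⟨f⟩
  letI : Y.Over (Spec (CommRingCat.of k)) := ⟨g⟩
  haveI : LocallyOfFiniteType (X ↘ Spec (CommRingCat.of k)) := ‹LocallyOfFiniteType f›
  haveI : LocallyOfFiniteType (Y ↘ Spec (CommRingCat.of k)) := ‹LocallyOfFiniteType g›
  obtain ⟨m, hm, hlocX⟩ := Groth.Agent.Lib.helper3.IrredDim.exists_dim_eq_localDim_of_irreducible k X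
  obtain ⟨n, hn, hlocY⟩ := Groth.Agent.Lib.helper3.IrredDim.exists_dim_eq_localDim_of_irreducible k Y
  letI : (pullback f g).Over (Spec (CommRingCat.of k)) := ⟨pullback.fst f g ≫ f⟩
  haveI : LocallyOfFiniteType ((pullback f g) ↘ Spec (CommRingCat.of k)) :=
    inferInstanceAs (LocallyOfFiniteType (pullback.fst f g ≫ f))
  have hloc : ∀ t : ↥(pullback f g),
      FlatMor.localDim ↥(pullback f g) t = ((m + n : ℕ) : WithBot ℕ∞) := by
    intro t
    rw [Groth.Agent.Lib.helper5.FieldBC.localDim_pullback_eq_add k f g t, hlocX, hlocY]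
    push_cast
    rfl
  rw [Groth.Agent.Lib.helper3.RelDim.dim_eq_of_forall_localDim k (pullback f g) (m + n) hloc Z hZ,
    hm, hn]
  push_cast
  rfl

end Groth.Agent.S4662
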