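import Groth.Statements.S4663
import Groth.Agent.Lib.Helper5.FieldBCComponents
import Groth.Agent.Lib.Helper3.IrredDim

set_option autoImplicit false
open CategoryTheory AlgebraicGeometry
universe u
open FBase

namespace Groth.Agent.S4663

/-- Let X be a scheme locally of finite type over a field k, K an extension field of k, and Z an
irreducible closed subset of X. Then every irreducible component of the inverse image of Z in X ⊗_k
K has the same dimension as Z (Krull dimensions of the underlying topological spaces, valued in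
WithBot ℕ∞). (In the published statement Z is a cycle associated to a quasi-coherent O_X-module,
with its reduced subscheme structure, and the components are those of Z ⊗_k K; such cycles are
exactly the irreducible closed subsets of X, and Z ⊗_k K has the inverse image of Z as underlying
space.) -/
theorem result {k K : Type u} [Field k] [Field K] [Algebra k K]
    {X : Scheme.{u}} (f : X ⟶ Spec (CommRingCat.of k)) [LocallyOfFiniteType f]
    (Z : Set ↥X) (hZc : IsClosed Z) (hZi : IsIrreducible Z)
    (W : Set ↥(⇑(FBase.bcπ f K) ⁻¹' Z)) (hW : W ∈ irreducibleComponents ↥(⇑(FBase.bcπ f K) ⁻¹' Z)) :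
    topologicalKrullDim ↥W = topologicalKrullDim ↥Z := by
  classical
  set φ := CommRingCat.ofHom (algebraMap k K) with hφ
  let π : FBase.bc f K ⟶ X := FBase.bcπ f K
  let f' : FBase.bc f K ⟶ Spec (CommRingCat.of K) := FBase.bcStr f K
  have sq : CategoryTheory.IsPullback f' π (Spec.map φ) f :=
    (CategoryTheory.IsPullback.of_hasPullback f (Spec.map φ)).flip
  -- the reduced induced structure on `Z`
  let I := Scheme.IdealSheafData.vanishingIdeal ⟨Z, hZc⟩
  let ι : I.subscheme ⟶ X := I.subschemeι
  have hι : Set.range ι = Z := by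
    rw [I.range_subschemeι]
    rfl
  have hsnd : Set.range (CategoryTheory.Limits.pullback.snd ι π) = π ⁻¹' Z := by
    rw [Scheme.Pullback.range_snd, hι]
  let eZ : I.subscheme ≃ₜ Z := (ι.isEmbedding.toHomeomorph).trans (Homeomorph.setCongr hι)
  let eT : ↥(CategoryTheory.Limits.pullback ι π) ≃ₜ ↥(π ⁻¹' Z) :=
    ((CategoryTheory.Limits.pullback.snd ι π).isEmbedding.toHomeomorph).trans
      (Homeomorph.setCongr hsnd)
  haveI : IrreducibleSpace ↥Z := Subtype.irreducibleSpace hZi
  haveI : IrreducibleSpace I.subscheme := by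
    have h := (IrreducibleSpace.isIrreducible_univ ↥Z).image eZ.symm
      eZ.symm.continuous.continuousOn
    rw [Set.image_univ, eZ.symm.surjective.range_eq] at h
    obtain ⟨z0, -⟩ := h.nonempty
    exact { isPreirreducible_univ := h.isPreirreducible
            toNonempty := ⟨z0⟩ }
  -- structures over the fields
  letI : I.subscheme.Over (Spec (CommRingCat.of k)) := ⟨ι ≫ f⟩
  haveI : LocallyOfFiniteType (I.subscheme ↘ Spec (CommRingCat.of k)) :=
    inferInstanceAs (LocallyOfFiniteType (ι ≫ f))
  letI : (CategoryTheory.Limits.pullback ι π).Over (Spec (CommRingCat.of K)) :=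
    ⟨CategoryTheory.Limits.pullback.snd ι π ≫ f'⟩
  have big : CategoryTheory.IsPullback (CategoryTheory.Limits.pullback.snd ι π ≫ f')
      (CategoryTheory.Limits.pullback.fst ι π) (Spec.map φ) (ι ≫ f) :=
    ((CategoryTheory.IsPullback.of_hasPullback ι π).paste_vert sq.flip).flip
  haveI : LocallyOfFiniteType ((CategoryTheory.Limits.pullback ι π) ↘ Spec (CommRingCat.of K)) :=
    MorphismProperty.of_isPullback (P := @LocallyOfFiniteType) big.flip
      (inferInstanceAs (LocallyOfFiniteType (ι ≫ f)))
  obtain ⟨d, hd, hloc⟩ :=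
    Groth.Agent.Lib.helper3.IrredDim.exists_dim_eq_localDim_of_irreducible k I.subscheme
  have hlocT : ∀ t : ↥(CategoryTheory.Limits.pullback ι π),
      FlatMor.localDim ↥(CategoryTheory.Limits.pullback ι π) t = (d : WithBot ℕ∞) := by
    intro t
    rw [Groth.Agent.Lib.helper5.FieldBC.localDim_eq_of_isPullback
      (k := CommRingCat.of k) (K := CommRingCat.of K) (Field.toIsField k) (Field.toIsField K)
      φ (ι ≫ f) _ _ big t]
    exact hloc _
  have hcomp := Groth.Agent.Lib.helper3.RelDim.dim_eq_of_forall_localDim K
    (CategoryTheory.Limits.pullback ι π) d hlocT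
  -- transfer `W`
  have hWne : (W ∩ Set.range eT).Nonempty := by
    obtain ⟨w, hw⟩ := hW.1.nonempty
    exact ⟨w, hw, eT.surjective w⟩
  have hWT : eT ⁻¹' W ∈ irreducibleComponents ↥(CategoryTheory.Limits.pullback ι π) :=
    preimage_mem_irreducibleComponents hW eT.isOpenEmbedding hWne
  have h1 := hcomp _ hWT
  have h2 : topologicalKrullDim ↥(eT ⁻¹' W) = topologicalKrullDim ↥W := by
    have e : ↥(eT ⁻¹' W) ≃ₜ ↥W := (eT.image (eT ⁻¹' W)).trans
      (Homeomorph.setCongr (Set.image_preimage_eq _ eT.surjective))
    exact e.isHomeomorph.topologicalKrullDim_eq e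
  have h3 : topologicalKrullDim ↥Z = (d : WithBot ℕ∞) := by
    rw [← hd]
    exact (eZ.isHomeomorph.topologicalKrullDim_eq eZ).symm
  rw [← h2, h1, h3]

end Groth.Agent.S4663
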