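import Groth.Statements.S4665
import Mathlib.AlgebraicGeometry.PullbackCarrier

set_option autoImplicit false
open CategoryTheory AlgebraicGeometry
universe u
open FBase

namespace Groth.Agent.S4665

open CategoryTheory.Limits in
/-- Let f : X → Y and g : Y' → Y be morphisms of schemes with g surjective, and let f' : X ×_Y Y' → Y'
be the base change of f. Say that a morphism has geometrically connected fibres when, for every
field K and every morphism from Spec K to its target, the base change to Spec K is empty or
connected (so an empty fibre counts as geometrically connected). If f' has geometrically connected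
fibres in this sense, then so has f. -/
theorem result {X Y Y' : Scheme.{u}} (f : X ⟶ Y)
    (g : Y' ⟶ Y) [Surjective g]
    (h : geometrically (fun Z : Scheme.{u} => IsEmpty ↥Z ∨ ConnectedSpace ↥Z) (pullback.snd f g)) :
    geometrically (fun Z : Scheme.{u} => IsEmpty ↥Z ∨ ConnectedSpace ↥Z) f := by
  intro K _ y Z fst snd hsq
  -- a point of `Spec K ×_Y Y'`
  obtain ⟨y', hy'⟩ := g.surjective (y default)
  obtain ⟨w, -, -⟩ := Scheme.Pullback.exists_preimage_pullback (f := y) (g := g) default y' hy'.symm
  let W := pullback y g
  let ℓ : Spec (W.residueField w) ⟶ W := W.fromSpecResidueField w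
  let a : Spec (W.residueField w) ⟶ Spec (.of K) := ℓ ≫ pullback.fst y g
  let b : Spec (W.residueField w) ⟶ Y' := ℓ ≫ pullback.snd y g
  have hab : a ≫ y = b ≫ g := by
    simp only [a, b, Category.assoc, pullback.condition]
  -- base change of `Z` to the bigger field
  let T := pullback snd a
  have hT1 : IsPullback (pullback.fst snd a ≫ fst) (pullback.snd snd a) f (a ≫ y) :=
    (IsPullback.of_hasPullback snd a).paste_horiz hsq
  rw [hab] at hT1
  let c : T ⟶ pullback f g := pullback.lift (pullback.fst snd a ≫ fst) (pullback.snd snd a ≫ b)
    (by simpa only [Category.assoc] using hT1.w)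
  have hT2 : IsPullback c (pullback.snd snd a) (pullback.snd f g) b := by
    refine IsPullback.of_right ?_ (pullback.lift_snd _ _ _) (IsPullback.of_hasPullback f g)
    rw [pullback.lift_fst]
    exact hT1
  have hP := h (K := W.residueField w) b c (pullback.snd snd a) hT2
  -- `T ⟶ Z` is surjective
  have hsurj_a : Surjective a := ⟨fun x => ⟨default, Subsingleton.elim _ _⟩⟩
  have hsurj : Surjective (pullback.fst snd a) := inferInstance
  rcases hP with hP | hP
  · left
    exact ⟨fun z => hP.elim ((pullback.fst snd a).surjective z).choose⟩
  · right
    exact (pullback.fst snd a).surjective.connectedSpace (pullback.fst snd a).continuous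

end Groth.Agent.S4665
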