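import Groth.Statements.S4666
import Groth.Agent.Lib.Helper6.IdealSheaf
import Mathlib.RingTheory.RingHom.Flat
import Mathlib.RingTheory.Flat.FaithfullyFlat.Algebra
import Mathlib.RingTheory.LocalProperties.Basic
import Mathlib.AlgebraicGeometry.Morphisms.Flat

set_option autoImplicit false
open CategoryTheory AlgebraicGeometry
universe u
open FDesc

namespace Groth.Agent.S4666

/-- If `φ : A → B` is flat, `Q` a prime of `B` over `P`, and `I₁ B ≤ I₂ B`, then
`I₁ A_P ≤ I₂ A_P`. -/
theorem map_localization_le_of_flat {A B : Type u} [CommRing A] [CommRing B] (φ : A →+* B)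
    (hφ : φ.Flat) (Q : Ideal B) [Q.IsPrime] (P : Ideal A) [P.IsPrime] (hPQ : P = Q.comap φ)
    (I₁ I₂ : Ideal A) (h : I₁.map φ ≤ I₂.map φ) :
    I₁.map (algebraMap A (Localization.AtPrime P)) ≤
      I₂.map (algebraMap A (Localization.AtPrime P)) := by
  have hflat : (Localization.localRingHom P Q φ hPQ).Flat := hφ.localRingHom Q P hPQ
  have hloc : IsLocalHom (Localization.localRingHom P Q φ hPQ) :=
    Localization.isLocalHom_localRingHom P Q φ hPQ
  algebraize [Localization.localRingHom P Q φ hPQ]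
  have : IsLocalHom (algebraMap (Localization.AtPrime P) (Localization.AtPrime Q)) := hloc
  have hff : Module.FaithfullyFlat (Localization.AtPrime P) (Localization.AtPrime Q) :=
    Module.FaithfullyFlat.of_flat_of_isLocalHom
  have key : ∀ I : Ideal A, (I.map (algebraMap A (Localization.AtPrime P))).map
      (algebraMap (Localization.AtPrime P) (Localization.AtPrime Q)) =
      (I.map φ).map (algebraMap B (Localization.AtPrime Q)) := by
    intro I
    rw [Ideal.map_map, Ideal.map_map]
    congr 1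
    ext x
    exact Localization.localRingHom_to_map P Q φ hPQ x
  rw [← Ideal.comap_map_eq_self_of_faithfullyFlat (B := Localization.AtPrime Q)
    (I₁.map (algebraMap A (Localization.AtPrime P))),
    ← Ideal.comap_map_eq_self_of_faithfullyFlat (B := Localization.AtPrime Q)
    (I₂.map (algebraMap A (Localization.AtPrime P))), key, key]
  exact Ideal.comap_mono (Ideal.map_mono h)

theorem ideal_le_of_comap_le {X Y : Scheme.{u}} (f : X ⟶ Y) [Flat f] [Surjective f]
    (J₁ J₂ : Y.IdealSheafData) (h : J₁.comap f ≤ J₂.comap f) (U : Y.affineOpens) :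
    J₁.ideal U ≤ J₂.ideal U := by
  apply Ideal.le_of_localization_maximal
  intro P hP
  have hPprime : P.IsPrime := hP.isPrime
  -- the point of `Y` corresponding to `P`
  let y : Y := U.2.fromSpec ⟨P, hPprime⟩
  have hyU : y ∈ U.1 := by
    have : y ∈ Set.range U.2.fromSpec := ⟨_, rfl⟩
    rwa [U.2.range_fromSpec] at this
  obtain ⟨x, hx⟩ := f.surjective y
  have hxU : x ∈ f ⁻¹ᵁ U.1 := by
    change f x ∈ U.1
    rw [hx]; exact hyU
  obtain ⟨_, ⟨W, hW, rfl⟩, hxW, hWU⟩ :=
    X.isBasis_affineOpens.exists_subset_of_mem_open hxU (f ⁻¹ᵁ U.1).2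
  have hWU' : W ≤ f ⁻¹ᵁ U.1 := hWU
  have hflat : (f.appLE U.1 W hWU').hom.Flat :=
    HasRingHomProperty.appLE (P := @Flat) f inferInstance U ⟨W, hW⟩ hWU'
  have hcomap := IsAffineOpen.comap_primeIdealOf_appLE (f := f) U.1 U.2 W hW hWU' hxW
  have hPQ : P = (hW.primeIdealOf ⟨x, hxW⟩).asIdeal.comap (f.appLE U.1 W hWU').hom := by
    have h1 : (U.2.primeIdealOf ⟨f x, hWU' hxW⟩) = ⟨P, hPprime⟩ := by
      have h2 : (⟨f x, hWU' hxW⟩ : U.1) = ⟨y, hyU⟩ := Subtype.ext hx
      rw [h2]
      apply U.2.fromSpec.isOpenEmbedding.injective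
      rw [U.2.fromSpec_primeIdealOf]
    have h3 := congrArg PrimeSpectrum.asIdeal hcomap
    rw [h1] at h3
    exact h3.symm
  have hle : (J₁.ideal U).map (f.appLE U.1 W hWU').hom ≤ (J₂.ideal U).map (f.appLE U.1 W hWU').hom := by
    rw [← Groth.Agent.Lib.helper6.ideal_comap f J₁ U ⟨W, hW⟩ hWU',
      ← Groth.Agent.Lib.helper6.ideal_comap f J₂ U ⟨W, hW⟩ hWU']
    exact h ⟨W, hW⟩
  exact map_localization_le_of_flat (f.appLE U.1 W hWU').hom hflat
    (hW.primeIdealOf ⟨x, hxW⟩).asIdeal P hPQ _ _ hle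

/-- Let f : X → Y be a flat and surjective morphism of schemes. Then the map sending a quasi-coherent
sheaf of ideals of O_Y (a closed subscheme of Y) to its inverse image in X is injective. -/
theorem result {X Y : Scheme.{u}} (f : X ⟶ Y) [Flat f] [Surjective f] :
    Function.Injective fun J : Y.IdealSheafData => J.comap f := by
  intro J₁ J₂ h
  have h' : J₁.comap f = J₂.comap f := h
  apply le_antisymm
  · exact fun U => ideal_le_of_comap_le f J₁ J₂ h'.le U
  · exact fun U => ideal_le_of_comap_le f J₂ J₁ h'.ge U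

end Groth.Agent.S4666
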