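import Groth.Statements.S4670
import Groth.Agent.Lib.Helper24.AssTens1

set_option autoImplicit false
open CategoryTheory AlgebraicGeometry
universe u
open AssSch

namespace Groth.Agent.S4670

open CategoryTheory.Limits in
/-- Let f : X → S and g : Y → S be morphisms of schemes with X, Y, S and X ×_S Y locally Noetherian, F a
quasi-coherent O_X-module such that f maps every associated point of F to an associated point of
O_S, and G a quasi-coherent O_Y-module flat over S. Then the projection q : X ×_S Y → Y maps every
associated point of F ⊗_S G (the tensor product of the pull-backs of F and G along the two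
projections) to an associated point of G. (The published statement assumes only X, S and the fibres
of g locally Noetherian; this row assumes Y and X ×_S Y locally Noetherian as well, so that
associated points are those whose maximal ideal is the annihilator of an element of the stalk.) -/
theorem result {X Y S : Scheme.{u}} (f : X ⟶ S) (g : Y ⟶ S)
    [IsLocallyNoetherian X] [IsLocallyNoetherian Y] [IsLocallyNoetherian S] [IsLocallyNoetherian (pullback f g)]
    (F : X.Modules) (hF : Coh.IsQCoh F) (G : Y.Modules) (hG : Coh.IsQCoh G) (hGfl : FlatMod.IsFlatOver g G)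
    (hAss : ∀ x ∈ AssSch.Ass F, f x ∈ AssSch.Ass (Coh.structureModule S))
    (z : ↥(pullback f g)) (hz : z ∈ AssSch.Ass (CohB1.tensorMod ((Scheme.Modules.pullback (pullback.fst f g)).obj F) ((Scheme.Modules.pullback (pullback.snd f g)).obj G))) :
    pullback.snd f g z ∈ AssSch.Ass G := by
  haveI : F.IsQuasicoherent := hF
  haveI : G.IsQuasicoherent := hG
  have hc : IsPullback (pullback.fst f g) (pullback.snd f g) f g := IsPullback.of_hasPullback f g
  haveI : ((Scheme.Modules.pullback (pullback.snd f g)).obj G).IsQuasicoherent :=
    Groth.Agent.Lib.helper16.QCohPullback.isQuasicoherent_pullback _ G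
  have hfl : FlatMod.IsFlatOverAt (pullback.fst f g)
      ((Scheme.Modules.pullback (pullback.snd f g)).obj G) z :=
    (Groth.Agent.Lib.helper17.FlatOver6.isFlatOverAt_baseChange_both hc.flip G z).1 (hGfl _)
  have h1 := (Groth.Agent.Lib.Helper24.TensFlat.isAssPoint_tensor_iff (pullback.fst f g) F
    ((Scheme.Modules.pullback (pullback.snd f g)).obj G) z hfl).mp hz
  have h2 : f (pullback.fst f g z) ∈ AssSch.Ass (Coh.structureModule S) := hAss _ h1.1
  have h3 : pullback.snd f g z ∈ MoreMor.relAss g G :=
    Groth.Agent.Lib.Helper24.AssTens.fst_mem_relAss_of_mem_relAss_baseChange hc.flip G z h1.2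
  have h4 : g (pullback.snd f g z) = f (pullback.fst f g z) := by
    have := congrArg (fun φ : pullback f g ⟶ S => φ z) hc.w
    simpa using this.symm
  refine (Groth.Agent.Lib.Helper24.AssTens.isAssPoint_iff_of_isFlatOver g G (pullback.snd f g z)
    (hGfl _)).mpr ⟨?_, h3⟩
  rw [h4]
  exact h2

end Groth.Agent.S4670
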