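import Groth.Statements.S4672
import Mathlib
import Groth.Agent.Lib.Helper3.IrrCompImage

set_option autoImplicit false
open CategoryTheory AlgebraicGeometry
universe u
open FBase

namespace Groth.Agent.S4672

open CategoryTheory.Limits

theorem exists_generalization_fst {k : Type u} [Field k] {X Y : Scheme.{u}}
    (f : X ⟶ Spec (CommRingCat.of k)) (g : Y ⟶ Spec (CommRingCat.of k)) (T : Set Y)
    (hT : IsClosed T) (w : ↥(pullback f g)) (hw : (pullback.snd f g) w ∈ T) (x : X)
    (hx : x ⤳ (pullback.fst f g) w) :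
    ∃ w' : ↥(pullback f g), w' ⤳ w ∧ (pullback.fst f g) w' = x ∧ (pullback.snd f g) w' ∈ T := by
  let ι := (Scheme.IdealSheafData.vanishingIdeal ⟨T, hT⟩).subschemeι
  have hrange : Set.range ι = T := by
    rw [Scheme.IdealSheafData.range_subschemeι, Scheme.IdealSheafData.coe_support_vanishingIdeal]
    rfl
  let m := pullback.map f (ι ≫ g) f g (𝟙 X) ι (𝟙 _) (by simp) (by simp)
  have hm1 : m ≫ pullback.fst f g = pullback.fst f (ι ≫ g) :=
    (pullback.lift_fst _ _ _).trans (Category.comp_id _)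
  have hm2 : m ≫ pullback.snd f g = pullback.snd f (ι ≫ g) ≫ ι := pullback.lift_snd _ _ _
  have hr : Set.range m = (pullback.fst f g) ⁻¹' Set.range (𝟙 X : X ⟶ X) ∩
      (pullback.snd f g) ⁻¹' Set.range ι := Scheme.Pullback.range_map ..
  have hwm : w ∈ Set.range m := by
    rw [hr]
    refine ⟨⟨(pullback.fst f g) w, rfl⟩, ?_⟩
    exact hrange.symm.subset hw
  obtain ⟨w₀, rfl⟩ := hwm
  have hflat : Flat (ι ≫ g) := inferInstance
  have hgen : GeneralizingMap (pullback.fst f (ι ≫ g)) := Flat.generalizingMap _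
  have hx' : x ⤳ (pullback.fst f (ι ≫ g)) w₀ := by
    rw [← hm1, Scheme.Hom.comp_apply]
    exact hx
  obtain ⟨w₁, hw₁, hfst⟩ := hgen hx'
  refine ⟨m w₁, hw₁.map (Scheme.Hom.continuous m), ?_, ?_⟩
  · rw [← Scheme.Hom.comp_apply, hm1]
    exact hfst
  · rw [← Scheme.Hom.comp_apply, hm2, Scheme.Hom.comp_apply]
    exact hrange.subset ⟨_, rfl⟩

theorem exists_generalization_snd {k : Type u} [Field k] {X Y : Scheme.{u}}
    (f : X ⟶ Spec (CommRingCat.of k)) (g : Y ⟶ Spec (CommRingCat.of k)) (T : Set X)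
    (hT : IsClosed T) (w : ↥(pullback f g)) (hw : (pullback.fst f g) w ∈ T) (y : Y)
    (hy : y ⤳ (pullback.snd f g) w) :
    ∃ w' : ↥(pullback f g), w' ⤳ w ∧ (pullback.snd f g) w' = y ∧ (pullback.fst f g) w' ∈ T := by
  let ι := (Scheme.IdealSheafData.vanishingIdeal ⟨T, hT⟩).subschemeι
  have hrange : Set.range ι = T := by
    rw [Scheme.IdealSheafData.range_subschemeι, Scheme.IdealSheafData.coe_support_vanishingIdeal]
    rfl
  let m := pullback.map (ι ≫ f) g f g ι (𝟙 Y) (𝟙 _) (by simp) (by simp)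
  have hm1 : m ≫ pullback.snd f g = pullback.snd (ι ≫ f) g :=
    (pullback.lift_snd _ _ _).trans (Category.comp_id _)
  have hm2 : m ≫ pullback.fst f g = pullback.fst (ι ≫ f) g ≫ ι := pullback.lift_fst _ _ _
  have hr : Set.range m = (pullback.fst f g) ⁻¹' Set.range ι ∩
      (pullback.snd f g) ⁻¹' Set.range (𝟙 Y : Y ⟶ Y) := Scheme.Pullback.range_map ..
  have hwm : w ∈ Set.range m := by
    rw [hr]
    refine ⟨?_, ⟨(pullback.snd f g) w, rfl⟩⟩
    exact hrange.symm.subset hw
  obtain ⟨w₀, rfl⟩ := hwm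
  have hflat : Flat (ι ≫ f) := inferInstance
  have hgen : GeneralizingMap (pullback.snd (ι ≫ f) g) := Flat.generalizingMap _
  have hy' : y ⤳ (pullback.snd (ι ≫ f) g) w₀ := by
    rw [← hm1, Scheme.Hom.comp_apply]
    exact hy
  obtain ⟨w₁, hw₁, hsnd⟩ := hgen hy'
  refine ⟨m w₁, hw₁.map (Scheme.Hom.continuous m), ?_, ?_⟩
  · rw [← Scheme.Hom.comp_apply, hm1]
    exact hsnd
  · rw [← Scheme.Hom.comp_apply, hm2, Scheme.Hom.comp_apply]
    exact hrange.subset ⟨_, rfl⟩

/-- every irreducible set is contained in an irreducible component -/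
theorem exists_component_supset {A : Type*} [TopologicalSpace A] {s : Set A} (hs : IsIrreducible s) :
    ∃ t ∈ irreducibleComponents A, s ⊆ t := by
  obtain ⟨t, ht, hst, hmax⟩ := exists_preirreducible s hs.isPreirreducible
  refine ⟨t, ⟨⟨hs.nonempty.mono hst, ht⟩, fun u hu htu => ?_⟩, hst⟩
  rw [hmax u hu.isPreirreducible htu]

open CategoryTheory.Limits in
/-- Let X and Y be locally Noetherian schemes over a field k such that X ×_k Y is locally Noetherian,
with projections p and q. Then a subset W of X ×_k Y is an irreducible component of X ×_k Y if and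
only if there exist an irreducible component X' of X and an irreducible component Y' of Y such that
W is a maximal irreducible subset of p⁻¹(X') ∩ q⁻¹(Y') (that is, an irreducible component of the
space underlying X' ×_k Y' for the reduced structures on X' and Y'). -/
theorem result {k : Type u} [Field k] {X Y : Scheme.{u}}
    (f : X ⟶ Spec (CommRingCat.of k)) (g : Y ⟶ Spec (CommRingCat.of k)) [IsLocallyNoetherian X]
    [IsLocallyNoetherian Y] [IsLocallyNoetherian (pullback f g)] (W : Set ↥(pullback f g)) :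
    W ∈ irreducibleComponents ↥(pullback f g) ↔
      ∃ X' ∈ irreducibleComponents ↥X, ∃ Y' ∈ irreducibleComponents ↥Y,
        Maximal (fun V : Set ↥(pullback f g) => IsIrreducible V ∧ V ⊆ ⇑(pullback.fst f g) ⁻¹' X' ∩ ⇑(pullback.snd f g) ⁻¹' Y') W := by
  constructor
  · intro hW
    obtain ⟨X', hX', hsubX⟩ := exists_component_supset
      (hW.1.image (pullback.fst f g) (Scheme.Hom.continuous _).continuousOn)
    obtain ⟨Y', hY', hsubY⟩ := exists_component_supset
      (hW.1.image (pullback.snd f g) (Scheme.Hom.continuous _).continuousOn)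
    refine ⟨X', hX', Y', hY', ⟨hW.1, fun w hw => ⟨hsubX ⟨w, hw, rfl⟩, hsubY ⟨w, hw, rfl⟩⟩⟩,
      fun V hV hWV => hW.2 hV.1 hWV⟩
  · rintro ⟨X', hX', Y', hY', hW⟩
    have hX'c : IsClosed X' := isClosed_of_mem_irreducibleComponents _ hX'
    have hY'c : IsClosed Y' := isClosed_of_mem_irreducibleComponents _ hY'
    have hSc : IsClosed (⇑(pullback.fst f g) ⁻¹' X' ∩ ⇑(pullback.snd f g) ⁻¹' Y') :=
      (hX'c.preimage (Scheme.Hom.continuous _)).inter (hY'c.preimage (Scheme.Hom.continuous _))
    obtain ⟨hWirr, hWS⟩ := hW.prop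
    -- `W` is closed
    have hWc : IsClosed W := by
      have h1 : closure W ⊆ W := hW.le_of_ge ⟨hWirr.closure, closure_minimal hWS hSc⟩ subset_closure
      exact closure_subset_iff_isClosed.mp h1
    obtain ⟨w, hw⟩ := QuasiSober.sober hWirr hWc
    obtain ⟨ξ, hξ⟩ := QuasiSober.sober hX'.1 hX'c
    obtain ⟨η, hη⟩ := QuasiSober.sober hY'.1 hY'c
    have hwS : w ∈ ⇑(pullback.fst f g) ⁻¹' X' ∩ ⇑(pullback.snd f g) ⁻¹' Y' := hWS hw.mem
    -- `w` maps to the generic points
    have hfw : (pullback.fst f g) w = ξ := by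
      obtain ⟨w', hw'w, hw'1, hw'2⟩ := exists_generalization_fst f g Y' hY'c w hwS.2 ξ
        (hξ.specializes hwS.1)
      have hw'S : w' ∈ ⇑(pullback.fst f g) ⁻¹' X' ∩ ⇑(pullback.snd f g) ⁻¹' Y' :=
        ⟨by rw [Set.mem_preimage, hw'1]; exact hξ.mem, hw'2⟩
      have h1 : W ⊆ closure {w'} := by
        rw [← hw.def]
        exact closure_minimal (Set.singleton_subset_iff.mpr hw'w.mem_closure) isClosed_closure
      have h2 : closure {w'} ⊆ W := hW.le_of_ge ⟨isIrreducible_singleton.closure,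
        closure_minimal (Set.singleton_subset_iff.mpr hw'S) hSc⟩ h1
      have h3 : w ⤳ w' := hw.specializes (h2 (subset_closure rfl))
      rw [← hw'1, (h3.antisymm hw'w).eq]
    have hsw : (pullback.snd f g) w = η := by
      obtain ⟨w', hw'w, hw'1, hw'2⟩ := exists_generalization_snd f g X' hX'c w hwS.1 η
        (hη.specializes hwS.2)
      have hw'S : w' ∈ ⇑(pullback.fst f g) ⁻¹' X' ∩ ⇑(pullback.snd f g) ⁻¹' Y' :=
        ⟨hw'2, by rw [Set.mem_preimage, hw'1]; exact hη.mem⟩
      have h1 : W ⊆ closure {w'} := by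
        rw [← hw.def]
        exact closure_minimal (Set.singleton_subset_iff.mpr hw'w.mem_closure) isClosed_closure
      have h2 : closure {w'} ⊆ W := hW.le_of_ge ⟨isIrreducible_singleton.closure,
        closure_minimal (Set.singleton_subset_iff.mpr hw'S) hSc⟩ h1
      have h3 : w ⤳ w' := hw.specializes (h2 (subset_closure rfl))
      rw [← hw'1, (h3.antisymm hw'w).eq]
    refine ⟨hWirr, fun V hV hWV => ?_⟩
    obtain ⟨v, hv⟩ := QuasiSober.sober hV.closure isClosed_closure
    have hvw : v ⤳ w := hv.specializes (subset_closure (hWV hw.mem))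
    have h1 : ξ ⤳ (pullback.fst f g) v :=
      Groth.Agent.Lib.helper3.IrrCompImage.specializes_of_specializes_generic hX' hξ
        (hfw ▸ hvw.map (Scheme.Hom.continuous _))
    have h2 : η ⤳ (pullback.snd f g) v :=
      Groth.Agent.Lib.helper3.IrrCompImage.specializes_of_specializes_generic hY' hη
        (hsw ▸ hvw.map (Scheme.Hom.continuous _))
    have hvS : v ∈ ⇑(pullback.fst f g) ⁻¹' X' ∩ ⇑(pullback.snd f g) ⁻¹' Y' :=
      ⟨h1.mem_closed hX'c hξ.mem, h2.mem_closed hY'c hη.mem⟩
    have h3 : closure V ⊆ W := hW.le_of_ge ⟨hV.closure, by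
      rw [← hv.def]
      exact closure_minimal (Set.singleton_subset_iff.mpr hvS) hSc⟩
      (hWV.trans subset_closure)
    exact subset_closure.trans h3

end Groth.Agent.S4672
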