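import Groth.Statements.S4673
import Groth.Agent.Lib.Helper5.FieldBCComponents

set_option autoImplicit false
open CategoryTheory AlgebraicGeometry
universe u
open FBase

namespace Groth.Agent.S4673

/-- Let X be a scheme locally of finite type over a field k and K an extension field of k. Then the set
of dimensions of the irreducible components of X ⊗_k K is equal to the set of dimensions of the
irreducible components of X (Krull dimensions of the underlying spaces, valued in WithBot ℕ∞). -/
theorem result {k K : Type u} [Field k] [Field K] [Algebra k K]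
    {X : Scheme.{u}} (f : X ⟶ Spec (CommRingCat.of k)) [LocallyOfFiniteType f] :
    (fun Z : Set ↥(FBase.bc f K) => topologicalKrullDim ↥Z) '' irreducibleComponents ↥(FBase.bc f K) =
      (fun Z : Set ↥X => topologicalKrullDim ↥Z) '' irreducibleComponents ↥X := by
  classical
  set φ := CommRingCat.ofHom (algebraMap k K) with hφ
  let π : FBase.bc f K ⟶ X := FBase.bcπ f K
  let f' : FBase.bc f K ⟶ Spec (CommRingCat.of K) := FBase.bcStr f K
  have sq : CategoryTheory.IsPullback f' π (Spec.map φ) f :=
    (CategoryTheory.IsPullback.of_hasPullback f (Spec.map φ)).flip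
  haveI : LocallyOfFiniteType f' :=
    MorphismProperty.of_isPullback (P := @LocallyOfFiniteType) sq.flip inferInstance
  letI : X.Over (Spec (CommRingCat.of k)) := ⟨f⟩
  letI : (FBase.bc f K).Over (Spec (CommRingCat.of K)) := ⟨f'⟩
  haveI : LocallyOfFiniteType (X ↘ Spec (CommRingCat.of k)) := ‹LocallyOfFiniteType f›
  haveI : LocallyOfFiniteType ((FBase.bc f K) ↘ Spec (CommRingCat.of K)) :=
    ‹LocallyOfFiniteType f'›
  haveI : Flat (Spec.map φ) := by
    rw [Flat.SpecMap_iff]
    exact RingHom.flat_algebraMap_iff.mpr inferInstance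
  haveI : Flat π := MorphismProperty.of_isPullback (P := @Flat) sq inferInstance
  haveI : Surjective (Spec.map φ) := by
    constructor
    intro y
    obtain ⟨x⟩ : Nonempty (Spec (CommRingCat.of K)) := inferInstance
    exact ⟨x, Subsingleton.elim (α := PrimeSpectrum k) _ _⟩
  haveI : Surjective π := MorphismProperty.of_isPullback (P := @Surjective) sq inferInstance
  have hgen : GeneralizingMap π := Flat.generalizingMap π
  have hloc : ∀ x' : FBase.bc f K, FlatMor.localDim (FBase.bc f K) x' = FlatMor.localDim X (π x') :=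
    fun x' => Groth.Agent.Lib.helper5.FieldBC.localDim_eq_of_isPullback
      (k := CommRingCat.of k) (K := CommRingCat.of K) (Field.toIsField k) (Field.toIsField K)
      φ f f' π sq x'
  -- the key: a maximal point of the base change lies over a maximal point, with equal dimensions
  have key : ∀ ζ' : FBase.bc f K, closure ({ζ'} : Set (FBase.bc f K)) ∈
      irreducibleComponents (FBase.bc f K) →
      closure ({π ζ'} : Set X) ∈ irreducibleComponents X ∧
        topologicalKrullDim ↥(closure ({ζ'} : Set (FBase.bc f K))) =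
          topologicalKrullDim ↥(closure ({π ζ'} : Set X)) := by
    intro ζ' hζ'
    have h1 := Groth.Agent.Lib.helper5.FieldBC.closure_map_mem_irreducibleComponents π hgen ζ' hζ'
    refine ⟨h1, ?_⟩
    rw [Groth.Agent.Lib.helper5.FieldBC.dim_eq_localDim_of_mem_irreducibleComponents K _ ζ' hζ',
      Groth.Agent.Lib.helper5.FieldBC.dim_eq_localDim_of_mem_irreducibleComponents k X _ h1, hloc]
  ext d
  constructor
  · rintro ⟨Z', hZ', rfl⟩
    obtain ⟨ζ', hζ'⟩ := QuasiSober.sober hZ'.1 (isClosed_of_mem_irreducibleComponents Z' hZ')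
    have hZa : Z' = closure {ζ'} := hζ'.def.symm
    subst hZa
    obtain ⟨h1, h2⟩ := key ζ' hZ'
    exact ⟨_, h1, h2.symm⟩
  · rintro ⟨Z, hZ, rfl⟩
    obtain ⟨ζ, hζ⟩ := QuasiSober.sober hZ.1 (isClosed_of_mem_irreducibleComponents Z hZ)
    have hZa : Z = closure {ζ} := hζ.def.symm
    subst hZa
    obtain ⟨ξ', hξ'⟩ := π.surjective ζ
    obtain ⟨Z', hZ', hξZ'⟩ := exists_mem_irreducibleComponents_subset_of_isIrreducible
      ({ξ'} : Set (FBase.bc f K)) isIrreducible_singleton
    obtain ⟨ζ', hζ'⟩ := QuasiSober.sober hZ'.1 (isClosed_of_mem_irreducibleComponents Z' hZ')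
    have hZb : Z' = closure {ζ'} := hζ'.def.symm
    subst hZb
    obtain ⟨h1, h2⟩ := key ζ' hZ'
    have hsp : ζ' ⤳ ξ' := specializes_iff_mem_closure.mpr (hξZ' rfl)
    have hsp2 : π ζ' ⤳ ζ := by
      rw [← hξ']
      exact hsp.map π.continuous
    have heq : π ζ' = ζ :=
      Groth.Agent.Lib.helper5.FieldBC.forall_specializes_of_mem_irreducibleComponents ζ hZ _ hsp2
    rw [heq] at h2
    exact ⟨_, hZ', h2⟩

end Groth.Agent.S4673
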