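import Groth.Statements.S4674
import Mathlib.LinearAlgebra.TensorProduct.Pi
-- import your own Groth.Agent.* helpers here

set_option autoImplicit false
open scoped TensorProduct
universe u v w
open FDesc

namespace Groth.Agent.S4674

/-- Let B be a flat A-algebra and M a finitely presented A-module. Then the annihilator of the B-module
B ⊗_A M is the ideal of B generated by the image of the annihilator of M. -/
theorem result {A : Type u} {B : Type v} [CommRing A] [CommRing B] [Algebra A B]
    [Module.Flat A B] (M : Type w) [AddCommGroup M] [Module A M] [Module.FinitePresentation A M] :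
    Module.annihilator B (B ⊗[A] M) = (Module.annihilator A M).map (algebraMap A B) := by
  classical
  apply le_antisymm
  · -- the hard inclusion
    obtain ⟨s, hs⟩ := (Module.Finite.fg_top : (⊤ : Submodule A M).FG)
    let φ : A →ₗ[A] (s → M) := LinearMap.pi (fun i => LinearMap.toSpanSingleton A M i.1)
    have hker : ∀ a : A, a ∈ LinearMap.ker φ → a ∈ Module.annihilator A M := by
      intro a ha
      rw [Module.mem_annihilator]
      intro m
      have hm : m ∈ Submodule.span A (s : Set M) := hs ▸ Submodule.mem_top
      induction hm using Submodule.span_induction with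
      | mem x hx =>
        have := congrFun (LinearMap.mem_ker.mp ha) ⟨x, hx⟩
        simpa [φ] using this
      | zero => simp
      | add x y _ _ hx hy => rw [smul_add, hx, hy, add_zero]
      | smul c x _ hx => rw [smul_comm, hx, smul_zero]
    have hex : Function.Exact (LinearMap.ker φ).subtype φ := LinearMap.exact_subtype_ker_map φ
    have hexB := Module.Flat.lTensor_exact B hex
    intro b hb
    have hb0 : (φ.lTensor B) (b ⊗ₜ[A] (1 : A)) = 0 := by
      apply (TensorProduct.piRight A A B (fun _ : s => M)).injective
      rw [map_zero, LinearMap.lTensor_tmul, TensorProduct.piRight_apply,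
        TensorProduct.piRightHom_tmul]
      funext i
      have h1 := Module.mem_annihilator.mp hb ((1 : B) ⊗ₜ[A] (i.1 : M))
      simp only [φ, LinearMap.pi_apply, LinearMap.toSpanSingleton_apply, one_smul, Pi.zero_apply]
      rw [TensorProduct.smul_tmul', smul_eq_mul, mul_one] at h1
      exact h1
    obtain ⟨t, ht⟩ := (hexB _).mp hb0
    have hmem : ∀ t : B ⊗[A] (LinearMap.ker φ),
        TensorProduct.rid A B (((LinearMap.ker φ).subtype.lTensor B) t) ∈
          (Module.annihilator A M).map (algebraMap A B) := by
      intro t
      induction t using TensorProduct.induction_on with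
      | zero => simp
      | tmul b' a =>
        rw [LinearMap.lTensor_tmul, TensorProduct.rid_tmul, Submodule.subtype_apply,
          Algebra.smul_def]
        exact Ideal.mul_mem_right _ _ (Ideal.mem_map_of_mem _ (hker _ a.2))
      | add x y hx hy =>
        rw [map_add, map_add]
        exact Ideal.add_mem _ hx hy
    have := hmem t
    rw [ht, TensorProduct.rid_tmul, one_smul] at this
    exact this
  · rw [Ideal.map_le_iff_le_comap]
    intro a ha
    rw [Ideal.mem_comap, Module.mem_annihilator]
    intro x
    induction x using TensorProduct.induction_on with
    | zero => simp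
    | tmul b m =>
      have h1 : (algebraMap A B a) • (b ⊗ₜ[A] m) = b ⊗ₜ[A] (a • m) := by
        rw [TensorProduct.smul_tmul', smul_eq_mul, ← Algebra.smul_def, TensorProduct.smul_tmul]
      rw [h1, Module.mem_annihilator.mp ha m, TensorProduct.tmul_zero]
    | add x y hx hy => rw [smul_add, hx, hy, add_zero]

end Groth.Agent.S4674
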