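import Groth.Statements.S4675
import Mathlib.Algebra.Module.Submodule.Equiv

set_option autoImplicit false
universe u v
open FDesc

namespace Groth.Agent.S4675

/-- Let B be a ring, not necessarily commutative, and V, W two left B-modules which are isomorphic. For
a B-linear map u : V → W the following are equivalent: every B-linear map V → W can be written
uniquely as u ∘ c with c a B-linear endomorphism of V (that is, u is a basis of Hom_B(V, W) for its
right module structure over End_B(V)); u is bijective. -/
theorem result {B : Type u} [Ring B] {V W : Type v} [AddCommGroup V] [AddCommGroup W]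
    [Module B V] [Module B W] (e : V ≃ₗ[B] W) (u : V →ₗ[B] W) :
    (∀ v : V →ₗ[B] W, ∃! c : V →ₗ[B] V, v = u ∘ₗ c) ↔ Function.Bijective u := by
  constructor
  · intro h
    obtain ⟨c₀, hc₀, -⟩ := h e.toLinearMap
    have hc₀' : ∀ x, e x = u (c₀ x) := fun x => by
      have := congrArg (fun g : V →ₗ[B] W => g x) hc₀
      simpa using this
    constructor
    · -- injective: `c₀ ∘ e⁻¹ ∘ u = id` by uniqueness for `v = u`
      obtain ⟨c₁, -, hc₁⟩ := h u
      have h1 : c₀ ∘ₗ e.symm.toLinearMap ∘ₗ u = c₁ := by
        apply hc₁
        ext x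
        simp only [LinearMap.comp_apply, LinearEquiv.coe_coe]
        rw [← hc₀', LinearEquiv.apply_symm_apply]
      have h2 : LinearMap.id = c₁ := hc₁ _ (by ext x; simp)
      intro x y hxy
      have : (c₀ ∘ₗ e.symm.toLinearMap ∘ₗ u) x = (c₀ ∘ₗ e.symm.toLinearMap ∘ₗ u) y := by
        simp only [LinearMap.comp_apply, hxy]
      rw [h1, ← h2] at this
      simpa using this
    · intro w
      refine ⟨c₀ (e.symm w), ?_⟩
      rw [← hc₀', LinearEquiv.apply_symm_apply]
  · intro hu v
    let eu : V ≃ₗ[B] W := LinearEquiv.ofBijective u hu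
    refine ⟨eu.symm.toLinearMap ∘ₗ v, ?_, ?_⟩
    · ext x
      simp only [LinearMap.comp_apply, LinearEquiv.coe_coe]
      exact (eu.apply_symm_apply (v x)).symm
    · intro c hc
      ext x
      simp only [LinearMap.comp_apply, LinearEquiv.coe_coe, hc]
      exact (eu.symm_apply_apply (c x)).symm

end Groth.Agent.S4675
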