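import Groth.Statements.S4677
import Mathlib
import Groth.Agent.Lib.Helper3.PurInsepRed
import Groth.Agent.Lib.Helper3.PurInsepLocal

set_option autoImplicit false
open scoped TensorProduct
universe u
open FBase

namespace Groth.Agent.S4677


open Groth.Agent.Lib.helper3

/-- Let K be a finitely generated extension field of a field k. Then there exists a finite purely
inseparable extension k' of k such that, for every maximal ideal m of the ring k' ⊗_k K, the residue
field (k' ⊗_k K)/m is geometrically reduced over k' (a separable, not necessarily algebraic,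
extension of k'). -/
theorem result {k K : Type u} [Field k] [Field K] [Algebra k K]
    [Algebra.EssFiniteType k K] :
    ∃ (k' : Type u) (_ : Field k') (_ : Algebra k k'), FiniteDimensional k k' ∧ IsPurelyInseparable k k' ∧
      ∀ (m : Ideal (k' ⊗[k] K)), m.IsMaximal → Algebra.IsGeometricallyReduced k' ((k' ⊗[k] K) ⧸ m) := by
  let P := perfectClosure k (AlgebraicClosure k)
  have : IsNoetherianRing (↥P ⊗[k] K) := Algebra.EssFiniteType.isNoetherianRing ↥P (↥P ⊗[k] K)
  have hfg : (nilradical (↥P ⊗[k] K)).FG := IsNoetherian.noetherian _
  obtain ⟨k', _, _, _, _, hfin, h⟩ := PurInsepRed.exists_intermediateField ↥P K hfg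
  have hpi : IsPurelyInseparable k k' := IsPurelyInseparable.tower_bot k k' ↥P
  refine ⟨k', _, _, hfin, hpi, fun m hm => ?_⟩
  have hmp : m.IsPrime := hm.isPrime
  have := PurInsepLocal.eq_nilradical_of_isPrime k k' K m
  rw [this]
  exact h

end Groth.Agent.S4677
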