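import Groth.Statements.S4679
import Groth.Agent.Lib.Helper24.FlatTens4
import Groth.Agent.Lib.Helper17.FlatOver6

set_option autoImplicit false
open CategoryTheory AlgebraicGeometry
universe u
open FDesc

namespace Groth.Agent.S4679

open CategoryTheory.Limits in
/-- Let f : X → Y, g : Y' → Y and h : Y' → Z be morphisms of schemes and X' = X ×_Y Y' with projections
p : X' → X, q : X' → Y'. Call a quasi-coherent module M on a scheme T faithfully flat relative to a
morphism t : T → B when M is flat over B and for every point b of B there is a point u of T over b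
with M_u ⊗ κ(b) ≠ 0. Let F be a quasi-coherent O_X-module which is faithfully flat relative to Y and
G' a quasi-coherent O_{Y'}-module. Then G' is flat over Z if and only if p^*F ⊗ q^*G' is flat over Z
(for q followed by h); and G' is faithfully flat relative to Z if and only if p^*F ⊗ q^*G' is
faithfully flat relative to Z. -/
theorem result {X Y Y' Z : Scheme.{u}} (f : X ⟶ Y) (g : Y' ⟶ Y)
    (h : Y' ⟶ Z) (F : X.Modules) (hF : Coh.IsQCoh F) (hFfl : FlatMod.IsFlatOver f F)
    (hFff : ∀ y : ↥Y, ∃ x : ↥X, f x = y ∧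
      letI := FlatMod.moduleStalkOver f F x
      IsLocalRing.maximalIdeal (Y.presheaf.stalk (f x)) • (⊤ : Submodule (Y.presheaf.stalk (f x)) (F.presheaf.stalk x)) ≠ ⊤)
    (G' : Y'.Modules) (hG' : Coh.IsQCoh G') :
    (FlatMod.IsFlatOver h G' ↔ FlatMod.IsFlatOver (pullback.snd f g ≫ h) (CohB1.tensorMod ((Scheme.Modules.pullback (pullback.fst f g)).obj F) ((Scheme.Modules.pullback (pullback.snd f g)).obj G'))) ∧
    ((FlatMod.IsFlatOver h G' ∧ ∀ z : ↥Z, ∃ y' : ↥Y', h y' = z ∧
        letI := FlatMod.moduleStalkOver h G' y'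
        IsLocalRing.maximalIdeal (Z.presheaf.stalk (h y')) • (⊤ : Submodule (Z.presheaf.stalk (h y')) (G'.presheaf.stalk y')) ≠ ⊤) ↔
      (FlatMod.IsFlatOver (pullback.snd f g ≫ h) (CohB1.tensorMod ((Scheme.Modules.pullback (pullback.fst f g)).obj F) ((Scheme.Modules.pullback (pullback.snd f g)).obj G')) ∧
        ∀ z : ↥Z, ∃ x' : ↥(pullback f g), (pullback.snd f g ≫ h) x' = z ∧
          letI := FlatMod.moduleStalkOver (pullback.snd f g ≫ h) (CohB1.tensorMod ((Scheme.Modules.pullback (pullback.fst f g)).obj F) ((Scheme.Modules.pullback (pullback.snd f g)).obj G')) x'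
          IsLocalRing.maximalIdeal (Z.presheaf.stalk ((pullback.snd f g ≫ h) x')) •
            (⊤ : Submodule (Z.presheaf.stalk ((pullback.snd f g ≫ h) x')) ((CohB1.tensorMod ((Scheme.Modules.pullback (pullback.fst f g)).obj F) ((Scheme.Modules.pullback (pullback.snd f g)).obj G')).presheaf.stalk x')) ≠ ⊤)) := by
  haveI : F.IsQuasicoherent := hF
  haveI : G'.IsQuasicoherent := hG'
  have hc : IsPullback (pullback.fst f g) (pullback.snd f g) f g := IsPullback.of_hasPullback f g
  have hP : ∀ x' : ↥(pullback f g), FlatMod.IsFlatOverAt (pullback.snd f g)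
      ((Scheme.Modules.pullback (pullback.fst f g)).obj F) x' := fun x' =>
    (Groth.Agent.Lib.helper17.FlatOver6.isFlatOverAt_baseChange_both hc F x').1 (hFfl _)
  -- faithfully flat points
  have hFF : ∀ y' : ↥Y', ∃ x' : ↥(pullback f g), pullback.snd f g x' = y' ∧
      (letI := FlatMod.moduleStalkOver (pullback.snd f g)
        ((Scheme.Modules.pullback (pullback.fst f g)).obj F) x'
      Module.FaithfullyFlat (Y'.presheaf.stalk (pullback.snd f g x'))
        (((Scheme.Modules.pullback (pullback.fst f g)).obj F).presheaf.stalk x')) := by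
    intro y'
    obtain ⟨x, hxy, hx⟩ := hFff (g y')
    obtain ⟨x', rfl, hx'2⟩ := Scheme.exists_preimage_of_isPullback hc x y' hxy
    have hne := Groth.Agent.Lib.Helper24.FlatTens.fibNe_baseChange hc F x' hx
    refine ⟨x', hx'2, ?_⟩
    letI := FlatMod.moduleStalkOver (pullback.snd f g)
      ((Scheme.Modules.pullback (pullback.fst f g)).obj F) x'
    haveI : Module.Flat (Y'.presheaf.stalk (pullback.snd f g x'))
        (((Scheme.Modules.pullback (pullback.fst f g)).obj F).presheaf.stalk x') := hP x'
    refine ⟨fun m hm => ?_⟩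
    rw [IsLocalRing.eq_maximalIdeal hm]
    exact hne
  have h1 : FlatMod.IsFlatOver h G' ↔ FlatMod.IsFlatOver (pullback.snd f g ≫ h)
      (CohB1.tensorMod ((Scheme.Modules.pullback (pullback.fst f g)).obj F)
        ((Scheme.Modules.pullback (pullback.snd f g)).obj G')) := by
    constructor
    · intro hG x'
      exact Groth.Agent.Lib.Helper24.FlatTens.isFlatOverAt_tensor_comp (pullback.snd f g) h _ G' x'
        (hP x') (hG _)
    · intro hT y'
      obtain ⟨x', rfl, hff⟩ := hFF y'
      exact Groth.Agent.Lib.Helper24.FlatTens.isFlatOverAt_of_tensor_comp (pullback.snd f g) h _ G'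
        x' hff (hT x')
  refine ⟨h1, ?_⟩
  constructor
  · rintro ⟨hG, hne⟩
    refine ⟨h1.mp hG, fun z => ?_⟩
    obtain ⟨y', rfl, hy'⟩ := hne z
    obtain ⟨x', rfl, hff⟩ := hFF y'
    refine ⟨x', rfl, ?_⟩
    intro htop
    exact hy' (Groth.Agent.Lib.Helper24.FlatTens.smul_top_of_tensor_comp (pullback.snd f g) h _ G'
      x' hff htop)
  · rintro ⟨hT, hne⟩
    refine ⟨h1.mpr hT, fun z => ?_⟩
    obtain ⟨x', rfl, hx'⟩ := hne z
    refine ⟨pullback.snd f g x', rfl, ?_⟩
    intro htop
    exact hx' (Groth.Agent.Lib.Helper24.FlatTens.smul_top_tensor_comp_of (pullback.snd f g) h _ G'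
      x' htop)

end Groth.Agent.S4679
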