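import Groth.Statements.S4685
import Groth.Agent.Lib.Helper24.AssTens6

set_option autoImplicit false
open CategoryTheory AlgebraicGeometry
universe u
open AssSch

namespace Groth.Agent.S4685

open CategoryTheory.Limits in
/-- Let f : X → S and g : Y → S be morphisms of schemes with X, Y and X ×_S Y locally Noetherian, F a
quasi-coherent O_X-module without embedded associated points, and G a quasi-coherent O_Y-module,
flat over S, whose restriction to every fibre g⁻¹(s) has no embedded associated points. Then F ⊗_S G
(the tensor product on X ×_S Y of the pull-backs of F and G along the two projections) has no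
embedded associated points. (The published statement assumes only X, the fibres of g and the schemes
Spec κ(x) ×_S Spec κ(y) locally Noetherian; this row assumes Y and X ×_S Y locally Noetherian, which
implies all of these, so that associated points are those whose maximal ideal is the annihilator of
an element of the stalk.) -/
theorem result {X Y S : Scheme.{u}} (f : X ⟶ S) (g : Y ⟶ S)
    [IsLocallyNoetherian X] [IsLocallyNoetherian Y] [IsLocallyNoetherian (pullback f g)]
    (F : X.Modules) (hF : Coh.IsQCoh F) (G : Y.Modules) (hG : Coh.IsQCoh G) (hGfl : FlatMod.IsFlatOver g G)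
    (hFne : AssSch.NoEmbedded F)
    (hGne : ∀ s : ↥S, AssSch.NoEmbedded ((Scheme.Modules.pullback (g.fiberι s)).obj G)) :
    AssSch.NoEmbedded (CohB1.tensorMod ((Scheme.Modules.pullback (pullback.fst f g)).obj F) ((Scheme.Modules.pullback (pullback.snd f g)).obj G)) := by
  haveI : F.IsQuasicoherent := hF
  haveI : G.IsQuasicoherent := hG
  intro z hz z' hz' hsp
  obtain ⟨h1, h2, -⟩ := Groth.Agent.Lib.Helper24.AssTens.exists_of_mem_ass_tensS f g F G hGfl z hz
  obtain ⟨h1', h2', -⟩ :=
    Groth.Agent.Lib.Helper24.AssTens.exists_of_mem_ass_tensS f g F G hGfl z' hz'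
  have hx : pullback.fst f g z = pullback.fst f g z' :=
    hFne _ h1 _ h1' (hsp.map (pullback.fst f g).continuous)
  have hsy : pullback.snd f g z' ⤳ pullback.snd f g z := hsp.map (pullback.snd f g).continuous
  -- both `q z`, `q z'` lie in the fibre over `s = f (p z)`
  set s := f (pullback.fst f g z) with hs
  have e1 : g (pullback.snd f g z) = s :=
    (Groth.Agent.Lib.Helper24.AssTens.fst_apply_eq_snd_apply f g z).symm
  have e2 : g (pullback.snd f g z') = s := by
    rw [← Groth.Agent.Lib.Helper24.AssTens.fst_apply_eq_snd_apply f g z', ← hx]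
  have r1 : pullback.snd f g z ∈ Set.range (g.fiberι s) := by
    rw [Scheme.Hom.range_fiberι]
    exact e1
  have r2 : pullback.snd f g z' ∈ Set.range (g.fiberι s) := by
    rw [Scheme.Hom.range_fiberι]
    exact e2
  obtain ⟨w, hw⟩ := r1
  obtain ⟨w', hw'⟩ := r2
  have a1 : w ∈ AssSch.Ass ((Scheme.Modules.pullback (g.fiberι s)).obj G) := by
    change Curv2.IsAssPoint _ w
    rw [Groth.Agent.Lib.Helper24.RelAssBC.isAssPoint_fibre_iff g G s w, hw]
    exact h2
  have a2 : w' ∈ AssSch.Ass ((Scheme.Modules.pullback (g.fiberι s)).obj G) := by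
    change Curv2.IsAssPoint _ w'
    rw [Groth.Agent.Lib.Helper24.RelAssBC.isAssPoint_fibre_iff g G s w', hw']
    exact h2'
  have hsw : w' ⤳ w := by
    rw [← (g.fiberι s).isEmbedding.isInducing.specializes_iff, hw, hw']
    exact hsy
  have hww : w = w' := hGne s w a1 w' a2 hsw
  have hy : pullback.snd f g z = pullback.snd f g z' := by
    rw [← hw, ← hw', hww]
  exact Groth.Agent.Lib.Helper24.AssTens.eq_of_specializes_of_mem_ass_tensS f g F G hGfl z z' hz hz'
    hsp hx.symm hy.symm

end Groth.Agent.S4685
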