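import Groth.Statements.S4686
import Mathlib
import Groth.Agent.Lib.Helper15.RedFibre

set_option autoImplicit false
set_option linter.style.haveILetI false
open CategoryTheory AlgebraicGeometry
universe u
open FBase

namespace Groth.Agent.S4686

open Groth.Agent.Lib.helper15.MaxPtLen Groth.Agent.Lib.helper17.FibreStalk
  Groth.Agent.Lib.helper15.RedFibre Groth.Agent.Lib.helper15.TensLen

open CategoryTheory.Limits in
/-- Let X be an integral locally Noetherian scheme over a field k, k′ an extension field of k such that
X′ = X ⊗_k k′ is locally Noetherian, and k″ an extension field of k′; put X″ = X′ ⊗_{k′} k″ and Z″ =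
(X′)_red ⊗_{k′} k″, with its canonical closed immersion j : Z″ → X″ (a homeomorphism). Let x″ be a
maximal point of X″ (the generic point of an irreducible component), x′ its image in X′ and z″ the
point of Z″ with j(z″) = x″. Then length(O_{X″,x″}) = length(O_{X′,x′}) · length(O_{Z″,z″}), each
local ring being measured as a module over itself, with values in ℕ∞. -/
theorem result {k k' k'' : Type u} [Field k] [Field k'] [Field k''] [Algebra k k']
    [Algebra k' k''] {X : Scheme.{u}} (f : X ⟶ Spec (CommRingCat.of k)) [IsIntegral X] [IsLocallyNoetherian X]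
    [IsLocallyNoetherian (FBase.bc f k')] (x'' : ↥(FBase.bc (FBase.bcStr f k') k''))
    (hx'' : ∀ z : ↥(FBase.bc (FBase.bcStr f k') k''), z ⤳ x'' → z = x'')
    (z'' : ↥(FBase.bc ((FBase.bc f k').nilradical.subschemeι ≫ FBase.bcStr f k') k''))
    (hz'' : pullback.map ((FBase.bc f k').nilradical.subschemeι ≫ FBase.bcStr f k')
        (Spec.map (CommRingCat.ofHom (algebraMap k' k''))) (FBase.bcStr f k')
        (Spec.map (CommRingCat.ofHom (algebraMap k' k''))) (FBase.bc f k').nilradical.subschemeι (𝟙 _) (𝟙 _)
        (Category.comp_id _) ((Category.comp_id _).trans (Category.id_comp _).symm) z'' = x'') :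
    Module.length ((FBase.bc (FBase.bcStr f k') k'').presheaf.stalk x'') ((FBase.bc (FBase.bcStr f k') k'').presheaf.stalk x'') =
      Module.length ((FBase.bc f k').presheaf.stalk (FBase.bcπ (FBase.bcStr f k') k'' x''))
          ((FBase.bc f k').presheaf.stalk (FBase.bcπ (FBase.bcStr f k') k'' x'')) *
        Module.length ((FBase.bc ((FBase.bc f k').nilradical.subschemeι ≫ FBase.bcStr f k') k'').presheaf.stalk z'')
          ((FBase.bc ((FBase.bc f k').nilradical.subschemeι ≫ FBase.bcStr f k') k'').presheaf.stalk z'') := by
  classical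
  haveI hgflat : Flat (Spec.map (CommRingCat.ofHom (algebraMap k' k''))) := by
    rw [HasRingHomProperty.Spec_iff (P := @Flat), CommRingCat.hom_ofHom]
    exact RingHom.flat_algebraMap_iff.mpr inferInstance
  haveI : Flat (FBase.bcπ (FBase.bcStr f k') k'') :=
    MorphismProperty.of_isPullback (P := @Flat) (IsPullback.of_hasPullback _ _).flip hgflat
  have hx' := maximal_of_flat (FBase.bcπ (FBase.bcStr f k') k'') x'' hx''
  have hfin := isFiniteLength_stalk_of_maximal (X := FBase.bc f k') _ hx'
  rw [length_stalk_eq_mul (FBase.bcπ (FBase.bcStr f k') k'') x'' hfin]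
  congr 1
  -- the cartesian square `Z'' = X'' ×_{X'} X'_red`
  have hj1 : pullback.map ((FBase.bc f k').nilradical.subschemeι ≫ FBase.bcStr f k')
        (Spec.map (CommRingCat.ofHom (algebraMap k' k''))) (FBase.bcStr f k')
        (Spec.map (CommRingCat.ofHom (algebraMap k' k''))) (FBase.bc f k').nilradical.subschemeι (𝟙 _) (𝟙 _)
        (Category.comp_id _) ((Category.comp_id _).trans (Category.id_comp _).symm) ≫
      pullback.fst (FBase.bcStr f k') (Spec.map (CommRingCat.ofHom (algebraMap k' k''))) =
      pullback.fst ((FBase.bc f k').nilradical.subschemeι ≫ FBase.bcStr f k')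
        (Spec.map (CommRingCat.ofHom (algebraMap k' k''))) ≫ (FBase.bc f k').nilradical.subschemeι := by
    unfold pullback.map
    exact pullback.lift_fst _ _ _
  have hj2 : pullback.map ((FBase.bc f k').nilradical.subschemeι ≫ FBase.bcStr f k')
        (Spec.map (CommRingCat.ofHom (algebraMap k' k''))) (FBase.bcStr f k')
        (Spec.map (CommRingCat.ofHom (algebraMap k' k''))) (FBase.bc f k').nilradical.subschemeι (𝟙 _) (𝟙 _)
        (Category.comp_id _) ((Category.comp_id _).trans (Category.id_comp _).symm) ≫
      pullback.snd (FBase.bcStr f k') (Spec.map (CommRingCat.ofHom (algebraMap k' k''))) =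
      pullback.snd ((FBase.bc f k').nilradical.subschemeι ≫ FBase.bcStr f k')
        (Spec.map (CommRingCat.ofHom (algebraMap k' k''))) := by
    unfold pullback.map
    rw [pullback.lift_snd, Category.comp_id]
  have hsq : IsPullback
      (pullback.map ((FBase.bc f k').nilradical.subschemeι ≫ FBase.bcStr f k')
        (Spec.map (CommRingCat.ofHom (algebraMap k' k''))) (FBase.bcStr f k')
        (Spec.map (CommRingCat.ofHom (algebraMap k' k''))) (FBase.bc f k').nilradical.subschemeι (𝟙 _) (𝟙 _)
        (Category.comp_id _) ((Category.comp_id _).trans (Category.id_comp _).symm))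
      (pullback.fst ((FBase.bc f k').nilradical.subschemeι ≫ FBase.bcStr f k')
        (Spec.map (CommRingCat.ofHom (algebraMap k' k''))))
      (pullback.fst (FBase.bcStr f k') (Spec.map (CommRingCat.ofHom (algebraMap k' k''))))
      (FBase.bc f k').nilradical.subschemeι := by
    refine IsPullback.of_right ?_ hj1 (IsPullback.of_hasPullback _ _).flip
    rw [hj2]
    exact (IsPullback.of_hasPullback _ _).flip
  haveI : AlgebraicGeometry.IsReduced (FBase.bc f k').nilradical.subscheme :=
    isReduced_nilradical_subscheme _
  have hzmax : ∀ y : ↥(FBase.bc f k').nilradical.subscheme,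
      y ⤳ pullback.fst ((FBase.bc f k').nilradical.subschemeι ≫ FBase.bcStr f k')
        (Spec.map (CommRingCat.ofHom (algebraMap k' k''))) z'' →
      y = pullback.fst ((FBase.bc f k').nilradical.subschemeι ≫ FBase.bcStr f k')
        (Spec.map (CommRingCat.ofHom (algebraMap k' k''))) z'' := by
    intro y hy
    have h1 := hy.map (FBase.bc f k').nilradical.subschemeι.continuous
    have h2 : (FBase.bc f k').nilradical.subschemeι
        (pullback.fst ((FBase.bc f k').nilradical.subschemeι ≫ FBase.bcStr f k')
          (Spec.map (CommRingCat.ofHom (algebraMap k' k''))) z'') =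
        FBase.bcπ (FBase.bcStr f k') k'' x'' := by
      rw [← hz'']
      have h4 : (pullback.map ((FBase.bc f k').nilradical.subschemeι ≫ FBase.bcStr f k')
          (Spec.map (CommRingCat.ofHom (algebraMap k' k''))) (FBase.bcStr f k')
          (Spec.map (CommRingCat.ofHom (algebraMap k' k''))) (FBase.bc f k').nilradical.subschemeι (𝟙 _) (𝟙 _)
          (Category.comp_id _) ((Category.comp_id _).trans (Category.id_comp _).symm) ≫
        pullback.fst (FBase.bcStr f k') (Spec.map (CommRingCat.ofHom (algebraMap k' k'')))) z'' =
        (pullback.fst ((FBase.bc f k').nilradical.subschemeι ≫ FBase.bcStr f k')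
          (Spec.map (CommRingCat.ofHom (algebraMap k' k''))) ≫ (FBase.bc f k').nilradical.subschemeι) z'' := by
        rw [hj1]
      exact h4.symm
    rw [h2] at h1
    have h3 := hx' _ h1
    apply (FBase.bc f k').nilradical.subschemeι.isEmbedding.injective
    rw [h3, h2]
  obtain ⟨e⟩ := nonempty_fibRing_equiv_stalk _ _ _ _ hsq z'' hzmax
  subst hz''
  exact (Module.length_eq_of_surjective Ideal.Quotient.mk_surjective).trans
    (length_self_ringEquiv e)

end Groth.Agent.S4686
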