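import Groth.Statements.S4687
import Mathlib
import Groth.Agent.Lib.Helper15.MaxPtLen

set_option autoImplicit false
set_option linter.style.haveILetI false
open CategoryTheory AlgebraicGeometry
universe u
open FBase

namespace Groth.Agent.S4687

open Groth.Agent.Lib.helper15.MaxPtLen Groth.Agent.Lib.helper17.FibreStalk

/-- Let X be an integral locally Noetherian scheme over a field k, k′ an extension field of k such that
X′ = X ⊗_k k′ is locally Noetherian, and k″ an extension field of k′ which is separable over k′
(Spec k″ → Spec k′ geometrically reduced) and such that (X′)_red ⊗_{k′} k″ is locally Noetherian.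
Then for every maximal point x″ of X″ = X′ ⊗_{k′} k″ (generic point of an irreducible component),
with image x′ in X′, the local rings O_{X″,x″} and O_{X′,x′} have the same length, each as a module
over itself, with values in ℕ∞. -/
theorem result {k k' k'' : Type u} [Field k] [Field k'] [Field k''] [Algebra k k']
    [Algebra k' k''] {X : Scheme.{u}} (f : X ⟶ Spec (CommRingCat.of k)) [IsIntegral X] [IsLocallyNoetherian X]
    [IsLocallyNoetherian (FBase.bc f k')] [GeometricallyReduced (Spec.map (CommRingCat.ofHom (algebraMap k' k'')))]
    [IsLocallyNoetherian (FBase.bc ((FBase.bc f k').nilradical.subschemeι ≫ FBase.bcStr f k') k'')]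
    (x'' : ↥(FBase.bc (FBase.bcStr f k') k'')) (hx'' : ∀ z : ↥(FBase.bc (FBase.bcStr f k') k''), z ⤳ x'' → z = x'') :
    Module.length ((FBase.bc (FBase.bcStr f k') k'').presheaf.stalk x'') ((FBase.bc (FBase.bcStr f k') k'').presheaf.stalk x'') =
      Module.length ((FBase.bc f k').presheaf.stalk (FBase.bcπ (FBase.bcStr f k') k'' x''))
        ((FBase.bc f k').presheaf.stalk (FBase.bcπ (FBase.bcStr f k') k'' x'')) := by
  classical
  haveI hgflat : Flat (Spec.map (CommRingCat.ofHom (algebraMap k' k''))) := by
    rw [HasRingHomProperty.Spec_iff (P := @Flat), CommRingCat.hom_ofHom]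
    exact RingHom.flat_algebraMap_iff.mpr inferInstance
  haveI : Flat (FBase.bcπ (FBase.bcStr f k') k'') :=
    MorphismProperty.of_isPullback (P := @Flat) (IsPullback.of_hasPullback _ _).flip hgflat
  haveI : GeometricallyReduced (FBase.bcπ (FBase.bcStr f k') k'') :=
    MorphismProperty.of_isPullback (P := @GeometricallyReduced)
      (IsPullback.of_hasPullback _ _).flip inferInstance
  have hx' := maximal_of_flat (FBase.bcπ (FBase.bcStr f k') k'') x'' hx''
  have hfin := isFiniteLength_stalk_of_maximal (X := FBase.bc f k') _ hx'
  rw [length_stalk_eq_mul (FBase.bcπ (FBase.bcStr f k') k'') x'' hfin]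
  have hone : Module.length ((FBase.bc (FBase.bcStr f k') k'').presheaf.stalk x'')
      (FibRing (FBase.bcπ (FBase.bcStr f k') k'') x'') = 1 := by
    haveI := krullDimLE_zero_stalk x'' hx''
    obtain ⟨e⟩ := nonempty_asFiber_stalk_equiv (FBase.bcπ (FBase.bcStr f k') k'') x''
    haveI : IsReduced (FibRing (FBase.bcπ (FBase.bcStr f k') k'') x'') :=
      isReduced_of_injective e e.injective
    apply length_quotient_eq_one_of_isReduced
    intro hI
    have hsub : Subsingleton (FibRing (FBase.bcπ (FBase.bcStr f k') k'') x'') :=
      Ideal.Quotient.subsingleton_iff.mpr hI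
    exact not_subsingleton _ (e.symm.toEquiv.subsingleton)
  rw [hone, mul_one]

end Groth.Agent.S4687
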