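import Groth.Statements.S4689
import Mathlib
import Groth.Agent.Lib.Helper26.DimFormula6


set_option autoImplicit false
universe u
open EGA4

namespace Groth.Agent.S4689

/-- Let A be a universally catenary Noetherian local domain and B a domain containing A which is a
finite A-algebra. Then for every maximal ideal n of B the local ring B_n has the same Krull
dimension as A. -/
theorem result (A B : Type u) [CommRing A] [IsDomain A]
    [IsNoetherianRing A] [IsLocalRing A] (hA : CAlg.IsUniversallyCatenary A) [CommRing B] [IsDomain B]
    [Algebra A B] [FaithfulSMul A B] [Module.Finite A B] (n : Ideal B) [n.IsMaximal] :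
    ringKrullDim (Localization.AtPrime n) = ringKrullDim A := by
  have hint : Algebra.IsIntegral A B := inferInstance
  let p : Ideal A := n.under A
  have hpmax : p.IsMaximal := Ideal.IsMaximal.under A n
  have hp : p.IsPrime := hpmax.isPrime
  have hnp : n.IsPrime := Ideal.IsMaximal.isPrime inferInstance
  have hlo : n.LiesOver p := Ideal.over_under n
  have hpe : p = IsLocalRing.maximalIdeal A := IsLocalRing.eq_maximalIdeal hpmax
  have key := Groth.Agent.Lib.helper26.DimFormula.dimension_formula A hA B p n
  have h1 : Algebra.IsIntegral (A ⧸ p) (B ⧸ n) := inferInstance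
  have h2 : Algebra.IsAlgebraic (A ⧸ p) (B ⧸ n) := inferInstance
  have h3 : Algebra.IsAlgebraic A B := inferInstance
  have t1 : Algebra.trdeg (A ⧸ p) (B ⧸ n) = 0 := trdeg_eq_zero
  have t2 : Algebra.trdeg A B = 0 := trdeg_eq_zero
  rw [t1, t2, add_zero, add_zero, Cardinal.ofENat_inj] at key
  rw [IsLocalization.AtPrime.ringKrullDim_eq_height n (Localization.AtPrime n), key, hpe,
    IsLocalRing.maximalIdeal_height_eq_ringKrullDim]

end Groth.Agent.S4689
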