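import Groth.Statements.S4690
import Mathlib
import Groth.Agent.Lib.Helper3.DimFibre
import Groth.Agent.S9687

set_option autoImplicit false
universe u
open EGA4

namespace Groth.Agent.S4690
open Groth.Agent.Lib.helper3.DimIneq Groth.Agent.Lib.helper3.DimFibre AlgebraicGeometry CategoryTheory

open AlgebraicGeometry CategoryTheory in
/-- Let Y be an irreducible locally Noetherian scheme, X an irreducible scheme and f : X → Y a dominant
morphism locally of finite type; let e be the dimension of the generic fibre of f. Then dim X ≤ dim
Y + e. If moreover every local ring of Y is universally catenary, the two sides are equal if and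
only if dim Y equals the supremum of the dimensions of the local rings of Y at the points of f(X). -/
theorem result {X Y : Scheme.{u}} (f : X ⟶ Y) [IsLocallyNoetherian Y]
    [LocallyOfFiniteType f] [IrreducibleSpace X] [IrreducibleSpace Y] (hf : DenseRange f.base) :
    topologicalKrullDim X ≤ topologicalKrullDim Y + topologicalKrullDim (f.fiber (genericPoint Y)) ∧
      ((∀ y : Y, CAlg.IsUniversallyCatenary (Y.presheaf.stalk y)) →
        (topologicalKrullDim X = topologicalKrullDim Y + topologicalKrullDim (f.fiber (genericPoint Y)) ↔
          topologicalKrullDim Y = ⨆ y ∈ Set.range f.base, ringKrullDim (Y.presheaf.stalk y))) := by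
  have hξ : ∀ z : X, genericPoint X ⤳ z := genericPoint_specializes
  have hgen : f.base (genericPoint X) = genericPoint Y := by
    have h1 : IsGenericPoint (f.base (genericPoint X)) (Set.univ : Set Y) := by
      have := (genericPoint_spec X).image f.continuous
      rwa [Set.image_univ, hf.closure_range] at this
    exact (h1.eq (genericPoint_spec Y))
  have hη : ∀ y : Y, f.base (genericPoint X) ⤳ y := by
    intro y; rw [hgen]; exact genericPoint_specializes y
  obtain ⟨t, ht⟩ := exists_nat_td_residueFieldMap f (genericPoint X)
  have hdim := dim_fiber_generic f (genericPoint X) hξ t ht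
  rw [hgen] at hdim
  rw [hdim]
  haveI : IsLocallyNoetherian X := LocallyOfFiniteType.isLocallyNoetherian f
  rw [dim_eq_coe_iSup_sd X, dim_eq_coe_iSup_sd Y]
  -- the inequality at each point
  have hineq : ∀ x : X, sd X x ≤ sd Y (f.base x) + (t : ℕ∞) := by
    intro x
    obtain ⟨c, hc⟩ := exists_nat_td_residueFieldMap f x
    have key := Groth.Agent.S9687.result f x c t hc (by
      intro ξ' hξ' _
      have h1 : closure ({ξ'} : Set X) = Set.univ := by
        have hu : (Set.univ : Set X) ∈ irreducibleComponents X := by
          rw [irreducibleComponents_eq_singleton]; rfl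
        exact (hξ'.2 hu.1 (Set.subset_univ _)).antisymm (Set.subset_univ _) |>.symm ▸ rfl
      have h2 : ξ' = genericPoint X :=
        (isGenericPoint_def.mpr h1 : IsGenericPoint ξ' Set.univ).eq (genericPoint_spec X)
      subst h2
      exact le_of_eq ht)
    rw [← coe_sd, ← coe_sd] at key
    have key' : sd X x + (c : ℕ∞) ≤ sd Y (f.base x) + (t : ℕ∞) := by exact_mod_cast key
    exact le_trans le_self_add key'
  constructor
  · have key : (⨆ x : X, sd X x) ≤ (⨆ y : Y, sd Y y) + (t : ℕ∞) := by
      refine iSup_le fun x => (hineq x).trans ?_
      gcongr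
      exact le_iSup (fun y => sd Y y) (f.base x)
    exact_mod_cast key
  · intro hY
    -- the supremum over the image
    have hR : (⨆ y ∈ Set.range f.base, ringKrullDim (Y.presheaf.stalk y)) =
        ((⨆ x : X, sd Y (f.base x) : ℕ∞) : WithBot ℕ∞) := by
      rw [iSup_range, WithBot.coe_iSup (OrderTop.bddAbove _)]
      congr 1
      funext x
      exact (coe_sd Y (f.base x)).symm
    rw [hR]
    have hmain : (⨆ x : X, sd X x) = (⨆ x : X, sd Y (f.base x)) + (t : ℕ∞) := by
      apply le_antisymm
      · refine iSup_le fun x => ?_
        obtain ⟨c, hc, h⟩ := sd_add_td_eq f (genericPoint X) hξ hη x (hY _) t ht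
        calc sd X x ≤ sd X x + (c : ℕ∞) := le_self_add
          _ = sd Y (f.base x) + (t : ℕ∞) := h
          _ ≤ _ := by
              gcongr
              exact le_iSup (fun x => sd Y (f.base x)) x
      · rw [ENat.iSup_add]
        refine iSup_le fun x => ?_
        obtain ⟨x', hx', h0⟩ := exists_td_eq_zero f (f.base x) ⟨f.asFiber x⟩
        obtain ⟨c, hc, h⟩ := sd_add_td_eq f (genericPoint X) hξ hη x' (hY _) t ht
        rw [h0] at hc
        have hc0 : c = 0 := by exact_mod_cast hc.symm
        subst hc0
        simp only [Nat.cast_zero, add_zero] at h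
        rw [← hx', ← h]
        exact le_iSup (fun x => sd X x) x'
    rw [hmain]
    constructor
    · intro h
      have h' : (⨆ x : X, sd Y (f.base x)) + (t : ℕ∞) = (⨆ y : Y, sd Y y) + (t : ℕ∞) := by
        exact_mod_cast h
      have := ENat.add_left_injective_of_ne_top (ENat.natCast_ne_top t) h'
      rw [this]
    · intro h
      have h' : (⨆ y : Y, sd Y y) = (⨆ x : X, sd Y (f.base x)) := by exact_mod_cast h
      rw [h']
      rfl

end Groth.Agent.S4690
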