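import Groth.Statements.S4692
import Mathlib
import Groth.Agent.Lib.Helper3.DimFibre

set_option autoImplicit false
universe u
open EGA4

namespace Groth.Agent.S4692

open Groth.Agent.Lib.helper3.DimIneq Groth.Agent.Lib.helper3.DimFibre AlgebraicGeometry CategoryTheory in
/-- the lower bound. -/
theorem lower {X Y : Scheme.{u}} (f : X ⟶ Y) [IsLocallyNoetherian Y]
    [LocallyOfFiniteType f] [IrreducibleSpace X]
    (hY : ∀ y : Y, CAlg.IsUniversallyCatenary (Y.presheaf.stalk y)) (n : ℕ)
    (hfib : ∀ y : Y, (n : WithBot ℕ∞) ≤ topologicalKrullDim (f.fiber y)) :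
    (∀ y : Y, ∃ x : X, f.base x = y ∧ td (f.residueFieldMap x).hom = 0) ∧
      (∀ y : Y, f.base (genericPoint X) ⤳ y) ∧
      ∃ t : ℕ, td (f.residueFieldMap (genericPoint X)).hom = t ∧ n ≤ t ∧
        topologicalKrullDim (f.fiber (f.base (genericPoint X))) = t ∧
        topologicalKrullDim Y + n ≤ topologicalKrullDim X := by
  have hξ : ∀ z : X, genericPoint X ⤳ z := genericPoint_specializes
  have hne : ∀ y : Y, Nonempty (f.fiber y) := by
    intro y
    by_contra hcon
    rw [not_nonempty_iff] at hcon
    have h1 := hfib y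
    have h2 : topologicalKrullDim (f.fiber y) = ⊥ := by
      unfold topologicalKrullDim
      rw [Order.krullDim_eq_bot_iff]
      exact ⟨fun s => hcon.elim s.isIrreducible.nonempty.some⟩
    rw [h2] at h1
    exact absurd h1 (by simp)
  have hpt : ∀ y : Y, ∃ x : X, f.base x = y ∧ td (f.residueFieldMap x).hom = 0 :=
    fun y => exists_td_eq_zero f y (hne y)
  have hη : ∀ y : Y, f.base (genericPoint X) ⤳ y := by
    intro y
    obtain ⟨x, hx, -⟩ := hpt y
    rw [← hx]
    exact (hξ x).map f.continuous
  obtain ⟨t, ht⟩ := exists_nat_td_residueFieldMap f (genericPoint X)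
  have hdim := dim_fiber_generic f (genericPoint X) hξ t ht
  have hnt : n ≤ t := by
    have := hfib (f.base (genericPoint X))
    rw [hdim] at this
    exact_mod_cast this
  refine ⟨hpt, hη, t, ht, hnt, hdim, ?_⟩
  haveI : Nonempty Y := ⟨f.base (genericPoint X)⟩
  rw [dim_eq_coe_iSup_sd X, dim_eq_coe_iSup_sd Y]
  have key : (⨆ y : Y, sd Y y) + (n : ℕ∞) ≤ ⨆ x : X, sd X x := by
    rw [ENat.iSup_add]
    refine iSup_le fun y => ?_
    obtain ⟨x, hx, h0⟩ := hpt y
    obtain ⟨c, hc, h⟩ := sd_add_td_eq f (genericPoint X) hξ hη x (hY _) t ht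
    rw [h0] at hc
    have hc0 : c = 0 := by exact_mod_cast hc.symm
    subst hc0
    subst hx
    refine le_trans ?_ (le_iSup _ x)
    simp only [Nat.cast_zero, add_zero] at h
    rw [h]
    gcongr
  exact_mod_cast key

open AlgebraicGeometry CategoryTheory in
/-- Let Y be a locally Noetherian scheme all of whose local rings are universally catenary, X an
irreducible scheme, f : X → Y a morphism locally of finite type and n a natural number. If every
fibre of f has dimension at least n then dim X ≥ dim Y + n; if every fibre has dimension exactly n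
then dim X = dim Y + n. (The empty scheme has dimension ⊥, so either hypothesis forces f to be
surjective.) -/
theorem result {X Y : Scheme.{u}} (f : X ⟶ Y) [IsLocallyNoetherian Y]
    [LocallyOfFiniteType f] [IrreducibleSpace X] (hY : ∀ y : Y, CAlg.IsUniversallyCatenary (Y.presheaf.stalk y))
    (n : ℕ) :
    ((∀ y : Y, (n : WithBot ℕ∞) ≤ topologicalKrullDim (f.fiber y)) →
        topologicalKrullDim Y + n ≤ topologicalKrullDim X) ∧
      ((∀ y : Y, topologicalKrullDim (f.fiber y) = n) →
        topologicalKrullDim X = topologicalKrullDim Y + n) := by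
  constructor
  · intro hfib
    exact (lower f hY n hfib).2.2.choose_spec.2.2.2
  · intro hfib
    have hfib' : ∀ y : Y, (n : WithBot ℕ∞) ≤ topologicalKrullDim (f.fiber y) :=
      fun y => le_of_eq (hfib y).symm
    obtain ⟨hpt, hη, t, ht, hnt, hdim, hlow⟩ := lower f hY n hfib'
    have htn : t = n := by
      have := hfib (f.base (genericPoint X))
      rw [hdim] at this
      exact_mod_cast this
    subst htn
    apply le_antisymm _ hlow
    haveI : Nonempty Y := ⟨f.base (genericPoint X)⟩
    rw [Groth.Agent.Lib.helper3.DimFibre.dim_eq_coe_iSup_sd X,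
      Groth.Agent.Lib.helper3.DimFibre.dim_eq_coe_iSup_sd Y]
    have key : (⨆ x : X, Groth.Agent.Lib.helper3.DimFibre.sd X x) ≤
        (⨆ y : Y, Groth.Agent.Lib.helper3.DimFibre.sd Y y) + (t : ℕ∞) := by
      refine iSup_le fun x => ?_
      obtain ⟨c, hc, h⟩ := Groth.Agent.Lib.helper3.DimFibre.sd_add_td_eq f (genericPoint X)
        genericPoint_specializes hη x (hY _) t ht
      calc Groth.Agent.Lib.helper3.DimFibre.sd X x
          ≤ Groth.Agent.Lib.helper3.DimFibre.sd X x + (c : ℕ∞) := le_self_add
        _ = Groth.Agent.Lib.helper3.DimFibre.sd Y (f.base x) + (t : ℕ∞) := h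
        _ ≤ _ := by
            gcongr
            exact le_iSup (fun y => Groth.Agent.Lib.helper3.DimFibre.sd Y y) (f.base x)
    exact_mod_cast key

end Groth.Agent.S4692
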