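import Groth.Statements.S4693
import Mathlib
import Groth.Agent.Lib.Helper26.FlatDim1
import Groth.Agent.Lib.Helper26.CM1
import Groth.Agent.Lib.Helper24.FlatDepth3
import Groth.Agent.S2604

set_option autoImplicit false
universe u
open EGA4

namespace Groth.Agent.S4693


open Groth.Agent.Lib.helper26.Depth Groth.Agent.Lib.helper26.FlatDim
  Groth.Agent.Lib.Helper24.FlatDepth IsLocalRing LocCoh TensorProduct
open scoped Pointwise

/-- the closed fibre module has support dimension at most that of the fibre ring. -/
theorem supportDim_fibMod_le (A B : Type u) [CommRing A] [CommRing B] [IsNoetherianRing A]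
    [IsNoetherianRing B] [IsLocalRing A] [IsLocalRing B] [Algebra A B] [IsLocalHom (algebraMap A B)]
    (N : Type u) [AddCommGroup N] [Module B N] [Module.Finite B N] :
    Module.supportDim B (FibMod A B N) ≤ ringKrullDim (FibRing A B) := by
  have hsurj : Function.Surjective (algebraMap B (FibRing A B)) := Ideal.Quotient.mk_surjective
  have hfinF : Module.Finite (FibRing A B) (FibMod A B N) :=
    Module.Finite.of_restrictScalars_finite B (FibRing A B) (FibMod A B N)
  rw [Groth.Agent.S2604.supportDim_eq_of_surjective hsurj (FibMod A B N)]
  exact Module.supportDim_le_ringKrullDim _ _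


/-- Let A → B be a local homomorphism of Noetherian local rings such that the closed fibre ring B/m_A B
has Krull dimension 0 (that is, m_A B is an ideal of definition of B). Then dim B ≤ dim A. If
moreover some finite B-module which is flat over A has support equal to all of Spec B (for instance
if B is flat over A), then dim B = dim A. -/
theorem result (A B : Type u) [CommRing A] [CommRing B] [IsNoetherianRing A]
    [IsNoetherianRing B] [IsLocalRing A] [IsLocalRing B] [Algebra A B] [IsLocalHom (algebraMap A B)]
    (h0 : ringKrullDim (EGA4.FibRing A B) = 0) :
    ringKrullDim B ≤ ringKrullDim A ∧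
      (∀ (N : Type u) [AddCommGroup N] [Module B N] [Module A N] [IsScalarTower A B N] [Module.Finite B N]
          [Module.Flat A N], Module.support B N = Set.univ → ringKrullDim B = ringKrullDim A) := by
  have hntA : Nontrivial A := inferInstance
  constructor
  · -- dim B ≤ dim A + dim (B ⊗ k) ≤ dim A + 0
    have h1 := supportDim_tensor_le A B B A
    rw [Module.supportDim_eq_of_equiv (tensorQuotEquiv A B B (maximalIdeal A)),
      Module.supportDim_eq_of_equiv (TensorProduct.AlgebraTensorModule.rid A B B),
      Module.supportDim_self_eq_ringKrullDim, Module.supportDim_self_eq_ringKrullDim] at h1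
    have h2 := supportDim_fibMod_le A B B
    rw [h0] at h2
    calc ringKrullDim B ≤ ringKrullDim A + _ := h1
      _ ≤ ringKrullDim A + 0 := add_le_add_right h2 _
      _ = ringKrullDim A := add_zero _
  · intro N _ _ _ _ _ _ hsupp
    have hNnt : Nontrivial N := by
      have hmem : (IsLocalRing.closedPoint B) ∈ Module.support B N := by
        rw [hsupp]; trivial
      rw [Module.mem_support_iff] at hmem
      by_contra hnt
      rw [not_nontrivial_iff_subsingleton] at hnt
      have hsub : Subsingleton (LocalizedModule
          (IsLocalRing.closedPoint B).asIdeal.primeCompl N) := inferInstance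
      exact not_subsingleton _ hsub
    have h1 := supportDim_tensor' A B N A
    rw [Module.supportDim_eq_of_equiv (TensorProduct.AlgebraTensorModule.rid A B N),
      Module.supportDim_self_eq_ringKrullDim] at h1
    have hN : Module.supportDim B N = ringKrullDim B := by
      unfold Module.supportDim ringKrullDim
      rw [hsupp]
      exact Order.krullDim_eq_of_orderIso (OrderIso.Set.univ)
    rw [hN] at h1
    have hle : mB A B ≤ maximalIdeal B := IsLocalRing.map_maximalIdeal_le (algebraMap A B)
    have hXnt : Nontrivial (FibMod A B N) := by
      refine Submodule.Quotient.nontrivial_iff.mpr ?_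
      intro h
      have h1 : mB A B • (⊤ : Submodule B N) ≤ maximalIdeal B • (⊤ : Submodule B N) :=
        Submodule.smul_mono_left hle
      exact maximalIdeal_smul_top_ne_top (A := B) N (top_le_iff.mp (h.symm.le.trans h1))
    have h2 := supportDim_fibMod_le A B N
    rw [h0] at h2
    have h3 : (0 : WithBot ℕ∞) ≤ Module.supportDim B (FibMod A B N) := by
      obtain ⟨d, hd⟩ := exists_nat_supportDim (A := B) (FibMod A B N)
      rw [hd]
      exact_mod_cast Nat.zero_le d
    have h4 : Module.supportDim B (FibMod A B N) = 0 := le_antisymm h2 h3
    change ringKrullDim B = ringKrullDim A + Module.supportDim B (FibMod A B N) at h1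
    rw [h1, h4, add_zero]


end Groth.Agent.S4693
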