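import Groth.Statements.S4696
import Groth.Agent.S2644
import Groth.Agent.Lib.Helper24.HomComp
import Groth.Agent.Lib.Helper24.NormalAscent
-- import your own Groth.Agent.* helpers here

set_option autoImplicit false
universe u
open EGA4

namespace Groth.Agent.S4696

/-- Case of normal morphisms, affine form: let A → B → C be homomorphisms of Noetherian rings. If A → B
and B → C are normal (flat, with geometrically normal fibres) then the composite A → C is normal. -/
theorem result (A B C : Type u) [CommRing A] [CommRing B] [CommRing C] [IsNoetherianRing A]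
    [IsNoetherianRing B] [IsNoetherianRing C] [Algebra A B] [Algebra B C] [Algebra A C] [IsScalarTower A B C]
    (hAB : EGA4.IsNormalHom A B) (hBC : EGA4.IsNormalHom B C) : EGA4.IsNormalHom A C := by
  obtain ⟨hfAB, hAB'⟩ := hAB
  obtain ⟨hfBC, hBC'⟩ := hBC
  haveI := hfAB
  haveI := hfBC
  refine ⟨Module.Flat.trans A B C, fun p hp K _ _ hfin => ?_⟩
  haveI := hfin
  haveI : IsNoetherianRing (p.Fiber B) :=
    Groth.Agent.Lib.Helper24.HensFibre.isNoetherianRing_fibre A B p
  haveI : IsNoetherianRing (p.Fiber C) :=
    Groth.Agent.Lib.Helper24.HensFibre.isNoetherianRing_fibre A C p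
  haveI : IsNoetherianRing (TensorProduct p.ResidueField K (p.Fiber B)) :=
    Groth.Agent.Lib.Helper24.HomComp.isNoetherianRing_tensor_of_finite _ _ _
  haveI : IsNoetherianRing (TensorProduct p.ResidueField K (p.Fiber C)) :=
    Groth.Agent.Lib.Helper24.HomComp.isNoetherianRing_tensor_of_finite _ _ _
  exact Groth.Agent.Lib.Helper24.HomComp.comp_fibre A B C
    (P := fun R _ => EGA4.IsNormalRing R)
    (fun R R' _ _ e h => Groth.Agent.S2644.isNormalRing_of_ringEquiv e h)
    (fun R S _ _ _ _ _ _ hR hF =>
      Groth.Agent.Lib.Helper24.NormalAscent.isNormalRing_of_flat_of_fibres R S hR hF)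
    p K (hAB' p K hfin) (fun q _ L _ _ hL => hBC' q L hL)

end Groth.Agent.S4696
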