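import Groth.Statements.S4701
import Groth.Agent.S4700
-- import your own Groth.Agent.* helpers here

set_option autoImplicit false
universe u
open EGA4

namespace Groth.Agent.S4701

theorem comap_mem_regLocus {R R' : Type u} [CommRing R] [CommRing R'] (e : R ≃+* R')
    (y : PrimeSpectrum R') (hy : y ∈ EGA4.regLocus R') :
    PrimeSpectrum.comap e.toRingHom y ∈ EGA4.regLocus R := by
  haveI : IsRegularLocalRing (Localization.AtPrime y.asIdeal) := hy
  show IsRegularLocalRing (Localization.AtPrime (y.asIdeal.comap e.toRingHom))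
  exact IsRegularLocalRing.of_ringEquiv (IsLocalization.ringEquivOfRingEquiv
    (Localization.AtPrime (y.asIdeal.comap e)) (Localization.AtPrime y.asIdeal) e
    (e.map_primeCompl_comap_eq y.asIdeal)).symm

theorem bot_mem_regLocus (D : Type u) [CommRing D] [IsDomain D] :
    (⟨⊥, Ideal.isPrime_bot⟩ : PrimeSpectrum D) ∈ EGA4.regLocus D := by
  show IsRegularLocalRing (Localization.AtPrime (⊥ : Ideal D))
  let _ : Field (Localization.AtPrime (⊥ : Ideal D)) := IsField.toField <| by
    simp [IsLocalRing.isField_iff_maximalIdeal_eq, ← Localization.AtPrime.map_eq_maximalIdeal]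
  infer_instance


/-- Let A be a Noetherian ring. The regular locus of every quotient ring A/I is open in its spectrum if
and only if, for every prime ideal p, the regular locus of the domain A/p contains a nonempty open
subset of Spec(A/p). (The published statement quantifies over all subschemes of Spec A; open
subschemes of the closed ones add nothing, so closed subschemes are used here.) -/
theorem result (A : Type u) [CommRing A] [IsNoetherianRing A] :
    (∀ I : Ideal A, IsOpen (EGA4.regLocus (A ⧸ I))) ↔
      ∀ (p : Ideal A) [p.IsPrime],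
        ∃ U : Set (PrimeSpectrum (A ⧸ p)), IsOpen U ∧ U.Nonempty ∧ U ⊆ EGA4.regLocus (A ⧸ p) := by
  constructor
  · intro h p hp
    exact ⟨EGA4.regLocus (A ⧸ p), h p, ⟨_, bot_mem_regLocus (A ⧸ p)⟩, subset_rfl⟩
  · intro h I
    apply Groth.Agent.S4700.main (A ⧸ I)
    intro P hP
    obtain ⟨U, hUopen, hUne, hUsub⟩ := h (P.asIdeal.comap (Ideal.Quotient.mk I))
    let f : A →+* (A ⧸ I) ⧸ P.asIdeal := (Ideal.Quotient.mk P.asIdeal).comp (Ideal.Quotient.mk I)
    have hfsurj : Function.Surjective f :=
      Ideal.Quotient.mk_surjective.comp Ideal.Quotient.mk_surjective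
    have hker : RingHom.ker f = P.asIdeal.comap (Ideal.Quotient.mk I) := by
      rw [← RingHom.comap_ker, Ideal.mk_ker]
    let e : (A ⧸ P.asIdeal.comap (Ideal.Quotient.mk I)) ≃+* ((A ⧸ I) ⧸ P.asIdeal) :=
      (Ideal.quotEquivOfEq hker.symm).trans (RingHom.quotientKerEquivOfSurjective hfsurj)
    let φ := PrimeSpectrum.homeomorphOfRingEquiv e
    refine ⟨φ '' U, φ.isOpenMap _ hUopen, hUne.image _, ?_⟩
    rintro _ ⟨y, hy, rfl⟩
    exact comap_mem_regLocus e.symm y (hUsub hy)

end Groth.Agent.S4701
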