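import Groth.Statements.S4702
import Mathlib
import Groth.Agent.Lib.Helper3.FibreGeneric
import Groth.Agent.S1554
import Groth.Agent.Lib.Helper3.DimFibre
import Groth.Agent.Lib.Helper3.DimIneqSch2

set_option autoImplicit false
universe u
open EGA4

namespace Groth.Agent.S4702
open AlgebraicGeometry CategoryTheory Groth.Agent.Lib.helper3.DimIneq Groth.Agent.Lib.helper3.DimFibre Groth.Agent.Lib.helper3.RelDim Groth.Agent.Lib.helper3.QFinTop Groth.Agent.Lib.helper3.FibreField

open AlgebraicGeometry CategoryTheory in
/-- Let Y be an irreducible locally Noetherian scheme of dimension 1, X an irreducible scheme and f : X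
→ Y a dominant morphism of finite type. Then for every point y in the image of f, every irreducible
component of the fibre of f at y has dimension equal to the dimension of the generic fibre. -/
theorem result {X Y : Scheme.{u}} (f : X ⟶ Y) [IsLocallyNoetherian Y]
    [IrreducibleSpace Y] [IrreducibleSpace X] (hY : topologicalKrullDim Y = 1) [LocallyOfFiniteType f]
    [QuasiCompact f] (hf : DenseRange f.base) (y : Y) (hy : y ∈ Set.range f.base)
    (Z : Set ↥(f.fiber y)) (hZ : Z ∈ irreducibleComponents ↥(f.fiber y)) :
    topologicalKrullDim Z = topologicalKrullDim ↥(f.fiber (genericPoint Y)) := by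
  obtain ⟨x₀, rfl⟩ := hy
  set ξ := genericPoint X with hξ
  have hgen : ∀ z : X, ξ ⤳ z := fun z => genericPoint_specializes z
  have hfξ : f ξ = genericPoint Y := genericPoint_map_eq f hf
  obtain ⟨e, -, he, -, -⟩ := fibreDimAt_eq_add f ξ
  have hgenfib : topologicalKrullDim (f.fiber (genericPoint Y)) = (e : WithBot ℕ∞) := by
    rw [← hfξ]
    exact dim_fiber_generic f ξ hgen e he
  rw [hgenfib]
  have hξdim : FlatMor.fibreDimAt f ξ = (e : WithBot ℕ∞) := by
    apply fibreDimAt_eq_td_of_forall f ξ _ e he
    intro x' hx' _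
    exact (hx'.antisymm (hgen x')).eq
  have hall : ∀ x : X, FlatMor.fibreDimAt f x = (e : WithBot ℕ∞) := by
    intro x
    have hdimY : ringKrullDim (Y.presheaf.stalk (f.base x)) ≤ 1 := by
      rw [← hY]
      exact stalk_le_dim (f.base x)
    refine Groth.Agent.S1554.result f x hdimY e ?_
    intro Z' hZ' _ η' hη'
    have hZu : Set.univ ⊆ Z' := hZ'.2 (IrreducibleSpace.isIrreducible_univ X) (Set.subset_univ Z')
    have h1 : η' ⤳ ξ := hη'.specializes (hZu trivial)
    have h2 : η' = ξ := (h1.antisymm (hgen η')).eq
    rw [h2, hξdim]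
  letI := fiberOver f (f.base x₀)
  haveI : LocallyOfFiniteType ((f.fiber (f.base x₀)) ↘
      Spec (CommRingCat.of (Y.residueField (f.base x₀)))) :=
    locallyOfFiniteType_fiber f (f.base x₀)
  refine dim_eq_of_forall_localDim (Y.residueField (f.base x₀)) (f.fiber (f.base x₀)) e
    (fun z => ?_) Z hZ
  rw [localDim_fiber_eq f (f.base x₀) (f.fiberι (f.base x₀) z) (fiberι_mem f (f.base x₀) z) z rfl]
  exact hall _

end Groth.Agent.S4702
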