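import Groth.Statements.S4703
import Groth.Agent.Lib.Helper24.FiniteDomains
import Groth.Agent.Lib.Helper24.HensFibre
import Groth.Agent.Lib.Helper24.HomComp
import Groth.Agent.S0542
import Mathlib

set_option autoImplicit false
universe u
open EGA4

namespace Groth.Agent.S4703

open TensorProduct in
theorem isRegularHom_iff (A : Type u) [CommRing A] [IsNoetherianRing A] [IsLocalRing A] :
    CAlg.IsRegularHom A (EGA4.Cpl A) ↔
      ∀ (p : Ideal A) [p.IsPrime] (k' : Type u) [Field k'] [Algebra p.ResidueField k'],
        Module.Finite p.ResidueField k' →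
        Groth.Agent.Lib.Helper24.GeomSepAlg.Loc (fun R _ => IsRegularLocalRing R)
          (k' ⊗[p.ResidueField] p.Fiber (EGA4.Cpl A)) := by
  haveI hN : IsNoetherianRing (AdicCompletion (IsLocalRing.maximalIdeal A) A) :=
    Groth.Agent.S0542.result A _ (IsLocalRing.maximalIdeal A).fg_of_isNoetherianRing
  constructor
  · intro h p _ k' _ _ hfin q hq
    haveI := (h.2 p).2 k' hfin
    infer_instance
  · intro h
    refine ⟨inferInstance, fun p _ => ?_⟩
    haveI hF : IsNoetherianRing (p.Fiber (AdicCompletion (IsLocalRing.maximalIdeal A) A)) :=
      Groth.Agent.Lib.Helper24.HensFibre.isNoetherianRing_fibre A _ p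
    refine ⟨hF, fun k' _ _ hfin => ?_⟩
    haveI := hfin
    haveI : IsNoetherianRing
        (k' ⊗[p.ResidueField] p.Fiber (AdicCompletion (IsLocalRing.maximalIdeal A) A)) :=
      Groth.Agent.Lib.Helper24.HomComp.isNoetherianRing_tensor_of_finite _ _ _
    exact { isRegularLocalRing_localization := fun q _ => h p k' hfin q }

open TensorProduct in
/-- For the property 'geometrically regular', case of a local ring: let A be a Noetherian local ring
with completion Â. Then the formal fibres of A are geometrically regular (the completion map A → Â
is a regular homomorphism) if and only if, for every finite A-algebra B which is a domain and every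
prime ideal q of B ⊗_A Â whose contraction to B is zero, the local ring of B ⊗_A Â at q is regular.
(The published statement is for semi-local rings; this row takes A local.) -/
theorem result (A : Type u) [CommRing A] [IsNoetherianRing A] [IsLocalRing A] :
    CAlg.IsRegularHom A (EGA4.Cpl A) ↔
      ∀ (B : Type u) [CommRing B] [IsDomain B] [Algebra A B] [Module.Finite A B]
        (q : Ideal (B ⊗[A] EGA4.Cpl A)) [q.IsPrime],
        q.comap (algebraMap B (B ⊗[A] EGA4.Cpl A)) = ⊥ → IsRegularLocalRing (Localization.AtPrime q) := by
  rw [isRegularHom_iff]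
  exact Groth.Agent.Lib.Helper24.FiniteDomains.main (fun R _ => IsRegularLocalRing R)
    (fun R R' _ _ e h => haveI := h; IsRegularLocalRing.of_ringEquiv e) A (EGA4.Cpl A)

end Groth.Agent.S4703
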