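import Groth.Statements.S4705
import Groth.Agent.Lib.Helper24.CplFlat
import Groth.Agent.Lib.Helper24.FormalFibreDescent
import Groth.Agent.Lib.Helper24.HomComp
import Groth.Agent.Lib.Helper24.GeomReducedFinite
import Groth.Agent.Lib.Helper24.ReducedAscent
-- import your own Groth.Agent.* helpers here

set_option autoImplicit false
universe u
open EGA4

namespace Groth.Agent.S4705

/-- Let A → A' be a flat local homomorphism of Noetherian local rings all of whose fibre rings k(p) ⊗_A
A' are geometrically reduced over k(p). If the completion map of A' is regular (the formal fibres of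
A' are geometrically regular), then the formal fibres of A are geometrically reduced. -/
theorem result (A A' : Type u) [CommRing A] [CommRing A']
    [IsNoetherianRing A] [IsNoetherianRing A'] [IsLocalRing A] [IsLocalRing A'] [Algebra A A']
    [IsLocalHom (algebraMap A A')] [Module.Flat A A']
    (hf : ∀ (p : Ideal A) [p.IsPrime], Algebra.IsGeometricallyReduced p.ResidueField (p.Fiber A'))
    (hA' : CAlg.IsRegularHom A' (EGA4.Cpl A')) : EGA4.HasGeomReducedFormalFibres A := by
  haveI hN : IsNoetherianRing (AdicCompletion (IsLocalRing.maximalIdeal A) A) :=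
    Groth.Agent.S0542.result A _ (IsLocalRing.maximalIdeal A).fg_of_isNoetherianRing
  haveI hN' : IsNoetherianRing (AdicCompletion (IsLocalRing.maximalIdeal A') A') :=
    Groth.Agent.S0542.result A' _ (IsLocalRing.maximalIdeal A').fg_of_isNoetherianRing
  haveI : Module.Flat A' (AdicCompletion (IsLocalRing.maximalIdeal A') A') := hA'.1
  letI : Algebra (AdicCompletion (IsLocalRing.maximalIdeal A) A)
      (AdicCompletion (IsLocalRing.maximalIdeal A') A') :=
    (Groth.Agent.Lib.Helper24.CplFlat.cplMap A A').toAlgebra
  haveI : IsScalarTower A (AdicCompletion (IsLocalRing.maximalIdeal A) A)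
      (AdicCompletion (IsLocalRing.maximalIdeal A') A') :=
    IsScalarTower.of_algebraMap_eq'
      (Groth.Agent.Lib.Helper24.CplFlat.cplMap_comp_algebraMap A A').symm
  haveI hff : Module.FaithfullyFlat (AdicCompletion (IsLocalRing.maximalIdeal A) A)
      (AdicCompletion (IsLocalRing.maximalIdeal A') A') :=
    Groth.Agent.Lib.Helper24.CplFlat.faithfullyFlat_cplMap A A'
  intro p hp
  apply Groth.Agent.Lib.Helper24.GeomReducedFinite.isGeometricallyReduced_of_forall_finite
  intro K _ _ hfin
  haveI := hfin
  haveI : IsNoetherianRing (p.Fiber A') :=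
    Groth.Agent.Lib.Helper24.HensFibre.isNoetherianRing_fibre A A' p
  haveI : IsNoetherianRing (p.Fiber (AdicCompletion (IsLocalRing.maximalIdeal A') A')) :=
    Groth.Agent.Lib.Helper24.HensFibre.isNoetherianRing_fibre A _ p
  haveI : IsNoetherianRing (TensorProduct p.ResidueField K (p.Fiber A')) :=
    Groth.Agent.Lib.Helper24.HomComp.isNoetherianRing_tensor_of_finite _ _ _
  haveI : IsNoetherianRing (TensorProduct p.ResidueField K
      (p.Fiber (AdicCompletion (IsLocalRing.maximalIdeal A') A'))) :=
    Groth.Agent.Lib.Helper24.HomComp.isNoetherianRing_tensor_of_finite _ _ _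
  haveI := hf p
  have h1 : IsReduced (TensorProduct p.ResidueField K (p.Fiber A')) := inferInstance
  haveI hC : IsReduced (TensorProduct p.ResidueField K
      (p.Fiber (AdicCompletion (IsLocalRing.maximalIdeal A') A'))) :=
    Groth.Agent.Lib.Helper24.HomComp.comp_fibre A A'
      (AdicCompletion (IsLocalRing.maximalIdeal A') A')
      (P := fun R _ => IsReduced R)
      (fun R R' _ _ e h => by
        haveI := h
        exact isReduced_of_injective e.symm e.symm.injective)
      (fun R S _ _ _ _ _ _ hR hF => by
        haveI := hR
        exact Groth.Agent.Lib.Helper24.ReducedAscent.isReduced_of_flat_of_fibres R S hF)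
      p K h1 (fun q _ L _ _ hL => by
        haveI := (hA'.2 q).2 L hL
        exact Groth.Agent.Lib.Helper24.FormalFibreDescent.isReduced_of_isRegularRing _)
  have hinj := (Groth.Agent.Lib.Helper24.NormalDescent.faithfullyFlat_map_left_left A
      (AdicCompletion (IsLocalRing.maximalIdeal A) A)
      (AdicCompletion (IsLocalRing.maximalIdeal A') A') p.ResidueField K).injective
  exact isReduced_of_injective _ hinj

end Groth.Agent.S4705
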