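import Groth.Statements.S4706
import Groth.Agent.S2644
import Groth.Agent.Lib.Helper24.CplFlat
import Groth.Agent.Lib.Helper24.FormalFibreDescent
import Groth.Agent.Lib.Helper24.HomComp
-- import your own Groth.Agent.* helpers here

set_option autoImplicit false
universe u
open EGA4

namespace Groth.Agent.S4706

/-- Let A → A' be a local homomorphism of Noetherian local rings which is normal (flat, with
geometrically normal fibres). If the completion map of A' is regular (the formal fibres of A' are
geometrically regular), then the formal fibres of A are geometrically normal. -/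
theorem result (A A' : Type u) [CommRing A] [CommRing A']
    [IsNoetherianRing A] [IsNoetherianRing A'] [IsLocalRing A] [IsLocalRing A'] [Algebra A A']
    [IsLocalHom (algebraMap A A')] (hf : EGA4.IsNormalHom A A') (hA' : CAlg.IsRegularHom A' (EGA4.Cpl A')) :
    EGA4.HasGeomNormalFormalFibres A := by
  haveI hN : IsNoetherianRing (AdicCompletion (IsLocalRing.maximalIdeal A) A) :=
    Groth.Agent.S0542.result A _ (IsLocalRing.maximalIdeal A).fg_of_isNoetherianRing
  haveI hN' : IsNoetherianRing (AdicCompletion (IsLocalRing.maximalIdeal A') A') :=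
    Groth.Agent.S0542.result A' _ (IsLocalRing.maximalIdeal A').fg_of_isNoetherianRing
  haveI : Module.Flat A A' := hf.1
  haveI : Module.Flat A' (AdicCompletion (IsLocalRing.maximalIdeal A') A') := hA'.1
  letI : Algebra (AdicCompletion (IsLocalRing.maximalIdeal A) A)
      (AdicCompletion (IsLocalRing.maximalIdeal A') A') :=
    (Groth.Agent.Lib.Helper24.CplFlat.cplMap A A').toAlgebra
  haveI : IsScalarTower A (AdicCompletion (IsLocalRing.maximalIdeal A) A)
      (AdicCompletion (IsLocalRing.maximalIdeal A') A') :=
    IsScalarTower.of_algebraMap_eq'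
      (Groth.Agent.Lib.Helper24.CplFlat.cplMap_comp_algebraMap A A').symm
  haveI hff : Module.FaithfullyFlat (AdicCompletion (IsLocalRing.maximalIdeal A) A)
      (AdicCompletion (IsLocalRing.maximalIdeal A') A') :=
    Groth.Agent.Lib.Helper24.CplFlat.faithfullyFlat_cplMap A A'
  intro p hp K _ _ hfin
  haveI := hfin
  haveI : IsNoetherianRing (p.Fiber A') :=
    Groth.Agent.Lib.Helper24.HensFibre.isNoetherianRing_fibre A A' p
  haveI : IsNoetherianRing (p.Fiber (AdicCompletion (IsLocalRing.maximalIdeal A') A')) :=
    Groth.Agent.Lib.Helper24.HensFibre.isNoetherianRing_fibre A _ p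
  haveI : IsNoetherianRing (TensorProduct p.ResidueField K (p.Fiber A')) :=
    Groth.Agent.Lib.Helper24.HomComp.isNoetherianRing_tensor_of_finite _ _ _
  haveI : IsNoetherianRing (TensorProduct p.ResidueField K
      (p.Fiber (AdicCompletion (IsLocalRing.maximalIdeal A') A'))) :=
    Groth.Agent.Lib.Helper24.HomComp.isNoetherianRing_tensor_of_finite _ _ _
  have hC : EGA4.IsNormalRing (TensorProduct p.ResidueField K
      (p.Fiber (AdicCompletion (IsLocalRing.maximalIdeal A') A'))) :=
    Groth.Agent.Lib.Helper24.HomComp.comp_fibre A A'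
      (AdicCompletion (IsLocalRing.maximalIdeal A') A')
      (P := fun R _ => EGA4.IsNormalRing R)
      (fun R R' _ _ e h => Groth.Agent.S2644.isNormalRing_of_ringEquiv e h)
      (fun R S _ _ _ _ _ _ hR hF =>
        Groth.Agent.Lib.Helper24.NormalAscent.isNormalRing_of_flat_of_fibres R S hR hF)
      p K (hf.2 p K hfin) (fun q _ L _ _ hL => by
        haveI := (hA'.2 q).2 L hL
        exact Groth.Agent.Lib.Helper24.FormalFibreDescent.isNormalRing_of_isRegularRing _)
  exact Groth.Agent.Lib.Helper24.NormalDescent.isNormalRing_of_faithfullyFlat_ringHom _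
    (Groth.Agent.Lib.Helper24.NormalDescent.faithfullyFlat_map_left_left A
      (AdicCompletion (IsLocalRing.maximalIdeal A) A)
      (AdicCompletion (IsLocalRing.maximalIdeal A') A') p.ResidueField K) hC

end Groth.Agent.S4706
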