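import Groth.Statements.S4709
import Groth.Agent.S12125
import Groth.Agent.S0567
import Groth.Agent.S2657
import Groth.Agent.Lib.Helper24.ExcLoc
import Groth.Agent.Lib.Helper26.RegularNormal

set_option autoImplicit false
universe u
open EGA4

namespace Groth.Agent.S4709

/-- Let A be a Noetherian ring such that (i) for every maximal ideal m the formal fibres of A_m are
geometrically reduced, and (ii) the regular locus of every A-algebra of finite type is open (A is
J-2). Then A is universally Japanese. -/
theorem result (A : Type u) [CommRing A] [IsNoetherianRing A]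
    (h1 : ∀ (m : Ideal A) [m.IsMaximal], EGA4.HasGeomReducedFormalFibres (Localization.AtPrime m))
    (h2 : EGA4.IsJ2 A) : CAlg.IsUniversallyJapanese A := by
  have hN : CAlg.IsNagata A := by
    rw [Groth.Agent.S12125.result A]
    refine ⟨fun m _ P _ => (Groth.Agent.S2657.result _ (h1 m)).2 P, ?_⟩
    intro p _ K' _ _ _ _ hfd hpi B' hB'fin hB'frac
    haveI := hB'fin
    haveI := hB'frac
    letI algAB' : Algebra A B' := ((algebraMap (A ⧸ p) B').comp (Ideal.Quotient.mk p)).toAlgebra
    haveI : IsScalarTower A (A ⧸ p) B' := IsScalarTower.of_algebraMap_eq (fun _ => rfl)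
    haveI : Algebra.FiniteType (A ⧸ p) B' := Module.Finite.finiteType B'
    haveI : Algebra.FiniteType A (A ⧸ p) :=
      Algebra.FiniteType.of_surjective (Ideal.Quotient.mkₐ A p) (Ideal.Quotient.mkₐ_surjective A p)
    have hft : Algebra.FiniteType A B' :=
      Algebra.FiniteType.trans (S := A ⧸ p) inferInstance inferInstance
    have hopen : IsOpen (EGA4.regLocus B') := h2 B' hft
    -- the generic point is regular
    have hgen : (⟨⊥, Ideal.isPrime_bot⟩ : PrimeSpectrum B') ∈ EGA4.regLocus B' := by
      change IsRegularLocalRing (Localization.AtPrime (⊥ : Ideal B'))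
      have hmax : IsLocalRing.maximalIdeal (Localization.AtPrime (⊥ : Ideal B')) = ⊥ := by
        rw [← IsLocalization.AtPrime.map_eq_maximalIdeal (⊥ : Ideal B'), Ideal.map_bot]
      haveI : IsNoetherianRing (Localization.AtPrime (⊥ : Ideal B')) :=
        IsLocalization.isNoetherianRing (⊥ : Ideal B').primeCompl _
          (IsNoetherianRing.of_finite (A ⧸ p) B')
      apply IsRegularLocalRing.of_spanFinrank_maximalIdeal_le
      rw [hmax]
      have h0 : (⊥ : Ideal (Localization.AtPrime (⊥ : Ideal B'))).spanFinrank = 0 :=
        (Submodule.spanFinrank_eq_zero_iff_eq_bot Submodule.fg_bot).mpr rfl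
      rw [h0]
      exact_mod_cast ringKrullDim_nonneg_of_nontrivial
    obtain ⟨U, ⟨f, rfl⟩, hfU, hUsub⟩ :=
      PrimeSpectrum.isTopologicalBasis_basic_opens.exists_subset_of_mem_open hgen hopen
    have hf0 : f ≠ 0 := by
      rintro rfl
      exact hfU (Ideal.zero_mem _)
    refine ⟨f, hf0, ?_⟩
    have hle : Submonoid.powers f ≤ nonZeroDivisors B' :=
      Submonoid.powers_le.mpr (mem_nonZeroDivisors_of_ne_zero hf0)
    haveI : IsDomain (Localization.Away f) := IsLocalization.isDomain_of_le_nonZeroDivisors _ hle
    apply IsIntegrallyClosed.of_localization_maximal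
    intro M _ _
    obtain ⟨e⟩ := Groth.Agent.Lib.Helper24.ExcLoc.nonempty_ringEquiv_atPrime B' (Localization.Away f)
      (Submonoid.powers f) M
    have hq : (⟨M.comap (algebraMap B' (Localization.Away f)), inferInstance⟩ : PrimeSpectrum B') ∈
        EGA4.regLocus B' := by
      apply hUsub
      change f ∉ M.comap (algebraMap B' (Localization.Away f))
      intro hfM
      rw [Ideal.mem_comap] at hfM
      exact (Ideal.IsPrime.ne_top inferInstance) (Ideal.eq_top_of_isUnit_mem _ hfM
        (IsLocalization.map_units (Localization.Away f) (⟨f, Submonoid.mem_powers f⟩ : Submonoid.powers f)))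
    haveI : IsRegularLocalRing (Localization.AtPrime (M.comap (algebraMap B' (Localization.Away f)))) := hq
    haveI : IsIntegrallyClosed (Localization.AtPrime (M.comap (algebraMap B' (Localization.Away f)))) :=
      Groth.Agent.Lib.helper26.RegNormal.isIntegrallyClosed _
    exact IsIntegrallyClosed.of_equiv e
  exact ((Groth.Agent.S0567.result A).mp hN).2

end Groth.Agent.S4709
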