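import Groth.Statements.S4711
import Mathlib.RingTheory.Spectrum.Prime.ConstructibleSet
import Mathlib.AlgebraicGeometry.Morphisms.QuasiSeparated
import Mathlib.AlgebraicGeometry.Properties
import Mathlib.Topology.LocallyClosed

set_option autoImplicit false
universe u
open EGA4

namespace Groth.Agent.S4711

open PrimeSpectrum in
/-- A nonempty basic constructible set `V(g) \ V(f)` of `Spec A` contains a point `q` such that
`{q}` is locally closed. -/
theorem exists_isLocallyClosed_singleton_of_toSet {A : Type u} [CommRing A]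
    (C : BasicConstructibleSetData A) (hne : C.toSet.Nonempty) :
    ∃ q ∈ C.toSet, IsLocallyClosed ({q} : Set (PrimeSpectrum A)) := by
  obtain ⟨p, hpV, hpf⟩ := hne
  have hemb := localization_away_isOpenEmbedding (Localization.Away C.f) C.f
  have hrange : Set.range (comap (algebraMap A (Localization.Away C.f))) =
      (basicOpen C.f : Set (PrimeSpectrum A)) :=
    localization_away_comap_range (Localization.Away C.f) C.f
  have hpD : p ∈ (basicOpen C.f : Set (PrimeSpectrum A)) := by
    simpa [basicOpen_eq_zeroLocus_compl] using hpf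
  rw [← hrange] at hpD
  obtain ⟨P, rfl⟩ := hpD
  obtain ⟨M, hM, hPM⟩ := Ideal.exists_le_maximal P.asIdeal P.2.ne_top
  let Mpt : PrimeSpectrum (Localization.Away C.f) := ⟨M, hM.isPrime⟩
  have hMcl : IsClosed ({Mpt} : Set (PrimeSpectrum (Localization.Away C.f))) :=
    (isClosed_singleton_iff_isMaximal Mpt).mpr hM
  have hsp : P ⤳ Mpt := (le_iff_specializes P Mpt).mp hPM
  have hsp' := hsp.map (continuous_comap (algebraMap A (Localization.Away C.f)))
  refine ⟨comap (algebraMap A (Localization.Away C.f)) Mpt, ⟨?_, ?_⟩, ?_⟩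
  · exact hsp'.mem_closed (isClosed_zeroLocus _) hpV
  · have : comap (algebraMap A (Localization.Away C.f)) Mpt ∈
        (basicOpen C.f : Set (PrimeSpectrum A)) := hrange ▸ Set.mem_range_self Mpt
    simpa [basicOpen_eq_zeroLocus_compl] using this
  · have := hMcl.isLocallyClosed.image hemb.isInducing hemb.isOpen_range.isLocallyClosed
    rwa [Set.image_singleton] at this

open AlgebraicGeometry Topology in
/-- In any scheme X, every nonempty locally constructible subset E contains a point x such that the
one-point set {x} is locally closed in X (equivalently x is isolated in its closure). -/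
theorem result (X : Scheme.{u}) (E : Set X)
    (hE : Topology.IsLocallyConstructible E) (hne : E.Nonempty) :
    ∃ x ∈ E, IsLocallyClosed ({x} : Set X) := by
  obtain ⟨x0, hx0⟩ := hne
  obtain ⟨_, ⟨U, hU, rfl⟩, hxU, -⟩ :=
    X.isBasis_affineOpens.exists_subset_of_mem_open (Set.mem_univ x0) isOpen_univ
  have hU' : IsAffineOpen U := hU
  have hemb : Topology.IsOpenEmbedding hU'.fromSpec.base := hU'.fromSpec.isOpenEmbedding
  have hZ : Topology.IsConstructible (hU'.fromSpec.base ⁻¹' E) :=
    (hE.preimage_of_isOpenEmbedding hemb).isConstructible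
  obtain ⟨S, hS⟩ := (PrimeSpectrum.exists_constructibleSetData_iff (R := Γ(X, U))
    (s := hU'.fromSpec.base ⁻¹' E)).mpr hZ
  have hrange : Set.range hU'.fromSpec.base = (U : Set X) := hU'.range_fromSpec
  obtain ⟨p0, hp0⟩ : x0 ∈ Set.range hU'.fromSpec.base := hrange ▸ hxU
  have hp0S : (p0 : PrimeSpectrum Γ(X, U)) ∈ S.toSet := by
    rw [hS]
    show hU'.fromSpec.base p0 ∈ E
    rw [hp0]
    exact hx0
  rw [PrimeSpectrum.ConstructibleSetData.toSet] at hp0S
  obtain ⟨C, hC, hpC⟩ := Set.mem_iUnion₂.mp hp0S
  obtain ⟨q, hqC, hq⟩ := exists_isLocallyClosed_singleton_of_toSet C ⟨_, hpC⟩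
  have hqS : q ∈ S.toSet := by
    rw [PrimeSpectrum.ConstructibleSetData.toSet]
    exact Set.mem_biUnion hC hqC
  have hqE : hU'.fromSpec.base q ∈ E := by
    rw [hS] at hqS
    exact hqS
  refine ⟨hU'.fromSpec.base q, hqE, ?_⟩
  have hq' : IsLocallyClosed ({q} : Set ↥(Spec Γ(X, U))) := hq
  have := hq'.image hemb.isInducing hemb.isOpen_range.isLocallyClosed
  have e : hU'.fromSpec.base '' ({q} : Set ↥(Spec Γ(X, U))) = {hU'.fromSpec.base q} :=
    Set.image_singleton
  rw [← e]
  exact this

end Groth.Agent.S4711
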