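import Groth.Statements.S4714
import Mathlib
import Groth.Agent.Lib.Helper3.FTFieldClosureDim

set_option autoImplicit false
universe u
open EGA4

namespace Groth.Agent.S4714
open Groth.Agent.Lib.helper3.FTField Groth.Agent.Lib.helper3.DimIneq Groth.Agent.Lib.helper3.ChainDim

open AlgebraicGeometry CategoryTheory in
/-- For a section of the structure sheaf: let X be a scheme locally of finite type over a field k and f
a global section of O_X whose zero locus Y is nowhere dense in X. Then dim Y + 1 ≤ dim X. If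
moreover some irreducible component of X has dimension equal to dim X and Y meets every such
component, then dim Y + 1 = dim X. (The published statement is for a section of an invertible sheaf;
the existence of a component of maximal dimension, implicit in the published wording, is made a
hypothesis of the equality clause.) -/
theorem result (k : Type u) [Field k] (X : Scheme.{u}) (p : X ⟶ Spec (CommRingCat.of k))
    [LocallyOfFiniteType p] (f : Γ(X, ⊤)) (hY : interior (X.zeroLocus (U := ⊤) {f}) = ∅) :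
    topologicalKrullDim (X.zeroLocus (U := ⊤) {f}) + 1 ≤ topologicalKrullDim X ∧
      ((∃ Z ∈ irreducibleComponents (X : Type u), topologicalKrullDim Z = topologicalKrullDim X) →
        (∀ Z ∈ irreducibleComponents (X : Type u), topologicalKrullDim Z = topologicalKrullDim X →
          (Z ∩ X.zeroLocus (U := ⊤) {f}).Nonempty) →
        topologicalKrullDim (X.zeroLocus (U := ⊤) {f}) + 1 = topologicalKrullDim X) := by
  letI : X.Over (Spec (CommRingCat.of k)) := ⟨p⟩
  haveI : LocallyOfFiniteType (X ↘ Spec (CommRingCat.of k)) := ‹LocallyOfFiniteType p›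
  set Y := X.zeroLocus (U := ⊤) {f} with hYdef
  have hYc : IsClosed Y := X.zeroLocus_isClosed _
  -- a point of `Y` is never generic in a chart
  have hnotmin : ∀ (y : X) (U : X.Opens) (hU : IsAffineOpen U) (hy : y ∈ U), y ∈ Y →
      (hU.primeIdealOf ⟨y, hy⟩).asIdeal ∉ minimalPrimes Γ(X, U) := by
    intro y U hU hy hyY hmin
    have := interior_zeroLocus_nonempty_of_minimal f hU y hy hyY hmin
    rw [hY] at this
    exact Set.not_nonempty_empty this
  -- part 1
  have part1 : topologicalKrullDim ↥Y + 1 ≤ topologicalKrullDim X := by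
    apply add_one_le_of_forall
    intro m hm
    obtain ⟨c, hc, hcY⟩ := exists_chain_of_le_dim Y hYc m hm
    obtain ⟨U, hU, hyU, -⟩ := exists_isAffineOpen_mem_and_subset (x := c 0) (U := ⊤) trivial
    have hnm := hnotmin (c 0) U hU hyU (hcY 0)
    obtain ⟨q0, hq0, hq0le⟩ := Ideal.exists_minimalPrimes_le
      (I := ⊥) (J := (hU.primeIdealOf ⟨c 0, hyU⟩).asIdeal) bot_le
    haveI : q0.IsPrime := hq0.1.1
    have hq0ne : q0 ≠ (hU.primeIdealOf ⟨c 0, hyU⟩).asIdeal := fun heq => hnm (heq ▸ hq0)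
    obtain ⟨y', hy'U, hy'q⟩ := exists_point_of_prime hU q0
    have hs1 : y' ⤳ c 0 := by
      rw [specializes_iff_primeIdealOf_le hU y' (c 0) hy'U hyU, hy'q]; exact hq0le
    have hs2 : ¬ (c 0 ⤳ y') := by
      rw [specializes_iff_primeIdealOf_le hU (c 0) y' hyU hy'U, hy'q]
      intro hle
      exact hq0ne (le_antisymm hq0le hle)
    refine length_le_dim (m + 1) (Fin.cons y' c) ?_
    intro i
    refine Fin.cases ?_ (fun j => ?_) i
    · exact ⟨hs1, hs2⟩
    · exact hc j
  refine ⟨part1, fun hex hmeet => le_antisymm part1 ?_⟩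
  obtain ⟨Z₀, hZ₀, hdim⟩ := hex
  obtain ⟨ξ, hξ⟩ := QuasiSober.sober hZ₀.1 (isClosed_of_mem_irreducibleComponents Z₀ hZ₀)
  have hξdef : closure {ξ} = Z₀ := hξ.def
  subst hξdef
  obtain ⟨n, hn⟩ := exists_nat_trdeg_residueField k X ξ
  rw [← hdim, dim_closure_eq_trdeg k X ξ n hn]
  obtain ⟨y, hyZ, hyY⟩ := hmeet _ hZ₀ hdim
  have hξy : ξ ⤳ y := specializes_iff_mem_closure.mpr hyZ
  obtain ⟨U, hU, hyU, -⟩ := exists_isAffineOpen_mem_and_subset (x := y) (U := ⊤) trivial
  haveI : IsNoetherianRing Γ(X, U) := isNoetherianRing_of_isAffineOpen k X hU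
  have hξU : ξ ∈ U := hξy.mem_open U.isOpen hyU
  set a : Γ(X, U) := X.presheaf.map (homOfLE (le_top : U ≤ ⊤)).op f with ha
  have hle : (hU.primeIdealOf ⟨ξ, hξU⟩).asIdeal ≤ (hU.primeIdealOf ⟨y, hyU⟩).asIdeal :=
    (specializes_iff_primeIdealOf_le hU ξ y hξU hyU).mp hξy
  have haq : a ∈ (hU.primeIdealOf ⟨y, hyU⟩).asIdeal :=
    (mem_zeroLocus_iff_mem_primeIdealOf f hU y hyU).mp hyY
  have ha0 : a ∉ (hU.primeIdealOf ⟨ξ, hξU⟩).asIdeal := by
    intro hmem
    have hξY : ξ ∈ Y := (mem_zeroLocus_iff_mem_primeIdealOf f hU ξ hξU).mpr hmem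
    exact hnotmin ξ U hU hξU hξY
      (mem_minimalPrimes_of_closure_mem_irreducibleComponents X hU ξ hξU hZ₀)
  obtain ⟨q1, hq1p, h01, h1q, haq1, hht⟩ := exists_prime_height_map_eq_one
    (hU.primeIdealOf ⟨ξ, hξU⟩).asIdeal (hU.primeIdealOf ⟨y, hyU⟩).asIdeal hle a haq ha0
  haveI := hq1p
  obtain ⟨y1, hy1U, hy1q⟩ := exists_point_of_prime hU q1
  have hy1Y : y1 ∈ Y := by
    rw [mem_zeroLocus_iff_mem_primeIdealOf f hU y1 hy1U, hy1q]; exact haq1
  have h1 := height_map_add_trdeg_residueField k X hU ξ y1 hξU hy1U (by rw [hy1q]; exact h01)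
  rw [hy1q, hht, hn] at h1
  obtain ⟨n1, hn1⟩ := exists_nat_trdeg_residueField k X y1
  rw [hn1] at h1
  have h2 : 1 + n1 = n := by exact_mod_cast h1
  obtain ⟨c, hc, hcm⟩ := exists_chain_in_open k X y1 Set.univ isOpen_univ trivial n1 hn1
  have hsub : closure ({y1} : Set X) ⊆ Y := closure_minimal (Set.singleton_subset_iff.mpr hy1Y) hYc
  have h3 := length_le_dim_of_mem Y n1 c hc (fun i => hsub (hcm i).2)
  calc ((n : ℕ) : WithBot ℕ∞) = ((n1 : ℕ) : WithBot ℕ∞) + 1 := by
        rw [← h2]; push_cast; ring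
    _ ≤ topologicalKrullDim ↥Y + 1 := add_le_add_left h3 1

end Groth.Agent.S4714
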