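import Groth.Statements.S4881
import Mathlib
import Groth.Agent.Lib.Helper3.FTFieldLocalDim
import Groth.Agent.Lib.Helper11.SpecDim

set_option autoImplicit false
universe u
open CategoryTheory AlgebraicGeometry
open EGA43

namespace Groth.Agent.S4881

open Groth.Agent.Lib.helper3.FTField Groth.Agent.Lib.helper3.DimIneq Order Topology

/-- a chain of points inside a closed subset bounds its dimension from below. -/
theorem length_le_dim_of_mem {T : Type u} [TopologicalSpace T] [QuasiSober T] [T0Space T]
    (Z : Set T) (hZ : IsClosed Z) (n : ℕ) (c : Fin (n + 1) → T)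
    (hc : ∀ i : Fin n, c i.succ ⤳ c i.castSucc ∧ ¬ (c i.castSucc ⤳ c i.succ))
    (hp : ∀ i, c i ∈ Z) :
    (n : WithBot ℕ∞) ≤ topologicalKrullDim ↥Z := by
  haveI : QuasiSober ↥Z := hZ.isClosedEmbedding_subtypeVal.quasiSober
  rw [Groth.Agent.Lib.helper11.SpecDim.topologicalKrullDim_eq_krullDim]
  letI := specializationPreorder ↥Z
  let p' : LTSeries ↥Z :=
    { length := n
      toFun := fun i => ⟨c i, hp i⟩
      step := fun i => by
        change (⟨c i.castSucc, _⟩ : ↥Z) < ⟨c i.succ, _⟩
        refine lt_of_le_not_ge ?_ ?_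
        · exact Topology.IsInducing.subtypeVal.specializes_iff.1 (hc i).1
        · intro hcon
          exact (hc i).2 (Topology.IsInducing.subtypeVal.specializes_iff.2 hcon) }
  exact Order.LTSeries.length_le_krullDim p'

/-- Let X be a locally Noetherian scheme which is Jacobson, whose local rings are universally catenary,
and whose irreducible components X' are equidimensional in the sense that for every closed point x
of X' the dimension of X' equals the dimension of the set of generizations of x in X'. Then for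
every dense open subset U of X, dim U = dim X. -/
theorem result (X : Scheme.{u}) [IsLocallyNoetherian X] [JacobsonSpace X]
    (h2 : ∀ x : X, CAlg.IsUniversallyCatenary (X.presheaf.stalk x))
    (h3 : ∀ X' ∈ irreducibleComponents (X : Type u), ∀ x ∈ X', IsClosed ({x} : Set X) →
      topologicalKrullDim (↥X' : Type u) = topologicalKrullDim ↥{t : X | t ∈ X' ∧ t ⤳ x})
    (U : Set X) (hU : IsOpen U) (hd : Dense U) :
    topologicalKrullDim ↥U = topologicalKrullDim X := by
  apply le_antisymm (topologicalKrullDim_subspace_le X U)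
  rw [Groth.Agent.Lib.helper11.SpecDim.topologicalKrullDim_eq_krullDim (X := X)]
  letI := specializationPreorder X
  unfold Order.krullDim
  refine iSup_le fun p => ?_
  -- the component containing the chain
  set η := p.last with hη
  have hX' : irreducibleComponent η ∈ irreducibleComponents X :=
    irreducibleComponent_mem_irreducibleComponents η
  have hmem : ∀ i, p i ∈ irreducibleComponent η := by
    intro i
    have h1 : p i ≤ p.last := p.monotone (Fin.le_last i)
    have h2 : η ⤳ p i := h1
    have h3 : p i ∈ closure ({η} : Set X) := h2.mem_closure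
    exact (isClosed_irreducibleComponent.closure_subset_iff.mpr
      (Set.singleton_subset_iff.mpr mem_irreducibleComponent)) h3
  have hlen := length_le_dim_of_mem (irreducibleComponent η) isClosed_irreducibleComponent
    p.length p.toFun (fun i => ⟨(p.step i).le, (p.step i).not_ge⟩) hmem
  refine le_trans hlen ?_
  -- the generic point of the component and an open subset of `X` inside it
  obtain ⟨η', hη'⟩ := QuasiSober.sober hX'.1 isClosed_irreducibleComponent
  have hcl : closure ({η'} : Set X) ∈ irreducibleComponents X := by rw [hη'.def]; exact hX'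
  obtain ⟨W, hW, hηW, -⟩ := exists_isAffineOpen_mem_and_subset (x := η') (U := ⊤) trivial
  haveI : IsNoetherianRing Γ(X, W) := IsLocallyNoetherian.component_noetherian ⟨W, hW⟩
  have hmin := mem_minimalPrimes_of_closure_mem_irreducibleComponents X hW η' hηW hcl
  have hfin : (minimalPrimes Γ(X, W)).Finite := minimalPrimes.finite_of_isNoetherianRing _
  classical
  let s : Finset (Ideal Γ(X, W)) :=
    hfin.toFinset.filter (fun q0 => ¬ q0 ≤ (hW.primeIdealOf ⟨η', hηW⟩).asIdeal)
  have hnot : ¬ (s.inf id ≤ (hW.primeIdealOf ⟨η', hηW⟩).asIdeal) := by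
    rw [Ideal.IsPrime.inf_le' (hW.primeIdealOf ⟨η', hηW⟩).isPrime]
    rintro ⟨q0, hq0s, hq0q⟩
    exact (Finset.mem_filter.mp hq0s).2 hq0q
  obtain ⟨g, hgs, hgq⟩ := SetLike.not_le_iff_exists.mp hnot
  have hηD : η' ∈ X.basicOpen g := (mem_basicOpen_iff hW η' hηW g).mpr hgq
  have hDsub : ((X.basicOpen g : X.Opens) : Set X) ⊆ irreducibleComponent η := by
    intro y hy
    have hyW : y ∈ W := X.basicOpen_le g hy
    have hgy := (mem_basicOpen_iff hW y hyW g).mp hy
    obtain ⟨q0, hq0min, hq0le⟩ := Ideal.exists_minimalPrimes_le (I := ⊥)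
      (J := (hW.primeIdealOf ⟨y, hyW⟩).asIdeal) bot_le
    have hq0q : q0 ≤ (hW.primeIdealOf ⟨η', hηW⟩).asIdeal := by
      by_contra hcon
      have h1 : q0 ∈ s := Finset.mem_filter.mpr ⟨hfin.mem_toFinset.mpr hq0min, hcon⟩
      have h2 : g ∈ q0 := (Finset.inf_le h1 : s.inf id ≤ id q0) hgs
      exact hgy (hq0le h2)
    have hq0eq : (hW.primeIdealOf ⟨η', hηW⟩).asIdeal ≤ q0 := hmin.2 hq0min.1 hq0q
    have hsp : η' ⤳ y :=
      (specializes_iff_primeIdealOf_le hW η' y hηW hyW).mpr (hq0eq.trans hq0le)
    rw [← hη'.def]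
    exact hsp.mem_closure
  -- a closed point of `X` in `U ∩ D(g)`
  obtain ⟨z, hzU, hzD⟩ := hd.inter_open_nonempty _ (X.basicOpen g).isOpen ⟨η', hηD⟩
  obtain ⟨x, ⟨hxU, hxD⟩, hxcl⟩ := nonempty_inter_closedPoints (Z := U ∩ (X.basicOpen g : Set X))
    ⟨z, hzD, hzU⟩ (hU.inter (X.basicOpen g).isOpen).isLocallyClosed
  have hxX' : x ∈ irreducibleComponent η := hDsub hxD
  rw [h3 _ hX' x hxX' hxcl]
  have hsub : {t : X | t ∈ irreducibleComponent η ∧ t ⤳ x} ⊆ U :=
    fun t ht => ht.2.mem_open hU hxU
  exact (Topology.IsEmbedding.inclusion hsub).isInducing.topologicalKrullDim_le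

end Groth.Agent.S4881
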