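import Groth.Statements.S4715
import Mathlib
import Groth.Agent.S4881
import Groth.Agent.Lib.Helper11.SpecDim

set_option autoImplicit false
universe u
open EGA4

namespace Groth.Agent.S4715
open AlgebraicGeometry CategoryTheory

open AlgebraicGeometry CategoryTheory in
/-- Let f : X → Y be a quasi-finite morphism (of finite type with discrete fibres) of locally Noetherian
schemes. Then dim X is at most the dimension of the closure of f(X), which is at most dim Y. -/
theorem result {X Y : Scheme.{u}} (f : X ⟶ Y) [IsLocallyNoetherian X] [IsLocallyNoetherian Y]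
    [LocallyQuasiFinite f] [LocallyOfFiniteType f] [QuasiCompact f] :
    topologicalKrullDim X ≤ topologicalKrullDim (closure (Set.range f.base)) ∧
      topologicalKrullDim (closure (Set.range f.base)) ≤ topologicalKrullDim Y := by
  refine ⟨?_, topologicalKrullDim_subspace_le Y _⟩
  rw [Groth.Agent.Lib.helper11.SpecDim.topologicalKrullDim_eq_krullDim (X := X)]
  letI := specializationPreorder X
  unfold Order.krullDim
  refine iSup_le fun p => ?_
  have hfib : ∀ a b : X, b ⤳ a → f.base a = f.base b → a = b :=
    Groth.Agent.Lib.helper11.SpecDim.eq_of_specializes_of_isDiscrete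
      (fun y => f.isDiscrete_preimage_singleton y)
  refine Groth.Agent.S4881.length_le_dim_of_mem (closure (Set.range f.base)) isClosed_closure
    p.length (fun i => f.base (p i)) (fun i => ?_) (fun i => subset_closure ⟨p i, rfl⟩)
  have h := p.step i
  have h1 : p i.succ ⤳ p i.castSucc := h.le
  have h2 : ¬ (p i.castSucc ⤳ p i.succ) := h.not_ge
  refine ⟨h1.map f.continuous, fun h3 => ?_⟩
  have : f.base (p i.castSucc) = f.base (p i.succ) := (h3.antisymm (h1.map f.continuous)).eq
  exact h2 (by rw [hfib _ _ h1 this])

end Groth.Agent.S4715
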