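import Groth.Statements.S4716
import Groth.Agent.S10838
-- import your own Groth.Agent.* helpers here

set_option autoImplicit false
universe u
open EGA4

namespace Groth.Agent.S4716

open Groth.Agent.S10838 in
theorem height_le_of_specializing {X W : Type u} [TopologicalSpace X] [TopologicalSpace W]
    (g : X → W) (hg : Continuous g) (hspec : SpecializingMap g) [QuasiSober W] :
    ∀ (n : ℕ) (x : X), Order.height (clPt x) ≤ n → Order.height (clPt (g x)) ≤ n := by
  intro n
  induction n with
  | zero =>
    intro x hx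
    rw [Order.height_le_coe_iff] at hx ⊢
    intro b hb
    exfalso
    obtain ⟨ξ, hξ⟩ := QuasiSober.sober b.isIrreducible b.isClosed
    have hb' : clPt ξ = b := TopologicalSpace.IrreducibleCloseds.ext hξ.def
    rw [← hb'] at hb
    obtain ⟨x₁, hx₁, rfl⟩ := hspec ((clPt_le_iff _ _).mp hb.le)
    have hlt : clPt x₁ < clPt x := by
      refine lt_of_le_not_ge ((clPt_le_iff _ _).mpr hx₁) fun hle => ?_
      exact hb.not_ge ((clPt_le_iff _ _).mpr (((clPt_le_iff _ _).mp hle).map hg))
    exact not_lt_zero (hx _ hlt)
  | succ m ih =>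
    intro x hx
    rw [Order.height_le_coe_iff] at hx ⊢
    intro b hb
    obtain ⟨ξ, hξ⟩ := QuasiSober.sober b.isIrreducible b.isClosed
    have hb' : clPt ξ = b := TopologicalSpace.IrreducibleCloseds.ext hξ.def
    rw [← hb'] at hb ⊢
    obtain ⟨x₁, hx₁, rfl⟩ := hspec ((clPt_le_iff _ _).mp hb.le)
    have hlt : clPt x₁ < clPt x := by
      refine lt_of_le_not_ge ((clPt_le_iff _ _).mpr hx₁) fun hle => ?_
      exact hb.not_ge ((clPt_le_iff _ _).mpr (((clPt_le_iff _ _).mp hle).map hg))
    have h1 : Order.height (clPt x₁) < ((m + 1 : ℕ) : ℕ∞) := hx _ hlt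
    have h2 : Order.height (clPt x₁) ≤ (m : ℕ∞) := by
      rw [Nat.cast_add, Nat.cast_one] at h1
      exact Order.le_of_lt_add_one h1
    calc Order.height (clPt (g x₁)) ≤ (m : ℕ∞) := ih x₁ h2
      _ < ((m + 1 : ℕ) : ℕ∞) := by exact_mod_cast Nat.lt_succ_self m

open Groth.Agent.S10838 in
theorem topologicalKrullDim_le_of_specializing {X W : Type u} [TopologicalSpace X]
    [TopologicalSpace W] (g : X → W) (hg : Continuous g) (hspec : SpecializingMap g)
    (hsurj : Function.Surjective g) [QuasiSober W] :
    topologicalKrullDim W ≤ topologicalKrullDim X := by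
  rw [topologicalKrullDim, Order.krullDim_eq_iSup_height]
  refine iSup_le fun b => ?_
  obtain ⟨ξ, hξ⟩ := QuasiSober.sober b.isIrreducible b.isClosed
  have hb' : clPt ξ = b := TopologicalSpace.IrreducibleCloseds.ext hξ.def
  obtain ⟨x, rfl⟩ := hsurj ξ
  rw [← hb']
  have hX : ((Order.height (clPt x) : ℕ∞) : WithBot ℕ∞) ≤ topologicalKrullDim X := by
    rw [topologicalKrullDim, Order.krullDim_eq_iSup_height]
    exact le_iSup (fun a : TopologicalSpace.IrreducibleCloseds X =>
      ((Order.height a : ℕ∞) : WithBot ℕ∞)) (clPt x)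
  refine le_trans (WithBot.coe_le_coe.mpr ?_) hX
  rcases eq_or_ne (Order.height (clPt x)) ⊤ with htop | hne
  · rw [htop]; exact le_top
  · obtain ⟨n, hn⟩ := ENat.ne_top_iff_exists.mp hne
    rw [← hn]
    exact height_le_of_specializing g hg hspec n x hn.symm.le

open AlgebraicGeometry CategoryTheory in
/-- Consider locally Noetherian schemes X and Y and a morphism f : X → Y that is surjective and whose
underlying map is either open or closed. Then dim X ≥ dim Y. -/
theorem result {X Y : Scheme.{u}} (f : X ⟶ Y) [IsLocallyNoetherian X]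
    [IsLocallyNoetherian Y] (hs : Function.Surjective f.base) (h : IsOpenMap f.base ∨ IsClosedMap f.base) :
    topologicalKrullDim Y ≤ topologicalKrullDim X := by
  rcases h with h | h
  · exact Groth.Agent.S10838.topologicalKrullDim_le_of_generalizing f.base f.continuous
      (Groth.Agent.S10838.generalizingMap_of_isOpenMap f h) hs
  · exact topologicalKrullDim_le_of_specializing f.base f.continuous h.specializingMap hs

end Groth.Agent.S4716
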