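import Groth.Statements.S9683
import Mathlib
import Groth.Agent.Lib.Helper3.TopDim

set_option autoImplicit false
universe u
open CategoryTheory CategoryTheory.Limits AlgebraicGeometry
open Mor

namespace Groth.Agent.S9683

open CategoryTheory CategoryTheory.Limits AlgebraicGeometry

lemma ring_le {A B : Type u} [CommRing A] [CommRing B] (φ : A →+* B) (hφ : φ.IsIntegral) :
    ringKrullDim B ≤ ringKrullDim A := by
  algebraize [φ]
  have : Algebra.IsIntegral A B := ⟨hφ⟩
  refine Order.krullDim_le_of_strictMono (PrimeSpectrum.comap (algebraMap A B)) ?_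
  intro p q hpq
  have h1 : p.asIdeal < q.asIdeal := hpq
  exact Ideal.IsIntegral.comap_lt_comap (R := A) h1

lemma ring_ge {A B : Type u} [CommRing A] [CommRing B] (φ : A →+* B) (hφ : φ.IsIntegral)
    (hs : Function.Surjective (PrimeSpectrum.comap φ)) :
    ringKrullDim A ≤ ringKrullDim B := by
  algebraize [φ]
  have : Algebra.IsIntegral A B := ⟨hφ⟩
  unfold ringKrullDim Order.krullDim
  refine iSup_le fun l => ?_
  obtain ⟨P, hP⟩ := hs l.head
  have : P.asIdeal.LiesOver l.head.asIdeal := ⟨by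
    rw [← hP]; rfl⟩
  obtain ⟨L, hL, -, -⟩ := Ideal.exists_ltSeries_of_hasGoingUp (R := A) (S := B) l P.asIdeal
  rw [← hL]
  exact le_iSup (fun L : LTSeries (PrimeSpectrum B) => (L.length : WithBot ℕ∞)) L

lemma dim_affineOpen {X : Scheme.{u}} {U : X.Opens} (hU : IsAffineOpen U) :
    topologicalKrullDim (U : Set X) = ringKrullDim Γ(X, U) := by
  rw [← PrimeSpectrum.topologicalKrullDim_eq_ringKrullDim Γ(X, U)]
  exact IsHomeomorph.topologicalKrullDim_eq _ hU.isoSpec.hom.homeomorph.isHomeomorph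

/-- For any integral morphism of schemes f : X ⟶ Y, the dimension of X is at most that of Y, and if f is
surjective then dim X = dim Y (dimensions of the underlying topological spaces). -/
theorem result {X Y : Scheme.{u}} (f : X ⟶ Y) [IsIntegralHom f] :
    topologicalKrullDim ↥X ≤ topologicalKrullDim ↥Y ∧
      (Surjective f → topologicalKrullDim ↥X = topologicalKrullDim ↥Y) := by
  have hcovY : ⋃ V : Y.affineOpens, ((V : Y.Opens) : Set Y) = Set.univ := by
    have := congrArg (fun U : Y.Opens => (U : Set Y)) (iSup_affineOpens_eq_top Y)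
    simpa using this
  have hcovX : ⋃ V : Y.affineOpens, ((f ⁻¹ᵁ (V : Y.Opens) : X.Opens) : Set X) = Set.univ := by
    have : ⋃ V : Y.affineOpens, ((f ⁻¹ᵁ (V : Y.Opens) : X.Opens) : Set X)
        = f.base ⁻¹' (⋃ V : Y.affineOpens, ((V : Y.Opens) : Set Y)) := by
      rw [Set.preimage_iUnion]; rfl
    rw [this, hcovY, Set.preimage_univ]
  have hX := Groth.Agent.Lib.helper3.TopDim.dim_eq_iSup_of_open_cover
    (fun V : Y.affineOpens => ((f ⁻¹ᵁ (V : Y.Opens) : X.Opens) : Set X))
    (fun V => (f ⁻¹ᵁ (V : Y.Opens)).2) hcovX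
  have hY := Groth.Agent.Lib.helper3.TopDim.dim_eq_iSup_of_open_cover
    (fun V : Y.affineOpens => ((V : Y.Opens) : Set Y))
    (fun V => (V : Y.Opens).2) hcovY
  have hle : ∀ V : Y.affineOpens,
      topologicalKrullDim ((f ⁻¹ᵁ (V : Y.Opens) : X.Opens) : Set X)
        ≤ topologicalKrullDim ((V : Y.Opens) : Set Y) := by
    intro V
    rw [dim_affineOpen (V.2.preimage f), dim_affineOpen V.2]
    exact ring_le _ (IsIntegralHom.isIntegral_app f V.1 V.2)
  constructor
  · rw [hX, hY]
    exact iSup_mono hle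
  · intro hs
    refine le_antisymm (by rw [hX, hY]; exact iSup_mono hle) ?_
    rw [hX, hY]
    refine iSup_mono fun V => ?_
    rw [dim_affineOpen (V.2.preimage f), dim_affineOpen V.2]
    refine ring_ge _ (IsIntegralHom.isIntegral_app f V.1 V.2) ?_
    intro p
    -- p corresponds to a point y of V
    obtain ⟨y, rfl⟩ : ∃ y : (V : Y.Opens), V.2.primeIdealOf y = p :=
      ⟨V.2.isoSpec.inv p, by simp [IsAffineOpen.primeIdealOf]⟩
    obtain ⟨x, hx⟩ := hs.surj y.1
    have hxU : x ∈ f ⁻¹ᵁ (V : Y.Opens) := by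
      show f x ∈ (V : Y.Opens)
      rw [hx]; exact y.2
    refine ⟨(V.2.preimage f).primeIdealOf ⟨x, hxU⟩, ?_⟩
    have := IsAffineOpen.comap_primeIdealOf_appLE (f := f) (x := x) V.1 V.2 (f ⁻¹ᵁ V.1)
      (V.2.preimage f) le_rfl hxU
    rw [← Scheme.Hom.app_eq_appLE] at this
    rw [this]
    congr 1
    exact Subtype.ext hx

end Groth.Agent.S9683
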