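import Groth.Statements.S4717
import Mathlib
import Groth.Agent.S4881
import Groth.Agent.S4716
import Groth.Agent.S9683
import Groth.Agent.Lib.Helper11.SpecDim

set_option autoImplicit false
universe u
open EGA4

namespace Groth.Agent.S4717
open AlgebraicGeometry CategoryTheory

open AlgebraicGeometry CategoryTheory in
/-- Let f : X → Y be a finite morphism of locally Noetherian schemes. Then dim X equals the dimension of
the image f(X); in particular if f is surjective then dim X = dim Y. -/
theorem result {X Y : Scheme.{u}} (f : X ⟶ Y) [IsLocallyNoetherian X] [IsLocallyNoetherian Y]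
    [IsFinite f] :
    topologicalKrullDim X = topologicalKrullDim (Set.range f.base) ∧
      (Function.Surjective f.base → topologicalKrullDim X = topologicalKrullDim Y) := by
  have hclmap : IsClosedMap f.base := f.isClosedMap
  have hclosed : IsClosed (Set.range f.base) := hclmap.isClosed_range
  constructor
  · apply le_antisymm
    · rw [Groth.Agent.Lib.helper11.SpecDim.topologicalKrullDim_eq_krullDim (X := X)]
      letI := specializationPreorder X
      unfold Order.krullDim
      refine iSup_le fun p => ?_
      have hfib : ∀ a b : X, b ⤳ a → f.base a = f.base b → a = b :=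
        Groth.Agent.Lib.helper11.SpecDim.eq_of_specializes_of_isDiscrete
          (fun y => f.isDiscrete_preimage_singleton y)
      refine Groth.Agent.S4881.length_le_dim_of_mem (Set.range f.base) hclosed
        p.length (fun i => f.base (p i)) (fun i => ?_) (fun i => ⟨p i, rfl⟩)
      have h := p.step i
      have h1 : p i.succ ⤳ p i.castSucc := h.le
      have h2 : ¬ (p i.castSucc ⤳ p i.succ) := h.not_ge
      refine ⟨h1.map f.continuous, fun h3 => ?_⟩
      have : f.base (p i.castSucc) = f.base (p i.succ) := (h3.antisymm (h1.map f.continuous)).eq
      exact h2 (by rw [hfib _ _ h1 this])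
    · haveI : QuasiSober (Set.range f.base) := hclosed.isClosedEmbedding_subtypeVal.quasiSober
      refine Groth.Agent.S4716.topologicalKrullDim_le_of_specializing
        (Set.rangeFactorization f.base) ?_ ?_ Set.rangeFactorization_surjective
      · exact f.continuous.subtype_mk _
      · apply IsClosedMap.specializingMap
        intro C hC
        have h1 : IsClosed (f.base '' C) := hclmap C hC
        have h2 : Set.rangeFactorization f.base '' C = Subtype.val ⁻¹' (f.base '' C) := by
          ext ⟨y, hy⟩
          constructor
          · rintro ⟨c, hc, hcy⟩
            exact ⟨c, hc, congrArg Subtype.val hcy⟩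
          · rintro ⟨c, hc, hcy⟩
            exact ⟨c, hc, Subtype.ext hcy⟩
        rw [h2]
        exact h1.preimage continuous_subtype_val
  · intro hs
    haveI : Surjective f := ⟨hs⟩
    exact (Groth.Agent.S9683.result f).2 inferInstance

end Groth.Agent.S4717
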