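import Groth.Statements.S4718
import Mathlib
import Groth.Agent.Lib.Helper26.FinRestr3
import Groth.Agent.Lib.Helper26.FinRestr4
import Groth.Agent.Lib.Helper26.Depth5

set_option autoImplicit false
universe u
open EGA4

namespace Groth.Agent.S4718

/-- Let A be a Noetherian local ring, B a Noetherian ring, A → B a ring homomorphism and M a nonzero
B-module which is finite as an A-module. Then M is a Cohen–Macaulay A-module if and only if, for all
primes q of B lying over the maximal ideal of A and belonging to the support of M, the B_q-module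
M_q is Cohen–Macaulay and all these modules M_q have the same dimension. -/
theorem result (A B : Type u) [CommRing A] [CommRing B]
    [IsNoetherianRing A] [IsLocalRing A] [IsNoetherianRing B] [Algebra A B]
    (M : Type u) [AddCommGroup M] [Module B M] [Module A M] [IsScalarTower A B M] [Module.Finite A M]
    [Nontrivial M] :
    LocCoh.IsCohenMacaulayModule A M ↔
      (∀ q ∈ {q : PrimeSpectrum B | q.asIdeal.comap (algebraMap A B) = IsLocalRing.maximalIdeal A ∧
          q ∈ Module.support B M},
        LocCoh.IsCohenMacaulayModule (Localization.AtPrime q.asIdeal) (LocalizedModule q.asIdeal.primeCompl M)) ∧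
      (∀ q ∈ {q : PrimeSpectrum B | q.asIdeal.comap (algebraMap A B) = IsLocalRing.maximalIdeal A ∧
          q ∈ Module.support B M},
        ∀ q' ∈ {q : PrimeSpectrum B | q.asIdeal.comap (algebraMap A B) = IsLocalRing.maximalIdeal A ∧
          q ∈ Module.support B M},
          Module.supportDim (Localization.AtPrime q.asIdeal) (LocalizedModule q.asIdeal.primeCompl M) =
            Module.supportDim (Localization.AtPrime q'.asIdeal) (LocalizedModule q'.asIdeal.primeCompl M)) := by
  classical
  have hfinB : Module.Finite B M := Module.Finite.of_restrictScalars_finite A B M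
  have hloc : IsLocalization.AtPrime A (IsLocalRing.maximalIdeal A) :=
    IsLocalization.of_le_isUnit (fun x hx => IsLocalRing.notMem_maximalIdeal.mp hx)
  have hid : IsLocalizedModule (IsLocalRing.maximalIdeal A).primeCompl (LinearMap.id : M →ₗ[A] M) :=
    isLocalizedModule_id _ M A
  have e1 := Groth.Agent.Lib.helper26.Depth.depth_eq_of_isLocalizedModule
    (IsLocalRing.maximalIdeal A) M A M LinearMap.id
  have e2 := Groth.Agent.Lib.helper26.Depth.supportDim_eq_of_isLocalizedModule
    (IsLocalRing.maximalIdeal A) M A M LinearMap.id
  have hdim := Groth.Agent.Lib.helper26.FinRestr.supportDim_localization_eq_iSup A B M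
    (IsLocalRing.maximalIdeal A)
  have hdepth := Groth.Agent.Lib.helper26.FinRestr.depth_localization_eq_iInf A B M
    (IsLocalRing.maximalIdeal A)
  rw [← e2] at hdim
  rw [← e1] at hdepth
  -- the index set is nonempty
  have hne : ∃ q0 : PrimeSpectrum B, q0 ∈ {q : PrimeSpectrum B |
      q.asIdeal.comap (algebraMap A B) = IsLocalRing.maximalIdeal A ∧ q ∈ Module.support B M} := by
    by_contra hcon
    push Not at hcon
    have : Module.supportDim A M = ⊥ := by
      rw [hdim, eq_bot_iff]
      exact iSup₂_le fun q hq => absurd hq (hcon q)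
    exact Module.supportDim_ne_bot_of_nontrivial A M this
  obtain ⟨q0, hq0⟩ := hne
  have hle : ∀ q ∈ {q : PrimeSpectrum B |
      q.asIdeal.comap (algebraMap A B) = IsLocalRing.maximalIdeal A ∧ q ∈ Module.support B M},
      ((LocCoh.depth (Localization.AtPrime q.asIdeal)
        (LocalizedModule q.asIdeal.primeCompl M) : ℕ∞) : WithBot ℕ∞) ≤
      Module.supportDim (Localization.AtPrime q.asIdeal) (LocalizedModule q.asIdeal.primeCompl M) := by
    intro q hq
    have hnt : Nontrivial (LocalizedModule q.asIdeal.primeCompl M) := Module.mem_support_iff.mp hq.2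
    exact Groth.Agent.Lib.helper26.Depth.depth_le_supportDim _
  have hDle : ∀ q ∈ {q : PrimeSpectrum B |
      q.asIdeal.comap (algebraMap A B) = IsLocalRing.maximalIdeal A ∧ q ∈ Module.support B M},
      Module.supportDim (Localization.AtPrime q.asIdeal) (LocalizedModule q.asIdeal.primeCompl M) ≤
        Module.supportDim A M := by
    intro q hq
    rw [hdim]
    exact le_iSup₂ (f := fun (q' : PrimeSpectrum B) (_ : q' ∈ {q' : PrimeSpectrum B |
      q'.asIdeal.comap (algebraMap A B) = IsLocalRing.maximalIdeal A ∧ q' ∈ Module.support B M}) =>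
      Module.supportDim (Localization.AtPrime q'.asIdeal)
        (LocalizedModule q'.asIdeal.primeCompl M)) q hq
  have hdle : ∀ q ∈ {q : PrimeSpectrum B |
      q.asIdeal.comap (algebraMap A B) = IsLocalRing.maximalIdeal A ∧ q ∈ Module.support B M},
      LocCoh.depth A M ≤ LocCoh.depth (Localization.AtPrime q.asIdeal)
        (LocalizedModule q.asIdeal.primeCompl M) := by
    intro q hq
    rw [hdepth]
    exact iInf₂_le (f := fun (q' : PrimeSpectrum B) (_ : q' ∈ {q' : PrimeSpectrum B |
      q'.asIdeal.comap (algebraMap A B) = IsLocalRing.maximalIdeal A ∧ q' ∈ Module.support B M}) =>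
      LocCoh.depth (Localization.AtPrime q'.asIdeal)
        (LocalizedModule q'.asIdeal.primeCompl M)) q hq
  constructor
  · intro hCM
    have hCM' : Module.supportDim A M = ((LocCoh.depth A M : ℕ∞) : WithBot ℕ∞) := hCM
    have hall : ∀ q ∈ {q : PrimeSpectrum B |
        q.asIdeal.comap (algebraMap A B) = IsLocalRing.maximalIdeal A ∧ q ∈ Module.support B M},
        Module.supportDim (Localization.AtPrime q.asIdeal) (LocalizedModule q.asIdeal.primeCompl M) =
          Module.supportDim A M ∧
        Module.supportDim (Localization.AtPrime q.asIdeal) (LocalizedModule q.asIdeal.primeCompl M) =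
          ((LocCoh.depth (Localization.AtPrime q.asIdeal)
            (LocalizedModule q.asIdeal.primeCompl M) : ℕ∞) : WithBot ℕ∞) := by
      intro q hq
      have h1 := hle q hq
      have h2 := hDle q hq
      have h3 : ((LocCoh.depth A M : ℕ∞) : WithBot ℕ∞) ≤
          ((LocCoh.depth (Localization.AtPrime q.asIdeal)
            (LocalizedModule q.asIdeal.primeCompl M) : ℕ∞) : WithBot ℕ∞) :=
        WithBot.coe_le_coe.mpr (hdle q hq)
      rw [← hCM'] at h3
      exact ⟨le_antisymm h2 (h3.trans h1), le_antisymm (h2.trans h3) h1⟩
    refine ⟨fun q hq => (hall q hq).2, fun q hq q' hq' => ?_⟩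
    rw [(hall q hq).1, (hall q' hq').1]
  · rintro ⟨hCMq, heq⟩
    change Module.supportDim A M = ((LocCoh.depth A M : ℕ∞) : WithBot ℕ∞)
    have hD : Module.supportDim A M = Module.supportDim (Localization.AtPrime q0.asIdeal)
        (LocalizedModule q0.asIdeal.primeCompl M) := by
      apply le_antisymm
      · rw [hdim]
        exact iSup₂_le fun q hq => le_of_eq (heq q hq q0 hq0)
      · exact hDle q0 hq0
    have hd : LocCoh.depth A M = LocCoh.depth (Localization.AtPrime q0.asIdeal)
        (LocalizedModule q0.asIdeal.primeCompl M) := by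
      apply le_antisymm
      · exact hdle q0 hq0
      · rw [hdepth]
        refine le_iInf₂ fun q hq => ?_
        have h1 : ((LocCoh.depth (Localization.AtPrime q0.asIdeal)
            (LocalizedModule q0.asIdeal.primeCompl M) : ℕ∞) : WithBot ℕ∞) =
            ((LocCoh.depth (Localization.AtPrime q.asIdeal)
            (LocalizedModule q.asIdeal.primeCompl M) : ℕ∞) : WithBot ℕ∞) := by
          have a1 : Module.supportDim _ _ = _ := hCMq q0 hq0
          have a2 : Module.supportDim _ _ = _ := hCMq q hq
          rw [← a1, ← a2]
          exact heq q0 hq0 q hq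
        exact le_of_eq (WithBot.coe_injective h1)
    rw [hD, hd]
    exact hCMq q0 hq0


end Groth.Agent.S4718
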