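import Groth.Statements.S4719
import Mathlib
import Groth.Agent.Lib.Helper26.FinRestr3
import Groth.Agent.Lib.Helper26.FinRestr4

set_option autoImplicit false
universe u
open EGA4

namespace Groth.Agent.S4719

/-- Let A → B be a homomorphism of Noetherian rings and M a B-module which is finite as an A-module. (i)
If M satisfies (S_k) as an A-module, it satisfies (S_k) as a B-module. (ii) If for every two primes
q, q' of B in the support of M having the same contraction to A the modules M_q and M_{q'} have the
same dimension, then (S_k) for M as a B-module implies (S_k) for M as an A-module. (The published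
statement asks the equal-dimension condition for all pairs of primes of B with the same contraction;
this row asks it only for primes in the support of M, which is all its proof uses.) -/
theorem result (k : ℕ) (A B : Type u) [CommRing A] [CommRing B] [IsNoetherianRing A]
    [IsNoetherianRing B] [Algebra A B] (M : Type u) [AddCommGroup M] [Module B M] [Module A M]
    [IsScalarTower A B M] [Module.Finite A M] :
    (LocCoh.HasSk k A M → LocCoh.HasSk k B M) ∧
      ((∀ q ∈ Module.support B M, ∀ q' ∈ Module.support B M,
          q.asIdeal.comap (algebraMap A B) = q'.asIdeal.comap (algebraMap A B) →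
            Module.supportDim (Localization.AtPrime q.asIdeal) (LocalizedModule q.asIdeal.primeCompl M) =
              Module.supportDim (Localization.AtPrime q'.asIdeal) (LocalizedModule q'.asIdeal.primeCompl M)) →
        LocCoh.HasSk k B M → LocCoh.HasSk k A M) := by
  classical
  have hdim := fun (p : Ideal A) (hp : p.IsPrime) =>
    Groth.Agent.Lib.helper26.FinRestr.supportDim_localization_eq_iSup A B M p
  have hdepth := fun (p : Ideal A) (hp : p.IsPrime) =>
    Groth.Agent.Lib.helper26.FinRestr.depth_localization_eq_iInf A B M p
  constructor
  · intro hA q hq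
    by_cases hqs : (⟨q, hq⟩ : PrimeSpectrum B) ∈ Module.support B M
    swap
    · have hsub : Subsingleton (LocalizedModule q.primeCompl M) := Module.notMem_support_iff.mp hqs
      rw [Module.supportDim_eq_bot_of_subsingleton]
      simp
    have hpprime : (q.comap (algebraMap A B)).IsPrime := Ideal.comap_isPrime _ _
    have hmem : (⟨q, hq⟩ : PrimeSpectrum B) ∈ {q' : PrimeSpectrum B |
        q'.asIdeal.comap (algebraMap A B) = q.comap (algebraMap A B) ∧ q' ∈ Module.support B M} :=
      ⟨rfl, hqs⟩
    have h1 := hA (q.comap (algebraMap A B))
    have h2 : Module.supportDim (Localization.AtPrime q) (LocalizedModule q.primeCompl M) ≤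
        Module.supportDim (Localization.AtPrime (q.comap (algebraMap A B)))
          (LocalizedModule (q.comap (algebraMap A B)).primeCompl M) := by
      rw [hdim _ hpprime]
      exact le_iSup₂ (f := fun (q' : PrimeSpectrum B) (_ : q' ∈ {q' : PrimeSpectrum B |
        q'.asIdeal.comap (algebraMap A B) = q.comap (algebraMap A B) ∧ q' ∈ Module.support B M}) =>
        Module.supportDim (Localization.AtPrime q'.asIdeal)
          (LocalizedModule q'.asIdeal.primeCompl M)) ⟨q, hq⟩ hmem
    have h3 : LocCoh.depth (Localization.AtPrime (q.comap (algebraMap A B)))
          (LocalizedModule (q.comap (algebraMap A B)).primeCompl M) ≤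
        LocCoh.depth (Localization.AtPrime q) (LocalizedModule q.primeCompl M) := by
      rw [hdepth _ hpprime]
      exact iInf₂_le (f := fun (q' : PrimeSpectrum B) (_ : q' ∈ {q' : PrimeSpectrum B |
        q'.asIdeal.comap (algebraMap A B) = q.comap (algebraMap A B) ∧ q' ∈ Module.support B M}) =>
        LocCoh.depth (Localization.AtPrime q'.asIdeal)
          (LocalizedModule q'.asIdeal.primeCompl M)) ⟨q, hq⟩ hmem
    calc min (k : WithBot ℕ∞) (Module.supportDim (Localization.AtPrime q)
          (LocalizedModule q.primeCompl M))
        ≤ min (k : WithBot ℕ∞) (Module.supportDim (Localization.AtPrime (q.comap (algebraMap A B)))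
          (LocalizedModule (q.comap (algebraMap A B)).primeCompl M)) := min_le_min le_rfl h2
      _ ≤ _ := h1
      _ ≤ _ := WithBot.coe_le_coe.mpr h3
  · intro heq hB p hp
    rw [hdepth p hp]
    rw [WithBot.le_coe_iff]
    intro x hx
    refine le_iInf₂ fun q hq => ?_
    have hq' := hq
    obtain ⟨hqp, hqs⟩ := hq'
    have hD : Module.supportDim (Localization.AtPrime p) (LocalizedModule p.primeCompl M) =
        Module.supportDim (Localization.AtPrime q.asIdeal)
          (LocalizedModule q.asIdeal.primeCompl M) := by
      rw [hdim p hp]
      apply le_antisymm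
      · refine iSup₂_le fun q' hq' => ?_
        exact le_of_eq (heq q' hq'.2 q hqs (hq'.1.trans hqp.symm))
      · exact le_iSup₂ (f := fun (q' : PrimeSpectrum B) (_ : q' ∈ {q' : PrimeSpectrum B |
          q'.asIdeal.comap (algebraMap A B) = p ∧ q' ∈ Module.support B M}) =>
          Module.supportDim (Localization.AtPrime q'.asIdeal)
            (LocalizedModule q'.asIdeal.primeCompl M)) q hq
    have h1 := hB q.asIdeal
    rw [← hD, hx] at h1
    exact WithBot.coe_le_coe.mp h1


end Groth.Agent.S4719
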