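import Groth.Statements.S4722
import Mathlib
import Groth.Agent.Lib.Helper26.CM1

set_option autoImplicit false
universe u
open EGA4

namespace Groth.Agent.S4722


section aux

variable {A : Type u} [CommRing A] [IsNoetherianRing A] (p : Ideal A)

/-- elements outside `p` are regular on `X` when `Ass X ⊆ {p}`. -/
lemma isSMulRegular_of_notMem (X : Type u) [AddCommGroup X] [Module A X]
    (hX : associatedPrimes A X ⊆ {p}) (s : A) (hs : s ∉ p) : IsSMulRegular X s := by
  intro x y hxy
  by_contra hne
  have h0 : s • (x - y) = 0 := by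
    rw [smul_sub, sub_eq_zero]
    exact hxy
  have hmem : s ∈ {r : A | ∃ z : X, z ≠ 0 ∧ r • z = 0} := ⟨x - y, sub_ne_zero.mpr hne, h0⟩
  rw [← biUnion_associatedPrimes_eq_zero_divisors] at hmem
  obtain ⟨q, hq, hsq⟩ := Set.mem_iUnion₂.mp hmem
  have hqp : q = p := hX hq
  rw [hqp] at hsq
  exact hs hsq

/-- the support of `X` lies in `V(p)` when `Ass X ⊆ {p}`. -/
lemma le_of_mem_support (X : Type u) [AddCommGroup X] [Module A X] [Module.Finite A X]
    (hX : associatedPrimes A X ⊆ {p}) (q : PrimeSpectrum A) (hq : q ∈ Module.support A X) :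
    p ≤ q.asIdeal := by
  have hann : Module.annihilator A X ≤ q.asIdeal := Module.annihilator_le_of_mem_support hq
  obtain ⟨P, hPmin, hPle⟩ := Ideal.exists_minimalPrimes_le hann
  have hPass : P ∈ associatedPrimes A X :=
    Module.associatedPrimes.minimalPrimes_annihilator_subset_associatedPrimes A X hPmin
  have hPp : P = p := hX hPass
  rw [← hPp]
  exact hPle

/-- one step of the filtration. -/
theorem exists_step [p.IsPrime] (X : Type u) [AddCommGroup X] [Module A X] [Module.Finite A X]
    [Nontrivial X] (hX : associatedPrimes A X ⊆ {p}) :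
    ∃ Y : Submodule A X, Y ≠ ⊥ ∧ (∃ g : Y →ₗ[A] A ⧸ p, Function.Injective g) ∧
      associatedPrimes A (X ⧸ Y) ⊆ {p} := by
  obtain ⟨q, hq⟩ := associatedPrimes.nonempty A X
  have hqp : q = p := hX hq
  subst hqp
  obtain ⟨-, ι, hι⟩ := (isAssociatedPrime_iff_exists_injective_linearMap q X).mp hq
  let Y : Submodule A X :=
    { carrier := {y | ∃ s : A, s ∉ q ∧ s • y ∈ LinearMap.range ι}
      add_mem' := by
        rintro a b ⟨s, hs, hsa⟩ ⟨t, ht, htb⟩
        refine ⟨s * t, fun h => (Ideal.IsPrime.mem_or_mem inferInstance h).elim hs ht, ?_⟩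
        rw [smul_add]
        refine add_mem ?_ ?_
        · rw [mul_comm, mul_smul]
          exact Submodule.smul_mem _ t hsa
        · rw [mul_smul]
          exact Submodule.smul_mem _ s htb
      zero_mem' := ⟨1, fun h => (Ideal.IsPrime.ne_top inferInstance) ((Ideal.eq_top_iff_one q).mpr h),
        by rw [smul_zero]; exact zero_mem _⟩
      smul_mem' := by
        rintro c a ⟨s, hs, hsa⟩
        refine ⟨s, hs, ?_⟩
        change s • c • a ∈ _
        rw [smul_comm]
        exact Submodule.smul_mem _ c hsa }
  have hYmem : ∀ y, y ∈ Y ↔ ∃ s : A, s ∉ q ∧ s • y ∈ LinearMap.range ι := fun y => Iff.rfl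
  have hone : (1 : A) ∉ q := fun h =>
    (Ideal.IsPrime.ne_top inferInstance) ((Ideal.eq_top_iff_one q).mpr h)
  have hnt : Nontrivial (A ⧸ q) := Ideal.Quotient.nontrivial_iff.mpr (Ideal.IsPrime.ne_top inferInstance)
  refine ⟨Y, ?_, ?_, ?_⟩
  · intro hbot
    have h1 : ι 1 ∈ Y := (hYmem _).mpr ⟨1, hone, by rw [one_smul]; exact ⟨1, rfl⟩⟩
    rw [hbot, Submodule.mem_bot] at h1
    have : (1 : A ⧸ q) = 0 := hι (by rw [h1, map_zero])
    exact one_ne_zero this
  · -- a common denominator
    have hfg : Y.FG := IsNoetherian.noetherian Y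
    obtain ⟨t, ht⟩ := hfg
    have hsub : ∀ y ∈ t, y ∈ Y := fun y hy => ht ▸ Submodule.subset_span hy
    choose! σ hσ1 hσ2 using fun y (hy : y ∈ t) => (hYmem y).mp (hsub y hy)
    classical
    let s : A := ∏ y ∈ t, σ y
    have hs : s ∉ q := by
      intro h
      obtain ⟨y, hy, hmem⟩ := (Ideal.IsPrime.prod_mem_iff (hp := inferInstance)).mp h
      exact hσ1 y hy hmem
    have hsY : ∀ y ∈ Y, s • y ∈ LinearMap.range ι := by
      intro y hy
      rw [← ht] at hy
      induction hy using Submodule.span_induction with
      | mem y hy =>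
        have : s = (∏ z ∈ t.erase y, σ z) * σ y := (Finset.prod_erase_mul t σ hy).symm
        rw [this, mul_smul]
        exact Submodule.smul_mem _ _ (hσ2 y hy)
      | zero => rw [smul_zero]; exact zero_mem _
      | add a b _ _ ha hb => rw [smul_add]; exact add_mem ha hb
      | smul c a _ ha => rw [smul_comm]; exact Submodule.smul_mem _ c ha
    let h0 : Y →ₗ[A] LinearMap.range ι :=
      LinearMap.codRestrict (LinearMap.range ι) ((LinearMap.lsmul A X s).comp Y.subtype)
        (fun y => hsY y.1 y.2)
    let e : (A ⧸ q) ≃ₗ[A] LinearMap.range ι := LinearEquiv.ofInjective ι hι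
    refine ⟨e.symm.toLinearMap.comp h0, ?_⟩
    refine e.symm.injective.comp ?_
    intro a b hab
    have h1 : s • (a : X) = s • (b : X) := congrArg Subtype.val hab
    exact Subtype.ext (isSMulRegular_of_notMem q X hX s hs h1)
  · intro q' hq'
    obtain ⟨hq'prime, f, hf⟩ := (isAssociatedPrime_iff_exists_injective_linearMap q' (X ⧸ Y)).mp hq'
    have hnt' : Nontrivial (A ⧸ q') := Ideal.Quotient.nontrivial_iff.mpr hq'prime.ne_top
    obtain ⟨z, hz⟩ := Y.mkQ_surjective (f 1)
    rw [Set.mem_singleton_iff]
    apply le_antisymm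
    · intro a ha
      by_contra hap
      have h1 : a • f 1 = 0 := by
        rw [← map_smul]
        have : a • (1 : A ⧸ q') = 0 := by
          rw [Algebra.smul_def, mul_one]
          exact Ideal.Quotient.eq_zero_iff_mem.mpr ha
        rw [this, map_zero]
      rw [← hz, ← map_smul, Submodule.mkQ_apply, Submodule.Quotient.mk_eq_zero] at h1
      obtain ⟨s, hs, hsr⟩ := (hYmem _).mp h1
      have hzY : z ∈ Y := by
        refine (hYmem z).mpr ⟨s * a, fun h => (Ideal.IsPrime.mem_or_mem inferInstance h).elim hs hap, ?_⟩
        rw [mul_smul]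
        exact hsr
      have h2 : f 1 = 0 := by
        rw [← hz, Submodule.mkQ_apply, Submodule.Quotient.mk_eq_zero]
        exact hzY
      have : (1 : A ⧸ q') = 0 := hf (by rw [h2, map_zero])
      exact one_ne_zero this
    · obtain ⟨hprime, hsupp⟩ :=
        Groth.Agent.Lib.helper26.Depth.mem_support_of_mem_associatedPrimes (X ⧸ Y) q' hq'
      have hsupp' : (⟨q', hprime⟩ : PrimeSpectrum A) ∈ Module.support A X :=
        Module.support_subset_of_surjective Y.mkQ Y.mkQ_surjective hsupp
      exact le_of_mem_support q X hX _ hsupp'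


/-- transport of the conclusion along equalities of submodules. -/
lemma exists_inj_of_eq {M : Type u} [AddCommGroup M] [Module A M] {S S' T T' : Submodule A M}
    (hS : S = S') (hT : T = T')
    (h : ∃ g : (↥S' ⧸ Submodule.comap S'.subtype T') →ₗ[A] (A ⧸ p), Function.Injective g) :
    ∃ g : (↥S ⧸ Submodule.comap S.subtype T) →ₗ[A] (A ⧸ p), Function.Injective g := by
  subst hS hT
  exact h

/-- the filtration from `⊤` down to `N`. -/
theorem exists_filtration [p.IsPrime] (M : Type u) [AddCommGroup M] [Module A M]
    [Module.Finite A M] (N : Submodule A M) (hN : associatedPrimes A (M ⧸ N) ⊆ {p}) :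
    ∃ (m : ℕ) (F : Fin (m + 1) → Submodule A M), Antitone F ∧ F 0 = ⊤ ∧ F (Fin.last m) = N ∧
      ∀ i : Fin m, ∃ g : (↥(F i.castSucc) ⧸ Submodule.comap (F i.castSucc).subtype (F i.succ))
        →ₗ[A] (A ⧸ p), Function.Injective g := by
  have hnoeth : IsNoetherian A M := inferInstance
  induction N using WellFoundedGT.induction with
  | ind N ih =>
    by_cases htop : N = ⊤
    · refine ⟨0, fun _ => ⊤, fun _ _ _ => le_rfl, rfl, htop.symm, fun i => i.elim0⟩
    · have hnt : Nontrivial (M ⧸ N) := Submodule.Quotient.nontrivial_iff.mpr htop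
      obtain ⟨Y, hYbot, ⟨g, hg⟩, hYass⟩ := exists_step p (M ⧸ N) hN
      set N' : Submodule A M := Y.comap N.mkQ with hN'
      have hle : N ≤ N' := by
        intro x hx
        rw [hN', Submodule.mem_comap, Submodule.mkQ_apply, (Submodule.Quotient.mk_eq_zero N).mpr hx]
        exact zero_mem _
      have hmap : N'.map N.mkQ = Y := Submodule.map_comap_eq_of_surjective N.mkQ_surjective Y
      have hlt : N < N' := by
        refine lt_of_le_of_ne hle ?_
        intro heq
        apply hYbot
        rw [← hmap, ← heq]
        rw [eq_bot_iff]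
        rintro _ ⟨x, hx, rfl⟩
        rw [Submodule.mem_bot, Submodule.mkQ_apply, Submodule.Quotient.mk_eq_zero]
        exact hx
      have hass' : associatedPrimes A (M ⧸ N') ⊆ {p} := by
        have e : ((M ⧸ N) ⧸ N'.map N.mkQ) ≃ₗ[A] M ⧸ N' :=
          Submodule.quotientQuotientEquivQuotient N N' hle
        rw [← LinearEquiv.AssociatedPrimes.eq e, hmap]
        exact hYass
      obtain ⟨m', F', hanti, h0, hlast, hq⟩ := ih N' hlt hass'
      refine ⟨m' + 1, Fin.snoc (α := fun _ => Submodule A M) F' N, ?_, ?_, ?_, ?_⟩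
      · rw [Fin.antitone_iff_succ_le]
        intro i
        induction i using Fin.lastCases with
        | last =>
          rw [Fin.succ_last, Fin.snoc_last, Fin.snoc_castSucc, hlast]
          exact hle
        | cast j =>
          rw [Fin.succ_castSucc, Fin.snoc_castSucc, Fin.snoc_castSucc]
          exact Fin.antitone_iff_succ_le.mp hanti j
      · rw [← Fin.castSucc_zero, Fin.snoc_castSucc]
        exact h0
      · exact Fin.snoc_last _ _
      · intro i
        induction i using Fin.lastCases with
        | last =>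
          refine exists_inj_of_eq p (S' := N') (T' := N) ?_ ?_ ?_
          · rw [Fin.snoc_castSucc, hlast]
          · rw [Fin.succ_last, Fin.snoc_last]
          · -- `N' / N ≃ Y ↪ A/p`
            let h1 : N' →ₗ[A] Y :=
              LinearMap.codRestrict Y (N.mkQ.comp N'.subtype) (fun x => x.2)
            have hker : LinearMap.ker (g.comp h1) = Submodule.comap N'.subtype N := by
              ext x
              rw [LinearMap.mem_ker, LinearMap.comp_apply, Submodule.mem_comap]
              constructor
              · intro h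
                have h2 : h1 x = 0 := hg (by rw [h, map_zero])
                have h3 : N.mkQ (x : M) = 0 := congrArg Subtype.val h2
                rwa [Submodule.mkQ_apply, Submodule.Quotient.mk_eq_zero] at h3
              · intro h
                have h3 : N.mkQ (x : M) = 0 := by
                  rwa [Submodule.mkQ_apply, Submodule.Quotient.mk_eq_zero]
                have h2 : h1 x = 0 := Subtype.ext h3
                rw [h2, map_zero]
            refine ⟨Submodule.liftQ _ (g.comp h1) (le_of_eq hker.symm), ?_⟩
            rw [← LinearMap.ker_eq_bot]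
            exact Submodule.ker_liftQ_eq_bot' _ _ hker.symm
        | cast j =>
          refine exists_inj_of_eq p (S' := F' j.castSucc) (T' := F' j.succ) ?_ ?_ (hq j)
          · rw [Fin.snoc_castSucc]
          · rw [Fin.succ_castSucc, Fin.snoc_castSucc]

end aux


/-- Let A be a Noetherian ring and M a finite A-module whose set of associated primes is a single prime
p. Then M has a finite decreasing filtration by submodules M = M_0 ⊇ M_1 ⊇ ⋯ ⊇ M_m = 0 such that
each quotient M_h/M_{h+1} is isomorphic to a submodule of A/p (i.e. embeds A-linearly into A/p). -/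
theorem result (A : Type u) [CommRing A] [IsNoetherianRing A]
    (M : Type u) [AddCommGroup M] [Module A M] [Module.Finite A M] (p : Ideal A)
    (hp : associatedPrimes A M = {p}) :
    ∃ (m : ℕ) (F : Fin (m + 1) → Submodule A M), Antitone F ∧ F 0 = ⊤ ∧ F (Fin.last m) = ⊥ ∧
      ∀ i : Fin m, ∃ g : (↥(F i.castSucc) ⧸ Submodule.comap (F i.castSucc).subtype (F i.succ)) →ₗ[A] (A ⧸ p),
        Function.Injective g := by
  have hpass : p ∈ associatedPrimes A M := by rw [hp]; rfl
  have hprime : p.IsPrime := hpass.isPrime
  have hN : associatedPrimes A (M ⧸ (⊥ : Submodule A M)) ⊆ {p} := by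
    rw [LinearEquiv.AssociatedPrimes.eq (Submodule.quotEquivOfEqBot (⊥ : Submodule A M) rfl), hp]
  exact exists_filtration p M ⊥ hN


end Groth.Agent.S4722
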