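import Groth.Statements.S4726
import Mathlib.RingTheory.TensorProduct.IsBaseChangeRightExact
import Mathlib.RingTheory.TensorProduct.IsBaseChangePi
-- import your own Groth.Agent.* helpers here

set_option autoImplicit false
universe u
open EGA4

namespace Groth.Agent.S4726

open TensorProduct in
/-- general version: an f.p. module over `A` descends along `φ : B → A` as soon as a presentation
matrix lifts. -/
theorem descend (A B : Type u) [CommRing A] [CommRing B] [Algebra B A]
    (M : Type u) [AddCommGroup M] [Module A M] [Module B M] [IsScalarTower B A M]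
    (n m : ℕ) (f : (Fin n → A) →ₗ[A] M) (g : (Fin m → A) →ₗ[A] (Fin n → A))
    (hf : Function.Surjective f) (hfg : Function.Exact g f)
    (Gi : Matrix (Fin n) (Fin m) B) (hGi : Gi.map (algebraMap B A) = LinearMap.toMatrix' g) :
    ∃ (Mi : Type u) (_ : AddCommGroup Mi) (_ : Module B Mi), Module.FinitePresentation B Mi ∧
      Nonempty (M ≃ₗ[A] A ⊗[B] Mi) := by
  let f₁ : (Fin m → B) →ₗ[B] (Fin n → B) := Matrix.toLin' Gi
  let h₁ : (Fin m → B) →ₗ[B] (Fin m → A) := (Algebra.linearMap B A).compLeft (Fin m)
  let h₂ : (Fin n → B) →ₗ[B] (Fin n → A) := (Algebra.linearMap B A).compLeft (Fin n)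
  have comm₁ : h₂.comp f₁ = (g.restrictScalars B).comp h₁ := by
    refine LinearMap.ext fun x => funext fun k => ?_
    have hg : g = Matrix.toLin' (Gi.map (algebraMap B A)) := by
      rw [hGi, Matrix.toLin'_toMatrix']
    simp only [LinearMap.comp_apply, LinearMap.restrictScalars_apply, h₁, h₂, f₁,
      LinearMap.compLeft_apply, Function.comp_apply, Algebra.linearMap_apply,
      Matrix.toLin'_apply]
    rw [hg, Matrix.toLin'_apply]
    exact RingHom.map_mulVec (algebraMap B A) Gi x k
  let Mi := (Fin n → B) ⧸ LinearMap.range f₁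
  have hker : LinearMap.range f₁ ≤ LinearMap.ker ((f.restrictScalars B).comp h₂) := by
    rintro _ ⟨x, rfl⟩
    rw [LinearMap.mem_ker, LinearMap.comp_apply]
    have := congrArg (fun l => l x) comm₁
    simp only [LinearMap.comp_apply] at this
    rw [this]
    exact hfg.apply_apply_eq_zero _
  let h₃ : Mi →ₗ[B] M := Submodule.liftQ _ ((f.restrictScalars B).comp h₂) hker
  have comm₂ : h₃.comp (LinearMap.range f₁).mkQ = (f.restrictScalars B).comp h₂ :=
    Submodule.liftQ_mkQ _ _ _
  have ibc : IsBaseChange A h₃ :=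
    IsBaseChange.of_right_exact A h₁ h₂ h₃ comm₁ comm₂
      (IsBaseChange.finitePow (Fin m) (IsBaseChange.linearMap B A))
      (IsBaseChange.finitePow (Fin n) (IsBaseChange.linearMap B A))
      (LinearMap.exact_map_mkQ_range f₁) (Submodule.mkQ_surjective _) hfg hf
  refine ⟨Mi, inferInstance, inferInstance, ?_, ⟨ibc.equiv.symm⟩⟩
  refine Module.finitePresentation_of_surjective (LinearMap.range f₁).mkQ
    (Submodule.mkQ_surjective _) ?_
  rw [Submodule.ker_mkQ]
  exact Submodule.fg_range _

open TensorProduct in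
/-- Let (A_i) be a directed system of commutative rings with direct limit A and M a finitely presented
A-module. Then there exist an index i and a finitely presented A_i-module M_i such that M is
isomorphic, as an A-module, to A ⊗_{A_i} M_i (A being an A_i-algebra through the canonical map). -/
theorem result (ι : Type u) [Preorder ι] [Nonempty ι] [IsDirectedOrder ι]
    (G : ι → Type u) [∀ i, CommRing (G i)] (f : ∀ i j, i ≤ j → G i →+* G j)
    [DirectedSystem G (fun i j h ↦ f i j h)] (M : Type u) [AddCommGroup M]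
    [Module (Ring.DirectLimit G (fun i j h ↦ f i j h)) M]
    [Module.FinitePresentation (Ring.DirectLimit G (fun i j h ↦ f i j h)) M] :
    ∃ (i : ι) (Mi : Type u) (_ : AddCommGroup Mi) (_ : Module (G i) Mi), Module.FinitePresentation (G i) Mi ∧
      letI : Algebra (G i) (Ring.DirectLimit G (fun i j h ↦ f i j h)) :=
        (Ring.DirectLimit.of G (fun i j h ↦ f i j h) i).toAlgebra
      Nonempty (M ≃ₗ[Ring.DirectLimit G (fun i j h ↦ f i j h)] (Ring.DirectLimit G (fun i j h ↦ f i j h)) ⊗[G i] Mi) := by
  obtain ⟨n, m, φ, γ, hφ, hγφ⟩ := Module.FinitePresentation.exists_fin'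
    (Ring.DirectLimit G (fun i j h ↦ f i j h)) M
  -- lift the matrix entries
  have hex : ∀ kl : Fin n × Fin m, ∃ (i : ι) (x : G i),
      Ring.DirectLimit.of G (fun i j h ↦ f i j h) i x = LinearMap.toMatrix' γ kl.1 kl.2 :=
    fun kl => Ring.DirectLimit.exists_of _
  choose idx x hx using hex
  obtain ⟨i, hi⟩ := Finite.exists_le idx
  refine ⟨i, ?_⟩
  letI : Algebra (G i) (Ring.DirectLimit G (fun i j h ↦ f i j h)) :=
    (Ring.DirectLimit.of G (fun i j h ↦ f i j h) i).toAlgebra
  letI : Module (G i) M := Module.compHom M (Ring.DirectLimit.of G (fun i j h ↦ f i j h) i)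
  haveI : IsScalarTower (G i) (Ring.DirectLimit G (fun i j h ↦ f i j h)) M :=
    IsScalarTower.of_compHom _ _ _
  let Gi : Matrix (Fin n) (Fin m) (G i) := fun k l => f (idx (k, l)) i (hi (k, l)) (x (k, l))
  have hGi : Gi.map (algebraMap (G i) (Ring.DirectLimit G (fun i j h ↦ f i j h))) =
      LinearMap.toMatrix' γ := by
    ext k l
    rw [Matrix.map_apply]
    change Ring.DirectLimit.of G (fun i j h ↦ f i j h) i (f (idx (k, l)) i (hi (k, l)) (x (k, l))) = _
    rw [Ring.DirectLimit.of_f, hx (k, l)]
  exact descend _ (G i) M n m φ γ hφ hγφ Gi hGi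

end Groth.Agent.S4726
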