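import Groth.Statements.S4728
import Groth.Agent.Lib.Helper24.FibreQuot

set_option autoImplicit false
universe u
open EGA4

namespace Groth.Agent.S4728

open IsLocalRing TensorProduct

/-- A local normal ring is a domain. -/
theorem isDomain_of_isNormalRing_of_isLocalRing (R : Type u) [CommRing R] [IsLocalRing R]
    (h : EGA4.IsNormalRing R) : IsDomain R := by
  haveI := (h (maximalIdeal R)).1
  have hunits : ∀ x ∈ (maximalIdeal R).primeCompl, IsUnit x := by
    intro x hx
    by_contra hnu
    exact hx ((mem_maximalIdeal x).mpr hnu)
  let e : R ≃ₐ[R] Localization.AtPrime (maximalIdeal R) :=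
    IsLocalization.atUnits R (maximalIdeal R).primeCompl hunits
  exact e.toMulEquiv.isDomain (Localization.AtPrime (maximalIdeal R))


/-- Let A be a Noetherian local domain of dimension 1 with maximal ideal m, A' a Noetherian local ring
and A → A' a local homomorphism which is normal (flat, with geometrically normal fibres). Then the
ideal m A' of A' is prime and the local ring of A' at m A' has dimension 1. (The remaining clauses
of the published item, describing A' inside its total ring of fractions, are not restated.) -/
theorem result (A A' : Type u) [CommRing A] [CommRing A']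
    [IsNoetherianRing A] [IsNoetherianRing A'] [IsLocalRing A] [IsLocalRing A'] [IsDomain A]
    (hA : ringKrullDim A = 1) [Algebra A A'] [IsLocalHom (algebraMap A A')] (h : EGA4.IsNormalHom A A') :
    ((IsLocalRing.maximalIdeal A).map (algebraMap A A')).IsPrime ∧
      ((IsLocalRing.maximalIdeal A).map (algebraMap A A')).height = 1 := by
  obtain ⟨hflat, hfib⟩ := h
  haveI := hflat
  have hmR : (maximalIdeal A).map (algebraMap A A') ≤ maximalIdeal A' :=
    ((IsLocalRing.local_hom_TFAE (algebraMap A A')).out 0 2 rfl rfl).mp ‹_›
  -- the closed fibre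
  let e : (maximalIdeal A).Fiber A' ≃ₐ[A] A' ⧸ (maximalIdeal A).map (algebraMap A A') :=
    (Algebra.TensorProduct.congr (.symm <| .ofBijective _
      (Ideal.bijective_algebraMap_quotient_residueField (maximalIdeal A))) .refl).trans <|
    (Algebra.TensorProduct.comm _ _ _).trans
    ((Algebra.TensorProduct.quotIdealMapEquivTensorQuot A' (maximalIdeal A)).symm.restrictScalars _)
  haveI : Nontrivial (A' ⧸ (maximalIdeal A).map (algebraMap A A')) :=
    Ideal.Quotient.nontrivial_iff.mpr <|
      ne_top_of_le_ne_top (IsLocalRing.maximalIdeal.isMaximal A').ne_top hmR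
  haveI : IsLocalRing (A' ⧸ (maximalIdeal A).map (algebraMap A A')) :=
    .of_surjective' _ Ideal.Quotient.mk_surjective
  have hn1 : EGA4.IsNormalRing ((maximalIdeal A).ResidueField ⊗[(maximalIdeal A).ResidueField]
      (maximalIdeal A).Fiber A') :=
    hfib (maximalIdeal A) (maximalIdeal A).ResidueField (Module.Finite.self _)
  have hn2 : EGA4.IsNormalRing ((maximalIdeal A).Fiber A') :=
    Groth.Agent.Lib.Helper24.FibreQuot.isNormalRing_of_ringEquiv
      (Algebra.TensorProduct.lid (maximalIdeal A).ResidueField
        ((maximalIdeal A).Fiber A')).toRingEquiv hn1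
  have hn3 : EGA4.IsNormalRing (A' ⧸ (maximalIdeal A).map (algebraMap A A')) :=
    Groth.Agent.Lib.Helper24.FibreQuot.isNormalRing_of_ringEquiv e.toRingEquiv hn2
  haveI hdom := isDomain_of_isNormalRing_of_isLocalRing _ hn3
  haveI hprime : ((maximalIdeal A).map (algebraMap A A')).IsPrime :=
    (Ideal.Quotient.isDomain_iff_prime _).mp hdom
  refine ⟨hprime, ?_⟩
  haveI : ((maximalIdeal A).map (algebraMap A A')).LiesOver (maximalIdeal A) := by
    constructor
    have hle : maximalIdeal A ≤ ((maximalIdeal A).map (algebraMap A A')).comap (algebraMap A A') :=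
      Ideal.le_comap_map
    have hne : ((maximalIdeal A).map (algebraMap A A')).comap (algebraMap A A') ≠ ⊤ :=
      (Ideal.comap_isPrime _ _).ne_top
    exact ((maximalIdeal.isMaximal A).eq_of_le hne hle)
  rw [Ideal.height_eq_height_add_of_liesOver_of_hasGoingDown (maximalIdeal A)
    ((maximalIdeal A).map (algebraMap A A')), Ideal.map_quotient_self, Ideal.height_bot, add_zero]
  have h1 := IsLocalRing.maximalIdeal_height_eq_ringKrullDim (R := A)
  rw [hA] at h1
  exact_mod_cast h1

end Groth.Agent.S4728
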