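import Groth.Statements.S4729
-- import your own Groth.Agent.* helpers here

set_option autoImplicit false
universe u
open EGA4

namespace Groth.Agent.S4729

theorem mem_support_loc_iff (A : Type u) [CommRing A] (M : Type u) [AddCommGroup M] [Module A M]
    (p : Ideal A) [p.IsPrime] (P : PrimeSpectrum (Localization.AtPrime p)) :
    P ∈ Module.support (Localization.AtPrime p) (LocalizedModule p.primeCompl M) ↔
      PrimeSpectrum.comap (algebraMap A (Localization.AtPrime p)) P ∈ Module.support A M := by
  have hPp : (PrimeSpectrum.comap (algebraMap A (Localization.AtPrime p)) P).asIdeal ≤ p := by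
    have := (IsLocalization.AtPrime.primeSpectrumOrderIso (Localization.AtPrime p) p P).2
    exact this
  constructor
  · intro h
    rw [Module.mem_support_iff'] at h ⊢
    obtain ⟨m, hm⟩ := h
    induction m using LocalizedModule.induction_on with
    | h x s =>
      refine ⟨x, fun r hr hrx => ?_⟩
      apply hm (algebraMap A _ r) (by simpa using hr)
      rw [algebraMap_smul, LocalizedModule.smul'_mk, hrx, LocalizedModule.zero_mk]
  · intro h
    rw [Module.mem_support_iff'] at h ⊢
    obtain ⟨x, hx⟩ := h
    refine ⟨LocalizedModule.mk x 1, fun a ha hax => ?_⟩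
    obtain ⟨r, s, rfl⟩ := IsLocalization.exists_mk'_eq p.primeCompl a
    have hr : r ∉ (PrimeSpectrum.comap (algebraMap A (Localization.AtPrime p)) P).asIdeal := by
      intro hr
      apply ha
      rw [PrimeSpectrum.comap_asIdeal, Ideal.mem_comap] at hr
      rw [IsLocalization.mk'_eq_mul_mk'_one]
      exact Ideal.mul_mem_right _ _ hr
    rw [← Localization.mk_eq_mk', LocalizedModule.mk_smul_mk, IsLocalizedModule.mk_eq_mk',
      IsLocalizedModule.mk'_eq_zero'] at hax
    obtain ⟨t, ht⟩ := hax
    have htP : (t : A) ∉ (PrimeSpectrum.comap (algebraMap A (Localization.AtPrime p)) P).asIdeal :=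
      fun h => t.2 (hPp h)
    apply hx ((t : A) * r)
    · intro h
      rcases (PrimeSpectrum.comap (algebraMap A (Localization.AtPrime p)) P).isPrime.mem_or_mem h with h | h
      · exact htP h
      · exact hr h
    · rw [mul_smul]; exact ht

/-- Let A be a commutative ring, M a finite A-module and p ⊆ q prime ideals of A (so that p is a
generization of q). Then the dimension of the A_p-module M_p is at most the dimension of the
A_q-module M_q. -/
theorem result (A : Type u) [CommRing A] (M : Type u) [AddCommGroup M] [Module A M]
    [Module.Finite A M] (p q : Ideal A) [p.IsPrime] [q.IsPrime] (hpq : p ≤ q) :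
    Module.supportDim (Localization.AtPrime p) (LocalizedModule p.primeCompl M) ≤
      Module.supportDim (Localization.AtPrime q) (LocalizedModule q.primeCompl M) := by
  unfold Module.supportDim
  let ep := IsLocalization.AtPrime.primeSpectrumOrderIso (Localization.AtPrime p) p
  let eq := IsLocalization.AtPrime.primeSpectrumOrderIso (Localization.AtPrime q) q
  have hcomap_p : ∀ P, (ep P).1 = PrimeSpectrum.comap (algebraMap A (Localization.AtPrime p)) P :=
    fun P => rfl
  have hcomap_q : ∀ P, (eq P).1 = PrimeSpectrum.comap (algebraMap A (Localization.AtPrime q)) P :=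
    fun P => rfl
  let g : PrimeSpectrum (Localization.AtPrime p) → PrimeSpectrum (Localization.AtPrime q) :=
    fun P => eq.symm ⟨(ep P).1, le_trans (ep P).2 hpq⟩
  have hg : ∀ P, PrimeSpectrum.comap (algebraMap A (Localization.AtPrime q)) (g P) =
      PrimeSpectrum.comap (algebraMap A (Localization.AtPrime p)) P := by
    intro P
    rw [← hcomap_q, ← hcomap_p]
    simp only [g, OrderIso.apply_symm_apply]
  have hgmono : StrictMono g := by
    intro P Q hPQ
    simp only [g]
    rw [eq.symm.lt_iff_lt]
    have := ep.lt_iff_lt.mpr hPQ
    exact this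
  refine Order.krullDim_le_of_strictMono
    (fun P : Module.support (Localization.AtPrime p) (LocalizedModule p.primeCompl M) =>
      (⟨g P.1, ?_⟩ : Module.support (Localization.AtPrime q) (LocalizedModule q.primeCompl M))) ?_
  · rw [mem_support_loc_iff, hg, ← mem_support_loc_iff]
    exact P.2
  · intro P Q hPQ
    exact hgmono hPQ

end Groth.Agent.S4729
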