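import Groth.Statements.S4731
-- import your own Groth.Agent.* helpers here

set_option autoImplicit false
universe u
open EGA4

namespace Groth.Agent.S4731

open Pointwise in
theorem noeth_of_quot (S : Type u) [CommRing S] (c : Ideal S) [IsNoetherianRing (S ⧸ c)]
    (N : Type u) [AddCommGroup N] [Module S N] [Module.Finite S N]
    (h : ∀ s ∈ c, ∀ x : N, s • x = 0) : IsNoetherian S N := by
  have htors : Module.IsTorsionBySet S N (c : Set S) := by
    intro x s
    exact h s.1 s.2 x
  let : Module (S ⧸ c) N := htors.module
  have : IsScalarTower S (S ⧸ c) N := htors.isScalarTower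
  have : Module.Finite (S ⧸ c) N := Module.Finite.of_restrictScalars_finite S (S ⧸ c) N
  have : IsNoetherian (S ⧸ c) N := isNoetherian_of_isNoetherianRing_of_finite _ _
  rw [isNoetherian_def]
  intro T
  let T' : Submodule (S ⧸ c) N :=
    { T with
      smul_mem' := by
        intro q x hx
        obtain ⟨s, rfl⟩ := Ideal.Quotient.mk_surjective q
        have : (Ideal.Quotient.mk c s) • x = s • x := by
          rw [← Ideal.Quotient.algebraMap_eq, algebraMap_smul]
        rw [this]
        exact T.smul_mem s hx }
  have hT : T = T'.restrictScalars S := by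
    ext x
    rfl
  rw [hT]
  exact Submodule.FG.restrictScalars_of_surjective (R := S) (A := S ⧸ c)
    (IsNoetherian.noetherian T') Ideal.Quotient.mk_surjective

/-- Let S → R be an injective homomorphism of commutative rings making R a finite S-module, with R
Noetherian; let c be the conductor of S in R, the ideal of those s in S with s R contained in (the
image of) S. If S/c is Noetherian, then every increasing sequence of ideals of S contained in c is
eventually constant. -/
theorem result (S R : Type u) [CommRing S] [CommRing R] [Algebra S R]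
    [FaithfulSMul S R] [IsNoetherianRing R] [Module.Finite S R] (c : Ideal S)
    (hc : ∀ s : S, s ∈ c ↔ ∀ r : R, ∃ s' : S, algebraMap S R s' = algebraMap S R s * r)
    [IsNoetherianRing (S ⧸ c)] (a : ℕ →o Ideal S) (ha : ∀ n, a n ≤ c) :
    ∃ N : ℕ, ∀ n, N ≤ n → a n = a N := by
  have hinj : Function.Injective (algebraMap S R) := FaithfulSMul.algebraMap_injective S R
  -- c is stable under multiplication by R
  have hcR : ∀ s ∈ c, ∀ r : R, ∃ s' ∈ c, algebraMap S R s' = algebraMap S R s * r := by
    intro s hs r
    obtain ⟨s', hs'⟩ := (hc s).mp hs r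
    refine ⟨s', (hc s').mpr fun r' => ?_, hs'⟩
    obtain ⟨s'', hs''⟩ := (hc s).mp hs (r * r')
    exact ⟨s'', by rw [hs'', hs', mul_assoc]⟩
  let ι : S →ₗ[S] R := Algebra.linearMap S R
  have hι : Function.Injective ι := hinj
  let A : ℕ → Submodule S R := fun n => Submodule.map ι (a n)
  let I : ℕ →o Ideal R := ⟨fun n => (a n).map (algebraMap S R), fun m n hmn =>
    Ideal.map_mono (a.monotone hmn)⟩
  obtain ⟨N₀, hN₀⟩ := (monotone_stabilizes_iff_noetherian (R := R) (M := R)).mpr inferInstance I
  let B : Submodule S R := (I N₀).restrictScalars S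
  let C : Submodule S R := c • B
  have hAB : ∀ n, N₀ ≤ n → A n ≤ B := by
    intro n hn x hx
    obtain ⟨s, hs, rfl⟩ := hx
    change ι s ∈ I N₀
    rw [hN₀ n hn]
    exact Ideal.mem_map_of_mem _ hs
  have hCA : ∀ n, N₀ ≤ n → C ≤ A n := by
    intro n hn
    rw [Submodule.smul_le]
    intro s hs y hy
    change y ∈ I N₀ at hy
    rw [hN₀ n hn] at hy
    change y ∈ Ideal.span _ at hy
    revert s
    induction hy using Submodule.span_induction with
    | mem y hy =>
      intro s hs
      obtain ⟨t, ht, rfl⟩ := hy
      refine ⟨s * t, Ideal.mul_mem_left _ _ ht, ?_⟩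
      simp [ι, Algebra.smul_def]
    | zero => intro s hs; simp
    | add y z _ _ hy hz =>
      intro s hs
      rw [smul_add]
      exact add_mem (hy s hs) (hz s hs)
    | smul r y _ hy =>
      intro s hs
      obtain ⟨s', hs'c, hs'⟩ := hcR s hs r
      have : s • (r • y) = s' • y := by
        rw [smul_eq_mul, Algebra.smul_def, Algebra.smul_def, hs', mul_assoc]
      rw [this]
      exact hy s' hs'c
  -- the quotient module
  let Q := (B.map C.mkQ)
  have : Module.Finite S Q := by
    rw [Module.Finite.iff_fg]
    apply Submodule.FG.map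
    have : (I N₀ : Submodule R R).FG := IsNoetherian.noetherian _
    exact Submodule.FG.restrictScalars this
  have : IsNoetherian S Q := by
    apply noeth_of_quot S c
    intro s hs x
    obtain ⟨x, hx⟩ := x
    obtain ⟨b, hb, rfl⟩ := hx
    apply Subtype.ext
    change s • C.mkQ b = 0
    rw [← map_smul, Submodule.mkQ_apply, Submodule.Quotient.mk_eq_zero]
    exact Submodule.smul_mem_smul hs hb
  let chain : ℕ →o Submodule S Q := ⟨fun n => ((A (n + N₀)).map C.mkQ).comap Q.subtype,
    fun m n hmn => Submodule.comap_mono (Submodule.map_mono (Submodule.map_mono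
      (a.monotone (by omega))))⟩
  obtain ⟨N₁, hN₁⟩ := (monotone_stabilizes_iff_noetherian (R := S) (M := Q)).mpr inferInstance chain
  refine ⟨N₁ + N₀, fun n hn => ?_⟩
  obtain ⟨k, rfl⟩ : ∃ k, n = k + N₀ := ⟨n - N₀, by omega⟩
  have hk : N₁ ≤ k := by omega
  have h1 := hN₁ k hk
  have hle : ∀ m, (A (m + N₀)).map C.mkQ ≤ Q := fun m =>
    Submodule.map_mono (hAB _ (by omega))
  have h2 : (A (N₁ + N₀)).map C.mkQ = (A (k + N₀)).map C.mkQ := by
    have e1 := congrArg (Submodule.map Q.subtype) h1
    simp only [chain, OrderHom.coe_mk] at e1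
    rw [Submodule.map_comap_eq_self, Submodule.map_comap_eq_self] at e1
    · exact e1
    · rw [Submodule.range_subtype]; exact hle _
    · rw [Submodule.range_subtype]; exact hle _
  have h3 : A (N₁ + N₀) = A (k + N₀) := by
    have e2 := congrArg (Submodule.comap C.mkQ) h2
    rw [Submodule.comap_map_mkQ, Submodule.comap_map_mkQ, sup_eq_right.mpr (hCA _ (by omega)),
      sup_eq_right.mpr (hCA _ (by omega))] at e2
    exact e2
  have h4 := congrArg (Submodule.comap ι) h3
  simp only [A] at h4
  rw [Submodule.comap_map_eq_of_injective hι, Submodule.comap_map_eq_of_injective hι] at h4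
  exact h4.symm

end Groth.Agent.S4731
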