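import Groth.Statements.S4732
import Mathlib

set_option autoImplicit false
universe u
open EGA4

namespace Groth.Agent.S4732

open AlgebraicGeometry CategoryTheory in
theorem reg_spec (S : Type u) [CommRing S] [IsRegularRing S] (p : PrimeSpectrum S) :
    IsRegularLocalRing ((Spec (CommRingCat.of S)).presheaf.stalk p) := by
  letI : Algebra S ((Spec (CommRingCat.of S)).presheaf.stalk p) :=
    StructureSheaf.stalkAlgebra (R := S) p
  haveI : IsLocalization.AtPrime ((Spec (CommRingCat.of S)).presheaf.stalk p) p.asIdeal :=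
    StructureSheaf.IsLocalization.to_stalk (R := S) p
  let e : (Spec (CommRingCat.of S)).presheaf.stalk p ≃ₐ[S] Localization.AtPrime p.asIdeal :=
    IsLocalization.algEquiv p.asIdeal.primeCompl _ _
  haveI : IsRegularLocalRing (Localization.AtPrime p.asIdeal) :=
    IsRegularRing.isRegularLocalRing_localization p.asIdeal
  exact IsRegularLocalRing.of_ringEquiv e.symm.toRingEquiv

open AlgebraicGeometry CategoryTheory in
/-- Let k be a field, X a scheme locally of finite type over k and x a point of X. Then there are an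
open neighbourhood U of x, a k-scheme Y all of whose local rings are regular, and an immersion U → Y
compatible with the structure morphisms to Spec k. -/
theorem result (k : Type u) [Field k] {X : Scheme.{u}}
    (f : X ⟶ Spec (CommRingCat.of k)) [LocallyOfFiniteType f] (x : X) :
    ∃ (U : X.Opens) (_ : x ∈ U) (Y : Scheme.{u}) (g : Y ⟶ Spec (CommRingCat.of k)) (i : (U : Scheme.{u}) ⟶ Y),
      IsImmersion i ∧ i ≫ g = U.ι ≫ f ∧ ∀ y : Y, IsRegularLocalRing (Y.presheaf.stalk y) := by
  obtain ⟨U, hU, hxU, -⟩ :=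
    exists_isAffineOpen_mem_and_subset (x := x) (U := (⊤ : X.Opens)) trivial
  have hle : U ≤ f ⁻¹ᵁ (⊤ : (Spec (CommRingCat.of k)).Opens) := le_top
  let ψ : k →+* Γ(X, U) :=
    ((Scheme.ΓSpecIso (CommRingCat.of k)).inv ≫ f.appLE ⊤ U hle).hom
  have hψ : ψ.FiniteType := by
    have h1 : (f.appLE ⊤ U hle).hom.FiniteType :=
      HasRingHomProperty.appLE (P := @LocallyOfFiniteType) f inferInstance
        ⟨⊤, isAffineOpen_top _⟩ ⟨U, hU⟩ hle
    have h2 : ((Scheme.ΓSpecIso (CommRingCat.of k)).inv).hom.FiniteType :=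
      RingHom.FiniteType.of_surjective _
        (Scheme.ΓSpecIso (CommRingCat.of k)).commRingCatIsoToRingEquiv.symm.surjective
    exact RingHom.FiniteType.comp h1 h2
  algebraize [ψ]
  obtain ⟨n, φ, hφ⟩ := Algebra.FiniteType.iff_quotient_mvPolynomial''.mp
    (inferInstance : Algebra.FiniteType k Γ(X, U))
  haveI : IsClosedImmersion (Spec.map (CommRingCat.ofHom φ.toRingHom)) :=
    IsClosedImmersion.spec_of_surjective _ hφ
  refine ⟨U, hxU, Spec (CommRingCat.of (MvPolynomial (Fin n) k)),
    Spec.map (CommRingCat.ofHom (algebraMap k (MvPolynomial (Fin n) k))),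
    hU.isoSpec.hom ≫ Spec.map (CommRingCat.ofHom φ.toRingHom), inferInstance, ?_, ?_⟩
  · have e1 : U.ι = hU.isoSpec.hom ≫ hU.fromSpec := by
      rw [IsAffineOpen.fromSpec, Iso.hom_inv_id_assoc]
    have e2 : hU.fromSpec ≫ f = Spec.map (CommRingCat.ofHom ψ) := by
      rw [← IsAffineOpen.SpecMap_appLE_fromSpec f (isAffineOpen_top _) hU hle,
        IsAffineOpen.fromSpec_top, Scheme.isoSpec_Spec_inv, ← Spec.map_comp]
      rfl
    rw [e1, Category.assoc, Category.assoc, e2, ← Spec.map_comp]
    congr 2
    ext a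
    exact φ.commutes a
  · intro y
    exact reg_spec (MvPolynomial (Fin n) k) y

end Groth.Agent.S4732
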