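import Groth.Statements.S4733
import Groth.Agent.Lib.Helper24.GeomSep1
import Groth.Agent.Lib.Helper24.SmoothRegularIff

set_option autoImplicit false
universe u
open EGA4

namespace Groth.Agent.S4733

open TensorProduct in
theorem part1 (k S k' : Type u) [Field k] [CommRing S] [Algebra k S] [IsNoetherianRing S]
    [Field k'] [Algebra k k'] (q' : Ideal (S ⊗[k] k')) [q'.IsPrime]
    (h : IsRegularLocalRing (Localization.AtPrime q')) :
    IsRegularLocalRing (Localization.AtPrime (q'.comap (algebraMap S (S ⊗[k] k')))) := by
  have hflat : (Localization.localRingHom (q'.comap (algebraMap S (S ⊗[k] k'))) q'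
      (algebraMap S (S ⊗[k] k')) rfl).Flat :=
    RingHom.Flat.localRingHom (RingHom.flat_algebraMap_iff.2 inferInstance) q' _ rfl
  algebraize [Localization.localRingHom (q'.comap (algebraMap S (S ⊗[k] k'))) q'
    (algebraMap S (S ⊗[k] k')) rfl]
  haveI : IsLocalHom (algebraMap (Localization.AtPrime (q'.comap (algebraMap S (S ⊗[k] k'))))
      (Localization.AtPrime q')) :=
    Localization.isLocalHom_localRingHom _ q' (algebraMap S (S ⊗[k] k')) rfl
  exact Groth.Agent.S0565.result _ (Localization.AtPrime q')

open TensorProduct in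
theorem part2 (k S k' : Type u) [Field k] [CommRing S] [Algebra k S] [Field k'] [Algebra k k']
    [IsNoetherianRing (S ⊗[k] k')]
    [Algebra.IsGeometricallyReduced k k'] (q' : Ideal (S ⊗[k] k')) [q'.IsPrime]
    (hn : IsRegularLocalRing (Localization.AtPrime (q'.comap (algebraMap S (S ⊗[k] k'))))) :
    IsRegularLocalRing (Localization.AtPrime q') := by
  haveI := hn
  haveI hSq : IsRegularRing (Localization.AtPrime (q'.comap (algebraMap S (S ⊗[k] k')))) :=
    Groth.Agent.Lib.Helper24.SmoothRegularIff.isRegularRing_of_isRegularLocalRing _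
  letI alg : Algebra (S ⊗[k] k')
      (Localization.AtPrime (q'.comap (algebraMap S (S ⊗[k] k'))) ⊗[k] k') :=
    (Algebra.TensorProduct.map (IsScalarTower.toAlgHom k S
      (Localization.AtPrime (q'.comap (algebraMap S (S ⊗[k] k'))))) (AlgHom.id k k')).toRingHom.toAlgebra
  haveI tow : IsScalarTower S (S ⊗[k] k')
      (Localization.AtPrime (q'.comap (algebraMap S (S ⊗[k] k'))) ⊗[k] k') :=
    IsScalarTower.of_algebraMap_eq fun b => by
      rw [RingHom.algebraMap_toAlgebra]
      simp [Algebra.TensorProduct.algebraMap_apply]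
  have H : (algebraMap (S ⊗[k] k')
      (Localization.AtPrime (q'.comap (algebraMap S (S ⊗[k] k'))) ⊗[k] k')).comp
      (Algebra.TensorProduct.includeRight : k' →ₐ[k] S ⊗[k] k').toRingHom =
      (Algebra.TensorProduct.includeRight : k' →ₐ[k]
        Localization.AtPrime (q'.comap (algebraMap S (S ⊗[k] k'))) ⊗[k] k').toRingHom := by
    ext t
    rw [RingHom.algebraMap_toAlgebra]
    simp
  haveI hloc := IsLocalization.tensorProduct_tensorProduct k k'
    (q'.comap (algebraMap S (S ⊗[k] k'))).primeCompl
    (Localization.AtPrime (q'.comap (algebraMap S (S ⊗[k] k')))) H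
  haveI hN1 : IsNoetherianRing
      (Localization.AtPrime (q'.comap (algebraMap S (S ⊗[k] k'))) ⊗[k] k') :=
    IsLocalization.isNoetherianRing (Algebra.algebraMapSubmonoid (S ⊗[k] k')
      (q'.comap (algebraMap S (S ⊗[k] k'))).primeCompl) _ inferInstance
  haveI hN2 : IsNoetherianRing
      (k' ⊗[k] Localization.AtPrime (q'.comap (algebraMap S (S ⊗[k] k')))) :=
    isNoetherianRing_of_ringEquiv _ (Algebra.TensorProduct.comm k _ k').toRingEquiv
  haveI h1 : IsRegularRing (k' ⊗[k] Localization.AtPrime (q'.comap (algebraMap S (S ⊗[k] k')))) :=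
    Groth.Agent.Lib.Helper24.GeomSep.isRegularRing_tensor_of_separable k k' _
  have h2 : IsRegularRing (Localization.AtPrime (q'.comap (algebraMap S (S ⊗[k] k'))) ⊗[k] k') :=
    IsRegularRing.of_ringEquiv (Algebra.TensorProduct.comm k k' _).toRingEquiv
  have hle : Algebra.algebraMapSubmonoid (S ⊗[k] k')
      (q'.comap (algebraMap S (S ⊗[k] k'))).primeCompl ≤ q'.primeCompl := by
    rintro _ ⟨s, hs, rfl⟩
    exact hs
  letI : Algebra (Localization.AtPrime (q'.comap (algebraMap S (S ⊗[k] k'))) ⊗[k] k')
      (Localization.AtPrime q') :=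
    IsLocalization.localizationAlgebraOfSubmonoidLe _ (Localization.AtPrime q')
      (Algebra.algebraMapSubmonoid (S ⊗[k] k') (q'.comap (algebraMap S (S ⊗[k] k'))).primeCompl)
      q'.primeCompl hle
  haveI : IsScalarTower (S ⊗[k] k')
      (Localization.AtPrime (q'.comap (algebraMap S (S ⊗[k] k'))) ⊗[k] k')
      (Localization.AtPrime q') :=
    IsLocalization.localization_isScalarTower_of_submonoid_le _ (Localization.AtPrime q')
      (Algebra.algebraMapSubmonoid (S ⊗[k] k') (q'.comap (algebraMap S (S ⊗[k] k'))).primeCompl)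
      q'.primeCompl hle
  haveI hlocT := IsLocalization.isLocalization_of_submonoid_le
    (Localization.AtPrime (q'.comap (algebraMap S (S ⊗[k] k'))) ⊗[k] k') (Localization.AtPrime q')
    (Algebra.algebraMapSubmonoid (S ⊗[k] k') (q'.comap (algebraMap S (S ⊗[k] k'))).primeCompl)
    q'.primeCompl hle
  haveI h3 : IsRegularRing (Localization.AtPrime q') :=
    Groth.Agent.Lib.Helper24.FibLoc.locStable_isRegularRing.loc
      (Localization.AtPrime (q'.comap (algebraMap S (S ⊗[k] k'))) ⊗[k] k') (Localization.AtPrime q')
      (q'.primeCompl.map (algebraMap (S ⊗[k] k')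
        (Localization.AtPrime (q'.comap (algebraMap S (S ⊗[k] k'))) ⊗[k] k'))) h2
  exact IsRegularLocalRing.of_isRegularRing_of_isLocalRing _


open TensorProduct in
/-- For the property 'regular' (affine form): let k be a field, S a Noetherian k-algebra and k' an
extension field of k such that S is of finite type over k or k' is essentially of finite type over
k; let q' be a prime of S ⊗_k k' and q its contraction to S. If (S ⊗_k k')_{q'} is a regular local
ring then so is S_q; conversely, if k' is separable over k (geometrically reduced) and S_q is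
regular, then (S ⊗_k k')_{q'} is regular. -/
theorem result (k S k' : Type u) [Field k] [CommRing S] [Algebra k S]
    [IsNoetherianRing S] [Field k'] [Algebra k k'] (hft : Algebra.FiniteType k S ∨ Algebra.EssFiniteType k k')
    [IsNoetherianRing (S ⊗[k] k')] (q' : Ideal (S ⊗[k] k')) [q'.IsPrime] :
    (IsRegularLocalRing (Localization.AtPrime q') →
        IsRegularLocalRing (Localization.AtPrime (q'.comap (algebraMap S (S ⊗[k] k'))))) ∧
      (Algebra.IsGeometricallyReduced k k' →
        IsRegularLocalRing (Localization.AtPrime (q'.comap (algebraMap S (S ⊗[k] k')))) →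
          IsRegularLocalRing (Localization.AtPrime q')) := by
  refine ⟨fun h => part1 k S k' q' h, fun hsep hn => ?_⟩
  haveI := hsep
  exact part2 k S k' q' hn

end Groth.Agent.S4733
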