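import Groth.Statements.S4737
import Groth.Agent.Lib.Helper24.FibreQuot
import Groth.Agent.Lib.Helper24.HensFibre
import Groth.Agent.S0542
import Mathlib

set_option autoImplicit false
universe u
open EGA4

namespace Groth.Agent.S4737

open TensorProduct Groth.Agent.Lib.Helper24.FibreQuot

theorem isGeomRegular_baseChange (k K F : Type u) [Field k] [Field K] [Algebra k K] [CommRing F]
    [Algebra k F] (hbij : Function.Bijective (algebraMap k K))
    (h : CAlg.IsGeometricallyRegular k F) : CAlg.IsGeometricallyRegular K (K ⊗[k] F) := by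
  intro k' _ _ hfin
  letI : Algebra k k' := ((algebraMap K k').comp (algebraMap k K)).toAlgebra
  haveI : IsScalarTower k K k' := IsScalarTower.of_algebraMap_eq' rfl
  haveI : Module.Finite k K := Module.Finite.of_surjective (Algebra.linearMap k K) hbij.2
  haveI : Module.Finite k k' := Module.Finite.trans K k'
  have hreg : IsRegularRing (k' ⊗[k] F) := h k' inferInstance
  exact @IsRegularRing.of_ringEquiv _ _ _ _
    (Algebra.TensorProduct.cancelBaseChange k K K k' F).symm.toRingEquiv hreg

theorem isGeomRegular_fibre {R : Type u} [CommRing R] (I : Ideal R) (P : Ideal (R ⧸ I)) [P.IsPrime]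
    {B B' : Type u} [CommRing B] [CommRing B'] [Algebra R B] [Algebra (R ⧸ I) B']
    (e : (B ⧸ I.map (algebraMap R B)) ≃ₐ[R ⧸ I] B')
    (h : CAlg.IsGeometricallyRegular (pr I P).ResidueField ((pr I P).Fiber B)) :
    CAlg.IsGeometricallyRegular P.ResidueField (P.Fiber B') := by
  have h1 := isGeomRegular_baseChange (pr I P).ResidueField P.ResidueField
    ((pr I P).Fiber B) (σ_bijective I P) h
  intro k' _ _ hfin
  have hreg := h1 k' hfin
  exact @IsRegularRing.of_ringEquiv _ _ _ _
    (Algebra.TensorProduct.congr (AlgEquiv.refl : k' ≃ₐ[P.ResidueField] k')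
      (fibreEquiv I P B B' e).symm).toRingEquiv hreg

/-- The property 'geometrically regular', case of a local ring: let A be a Noetherian local ring whose
completion map A → Â is regular (the formal fibres of A are geometrically regular). Then for every
proper ideal I of A, the completion map of the local ring A/I is regular. -/
theorem result (A : Type u) [CommRing A] [IsNoetherianRing A] [IsLocalRing A]
    (hA : CAlg.IsRegularHom A (EGA4.Cpl A)) (I : Ideal A) [Nontrivial (A ⧸ I)] :
    CAlg.IsRegularHom (A ⧸ I) (EGA4.Cpl (A ⧸ I)) := by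
  haveI hN : IsNoetherianRing (AdicCompletion (IsLocalRing.maximalIdeal (A ⧸ I)) (A ⧸ I)) :=
    Groth.Agent.S0542.result (A ⧸ I) _ (IsLocalRing.maximalIdeal (A ⧸ I)).fg_of_isNoetherianRing
  refine ⟨inferInstance, fun P _ => ⟨?_, ?_⟩⟩
  · exact Groth.Agent.Lib.Helper24.HensFibre.isNoetherianRing_fibre (A ⧸ I) _ P
  · exact isGeomRegular_fibre I P (cplEquivₐ A I) (hA.2 _).2

end Groth.Agent.S4737
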