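import Groth.Statements.S4739
import Groth.Agent.Lib.Helper24.CplIso
import Groth.Agent.S0542
import Mathlib

set_option autoImplicit false
universe u
open EGA4

namespace Groth.Agent.S4739

open TensorProduct IsLocalRing Groth.Agent.Lib.Helper24.CplFlat Groth.Agent.Lib.Helper24.CplIso

section

variable (A B : Type u) [CommRing A] [CommRing B] [IsNoetherianRing A]
    [IsLocalRing A] [IsLocalRing B] [Algebra A B] [IsLocalHom (algebraMap A B)]

/-- density of `B` in `B ⊗[A] Â` -/
theorem exists_sub_mem_tensor (k : ℕ) (x : B ⊗[A] AdicCompletion (maximalIdeal A) A) :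
    ∃ b : B, x - algebraMap B (B ⊗[A] AdicCompletion (maximalIdeal A) A) b ∈
      (maximalIdeal B ^ k).map (algebraMap B (B ⊗[A] AdicCompletion (maximalIdeal A) A)) := by
  induction x using TensorProduct.induction_on with
  | zero => exact ⟨0, by simp⟩
  | add x y hx hy =>
    obtain ⟨b1, h1⟩ := hx
    obtain ⟨b2, h2⟩ := hy
    refine ⟨b1 + b2, ?_⟩
    have : x + y - algebraMap B _ (b1 + b2) = (x - algebraMap B _ b1) + (y - algebraMap B _ b2) := by
      rw [map_add]; ring
    rw [this]
    exact Ideal.add_mem _ h1 h2
  | tmul b c =>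
    obtain ⟨a, ha⟩ := exists_sub_mem (maximalIdeal A) (maximalIdeal A).fg_of_isNoetherianRing k c
    refine ⟨a • b, ?_⟩
    have h1 : b ⊗ₜ[A] c - algebraMap B (B ⊗[A] AdicCompletion (maximalIdeal A) A) (a • b) =
        b ⊗ₜ[A] (c - algebraMap A _ a) := by
      rw [Algebra.TensorProduct.algebraMap_apply, Algebra.algebraMap_self_apply,
        TensorProduct.tmul_sub, TensorProduct.smul_tmul, Algebra.smul_def, mul_one]
    rw [h1]
    -- `b ⊗ i` for `i ∈ m_A^k Â`
    have key : ∀ i ∈ (maximalIdeal A ^ k).map (algebraMap A (AdicCompletion (maximalIdeal A) A)),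
        b ⊗ₜ[A] i ∈ (maximalIdeal B ^ k).map
          (algebraMap B (B ⊗[A] AdicCompletion (maximalIdeal A) A)) := by
      intro i hi
      unfold Ideal.map at hi
      induction hi using Submodule.span_induction with
      | mem x hx =>
        obtain ⟨a', ha', rfl⟩ := hx
        have : b ⊗ₜ[A] (algebraMap A (AdicCompletion (maximalIdeal A) A) a') =
            algebraMap B (B ⊗[A] AdicCompletion (maximalIdeal A) A) (algebraMap A B a') *
              (b ⊗ₜ[A] (1 : AdicCompletion (maximalIdeal A) A)) := by
          rw [Algebra.TensorProduct.algebraMap_apply, Algebra.algebraMap_self_apply,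
            Algebra.TensorProduct.tmul_mul_tmul, mul_one, Algebra.algebraMap_eq_smul_one,
            ← TensorProduct.smul_tmul, Algebra.smul_def]
        rw [this]
        apply Ideal.mul_mem_right
        apply Ideal.mem_map_of_mem
        have hle : (maximalIdeal A ^ k).map (algebraMap A B) ≤ maximalIdeal B ^ k := by
          rw [Ideal.map_pow]
          exact Ideal.pow_right_mono (map_maximalIdeal_le A B) k
        exact hle (Ideal.mem_map_of_mem _ ha')
      | zero => rw [TensorProduct.tmul_zero]; exact Ideal.zero_mem _
      | add x y _ _ hx hy => rw [TensorProduct.tmul_add]; exact Ideal.add_mem _ hx hy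
      | smul r x _ hx =>
        have : b ⊗ₜ[A] (r • x) = ((1 : B) ⊗ₜ[A] r) * (b ⊗ₜ[A] x) := by
          rw [Algebra.TensorProduct.tmul_mul_tmul, one_mul, smul_eq_mul]
        rw [this]
        exact Ideal.mul_mem_left _ _ hx
    exact key _ ha

end

open TensorProduct in

/-- generic version -/
theorem generic (B B' : Type u) [CommRing B] [IsLocalRing B] [CommRing B'] [Algebra B B']
    [Module.FaithfullyFlat B B']
    (hsurj : ∀ (k : ℕ) (x : B'), ∃ b : B, x - algebraMap B B' b ∈
      (maximalIdeal B ^ k).map (algebraMap B B'))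
    (n' : Ideal B') [n'.IsPrime] (h1 : n'.comap (algebraMap B B') = maximalIdeal B) :
    Nonempty (AdicCompletion (maximalIdeal B) B ≃+*
      AdicCompletion (maximalIdeal (Localization.AtPrime n')) (Localization.AtPrime n')) := by
  have hinj : ∀ (k : ℕ) (b : B), algebraMap B B' b ∈ (maximalIdeal B ^ k).map (algebraMap B B') →
      b ∈ maximalIdeal B ^ k := by
    intro k b hb
    have : b ∈ ((maximalIdeal B ^ k).map (algebraMap B B')).comap (algebraMap B B') := hb
    rwa [Ideal.comap_map_eq_self_of_faithfullyFlat] at this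
  have hle : (maximalIdeal B).map (algebraMap B B') ≤ n' := by
    rw [Ideal.map_le_iff_le_comap, h1]
  have hmax : ((maximalIdeal B).map (algebraMap B B')).IsMaximal := by
    have hbij : Function.Bijective (Ideal.quotientMap ((maximalIdeal B).map (algebraMap B B'))
        (algebraMap B B') Ideal.le_comap_map) := by
      constructor
      · rw [injective_iff_map_eq_zero]
        intro x hx
        obtain ⟨b, rfl⟩ := Ideal.Quotient.mk_surjective x
        rw [Ideal.quotientMap_mk, Ideal.Quotient.eq_zero_iff_mem] at hx
        rw [Ideal.Quotient.eq_zero_iff_mem]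
        have := hinj 1 b (by rwa [pow_one])
        rwa [pow_one] at this
      · intro y
        obtain ⟨y, rfl⟩ := Ideal.Quotient.mk_surjective y
        obtain ⟨b, hb⟩ := hsurj 1 y
        refine ⟨Ideal.Quotient.mk _ b, ?_⟩
        rw [Ideal.quotientMap_mk]
        symm
        rw [Ideal.Quotient.eq]
        rwa [pow_one] at hb
    have hfield : IsField (B' ⧸ (maximalIdeal B).map (algebraMap B B')) :=
      (RingEquiv.ofBijective _ hbij).symm.toMulEquiv.isField
        ((Ideal.Quotient.maximal_ideal_iff_isField_quotient _).mp inferInstance)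
    exact (Ideal.Quotient.maximal_ideal_iff_isField_quotient _).mpr hfield
  have hn' : n' = (maximalIdeal B).map (algebraMap B B') :=
    (hmax.eq_of_le Ideal.IsPrime.ne_top' hle).symm
  haveI hn'max : n'.IsMaximal := hn' ▸ hmax
  have hpow : ∀ k, n' ^ k = (maximalIdeal B ^ k).map (algebraMap B B') := by
    intro k
    rw [hn', Ideal.map_pow]
  let e1 : AdicCompletion (maximalIdeal B) B ≃+* AdicCompletion n' B' :=
    complEquiv (maximalIdeal B) n' (algebraMap B B') hle
      (fun k b hb => hinj k b (by rwa [← hpow]))
      (fun k x => by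
        obtain ⟨b, hb⟩ := hsurj k x
        exact ⟨b, by rwa [hpow]⟩)
  exact ⟨e1.trans (atMaximalEquiv B' n')⟩

/-- Let A → B be a local homomorphism of Noetherian local rings and Â the completion of A, and suppose
B' = B ⊗_A Â is Noetherian. Then for every prime ideal n' of B' lying over the maximal ideal of B
and containing the image of the maximal ideal of A through Â (that is, lying over the maximal ideal
m_A Â of Â), the completion of B and the completion of the local ring B'_{n'} are isomorphic
(existence of a ring isomorphism only). -/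
theorem result (A B : Type u) [CommRing A] [CommRing B] [IsNoetherianRing A]
    [IsNoetherianRing B] [IsLocalRing A] [IsLocalRing B] [Algebra A B] [IsLocalHom (algebraMap A B)]
    [IsNoetherianRing (B ⊗[A] EGA4.Cpl A)] (n' : Ideal (B ⊗[A] EGA4.Cpl A)) [n'.IsPrime]
    (h1 : n'.comap (algebraMap B (B ⊗[A] EGA4.Cpl A)) = IsLocalRing.maximalIdeal B)
    (h2 : (IsLocalRing.maximalIdeal A).map
        ((Algebra.TensorProduct.includeRight.toRingHom : EGA4.Cpl A →+* B ⊗[A] EGA4.Cpl A).comp
          (algebraMap A (EGA4.Cpl A))) ≤ n') :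
    Nonempty (EGA4.Cpl B ≃+* EGA4.Cpl (Localization.AtPrime n')) := by
  haveI hNÂ : IsNoetherianRing (AdicCompletion (maximalIdeal A) A) :=
    Groth.Agent.S0542.result A _ (maximalIdeal A).fg_of_isNoetherianRing
  haveI : IsLocalHom (algebraMap A (AdicCompletion (maximalIdeal A) A)) := by
    apply ((IsLocalRing.local_hom_TFAE _).out 0 2).mpr
    rw [← AdicCompletion.maximalIdeal_eq_map]
  haveI : Module.FaithfullyFlat A (AdicCompletion (maximalIdeal A) A) :=
    Module.FaithfullyFlat.of_flat_of_isLocalHom
  haveI : Module.FaithfullyFlat B (B ⊗[A] AdicCompletion (maximalIdeal A) A) := inferInstance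
  exact generic B (B ⊗[A] AdicCompletion (maximalIdeal A) A) (exists_sub_mem_tensor A B) n' h1

end Groth.Agent.S4739
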