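import Groth.Statements.S4741
import Groth.Agent.Lib.Helper24.FlatDimFormula
-- import your own Groth.Agent.* helpers here

set_option autoImplicit false
universe u
open EGA4

namespace Groth.Agent.S4741

open AlgebraicGeometry CategoryTheory in
/-- Strict generization strictly lowers the dimension of the local ring (locally Noetherian). -/
theorem dim_stalk_lt (X : Scheme.{u}) [IsLocallyNoetherian X] (x x' : X) (h : x' ⤳ x)
    (hne : x' ≠ x) : ringKrullDim (X.presheaf.stalk x') < ringKrullDim (X.presheaf.stalk x) := by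
  obtain ⟨W, hW, hxW, -⟩ := exists_isAffineOpen_mem_and_subset (X := X) (x := x) (U := ⊤) trivial
  have hx'W : x' ∈ W := h.mem_open W.2 hxW
  haveI : IsNoetherianRing Γ(X, W) := IsLocallyNoetherian.component_noetherian ⟨W, hW⟩
  let q : Ideal Γ(X, W) := (hW.primeIdealOf ⟨x, hxW⟩).asIdeal
  let q' : Ideal Γ(X, W) := (hW.primeIdealOf ⟨x', hx'W⟩).asIdeal
  have hemb : Topology.IsOpenEmbedding hW.fromSpec := hW.fromSpec.isOpenEmbedding
  have hle : q' ≤ q := by
    change hW.primeIdealOf ⟨x', hx'W⟩ ≤ hW.primeIdealOf ⟨x, hxW⟩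
    rw [PrimeSpectrum.le_iff_specializes]
    refine (hemb.toIsInducing.specializes_iff (x := hW.primeIdealOf ⟨x', hx'W⟩)
      (y := hW.primeIdealOf ⟨x, hxW⟩)).mp ?_
    rw [hW.fromSpec_primeIdealOf, hW.fromSpec_primeIdealOf]
    exact h
  have hneq : q' ≠ q := by
    intro heq
    apply hne
    have h1 : hW.primeIdealOf ⟨x', hx'W⟩ = hW.primeIdealOf ⟨x, hxW⟩ := PrimeSpectrum.ext heq
    have h2 := congrArg (fun z => hW.fromSpec z) h1
    simp only [hW.fromSpec_primeIdealOf] at h2
    exact h2
  have hlt : q' < q := lt_of_le_of_ne hle hneq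
  letI := X.presheaf.algebra_section_stalk (⟨x, hxW⟩ : W)
  letI := X.presheaf.algebra_section_stalk (⟨x', hx'W⟩ : W)
  haveI iq : IsLocalization.AtPrime (X.presheaf.stalk x) q := hW.isLocalization_stalk ⟨x, hxW⟩
  haveI iq' : IsLocalization.AtPrime (X.presheaf.stalk x') q' :=
    hW.isLocalization_stalk ⟨x', hx'W⟩
  rw [IsLocalization.AtPrime.ringKrullDim_eq_height q (X.presheaf.stalk x),
    IsLocalization.AtPrime.ringKrullDim_eq_height q' (X.presheaf.stalk x')]
  have h1 := Ideal.height_add_one_le_of_lt_of_isPrime hlt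
  have h2 : q.height ≠ ⊤ := Ideal.height_ne_top_of_isPrime
  have h3 : q'.height < q.height := by
    have h4 : q'.height ≠ ⊤ := Ideal.height_ne_top_of_isPrime
    exact lt_of_lt_of_le (ENat.lt_add_one_iff h4 |>.mpr le_rfl) h1
  exact_mod_cast h3


open IsLocalRing in
/-- If the maximal ideal of `B` is the only prime over `m_A B`, then `dim B ≤ dim A`. -/
theorem dim_le_of_fibre_zero (A B : Type u) [CommRing A] [CommRing B] [IsLocalRing A]
    [IsLocalRing B] [IsNoetherianRing A] [IsNoetherianRing B] [Algebra A B]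
    [IsLocalHom (algebraMap A B)]
    (hmin : ∀ q : Ideal B, q.IsPrime → (maximalIdeal A).map (algebraMap A B) ≤ q →
      q = maximalIdeal B) : ringKrullDim B ≤ ringKrullDim A := by
  haveI hlies : (maximalIdeal B).LiesOver (maximalIdeal A) :=
    ⟨(IsLocalRing.maximalIdeal_comap (algebraMap A B)).symm⟩
  have h := Ideal.height_le_height_add_of_liesOver (maximalIdeal A) (maximalIdeal B)
  set π := Ideal.Quotient.mk ((maximalIdeal A).map (algebraMap A B)) with hπ
  have hker : RingHom.ker π ≤ maximalIdeal B := by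
    rw [hπ, Ideal.mk_ker]
    exact Groth.Agent.Lib.Helper24.FlatDimFormula.map_le_maximalIdeal A B
  haveI hPprime : ((maximalIdeal B).map π).IsPrime :=
    Ideal.map_isPrime_of_surjective Ideal.Quotient.mk_surjective hker
  have hzero : ((maximalIdeal B).map π).height = 0 := by
    rw [Ideal.height_eq_zero_iff]
    refine ⟨⟨hPprime, bot_le⟩, ?_⟩
    rintro Q' ⟨hQ'prime, -⟩ -
    have hc : Q'.comap π = maximalIdeal B := by
      apply hmin _ (Ideal.comap_isPrime π Q')
      intro b hb
      rw [Ideal.mem_comap]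
      have : π b = 0 := Ideal.Quotient.eq_zero_iff_mem.mpr hb
      rw [this]; exact zero_mem _
    rw [← hc, Ideal.map_comap_of_surjective π Ideal.Quotient.mk_surjective]
  rw [hzero, add_zero] at h
  rw [← IsLocalRing.maximalIdeal_height_eq_ringKrullDim,
    ← IsLocalRing.maximalIdeal_height_eq_ringKrullDim]
  exact_mod_cast h


open AlgebraicGeometry CategoryTheory IsLocalRing in
/-- Every nonempty fibre contains a point `x` with `dim 𝒪_{X,x} ≤ dim 𝒪_{Y,f x}`. -/
theorem exists_dim_le {X Y : Scheme.{u}} (f : X ⟶ Y) [IsLocallyNoetherian X]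
    [IsLocallyNoetherian Y] (x0 : X) :
    ∃ x : X, f x = f x0 ∧
      ringKrullDim (X.presheaf.stalk x) ≤ ringKrullDim (Y.presheaf.stalk (f x)) := by
  obtain ⟨x, hxF, hmin⟩ := (InvImage.wf (fun x : X => ringKrullDim (X.presheaf.stalk x))
    wellFounded_lt).has_min {x : X | f x = f x0} ⟨x0, rfl⟩
  refine ⟨x, hxF, ?_⟩
  letI : Algebra (Y.presheaf.stalk (f x)) (X.presheaf.stalk x) := (f.stalkMap x).hom.toAlgebra
  haveI : IsLocalHom (algebraMap (Y.presheaf.stalk (f x)) (X.presheaf.stalk x)) :=
    inferInstanceAs (IsLocalHom (f.stalkMap x).hom)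
  apply dim_le_of_fibre_zero
  intro q hq hle
  let pt : ↥(Spec (X.presheaf.stalk x)) := ⟨q, hq⟩
  let xq : X := X.fromSpecStalk x pt
  have hcomap : q.comap (f.stalkMap x).hom = maximalIdeal (Y.presheaf.stalk (f x)) := by
    symm
    apply (maximalIdeal.isMaximal _).eq_of_le (Ideal.comap_ne_top _ hq.ne_top)
    exact Ideal.map_le_iff_le_comap.mp hle
  have hfxq : f xq = f x := by
    have h1 := Scheme.SpecMap_stalkMap_fromSpecStalk f (x := x)
    have h2 : Y.fromSpecStalk (f x) (Spec.map (f.stalkMap x) pt) = f (X.fromSpecStalk x pt) := by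
      rw [← Scheme.Hom.comp_apply, ← Scheme.Hom.comp_apply, h1]
    change f (X.fromSpecStalk x pt) = f x
    rw [← h2]
    have h3 : Spec.map (f.stalkMap x) pt = closedPoint (Y.presheaf.stalk (f x)) := by
      rw [Spec.map_apply]
      apply PrimeSpectrum.ext
      exact hcomap
    rw [h3, Scheme.fromSpecStalk_closedPoint]
  have hspec : xq ⤳ x := by
    have : xq ∈ Set.range (X.fromSpecStalk x) := ⟨_, rfl⟩
    rw [Scheme.range_fromSpecStalk] at this
    exact this
  have hxq : xq = x := by
    by_contra hne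
    exact hmin xq (hfxq.trans hxF) (dim_stalk_lt X x xq hspec hne)
  have hcl : X.fromSpecStalk x pt = X.fromSpecStalk x (closedPoint (X.presheaf.stalk x)) := by
    rw [Scheme.fromSpecStalk_closedPoint]
    exact hxq
  have := (X.fromSpecStalk x).isEmbedding.injective hcl
  exact congrArg PrimeSpectrum.asIdeal this

open AlgebraicGeometry CategoryTheory in
/-- Suppose X and Y are locally Noetherian schemes, f : X → Y is a morphism that is surjective, and Z is
a closed subset of Y. Then codim(f⁻¹(Z), X) ≤ codim(Z, Y), where the codimension of a closed subset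
means the infimum over its points of the dimensions of the local rings there; when f is in addition
flat, these two codimensions coincide. (In the published version the equality part assumes f
quasi-flat; here f is taken to be flat.) -/
theorem result {X Y : Scheme.{u}} (f : X ⟶ Y) [IsLocallyNoetherian X]
    [IsLocallyNoetherian Y] (hf : Function.Surjective f.base) (Z : Set Y) (hZ : IsClosed Z) :
    (⨅ x ∈ f.base ⁻¹' Z, ringKrullDim (X.presheaf.stalk x)) ≤ ⨅ y ∈ Z, ringKrullDim (Y.presheaf.stalk y) ∧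
      (Flat f → (⨅ x ∈ f.base ⁻¹' Z, ringKrullDim (X.presheaf.stalk x)) = ⨅ y ∈ Z, ringKrullDim (Y.presheaf.stalk y)) := by
  have hfirst : (⨅ x ∈ f.base ⁻¹' Z, ringKrullDim (X.presheaf.stalk x)) ≤
      ⨅ y ∈ Z, ringKrullDim (Y.presheaf.stalk y) := by
    refine le_iInf₂ fun y hy => ?_
    obtain ⟨x0, rfl⟩ := hf y
    obtain ⟨x, hx, hdim⟩ := exists_dim_le f x0
    have hxZ : x ∈ f.base ⁻¹' Z := by
      change f x ∈ Z
      rw [hx]
      exact hy
    refine (iInf₂_le x hxZ).trans ?_
    rw [hx] at hdim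
    exact hdim
  refine ⟨hfirst, fun hflat => le_antisymm hfirst ?_⟩
  refine le_iInf₂ fun x hx => ?_
  refine (iInf₂_le (f.base x) hx).trans ?_
  change ringKrullDim (Y.presheaf.stalk (f x)) ≤ ringKrullDim (X.presheaf.stalk x)
  letI : Algebra (Y.presheaf.stalk (f x)) (X.presheaf.stalk x) := (f.stalkMap x).hom.toAlgebra
  haveI : IsLocalHom (algebraMap (Y.presheaf.stalk (f x)) (X.presheaf.stalk x)) :=
    inferInstanceAs (IsLocalHom (f.stalkMap x).hom)
  haveI : Module.Flat (Y.presheaf.stalk (f x)) (X.presheaf.stalk x) := Flat.stalkMap f x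
  rw [Groth.Agent.Lib.Helper24.FlatDimFormula.ringKrullDim_eq_add_of_flat
    (Y.presheaf.stalk (f x)) (X.presheaf.stalk x)]
  haveI := Groth.Agent.Lib.Helper24.FlatDimFormula.isLocalRing_quotient
    (Y.presheaf.stalk (f x)) (X.presheaf.stalk x)
  exact le_add_of_nonneg_right ringKrullDim_nonneg_of_nontrivial

end Groth.Agent.S4741
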