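import Groth.Statements.S4742
import Groth.Agent.Lib.Helper24.CatEquidim
import Groth.Agent.Lib.Helper24.NagataReg
-- import your own Groth.Agent.* helpers here

set_option autoImplicit false
universe u
open EGA4

namespace Groth.Agent.S4742

open Groth.Agent.Lib.Helper24.CatEquidim in
/-- A minimal prime over `p + (t)` (with `t ∉ p`) covers `p` (Krull's principal ideal theorem). -/
theorem covBy_of_mem_minimalPrimes (A : Type u) [CommRing A] [IsNoetherianRing A]
    (p : Ideal A) [hp : p.IsPrime] (t : A) (ht : t ∉ p) (q : Ideal A)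
    (hq : q ∈ (p ⊔ Ideal.span {t}).minimalPrimes) :
    (⟨p, hp⟩ : PrimeSpectrum A) ⋖ ⟨q, hq.1.1⟩ := by
  haveI hqprime : q.IsPrime := hq.1.1
  have hpq : p ≤ q := le_sup_left.trans hq.1.2
  have htq : t ∈ q := hq.1.2 (Ideal.mem_sup_right (Ideal.mem_span_singleton_self t))
  have hlt : p < q := lt_of_le_of_ne hpq (fun h => ht (h ▸ htq))
  refine ⟨hlt, ?_⟩
  rintro ⟨r, hr⟩ hpr hrq
  have hpr' : p < r := hpr
  have hrq' : r < q := hrq
  let π := Ideal.Quotient.mk p
  have hπ : Function.Surjective π := Ideal.Quotient.mk_surjective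
  have hker : RingHom.ker π = p := Ideal.mk_ker
  have hht : (q.map π).height ≤ 1 := Ideal.map_height_le_one_of_mem_minimalPrimes hq
  haveI : (r.map π).IsPrime := Ideal.map_isPrime_of_surjective hπ (by rw [hker]; exact hpr'.le)
  haveI : (q.map π).IsPrime := Ideal.map_isPrime_of_surjective hπ (by rw [hker]; exact hpq)
  have hcm : ∀ J : Ideal A, p ≤ J → (J.map π).comap π = J := by
    intro J hJ
    rw [Ideal.comap_map_of_surjective π hπ, ← RingHom.ker_eq_comap_bot, hker, sup_eq_left.mpr hJ]
  have h1 : (⊥ : Ideal (A ⧸ p)) < r.map π := by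
    rw [bot_lt_iff_ne_bot]
    intro hbot
    have := hcm r hpr'.le
    rw [hbot, ← RingHom.ker_eq_comap_bot, hker] at this
    exact absurd this.symm (ne_of_gt hpr')
  have h2 : r.map π < q.map π := by
    refine lt_of_le_of_ne (Ideal.map_mono hrq'.le) ?_
    intro heq
    have := congrArg (Ideal.comap π) heq
    rw [hcm r hpr'.le, hcm q hpq] at this
    exact absurd this (ne_of_lt hrq')
  haveI : IsDomain (A ⧸ p) := Ideal.Quotient.isDomain p
  haveI : (⊥ : Ideal (A ⧸ p)).IsPrime := Ideal.isPrime_bot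
  have h3 := Ideal.height_add_one_le_of_lt_of_isPrime h1
  have h4 := Ideal.height_add_one_le_of_lt_of_isPrime h2
  have h5 : (1 : ℕ∞) + 1 ≤ (q.map π).height := by
    refine le_trans ?_ h4
    gcongr
    refine le_trans ?_ h3
    simp
  exact absurd (h5.trans hht) (by decide)

open Groth.Agent.Lib.Helper24.CatEquidim in
/-- For a prime `p'` containing `t`: `ht(p'/t) + dim A/p' + 1 ≤ dim A/t + 1`. -/
theorem height_quot_add_le (A : Type u) [CommRing A] (t : A) (p' : Ideal A) [hp' : p'.IsPrime]
    (htp' : t ∈ p') :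
    (((p'.map (Ideal.Quotient.mk (Ideal.span {t}))).height : ℕ∞) : WithBot ℕ∞) +
      ringKrullDim (A ⧸ p') ≤ ringKrullDim (A ⧸ Ideal.span {t}) := by
  have hle : Ideal.span {t} ≤ p' := by
    rw [Ideal.span_singleton_le_iff_mem]; exact htp'
  haveI : (p'.map (Ideal.Quotient.mk (Ideal.span {t}))).IsPrime :=
    Ideal.map_isPrime_of_surjective Ideal.Quotient.mk_surjective (by rw [Ideal.mk_ker]; exact hle)
  have h := Groth.Agent.Lib.Helper24.NagataReg.height_add_ringKrullDim_quotient_le
    (A ⧸ Ideal.span {t}) (p'.map (Ideal.Quotient.mk (Ideal.span {t})))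
  rwa [ringKrullDim_eq_of_ringEquiv (DoubleQuot.quotQuotEquivQuotOfLE hle)] at h

/-- Let A be a Noetherian local ring which is equidimensional and catenary, t an element of A belonging
to a system of parameters (dim A/tA + 1 = dim A), and Z a set of prime ideals of A stable under
specialization. Write X = Spec A, X₀ = V(t), X₁ = X ∖ X₀ and Z₀ = Z ∩ X₀, Z₁ = Z ∩ X₁. Then
codim(Z₀, X₀) ≤ codim(Z, X) ≤ codim(Z₁, X₁), where each codimension is the infimum of the heights of
the primes concerned, heights for Z₀ being taken in A/tA. -/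
theorem result (A : Type u) [CommRing A] [IsNoetherianRing A] [IsLocalRing A]
    (hA : EGA4.IsEquidim A) (hA' : CAlg.IsCatenary A) (t : A)
    (ht : ringKrullDim (A ⧸ Ideal.span {t}) + 1 = ringKrullDim A) (Z : Set (PrimeSpectrum A))
    (hZ : StableUnderSpecialization Z) :
    (⨅ p ∈ {p ∈ Z | t ∈ p.asIdeal}, (p.asIdeal.map (Ideal.Quotient.mk (Ideal.span {t}))).height) ≤
        ⨅ p ∈ Z, p.asIdeal.height ∧
      (⨅ p ∈ Z, p.asIdeal.height) ≤ ⨅ p ∈ {p ∈ Z | t ∉ p.asIdeal}, p.asIdeal.height := by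
  refine ⟨?_, le_iInf₂ fun p hp => iInf₂_le p hp.1⟩
  refine le_iInf₂ fun p hp => ?_
  -- dimension formula at p
  have hform := Groth.Agent.Lib.Helper24.CatEquidim.height_add_dim_quotient_eq A hA' hA p.asIdeal
  have hcp := Groth.Agent.Lib.Helper24.CatEquidim.coheight_eq_ringKrullDim_quotient p
  have hcfin : Order.coheight p ≠ ⊤ := (Order.coheight_lt_top p).ne
  by_cases htp : t ∈ p.asIdeal
  · refine (iInf₂_le p ⟨hp, htp⟩).trans ?_
    have h1 := height_quot_add_le A t p.asIdeal htp
    -- X + c + 1 ≤ dim A/t + 1 = dim A = h + c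
    have h2 : (((p.asIdeal.map (Ideal.Quotient.mk (Ideal.span {t}))).height : ℕ∞) : WithBot ℕ∞) +
        ringKrullDim (A ⧸ p.asIdeal) + 1 ≤
        ((p.asIdeal.height : ℕ∞) : WithBot ℕ∞) + ringKrullDim (A ⧸ p.asIdeal) := by
      rw [hform, ← ht]
      gcongr
    rw [← hcp] at h2
    have h3 : (p.asIdeal.map (Ideal.Quotient.mk (Ideal.span {t}))).height + Order.coheight p + 1 ≤
        p.asIdeal.height + Order.coheight p := by exact_mod_cast h2
    rw [add_assoc, add_comm (Order.coheight p) 1, ← add_assoc,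
      ENat.add_le_add_iff_right hcfin] at h3
    exact le_trans le_self_add h3
  · -- take q minimal over p + (t)
    have hne : p.asIdeal ⊔ Ideal.span {t} ≠ ⊤ := by
      intro htop
      have hle : p.asIdeal ⊔ Ideal.span {t} ≤ IsLocalRing.maximalIdeal A := by
        refine sup_le (IsLocalRing.le_maximalIdeal p.isPrime.ne_top) ?_
        rw [Ideal.span_singleton_le_iff_mem, IsLocalRing.mem_maximalIdeal, mem_nonunits_iff]
        intro hu
        -- t unit ⇒ A/tA trivial ⇒ dim = ⊥, contradiction with ht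
        have htriv : Ideal.span {t} = ⊤ := Ideal.span_singleton_eq_top.mpr hu
        haveI : Subsingleton (A ⧸ Ideal.span {t}) := by
          rw [htriv]; exact Ideal.Quotient.subsingleton_iff.mpr rfl
        rw [ringKrullDim_eq_bot_of_subsingleton, WithBot.bot_add] at ht
        exact absurd ht.symm ringKrullDim_ne_bot
      rw [htop] at hle
      exact (IsLocalRing.maximalIdeal.isMaximal A).ne_top (top_le_iff.mp hle)
    obtain ⟨q, hq⟩ := Ideal.nonempty_minimalPrimes hne
    haveI hqprime : q.IsPrime := hq.1.1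
    have htq : t ∈ q := hq.1.2 (Ideal.mem_sup_right (Ideal.mem_span_singleton_self t))
    have hcov := covBy_of_mem_minimalPrimes A p.asIdeal t htp q hq
    have hqZ : (⟨q, hqprime⟩ : PrimeSpectrum A) ∈ Z := by
      refine hZ ?_ hp
      rw [← PrimeSpectrum.le_iff_specializes]
      exact hcov.lt.le
    refine (iInf₂_le (⟨q, hqprime⟩ : PrimeSpectrum A) ⟨hqZ, htq⟩).trans ?_
    have hcoh : Order.coheight p = Order.coheight (⟨q, hqprime⟩ : PrimeSpectrum A) + 1 :=
      Groth.Agent.Lib.Helper24.CatEquidim.coheight_covBy hA' hcov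
    have hcq := Groth.Agent.Lib.Helper24.CatEquidim.coheight_eq_ringKrullDim_quotient
      (⟨q, hqprime⟩ : PrimeSpectrum A)
    have hcqfin : Order.coheight (⟨q, hqprime⟩ : PrimeSpectrum A) + 1 ≠ ⊤ := by
      rw [← hcoh]; exact hcfin
    have h1 := height_quot_add_le A t q htq
    have h2 : (((q.map (Ideal.Quotient.mk (Ideal.span {t}))).height : ℕ∞) : WithBot ℕ∞) +
        ringKrullDim (A ⧸ q) + 1 ≤
        ((p.asIdeal.height : ℕ∞) : WithBot ℕ∞) + ringKrullDim (A ⧸ p.asIdeal) := by
      rw [hform, ← ht]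
      gcongr
    rw [← hcp, ← hcq, hcoh] at h2
    have h3 : (q.map (Ideal.Quotient.mk (Ideal.span {t}))).height +
        Order.coheight (⟨q, hqprime⟩ : PrimeSpectrum A) + 1 ≤
        p.asIdeal.height + (Order.coheight (⟨q, hqprime⟩ : PrimeSpectrum A) + 1) := by
      exact_mod_cast h2
    rw [add_assoc, ENat.add_le_add_iff_right hcqfin] at h3
    exact h3

end Groth.Agent.S4742
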