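import Groth.Statements.S4744
import Groth.Agent.Lib.Helper24.CplFlat
import Groth.Agent.Lib.Helper24.FlatDepth7
import Groth.Agent.Lib.Helper24.CMDescent
import Groth.Agent.Lib.Helper24.FibreFF
import Groth.Agent.Lib.Helper24.FibLoc
-- import your own Groth.Agent.* helpers here

set_option autoImplicit false
universe u
open EGA4

namespace Groth.Agent.S4744

open Groth.Agent.Lib.helper26.Depth in
/-- A regular ring is Cohen–Macaulay. -/
theorem cm_of_isRegularRing (R : Type u) [CommRing R] [IsRegularRing R] :
    LocCoh.IsCohenMacaulayRing R :=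
  { isCohenMacaulayLocalRing_localization := fun p _ =>
      { supportDim_eq_depth := by
          rw [Module.supportDim_self_eq_ringKrullDim]
          exact (depth_eq_ringKrullDim_of_isRegularLocalRing _).symm } }

/-- The fibres of a regular homomorphism are Cohen–Macaulay. -/
theorem cm_fiber_of_isRegularHom (B C : Type u) [CommRing B] [CommRing C] [Algebra B C]
    (h : CAlg.IsRegularHom B C) (q : Ideal B) [q.IsPrime] :
    LocCoh.IsCohenMacaulayRing (q.Fiber C) := by
  haveI : IsRegularRing (q.Fiber C) :=
    Groth.Agent.Lib.Helper24.FibLoc.locStable_isRegularRing.iso _ _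
      (Algebra.TensorProduct.lid q.ResidueField (q.Fiber C)).toRingEquiv
      ((h.2 q).2 q.ResidueField (Module.Finite.self _))
  exact cm_of_isRegularRing _

/-- Let A → A' be a flat local homomorphism of Noetherian local rings all of whose fibre rings k(p) ⊗_A
A' are Cohen–Macaulay. If the completion map of A' is regular (the formal fibres of A' are
geometrically regular), then the formal fibres of A are Cohen–Macaulay. -/
theorem result (A A' : Type u) [CommRing A] [CommRing A'] [IsNoetherianRing A]
    [IsNoetherianRing A'] [IsLocalRing A] [IsLocalRing A'] [Algebra A A'] [IsLocalHom (algebraMap A A')]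
    [Module.Flat A A'] (hf : ∀ (p : Ideal A) [p.IsPrime], LocCoh.IsCohenMacaulayRing (p.Fiber A'))
    (hA' : CAlg.IsRegularHom A' (EGA4.Cpl A')) : EGA4.HasCMFormalFibres A := by
  intro p hp
  haveI hN : IsNoetherianRing (AdicCompletion (IsLocalRing.maximalIdeal A) A) :=
    Groth.Agent.S0542.result A _ (IsLocalRing.maximalIdeal A).fg_of_isNoetherianRing
  haveI hN' : IsNoetherianRing (AdicCompletion (IsLocalRing.maximalIdeal A') A') :=
    Groth.Agent.S0542.result A' _ (IsLocalRing.maximalIdeal A').fg_of_isNoetherianRing
  letI : Algebra (AdicCompletion (IsLocalRing.maximalIdeal A) A)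
      (AdicCompletion (IsLocalRing.maximalIdeal A') A') :=
    (Groth.Agent.Lib.Helper24.CplFlat.cplMap A A').toAlgebra
  haveI : IsScalarTower A (AdicCompletion (IsLocalRing.maximalIdeal A) A)
      (AdicCompletion (IsLocalRing.maximalIdeal A') A') :=
    IsScalarTower.of_algebraMap_eq'
      (Groth.Agent.Lib.Helper24.CplFlat.cplMap_comp_algebraMap A A').symm
  haveI hff : Module.FaithfullyFlat (AdicCompletion (IsLocalRing.maximalIdeal A) A)
      (AdicCompletion (IsLocalRing.maximalIdeal A') A') :=
    Groth.Agent.Lib.Helper24.CplFlat.faithfullyFlat_cplMap A A'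
  haveI : Module.Flat A' (AdicCompletion (IsLocalRing.maximalIdeal A') A') := hA'.1
  -- the composite `A → A' → Â'` has Cohen–Macaulay fibres
  haveI hC : LocCoh.IsCohenMacaulayRing
      (p.Fiber (AdicCompletion (IsLocalRing.maximalIdeal A') A')) :=
    Groth.Agent.Lib.Helper24.FlatDepth.cm_fiber_comp A A'
      (AdicCompletion (IsLocalRing.maximalIdeal A') A') p (hf p)
      (fun q _ => cm_fiber_of_isRegularHom A' _ hA' q)
  exact Groth.Agent.Lib.Helper24.CMDescent.isCohenMacaulayRing_of_faithfullyFlat_ringHom _
    (Groth.Agent.Lib.Helper24.FibreFF.faithfullyFlat_map_left A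
      (AdicCompletion (IsLocalRing.maximalIdeal A) A)
      (AdicCompletion (IsLocalRing.maximalIdeal A') A') p.ResidueField)

end Groth.Agent.S4744
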