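import Groth.Statements.S4748
import Groth.Agent.Lib.Helper24.GeomSep1

set_option autoImplicit false
universe u
open EGA4

namespace Groth.Agent.S4748

open TensorProduct in
theorem part2 (k S k' : Type u) [Field k] [CommRing S] [Algebra k S] [Field k'] [Algebra k k']
    [Algebra.IsGeometricallyReduced k k'] (q' : Ideal (S ⊗[k] k')) [q'.IsPrime]
    (hn : IsDomain (Localization.AtPrime (q'.comap (algebraMap S (S ⊗[k] k')))) ∧
      IsIntegrallyClosed (Localization.AtPrime (q'.comap (algebraMap S (S ⊗[k] k'))))) :
    IsDomain (Localization.AtPrime q') ∧ IsIntegrallyClosed (Localization.AtPrime q') := by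
  obtain ⟨hd, hic⟩ := hn
  have hSq : EGA4.IsNormalRing (Localization.AtPrime (q'.comap (algebraMap S (S ⊗[k] k')))) :=
    Groth.Agent.Lib.Helper24.NormalAscent.isNormalRing_of_isIntegrallyClosed _
  have h1 : EGA4.IsNormalRing (k' ⊗[k] Localization.AtPrime (q'.comap (algebraMap S (S ⊗[k] k')))) :=
    fun r hr => Groth.Agent.Lib.Helper24.GeomSep.isNormal_tensor_of_separable k k' _ hSq r
  have h2 : EGA4.IsNormalRing (Localization.AtPrime (q'.comap (algebraMap S (S ⊗[k] k'))) ⊗[k] k') :=
    Groth.Agent.Lib.Helper24.GeomFG.geomStable_isNormal.iso _ _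
      (Algebra.TensorProduct.comm k k' _).toRingEquiv h1
  letI alg : Algebra (S ⊗[k] k')
      (Localization.AtPrime (q'.comap (algebraMap S (S ⊗[k] k'))) ⊗[k] k') :=
    (Algebra.TensorProduct.map (IsScalarTower.toAlgHom k S
      (Localization.AtPrime (q'.comap (algebraMap S (S ⊗[k] k'))))) (AlgHom.id k k')).toRingHom.toAlgebra
  haveI tow : IsScalarTower S (S ⊗[k] k')
      (Localization.AtPrime (q'.comap (algebraMap S (S ⊗[k] k'))) ⊗[k] k') :=
    IsScalarTower.of_algebraMap_eq fun b => by
      rw [RingHom.algebraMap_toAlgebra]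
      simp [Algebra.TensorProduct.algebraMap_apply]
  have H : (algebraMap (S ⊗[k] k')
      (Localization.AtPrime (q'.comap (algebraMap S (S ⊗[k] k'))) ⊗[k] k')).comp
      (Algebra.TensorProduct.includeRight : k' →ₐ[k] S ⊗[k] k').toRingHom =
      (Algebra.TensorProduct.includeRight : k' →ₐ[k]
        Localization.AtPrime (q'.comap (algebraMap S (S ⊗[k] k'))) ⊗[k] k').toRingHom := by
    ext t
    rw [RingHom.algebraMap_toAlgebra]
    simp
  haveI hloc := IsLocalization.tensorProduct_tensorProduct k k'
    (q'.comap (algebraMap S (S ⊗[k] k'))).primeCompl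
    (Localization.AtPrime (q'.comap (algebraMap S (S ⊗[k] k')))) H
  have hle : Algebra.algebraMapSubmonoid (S ⊗[k] k')
      (q'.comap (algebraMap S (S ⊗[k] k'))).primeCompl ≤ q'.primeCompl := by
    rintro _ ⟨s, hs, rfl⟩
    exact hs
  letI : Algebra (Localization.AtPrime (q'.comap (algebraMap S (S ⊗[k] k'))) ⊗[k] k')
      (Localization.AtPrime q') :=
    IsLocalization.localizationAlgebraOfSubmonoidLe _ (Localization.AtPrime q')
      (Algebra.algebraMapSubmonoid (S ⊗[k] k') (q'.comap (algebraMap S (S ⊗[k] k'))).primeCompl)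
      q'.primeCompl hle
  haveI : IsScalarTower (S ⊗[k] k')
      (Localization.AtPrime (q'.comap (algebraMap S (S ⊗[k] k'))) ⊗[k] k')
      (Localization.AtPrime q') :=
    IsLocalization.localization_isScalarTower_of_submonoid_le _ (Localization.AtPrime q')
      (Algebra.algebraMapSubmonoid (S ⊗[k] k') (q'.comap (algebraMap S (S ⊗[k] k'))).primeCompl)
      q'.primeCompl hle
  haveI hlocT := IsLocalization.isLocalization_of_submonoid_le
    (Localization.AtPrime (q'.comap (algebraMap S (S ⊗[k] k'))) ⊗[k] k') (Localization.AtPrime q')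
    (Algebra.algebraMapSubmonoid (S ⊗[k] k') (q'.comap (algebraMap S (S ⊗[k] k'))).primeCompl)
    q'.primeCompl hle
  have h3 := Groth.Agent.Lib.Helper24.GeomFG.locStable_isNormal.loc
    (Localization.AtPrime (q'.comap (algebraMap S (S ⊗[k] k'))) ⊗[k] k') (Localization.AtPrime q')
    (q'.primeCompl.map (algebraMap (S ⊗[k] k')
      (Localization.AtPrime (q'.comap (algebraMap S (S ⊗[k] k'))) ⊗[k] k'))) h2
  exact Groth.Agent.Lib.Helper24.GeomSep.normal_of_local _ h3


open TensorProduct in
/-- For the property 'normal' (affine form): let k be a field, S a Noetherian k-algebra and k' an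
extension field of k such that S is of finite type over k or k' is essentially of finite type over
k; let q' be a prime of S ⊗_k k' and q its contraction to S. If (S ⊗_k k')_{q'} is an integrally
closed domain then so is S_q; conversely, if k' is separable over k (geometrically reduced) and S_q
is an integrally closed domain, then so is (S ⊗_k k')_{q'}. -/
theorem result (k S k' : Type u) [Field k] [CommRing S] [Algebra k S]
    [IsNoetherianRing S] [Field k'] [Algebra k k'] (hft : Algebra.FiniteType k S ∨ Algebra.EssFiniteType k k')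
    [IsNoetherianRing (S ⊗[k] k')] (q' : Ideal (S ⊗[k] k')) [q'.IsPrime] :
    ((IsDomain (Localization.AtPrime q') ∧ IsIntegrallyClosed (Localization.AtPrime q')) →
        (IsDomain (Localization.AtPrime (q'.comap (algebraMap S (S ⊗[k] k')))) ∧
          IsIntegrallyClosed (Localization.AtPrime (q'.comap (algebraMap S (S ⊗[k] k')))))) ∧
      (Algebra.IsGeometricallyReduced k k' →
        (IsDomain (Localization.AtPrime (q'.comap (algebraMap S (S ⊗[k] k')))) ∧
          IsIntegrallyClosed (Localization.AtPrime (q'.comap (algebraMap S (S ⊗[k] k'))))) →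
          (IsDomain (Localization.AtPrime q') ∧ IsIntegrallyClosed (Localization.AtPrime q'))) := by
  refine ⟨fun h => ?_, fun hsep hn => ?_⟩
  · exact Groth.Agent.Lib.Helper24.GeomSep.normal_descent_local S (S ⊗[k] k') q' h
  · haveI := hsep
    exact part2 k S k' q' hn

end Groth.Agent.S4748
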