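import Groth.Statements.S4752
import Groth.Agent.Lib.Helper24.HomComp
import Groth.Agent.Lib.Helper24.ReducedAscent
import Groth.Agent.Lib.Helper24.GeomReducedFinite
-- import your own Groth.Agent.* helpers here

set_option autoImplicit false
universe u
open EGA4

namespace Groth.Agent.S4752

/-- Case of reduced morphisms, affine form: let A → B → C be homomorphisms of Noetherian rings, both
flat and with geometrically reduced fibres. Then the composite A → C is flat with geometrically
reduced fibres. -/
theorem result (A B C : Type u) [CommRing A] [CommRing B] [CommRing C] [IsNoetherianRing A]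
    [IsNoetherianRing B] [IsNoetherianRing C] [Algebra A B] [Algebra B C] [Algebra A C] [IsScalarTower A B C]
    [Module.Flat A B] [Module.Flat B C]
    (hAB : ∀ (p : Ideal A) [p.IsPrime], Algebra.IsGeometricallyReduced p.ResidueField (p.Fiber B))
    (hBC : ∀ (q : Ideal B) [q.IsPrime], Algebra.IsGeometricallyReduced q.ResidueField (q.Fiber C)) :
    Module.Flat A C ∧ ∀ (p : Ideal A) [p.IsPrime], Algebra.IsGeometricallyReduced p.ResidueField (p.Fiber C) := by
  refine ⟨Module.Flat.trans A B C, fun p hp => ?_⟩
  apply Groth.Agent.Lib.Helper24.GeomReducedFinite.isGeometricallyReduced_of_forall_finite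
  intro K _ _ hfin
  haveI := hfin
  haveI : IsNoetherianRing (p.Fiber B) :=
    Groth.Agent.Lib.Helper24.HensFibre.isNoetherianRing_fibre A B p
  haveI : IsNoetherianRing (p.Fiber C) :=
    Groth.Agent.Lib.Helper24.HensFibre.isNoetherianRing_fibre A C p
  haveI : IsNoetherianRing (TensorProduct p.ResidueField K (p.Fiber B)) :=
    Groth.Agent.Lib.Helper24.HomComp.isNoetherianRing_tensor_of_finite _ _ _
  haveI : IsNoetherianRing (TensorProduct p.ResidueField K (p.Fiber C)) :=
    Groth.Agent.Lib.Helper24.HomComp.isNoetherianRing_tensor_of_finite _ _ _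
  haveI := hAB p
  have h1 : IsReduced (TensorProduct p.ResidueField K (p.Fiber B)) := inferInstance
  exact Groth.Agent.Lib.Helper24.HomComp.comp_fibre A B C
    (P := fun R _ => IsReduced R)
    (fun R R' _ _ e h => by
      haveI := h
      exact isReduced_of_injective e.symm e.symm.injective)
    (fun R S _ _ _ _ _ _ hR hF => by
      haveI := hR
      exact Groth.Agent.Lib.Helper24.ReducedAscent.isReduced_of_flat_of_fibres R S hF)
    p K h1 (fun q _ L _ _ hL => by
      haveI := hBC q
      haveI := hL
      infer_instance)

end Groth.Agent.S4752
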