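import Groth.Statements.S4753
import Groth.Agent.Lib.Helper24.FFComp
-- import your own Groth.Agent.* helpers here

set_option autoImplicit false
universe u
open EGA4

namespace Groth.Agent.S4753

/-- Case of reduced morphisms, affine form: let A → B → C be homomorphisms of Noetherian rings such that
B → C is faithfully flat with geometrically reduced fibres and the composite A → C is flat with
geometrically reduced fibres. Then A → B is flat with geometrically reduced fibres. -/
theorem result (A B C : Type u) [CommRing A] [CommRing B] [CommRing C]
    [IsNoetherianRing A] [IsNoetherianRing B] [IsNoetherianRing C] [Algebra A B] [Algebra B C] [Algebra A C]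
    [IsScalarTower A B C] [Module.FaithfullyFlat B C] [Module.Flat A C]
    (hBC : ∀ (q : Ideal B) [q.IsPrime], Algebra.IsGeometricallyReduced q.ResidueField (q.Fiber C))
    (hAC : ∀ (p : Ideal A) [p.IsPrime], Algebra.IsGeometricallyReduced p.ResidueField (p.Fiber C)) :
    Module.Flat A B ∧ ∀ (p : Ideal A) [p.IsPrime], Algebra.IsGeometricallyReduced p.ResidueField (p.Fiber B) := by
  refine ⟨Groth.Agent.Lib.Helper24.FFComp.flat_of_flat_comp A B C, fun p hp => ?_⟩
  haveI := hAC p
  let f : p.Fiber B →ₐ[p.ResidueField] p.Fiber C :=
    Algebra.TensorProduct.map (AlgHom.id p.ResidueField p.ResidueField)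
      (IsScalarTower.toAlgHom A B C)
  have hf : Function.Injective f := by
    have h1 := Groth.Agent.Lib.Helper24.FFComp.lTensor_injective A B C p.ResidueField
    have h2 : ∀ z : p.Fiber B, f z = LinearMap.lTensor p.ResidueField
        (IsScalarTower.toAlgHom A B C).toLinearMap z := by
      intro z
      induction z using TensorProduct.induction_on with
      | zero => simp
      | tmul n b => simp [f]
      | add x y hx hy => simp only [map_add, hx, hy]
    intro x y hxy
    apply h1
    rw [← h2, ← h2, hxy]
  exact Algebra.IsGeometricallyReduced.of_injective f hf

end Groth.Agent.S4753
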