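import Groth.Statements.S4760
import Groth.Agent.Lib.Helper25.ConstrCompact

set_option autoImplicit false
universe u
open CategoryTheory AlgebraicGeometry
open Lim8

namespace Groth.Agent.S4760

/-- Let S = lim S_i be a cofiltered limit of schemes with affine transition maps, some stage S_{i₀}
being quasi-compact and quasi-separated. Then every subset Z of S that is both locally closed and
constructible is the preimage under the projection S ⟶ S_i of a locally closed constructible subset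
of S_i, for some index i over i₀. -/
theorem result {I : Type u} [SmallCategory I] [IsCofiltered I]
    (D : I ⥤ Scheme.{u}) (c : Limits.Cone D) (hc : Limits.IsLimit c)
    [∀ (i j : I) (f : i ⟶ j), IsAffineHom (D.map f)] (i₀ : I)
    [CompactSpace (D.obj i₀)] [QuasiSeparatedSpace (D.obj i₀)] (Z : Set c.pt)
    (hZ : Topology.IsConstructible Z) (hZ' : IsLocallyClosed Z) :
    ∃ (i : I) (_ : i ⟶ i₀) (Zi : Set (D.obj i)),
      Topology.IsConstructible Zi ∧ IsLocallyClosed Zi ∧ (⇑(c.π.app i) ⁻¹' Zi : Set c.pt) = Z := by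
  classical
  have inst : ∀ {i j : I} (f : i ⟶ j), IsAffineHom (D.map f) := fun {i j} f => inferInstance
  have haff : ∀ i, IsAffineHom (c.π.app i) := fun i => isAffineHom_π_app D c hc i
  have : CompactSpace c.pt := QuasiCompact.compactSpace_of_compactSpace (c.π.app i₀)
  have : QuasiSeparatedSpace c.pt := quasiSeparatedSpace_of_quasiSeparated (c.π.app i₀)
  have hqs : ∀ (i : I) (_ : i ⟶ i₀), QuasiSeparatedSpace (D.obj i) :=
    fun i φ => quasiSeparatedSpace_of_quasiSeparated (D.map φ)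
  have hZcpt : IsCompact Z := Groth.Agent.Lib.helper25.isCompact_of_isConstructible hZ
  obtain ⟨O, F, hO, hF, rfl⟩ := hZ'
  -- compact open W with O ∩ F ⊆ W ⊆ O
  have hnb : ∀ x (hx : x ∈ O ∩ F), ∃ B : c.pt.Opens, IsAffineOpen B ∧ x ∈ B ∧ (B : Set c.pt) ⊆ O := by
    intro x hx
    obtain ⟨B, hB, hxB, hBO⟩ := TopologicalSpace.Opens.isBasis_iff_nbhd.mp
      c.pt.isBasis_affineOpens (U := ⟨O, hO⟩) hx.1
    exact ⟨B, hB, hxB, hBO⟩
  choose B hBaff hxB hBO using hnb
  obtain ⟨t, ht⟩ := hZcpt.elim_nhds_subcover' (fun x hx => (B x hx : Set c.pt))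
    (fun x hx => (B x hx).2.mem_nhds (hxB x hx))
  set W : Set c.pt := ⋃ x ∈ t, (B (x : (O ∩ F : Set c.pt)) x.2 : Set c.pt) with hW
  have hWo : IsOpen W := isOpen_biUnion fun x _ => (B x.1 x.2).2
  have hWc : IsCompact W := t.isCompact_biUnion fun x _ => (hBaff x.1 x.2).isCompact
  have hWO : W ⊆ O := Set.iUnion₂_subset fun x _ => hBO x.1 x.2
  -- W' = W \ F
  have hW'o : IsOpen (W \ F) := hWo.sdiff hF
  have hW'eq : W \ F = W \ (O ∩ F) := by
    ext x
    constructor
    · rintro ⟨h1, h2⟩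
      exact ⟨h1, fun h => h2 h.2⟩
    · rintro ⟨h1, h2⟩
      exact ⟨h1, fun h => h2 ⟨hWO h1, h⟩⟩
  have hW'constr : Topology.IsConstructible (W \ F) := by
    rw [hW'eq]
    exact (hWc.isConstructible hWo).sdiff hZ
  have hW'c : IsCompact (W \ F) := Groth.Agent.Lib.helper25.isCompact_of_isConstructible hW'constr
  have hZeq : O ∩ F = W \ (W \ F) := by
    ext x
    constructor
    · intro hx
      exact ⟨ht hx, fun h => h.2 hx.2⟩
    · rintro ⟨h1, h2⟩
      refine ⟨hWO h1, ?_⟩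
      by_contra hxF
      exact h2 ⟨h1, hxF⟩
  -- descend W and W'
  obtain ⟨i, V, hV, hVW⟩ := exists_preimage_eq D c hc ⟨W, hWo⟩ hWc
  obtain ⟨i', V', hV', hVW'⟩ := exists_preimage_eq D c hc ⟨W \ F, hW'o⟩ hW'c
  -- common stage
  let k₁ := IsCofiltered.min i i'
  let k := IsCofiltered.min k₁ i₀
  let a : k ⟶ i := IsCofiltered.minToLeft k₁ i₀ ≫ IsCofiltered.minToLeft i i'
  let b : k ⟶ i' := IsCofiltered.minToLeft k₁ i₀ ≫ IsCofiltered.minToRight i i'
  let e : k ⟶ i₀ := IsCofiltered.minToRight k₁ i₀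
  have := hqs k e
  have hVa : IsCompact ((D.map a) ⁻¹' (V : Set (D.obj i))) :=
    QuasiCompact.isCompact_preimage (f := D.map a) _ V.2 hV
  have hVb : IsCompact ((D.map b) ⁻¹' (V' : Set (D.obj i'))) :=
    QuasiCompact.isCompact_preimage (f := D.map b) _ V'.2 hV'
  have hVao : IsOpen ((D.map a) ⁻¹' (V : Set (D.obj i))) := V.2.preimage (D.map a).continuous
  have hVbo : IsOpen ((D.map b) ⁻¹' (V' : Set (D.obj i'))) := V'.2.preimage (D.map b).continuous
  refine ⟨k, e, (D.map a) ⁻¹' (V : Set (D.obj i)) \ (D.map b) ⁻¹' (V' : Set (D.obj i')),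
    (hVa.isConstructible hVao).sdiff (hVb.isConstructible hVbo), ?_, ?_⟩
  · exact ⟨_, _, hVao, hVbo.isClosed_compl, rfl⟩
  · have h1 : c.π.app k ≫ D.map a = c.π.app i := c.w _
    have h2 : c.π.app k ≫ D.map b = c.π.app i' := c.w _
    have h3 : (⇑(c.π.app i) ⁻¹' (V : Set (D.obj i)) : Set c.pt) = W :=
      congrArg (fun U : c.pt.Opens => (U : Set c.pt)) hVW
    have h4 : (⇑(c.π.app i') ⁻¹' (V' : Set (D.obj i')) : Set c.pt) = W \ F :=
      congrArg (fun U : c.pt.Opens => (U : Set c.pt)) hVW'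
    rw [hZeq, ← h4, ← h3, ← h1, ← h2]
    rfl

end Groth.Agent.S4760
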