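import Groth.Statements.S4765
-- import your own Groth.Agent.* helpers here
import Mathlib.AlgebraicGeometry.AffineTransitionLimit

set_option autoImplicit false
universe u
open CategoryTheory AlgebraicGeometry
open Lim8

namespace Groth.Agent.S4765

/-- Let S = lim S_i be a cofiltered limit of schemes with affine transition maps and let i be an index
such that the projection S ⟶ S_j is surjective for every j over i. Then the projection S ⟶ S_i is an
open map if and only if every transition map S_j ⟶ S_i is an open map. This is the case of open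
morphisms. -/
theorem result {I : Type u} [SmallCategory I] [IsCofiltered I]
    (D : I ⥤ Scheme.{u}) (c : Limits.Cone D) (hc : Limits.IsLimit c)
    [∀ (i j : I) (f : i ⟶ j), IsAffineHom (D.map f)] (i : I)
    (hs : ∀ (j : I) (φ : j ⟶ i), Surjective (c.π.app j)) :
    IsOpenMap ⇑(c.π.app i) ↔ ∀ (j : I) (φ : j ⟶ i), IsOpenMap ⇑(D.map φ) := by
  have hD : ∀ {i j : I} (f : i ⟶ j), IsAffineHom (D.map f) := fun f => inferInstance
  constructor
  · intro h j φ U hU
    have hsj : Function.Surjective ⇑(c.π.app j) := (hs j φ).surj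
    have e : ⇑(D.map φ) '' U = ⇑(c.π.app i) '' (⇑(c.π.app j) ⁻¹' U) := by
      ext y
      constructor
      · rintro ⟨u, hu, rfl⟩
        obtain ⟨s, rfl⟩ := hsj u
        refine ⟨s, hu, ?_⟩
        rw [← Scheme.Hom.comp_apply, c.w φ]
      · rintro ⟨s, hsU, rfl⟩
        refine ⟨c.π.app j s, hsU, ?_⟩
        rw [← Scheme.Hom.comp_apply, c.w φ]
    rw [e]
    exact h _ (hU.preimage (c.π.app j).continuous)
  · intro h U hU
    rw [isOpen_iff_forall_mem_open]
    rintro _ ⟨x, hxU, rfl⟩
    obtain ⟨_, ⟨j, V, hV, rfl⟩, hxV, hVU⟩ := TopologicalSpace.Opens.isBasis_iff_nbhd.mp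
      (isBasis_preimage_isAffineOpen D c hc) (U := ⟨U, hU⟩) hxU
    let j' : I := IsCofiltered.min j i
    let a : j' ⟶ j := IsCofiltered.minToLeft j i
    let b : j' ⟶ i := IsCofiltered.minToRight j i
    have hsj : Function.Surjective ⇑(c.π.app j') := (hs j' b).surj
    let V' : (D.obj j').Opens := D.map a ⁻¹ᵁ V
    have hV' : ∀ s : c.pt, c.π.app j' s ∈ V' ↔ c.π.app j s ∈ V := by
      intro s
      show D.map a (c.π.app j' s) ∈ V ↔ _
      rw [← Scheme.Hom.comp_apply, c.w a]
    refine ⟨⇑(D.map b) '' V'.1, ?_, h j' b _ V'.2, ?_⟩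
    · rintro _ ⟨v, hv, rfl⟩
      obtain ⟨s, rfl⟩ := hsj v
      refine ⟨s, hVU ((hV' s).mp hv), ?_⟩
      rw [← Scheme.Hom.comp_apply, c.w b]
    · refine ⟨c.π.app j' x, (hV' x).mpr hxV, ?_⟩
      rw [← Scheme.Hom.comp_apply, c.w b]

end Groth.Agent.S4765
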