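import Groth.Statements.S4766
-- import your own Groth.Agent.* helpers here
import Groth.Agent.S4765
import Groth.Agent.Lib.Helper9.OpenImmDescend
import Mathlib.AlgebraicGeometry.Morphisms.UniversallyOpen

set_option autoImplicit false
universe u
open CategoryTheory AlgebraicGeometry
open Lim8

namespace Groth.Agent.S4766

/-- Let S = lim S_i be a cofiltered limit of schemes with affine transition maps and let i be an index
such that the projection S ⟶ S_j is surjective for every j over i. Then the projection S ⟶ S_i is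
universally open if and only if every transition map S_j ⟶ S_i is universally open. This is the case
of universally open morphisms. -/
theorem result {I : Type u} [SmallCategory I] [IsCofiltered I]
    (D : I ⥤ Scheme.{u}) (c : Limits.Cone D) (hc : Limits.IsLimit c)
    [∀ (i j : I) (f : i ⟶ j), IsAffineHom (D.map f)] (i : I)
    (hs : ∀ (j : I) (φ : j ⟶ i), Surjective (c.π.app j)) :
    UniversallyOpen (c.π.app i) ↔ ∀ (j : I) (φ : j ⟶ i), UniversallyOpen (D.map φ) := by
  constructor
  · intro h j φ
    rw [UniversallyOpen.eq]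
    intro X' Y' i₁ i₂ f' hf'
    -- base change of `S ⟶ S_j` along `i₁`
    have hsj : Surjective (c.π.app j) := hs j φ
    have hp : Surjective (Limits.pullback.fst i₁ (c.π.app j)) :=
      MorphismProperty.pullback_fst (P := @Surjective) _ _ hsj
    have hsq : IsPullback (Limits.pullback.fst i₁ (c.π.app j) ≫ f')
        (Limits.pullback.snd i₁ (c.π.app j)) i₂ (c.π.app i) := by
      have := (IsPullback.of_hasPullback i₁ (c.π.app j)).paste_horiz hf'
      rwa [c.w φ] at this
    have hopen : IsOpenMap ⇑(Limits.pullback.fst i₁ (c.π.app j) ≫ f') :=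
      (UniversallyOpen.eq ▸ h : MorphismProperty.universally
        (topologically @IsOpenMap) (c.π.app i)) _ _ _ hsq
    intro U hU
    have e : ⇑f' '' U = ⇑(Limits.pullback.fst i₁ (c.π.app j) ≫ f') ''
        (⇑(Limits.pullback.fst i₁ (c.π.app j)) ⁻¹' U) := by
      ext y
      constructor
      · rintro ⟨u, hu, rfl⟩
        obtain ⟨s, rfl⟩ := hp.surj u
        exact ⟨s, hu, Scheme.Hom.comp_apply _ _ _⟩
      · rintro ⟨s, hsU, rfl⟩
        exact ⟨_, hsU, (Scheme.Hom.comp_apply _ _ _).symm⟩
    rw [e]
    exact hopen _ (hU.preimage (Limits.pullback.fst i₁ (c.π.app j)).continuous)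
  · intro h
    rw [UniversallyOpen.eq]
    intro X' Y' i₁ i₂ f' hf'
    let D' : Over i ⥤ Scheme.{u} := Groth.Agent.Lib.helper9.bcDiagram D i i₂
    let c' : Limits.Cone D' := Groth.Agent.Lib.helper9.bcCone D c i i₂
    have hc' : Limits.IsLimit c' := Groth.Agent.Lib.helper9.isLimitBcCone D c i i₂ hc
    have hD' : ∀ (j j' : Over i) (m : j ⟶ j'), IsAffineHom (D'.map m) := fun _ _ m =>
      (inferInstance : IsAffineHom ((Groth.Agent.Lib.helper9.bcDiagram D i i₂).map m))
    let i' : Over i := Over.mk (𝟙 i)
    have hid : IsIso (D.map i'.hom) := by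
      show IsIso (D.map (𝟙 i))
      rw [D.map_id]
      infer_instance
    have he : IsIso (Limits.pullback.snd (D.map i'.hom) i₂) := inferInstance
    -- the projections are surjective
    have hs' : ∀ (j : Over i) (ψ : j ⟶ i'), Surjective (c'.π.app j) := by
      intro j _
      have h1 : c'.π.app j ≫ Limits.pullback.fst (D.map j.hom) i₂ =
          Limits.pullback.fst (c.π.app i) i₂ ≫ c.π.app j.left := Limits.pullback.lift_fst _ _ _
      have sq := Groth.Agent.Lib.helper9.isPullback_rebase_base (c.w j.hom)
        (Groth.Agent.Lib.helper9.isPullback_stage_base (c.π.app i) i₂) (c'.π.app j) h1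
        (Groth.Agent.Lib.helper9.bcCone_π_snd D c i i₂ j)
      exact MorphismProperty.of_isPullback (P := @Surjective) sq.flip (hs j.left j.hom)
    -- the transition maps to the base stage are open
    have ho' : ∀ (j : Over i) (ψ : j ⟶ i'), IsOpenMap ⇑(D'.map ψ) := by
      intro j ψ
      have hj : UniversallyOpen (D.map j.hom) := h j.left j.hom
      let Tψ : Limits.pullback (D.map j.hom) i₂ ⟶ Limits.pullback (D.map i'.hom) i₂ := D'.map ψ
      have h1 : Tψ ≫ Limits.pullback.snd (D.map i'.hom) i₂ =
          Limits.pullback.snd (D.map j.hom) i₂ :=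
        Groth.Agent.Lib.helper9.bcDiagram_map_snd D i i₂ ψ
      have h2 : Tψ = Limits.pullback.snd (D.map j.hom) i₂ ≫
          inv (Limits.pullback.snd (D.map i'.hom) i₂) := by
        rw [← h1, Category.assoc, IsIso.hom_inv_id, Category.comp_id]
      show IsOpenMap ⇑Tψ
      rw [h2]
      exact (Limits.pullback.snd (D.map j.hom) i₂ ≫
        inv (Limits.pullback.snd (D.map i'.hom) i₂)).isOpenMap
    have hopen : IsOpenMap ⇑(c'.π.app i') :=
      (Groth.Agent.S4765.result D' c' hc' i' hs').mpr ho'
    -- conclude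
    let πi' : Limits.pullback (c.π.app i) i₂ ⟶ Limits.pullback (D.map i'.hom) i₂ := c'.π.app i'
    have hopen' : IsOpenMap ⇑πi' := hopen
    have h3 : πi' ≫ Limits.pullback.snd (D.map i'.hom) i₂ =
        Limits.pullback.snd (c.π.app i) i₂ := Groth.Agent.Lib.helper9.bcCone_π_snd D c i i₂ i'
    have h4 : hf'.flip.isoPullback.hom ≫ Limits.pullback.snd (c.π.app i) i₂ = f' :=
      hf'.flip.isoPullback_hom_snd
    have h5 : f' = hf'.flip.isoPullback.hom ≫ πi' ≫
        Limits.pullback.snd (D.map i'.hom) i₂ := by
      rw [h3, h4]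
    show IsOpenMap ⇑f'
    rw [h5]
    have o1 : IsOpenMap ⇑hf'.flip.isoPullback.hom := hf'.flip.isoPullback.hom.isOpenMap
    have o3 : IsOpenMap ⇑(Limits.pullback.snd (D.map i'.hom) i₂) :=
      (Limits.pullback.snd (D.map i'.hom) i₂).isOpenMap
    exact (o3.comp (hopen'.comp o1))

end Groth.Agent.S4766
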