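import Groth.Statements.S4767
import Mathlib
-- import your own Groth.Agent.* helpers here

set_option autoImplicit false
universe u
open CategoryTheory AlgebraicGeometry
open Lim8

namespace Groth.Agent.S4767

/-- Let S = lim S_i be a cofiltered limit of schemes with affine transition maps, some stage S_{i₀}
being quasi-compact and quasi-separated, and assume that the underlying topological space of S is
Noetherian. If S is not irreducible, then there is an index i over i₀ such that S_j is not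
irreducible for every index j over i. -/
theorem result {I : Type u} [SmallCategory I] [IsCofiltered I]
    (D : I ⥤ Scheme.{u}) (c : Limits.Cone D) (hc : Limits.IsLimit c)
    [∀ (i j : I) (f : i ⟶ j), IsAffineHom (D.map f)] (i₀ : I)
    [CompactSpace (D.obj i₀)] [QuasiSeparatedSpace (D.obj i₀)]
    [TopologicalSpace.NoetherianSpace c.pt] (h : ¬ IrreducibleSpace c.pt) :
    ∃ (i : I) (_ : i ⟶ i₀), ∀ (j : I) (_ : j ⟶ i), ¬ IrreducibleSpace (D.obj j) := by
  classical
  have hπaff : ∀ i, IsAffineHom (c.π.app i) := fun i => isAffineHom_π_app D c hc i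
  have hcpt : CompactSpace c.pt := QuasiCompact.compactSpace_of_compactSpace (c.π.app i₀)
  by_cases hne : Nonempty c.pt
  · -- nonempty and not preirreducible
    have hpre : ¬ PreirreducibleSpace c.pt := fun hp => h { toPreirreducibleSpace := hp, toNonempty := hne }
    have : ∃ u v : Set c.pt, IsOpen u ∧ IsOpen v ∧ u.Nonempty ∧ v.Nonempty ∧ u ∩ v = ∅ := by
      by_contra hcon
      push Not at hcon
      apply hpre
      refine ⟨fun u v hu hv hune hvne => ?_⟩
      rw [Set.univ_inter] at hune hvne ⊢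
      exact hcon u v hu hv hune hvne
    obtain ⟨u, v, hu, hv, hune, hvne, huv⟩ := this
    let U : c.pt.Opens := ⟨u, hu⟩
    let V : c.pt.Opens := ⟨v, hv⟩
    have hUc : IsCompact (U : Set c.pt) := TopologicalSpace.NoetherianSpace.isCompact _
    have hVc : IsCompact (V : Set c.pt) := TopologicalSpace.NoetherianSpace.isCompact _
    obtain ⟨i₁, U₁, hU₁c, hU₁⟩ := exists_preimage_eq D c hc U hUc
    obtain ⟨i₂, V₂, hV₂c, hV₂⟩ := exists_preimage_eq D c hc V hVc
    obtain ⟨i, a₁, a₂, a₀, -⟩ : ∃ (i : I) (_ : i ⟶ i₁) (_ : i ⟶ i₂) (_ : i ⟶ i₀), True :=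
      ⟨IsCofiltered.min (IsCofiltered.min i₁ i₂) i₀,
        IsCofiltered.minToLeft _ _ ≫ IsCofiltered.minToLeft _ _,
        IsCofiltered.minToLeft _ _ ≫ IsCofiltered.minToRight _ _,
        IsCofiltered.minToRight _ _, trivial⟩
    set U' : (D.obj i).Opens := D.map a₁ ⁻¹ᵁ U₁ with hU'def
    set V' : (D.obj i).Opens := D.map a₂ ⁻¹ᵁ V₂ with hV'def
    have hU' : c.π.app i ⁻¹ᵁ U' = U := by
      rw [hU'def, ← Scheme.Hom.comp_preimage, c.w, hU₁]
    have hV' : c.π.app i ⁻¹ᵁ V' = V := by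
      rw [hV'def, ← Scheme.Hom.comp_preimage, c.w, hV₂]
    have hU'c : IsCompact (U' : Set (D.obj i)) :=
      QuasiCompact.isCompact_preimage (f := D.map a₁) _ U₁.2 hU₁c
    have hV'c : IsCompact (V' : Set (D.obj i)) :=
      QuasiCompact.isCompact_preimage (f := D.map a₂) _ V₂.2 hV₂c
    have hcpti : CompactSpace (D.obj i) := QuasiCompact.compactSpace_of_compactSpace (D.map a₀)
    have hqsi : QuasiSeparatedSpace (D.obj i) := quasiSeparatedSpace_of_quasiSeparated (D.map a₀)
    obtain ⟨j₂, b₂, hdis⟩ := exists_map_preimage_le_map_preimage D c hc (i := i)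
      (U := U' ⊓ V') (V := ⊥)
      (QuasiSeparatedSpace.inter_isCompact _ _ U'.2 hU'c V'.2 hV'c) (by
        rw [Scheme.Hom.preimage_inf, hU', hV']
        rintro x ⟨hx1, hx2⟩
        have : x ∈ u ∩ v := ⟨hx1, hx2⟩
        rw [huv] at this
        exact this.elim)
    refine ⟨j₂, b₂ ≫ a₀, fun l e hirr => ?_⟩
    set g := e ≫ b₂ with hgdef
    have hg2 : D.map g ⁻¹ᵁ (U' ⊓ V') = ⊥ := by
      rw [hgdef, Functor.map_comp, Scheme.Hom.comp_preimage, eq_bot_iff]
      refine le_trans (Scheme.Hom.preimage_mono _ hdis) ?_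
      simp
    have hπU : c.π.app l ⁻¹ᵁ (D.map g ⁻¹ᵁ U') = U := by
      rw [← Scheme.Hom.comp_preimage, c.w, hU']
    have hπV : c.π.app l ⁻¹ᵁ (D.map g ⁻¹ᵁ V') = V := by
      rw [← Scheme.Hom.comp_preimage, c.w, hV']
    have hUne : ((D.map g ⁻¹ᵁ U' : (D.obj l).Opens) : Set (D.obj l)).Nonempty := by
      obtain ⟨x, hx⟩ := hune
      have hxU : x ∈ c.π.app l ⁻¹ᵁ (D.map g ⁻¹ᵁ U') := by rw [hπU]; exact hx
      exact ⟨c.π.app l x, hxU⟩
    have hVne : ((D.map g ⁻¹ᵁ V' : (D.obj l).Opens) : Set (D.obj l)).Nonempty := by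
      obtain ⟨x, hx⟩ := hvne
      have hxV : x ∈ c.π.app l ⁻¹ᵁ (D.map g ⁻¹ᵁ V') := by rw [hπV]; exact hx
      exact ⟨c.π.app l x, hxV⟩
    obtain ⟨y, hy1, hy2⟩ := nonempty_preirreducible_inter (D.map g ⁻¹ᵁ U').2 (D.map g ⁻¹ᵁ V').2
      hUne hVne
    have hy : y ∈ D.map g ⁻¹ᵁ (U' ⊓ V') := by
      rw [Scheme.Hom.preimage_inf]
      exact ⟨hy1, hy2⟩
    rw [hg2] at hy
    exact hy
  · -- empty limit: some stage is empty
    rw [not_nonempty_iff] at hne
    obtain ⟨j, b, hj⟩ := exists_map_preimage_le_map_preimage D c hc (i := i₀)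
      (U := ⊤) (V := ⊥) isCompact_univ (fun x _ => (hne.false x).elim)
    refine ⟨j, b, fun l e hirr => ?_⟩
    obtain ⟨y⟩ := hirr.toNonempty
    have hy : D.map e y ∈ D.map b ⁻¹ᵁ (⊤ : (D.obj i₀).Opens) := trivial
    exact hj hy

end Groth.Agent.S4767
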