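import Groth.Statements.S4768
import Mathlib
-- import your own Groth.Agent.* helpers here

set_option autoImplicit false
universe u
open CategoryTheory AlgebraicGeometry
open Lim8

namespace Groth.Agent.S4768

/-- Let S = lim S_i be a cofiltered limit of schemes with affine transition maps, some stage S_{i₀}
being quasi-compact and quasi-separated. If S is not preconnected (that is, S is the disjoint union
of two nonempty open subsets), then there is an index i over i₀ such that S_j is not preconnected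
for every index j over i. (The published statement assumes the stage only quasi-compact, which is
not enough: over the affine space in infinitely many variables with a doubled origin, the closed
subschemes cut out by the first n coordinates form a system with affine transition maps in which
every stage is connected while the limit consists of two disjoint points. The published proof
descends the two pieces of S to quasi-compact open subsets of a stage and needs their intersection
to become empty at a later stage, which uses that quasi-compact open subsets of the stage are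
constructible; so the stage is taken quasi-separated here, as in part (i).) -/
theorem result {I : Type u} [SmallCategory I] [IsCofiltered I]
    (D : I ⥤ Scheme.{u}) (c : Limits.Cone D) (hc : Limits.IsLimit c)
    [∀ (i j : I) (f : i ⟶ j), IsAffineHom (D.map f)] (i₀ : I)
    [CompactSpace (D.obj i₀)] [QuasiSeparatedSpace (D.obj i₀)] (h : ¬ PreconnectedSpace c.pt) :
    ∃ (i : I) (_ : i ⟶ i₀), ∀ (j : I) (_ : j ⟶ i), ¬ PreconnectedSpace (D.obj j) := by
  classical
  have hπaff : ∀ i, IsAffineHom (c.π.app i) := fun i => isAffineHom_π_app D c hc i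
  have hcpt : CompactSpace c.pt := QuasiCompact.compactSpace_of_compactSpace (c.π.app i₀)
  rw [preconnectedSpace_iff_clopen] at h
  push Not at h
  obtain ⟨u, hu, hu0, hu1⟩ := h
  let U : c.pt.Opens := ⟨u, hu.isOpen⟩
  let V : c.pt.Opens := ⟨uᶜ, hu.compl.isOpen⟩
  have hUc : IsCompact (U : Set c.pt) := hu.isClosed.isCompact
  have hVc : IsCompact (V : Set c.pt) := hu.compl.isClosed.isCompact
  obtain ⟨i₁, U₁, hU₁c, hU₁⟩ := exists_preimage_eq D c hc U hUc
  obtain ⟨i₂, V₂, hV₂c, hV₂⟩ := exists_preimage_eq D c hc V hVc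
  obtain ⟨i, a₁, a₂, a₀, -⟩ : ∃ (i : I) (_ : i ⟶ i₁) (_ : i ⟶ i₂) (_ : i ⟶ i₀), True :=
    ⟨IsCofiltered.min (IsCofiltered.min i₁ i₂) i₀,
      IsCofiltered.minToLeft _ _ ≫ IsCofiltered.minToLeft _ _,
      IsCofiltered.minToLeft _ _ ≫ IsCofiltered.minToRight _ _,
      IsCofiltered.minToRight _ _, trivial⟩
  set U' : (D.obj i).Opens := D.map a₁ ⁻¹ᵁ U₁ with hU'def
  set V' : (D.obj i).Opens := D.map a₂ ⁻¹ᵁ V₂ with hV'def
  have hU' : c.π.app i ⁻¹ᵁ U' = U := by
    rw [hU'def, ← Scheme.Hom.comp_preimage, c.w, hU₁]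
  have hV' : c.π.app i ⁻¹ᵁ V' = V := by
    rw [hV'def, ← Scheme.Hom.comp_preimage, c.w, hV₂]
  have hU'c : IsCompact (U' : Set (D.obj i)) :=
    QuasiCompact.isCompact_preimage (f := D.map a₁) _ U₁.2 hU₁c
  have hV'c : IsCompact (V' : Set (D.obj i)) :=
    QuasiCompact.isCompact_preimage (f := D.map a₂) _ V₂.2 hV₂c
  have hcpti : CompactSpace (D.obj i) := QuasiCompact.compactSpace_of_compactSpace (D.map a₀)
  have hqsi : QuasiSeparatedSpace (D.obj i) := quasiSeparatedSpace_of_quasiSeparated (D.map a₀)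
  obtain ⟨j₁, b₁, hcov⟩ := exists_map_preimage_le_map_preimage D c hc (i := i)
    (U := ⊤) (V := U' ⊔ V') isCompact_univ (by
      rw [Scheme.Hom.preimage_sup, hU', hV']
      intro x _
      by_cases hx : x ∈ u
      · exact Or.inl hx
      · exact Or.inr hx)
  obtain ⟨j₂, b₂, hdis⟩ := exists_map_preimage_le_map_preimage D c hc (i := i)
    (U := U' ⊓ V') (V := ⊥)
    (QuasiSeparatedSpace.inter_isCompact _ _ U'.2 hU'c V'.2 hV'c) (by
      rw [Scheme.Hom.preimage_inf, hU', hV']
      rintro x ⟨hx1, hx2⟩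
      exact (hx2 hx1).elim)
  obtain ⟨k, d₁, d₂, hk⟩ := IsCofiltered.cospan b₁ b₂
  refine ⟨k, d₁ ≫ b₁ ≫ a₀, fun l e hpre => ?_⟩
  have hg1 : D.map (e ≫ d₁ ≫ b₁) ⁻¹ᵁ (U' ⊔ V') = ⊤ := by
    rw [Functor.map_comp, Functor.map_comp, Scheme.Hom.comp_preimage, Scheme.Hom.comp_preimage]
    rw [eq_top_iff]
    refine le_trans ?_ (Scheme.Hom.preimage_mono _ (Scheme.Hom.preimage_mono _ hcov))
    simp
  have hg2 : D.map (e ≫ d₁ ≫ b₁) ⁻¹ᵁ (U' ⊓ V') = ⊥ := by
    rw [hk, Functor.map_comp, Functor.map_comp, Scheme.Hom.comp_preimage, Scheme.Hom.comp_preimage]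
    rw [eq_bot_iff]
    refine le_trans (Scheme.Hom.preimage_mono _ (Scheme.Hom.preimage_mono _ hdis)) ?_
    simp
  set g := e ≫ d₁ ≫ b₁ with hgdef
  have hπU : c.π.app l ⁻¹ᵁ (D.map g ⁻¹ᵁ U') = U := by
    rw [← Scheme.Hom.comp_preimage, c.w, hU']
  have hπV : c.π.app l ⁻¹ᵁ (D.map g ⁻¹ᵁ V') = V := by
    rw [← Scheme.Hom.comp_preimage, c.w, hV']
  rw [Scheme.Hom.preimage_sup] at hg1
  rw [Scheme.Hom.preimage_inf] at hg2
  have hcompl : ((D.map g ⁻¹ᵁ U' : (D.obj l).Opens) : Set (D.obj l)) =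
      ((D.map g ⁻¹ᵁ V' : (D.obj l).Opens) : Set (D.obj l))ᶜ := by
    ext x
    have h1 : x ∈ (D.map g ⁻¹ᵁ U' ⊔ D.map g ⁻¹ᵁ V' : (D.obj l).Opens) := by rw [hg1]; trivial
    have h2 : x ∉ (D.map g ⁻¹ᵁ U' ⊓ D.map g ⁻¹ᵁ V' : (D.obj l).Opens) := by rw [hg2]; exact id
    constructor
    · intro hx hx'
      exact h2 ⟨hx, hx'⟩
    · intro hx
      rcases h1 with h | h
      · exact h
      · exact (hx h).elim
  have hclopen : IsClopen ((D.map g ⁻¹ᵁ U' : (D.obj l).Opens) : Set (D.obj l)) :=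
    ⟨by rw [hcompl]; exact (D.map g ⁻¹ᵁ V').2.isClosed_compl, (D.map g ⁻¹ᵁ U').2⟩
  rcases (preconnectedSpace_iff_clopen.1 hpre) _ hclopen with h0 | h1
  · apply hu0.ne_empty
    have : (U : Set c.pt) = ∅ := by
      rw [← hπU]
      show (c.π.app l) ⁻¹' ((D.map g ⁻¹ᵁ U' : (D.obj l).Opens) : Set (D.obj l)) = ∅
      rw [h0, Set.preimage_empty]
    exact this
  · apply hu1
    have hVe : ((D.map g ⁻¹ᵁ V' : (D.obj l).Opens) : Set (D.obj l)) = ∅ := by
      rw [← compl_compl ((D.map g ⁻¹ᵁ V' : (D.obj l).Opens) : Set (D.obj l)), ← hcompl, h1,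
        Set.compl_univ]
    have : (V : Set c.pt) = ∅ := by
      rw [← hπV]
      show (c.π.app l) ⁻¹' ((D.map g ⁻¹ᵁ V' : (D.obj l).Opens) : Set (D.obj l)) = ∅
      rw [hVe, Set.preimage_empty]
    have h3 : uᶜ = ∅ := this
    rwa [Set.compl_empty_iff] at h3

end Groth.Agent.S4768
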