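import Groth.Statements.S4771
import Mathlib
import Groth.Agent.Lib.Helper13.LimDominant
-- import your own Groth.Agent.* helpers here

set_option autoImplicit false
universe u
open CategoryTheory AlgebraicGeometry
open Lim8

namespace Groth.Agent.S4771

/-- Let S = lim S_i be a cofiltered limit of schemes whose transition maps are affine and dominant, some
stage S_{i₀} being quasi-compact, and assume that the underlying topological space of S is
Noetherian. Then S is irreducible if and only if there is an index i over i₀ such that S_j is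
irreducible for every j over i. -/
theorem result {I : Type u} [SmallCategory I] [IsCofiltered I]
    (D : I ⥤ Scheme.{u}) (c : Limits.Cone D) (hc : Limits.IsLimit c)
    [∀ (i j : I) (f : i ⟶ j), IsAffineHom (D.map f)] (i₀ : I)
    [CompactSpace (D.obj i₀)] [TopologicalSpace.NoetherianSpace c.pt]
    (hd : ∀ (i j : I) (φ : i ⟶ j), IsDominant (D.map φ)) :
    IrreducibleSpace c.pt ↔ ∃ (i : I) (_ : i ⟶ i₀), ∀ (j : I) (_ : j ⟶ i), IrreducibleSpace (D.obj j) := by
  classical
  have hπaff : ∀ i, IsAffineHom (c.π.app i) := fun i => isAffineHom_π_app D c hc i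
  have hπdom : ∀ i, IsDominant (c.π.app i) :=
    fun i => Groth.Agent.Lib.helper13.isDominant_π_app D c hc hd i
  constructor
  · intro hirr
    refine ⟨i₀, 𝟙 i₀, fun j _ => ?_⟩
    have hne : Nonempty (D.obj j) := ⟨c.π.app j (Classical.arbitrary c.pt)⟩
    have hpre : PreirreducibleSpace (D.obj j) := by
      refine PreirreducibleSpace.of_forall_nonempty_inter fun U V hU hV hUne hVne => ?_
      obtain ⟨x, hx⟩ := (hπdom j).denseRange.exists_mem_open hU hUne
      obtain ⟨y, hy⟩ := (hπdom j).denseRange.exists_mem_open hV hVne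
      obtain ⟨z, hz⟩ := nonempty_preirreducible_inter (X := c.pt)
        (hU.preimage (c.π.app j).continuous) (hV.preimage (c.π.app j).continuous)
        ⟨x, hx⟩ ⟨y, hy⟩
      exact ⟨c.π.app j z, hz⟩
    exact { toPreirreducibleSpace := hpre, toNonempty := hne }
  · rintro ⟨i, a, hi⟩
    have hcpti : CompactSpace (D.obj i) := QuasiCompact.compactSpace_of_compactSpace (D.map a)
    have hne : Nonempty c.pt := by
      have h1 : ∀ k : Over i, Nonempty ((Over.forget i ⋙ D).obj k) := fun k =>
        (hi k.left k.hom).toNonempty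
      have h2 : ∀ k : Over i, CompactSpace ((Over.forget i ⋙ D).obj k) := fun k =>
        QuasiCompact.compactSpace_of_compactSpace (D.map k.hom)
      have h3 : ∀ {k₁ k₂ : Over i} (f : k₁ ⟶ k₂), IsAffineHom ((Over.forget i ⋙ D).map f) := by
        intro k₁ k₂ f
        dsimp
        infer_instance
      exact Scheme.nonempty_of_isLimit (Over.forget i ⋙ D) _
        ((Functor.Initial.isLimitWhiskerEquiv (Over.forget i) c).symm hc)
    have hpre : PreirreducibleSpace c.pt := by
      refine PreirreducibleSpace.of_forall_nonempty_inter fun u v hu hv hune hvne => ?_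
      obtain ⟨x, hx⟩ := hune
      obtain ⟨y, hy⟩ := hvne
      obtain ⟨_, ⟨_, ⟨i₁, W₁, _, rfl⟩, rfl⟩, hxW₁, hW₁u⟩ :=
        (isBasis_preimage_isAffineOpen D c hc).exists_subset_of_mem_open hx hu
      obtain ⟨_, ⟨_, ⟨i₂, W₂, _, rfl⟩, rfl⟩, hyW₂, hW₂v⟩ :=
        (isBasis_preimage_isAffineOpen D c hc).exists_subset_of_mem_open hy hv
      obtain ⟨l, a₁, a₂, a₀, -⟩ : ∃ (l : I) (_ : l ⟶ i₁) (_ : l ⟶ i₂) (_ : l ⟶ i), True :=
        ⟨IsCofiltered.min (IsCofiltered.min i₁ i₂) i,
          IsCofiltered.minToLeft _ _ ≫ IsCofiltered.minToLeft _ _,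
          IsCofiltered.minToLeft _ _ ≫ IsCofiltered.minToRight _ _,
          IsCofiltered.minToRight _ _, trivial⟩
      have hirrl : IrreducibleSpace (D.obj l) := hi l a₀
      have hx' : c.π.app l x ∈ D.map a₁ ⁻¹ᵁ W₁ := by
        show (D.map a₁) (c.π.app l x) ∈ W₁
        rw [← Scheme.Hom.comp_apply, c.w]
        exact hxW₁
      have hy' : c.π.app l y ∈ D.map a₂ ⁻¹ᵁ W₂ := by
        show (D.map a₂) (c.π.app l y) ∈ W₂
        rw [← Scheme.Hom.comp_apply, c.w]
        exact hyW₂
      obtain ⟨z, hz⟩ := nonempty_preirreducible_inter (X := D.obj l)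
        (D.map a₁ ⁻¹ᵁ W₁).2 (D.map a₂ ⁻¹ᵁ W₂).2 ⟨_, hx'⟩ ⟨_, hy'⟩
      obtain ⟨w, hw⟩ := (hπdom l).denseRange.exists_mem_open
        ((D.map a₁ ⁻¹ᵁ W₁).2.inter (D.map a₂ ⁻¹ᵁ W₂).2) ⟨z, hz⟩
      refine ⟨w, hW₁u ?_, hW₂v ?_⟩
      · show (c.π.app i₁) w ∈ W₁
        rw [← c.w a₁, Scheme.Hom.comp_apply]
        exact hw.1
      · show (c.π.app i₂) w ∈ W₂
        rw [← c.w a₂, Scheme.Hom.comp_apply]
        exact hw.2
    exact { toPreirreducibleSpace := hpre, toNonempty := hne }

end Groth.Agent.S4771
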