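import Groth.Statements.S4772
import Mathlib
import Groth.Agent.Lib.Helper13.LimDominant
-- import your own Groth.Agent.* helpers here

set_option autoImplicit false
universe u
open CategoryTheory AlgebraicGeometry
open Lim8

namespace Groth.Agent.S4772

/-- Let S = lim S_i be a cofiltered limit of schemes whose transition maps are affine and dominant, some
stage S_{i₀} being quasi-compact. Then S is connected (in particular nonempty) if and only if there
is an index i over i₀ such that S_j is connected for every j over i. -/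
theorem result {I : Type u} [SmallCategory I] [IsCofiltered I]
    (D : I ⥤ Scheme.{u}) (c : Limits.Cone D) (hc : Limits.IsLimit c)
    [∀ (i j : I) (f : i ⟶ j), IsAffineHom (D.map f)] (i₀ : I)
    [CompactSpace (D.obj i₀)] (hd : ∀ (i j : I) (φ : i ⟶ j), IsDominant (D.map φ)) :
    ConnectedSpace c.pt ↔ ∃ (i : I) (_ : i ⟶ i₀), ∀ (j : I) (_ : j ⟶ i), ConnectedSpace (D.obj j) := by
  classical
  have hπaff : ∀ i, IsAffineHom (c.π.app i) := fun i => isAffineHom_π_app D c hc i
  have hπdom : ∀ i, IsDominant (c.π.app i) :=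
    fun i => Groth.Agent.Lib.helper13.isDominant_π_app D c hc hd i
  constructor
  · intro hconn
    refine ⟨i₀, 𝟙 i₀, fun j _ => ?_⟩
    have hne : Nonempty (D.obj j) := ⟨c.π.app j (Classical.arbitrary c.pt)⟩
    have hpre : PreconnectedSpace (D.obj j) :=
      DenseRange.preconnectedSpace (α := c.pt) (hπdom j).denseRange (c.π.app j).continuous
    exact { toPreconnectedSpace := hpre, toNonempty := hne }
  · rintro ⟨i, a, hi⟩
    have hcpti : CompactSpace (D.obj i) := QuasiCompact.compactSpace_of_compactSpace (D.map a)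
    have hcpt : CompactSpace c.pt := QuasiCompact.compactSpace_of_compactSpace (c.π.app i)
    have hne : Nonempty c.pt := by
      have h1 : ∀ k : Over i, Nonempty ((Over.forget i ⋙ D).obj k) := fun k =>
        (hi k.left k.hom).toNonempty
      have h2 : ∀ k : Over i, CompactSpace ((Over.forget i ⋙ D).obj k) := fun k =>
        QuasiCompact.compactSpace_of_compactSpace (D.map k.hom)
      have h3 : ∀ {k₁ k₂ : Over i} (f : k₁ ⟶ k₂), IsAffineHom ((Over.forget i ⋙ D).map f) := by
        intro k₁ k₂ f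
        dsimp
        infer_instance
      exact Scheme.nonempty_of_isLimit (Over.forget i ⋙ D) _
        ((Functor.Initial.isLimitWhiskerEquiv (Over.forget i) c).symm hc)
    have hpre : PreconnectedSpace c.pt := by
      by_contra h
      rw [preconnectedSpace_iff_clopen] at h
      push Not at h
      obtain ⟨u, hu, hu0, hu1⟩ := h
      let U : c.pt.Opens := ⟨u, hu.isOpen⟩
      let V : c.pt.Opens := ⟨uᶜ, hu.compl.isOpen⟩
      have hUc : IsCompact (U : Set c.pt) := hu.isClosed.isCompact
      have hVc : IsCompact (V : Set c.pt) := hu.compl.isClosed.isCompact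
      obtain ⟨i₁, U₁, hU₁c, hU₁⟩ := exists_preimage_eq D c hc U hUc
      obtain ⟨i₂, V₂, hV₂c, hV₂⟩ := exists_preimage_eq D c hc V hVc
      obtain ⟨i', a₁, a₂, a₀, -⟩ : ∃ (i' : I) (_ : i' ⟶ i₁) (_ : i' ⟶ i₂) (_ : i' ⟶ i), True :=
        ⟨IsCofiltered.min (IsCofiltered.min i₁ i₂) i,
          IsCofiltered.minToLeft _ _ ≫ IsCofiltered.minToLeft _ _,
          IsCofiltered.minToLeft _ _ ≫ IsCofiltered.minToRight _ _,
          IsCofiltered.minToRight _ _, trivial⟩
      set U' : (D.obj i').Opens := D.map a₁ ⁻¹ᵁ U₁ with hU'def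
      set V' : (D.obj i').Opens := D.map a₂ ⁻¹ᵁ V₂ with hV'def
      have hU' : c.π.app i' ⁻¹ᵁ U' = U := by
        rw [hU'def, ← Scheme.Hom.comp_preimage, c.w, hU₁]
      have hV' : c.π.app i' ⁻¹ᵁ V' = V := by
        rw [hV'def, ← Scheme.Hom.comp_preimage, c.w, hV₂]
      have hcpti' : CompactSpace (D.obj i') :=
        QuasiCompact.compactSpace_of_compactSpace (D.map a₀)
      obtain ⟨l, b₁, hcov⟩ := exists_map_preimage_le_map_preimage D c hc (i := i')
        (U := ⊤) (V := U' ⊔ V') isCompact_univ (by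
          rw [Scheme.Hom.preimage_sup, hU', hV']
          intro x _
          by_cases hx : x ∈ u
          · exact Or.inl hx
          · exact Or.inr hx)
      have hg1 : D.map b₁ ⁻¹ᵁ (U' ⊔ V') = ⊤ := by
        rw [eq_top_iff]
        refine le_trans ?_ hcov
        simp
      have hπU : c.π.app l ⁻¹ᵁ (D.map b₁ ⁻¹ᵁ U') = U := by
        rw [← Scheme.Hom.comp_preimage, c.w, hU']
      have hπV : c.π.app l ⁻¹ᵁ (D.map b₁ ⁻¹ᵁ V') = V := by
        rw [← Scheme.Hom.comp_preimage, c.w, hV']
      rw [Scheme.Hom.preimage_sup] at hg1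
      -- disjointness from dominance of the projection
      have hg2 : ∀ x, x ∈ D.map b₁ ⁻¹ᵁ U' → x ∈ D.map b₁ ⁻¹ᵁ V' → False := by
        intro x hxU hxV
        obtain ⟨y, hy⟩ := (hπdom l).denseRange.exists_mem_open
          ((D.map b₁ ⁻¹ᵁ U').2.inter (D.map b₁ ⁻¹ᵁ V').2) ⟨x, hxU, hxV⟩
        have hyU : y ∈ (c.π.app l ⁻¹ᵁ (D.map b₁ ⁻¹ᵁ U')) := hy.1
        have hyV : y ∈ (c.π.app l ⁻¹ᵁ (D.map b₁ ⁻¹ᵁ V')) := hy.2
        rw [hπU] at hyU
        rw [hπV] at hyV
        exact hyV hyU
      have hcompl : ((D.map b₁ ⁻¹ᵁ U' : (D.obj l).Opens) : Set (D.obj l)) =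
          ((D.map b₁ ⁻¹ᵁ V' : (D.obj l).Opens) : Set (D.obj l))ᶜ := by
        ext x
        have h1 : x ∈ (D.map b₁ ⁻¹ᵁ U' ⊔ D.map b₁ ⁻¹ᵁ V' : (D.obj l).Opens) := by
          rw [hg1]; trivial
        constructor
        · intro hx hx'
          exact hg2 x hx hx'
        · intro hx
          rcases h1 with h | h
          · exact h
          · exact (hx h).elim
      have hclopen : IsClopen ((D.map b₁ ⁻¹ᵁ U' : (D.obj l).Opens) : Set (D.obj l)) :=
        ⟨by rw [hcompl]; exact (D.map b₁ ⁻¹ᵁ V').2.isClosed_compl, (D.map b₁ ⁻¹ᵁ U').2⟩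
      have hconl : ConnectedSpace (D.obj l) := hi l (b₁ ≫ a₀)
      rcases (preconnectedSpace_iff_clopen.1 inferInstance) _ hclopen with h0 | h1
      · apply hu0.ne_empty
        have : (U : Set c.pt) = ∅ := by
          rw [← hπU]
          show (c.π.app l) ⁻¹' ((D.map b₁ ⁻¹ᵁ U' : (D.obj l).Opens) : Set (D.obj l)) = ∅
          rw [h0, Set.preimage_empty]
        exact this
      · apply hu1
        have hVe : ((D.map b₁ ⁻¹ᵁ V' : (D.obj l).Opens) : Set (D.obj l)) = ∅ := by
          rw [← compl_compl ((D.map b₁ ⁻¹ᵁ V' : (D.obj l).Opens) : Set (D.obj l)), ← hcompl, h1,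
            Set.compl_univ]
        have : (V : Set c.pt) = ∅ := by
          rw [← hπV]
          show (c.π.app l) ⁻¹' ((D.map b₁ ⁻¹ᵁ V' : (D.obj l).Opens) : Set (D.obj l)) = ∅
          rw [hVe, Set.preimage_empty]
        have h3 : uᶜ = ∅ := this
        rwa [Set.compl_empty_iff] at h3
    exact { toPreconnectedSpace := hpre, toNonempty := hne }

end Groth.Agent.S4772
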