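import Groth.Statements.S4774
import Mathlib
-- import your own Groth.Agent.* helpers here

set_option autoImplicit false
universe u
open CategoryTheory AlgebraicGeometry
open Lim8

namespace Groth.Agent.S4774

lemma exists_stage_not_reduced {J : Type u} [SmallCategory J] [IsCofiltered J]
    (D' : J ⥤ Scheme.{u}) (c' : Limits.Cone D') (hc' : Limits.IsLimit c')
    [∀ j, IsAffine (D'.obj j)] (h : ¬ _root_.IsReduced Γ(c'.pt, ⊤)) :
    ∃ k : J, ∀ (l : J) (_ : l ⟶ k), ¬ _root_.IsReduced Γ(D'.obj l, ⊤) := by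
  rw [isReduced_iff] at h
  push Not at h
  obtain ⟨s, ⟨n, hn⟩, hs0⟩ := h
  obtain ⟨j, t, ht⟩ := exists_appTop_π_eq_of_isAffine_of_isLimit D' c' hc' s
  obtain ⟨k, f, hk⟩ := exists_appTop_map_eq_zero_of_isAffine_of_isLimit D' c' hc' j (t ^ n)
    (by rw [map_pow, ht, hn])
  refine ⟨k, fun l g hred => hs0 ?_⟩
  have hnil : IsNilpotent ((D'.map (g ≫ f)).appTop t) := by
    refine ⟨n, ?_⟩
    rw [← map_pow, Functor.map_comp, Scheme.Hom.comp_appTop, CommRingCat.comp_apply, hk, map_zero]
  have h0 : (D'.map (g ≫ f)).appTop t = 0 := hred.eq_zero _ hnil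
  rw [← ht, ← c'.w (g ≫ f), Scheme.Hom.comp_appTop, CommRingCat.comp_apply, h0, map_zero]


/-- Let S = lim S_i be a cofiltered limit of schemes with affine transition maps. If S is not reduced,
then there is an index i such that S_j is not reduced for every index j over i. -/
theorem result {I : Type u} [SmallCategory I] [IsCofiltered I]
    (D : I ⥤ Scheme.{u}) (c : Limits.Cone D) (hc : Limits.IsLimit c)
    [∀ (i j : I) (f : i ⟶ j), IsAffineHom (D.map f)] (h : ¬ IsReduced c.pt) :
    ∃ (i : I), ∀ (j : I) (_ : j ⟶ i), ¬ IsReduced (D.obj j) := by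
  classical
  have hπaff : ∀ i, IsAffineHom (c.π.app i) := fun i => isAffineHom_π_app D c hc i
  obtain ⟨i⟩ := IsCofiltered.nonempty (C := I)
  -- an open cover of the limit by preimages of affine opens of the stage `i`
  have hcov : TopologicalSpace.IsOpenCover
      (fun V : (D.obj i).affineOpens => c.π.app i ⁻¹ᵁ (V : (D.obj i).Opens)) := by
    have := iSup_affineOpens_eq_top (D.obj i)
    show (⨆ V : (D.obj i).affineOpens, c.π.app i ⁻¹ᵁ (V : (D.obj i).Opens)) = ⊤
    rw [← Scheme.Hom.preimage_iSup, this]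
    rfl
  obtain ⟨V, hV⟩ : ∃ V : (D.obj i).affineOpens,
      ¬ IsReduced (c.π.app i ⁻¹ᵁ (V : (D.obj i).Opens) : Scheme.{u}) := by
    by_contra hall
    push Not at hall
    apply h
    have : ∀ V, IsReduced ((c.pt.openCoverOfIsOpenCover _ hcov).X V) := hall
    exact IsReduced.of_openCover _ (c.pt.openCoverOfIsOpenCover _ hcov)
  have haffW : IsAffine (c.π.app i ⁻¹ᵁ (V : (D.obj i).Opens) : Scheme.{u}) :=
    (V.2.preimage (c.π.app i))
  have hΓ : ¬ _root_.IsReduced Γ((c.π.app i ⁻¹ᵁ (V : (D.obj i).Opens) : Scheme.{u}), ⊤) := by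
    intro hred
    exact hV (isReduced_of_isAffine_isReduced _)
  have haff : ∀ j : Over i, IsAffine ((opensDiagram D i V).obj j) := fun j => V.2.preimage _
  obtain ⟨k, hk⟩ := exists_stage_not_reduced (opensDiagram D i V) (opensCone D c i V)
    (isLimitOpensCone D c hc i V) hΓ
  refine ⟨k.left, fun j g hred => ?_⟩
  refine hk (Over.mk (g ≫ k.hom)) (Over.homMk g) ?_
  have : IsReduced ((opensDiagram D i V).obj (Over.mk (g ≫ k.hom))) := by
    show IsReduced (D.map (g ≫ k.hom) ⁻¹ᵁ (V : (D.obj i).Opens) : Scheme.{u})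
    infer_instance
  infer_instance

end Groth.Agent.S4774
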