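import Groth.Statements.S4775
import Mathlib
import Groth.Agent.S4774
-- import your own Groth.Agent.* helpers here

set_option autoImplicit false
universe u
open CategoryTheory AlgebraicGeometry
open Lim8

namespace Groth.Agent.S4775

/-- sections along a flat surjective morphism inject -/
lemma app_injective_of_flat_surjective {X Y : Scheme.{u}} (f : X ⟶ Y) [Flat f] [Surjective f]
    (U : Y.Opens) : Function.Injective (f.app U) := by
  rw [injective_iff_map_eq_zero]
  intro s hs
  have hsec := TopCat.Presheaf.section_ext Y.sheaf U s 0
  apply hsec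
  intro y hy
  obtain ⟨x, rfl⟩ := (‹Surjective f›).surj y
  have hinj : Function.Injective (f.stalkMap x) := by
    algebraize [(f.stalkMap x).hom]
    have : Module.FaithfullyFlat (Y.presheaf.stalk (f x)) (X.presheaf.stalk x) :=
      @Module.FaithfullyFlat.of_flat_of_isLocalHom _ _ _ _ _ _ _
        (Flat.stalkMap f x) (f.toLRSHom.prop x)
    exact ‹RingHom.FaithfullyFlat _›.injective
  apply hinj
  have h1 := Scheme.Hom.germ_stalkMap_apply f U x hy s
  rw [hs, map_zero] at h1
  show f.stalkMap x (Y.presheaf.germ U (f x) hy s) = f.stalkMap x (Y.presheaf.germ U (f x) hy 0)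
  rw [map_zero, map_zero, h1]


/-- Let S = lim S_i be a cofiltered limit of schemes whose transition maps are affine, flat and
surjective. Then S is reduced if and only if every S_i is reduced. -/
theorem result {I : Type u} [SmallCategory I] [IsCofiltered I]
    (D : I ⥤ Scheme.{u}) (c : Limits.Cone D) (hc : Limits.IsLimit c)
    [∀ (i j : I) (f : i ⟶ j), IsAffineHom (D.map f)]
    (hf : ∀ (i j : I) (φ : i ⟶ j), Flat (D.map φ) ∧ Surjective (D.map φ)) :
    IsReduced c.pt ↔ ∀ (i : I), IsReduced (D.obj i) := by
  constructor
  · intro hred i
    have hcov : TopologicalSpace.IsOpenCover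
        (fun V : (D.obj i).affineOpens => (V : (D.obj i).Opens)) :=
      iSup_affineOpens_eq_top (D.obj i)
    have key : ∀ V : (D.obj i).affineOpens, _root_.IsReduced Γ(D.obj i, V) := by
      intro V
      rw [isReduced_iff]
      rintro s ⟨n, hn⟩
      have h1 : (c.π.app i).app V s = 0 := by
        apply (IsReduced.component_reduced (X := c.pt) _).eq_zero
        exact ⟨n, by rw [← map_pow, hn, map_zero]⟩
      obtain ⟨j, f, hj⟩ := exists_app_map_eq_zero_of_isLimit D c hc V.2.isCompact s h1
      have := (hf j i f).1
      have := (hf j i f).2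
      exact app_injective_of_flat_surjective (D.map f) V (by rw [hj, map_zero])
    have : ∀ V, IsReduced (((D.obj i).openCoverOfIsOpenCover _ hcov).X V) := by
      intro (V : (D.obj i).affineOpens)
      have haff : IsAffine (((D.obj i).openCoverOfIsOpenCover _ hcov).X V) := V.2
      have : _root_.IsReduced Γ(((D.obj i).openCoverOfIsOpenCover _ hcov).X V, ⊤) := by
        have := key V
        exact isReduced_of_injective (V : (D.obj i).Opens).topIso.hom.hom
          (V : (D.obj i).Opens).topIso.commRingCatIsoToRingEquiv.injective
      exact isReduced_of_isAffine_isReduced _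
    exact IsReduced.of_openCover _ ((D.obj i).openCoverOfIsOpenCover _ hcov)
  · intro hall
    by_contra hnot
    obtain ⟨i, hi⟩ := Groth.Agent.S4774.result D c hc hnot
    exact hi i (𝟙 i) (hall i)

end Groth.Agent.S4775
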