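import Groth.Statements.S4778
-- import your own Groth.Agent.* helpers here
import Groth.Agent.Lib.Helper9.FPColim2

set_option autoImplicit false
universe u
open CategoryTheory AlgebraicGeometry
open Lim8

namespace Groth.Agent.S4778

/-- Let f : X ⟶ S be a morphism of schemes. Suppose that for every affine open U of S and every
projective system (Z_λ) of U-schemes indexed by a nonempty directed preordered set, with every Z_λ
an affine scheme, the functor Hom_S(-, X) takes the limit of the system to the colimit of the
Hom_S(Z_λ, X) (the canonical map from the colimit is bijective). Then f is locally of finite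
presentation. -/
theorem result {X S : Scheme.{u}} (f : X ⟶ S)
    (h : ∀ (U : S.Opens), IsAffineOpen U →
      ∀ (J : Type u) [Preorder J] [IsDirected J (· ≤ ·)] [Nonempty J] (Z : Jᵒᵖ ⥤ Over (U : Scheme.{u})),
      (∀ j, IsAffine (Z.obj j).left) →
      Limits.PreservesColimit (Z ⋙ Over.map U.ι).op (yoneda.obj (Over.mk f))) :
    LocallyOfFinitePresentation f := by
  apply Groth.Agent.Lib.helper9.FPColim.locallyOfFinitePresentation_of_liftProp
  intro V hV J _ _ _ F α c hc φ hφ g hg
  let D : Jᵒᵖ ⥤ Scheme.{u} := F.op ⋙ Scheme.Spec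
  let s : D ⟶ (Functor.const Jᵒᵖ).obj (V : Scheme.{u}) :=
    { app := fun j => Spec.map (α.app j.unop) ≫ hV.isoSpec.inv
      naturality := fun j j' m => by
        have h1 := α.naturality m.unop
        simp only [Functor.const_obj_obj, Functor.const_obj_map, Category.id_comp] at h1
        show Spec.map (F.map m.unop) ≫ Spec.map (α.app j'.unop) ≫ hV.isoSpec.inv =
          (Spec.map (α.app j.unop) ≫ hV.isoSpec.inv) ≫ 𝟙 _
        rw [Category.comp_id, ← Spec.map_comp_assoc, ← h1] }
  let Z : Jᵒᵖ ⥤ Over (V : Scheme.{u}) := Over.lift D s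
  have hpres := h V hV J Z (fun j => by show IsAffine (Spec _); infer_instance)
  have hfs : hV.fromSpec = hV.isoSpec.inv ≫ V.ι := rfl
  let cK : Limits.Cone (Z ⋙ Over.map V.ι) :=
    { pt := Over.mk (Spec.map φ ≫ hV.fromSpec)
      π :=
        { app := fun j => Over.homMk (Spec.map (c.ι.app j.unop)) (by
            show Spec.map (c.ι.app j.unop) ≫ (Spec.map (α.app j.unop) ≫ hV.isoSpec.inv) ≫ V.ι =
              Spec.map φ ≫ hV.fromSpec
            rw [Category.assoc, ← hfs, ← Spec.map_comp_assoc, hφ])
          naturality := fun j j' m => by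
            apply Over.OverMorphism.ext
            show 𝟙 _ ≫ Spec.map (c.ι.app j'.unop) =
              Spec.map (c.ι.app j.unop) ≫ Spec.map (F.map m.unop)
            rw [Category.id_comp, ← Spec.map_comp, c.w] } }
  have hcK : Limits.IsLimit cK := by
    haveI : IsConnected Jᵒᵖ := IsCofiltered.isConnected Jᵒᵖ
    refine Limits.isLimitOfReflects (Over.forget S) ?_
    exact Limits.isLimitOfPreserves Scheme.Spec hc.op
  have hcol := Limits.isColimitOfPreserves (yoneda.obj (Over.mk f)) hcK.op
  obtain ⟨j, x, hx⟩ := Limits.Types.jointly_surjective_of_isColimit hcol (Over.homMk g hg)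
  refine ⟨j.unop.unop, x.left, ?_, ?_⟩
  · have h2 := Over.w x
    rw [hfs, ← Category.assoc]
    exact h2
  · exact congrArg CommaMorphism.left hx

end Groth.Agent.S4778
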