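import Groth.Statements.S4779
-- import your own Groth.Agent.* helpers here
import Groth.Agent.Lib.Helper9.OpenImmDescend

set_option autoImplicit false
universe u
open CategoryTheory AlgebraicGeometry
open Lim8

namespace Groth.Agent.S4779

/-- Let S = lim S_i be a cofiltered limit of schemes with affine transition maps, let f₀ : X₀ ⟶ Y₀ be a
morphism of schemes over a stage S_{i₀}, and let f : X ⟶ Y be its base change along S ⟶ S_{i₀} (all
base changes are expressed by pullback squares). If there is an index i over i₀ such that, for every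
j over i, the base change f_j : X_j ⟶ Y_j of f₀ along S_j ⟶ S_{i₀} is an open map, then f is an open
map. (The corresponding statement for universally open morphisms follows from this one by base
change.) -/
theorem result {I : Type u} [SmallCategory I] [IsCofiltered I]
    (D : I ⥤ Scheme.{u}) (c : Limits.Cone D) (hc : Limits.IsLimit c)
    [∀ (i j : I) (f : i ⟶ j), IsAffineHom (D.map f)] (i₀ : I)
    {X₀ Y₀ : Scheme.{u}} (f₀ : X₀ ⟶ Y₀) (g₀ : Y₀ ⟶ D.obj i₀)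
    {X Y : Scheme.{u}} (f : X ⟶ Y) (g : Y ⟶ c.pt) (qY : Y ⟶ Y₀) (qX : X ⟶ X₀)
    (hY : IsPullback qY g g₀ (c.π.app i₀)) (hX : IsPullback qX f f₀ qY)
    (h : ∃ (i : I) (φ : i ⟶ i₀), ∀ (j : I) (ψ : j ⟶ i) (Xj Yj : Scheme.{u}) (fj : Xj ⟶ Yj)
      (gj : Yj ⟶ D.obj j) (pY : Yj ⟶ Y₀) (pX : Xj ⟶ X₀),
      IsPullback pY gj g₀ (D.map (ψ ≫ φ)) → IsPullback pX fj f₀ pY → IsOpenMap ⇑fj) :
    IsOpenMap ⇑f := by
  classical
  obtain ⟨i, φ, hi⟩ := h
  let DX := Groth.Agent.Lib.helper9.bcDiagram D i₀ (f₀ ≫ g₀)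
  let cX := Groth.Agent.Lib.helper9.bcCone D c i₀ (f₀ ≫ g₀)
  have hcX : Limits.IsLimit cX := Groth.Agent.Lib.helper9.isLimitBcCone D c i₀ (f₀ ≫ g₀) hc
  have hDX : ∀ {j j' : Over i₀} (m : j ⟶ j'), IsAffineHom (DX.map m) := fun m =>
    (inferInstance : IsAffineHom ((Groth.Agent.Lib.helper9.bcDiagram D i₀ (f₀ ≫ g₀)).map m))
  have HX : IsPullback qX (f ≫ g) (f₀ ≫ g₀) (c.π.app i₀) := hX.paste_vert hY
  let e := HX.flip.isoPullback
  have he1 : e.hom ≫ Limits.pullback.fst (c.π.app i₀) (f₀ ≫ g₀) = f ≫ g :=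
    HX.flip.isoPullback_hom_fst
  have he2 : e.hom ≫ Limits.pullback.snd (c.π.app i₀) (f₀ ≫ g₀) = qX :=
    HX.flip.isoPullback_hom_snd
  intro U hU
  rw [isOpen_iff_forall_mem_open]
  rintro _ ⟨x, hxU, rfl⟩
  let U' : cX.pt.Opens := e.inv ⁻¹ᵁ ⟨U, hU⟩
  have hx' : e.hom x ∈ U' := by
    show e.inv (e.hom x) ∈ U
    rw [← Scheme.Hom.comp_apply, e.hom_inv_id]
    exact hxU
  obtain ⟨_, ⟨j, V, hV, rfl⟩, hxV, hVU⟩ := TopologicalSpace.Opens.isBasis_iff_nbhd.mp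
    (isBasis_preimage_isAffineOpen DX cX hcX) hx'
  let j' : Over i₀ := IsCofiltered.min j (Over.mk φ)
  let a : j' ⟶ j := IsCofiltered.minToLeft _ _
  let b : j' ⟶ Over.mk φ := IsCofiltered.minToRight _ _
  -- rebase to the stage `j'`
  have hqY'cond : (g ≫ c.π.app j'.left) ≫ D.map j'.hom = qY ≫ g₀ := by
    rw [Category.assoc, c.w, hY.w]
  let qY' : Y ⟶ Limits.pullback (D.map j'.hom) g₀ := Limits.pullback.lift _ _ hqY'cond
  have hqY'1 : qY' ≫ Limits.pullback.fst (D.map j'.hom) g₀ = g ≫ c.π.app j'.left :=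
    Limits.pullback.lift_fst _ _ _
  have hqY'2 : qY' ≫ Limits.pullback.snd (D.map j'.hom) g₀ = qY := Limits.pullback.lift_snd _ _ _
  have hqX'cond : ((f ≫ g) ≫ c.π.app j'.left) ≫ D.map j'.hom = qX ≫ f₀ ≫ g₀ := by
    rw [Category.assoc, c.w, HX.w]
  let qX' : X ⟶ Limits.pullback (D.map j'.hom) (f₀ ≫ g₀) := Limits.pullback.lift _ _ hqX'cond
  have hqX'1 : qX' ≫ Limits.pullback.fst (D.map j'.hom) (f₀ ≫ g₀) = (f ≫ g) ≫ c.π.app j'.left :=
    Limits.pullback.lift_fst _ _ _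
  have hqX'2 : qX' ≫ Limits.pullback.snd (D.map j'.hom) (f₀ ≫ g₀) = qX :=
    Limits.pullback.lift_snd _ _ _
  have hk1 : qX' ≫ Groth.Agent.Lib.helper9.stageMap (D.map j'.hom) f₀ g₀ = f ≫ qY' := by
    apply Limits.pullback.hom_ext
    · rw [Category.assoc, Category.assoc, Groth.Agent.Lib.helper9.stageMap_fst, hqX'1, hqY'1,
        Category.assoc]
    · rw [Category.assoc, Category.assoc, Groth.Agent.Lib.helper9.stageMap_snd,
        reassoc_of% hqX'2, hqY'2, hX.w]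
  have hX' : IsPullback qX' f (Groth.Agent.Lib.helper9.stageMap (D.map j'.hom) f₀ g₀) qY' :=
    Groth.Agent.Lib.helper9.isPullback_rebase_top hX qY' hqY'2 qX' hk1 hqX'2
  -- `qX'` is the projection of the limit
  let πj' : Limits.pullback (c.π.app i₀) (f₀ ≫ g₀) ⟶ Limits.pullback (D.map j'.hom) (f₀ ≫ g₀) :=
    cX.π.app j'
  let πj : Limits.pullback (c.π.app i₀) (f₀ ≫ g₀) ⟶ Limits.pullback (D.map j.hom) (f₀ ≫ g₀) :=
    cX.π.app j
  let Ta : Limits.pullback (D.map j'.hom) (f₀ ≫ g₀) ⟶ Limits.pullback (D.map j.hom) (f₀ ≫ g₀) :=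
    DX.map a
  have hw : πj' ≫ Ta = πj := cX.w a
  have hπj'1 : πj' ≫ Limits.pullback.fst (D.map j'.hom) (f₀ ≫ g₀) =
      Limits.pullback.fst (c.π.app i₀) (f₀ ≫ g₀) ≫ c.π.app j'.left :=
    Limits.pullback.lift_fst _ _ _
  have hπj'2 : πj' ≫ Limits.pullback.snd (D.map j'.hom) (f₀ ≫ g₀) =
      Limits.pullback.snd (c.π.app i₀) (f₀ ≫ g₀) :=
    Groth.Agent.Lib.helper9.bcCone_π_snd D c i₀ (f₀ ≫ g₀) j'
  have hqX'e : e.hom ≫ πj' = qX' := by
    apply Limits.pullback.hom_ext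
    · rw [hqX'1, Category.assoc, hπj'1, reassoc_of% he1, Category.assoc]
    · rw [hqX'2, Category.assoc, hπj'2, he2]
  have hm : qX' ≫ Ta = e.hom ≫ πj := by
    rw [← hqX'e, Category.assoc, hw]
  -- the stage map at `j'` is open
  have hb : b.left ≫ φ = j'.hom := Over.w b
  have hopen : IsOpenMap ⇑(Groth.Agent.Lib.helper9.stageMap (D.map j'.hom) f₀ g₀) := by
    refine hi j'.left b.left _ _ (Groth.Agent.Lib.helper9.stageMap (D.map j'.hom) f₀ g₀)
      (Limits.pullback.fst (D.map j'.hom) g₀) (Limits.pullback.snd (D.map j'.hom) g₀)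
      (Limits.pullback.snd (D.map j'.hom) (f₀ ≫ g₀)) ?_
      (Groth.Agent.Lib.helper9.isPullback_stageMap (D.map j'.hom) f₀ g₀)
    rw [hb]
    exact Groth.Agent.Lib.helper9.isPullback_stage_base (D.map j'.hom) g₀
  let V' : (Limits.pullback (D.map j'.hom) (f₀ ≫ g₀)).Opens := Ta ⁻¹ᵁ V
  have hmem : ∀ z : X, qX' z ∈ V' ↔ e.hom z ∈ cX.π.app j ⁻¹ᵁ V := by
    intro z
    have h1 : Ta (qX' z) = πj (e.hom z) := by
      have e1 := Scheme.Hom.comp_apply qX' Ta z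
      have e2 := Scheme.Hom.comp_apply e.hom πj z
      rw [← e1, ← e2, hm]
    show Ta (qX' z) ∈ V ↔ πj (e.hom z) ∈ V
    rw [h1]
  refine ⟨⇑qY' ⁻¹' (⇑(Groth.Agent.Lib.helper9.stageMap (D.map j'.hom) f₀ g₀) '' V'.1),
    ?_, (hopen _ V'.2).preimage qY'.continuous, ?_⟩
  · rintro y ⟨v, hv, hvy⟩
    obtain ⟨z, hz1, hz2⟩ := Groth.Agent.Lib.helper9.exists_preimage_of_isPullback hX' v y hvy
    refine ⟨z, ?_, hz2⟩
    have hzV : e.hom z ∈ cX.π.app j ⁻¹ᵁ V := (hmem z).mp (hz1 ▸ hv)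
    have hzU : e.hom z ∈ U' := hVU hzV
    have : e.inv (e.hom z) ∈ U := hzU
    rwa [← Scheme.Hom.comp_apply, e.hom_inv_id] at this
  · refine ⟨qX' x, (hmem x).mpr hxV, ?_⟩
    rw [← Scheme.Hom.comp_apply, hk1, Scheme.Hom.comp_apply]

end Groth.Agent.S4779
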