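import Groth.Statements.S4785
-- import your own Groth.Agent.* helpers here
import Groth.Agent.S4764
import Groth.Agent.Lib.Helper9.FlatMonoStalk

set_option autoImplicit false
universe u
open CategoryTheory AlgebraicGeometry
open Lim8

namespace Groth.Agent.S4785

/-- Let S = lim S_i be a cofiltered limit of schemes whose transition maps are open immersions, so that
each S_j with j over i is an open subscheme of S_i. Then, for every index i, the projection S ⟶ S_i
is a topological embedding and every stalk map O_{S_i, π(s)} ⟶ O_{S, s} is an isomorphism; that is,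
S is the subspace ⋂_j S_j of S_i with the induced structure sheaf. -/
theorem result {I : Type u} [SmallCategory I] [IsCofiltered I]
    (D : I ⥤ Scheme.{u}) (c : Limits.Cone D) (hc : Limits.IsLimit c)
    [∀ (i j : I) (f : i ⟶ j), IsAffineHom (D.map f)]
    (hoi : ∀ (i j : I) (φ : i ⟶ j), IsOpenImmersion (D.map φ)) (i : I) :
    Topology.IsEmbedding ⇑(c.π.app i) ∧ ∀ s : c.pt, IsIso ((c.π.app i).stalkMap s) := by
  have hD : ∀ {i j : I} (f : i ⟶ j), IsAffineHom (D.map f) := fun f => inferInstance
  have hoi' : ∀ {i j : I} (φ : i ⟶ j), IsOpenImmersion (D.map φ) := fun φ => hoi _ _ φ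
  -- the projection is a monomorphism
  have hmono : Mono (c.π.app i) := by
    constructor
    intro T a b hab
    apply hc.hom_ext
    intro j
    let k : I := IsCofiltered.min j i
    let p : k ⟶ j := IsCofiltered.minToLeft j i
    let q : k ⟶ i := IsCofiltered.minToRight j i
    have hk : a ≫ c.π.app k = b ≫ c.π.app k := by
      have : Mono (D.map q) := inferInstance
      rw [← cancel_mono (D.map q), Category.assoc, Category.assoc, c.w q]
      exact hab
    rw [← c.w p, reassoc_of% hk]
  -- the projection is flat
  have hflat : Flat (c.π.app i) :=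
    Groth.Agent.S4764.result D c hc i (fun j φ => inferInstance)
  refine ⟨⟨?_, (c.π.app i).injective⟩, fun s =>
    Groth.Agent.Lib.helper9.isIso_stalkMap_of_flat_of_mono (c.π.app i) s⟩
  -- the topology is induced
  rw [Topology.isInducing_iff]
  apply TopologicalSpace.ext
  funext U
  apply propext
  rw [isOpen_induced_iff]
  constructor
  · intro hU
    -- for each point of `U` an open of `S_i` whose preimage is a neighbourhood inside `U`
    have hloc : ∀ x ∈ U, ∃ V : Set (D.obj i), IsOpen V ∧ x ∈ ⇑(c.π.app i) ⁻¹' V ∧
        ⇑(c.π.app i) ⁻¹' V ⊆ U := by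
      intro x hxU
      obtain ⟨_, ⟨j, V, hV, rfl⟩, hxV, hVU⟩ := TopologicalSpace.Opens.isBasis_iff_nbhd.mp
        (isBasis_preimage_isAffineOpen D c hc) (U := ⟨U, hU⟩) hxU
      let k : I := IsCofiltered.min j i
      let p : k ⟶ j := IsCofiltered.minToLeft j i
      let q : k ⟶ i := IsCofiltered.minToRight j i
      let V' : (D.obj k).Opens := D.map p ⁻¹ᵁ V
      have hpre : ⇑(c.π.app i) ⁻¹' (⇑(D.map q) '' V'.1) = ⇑(c.π.app j) ⁻¹' V.1 := by
        ext s
        constructor
        · rintro ⟨v, hv, hvs⟩
          have h1 : D.map q (c.π.app k s) = c.π.app i s := by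
            rw [← Scheme.Hom.comp_apply, c.w q]
          have h2 : v = c.π.app k s := (D.map q).injective (hvs.trans h1.symm)
          have h3 : D.map p (c.π.app k s) ∈ V := h2 ▸ hv
          rwa [← Scheme.Hom.comp_apply, c.w p] at h3
        · intro hs
          refine ⟨c.π.app k s, ?_, ?_⟩
          · show D.map p (c.π.app k s) ∈ V
            rw [← Scheme.Hom.comp_apply, c.w p]
            exact hs
          · rw [← Scheme.Hom.comp_apply, c.w q]
      refine ⟨⇑(D.map q) '' V'.1, (D.map q).isOpenEmbedding.isOpenMap _ V'.2, ?_, ?_⟩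
      · rw [hpre]
        exact hxV
      · rw [hpre]
        exact hVU
    choose V hVo hxV hVU using hloc
    refine ⟨⋃ x : U, V x.1 x.2, isOpen_iUnion fun x => hVo x.1 x.2, ?_⟩
    rw [Set.preimage_iUnion]
    apply le_antisymm
    · exact Set.iUnion_subset fun x => hVU x.1 x.2
    · intro x hx
      exact Set.mem_iUnion.mpr ⟨⟨x, hx⟩, hxV x hx⟩
  · rintro ⟨V, hV, rfl⟩
    exact hV.preimage (c.π.app i).continuous

end Groth.Agent.S4785
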