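import Groth.Statements.S4782
-- import your own Groth.Agent.* helpers here
import Groth.Agent.S4785
import Groth.Agent.Lib.Helper9.LimProCons
import Groth.Agent.Lib.Helper9.ReducedLocus

set_option autoImplicit false
universe u
open CategoryTheory AlgebraicGeometry
open Lim8

namespace Groth.Agent.S4782

open Groth.Agent.Lib.helper9

/-- Let S = lim S_i be a cofiltered limit of schemes whose transition maps are open immersions (in
particular affine), and let S_{i₀} be a quasi-compact stage whose nilradical is an ideal of finite
type, i.e. for every affine open U of S_{i₀} the nilradical of Γ(S_{i₀}, U) is finitely generated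
(automatic when S_{i₀} is Noetherian). Then S is reduced if and only if there is an index i over i₀
such that S_j is reduced for every j over i. -/
theorem result {I : Type u} [SmallCategory I] [IsCofiltered I]
    (D : I ⥤ Scheme.{u}) (c : Limits.Cone D) (hc : Limits.IsLimit c)
    [∀ (i j : I) (f : i ⟶ j), IsAffineHom (D.map f)] (i₀ : I)
    [CompactSpace (D.obj i₀)] (hoi : ∀ (i j : I) (φ : i ⟶ j), IsOpenImmersion (D.map φ))
    (hN : ∀ U : (D.obj i₀).affineOpens, (nilradical Γ(D.obj i₀, U)).FG) :
    IsReduced c.pt ↔ ∃ (i : I) (_ : i ⟶ i₀), ∀ (j : I) (_ : j ⟶ i), IsReduced (D.obj j) := by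
  classical
  have hD' : ∀ {i j : I} (f : i ⟶ j), IsAffineHom (D.map f) := fun f => inferInstance
  constructor
  · intro hred
    let Z : Set (D.obj i₀) := {x | ¬ _root_.IsReduced ((D.obj i₀).presheaf.stalk x)}
    have hZcl : IsClosed Z := by
      rw [← isOpen_compl_iff]
      have hZc : Zᶜ = {x | _root_.IsReduced ((D.obj i₀).presheaf.stalk x)} := by
        ext x
        simp only [Z, Set.mem_compl_iff, Set.mem_ofPred_eq, not_not]
      rw [hZc]
      exact isOpen_setOf_isReduced_stalk (D.obj i₀) hN
    have hempty : ⇑(c.π.app i₀) ⁻¹' Z = ∅ := by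
      rw [Set.eq_empty_iff_forall_notMem]
      intro (s : c.pt) hs
      apply hs
      have hiso := (Groth.Agent.S4785.result D c hc hoi i₀).2 s
      have hrs : _root_.IsReduced (c.pt.presheaf.stalk s) := inferInstance
      let φ : ((D.obj i₀).presheaf.stalk ((c.π.app i₀) s) : Type u) →+*
          (c.pt.presheaf.stalk s : Type u) := ((c.π.app i₀).stalkMap s).hom
      have hφ : Function.Injective φ := ((ConcreteCategory.isIso_iff_bijective _).mp hiso).1
      exact isReduced_of_injective φ hφ
    obtain ⟨l, ψ, hl⟩ := exists_preimage_map_eq_empty D c hc i₀ Z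
      (isProConstructible_of_isClosed hZcl) hempty
    refine ⟨l, ψ, fun j b => ?_⟩
    have hst : ∀ x : D.obj j, _root_.IsReduced ((D.obj j).presheaf.stalk x) := by
      intro x
      have hoi' := hoi j i₀ (b ≫ ψ)
      have hnotZ : (D.map (b ≫ ψ)) x ∉ Z := by
        intro hx
        have hmem : D.map b x ∈ ⇑(D.map ψ) ⁻¹' Z := by
          show D.map ψ (D.map b x) ∈ Z
          rw [← Scheme.Hom.comp_apply, ← D.map_comp]; exact hx
        rw [hl] at hmem; exact hmem
      have hred' : _root_.IsReduced ((D.obj i₀).presheaf.stalk (D.map (b ≫ ψ) x)) :=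
        not_not.mp hnotZ
      have hiso : IsIso ((D.map (b ≫ ψ)).stalkMap x) := inferInstance
      exact isReduced_of_injective (inv ((D.map (b ≫ ψ)).stalkMap x)).hom
        ((ConcreteCategory.isIso_iff_bijective _).mp inferInstance).1
    exact isReduced_of_isReduced_stalk _
  · rintro ⟨i, a, H⟩
    have hri := H i (𝟙 i)
    have hst : ∀ s : c.pt, _root_.IsReduced (c.pt.presheaf.stalk s) := by
      intro s
      have hiso := (Groth.Agent.S4785.result D c hc hoi i).2 s
      exact isReduced_of_injective (inv ((c.π.app i).stalkMap s)).hom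
        ((ConcreteCategory.isIso_iff_bijective _).mp inferInstance).1
    exact isReduced_of_isReduced_stalk _

end Groth.Agent.S4782
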