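import Groth.Statements.S4841
-- import your own Groth.Agent.* helpers here
import Groth.Agent.Lib.Helper9.LimComponents
import Groth.Agent.Lib.Helper9.LimEmbDense

set_option autoImplicit false
universe u
open CategoryTheory AlgebraicGeometry
open Lim8

namespace Groth.Agent.S4841

open Groth.Agent.Lib.helper9

/-- Let S = lim S_i be a cofiltered limit of schemes whose transition maps are affine and topological
embeddings (homeomorphisms onto subspaces), some stage S_{i₀} having Noetherian underlying space,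
and assume that the underlying space of S is Noetherian. Then there is an index i over i₀ such that,
for every j over i, the map sending an irreducible component Y of S to the closure of its image
under S ⟶ S_j is a bijection from the set of irreducible components of S onto the set of irreducible
components of S_j. -/
theorem result {I : Type u} [SmallCategory I] [IsCofiltered I]
    (D : I ⥤ Scheme.{u}) (c : Limits.Cone D) (hc : Limits.IsLimit c)
    [∀ (i j : I) (f : i ⟶ j), IsAffineHom (D.map f)] (i₀ : I)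
    [TopologicalSpace.NoetherianSpace (D.obj i₀)] [TopologicalSpace.NoetherianSpace c.pt]
    (he : ∀ (i j : I) (φ : i ⟶ j), Topology.IsEmbedding ⇑(D.map φ)) :
    ∃ (i : I) (_ : i ⟶ i₀), ∀ (j : I) (_ : j ⟶ i),
      Set.BijOn (fun Y : Set c.pt => closure (⇑(c.π.app j) '' (Y : Set c.pt) : Set (D.obj j)))
        (irreducibleComponents c.pt) (irreducibleComponents (D.obj j)) := by
  classical
  have hD' : ∀ {i j : I} (f : i ⟶ j), IsAffineHom (D.map f) := fun f => inferInstance
  have hB := isBasis_preimage_isAffineOpen D c hc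
  have hfin : (irreducibleComponents ↥c.pt).Finite :=
    TopologicalSpace.NoetherianSpace.finite_irreducibleComponents
  let T := irreducibleComponents ↥c.pt
  have hTfin : Fintype ↥T := hfin.fintype
  obtain ⟨i₁, a₁, hdense⟩ := exists_forall_denseRange_π_app_of_isInducing D c hc i₀
    (fun i j φ => (he i j φ).isInducing)
  -- separating opens at some stage
  have hex : ∀ p : ↥T × ↥T, ∃ (i : I) (V : (D.obj i).Opens), p.1 ≠ p.2 →
      (((c.π.app i ⁻¹ᵁ V : c.pt.Opens) : Set ↥c.pt) ∩ p.1.1).Nonempty ∧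
        ((c.π.app i ⁻¹ᵁ V : c.pt.Opens) : Set ↥c.pt) ∩ p.2.1 = ∅ := by
    intro p
    by_cases hp : p.1 = p.2
    · exact ⟨i₀, ⊥, fun h => absurd hp h⟩
    · have hnsub : ¬ p.1.1 ⊆ p.2.1 := by
        intro hsub
        exact hp (Subtype.ext (le_antisymm hsub (p.1.2.2 p.2.2.1 hsub)))
      obtain ⟨y, hy1, hy2⟩ := Set.not_subset.mp hnsub
      have hcl : IsClosed p.2.1 := isClosed_of_mem_irreducibleComponents _ p.2.2
      obtain ⟨_, ⟨_, ⟨i, V, hV, rfl⟩, rfl⟩, hyV, hVsub⟩ :=
        TopologicalSpace.IsTopologicalBasis.exists_subset_of_mem_open hB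
          (show y ∈ (p.2.1)ᶜ from hy2) hcl.isOpen_compl
      refine ⟨i, V, fun _ => ⟨⟨y, hyV, hy1⟩, ?_⟩⟩
      rw [Set.eq_empty_iff_forall_notMem]
      rintro z ⟨hz1, hz2⟩
      exact hVsub hz1 hz2
  choose ι V hV using hex
  obtain ⟨i, hi⟩ := IsCofiltered.inf_objs_exists (insert i₁ (Finset.univ.image ι))
  have a₀ : i ⟶ i₁ := (hi (by simp)).some
  have a : ∀ p : ↥T × ↥T, i ⟶ ι p := fun p => (hi (by simp)).some
  refine ⟨i, a₀ ≫ a₁, fun j b => ?_⟩
  refine bijOn_irreducibleComponents_closure_image (fun x => (c.π.app j).base x)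
    (c.π.app j).continuous (hdense j (b ≫ a₀)) hfin ?_
  intro Y hY Y' hY' hne
  let p : ↥T × ↥T := (⟨Y, hY⟩, ⟨Y', hY'⟩)
  have hp : p.1 ≠ p.2 := fun h => hne (congrArg Subtype.val h)
  obtain ⟨h1, h2⟩ := hV p hp
  have hpre : (fun x => (c.π.app j).base x) ⁻¹' ((D.map (b ≫ a p) ⁻¹ᵁ V p : (D.obj j).Opens) :
      Set ↥(D.obj j)) = ((c.π.app (ι p) ⁻¹ᵁ V p : c.pt.Opens) : Set ↥c.pt) := by
    ext x
    show (D.map (b ≫ a p)).base ((c.π.app j).base x) ∈ V p ↔ (c.π.app (ι p)).base x ∈ V p
    rw [← Scheme.Hom.comp_apply, c.w]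
  refine ⟨((D.map (b ≫ a p) ⁻¹ᵁ V p : (D.obj j).Opens) : Set ↥(D.obj j)),
    (D.map (b ≫ a p) ⁻¹ᵁ V p).isOpen, ?_, ?_⟩
  · rw [hpre]; exact h1
  · rw [hpre]; exact h2

end Groth.Agent.S4841
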