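import Groth.Statements.S4783
-- import your own Groth.Agent.* helpers here
import Groth.Agent.S4785
import Groth.Agent.S4841
import Groth.Agent.S4782

set_option autoImplicit false
universe u
open CategoryTheory AlgebraicGeometry
open Lim8

namespace Groth.Agent.S4783

/-- Let S = lim S_i be a cofiltered limit of schemes whose transition maps are open immersions (in
particular affine), and let S_{i₀} be a Noetherian stage. Then S is integral if and only if there is
an index i over i₀ such that S_j is integral for every j over i. -/
theorem result {I : Type u} [SmallCategory I] [IsCofiltered I]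
    (D : I ⥤ Scheme.{u}) (c : Limits.Cone D) (hc : Limits.IsLimit c)
    [∀ (i j : I) (f : i ⟶ j), IsAffineHom (D.map f)] (i₀ : I)
    [IsNoetherian (D.obj i₀)] (hoi : ∀ (i j : I) (φ : i ⟶ j), IsOpenImmersion (D.map φ)) :
    IsIntegral c.pt ↔ ∃ (i : I) (_ : i ⟶ i₀), ∀ (j : I) (_ : j ⟶ i), IsIntegral (D.obj j) := by
  classical
  have hD' : ∀ {i j : I} (f : i ⟶ j), IsAffineHom (D.map f) := fun f => inferInstance
  -- general topological facts
  have hsing : ∀ {T : Type u} [TopologicalSpace T] (Y : Set T), irreducibleComponents T = {Y} →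
      IrreducibleSpace T := by
    intro T _ Y hY
    have hYmem : Y ∈ irreducibleComponents T := by rw [hY]; exact Set.mem_singleton Y
    have hYuniv : Y = Set.univ := by
      rw [Set.eq_univ_iff_forall]
      intro x
      have hx := irreducibleComponent_mem_irreducibleComponents x
      rw [hY, Set.mem_singleton_iff] at hx
      rw [← hx]
      exact mem_irreducibleComponent
    have hirrU : IsIrreducible (Set.univ : Set T) := hYuniv ▸ hYmem.1
    exact (irreducibleSpace_def T).mpr hirrU
  -- Noetherian hypotheses
  have hN : ∀ U : (D.obj i₀).affineOpens, (nilradical Γ(D.obj i₀, U)).FG := by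
    intro U
    have hnoeth : IsNoetherianRing Γ(D.obj i₀, U) := IsLocallyNoetherian.component_noetherian U
    exact (isNoetherianRing_iff_ideal_fg _).mp hnoeth _
  have he : ∀ (i j : I) (φ : i ⟶ j), Topology.IsEmbedding ⇑(D.map φ) := fun i j φ =>
    have := hoi i j φ
    (D.map φ).isOpenEmbedding.isEmbedding
  have hnoethc : TopologicalSpace.NoetherianSpace c.pt :=
    (Groth.Agent.S4785.result D c hc hoi i₀).1.isInducing.noetherianSpace
  obtain ⟨ic, ac, hcomp⟩ := Groth.Agent.S4841.result D c hc i₀ he
  have hred := Groth.Agent.S4782.result D c hc i₀ hoi hN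
  constructor
  · intro hint
    have hirr : IrreducibleSpace c.pt := inferInstance
    obtain ⟨ir, ar, hr⟩ := hred.mp inferInstance
    refine ⟨IsCofiltered.min ir ic, IsCofiltered.minToLeft ir ic ≫ ar, fun j b => ?_⟩
    rw [isIntegral_iff_irreducibleSpace_and_isReduced]
    refine ⟨?_, hr j (b ≫ IsCofiltered.minToLeft ir ic)⟩
    have hbij := hcomp j (b ≫ IsCofiltered.minToRight ir ic)
    rw [irreducibleComponents_eq_singleton (X := c.pt)] at hbij
    have himg := hbij.image_eq
    rw [Set.image_singleton] at himg
    exact hsing _ himg.symm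
  · rintro ⟨i, a, H⟩
    rw [isIntegral_iff_irreducibleSpace_and_isReduced]
    refine ⟨?_, hred.mpr ⟨i, a, fun j b => ?_⟩⟩
    · let j := IsCofiltered.min i ic
      have hjint : IsIntegral (D.obj j) := H j (IsCofiltered.minToLeft i ic)
      have hbij := hcomp j (IsCofiltered.minToRight i ic)
      rw [irreducibleComponents_eq_singleton (X := D.obj j)] at hbij
      obtain ⟨Y, hY, hYuniv⟩ := hbij.surjOn (Set.mem_singleton _)
      refine hsing Y (Set.eq_singleton_iff_unique_mem.mpr ⟨hY, fun Y' hY' => ?_⟩)
      apply hbij.injOn hY' hY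
      have h1 := hbij.mapsTo hY'
      rw [Set.mem_singleton_iff] at h1
      exact h1.trans hYuniv.symm
    · have := H j b
      infer_instance

end Groth.Agent.S4783
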