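import Groth.Statements.S4786
-- import your own Groth.Agent.* helpers here
import Groth.Agent.S4764
import Groth.Agent.Lib.Helper9.LimProCons
import Groth.Agent.Lib.Helper9.ProConsImage
import Groth.Agent.Lib.Helper9.ProConsScheme
import Mathlib.AlgebraicGeometry.Morphisms.UniversallyOpen

set_option autoImplicit false
universe u
open CategoryTheory AlgebraicGeometry
open Lim8

namespace Groth.Agent.S4786

/-- Let S = lim S_i be a cofiltered limit of schemes whose transition maps are affine and flat, let
S_{i₁} be a quasi-compact stage, and let Z' and Z'' be pro-constructible subsets of S_{i₁} such that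
the closure of Z' is constructible. Then the preimage of Z'' in S is contained in the closure of the
preimage of Z' in S if and only if there is an index j over i₁ such that the preimage of Z'' in S_j
is contained in the closure of the preimage of Z' in S_j. -/
theorem result {I : Type u} [SmallCategory I] [IsCofiltered I]
    (D : I ⥤ Scheme.{u}) (c : Limits.Cone D) (hc : Limits.IsLimit c)
    [∀ (i j : I) (f : i ⟶ j), IsAffineHom (D.map f)] (i₁ : I) [CompactSpace (D.obj i₁)]
    (hfl : ∀ (i j : I) (φ : i ⟶ j), Flat (D.map φ))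
    (Z' Z'' : Set (D.obj i₁)) (hZ' : ProCons.IsProConstructible Z') (hZ'' : ProCons.IsProConstructible Z'')
    (hcl : Topology.IsConstructible (closure Z')) :
    (⇑(c.π.app i₁) ⁻¹' Z'' : Set c.pt) ⊆ closure (⇑(c.π.app i₁) ⁻¹' Z' : Set c.pt) ↔
      ∃ (j : I) (φ : j ⟶ i₁), ⇑(D.map φ) ⁻¹' Z'' ⊆ closure (⇑(D.map φ) ⁻¹' Z') := by
  classical
  -- for a flat morphism, the preimage of the closure of a pro-constructible set is the closure
  -- of the preimage
  have key : ∀ {T : Scheme.{u}} (p : T ⟶ D.obj i₁), Flat p →
      closure (⇑p ⁻¹' Z') = ⇑p ⁻¹' closure Z' := by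
    intro T p hp
    have hgen : GeneralizingMap ⇑p := Flat.generalizingMap p
    apply le_antisymm
    · exact (closure_minimal (Set.preimage_mono subset_closure)
        (isClosed_closure.preimage p.continuous))
    · intro t ht
      have ht' : p t ∈ closure Z' := ht
      rw [Groth.Agent.Lib.helper9.mem_closure_iff_of_isProConstructible hZ'] at ht'
      obtain ⟨z, hz, hsp⟩ := ht'
      obtain ⟨t', ht't, rfl⟩ := hgen hsp
      exact ht't.mem_closed isClosed_closure (subset_closure hz)
  -- the pro-constructible set `Z'' \ closure Z'`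
  let W : Set (D.obj i₁) := Z'' ∩ (closure Z')ᶜ
  have hW : ProCons.IsProConstructible W := by
    refine Groth.Agent.Lib.helper9.isProConstructible_inter hZ'' ?_
    have := Groth.Agent.Lib.helper9.isProConstructible_sInter_of_isConstructible
      (S := {(closure Z')ᶜ}) (fun s hs => by
        rw [Set.mem_singleton_iff.mp hs]
        exact hcl.compl)
    rwa [Set.sInter_singleton] at this
  have hsub : ∀ {T : Scheme.{u}} (p : T ⟶ D.obj i₁), Flat p →
      (⇑p ⁻¹' Z'' ⊆ closure (⇑p ⁻¹' Z') ↔ ⇑p ⁻¹' W = ∅) := by
    intro T p hp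
    rw [key p hp, Set.eq_empty_iff_forall_notMem]
    constructor
    · intro h t ht
      exact ht.2 (h ht.1)
    · intro h t ht
      by_contra hcon
      exact h t ⟨ht, hcon⟩
  have hπ : Flat (c.π.app i₁) := Groth.Agent.S4764.result D c hc i₁ (fun j φ => hfl j i₁ φ)
  rw [hsub (c.π.app i₁) hπ]
  constructor
  · intro h
    obtain ⟨l, ψ, hl⟩ := Groth.Agent.Lib.helper9.exists_preimage_map_eq_empty D c hc i₁ W hW h
    exact ⟨l, ψ, (hsub (D.map ψ) (hfl l i₁ ψ)).mpr hl⟩
  · rintro ⟨j, φ, h⟩
    have hj := (hsub (D.map φ) (hfl j i₁ φ)).mp h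
    rw [Set.eq_empty_iff_forall_notMem] at hj ⊢
    intro s hs
    apply hj (c.π.app j s)
    show D.map φ (c.π.app j s) ∈ W
    rw [← Scheme.Hom.comp_apply, c.w φ]
    exact hs

end Groth.Agent.S4786
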