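import Groth.Statements.S4795
-- import your own Groth.Agent.* helpers here
import Groth.Agent.Lib.Helper9.ClosedImmDescend
import Groth.Agent.S9218

set_option autoImplicit false
universe u
open CategoryTheory AlgebraicGeometry
open Lim8

namespace Groth.Agent.S4795

/-- Let S = lim S_i be a cofiltered limit of schemes with affine transition maps and S_{i₀} a
quasi-compact quasi-separated stage; let X₀ and Y₀ be schemes of finite presentation over S_{i₀},
and let X, Y be their base changes along S ⟶ S_{i₀} (base changes are expressed by pullback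
squares). Then X and Y are isomorphic over S if and only if, for some index j over i₀, the base
changes X_j and Y_j of X₀ and Y₀ along S_j ⟶ S_{i₀} are isomorphic over S_j. -/
theorem result {I : Type u} [SmallCategory I] [IsCofiltered I]
    (D : I ⥤ Scheme.{u}) (c : Limits.Cone D) (hc : Limits.IsLimit c)
    [∀ (i j : I) (f : i ⟶ j), IsAffineHom (D.map f)] (i₀ : I)
    [CompactSpace (D.obj i₀)] [QuasiSeparatedSpace (D.obj i₀)]
    {X₀ Y₀ : Scheme.{u}} (a₀ : X₀ ⟶ D.obj i₀) (b₀ : Y₀ ⟶ D.obj i₀)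
    [LocallyOfFinitePresentation a₀] [QuasiCompact a₀] [QuasiSeparated a₀]
    [LocallyOfFinitePresentation b₀] [QuasiCompact b₀] [QuasiSeparated b₀]
    {X Y : Scheme.{u}} (a : X ⟶ c.pt) (b : Y ⟶ c.pt) (qX : X ⟶ X₀) (qY : Y ⟶ Y₀)
    (hX : IsPullback qX a a₀ (c.π.app i₀)) (hY : IsPullback qY b b₀ (c.π.app i₀)) :
    (∃ e : X ≅ Y, e.hom ≫ b = a) ↔
      ∃ (j : I) (φ : j ⟶ i₀) (Xj Yj : Scheme.{u}) (aj : Xj ⟶ D.obj j) (bj : Yj ⟶ D.obj j)
        (pX : Xj ⟶ X₀) (pY : Yj ⟶ Y₀), IsPullback pX aj a₀ (D.map φ) ∧ IsPullback pY bj b₀ (D.map φ) ∧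
        ∃ e : Xj ≅ Yj, e.hom ≫ bj = aj := by
  have hX₀c : CompactSpace X₀ := QuasiCompact.compactSpace_of_compactSpace a₀
  have hX₀s : QuasiSeparatedSpace X₀ := quasiSeparatedSpace_of_quasiSeparated a₀
  have hY₀c : CompactSpace Y₀ := QuasiCompact.compactSpace_of_compactSpace b₀
  have hY₀s : QuasiSeparatedSpace Y₀ := quasiSeparatedSpace_of_quasiSeparated b₀
  constructor
  · rintro ⟨e, he⟩
    obtain ⟨j, φ, fj, sX, sY, h1, h2, h3, h4, h5, h6⟩ :=
      Groth.Agent.S9218.result D c hc i₀ a₀ b₀ qX a hX qY b hY e.hom he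
    -- the squares at the stage `j`
    have hYj : IsPullback sY b (Limits.pullback.snd b₀ (D.map φ)) (c.π.app j) := by
      refine IsPullback.of_right ?_ h5 (IsPullback.of_hasPullback b₀ (D.map φ))
      rw [h4, c.w]
      exact hY
    have hXj : IsPullback sX a (Limits.pullback.snd a₀ (D.map φ)) (c.π.app j) := by
      refine IsPullback.of_right ?_ h3 (IsPullback.of_hasPullback a₀ (D.map φ))
      rw [h2, c.w]
      exact hX
    have hXj' : IsPullback sX e.hom fj sY := by
      refine IsPullback.of_bot ?_ h6 hYj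
      rw [he, h1]
      exact hXj
    have hiso : IsIso (Groth.Agent.Lib.helper9.stageMap (c.π.app j) fj
        (Limits.pullback.snd b₀ (D.map φ))) :=
      (Groth.Agent.Lib.helper9.stageMap_iff_of_isPullback
        (MorphismProperty.isomorphisms Scheme.{u}) hYj hXj').mpr (inferInstance : IsIso e.hom)
    have : IsAffineHom (D.map φ) := inferInstance
    have : IsAffineHom (Limits.pullback.fst a₀ (D.map φ)) :=
      MorphismProperty.pullback_fst (P := @IsAffineHom) _ _ inferInstance
    have : IsAffineHom (Limits.pullback.fst b₀ (D.map φ)) :=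
      MorphismProperty.pullback_fst (P := @IsAffineHom) _ _ inferInstance
    have : CompactSpace ↥(Limits.pullback a₀ (D.map φ)) :=
      QuasiCompact.compactSpace_of_compactSpace (Limits.pullback.fst a₀ (D.map φ))
    have : QuasiSeparatedSpace ↥(Limits.pullback a₀ (D.map φ)) :=
      quasiSeparatedSpace_of_quasiSeparated (Limits.pullback.fst a₀ (D.map φ))
    have : CompactSpace ↥(Limits.pullback b₀ (D.map φ)) :=
      QuasiCompact.compactSpace_of_compactSpace (Limits.pullback.fst b₀ (D.map φ))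
    have : QuasiSeparatedSpace ↥(Limits.pullback b₀ (D.map φ)) :=
      quasiSeparatedSpace_of_quasiSeparated (Limits.pullback.fst b₀ (D.map φ))
    have : LocallyOfFinitePresentation (fj ≫ Limits.pullback.snd b₀ (D.map φ)) := by
      rw [h1]
      infer_instance
    have : LocallyOfFiniteType (Limits.pullback.snd b₀ (D.map φ)) := inferInstance
    obtain ⟨l, hl⟩ := Groth.Agent.Lib.helper9.exists_isIso_stageMap D c hc j fj
      (Limits.pullback.snd b₀ (D.map φ))
    refine ⟨l.left, l.hom ≫ φ, _, _,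
      Limits.pullback.fst (D.map l.hom) (fj ≫ Limits.pullback.snd b₀ (D.map φ)),
      Limits.pullback.fst (D.map l.hom) (Limits.pullback.snd b₀ (D.map φ)),
      Limits.pullback.snd (D.map l.hom) (fj ≫ Limits.pullback.snd b₀ (D.map φ)) ≫
        Limits.pullback.fst a₀ (D.map φ),
      Limits.pullback.snd (D.map l.hom) (Limits.pullback.snd b₀ (D.map φ)) ≫
        Limits.pullback.fst b₀ (D.map φ), ?_, ?_,
      asIso (Groth.Agent.Lib.helper9.stageMap (D.map l.hom) fj
        (Limits.pullback.snd b₀ (D.map φ))), ?_⟩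
    · rw [Functor.map_comp]
      have hsq : IsPullback (Limits.pullback.fst a₀ (D.map φ))
          (fj ≫ Limits.pullback.snd b₀ (D.map φ)) a₀ (D.map φ) :=
        h1.symm ▸ IsPullback.of_hasPullback a₀ (D.map φ)
      exact (Groth.Agent.Lib.helper9.isPullback_stage_base (D.map l.hom)
        (fj ≫ Limits.pullback.snd b₀ (D.map φ))).paste_horiz hsq
    · rw [Functor.map_comp]
      exact (Groth.Agent.Lib.helper9.isPullback_stage_base (D.map l.hom)
        (Limits.pullback.snd b₀ (D.map φ))).paste_horiz (IsPullback.of_hasPullback b₀ (D.map φ))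
    · exact Groth.Agent.Lib.helper9.stageMap_fst _ _ _
  · rintro ⟨j, φ, Xj, Yj, aj, bj, pX, pY, hXj, hYj, e, he⟩
    -- `X` and `Y` are base changes of `X_j` and `Y_j`
    have hwX : qX ≫ a₀ = (a ≫ c.π.app j) ≫ D.map φ := by
      rw [Category.assoc, c.w, hX.w]
    have hwY : qY ≫ b₀ = (b ≫ c.π.app j) ≫ D.map φ := by
      rw [Category.assoc, c.w, hY.w]
    let sX : X ⟶ Xj := hXj.lift qX (a ≫ c.π.app j) hwX
    let sY : Y ⟶ Yj := hYj.lift qY (b ≫ c.π.app j) hwY
    have hsX1 : sX ≫ pX = qX := hXj.lift_fst _ _ _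
    have hsX2 : sX ≫ aj = a ≫ c.π.app j := hXj.lift_snd _ _ _
    have hsY1 : sY ≫ pY = qY := hYj.lift_fst _ _ _
    have hsY2 : sY ≫ bj = b ≫ c.π.app j := hYj.lift_snd _ _ _
    have hX' : IsPullback sX a aj (c.π.app j) := by
      refine IsPullback.of_right ?_ hsX2 hXj
      rw [hsX1, c.w]
      exact hX
    have hY' : IsPullback sY b bj (c.π.app j) := by
      refine IsPullback.of_right ?_ hsY2 hYj
      rw [hsY1, c.w]
      exact hY
    have hw1 : (sX ≫ e.hom) ≫ bj = a ≫ c.π.app j := by
      rw [Category.assoc, he, hsX2]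
    have hw2 : (sY ≫ e.inv) ≫ aj = b ≫ c.π.app j := by
      rw [Category.assoc, ← he, Iso.inv_hom_id_assoc, hsY2]
    let u : X ⟶ Y := hY'.lift (sX ≫ e.hom) a hw1
    let v : Y ⟶ X := hX'.lift (sY ≫ e.inv) b hw2
    have hu1 : u ≫ sY = sX ≫ e.hom := hY'.lift_fst _ _ _
    have hu2 : u ≫ b = a := hY'.lift_snd _ _ _
    have hv1 : v ≫ sX = sY ≫ e.inv := hX'.lift_fst _ _ _
    have hv2 : v ≫ a = b := hX'.lift_snd _ _ _
    refine ⟨⟨u, v, ?_, ?_⟩, hu2⟩
    · apply hX'.hom_ext
      · rw [Category.assoc, hv1, reassoc_of% hu1, Iso.hom_inv_id, Category.comp_id,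
          Category.id_comp]
      · rw [Category.assoc, hv2, hu2, Category.id_comp]
    · apply hY'.hom_ext
      · rw [Category.assoc, hu1, reassoc_of% hv1, Iso.inv_hom_id, Category.comp_id,
          Category.id_comp]
      · rw [Category.assoc, hu2, hv2, Category.id_comp]

end Groth.Agent.S4795
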