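import Groth.Statements.S4800
-- import your own Groth.Agent.* helpers here
import Groth.Agent.S4786
import Groth.Agent.Lib.Helper9.ClosedImmDescend

set_option autoImplicit false
universe u
open CategoryTheory AlgebraicGeometry
open Lim8

namespace Groth.Agent.S4800

/-- Let S = lim S_i be a cofiltered limit of schemes whose transition maps are affine and flat, and
S_{i₀} a quasi-compact stage; let X₀ ⟶ S_{i₀} be quasi-compact, Y₀ ⟶ S_{i₀} quasi-compact and
quasi-separated, and f₀ : X₀ ⟶ Y₀ a morphism over S_{i₀} such that the closure of its image f₀(X₀)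
is a constructible subset of Y₀. Let f : X ⟶ Y be the base change of f₀ along S ⟶ S_{i₀} (base
changes are expressed by pullback squares). Then f is dominant if and only if, for some index j over
i₀ and the base change f_j : X_j ⟶ Y_j of f₀ along S_j ⟶ S_{i₀}, f_j is dominant. (The published
statement asks instead that the image f₀(X₀) itself be constructible, which is not enough: let R be
the ring of locally constant functions from the Cantor set to a field, take for stages the spectra
of the rings of locally constant functions on the clopen neighbourhoods of a point p, so that the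
limit is the spectrum of the residue field at p, and take Y₀ = Spec R[t]/(m_p t) and X₀ its basic
open subset where t is invertible; the image of X₀ is constructible, the limit morphism is the
inclusion of the punctured affine line into the affine line, which is dominant, and no stage
morphism is dominant. The published proof applies the criterion for a preimage to lie in the closure
of the preimage of a pro-constructible subset along a flat limit, whose hypothesis is that the
closure of that subset is constructible; the image f₀(X₀) is pro-constructible because f₀ is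
quasi-compact, so constructibility of its closure is the hypothesis taken here.) -/
theorem result {I : Type u} [SmallCategory I] [IsCofiltered I]
    (D : I ⥤ Scheme.{u}) (c : Limits.Cone D) (hc : Limits.IsLimit c)
    [∀ (i j : I) (f : i ⟶ j), IsAffineHom (D.map f)] (i₀ : I) [CompactSpace (D.obj i₀)]
    (hfl : ∀ (i j : I) (φ : i ⟶ j), Flat (D.map φ))
    {X₀ Y₀ : Scheme.{u}} (f₀ : X₀ ⟶ Y₀) (g₀ : Y₀ ⟶ D.obj i₀)
    [QuasiCompact (f₀ ≫ g₀)] [QuasiCompact g₀] [QuasiSeparated g₀]
    (hcl : Topology.IsConstructible (closure (Set.range ⇑f₀)))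
    {X Y : Scheme.{u}} (f : X ⟶ Y) (g : Y ⟶ c.pt) (qY : Y ⟶ Y₀) (qX : X ⟶ X₀)
    (hY : IsPullback qY g g₀ (c.π.app i₀)) (hX : IsPullback qX f f₀ qY) :
    IsDominant f ↔ ∃ (j : I) (φ : j ⟶ i₀) (Xj Yj : Scheme.{u}) (fj : Xj ⟶ Yj) (gj : Yj ⟶ D.obj j)
      (pY : Yj ⟶ Y₀) (pX : Xj ⟶ X₀), IsPullback pY gj g₀ (D.map φ) ∧ IsPullback pX fj f₀ pY ∧
      IsDominant fj := by
  classical
  let D' : Over i₀ ⥤ Scheme.{u} := Groth.Agent.Lib.helper9.bcDiagram D i₀ g₀
  let c' : Limits.Cone D' := Groth.Agent.Lib.helper9.bcCone D c i₀ g₀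
  have hc' : Limits.IsLimit c' := Groth.Agent.Lib.helper9.isLimitBcCone D c i₀ g₀ hc
  have hD' : ∀ (j j' : Over i₀) (m : j ⟶ j'), IsAffineHom (D'.map m) := fun _ _ m =>
    (inferInstance : IsAffineHom ((Groth.Agent.Lib.helper9.bcDiagram D i₀ g₀).map m))
  -- the transition maps of `D'` are flat
  have hfl' : ∀ (j j' : Over i₀) (m : j ⟶ j'), Flat (D'.map m) := by
    intro j j' m
    let Tm : Limits.pullback (D.map j.hom) g₀ ⟶ Limits.pullback (D.map j'.hom) g₀ := D'.map m
    have h1 : Tm ≫ Limits.pullback.fst (D.map j'.hom) g₀ =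
        Limits.pullback.fst (D.map j.hom) g₀ ≫ D.map m.left := Limits.pullback.lift_fst _ _ _
    have h2 : Tm ≫ Limits.pullback.snd (D.map j'.hom) g₀ = Limits.pullback.snd (D.map j.hom) g₀ :=
      Groth.Agent.Lib.helper9.bcDiagram_map_snd D i₀ g₀ m
    have hπ : D.map m.left ≫ D.map j'.hom = D.map j.hom := by
      rw [← D.map_comp, Over.w m]
    have sq := Groth.Agent.Lib.helper9.isPullback_rebase_base hπ
      (Groth.Agent.Lib.helper9.isPullback_stage_base (D.map j.hom) g₀) Tm h1 h2
    exact MorphismProperty.of_isPullback (P := @Flat) sq.flip (hfl j.left j'.left m.left)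
  let j₀ : Over i₀ := Over.mk (𝟙 i₀)
  have hid : IsIso (D.map j₀.hom) := by
    show IsIso (D.map (𝟙 i₀))
    rw [D.map_id]
    infer_instance
  let e : Limits.pullback (D.map j₀.hom) g₀ ⟶ Y₀ := Limits.pullback.snd (D.map j₀.hom) g₀
  have he : IsIso e := (inferInstance : IsIso (Limits.pullback.snd (D.map j₀.hom) g₀))
  have : CompactSpace Y₀ := QuasiCompact.compactSpace_of_compactSpace g₀
  have hqc : QuasiCompact e := by
    have : IsIso e := he
    infer_instance
  have hcomp0 : CompactSpace ↥(Limits.pullback (D.map j₀.hom) g₀) :=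
    QuasiCompact.compactSpace_of_compactSpace e
  have hcomp : CompactSpace ↥(D'.obj j₀) := hcomp0
  have : QuasiCompact f₀ := QuasiCompact.of_comp f₀ g₀
  let Z' : Set ↥(D'.obj j₀) := ⇑e ⁻¹' Set.range ⇑f₀
  have hrangepc : ProCons.IsProConstructible (Set.range ⇑f₀) := by
    have := Groth.Agent.S3398.result f₀ Set.univ
      (Groth.Agent.Lib.helper9.isProConstructible_of_isClosed isClosed_univ)
    rwa [Set.image_univ] at this
  have hZ' : ProCons.IsProConstructible Z' := Groth.Agent.S15542.result e _ hrangepc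
  have hcl' : Topology.IsConstructible (closure Z') := by
    have h1 : closure Z' = ⇑e ⁻¹' closure (Set.range ⇑f₀) :=
      (e.isOpenEmbedding.isOpenMap.preimage_closure_eq_closure_preimage e.continuous _).symm
    rw [h1]
    exact hcl.preimage_of_isOpenEmbedding e.isOpenEmbedding
  have huniv : ProCons.IsProConstructible (Set.univ : Set ↥(D'.obj j₀)) :=
    Groth.Agent.Lib.helper9.isProConstructible_of_isClosed isClosed_univ
  have hS := Groth.Agent.S4786.result D' c' hc' j₀ hfl' Z' Set.univ hZ' huniv hcl'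
  -- ranges of stage maps
  have hrange : ∀ {T : Scheme.{u}} (φ : T ⟶ D.obj i₀),
      Set.range ⇑(Groth.Agent.Lib.helper9.stageMap φ f₀ g₀) =
        ⇑(Limits.pullback.snd φ g₀) ⁻¹' Set.range ⇑f₀ := by
    intro T φ
    have sq := Groth.Agent.Lib.helper9.isPullback_stageMap φ f₀ g₀
    ext y
    constructor
    · rintro ⟨x, rfl⟩
      refine ⟨Limits.pullback.snd φ (f₀ ≫ g₀) x, ?_⟩
      rw [← Scheme.Hom.comp_apply, sq.w, Scheme.Hom.comp_apply]
    · rintro ⟨x₀, hx₀⟩
      obtain ⟨z, -, hz⟩ := Groth.Agent.Lib.helper9.exists_preimage_of_isPullback sq x₀ y hx₀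
      exact ⟨z, hz⟩
  have hdom : ∀ {T : Scheme.{u}} (φ : T ⟶ D.obj i₀),
      IsDominant (Groth.Agent.Lib.helper9.stageMap φ f₀ g₀) ↔
        (Set.univ : Set ↥(Limits.pullback φ g₀)) ⊆
          closure (⇑(Limits.pullback.snd φ g₀) ⁻¹' Set.range ⇑f₀) := by
    intro T φ
    rw [isDominant_iff, ← hrange φ, Set.univ_subset_iff]
    exact dense_iff_closure_eq
  have hpre1 : ⇑(c'.π.app j₀) ⁻¹' Z' =
      ⇑(Limits.pullback.snd (c.π.app i₀) g₀) ⁻¹' Set.range ⇑f₀ := by
    let πj₀ : Limits.pullback (c.π.app i₀) g₀ ⟶ Limits.pullback (D.map j₀.hom) g₀ := c'.π.app j₀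
    have h1 : πj₀ ≫ e = Limits.pullback.snd (c.π.app i₀) g₀ :=
      Groth.Agent.Lib.helper9.bcCone_π_snd D c i₀ g₀ j₀
    show ⇑πj₀ ⁻¹' (⇑e ⁻¹' Set.range ⇑f₀) = _
    rw [← h1]
    rfl
  have hpre2 : ∀ (j : Over i₀) (φ : j ⟶ j₀), ⇑(D'.map φ) ⁻¹' Z' =
      ⇑(Limits.pullback.snd (D.map j.hom) g₀) ⁻¹' Set.range ⇑f₀ := by
    intro j φ
    let Tφ : Limits.pullback (D.map j.hom) g₀ ⟶ Limits.pullback (D.map j₀.hom) g₀ := D'.map φ
    have h1 : Tφ ≫ e = Limits.pullback.snd (D.map j.hom) g₀ :=
      Groth.Agent.Lib.helper9.bcDiagram_map_snd D i₀ g₀ φ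
    show ⇑Tφ ⁻¹' (⇑e ⁻¹' Set.range ⇑f₀) = _
    rw [← h1]
    rfl
  rw [← Groth.Agent.Lib.helper9.stageMap_iff_of_isPullback @IsDominant hY hX, hdom, ← hpre1]
  constructor
  · intro h
    obtain ⟨j, φ, hj⟩ := hS.mp (by rw [Set.preimage_univ]; exact h)
    refine Groth.Agent.Lib.helper9.exists_stage_of_exists_stageMap D i₀ f₀ g₀ @IsDominant ⟨j, ?_⟩
    rw [hdom, ← hpre2 j φ]
    rw [Set.preimage_univ] at hj
    exact hj
  · rintro ⟨j, φ, Xj, Yj, fj, gj, pY, pX, h1, h2, h3⟩
    have h4 : IsDominant (Groth.Agent.Lib.helper9.stageMap (D.map φ) f₀ g₀) :=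
      (Groth.Agent.Lib.helper9.stageMap_iff_of_isPullback @IsDominant h1 h2).mpr h3
    let j' : Over i₀ := Over.mk φ
    let φ' : j' ⟶ j₀ := Over.homMk φ (by simp [j₀, j'])
    have h5 := (hdom (D.map φ)).mp h4
    have h6 := hS.mpr ⟨j', φ', by rw [Set.preimage_univ, hpre2 j' φ']; exact h5⟩
    rw [Set.preimage_univ] at h6
    exact h6

end Groth.Agent.S4800
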