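import Groth.Statements.S4802
import Groth.Agent.Lib.Helper5.ConsMor1
import Groth.Agent.Lib.Helper5.ConsApprox4
import Groth.Agent.S9186
import Groth.Agent.S0082

set_option autoImplicit false
open CategoryTheory AlgebraicGeometry
universe u
open Cons9

namespace Groth.Agent.S4802

open CategoryTheory.Limits in
/-- Let g : Y ⟶ S and f : X ⟶ Y be such that X and Y are of finite presentation over S (locally of
finite presentation, quasi-compact and quasi-separated). For each point s of S let f_s be the
induced morphism from the fibre of f ≫ g over s to the fibre of g over s. Then the set of s for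
which f_s is an affine morphism is ind-constructible in S. -/
theorem result {X Y S : Scheme.{u}} (f : X ⟶ Y) (g : Y ⟶ S)
    [LocallyOfFinitePresentation g] [QuasiCompact g] [QuasiSeparated g]
    [LocallyOfFinitePresentation (f ≫ g)] [QuasiCompact (f ≫ g)] [QuasiSeparated (f ≫ g)] :
    ProCons.IsIndConstructible {s : S |
      IsAffineHom (pullback.lift (pullback.fst (f ≫ g) (S.fromSpecResidueField s) ≫ f) (pullback.snd (f ≫ g) (S.fromSpecResidueField s))
          ((Category.assoc _ _ _).trans pullback.condition) :
        pullback (f ≫ g) (S.fromSpecResidueField s) ⟶ pullback g (S.fromSpecResidueField s))} := by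
  haveI := Groth.Agent.S0082.result.{u}
  have hP : ConsProp.IsIndConsMor (fun X Y T f g => @IsAffineHom X Y f) := by
    refine Groth.Agent.Lib.helper5.ConsFibre.isIndConsMor_of_limDescends
      (Q := @AlgebraicGeometry.IsAffineHom)
      (Groth.Agent.Lib.helper5.ConsFibre.isFieldStableMor_of_descendsAlong
        @AlgebraicGeometry.IsAffineHom) ?_
    intro I _ _ D c hc _ i₀ _ _ X₀ Y₀ f₀ g₀ _ _ _ _ _ X Y f g qY qX hY hX hQ
    haveI : AlgebraicGeometry.IsAffineHom f := hQ
    exact Groth.Agent.S9186.result D c hc i₀ f₀ g₀ f g qY qX hY hX
  exact Groth.Agent.Lib.helper5.ConsApprox.isIndConstructible_locusMor' hP f g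

end Groth.Agent.S4802
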