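import Groth.Statements.S4804
-- import your own Groth.Agent.* helpers here
import Groth.Agent.Lib.Helper9.QcqsInstances

set_option autoImplicit false
universe u
open CategoryTheory AlgebraicGeometry
open Lim8

namespace Groth.Agent.S4804

/-- Let S = lim S_i be a cofiltered limit of schemes with affine transition maps, let f₀ : X₀ ⟶ Y₀ be a
morphism of schemes over a stage S_{i₀}, with Y₀ quasi-compact and f₀ of finite type and
quasi-separated, and let f : X ⟶ Y be the base change of f₀ along S ⟶ S_{i₀} (base changes are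
expressed by pullback squares). Then f is separated if and only if, for some index j over i₀, the
base change f_j : X_j ⟶ Y_j of f₀ along S_j ⟶ S_{i₀} is separated. -/
theorem result {I : Type u} [SmallCategory I] [IsCofiltered I]
    (D : I ⥤ Scheme.{u}) (c : Limits.Cone D) (hc : Limits.IsLimit c)
    [∀ (i j : I) (f : i ⟶ j), IsAffineHom (D.map f)] (i₀ : I)
    {X₀ Y₀ : Scheme.{u}} (f₀ : X₀ ⟶ Y₀) (g₀ : Y₀ ⟶ D.obj i₀) [CompactSpace Y₀]
    [LocallyOfFiniteType f₀] [QuasiCompact f₀] [QuasiSeparated f₀]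
    {X Y : Scheme.{u}} (f : X ⟶ Y) (g : Y ⟶ c.pt) (qY : Y ⟶ Y₀) (qX : X ⟶ X₀)
    (hY : IsPullback qY g g₀ (c.π.app i₀)) (hX : IsPullback qX f f₀ qY) :
    IsSeparated f ↔
      ∃ (j : I) (φ : j ⟶ i₀) (Xj Yj : Scheme.{u}) (fj : Xj ⟶ Yj) (gj : Yj ⟶ D.obj j) (pY : Yj ⟶ Y₀)
        (pX : Xj ⟶ X₀), IsPullback pY gj g₀ (D.map φ) ∧ IsPullback pX fj f₀ pY ∧ IsSeparated fj := by
  constructor
  · intro h
    have hP : IsSeparated (Groth.Agent.Lib.helper9.stageMap (c.π.app i₀) f₀ g₀) :=
      (Groth.Agent.Lib.helper9.stageMap_iff_of_isPullback @IsSeparated hY hX).mpr h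
    exact Groth.Agent.Lib.helper9.exists_stage_of_exists_stageMap D i₀ f₀ g₀ @IsSeparated
      (Groth.Agent.Lib.helper9.qcqsBaseDescent_isSeparated.exists_stageMap D c hc i₀ f₀ g₀
        (inferInstance : LocallyOfFiniteType f₀) hP)
  · intro h
    exact Groth.Agent.Lib.helper9.of_exists_stage D c @IsSeparated i₀ f₀ g₀ f g qY qX hY hX h

end Groth.Agent.S4804
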