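import Groth.Statements.S4805
-- import your own Groth.Agent.* helpers here
import Groth.Agent.Lib.Helper9.ClosedImmDescend

set_option autoImplicit false
universe u
open CategoryTheory AlgebraicGeometry
open Lim8

namespace Groth.Agent.S4805

/-- Let S = lim S_i be a cofiltered limit of schemes with affine transition maps and S_{i₀} a
quasi-compact stage; let Y₀ ⟶ S_{i₀} be of finite type and quasi-separated, X₀ ⟶ S_{i₀} of finite
presentation (locally of finite presentation, quasi-compact and quasi-separated), f₀ : X₀ ⟶ Y₀ an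
S_{i₀}-morphism, and f : X ⟶ Y its base change along S ⟶ S_{i₀} (base changes are expressed by
pullback squares). If f is an isomorphism, then for some index j over i₀ the base change f_j : X_j ⟶
Y_j of f₀ along S_j ⟶ S_{i₀} is an isomorphism. (Note the hypotheses: the stage S_{i₀} is only
assumed quasi-compact, and Y₀ only of finite type and quasi-separated over it.) -/
theorem result {I : Type u} [SmallCategory I] [IsCofiltered I]
    (D : I ⥤ Scheme.{u}) (c : Limits.Cone D) (hc : Limits.IsLimit c)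
    [∀ (i j : I) (f : i ⟶ j), IsAffineHom (D.map f)] (i₀ : I) [CompactSpace (D.obj i₀)]
    {X₀ Y₀ : Scheme.{u}} (f₀ : X₀ ⟶ Y₀) (g₀ : Y₀ ⟶ D.obj i₀)
    [LocallyOfFiniteType g₀] [QuasiCompact g₀] [QuasiSeparated g₀]
    [LocallyOfFinitePresentation (f₀ ≫ g₀)] [QuasiCompact (f₀ ≫ g₀)] [QuasiSeparated (f₀ ≫ g₀)]
    {X Y : Scheme.{u}} (f : X ⟶ Y) (g : Y ⟶ c.pt) (qY : Y ⟶ Y₀) (qX : X ⟶ X₀)
    (hY : IsPullback qY g g₀ (c.π.app i₀)) (hX : IsPullback qX f f₀ qY) [IsIso f] :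
    ∃ (j : I) (φ : j ⟶ i₀) (Xj Yj : Scheme.{u}) (fj : Xj ⟶ Yj) (gj : Yj ⟶ D.obj j) (pY : Yj ⟶ Y₀)
      (pX : Xj ⟶ X₀), IsPullback pY gj g₀ (D.map φ) ∧ IsPullback pX fj f₀ pY ∧ IsIso fj := by
  classical
  have hfiso : IsIso (Groth.Agent.Lib.helper9.stageMap (c.π.app i₀) f₀ g₀) :=
    (Groth.Agent.Lib.helper9.stageMap_iff_of_isPullback (MorphismProperty.isomorphisms Scheme.{u})
      hY hX).mpr ‹IsIso f›
  have : QuasiCompact f₀ := QuasiCompact.of_comp f₀ g₀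
  have : QuasiSeparated f₀ := QuasiSeparated.of_comp f₀ g₀
  have : CompactSpace Y₀ := QuasiCompact.compactSpace_of_compactSpace g₀
  obtain ⟨s, hs, hcov⟩ := (isCompact_and_isOpen_iff_finite_and_eq_biUnion_affineOpens
    (U := (Set.univ : Set Y₀))).mp ⟨isCompact_univ, isOpen_univ⟩
  have e₀ : ∀ V : Y₀.Opens, (f₀ ⁻¹ᵁ V).ι ≫ f₀ ≫ g₀ = (f₀ ∣_ V) ≫ V.ι ≫ g₀ := fun V =>
    (morphismRestrict_ι_assoc f₀ V g₀).symm
  have hstage : ∀ V : s, ∃ l : Over i₀,
      IsIso (Groth.Agent.Lib.helper9.stageMap (D.map l.hom) (f₀ ∣_ V.1.1) (V.1.1.ι ≫ g₀)) := by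
    intro V
    have : IsAffine V.1.1.toScheme := V.1.2
    have : CompactSpace ↥(f₀ ⁻¹ᵁ V.1.1).toScheme := isCompact_iff_compactSpace.mp
      (QuasiCompact.isCompact_preimage (f := f₀) _ V.1.1.2 V.1.2.isCompact)
    have : QuasiSeparatedSpace ↥(f₀ ⁻¹ᵁ V.1.1).toScheme :=
      quasiSeparatedSpace_of_quasiSeparated (f₀ ∣_ V.1.1)
    have : LocallyOfFinitePresentation ((f₀ ∣_ V.1.1) ≫ V.1.1.ι ≫ g₀) := by
      rw [← e₀]
      infer_instance
    have : LocallyOfFiniteType (V.1.1.ι ≫ g₀) := inferInstance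
    have : IsIso (Groth.Agent.Lib.helper9.stageMap (c.π.app i₀) (f₀ ∣_ V.1.1) (V.1.1.ι ≫ g₀)) :=
      (Groth.Agent.Lib.helper9.isPullback_stageMap_of_isPullback (c.π.app i₀) g₀
        (isPullback_morphismRestrict f₀ V.1.1).flip (e₀ V.1.1)).isIso_snd_of_isIso
    exact Groth.Agent.Lib.helper9.exists_isIso_stageMap D c hc i₀ (f₀ ∣_ V.1.1) (V.1.1.ι ≫ g₀)
  choose lV hlV using hstage
  have : Fintype s := hs.fintype
  obtain ⟨l, hl⟩ := IsCofiltered.inf_objs_exists (Finset.univ.image lV)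
  have ml : ∀ V : s, l ⟶ lV V := fun V =>
    (hl (Finset.mem_image_of_mem _ (Finset.mem_univ V))).some
  have hB : ∀ V : s, IsOpenImmersion
      (Groth.Agent.Lib.helper9.stageMap (D.map l.hom) V.1.1.ι g₀) := fun V =>
    MorphismProperty.of_isPullback (P := @IsOpenImmersion)
      (Groth.Agent.Lib.helper9.isPullback_stageMap (D.map l.hom) V.1.1.ι g₀) inferInstance
  have hiso : IsIso (Groth.Agent.Lib.helper9.stageMap (D.map l.hom) f₀ g₀) := by
    refine Groth.Agent.Lib.helper9.of_isPullback_family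
      (P := MorphismProperty.isomorphisms Scheme.{u})
      (Groth.Agent.Lib.helper9.stageMap (D.map l.hom) f₀ g₀)
      (fun V : s => Groth.Agent.Lib.helper9.stageMap' (D.map l.hom) (f₀ ⁻¹ᵁ V.1.1).ι (f₀ ≫ g₀)
        ((f₀ ∣_ V.1.1) ≫ V.1.1.ι ≫ g₀) (e₀ V.1.1))
      (fun V : s => Groth.Agent.Lib.helper9.stageMap (D.map l.hom) V.1.1.ι g₀)
      (fun V : s => Groth.Agent.Lib.helper9.stageMap (D.map l.hom) (f₀ ∣_ V.1.1) (V.1.1.ι ≫ g₀))
      (fun V => Groth.Agent.Lib.helper9.isPullback_stageMap_of_isPullback (D.map l.hom) g₀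
        (isPullback_morphismRestrict f₀ V.1.1).flip (e₀ V.1.1)) ?_ ?_
    · intro y
      have hy : (Limits.pullback.snd (D.map l.hom) g₀) y ∈ ⋃ i ∈ s, (i : Set Y₀) :=
        hcov ▸ Set.mem_univ _
      obtain ⟨V, hVs, hyV⟩ := Set.mem_iUnion₂.mp hy
      obtain ⟨z, -, hz⟩ := Groth.Agent.Lib.helper9.exists_preimage_of_isPullback
        (Groth.Agent.Lib.helper9.isPullback_stageMap (D.map l.hom) V.1.ι g₀) ⟨_, hyV⟩ y rfl
      exact ⟨⟨V, hVs⟩, z, hz⟩
    · intro V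
      have := hlV V
      exact Groth.Agent.Lib.helper9.isIso_stageMap_of_hom D i₀ (f₀ ∣_ V.1.1) (V.1.1.ι ≫ g₀) (ml V)
  exact ⟨l.left, l.hom, _, _, Groth.Agent.Lib.helper9.stageMap (D.map l.hom) f₀ g₀, _, _, _,
    Groth.Agent.Lib.helper9.isPullback_stage_base (D.map l.hom) g₀,
    Groth.Agent.Lib.helper9.isPullback_stageMap (D.map l.hom) f₀ g₀, hiso⟩

end Groth.Agent.S4805
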