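import Groth.Statements.S4806
import Mathlib
import Groth.Agent.S2803

set_option autoImplicit false
universe u
open CategoryTheory AlgebraicGeometry
open Lim8

namespace Groth.Agent.S4806



/-- Let f : X ⟶ Y be a proper morphism of finite presentation. Then f is a closed immersion if and only
if, for every point y of Y, the scheme-theoretic fibre of f at y is empty or its structure morphism
to Spec κ(y) is an isomorphism. -/
theorem result {X Y : Scheme.{u}} (f : X ⟶ Y) [IsProper f]
    [LocallyOfFinitePresentation f] :
    IsClosedImmersion f ↔ ∀ y : Y, IsEmpty (f.fiber y) ∨ IsIso (f.fiberToSpecResidueField y) := by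
  constructor
  · intro hf y
    exact ((Groth.Agent.S2803.result f y).mp ⟨⊤, trivial, inferInstance⟩).1
  · intro H
    apply IsZariskiLocalAtTarget.of_forall_exists_morphismRestrict (P := @IsClosedImmersion)
    intro y
    exact (Groth.Agent.S2803.result f y).mpr ⟨H y, ⊤, trivial, inferInstance⟩

end Groth.Agent.S4806
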