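import Groth.Statements.S4808
-- import your own Groth.Agent.* helpers here
import Groth.Agent.Lib.Helper9.IntegralSection

set_option autoImplicit false
universe u
open CategoryTheory AlgebraicGeometry
open Lim8

namespace Groth.Agent.S4808

open Groth.Agent.Lib.helper9

/-- Let Y' and Y be integral schemes, Y normal (every local ring of Y is integrally closed), and u : Y'
⟶ Y a finite morphism which is birational: u maps the generic point of Y' to the generic point of Y
and the stalk map of u at the generic point of Y', which is the induced homomorphism of function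
fields, is an isomorphism. Then u is an isomorphism. -/
theorem result {Y' Y : Scheme.{u}} [IsIntegral Y'] [IsIntegral Y]
    (hN : ∀ y : Y, IsIntegrallyClosed (Y.presheaf.stalk y)) (u : Y' ⟶ Y) [IsFinite u]
    (hgen : u (genericPoint Y') = genericPoint Y)
    (hbir : IsIso (u.stalkMap (genericPoint Y'))) : IsIso u := by
  classical
  refine isIso_of_forall_bijective_app u fun V hV => ?_
  by_cases hVne : Nonempty V
  swap
  · exact bijective_app_of_isEmpty u V hVne
  have hξV : genericPoint Y ∈ V :=
    ((genericPoint_spec Y).mem_open_set_iff V.isOpen).mpr (by simpa using hVne)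
  have hmem' : u (genericPoint Y') ∈ V := by rw [hgen]; exact hξV
  have hne' : Nonempty (u ⁻¹ᵁ V) := ⟨⟨genericPoint Y', hmem'⟩⟩
  have hic : IsIntegrallyClosed Γ(Y, V) := by
    apply IsIntegrallyClosed.of_localization_maximal
    intro p _ hp
    have hy : hV.fromSpec ⟨p, hp.isPrime⟩ ∈ V := by
      have := hV.range_fromSpec
      rw [← SetLike.mem_coe, ← this]
      exact ⟨_, rfl⟩
    let _ := TopCat.Presheaf.algebra_section_stalk Y.presheaf ⟨hV.fromSpec ⟨p, hp.isPrime⟩, hy⟩
    have hloc : IsLocalization.AtPrime (Y.presheaf.stalk (hV.fromSpec ⟨p, hp.isPrime⟩)) p :=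
      hV.isLocalization_stalk' ⟨p, hp.isPrime⟩ hy
    have hics : IsIntegrallyClosed (Y.presheaf.stalk (hV.fromSpec ⟨p, hp.isPrime⟩)) := hN _
    exact IsIntegrallyClosed.of_equiv
      (IsLocalization.algEquiv p.primeCompl (Y.presheaf.stalk (hV.fromSpec ⟨p, hp.isPrime⟩))
        (Localization.AtPrime p)).toRingEquiv
  have hfr := functionField_isFractionRing_of_isAffineOpen Y V hV
  have hsp : genericPoint Y ⤳ u (genericPoint Y') := by rw [hgen]
  let σc : Γ(Y', u ⁻¹ᵁ V) ⟶ Y.functionField :=
    Y'.presheaf.germ (u ⁻¹ᵁ V) (genericPoint Y') hmem' ≫ inv (u.stalkMap (genericPoint Y')) ≫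
      Y.presheaf.stalkSpecializes hsp
  have hσc : u.app V ≫ σc = Y.germToFunctionField V := by
    show u.app V ≫ Y'.presheaf.germ (u ⁻¹ᵁ V) (genericPoint Y') hmem' ≫
      inv (u.stalkMap (genericPoint Y')) ≫ Y.presheaf.stalkSpecializes hsp = _
    rw [← Category.assoc, ← Scheme.Hom.germ_stalkMap, Category.assoc, IsIso.hom_inv_id_assoc,
      TopCat.Presheaf.germ_stalkSpecializes]
  refine bijective_of_isIntegral_of_retraction (K := Y.functionField) (u.app V).hom
    (IsFinite.finite_app u V hV).to_isIntegral σc.hom ?_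
  rw [← CommRingCat.hom_comp, hσc]
  rfl

end Groth.Agent.S4808
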