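import Groth.Statements.S4813
import Groth.Agent.Lib.Helper11.KerFT
import Groth.Agent.Lib.Helper11.LimStageMod

set_option autoImplicit false
universe u
open CategoryTheory AlgebraicGeometry
open Lim8

namespace Groth.Agent.S4813

/-- Let S = lim S_i be a cofiltered limit of schemes with affine transition maps and S_{i₀} a
quasi-compact stage; let F₀ be a quasi-coherent O-module of finite type on S_{i₀} and p₁ : F₀ ⟶ G₁,
p₂ : F₀ ⟶ G₂ two surjective homomorphisms onto quasi-coherent O-modules, G₁ being of finite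
presentation. Then, on S, the pullback of p₂ factors through the pullback of p₁ (the quotient G₂
becomes a quotient of G₁ after pullback to S) if and only if, for some index j over i₀, the pullback
of p₂ to S_j factors through the pullback of p₁ to S_j. -/
theorem result {I : Type u} [SmallCategory I] [IsCofiltered I]
    (D : I ⥤ Scheme.{u}) (c : Limits.Cone D) (hc : Limits.IsLimit c)
    [∀ (i j : I) (f : i ⟶ j), IsAffineHom (D.map f)] (i₀ : I) [CompactSpace (D.obj i₀)]
    {F₀ G₁ G₂ : (D.obj i₀).Modules} [Coh.IsQCoh F₀] [Coh.IsQCoh G₁] [Coh.IsQCoh G₂]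
    (hF₀ : CohB1.IsFT F₀) (hG₁ : CohB1.IsFP G₁) (p₁ : F₀ ⟶ G₁) (p₂ : F₀ ⟶ G₂) [Epi p₁] [Epi p₂] :
    (∃ k : (Scheme.Modules.pullback (c.π.app i₀)).obj G₁ ⟶ (Scheme.Modules.pullback (c.π.app i₀)).obj G₂, (Scheme.Modules.pullback (c.π.app i₀)).map p₁ ≫ k = (Scheme.Modules.pullback (c.π.app i₀)).map p₂) ↔
      ∃ (j : I) (φ : j ⟶ i₀) (k : (Scheme.Modules.pullback (D.map φ)).obj G₁ ⟶ (Scheme.Modules.pullback (D.map φ)).obj G₂),
        (Scheme.Modules.pullback (D.map φ)).map p₁ ≫ k = (Scheme.Modules.pullback (D.map φ)).map p₂ := by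
  classical
  haveI hK : (Limits.kernel p₁).IsQuasicoherent :=
    Groth.Agent.Lib.helper7.CohKer.isQuasicoherent_kernel p₁
  have hKft : CohB1.IsFT (Limits.kernel p₁) :=
    Groth.Agent.Lib.helper11.KerFT.isFT_kernel F₀ G₁ hF₀ hG₁ p₁
  have key : ∀ {T : Scheme.{u}} (t : T ⟶ D.obj i₀),
      (∃ k : (Scheme.Modules.pullback t).obj G₁ ⟶ (Scheme.Modules.pullback t).obj G₂,
        (Scheme.Modules.pullback t).map p₁ ≫ k = (Scheme.Modules.pullback t).map p₂) ↔
      (Scheme.Modules.pullback t).map (Limits.kernel.ι p₁ ≫ p₂) = 0 := by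
    intro T t
    constructor
    · rintro ⟨k, hk⟩
      rw [Functor.map_comp, ← hk, ← Category.assoc, ← Functor.map_comp, Limits.kernel.condition,
        Functor.map_zero, Limits.zero_comp]
    · intro h
      haveI : Limits.PreservesColimitsOfSize.{0, 0} (Scheme.Modules.pullback t) :=
        (Scheme.Modules.pullbackPushforwardAdjunction t).leftAdjoint_preservesColimits
      have hcok : Limits.IsColimit (Limits.CokernelCofork.ofπ p₁ (Limits.kernel.condition p₁)) :=
        Abelian.epiIsCokernelOfKernel (Limits.KernelFork.ofι (Limits.kernel.ι p₁)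
          (Limits.kernel.condition p₁)) (Limits.kernelIsKernel p₁)
      have hcok' := Limits.CokernelCofork.mapIsColimit _ hcok (Scheme.Modules.pullback t)
      obtain ⟨k, hk⟩ := Limits.CokernelCofork.IsColimit.desc' hcok'
        ((Scheme.Modules.pullback t).map p₂) (by rw [← Functor.map_comp]; exact h)
      exact ⟨k, hk⟩
  rw [key (c.π.app i₀),
    Groth.Agent.Lib.helper11.LimStageMod.zero_iff D c hc i₀ (Limits.kernel.ι p₁ ≫ p₂) hKft]
  constructor
  · rintro ⟨j, φ, h⟩
    obtain ⟨k, hk⟩ := (key (D.map φ)).mpr h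
    exact ⟨j, φ, k, hk⟩
  · rintro ⟨j, φ, k, hk⟩
    exact ⟨j, φ, (key (D.map φ)).mp ⟨k, hk⟩⟩

end Groth.Agent.S4813
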