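import Groth.Statements.S4816
-- import your own Groth.Agent.* helpers here
import Groth.Agent.Lib.Helper9.QcqsInstances
import Groth.Agent.Lib.Helper9.SubschemeFac

set_option autoImplicit false
universe u
open CategoryTheory AlgebraicGeometry
open Lim8

namespace Groth.Agent.S4816

open CategoryTheory.Limits in
/-- Let S = lim S_i be a cofiltered limit of schemes with affine transition maps and S_{i₀} a
quasi-compact stage; let ι₁ : Z₁ ⟶ S_{i₀} and ι₂ : Z₂ ⟶ S_{i₀} be two subschemes of finite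
presentation of S_{i₀} (immersions which are locally of finite presentation and quasi-compact), with
base changes Z₁ ×_{S_{i₀}} T ⟶ T to T = S and to T = S_j. Then Z₁ ×_{S_{i₀}} S is a subscheme of Z₂
×_{S_{i₀}} S (its immersion into S factors through that of Z₂ ×_{S_{i₀}} S) if and only if, for some
index j over i₀, Z₁ ×_{S_{i₀}} S_j is a subscheme of Z₂ ×_{S_{i₀}} S_j. -/
theorem result {I : Type u} [SmallCategory I] [IsCofiltered I]
    (D : I ⥤ Scheme.{u}) (c : Limits.Cone D) (hc : Limits.IsLimit c)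
    [∀ (i j : I) (f : i ⟶ j), IsAffineHom (D.map f)] (i₀ : I) [CompactSpace (D.obj i₀)]
    {Z₁ Z₂ : Scheme.{u}} (ι₁ : Z₁ ⟶ D.obj i₀) (ι₂ : Z₂ ⟶ D.obj i₀)
    [IsImmersion ι₁] [LocallyOfFinitePresentation ι₁] [QuasiCompact ι₁]
    [IsImmersion ι₂] [LocallyOfFinitePresentation ι₂] [QuasiCompact ι₂] :
    (∃ k : pullback ι₁ (c.π.app i₀) ⟶ pullback ι₂ (c.π.app i₀),
        k ≫ pullback.snd ι₂ (c.π.app i₀) = pullback.snd ι₁ (c.π.app i₀)) ↔
      ∃ (j : I) (φ : j ⟶ i₀) (k : pullback ι₁ (D.map φ) ⟶ pullback ι₂ (D.map φ)),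
        k ≫ pullback.snd ι₂ (D.map φ) = pullback.snd ι₁ (D.map φ) := by
  have : Mono ι₂ := inferInstance
  have : CompactSpace Z₁ := QuasiCompact.compactSpace_of_compactSpace ι₁
  have hlfp : LocallyOfFinitePresentation (pullback.fst ι₁ ι₂) :=
    MorphismProperty.pullback_fst (P := @LocallyOfFinitePresentation) _ _ inferInstance
  have : QuasiCompact (pullback.fst ι₁ ι₂) :=
    MorphismProperty.pullback_fst (P := @QuasiCompact) _ _ inferInstance
  have : Mono (pullback.fst ι₁ ι₂) := inferInstance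
  have : QuasiSeparated (pullback.fst ι₁ ι₂) := inferInstance
  rw [Groth.Agent.Lib.helper9.exists_fac_iff_isIso_stageMap ι₁ ι₂ (c.π.app i₀)]
  constructor
  · intro h
    obtain ⟨l, hl⟩ := Groth.Agent.Lib.helper9.qcqsBaseDescent_isIso.exists_stageMap D c hc i₀
      (pullback.fst ι₁ ι₂) ι₁ hlfp h
    exact ⟨l.left, l.hom,
      (Groth.Agent.Lib.helper9.exists_fac_iff_isIso_stageMap ι₁ ι₂ (D.map l.hom)).mpr hl⟩
  · rintro ⟨j, φ, hk⟩
    have hj : IsIso (Groth.Agent.Lib.helper9.stageMap (D.map φ) (pullback.fst ι₁ ι₂) ι₁) :=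
      (Groth.Agent.Lib.helper9.exists_fac_iff_isIso_stageMap ι₁ ι₂ (D.map φ)).mp hk
    have h1 : IsIso (Groth.Agent.Lib.helper9.stageMap (c.π.app j)
        (Groth.Agent.Lib.helper9.stageMap (D.map φ) (pullback.fst ι₁ ι₂) ι₁)
        (pullback.fst (D.map φ) ι₁)) :=
      MorphismProperty.of_isPullback (P := MorphismProperty.isomorphisms Scheme.{u})
        (Groth.Agent.Lib.helper9.isPullback_stageMap (c.π.app j)
          (Groth.Agent.Lib.helper9.stageMap (D.map φ) (pullback.fst ι₁ ι₂) ι₁)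
          (pullback.fst (D.map φ) ι₁)) hj
    have h2 := (Groth.Agent.Lib.helper9.stageMap_stageMap_iff
      (MorphismProperty.isomorphisms Scheme.{u}) (c.π.app j) (D.map φ)
      (pullback.fst ι₁ ι₂) ι₁).mp h1
    exact (Groth.Agent.Lib.helper9.stageMap_iff_of_eq (MorphismProperty.isomorphisms Scheme.{u})
      (c.w φ) (pullback.fst ι₁ ι₂) ι₁).mp h2

end Groth.Agent.S4816
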