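import Groth.Statements.S4817
-- import your own Groth.Agent.* helpers here
import Groth.Agent.Lib.Helper9.QcqsInstances

set_option autoImplicit false
universe u
open CategoryTheory AlgebraicGeometry
open Lim8

namespace Groth.Agent.S4817

open CategoryTheory.Limits in
/-- Let S = lim S_i be a cofiltered limit of schemes with affine transition maps and S_{i₀} a
quasi-compact stage; let ι₀ : Z₀ ⟶ S_{i₀} be a subscheme of finite presentation (an immersion which
is locally of finite presentation and quasi-compact). Then the base change Z₀ ×_{S_{i₀}} S ⟶ S of ι₀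
is an open immersion if and only if, for some index j over i₀, the base change Z₀ ×_{S_{i₀}} S_j ⟶
S_j is an open immersion. This is the case of open subschemes. -/
theorem result {I : Type u} [SmallCategory I] [IsCofiltered I]
    (D : I ⥤ Scheme.{u}) (c : Limits.Cone D) (hc : Limits.IsLimit c)
    [∀ (i j : I) (f : i ⟶ j), IsAffineHom (D.map f)] (i₀ : I) [CompactSpace (D.obj i₀)]
    {Z₀ : Scheme.{u}} (ι₀ : Z₀ ⟶ D.obj i₀) [IsImmersion ι₀] [LocallyOfFinitePresentation ι₀] [QuasiCompact ι₀] :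
    IsOpenImmersion (pullback.snd ι₀ (c.π.app i₀)) ↔
      ∃ (j : I) (φ : j ⟶ i₀), IsOpenImmersion (pullback.snd ι₀ (D.map φ)) := by
  have key : ∀ {T : Scheme.{u}} (π : T ⟶ D.obj i₀),
      IsOpenImmersion (Groth.Agent.Lib.helper9.stageMap π ι₀ (𝟙 (D.obj i₀))) ↔
        IsOpenImmersion (pullback.snd ι₀ π) := fun {T} π =>
    Groth.Agent.Lib.helper9.stageMap_iff_of_isPullback @IsOpenImmersion (f := pullback.snd ι₀ π)
      (g := 𝟙 T) (qY := π) (qX := pullback.fst ι₀ π) IsPullback.of_id_snd
      (IsPullback.of_hasPullback ι₀ π)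
  constructor
  · intro h
    have hP := (key (c.π.app i₀)).mpr h
    have : QuasiSeparated ι₀ := inferInstance
    obtain ⟨l, hl⟩ := Groth.Agent.Lib.helper9.qcqsBaseDescent_isOpenImmersion.exists_stageMap D c hc i₀ ι₀
      (𝟙 (D.obj i₀)) (inferInstance : LocallyOfFinitePresentation ι₀) hP
    exact ⟨l.left, l.hom, (key _).mp hl⟩
  · rintro ⟨j, φ, h⟩
    exact Groth.Agent.Lib.helper9.of_exists_stage D c @IsOpenImmersion i₀ ι₀ (𝟙 (D.obj i₀))
      (pullback.snd ι₀ (c.π.app i₀)) (𝟙 c.pt) (c.π.app i₀) (pullback.fst ι₀ (c.π.app i₀))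
      IsPullback.of_id_snd (IsPullback.of_hasPullback ι₀ (c.π.app i₀))
      ⟨j, φ, _, _, pullback.snd ι₀ (D.map φ), 𝟙 (D.obj j), D.map φ, pullback.fst ι₀ (D.map φ),
        IsPullback.of_id_snd, IsPullback.of_hasPullback ι₀ (D.map φ), h⟩

end Groth.Agent.S4817
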