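import Groth.Statements.S4821
import Mathlib

set_option autoImplicit false
universe u
open Cons9

namespace Groth.Agent.S4821

attribute [local instance] MvPolynomial.algebraMvPolynomial

/-- Let A be an integral domain with fraction field K, and (P_i) a finite family of polynomials in
A[T_1, …, T_m], generating an ideal 𝔞; for a point s of Spec A write 𝔞_s for the ideal of κ(s)[T_1,
…, T_m] generated by the images of the P_i. If the zero locus of 𝔞_η in affine m-space over K = κ(η)
is empty, that is if 𝔞_η is the unit ideal, then there is an open neighbourhood D(f) (f ≠ 0) of the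
generic point such that 𝔞_s is the unit ideal (its zero locus is empty) for every s in D(f). -/
theorem result {A : Type u} [CommRing A] [IsDomain A] {m : ℕ}
    (P : Finset (MvPolynomial (Fin m) A))
    (hη : Ideal.span ((MvPolynomial.map (algebraMap A (FractionRing A))) '' (P : Set (MvPolynomial (Fin m) A))) = ⊤) :
    ∃ f : A, f ≠ 0 ∧ ∀ p : PrimeSpectrum A, f ∉ p.asIdeal →
      Ideal.span ((MvPolynomial.map (algebraMap A p.asIdeal.ResidueField)) '' (P : Set (MvPolynomial (Fin m) A))) = ⊤ := by
  classical
  set J : Ideal (MvPolynomial (Fin m) A) := Ideal.span (P : Set (MvPolynomial (Fin m) A)) with hJdef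
  have hJ : J.map (algebraMap (MvPolynomial (Fin m) A) (MvPolynomial (Fin m) (FractionRing A))) = ⊤ := by
    rw [hJdef, Ideal.map_span, MvPolynomial.algebraMap_def]; exact hη
  have hnd : ¬ Disjoint (((nonZeroDivisors A).map (MvPolynomial.C (σ := Fin m)) :
      Submonoid (MvPolynomial (Fin m) A)) : Set (MvPolynomial (Fin m) A)) (J : Set _) := by
    intro hd
    exact (IsLocalization.map_algebraMap_ne_top_iff_disjoint
      (M := (nonZeroDivisors A).map (MvPolynomial.C (σ := Fin m)))
      (S := MvPolynomial (Fin m) (FractionRing A)) J).mpr hd hJ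
  rw [Set.not_disjoint_iff] at hnd
  obtain ⟨x, ⟨f, hf, rfl⟩, hxJ⟩ := hnd
  refine ⟨f, nonZeroDivisors.ne_zero hf, fun p hp => ?_⟩
  have hmem : (MvPolynomial.map (algebraMap A p.asIdeal.ResidueField)) (MvPolynomial.C f) ∈
      Ideal.span ((MvPolynomial.map (algebraMap A p.asIdeal.ResidueField)) ''
        (P : Set (MvPolynomial (Fin m) A))) := by
    rw [← Ideal.map_span]; exact Ideal.mem_map_of_mem _ hxJ
  rw [MvPolynomial.map_C] at hmem
  have hne : algebraMap A p.asIdeal.ResidueField f ≠ 0 := by
    rw [Ne, Ideal.algebraMap_residueField_eq_zero]; exact hp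
  exact Ideal.eq_top_of_isUnit_mem _ hmem ((IsUnit.mk0 _ hne).map MvPolynomial.C)

end Groth.Agent.S4821
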