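import Groth.Statements.S4824
import Groth.Agent.Lib.Helper14.GeomIrrPoly

set_option autoImplicit false
open CategoryTheory AlgebraicGeometry
universe u
open Cons9

namespace Groth.Agent.S4824

/-- Let k be a field, Ω an algebraically closed extension of k and F a non-constant polynomial in k[T_1,
…, T_n]. The following are equivalent: (a) the k-scheme Spec(k[T_1, …, T_n]/(F)) is geometrically
integral; (b) for every extension field K of k the image of F in K[T_1, …, T_n] is irreducible; (c)
the image of F in Ω[T_1, …, T_n] is irreducible. (Such an F is called geometrically irreducible.) -/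
theorem result {k : Type u} [Field k] (Ω : Type u) [Field Ω] [Algebra k Ω]
    [IsAlgClosed Ω] {n : ℕ} (F : MvPolynomial (Fin n) k) (hF : 0 < F.totalDegree) :
    List.TFAE [
      GeometricallyIntegral (Spec.map (CommRingCat.ofHom
        (algebraMap k (MvPolynomial (Fin n) k ⧸ Ideal.span ({F} : Set (MvPolynomial (Fin n) k)))))),
      ∀ (K : Type u) [Field K] [Algebra k K], Irreducible (MvPolynomial.map (algebraMap k K) F),
      Irreducible (MvPolynomial.map (algebraMap k Ω) F)] := by
  classical
  haveI : ObjectProperty.IsClosedUnderIsomorphisms (C := Scheme.{u}) IsIntegral :=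
    ⟨fun {X Y} e (h : IsIntegral X) => by
      haveI := h
      haveI : Nonempty Y := ⟨e.hom (Nonempty.some inferInstance)⟩
      exact isIntegral_of_isOpenImmersion e.inv⟩
  -- geometric integrality in terms of tensor products
  have hG : GeometricallyIntegral (Spec.map (CommRingCat.ofHom
        (algebraMap k (MvPolynomial (Fin n) k ⧸ Ideal.span ({F} : Set (MvPolynomial (Fin n) k)))))) ↔
      ∀ (K : Type u) [Field K] [Algebra k K],
        IsDomain (MvPolynomial (Fin n) K ⧸
          Ideal.span ({MvPolynomial.map (algebraMap k K) F} : Set (MvPolynomial (Fin n) K))) := by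
    rw [geometricallyIntegral_iff, geometrically_iff_of_commRing_of_isClosedUnderIsomorphisms]
    refine forall_congr' fun K => forall_congr' fun _ => forall_congr' fun _ => ?_
    have e1 := pullbackSpecIso k
      (MvPolynomial (Fin n) k ⧸ Ideal.span ({F} : Set (MvPolynomial (Fin n) k))) K
    rw [ObjectProperty.prop_iff_of_iso (P := (IsIntegral : ObjectProperty Scheme.{u})) e1,
      affine_isIntegral_iff]
    let e2 := (Algebra.TensorProduct.comm k
      (MvPolynomial (Fin n) k ⧸ Ideal.span ({F} : Set (MvPolynomial (Fin n) k))) K)
    let e3 := Groth.Agent.Lib.Helper14.GeomIrrPoly.quotTensorEquiv k K F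
    constructor
    · intro h
      have hinj : Function.Injective ((e3.symm.toAlgHom.toRingHom).comp (RingHom.id _)) :=
        e3.symm.injective
      have h2 : IsDomain (TensorProduct k K
          (MvPolynomial (Fin n) k ⧸ Ideal.span ({F} : Set (MvPolynomial (Fin n) k)))) := by
        have hinj' : Function.Injective (e2.symm.toAlgHom.toRingHom) := e2.symm.injective
        haveI : IsDomain (TensorProduct k
          (MvPolynomial (Fin n) k ⧸ Ideal.span ({F} : Set (MvPolynomial (Fin n) k))) K) := h
        exact Function.Injective.isDomain _ hinj'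
      exact Function.Injective.isDomain _ hinj
    · intro h
      have hinj : Function.Injective (e3.toAlgHom.toRingHom) := e3.injective
      have h2 : IsDomain (TensorProduct k K
          (MvPolynomial (Fin n) k ⧸ Ideal.span ({F} : Set (MvPolynomial (Fin n) k)))) :=
        Function.Injective.isDomain _ hinj
      have hinj' : Function.Injective (e2.toAlgHom.toRingHom) := e2.injective
      exact Function.Injective.isDomain _ hinj'
  have hF0 : F ≠ 0 := by
    intro h
    rw [h, MvPolynomial.totalDegree_zero] at hF
    exact lt_irrefl _ hF
  have hmap0 : ∀ (K : Type u) [Field K] [Algebra k K], MvPolynomial.map (algebraMap k K) F ≠ 0 := by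
    intro K _ _ h0
    apply hF0
    apply MvPolynomial.map_injective (algebraMap k K) (algebraMap k K).injective
    rw [h0, map_zero]
  have hiff : ∀ (K : Type u) [Field K] [Algebra k K],
      IsDomain (MvPolynomial (Fin n) K ⧸
          Ideal.span ({MvPolynomial.map (algebraMap k K) F} : Set (MvPolynomial (Fin n) K))) ↔
        Irreducible (MvPolynomial.map (algebraMap k K) F) := by
    intro K _ _
    rw [Ideal.Quotient.isDomain_iff_prime, Ideal.span_singleton_prime (hmap0 K),
      UniqueFactorizationMonoid.irreducible_iff_prime]
  tfae_have 1 → 2 := by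
    intro h K _ _
    exact (hiff K).mp (hG.mp h K)
  tfae_have 2 → 3 := fun h => h Ω
  tfae_have 3 → 1 := by
    intro h
    rw [hG]
    intro K _ _
    rw [hiff K]
    -- a common extension of `K` and `Ω`
    obtain ⟨m, hm⟩ := Ideal.exists_maximal (TensorProduct k K Ω)
    letI : Field (TensorProduct k K Ω ⧸ m) := Ideal.Quotient.field m
    let φK : K →+* (TensorProduct k K Ω ⧸ m) :=
      (Ideal.Quotient.mk m).comp Algebra.TensorProduct.includeLeftRingHom
    let φΩ : Ω →+* (TensorProduct k K Ω ⧸ m) :=
      (Ideal.Quotient.mk m).comp (Algebra.TensorProduct.includeRight (R := k) (A := K) (B := Ω)).toRingHom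
    have hcomm : φK.comp (algebraMap k K) = φΩ.comp (algebraMap k Ω) := by
      ext x
      simp only [φK, φΩ, RingHom.comp_apply]
      congr 1
      simp [Algebra.TensorProduct.includeLeftRingHom, Algebra.algebraMap_eq_smul_one,
        TensorProduct.smul_tmul]
    letI : Algebra Ω (TensorProduct k K Ω ⧸ m) := φΩ.toAlgebra
    have h1 := Groth.Agent.Lib.Helper14.GeomIrrPoly.irreducible_map_of_isAlgClosed Ω
      (TensorProduct k K Ω ⧸ m) (MvPolynomial.map (algebraMap k Ω) F) h
    have h2 : MvPolynomial.map (algebraMap Ω (TensorProduct k K Ω ⧸ m))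
        (MvPolynomial.map (algebraMap k Ω) F) =
        MvPolynomial.map φK (MvPolynomial.map (algebraMap k K) F) := by
      rw [MvPolynomial.map_map, MvPolynomial.map_map]
      rw [show (algebraMap Ω (TensorProduct k K Ω ⧸ m)).comp (algebraMap k Ω) =
        φK.comp (algebraMap k K) from hcomm.symm]
    rw [h2] at h1
    exact Groth.Agent.Lib.Helper14.GeomIrrPoly.irreducible_of_irreducible_map φK _ h1
  tfae_finish

end Groth.Agent.S4824
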