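import Groth.Statements.S4826
-- import your own Groth.Agent.* helpers here
import Groth.Agent.Lib.Helper9.NormRedLoc4
import Groth.Agent.Lib.Helper9.NGeom15

set_option linter.style.haveILetI false
set_option backward.isDefEq.respectTransparency false

set_option autoImplicit false
open CategoryTheory AlgebraicGeometry
universe u
open Cons9

namespace Groth.Agent.S4826

/-- Let X be a locally Noetherian scheme whose reduction has a normalization finite over X: for every
affine open U of X, the integral closure of Γ(U)_red in its total ring of fractions is a finite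
module over Γ(U)_red. Then the set of points x of X at which X is geometrically unibranch (the local
ring O_{X,x} is geometrically unibranch) is locally constructible in X. -/
theorem result (X : Scheme.{u}) [IsLocallyNoetherian X]
    (hfin : ∀ U : X.affineOpens, Module.Finite (CAlg2.red Γ(X, U.1)) (CAlg2.normRed Γ(X, U.1))) :
    Topology.IsLocallyConstructible {x : X | CAlg2.IsGeomUnibranch (X.presheaf.stalk x)} := by
  refine Topology.IsLocallyConstructible.of_isOpenCover
    (U := fun W : X.affineOpens => W.2.fromSpec.opensRange) ?_ fun W => ?_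
  · rw [TopologicalSpace.IsOpenCover, eq_top_iff]
    intro x _
    obtain ⟨_, ⟨V, hV, rfl⟩, hxV, -⟩ :=
      X.isBasis_affineOpens.exists_subset_of_mem_open (Set.mem_univ x) isOpen_univ
    refine TopologicalSpace.Opens.mem_iSup.mpr ⟨⟨V, hV⟩, ?_⟩
    change x ∈ Set.range hV.fromSpec
    rw [hV.range_fromSpec]
    exact hxV
  · obtain ⟨V, hV⟩ := W
    haveI : IsNoetherianRing Γ(X, V) := IsLocallyNoetherian.component_noetherian ⟨V, hV⟩
    have h1 := Groth.Agent.Lib.helper9.NormRedLoc.isLocallyConstructible_setOf_isGeomUnibranch_spec
      Γ(X, V) (hfin ⟨V, hV⟩)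
    have hpre : hV.fromSpec ⁻¹' {x : X | CAlg2.IsGeomUnibranch (X.presheaf.stalk x)} =
        {y : Spec (CommRingCat.of Γ(X, V)) |
          CAlg2.IsGeomUnibranch ((Spec (CommRingCat.of Γ(X, V))).presheaf.stalk y)} := by
      ext y
      haveI : IsIso (hV.fromSpec.stalkMap y) := inferInstance
      let e : X.presheaf.stalk (hV.fromSpec y) ≃+* (Spec Γ(X, V)).presheaf.stalk y :=
        (asIso (hV.fromSpec.stalkMap y)).commRingCatIsoToRingEquiv
      exact ⟨fun h => Groth.Agent.Lib.Helper14.GUBirat.isGeomUnibranch_of_ringEquiv e h,
        fun h => Groth.Agent.Lib.Helper14.GUBirat.isGeomUnibranch_of_ringEquiv e.symm h⟩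
    rw [← hpre] at h1
    exact Groth.Agent.Lib.helper9.NGeom.isLocallyConstructible_range_of_preimage hV.fromSpec
      hV.fromSpec.isOpenEmbedding _ h1

end Groth.Agent.S4826
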