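import Groth.Statements.S4833
import Groth.Agent.Lib.Helper3.RelFlatBC
import Groth.Agent.Lib.Helper3.FlatDescJ
import Groth.Agent.Lib.Helper17.FlatOver6
import Groth.Agent.Lib.Helper11.GenFlatSch2
import Groth.Agent.Lib.Helper5.ConsSep3
import Groth.Agent.Lib.Helper11.ConsMod3

set_option autoImplicit false
open CategoryTheory AlgebraicGeometry
universe u
open Cons9

namespace Groth.Agent.S4833

open CategoryTheory.Limits in
/-- Let S be an integral Noetherian scheme with generic point η, let g : X ⟶ Y be an S-morphism between
schemes of finite type over S (structure morphisms h : Y ⟶ S and g ≫ h), and let F be a coherent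
O_X-module. For s in S write g_s : X_s ⟶ Y_s for the morphism induced on the fibres over s and F_s
for the pullback of F to X_s. If F_η is not flat relative to g_η (not flat over O_{Y_η, g_η(x)} at
some point x of X_η), then there is an open neighbourhood U of η such that for every s in U the
module F_s is not flat relative to g_s. -/
theorem result {X Y S : Scheme.{u}} [IsIntegral S] [IsNoetherian S]
    (g : X ⟶ Y) (h : Y ⟶ S) [LocallyOfFiniteType h] [QuasiCompact h]
    [LocallyOfFiniteType (g ≫ h)] [QuasiCompact (g ≫ h)]
    (F : X.Modules) [Coh.IsQCoh F] (hF : CohB1.IsFP F)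
    (hη : ¬ FlatMod.IsFlatOver
      (pullback.lift (pullback.fst (g ≫ h) (S.fromSpecResidueField (genericPoint S)) ≫ g)
          (pullback.snd (g ≫ h) (S.fromSpecResidueField (genericPoint S)))
          ((Category.assoc _ _ _).trans pullback.condition) :
        pullback (g ≫ h) (S.fromSpecResidueField (genericPoint S)) ⟶ pullback h (S.fromSpecResidueField (genericPoint S)))
      ((Scheme.Modules.pullback (pullback.fst (g ≫ h) (S.fromSpecResidueField (genericPoint S)))).obj F)) :
    ∃ U : S.Opens, genericPoint S ∈ U ∧ ∀ s ∈ U, ¬ FlatMod.IsFlatOver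
      (pullback.lift (pullback.fst (g ≫ h) (S.fromSpecResidueField s) ≫ g) (pullback.snd (g ≫ h) (S.fromSpecResidueField s))
          ((Category.assoc _ _ _).trans pullback.condition) :
        pullback (g ≫ h) (S.fromSpecResidueField s) ⟶ pullback h (S.fromSpecResidueField s))
      ((Scheme.Modules.pullback (pullback.fst (g ≫ h) (S.fromSpecResidueField s))).obj F) := by
  classical
  haveI : IsNoetherian Y := Groth.Agent.Lib.helper5.ConsFibre.isNoetherian_of_lft h
  haveI : IsNoetherian X := Groth.Agent.Lib.helper5.ConsFibre.isNoetherian_of_lft (g ≫ h)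
  haveI : F.IsQuasicoherent := inferInstance
  have hcoh : Coh.IsCoh F := Groth.Agent.Lib.helper11.ConsMod.isCoh_of_isFP F hF
  haveI : LocallyOfFiniteType g := locallyOfFiniteType_of_comp g h
  haveI : LocallyOfFinitePresentation g :=
    (LocallyOfFinitePresentation.iff_locallyOfFiniteType).mpr inferInstance
  haveI : LocallyOfFinitePresentation (g ≫ h) :=
    (LocallyOfFinitePresentation.iff_locallyOfFiniteType).mpr inferInstance
  set E : Set X := {x : X | FlatMod.IsFlatOverAt g F x}ᶜ with hE
  have hEc : IsClosed E :=
    (Groth.Agent.Lib.helper3.FlatDesc.isOpen_flatLocus_modules g F hF).isClosed_compl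
  have hEcons : Topology.IsConstructible E :=
    Groth.Agent.Lib.helper9.isConstructible_of_isLocallyClosed hEc.isLocallyClosed
  obtain ⟨V, hVne, hV⟩ :=
    Groth.Agent.Lib.helper11.GenFlatSch.generic_flatness_of_finiteType (g ≫ h) F hcoh
  have hηV := Groth.Agent.Lib.helper5.ConsSep.genericPoint_mem_of_nonempty V hVne
  -- the squares
  have hY : ∀ s : S, IsPullback (pullback.fst h (S.fromSpecResidueField s))
      (pullback.snd h (S.fromSpecResidueField s)) h (S.fromSpecResidueField s) :=
    fun s => IsPullback.of_hasPullback _ _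
  have hX : ∀ s : S, IsPullback (pullback.fst (g ≫ h) (S.fromSpecResidueField s))
      (pullback.snd (g ≫ h) (S.fromSpecResidueField s)) (g ≫ h) (S.fromSpecResidueField s) :=
    fun s => IsPullback.of_hasPullback _ _
  have hw : ∀ s : S, pullback.fst (g ≫ h) (S.fromSpecResidueField s) ≫ g =
      (pullback.lift (pullback.fst (g ≫ h) (S.fromSpecResidueField s) ≫ g)
          (pullback.snd (g ≫ h) (S.fromSpecResidueField s))
          ((Category.assoc _ _ _).trans pullback.condition) :
        pullback (g ≫ h) (S.fromSpecResidueField s) ⟶ pullback h (S.fromSpecResidueField s)) ≫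
        pullback.fst h (S.fromSpecResidueField s) := fun s => (pullback.lift_fst _ _ _).symm
  have hsnd : ∀ s : S,
      (pullback.lift (pullback.fst (g ≫ h) (S.fromSpecResidueField s) ≫ g)
          (pullback.snd (g ≫ h) (S.fromSpecResidueField s))
          ((Category.assoc _ _ _).trans pullback.condition) :
        pullback (g ≫ h) (S.fromSpecResidueField s) ⟶ pullback h (S.fromSpecResidueField s)) ≫
        pullback.snd h (S.fromSpecResidueField s) =
      pullback.snd (g ≫ h) (S.fromSpecResidueField s) := fun s => pullback.lift_snd _ _ _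
  have hsq : ∀ s : S, IsPullback (pullback.fst (g ≫ h) (S.fromSpecResidueField s))
      (pullback.lift (pullback.fst (g ≫ h) (S.fromSpecResidueField s) ≫ g)
          (pullback.snd (g ≫ h) (S.fromSpecResidueField s))
          ((Category.assoc _ _ _).trans pullback.condition) :
        pullback (g ≫ h) (S.fromSpecResidueField s) ⟶ pullback h (S.fromSpecResidueField s))
      g (pullback.fst h (S.fromSpecResidueField s)) := by
    intro s
    refine IsPullback.of_bot ?_ (hw s) (hY s)
    rw [hsnd s]
    exact hX s
  have hfib : ∀ (s : S) (z : ↥(pullback (g ≫ h) (S.fromSpecResidueField s))),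
      (g ≫ h) (pullback.fst (g ≫ h) (S.fromSpecResidueField s) z) = s := by
    intro s z
    have : (g ≫ h).fiberι s z ∈ (g ≫ h) ⁻¹' {s} := by
      rw [← (g ≫ h).range_fiberι s]; exact ⟨z, rfl⟩
    exact this
  -- the generic point is in the image of the non-flat locus
  have hη' : genericPoint S ∈ (g ≫ h) '' E := by
    by_contra hcon
    apply hη
    intro x'
    have h1 : FlatMod.IsFlatOverAt g F
        (pullback.fst (g ≫ h) (S.fromSpecResidueField (genericPoint S)) x') := by
      by_contra hx
      exact hcon ⟨_, hx, hfib _ x'⟩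
    exact (Groth.Agent.Lib.helper17.FlatOver6.isFlatOverAt_baseChange_both
      (hsq (genericPoint S)) F x').1 h1
  obtain ⟨V₁, hηV₁, hV₁⟩ :=
    Groth.Agent.Lib.helper5.ConsSep.exists_open_subset_image (g ≫ h) E hEcons hη'
  refine ⟨V ⊓ V₁, ⟨hηV, hηV₁⟩, fun s hs hfl => ?_⟩
  obtain ⟨x, hxE, hxs⟩ := hV₁ hs.2
  have hxr : x ∈ Set.range ((g ≫ h).fiberι s) := by
    rw [(g ≫ h).range_fiberι s]; exact hxs
  obtain ⟨x', rfl⟩ := hxr
  refine hxE (Groth.Agent.Lib.helper3.RelFlatBC.isFlatOverAt_of_baseChange g h F hF
    (S.fromSpecResidueField s) (pullback.fst h (S.fromSpecResidueField s))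
    (pullback.snd h (S.fromSpecResidueField s)) (hY s)
    (pullback.fst (g ≫ h) (S.fromSpecResidueField s)) _ ?_ (hw s) x' ?_ (hfl x'))
  · rw [hsnd s]
    exact hX s
  · exact hV _ (by rw [hfib s x']; exact hs.1)

end Groth.Agent.S4833
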