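import Groth.Statements.S4834
import Mathlib

set_option autoImplicit false
open CategoryTheory CategoryTheory.Limits
universe u
open Lim8

namespace Groth.Agent.S4834


/-- two maps from a finite module into a stage of a directed system which agree after passing
to the colimit already agree at a later stage -/
theorem exists_map_eq {A : Type u} [CommRing A] (M : ModuleCat.{u} A)
    [Module.Finite A M] {J : Type u} [Preorder J] [IsDirected J (· ≤ ·)] [Nonempty J]
    (N : J ⥤ ModuleCat.{u} A) (k : J) (φ ψ : M ⟶ N.obj k)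
    (h : φ ≫ colimit.ι N k = ψ ≫ colimit.ι N k) :
    ∃ (k' : J) (f : k ⟶ k'), φ ≫ N.map f = ψ ≫ N.map f := by
  obtain ⟨s, hs⟩ := (Module.Finite.fg_top (R := A) (M := M))
  -- for each generator
  have key : ∀ m : M, ∃ (k' : J) (f : k ⟶ k'), N.map f (φ m) = N.map f (ψ m) := by
    intro m
    have hm : colimit.ι N k (φ m) = colimit.ι N k (ψ m) := by
      have := congr($h m)
      simpa using this
    obtain ⟨k', f, g, hfg⟩ := Concrete.colimit_exists_of_rep_eq N _ _ hm
    have : f = g := Subsingleton.elim _ _
    subst this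
    exact ⟨k', f, hfg⟩
  choose kk ff hff using key
  obtain ⟨K, hK⟩ : ∃ K : J, k ≤ K ∧ ∀ m ∈ s, kk m ≤ K := by
    classical
    obtain ⟨K, hK⟩ := Finset.exists_le (insert k (s.image kk))
    exact ⟨K, hK k (Finset.mem_insert_self _ _), fun m hm =>
      hK _ (Finset.mem_insert_of_mem (Finset.mem_image_of_mem _ hm))⟩
  refine ⟨K, homOfLE hK.1, ?_⟩
  ext1
  apply LinearMap.ext_on hs
  intro m hm
  have e : homOfLE hK.1 = ff m ≫ homOfLE (hK.2 m hm) := Subsingleton.elim _ _
  simp only [ModuleCat.hom_comp, LinearMap.coe_comp, Function.comp_apply]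
  rw [e, N.map_comp]
  simp only [ModuleCat.hom_comp, LinearMap.coe_comp, Function.comp_apply]
  exact congrArg _ (hff m)

theorem result' {A : Type u} [CommRing A] (M : ModuleCat.{u} A)
    [Module.Finite A M] {J : Type u} [Preorder J] [IsDirected J (· ≤ ·)] [Nonempty J]
    (N : J ⥤ ModuleCat.{u} A) :
    Function.Injective (colimit.post N (coyoneda.obj (Opposite.op M))) := by
  intro x y hxy
  obtain ⟨i, φ, rfl⟩ := Types.jointly_surjective' x
  obtain ⟨j, ψ, rfl⟩ := Types.jointly_surjective' y
  have hpost : ∀ (i : J) (φ : (N ⋙ coyoneda.obj (Opposite.op M)).obj i),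
      colimit.post N (coyoneda.obj (Opposite.op M))
        (colimit.ι (N ⋙ coyoneda.obj (Opposite.op M)) i φ) = φ ≫ colimit.ι N i := by
    intro i φ
    have := ConcreteCategory.congr_hom (colimit.ι_post N (coyoneda.obj (Opposite.op M)) i) φ
    exact this
  rw [hpost, hpost] at hxy
  obtain ⟨k, hik, hjk⟩ := exists_ge_ge i j
  have h1 : (φ ≫ N.map (homOfLE hik)) ≫ colimit.ι N k = (ψ ≫ N.map (homOfLE hjk)) ≫ colimit.ι N k := by
    rw [Category.assoc, Category.assoc, colimit.w, colimit.w]
    exact hxy
  obtain ⟨k', f, hf⟩ := exists_map_eq M N k _ _ h1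
  rw [Types.FilteredColimit.colimit_eq_iff]
  refine ⟨k', homOfLE hik ≫ f, homOfLE hjk ≫ f, ?_⟩
  change φ ≫ N.map (homOfLE hik ≫ f) = ψ ≫ N.map (homOfLE hjk ≫ f)
  rw [N.map_comp, N.map_comp, ← Category.assoc, ← Category.assoc]
  exact hf



/-- Let A be a commutative ring, M an A-module of finite type and (N_λ) an inductive system of A-modules
indexed by a nonempty directed preordered set. Then the canonical map colim_λ Hom_A(M, N_λ) →
Hom_A(M, colim_λ N_λ), sending a compatible system of homomorphisms to its inductive limit, is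
injective. This is the finite type case, in the form its proof gives. -/
theorem result {A : Type u} [CommRing A] (M : ModuleCat.{u} A)
    [Module.Finite A M] {J : Type u} [Preorder J] [IsDirected J (· ≤ ·)] [Nonempty J]
    (N : J ⥤ ModuleCat.{u} A) :
    Function.Injective (colimit.post N (coyoneda.obj (Opposite.op M))) := by
  exact Groth.Agent.S4834.result' M N

end Groth.Agent.S4834
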