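import Groth.Statements.S4835
import Mathlib
import Groth.Agent.S4834

set_option autoImplicit false
open CategoryTheory CategoryTheory.Limits
universe u
open Lim8

namespace Groth.Agent.S4835


/-- finitely many elements of a filtered colimit of modules come from a common stage -/
theorem exists_common_rep {A : Type u} [CommRing A]
    {J : Type u} [Preorder J] [IsDirected J (· ≤ ·)] [Nonempty J]
    (N : J ⥤ ModuleCat.{u} A) {n : ℕ} (z : Fin n → (colimit N : ModuleCat.{u} A)) :
    ∃ (k : J) (x : Fin n → N.obj k), ∀ i, colimit.ι N k (x i) = z i := by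
  have key : ∀ i, ∃ (k : J) (y : N.obj k), colimit.ι N k y = z i :=
    fun i => Concrete.colimit_exists_rep N (z i)
  classical
  choose kk yy hyy using key
  obtain ⟨K, hK⟩ := Finset.exists_le (Finset.univ.image kk)
  have hK' : ∀ i, kk i ≤ K := fun i => hK _ (Finset.mem_image_of_mem _ (Finset.mem_univ i))
  refine ⟨K, fun i => N.map (homOfLE (hK' i)) (yy i), fun i => ?_⟩
  rw [← hyy i]
  exact ConcreteCategory.congr_hom (colimit.w N (homOfLE (hK' i))) (yy i)

/-- finitely many elements of a stage dying in the colimit die at a common later stage -/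
theorem exists_common_zero {A : Type u} [CommRing A]
    {J : Type u} [Preorder J] [IsDirected J (· ≤ ·)] [Nonempty J]
    (N : J ⥤ ModuleCat.{u} A) {m : ℕ} (k : J) (y : Fin m → N.obj k)
    (hy : ∀ j, colimit.ι N k (y j) = 0) :
    ∃ (k' : J) (f : k ⟶ k'), ∀ j, N.map f (y j) = 0 := by
  have key : ∀ j, ∃ (k' : J) (f : k ⟶ k'), N.map f (y j) = 0 := by
    intro j
    have hm : colimit.ι N k (y j) = colimit.ι N k (0 : N.obj k) := by
      rw [hy j, map_zero]
    obtain ⟨k', f, g, hfg⟩ := Concrete.colimit_exists_of_rep_eq N _ _ hm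
    exact ⟨k', f, hfg.trans (map_zero _)⟩
  classical
  choose kk ff hff using key
  obtain ⟨K, hK⟩ := Finset.exists_le (insert k (Finset.univ.image kk))
  have hK0 : k ≤ K := hK k (Finset.mem_insert_self _ _)
  have hK' : ∀ j, kk j ≤ K := fun j =>
    hK _ (Finset.mem_insert_of_mem (Finset.mem_image_of_mem _ (Finset.mem_univ j)))
  refine ⟨K, homOfLE hK0, fun j => ?_⟩
  have e : homOfLE hK0 = ff j ≫ homOfLE (hK' j) := Subsingleton.elim _ _
  rw [e, N.map_comp]
  simp only [ModuleCat.hom_comp, LinearMap.coe_comp, Function.comp_apply]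
  rw [hff j, map_zero]

theorem exists_lift {A : Type u} [CommRing A] (M : ModuleCat.{u} A)
    [Module.FinitePresentation A M] {J : Type u} [Preorder J] [IsDirected J (· ≤ ·)] [Nonempty J]
    (N : J ⥤ ModuleCat.{u} A) (G : M ⟶ colimit N) :
    ∃ (k : J) (ψ : M ⟶ N.obj k), ψ ≫ colimit.ι N k = G := by
  obtain ⟨n, m, f, g, hf, hfg⟩ := Module.FinitePresentation.exists_fin' A M
  obtain ⟨k, x, hx⟩ := exists_common_rep N (fun i => G (f (Pi.single i 1)))
  let φ₀ : (Fin n → A) →ₗ[A] N.obj k := Fintype.linearCombination A x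
  have hφ₀ : (colimit.ι N k).hom ∘ₗ φ₀ = G.hom ∘ₗ f := by
    apply LinearMap.pi_ext'
    intro i
    ext
    simp only [LinearMap.coe_comp, LinearMap.coe_single, Function.comp_apply, φ₀,
      Fintype.linearCombination_apply_single, one_smul]
    exact hx i
  have hzero : ∀ j, colimit.ι N k (φ₀ (g (Pi.single j 1))) = 0 := by
    intro j
    have h1 := congrArg (fun L => L (g (Pi.single j 1))) hφ₀
    simp only [LinearMap.coe_comp, Function.comp_apply] at h1
    have h2 : f (g (Pi.single j 1)) = 0 := hfg.apply_apply_eq_zero _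
    rw [h2, map_zero] at h1
    exact h1
  obtain ⟨k', t, ht⟩ := exists_common_zero N k (fun j => φ₀ (g (Pi.single j 1))) hzero
  let φ₁ : (Fin n → A) →ₗ[A] N.obj k' := (N.map t).hom ∘ₗ φ₀
  have hφ₁g : φ₁ ∘ₗ g = 0 := by
    apply LinearMap.pi_ext'
    intro j
    ext
    simp only [LinearMap.coe_comp, LinearMap.coe_single, Function.comp_apply, φ₁,
      LinearMap.zero_apply]
    exact ht j
  have hker : LinearMap.ker f ≤ LinearMap.ker φ₁ := by
    intro v hv
    obtain ⟨w, rfl⟩ := (hfg v).mp hv
    exact congrArg (fun L => L w) hφ₁g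
  let ψ : M →ₗ[A] N.obj k' :=
    (Submodule.liftQ _ φ₁ hker) ∘ₗ (f.quotKerEquivOfSurjective hf).symm.toLinearMap
  have hψ : ∀ v, ψ (f v) = φ₁ v := by
    intro v
    have : (f.quotKerEquivOfSurjective hf).symm (f v) = Submodule.Quotient.mk v := by
      rw [LinearEquiv.symm_apply_eq]
      rfl
    simp only [ψ, LinearMap.coe_comp, LinearEquiv.coe_coe, Function.comp_apply, this]
    rfl
  refine ⟨k', ModuleCat.ofHom ψ, ?_⟩
  ext1
  apply LinearMap.ext
  intro mm
  obtain ⟨v, rfl⟩ := hf mm
  simp only [ModuleCat.hom_comp, ModuleCat.hom_ofHom, LinearMap.coe_comp, Function.comp_apply]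
  rw [hψ v]
  have h1 := congrArg (fun L => L v) hφ₀
  simp only [LinearMap.coe_comp, Function.comp_apply] at h1
  rw [← h1]
  exact ConcreteCategory.congr_hom (colimit.w N t) (φ₀ v)



/-- Let A be a commutative ring, M an A-module of finite presentation and (N_λ) an inductive system of
A-modules indexed by a nonempty directed preordered set. Then the canonical map colim_λ Hom_A(M,
N_λ) → Hom_A(M, colim_λ N_λ), sending a compatible system of homomorphisms to its inductive limit,
is bijective. This is the form established in the source's proof (finite presentation case). -/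
theorem result {A : Type u} [CommRing A] (M : ModuleCat.{u} A)
    [Module.FinitePresentation A M] {J : Type u} [Preorder J] [IsDirected J (· ≤ ·)] [Nonempty J]
    (N : J ⥤ ModuleCat.{u} A) :
    Function.Bijective (colimit.post N (coyoneda.obj (Opposite.op M))) := by
  haveI : Module.Finite A M := inferInstance
  refine ⟨Groth.Agent.S4834.result' M N, ?_⟩
  intro G
  obtain ⟨k, ψ, hψ⟩ := Groth.Agent.S4835.exists_lift M N G
  refine ⟨colimit.ι (N ⋙ coyoneda.obj (Opposite.op M)) k ψ, ?_⟩
  have := ConcreteCategory.congr_hom (colimit.ι_post N (coyoneda.obj (Opposite.op M)) k) ψ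
  exact this.trans hψ

end Groth.Agent.S4835
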