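import Groth.Statements.S4837
import Mathlib
import Groth.Agent.S3569
import Groth.Agent.S8255

set_option autoImplicit false
open CategoryTheory AlgebraicGeometry
universe u
open Lim8

namespace Groth.Agent.S4837

open TopologicalSpace Opposite

theorem exists_affine_mem {S : Scheme.{u}} (s : S) : ∃ V : S.affineOpens, s ∈ V.1 := by
  obtain ⟨_, ⟨U, hU, rfl⟩, hxU, -⟩ := S.isBasis_affineOpens.exists_subset_of_mem_open
    (Set.mem_univ s) isOpen_univ
  exact ⟨⟨U, hU⟩, hxU⟩

/-- Injectivity of a map of presheaves of rings out of a sheaf can be checked on affine opens. -/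
theorem injective_of_affine {Y : Scheme.{u}} {P Q : TopCat.Presheaf CommRingCat.{u} Y.carrier}
    (hP : P.IsSheaf) (α : P ⟶ Q)
    (h : ∀ V : Y.affineOpens, Function.Injective (α.app (op V.1)).hom) (U : Y.Opens) :
    Function.Injective (α.app (op U)).hom := by
  rw [injective_iff_map_eq_zero]
  intro s hs
  let F : TopCat.Sheaf CommRingCat.{u} Y.carrier := ⟨P, hP⟩
  refine TopCat.Sheaf.eq_of_locally_eq' F (ι := {V : Y.affineOpens // V.1 ≤ U})
    (fun V => V.1.1) U (fun V => homOfLE V.2) ?_ s 0 ?_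
  · intro y hy
    obtain ⟨_, ⟨V, hV, rfl⟩, hyV, hVU⟩ := Y.isBasis_affineOpens.exists_subset_of_mem_open hy U.isOpen
    exact Opens.mem_iSup.mpr ⟨⟨⟨V, hV⟩, hVU⟩, hyV⟩
  · intro V
    apply h V.1
    have hn := α.naturality (homOfLE V.2).op
    have h1 : (α.app (op V.1.1)).hom ((P.map (homOfLE V.2).op).hom s) =
        (Q.map (homOfLE V.2).op).hom ((α.app (op U)).hom s) :=
      congrArg (fun k => k.hom s) hn
    have h2 : (α.app (op V.1.1)).hom ((P.map (homOfLE V.2).op).hom 0) = 0 := by
      rw [map_zero, map_zero]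
    exact h1.trans ((congrArg _ hs).trans ((map_zero _).trans h2.symm))

/-- Let f : X ⟶ Y be a quasi-compact quasi-separated morphism, C a quasi-coherent O_Y-algebra with
relative spectrum Z = Spec(C) over Y, g : X ⟶ Z a Y-morphism which is an immersion, and φ : C ⟶
f_*O_X the homomorphism of O_Y-algebras corresponding to g (the canonical identification of C with
the direct image of O_Z followed by the map induced by g). Then the scheme-theoretic image of g is
the whole of Z, i.e. the kernel ideal of g vanishes, if and only if φ is injective; and when this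
holds g is an open immersion. -/
theorem result {X Y : Scheme.{u}} (f : X ⟶ Y)
    [QuasiCompact f] [QuasiSeparated f] (C : RelSpec.QCAlg Y) (g : X ⟶ C.spec) (w : g ≫ C.π = f)
    [IsImmersion g] (φ : C ⟶ RelSpec.QCAlg.directImage f)
    (hφ : C.gammaMap ≫ φ.hom = AffAlg.algHom C.π f g w) :
    (g.ker = ⊥ ↔ ∀ U : Y.Opens, Function.Injective (φ.hom.app (Opposite.op U)).hom) ∧
      (g.ker = ⊥ → IsOpenImmersion g) := by
  have hqc : QuasiCompact g := by
    have : QuasiCompact (g ≫ C.π) := by rw [w]; infer_instance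
    exact QuasiCompact.of_comp g C.π
  have hγiso : IsIso C.gammaMap := Groth.Agent.S8255.result C
  -- the comparison on affine opens
  have key : ∀ V : Y.affineOpens, Function.Injective (φ.hom.app (op V.1)).hom ↔
      RingHom.ker (g.app (C.π ⁻¹ᵁ V.1)).hom = ⊥ := by
    intro V
    have hUV : g ⁻¹ᵁ (C.π ⁻¹ᵁ V.1) = f ⁻¹ᵁ V.1 := by rw [← Scheme.Hom.comp_preimage, w]
    have h1 : C.gammaMap.app (op V.1) ≫ φ.hom.app (op V.1) =
        g.appLE (C.π ⁻¹ᵁ V.1) (f ⁻¹ᵁ V.1) hUV.ge := by
      rw [← Groth.Agent.S3569.algHom_app C.π f g w V.1, ← hφ]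
      rfl
    have h2 : g.app (C.π ⁻¹ᵁ V.1) ≫ X.presheaf.map (homOfLE hUV.ge).op =
        g.appLE (C.π ⁻¹ᵁ V.1) (f ⁻¹ᵁ V.1) hUV.ge := rfl
    have h3 : IsIso (C.gammaMap.app (op V.1)) := inferInstance
    have h4 : IsIso (X.presheaf.map (homOfLE hUV.ge).op) := by
      have : IsIso (homOfLE hUV.ge) := ⟨homOfLE hUV.le, rfl, rfl⟩
      infer_instance
    have b3 := (ConcreteCategory.isIso_iff_bijective (C.gammaMap.app (op V.1))).mp h3
    have b4 := (ConcreteCategory.isIso_iff_bijective (X.presheaf.map (homOfLE hUV.ge).op)).mp h4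
    have e : ∀ x, (X.presheaf.map (homOfLE hUV.ge).op).hom ((g.app (C.π ⁻¹ᵁ V.1)).hom x) =
        (φ.hom.app (op V.1)).hom ((C.gammaMap.app (op V.1)).hom x) := fun x =>
      congrArg (fun k => k.hom x) (h2.trans h1.symm)
    rw [← RingHom.injective_iff_ker_eq_bot]
    constructor
    · intro hinj x y hxy
      apply b3.1
      apply hinj
      rw [← e, ← e]
      exact congrArg _ hxy
    · intro hinj a b hab
      obtain ⟨x, rfl⟩ := b3.2 a
      obtain ⟨y, rfl⟩ := b3.2 b
      rw [← e, ← e] at hab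
      rw [hinj (b4.1 hab)]
  have hcov : (⨆ V : Y.affineOpens, C.π ⁻¹ᵁ V.1) = ⊤ := by
    rw [eq_top_iff]
    intro x _
    obtain ⟨V, hV⟩ := exists_affine_mem (C.π.base x)
    exact Opens.mem_iSup.mpr ⟨V, hV⟩
  refine ⟨⟨fun hker => ?_, fun hinj => ?_⟩, fun hker => ?_⟩
  · refine injective_of_affine C.isSheaf φ.hom (fun V => ?_)
    rw [key V, ← Scheme.Hom.ker_apply g ⟨C.π ⁻¹ᵁ V.1, V.2.preimage C.π⟩, hker]
    rfl
  · refine Scheme.IdealSheafData.ext_of_iSup_eq_top
      (fun V : Y.affineOpens => (⟨C.π ⁻¹ᵁ V.1, V.2.preimage C.π⟩ : C.spec.affineOpens)) hcov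
      (fun V => ?_)
    rw [Scheme.Hom.ker_apply, (key V).mp (hinj V.1)]
    rfl
  · have : IsIso g.imageι := by
      delta Scheme.Hom.imageι Scheme.Hom.image
      rw [hker]
      infer_instance
    rw [← g.toImage_imageι]
    infer_instance

end Groth.Agent.S4837
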