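import Groth.Statements.S4839
import Mathlib
import Groth.Agent.Lib.Helper5.FGDescent4

set_option autoImplicit false
set_option linter.style.haveILetI false
open CategoryTheory AlgebraicGeometry
universe u
open Cons9

namespace Groth.Agent.S4839

open CategoryTheory.Limits in
/-- Let k be a field and X, Y two schemes of finite type over k. If for some field extension K of k
there is a K-isomorphism X ⊗_k K ≅ Y ⊗_k K (X and Y are geometrically isomorphic), then there are a
finite extension k' of k and a k'-isomorphism X ⊗_k k' ≅ Y ⊗_k k'. This is the case of the property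
of being an isomorphism (base changes are the chosen fibre products with Spec of the extension). -/
theorem result {k : Type u} [Field k] {X Y : Scheme.{u}}
    (p : X ⟶ Spec (CommRingCat.of k)) (q : Y ⟶ Spec (CommRingCat.of k))
    [LocallyOfFiniteType p] [QuasiCompact p] [LocallyOfFiniteType q] [QuasiCompact q]
    (K : Type u) [Field K] [Algebra k K]
    (e : pullback p (Spec.map (CommRingCat.ofHom (algebraMap k K))) ≅ pullback q (Spec.map (CommRingCat.ofHom (algebraMap k K))))
    (he : e.hom ≫ pullback.snd q (Spec.map (CommRingCat.ofHom (algebraMap k K))) = pullback.snd p (Spec.map (CommRingCat.ofHom (algebraMap k K)))) :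
    ∃ (k' : Type u) (_ : Field k') (_ : Algebra k k') (_ : Module.Finite k k')
      (e' : pullback p (Spec.map (CommRingCat.ofHom (algebraMap k k'))) ≅ pullback q (Spec.map (CommRingCat.ofHom (algebraMap k k')))),
      e'.hom ≫ pullback.snd q (Spec.map (CommRingCat.ofHom (algebraMap k k'))) = pullback.snd p (Spec.map (CommRingCat.ofHom (algebraMap k k'))) := by
  classical
  -- finiteness properties over a field
  haveI hp1 : LocallyOfFinitePresentation p :=
    LocallyOfFinitePresentation.iff_locallyOfFiniteType.mpr inferInstance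
  haveI hq1 : LocallyOfFinitePresentation q :=
    LocallyOfFinitePresentation.iff_locallyOfFiniteType.mpr inferInstance
  haveI : IsLocallyNoetherian X := LocallyOfFiniteType.isLocallyNoetherian p
  haveI : IsLocallyNoetherian Y := LocallyOfFiniteType.isLocallyNoetherian q
  haveI : QuasiSeparated p := inferInstance
  haveI : QuasiSeparated q := inferInstance
  -- convert `e`
  have hta : Groth.Agent.Lib.helper5.FGLimit.tK k K (𝟙 (Spec (CommRingCat.of k))) =
      Spec.map (CommRingCat.ofHom (algebraMap k K)) := Category.comp_id _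
  let g' : pullback p (Groth.Agent.Lib.helper5.FGLimit.tK k K (𝟙 (Spec (CommRingCat.of k)))) ⟶
      pullback q (Groth.Agent.Lib.helper5.FGLimit.tK k K (𝟙 (Spec (CommRingCat.of k)))) :=
    (pullback.congrHom rfl hta).hom ≫ e.hom ≫ (pullback.congrHom rfl hta).inv
  haveI : IsIso g' := by
    change IsIso ((pullback.congrHom rfl hta).hom ≫ e.hom ≫ (pullback.congrHom rfl hta).inv)
    infer_instance
  have hg' : g' ≫ pullback.snd q _ = pullback.snd p _ := by
    change ((pullback.congrHom rfl hta).hom ≫ e.hom ≫ (pullback.congrHom rfl hta).inv) ≫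
      pullback.snd q _ = pullback.snd p _
    simp only [pullback.congrHom_hom, pullback.congrHom_inv, Category.assoc, pullback.lift_snd,
      Category.comp_id]
    rw [he]
    unfold pullback.map
    rw [pullback.lift_snd, Category.comp_id]
  obtain ⟨s, G, hGiso, hG, -⟩ :=
    Groth.Agent.Lib.helper5.FGLimit.exists_descent_iso g' hg'
  haveI := hGiso
  -- the finitely generated subalgebra and a maximal ideal of it
  obtain ⟨𝔪, h𝔪⟩ := Ideal.exists_maximal (Groth.Agent.Lib.helper5.FGLimit.adj k K s)
  haveI := h𝔪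
  letI : Field (Groth.Agent.Lib.helper5.FGLimit.adj k K s ⧸ 𝔪) := Ideal.Quotient.field 𝔪
  have hft : Algebra.FiniteType k (Groth.Agent.Lib.helper5.FGLimit.adj k K s) :=
    (Subalgebra.fg_iff_finiteType _).mp (Subalgebra.fg_adjoin_finset s)
  haveI : Algebra.FiniteType k (Groth.Agent.Lib.helper5.FGLimit.adj k K s ⧸ 𝔪) :=
    Algebra.FiniteType.of_surjective (Ideal.Quotient.mkₐ k 𝔪) (Ideal.Quotient.mkₐ_surjective k 𝔪)
  have hfin : Module.Finite k (Groth.Agent.Lib.helper5.FGLimit.adj k K s ⧸ 𝔪) :=
    finite_of_finite_type_of_isJacobsonRing k _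
  refine ⟨Groth.Agent.Lib.helper5.FGLimit.adj k K s ⧸ 𝔪, inferInstance, inferInstance, hfin, ?_⟩
  -- base change of `G` to the residue field
  let r : Spec (CommRingCat.of (Groth.Agent.Lib.helper5.FGLimit.adj k K s ⧸ 𝔪)) ⟶
      Spec (CommRingCat.of (Groth.Agent.Lib.helper5.FGLimit.adj k K s)) :=
    Spec.map (CommRingCat.ofHom (Ideal.Quotient.mk 𝔪))
  have ht' : r ≫ Groth.Agent.Lib.helper5.FGLimit.pS k K (𝟙 (Spec (CommRingCat.of k))) s =
      Spec.map (CommRingCat.ofHom
        (algebraMap k (Groth.Agent.Lib.helper5.FGLimit.adj k K s ⧸ 𝔪))) := by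
    unfold Groth.Agent.Lib.helper5.FGLimit.pS
    rw [Category.comp_id, ← Spec.map_comp]
    rfl
  have hG' : G ≫ pullback.snd q
      (Groth.Agent.Lib.helper5.FGLimit.pS k K (𝟙 (Spec (CommRingCat.of k))) s) =
      pullback.snd p (Groth.Agent.Lib.helper5.FGLimit.pS k K (𝟙 (Spec (CommRingCat.of k))) s) := hG
  generalize Groth.Agent.Lib.helper5.FGLimit.pS k K (𝟙 (Spec (CommRingCat.of k))) s = a₁ at G hG' ht'
  generalize Spec.map (CommRingCat.ofHom
    (algebraMap k (Groth.Agent.Lib.helper5.FGLimit.adj k K s ⧸ 𝔪))) = t' at ht'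
  subst ht'
  let M : pullback (pullback.snd p a₁) r ⟶ pullback (pullback.snd q a₁) r :=
    pullback.map _ _ _ _ G (𝟙 _) (𝟙 _) (by rw [Category.comp_id, hG'])
      (by rw [Category.comp_id, Category.id_comp])
  haveI : IsIso M := by
    change IsIso (pullback.map _ _ _ _ G (𝟙 _) (𝟙 _) _ _)
    infer_instance
  refine ⟨(pullbackLeftPullbackSndIso p a₁ r).symm ≪≫ asIso M ≪≫
    pullbackLeftPullbackSndIso q a₁ r, ?_⟩
  simp only [Iso.trans_hom, Iso.symm_hom, asIso_hom, Category.assoc,
    pullbackLeftPullbackSndIso_hom_snd]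
  have hM : M ≫ pullback.snd (pullback.snd q a₁) r = pullback.snd (pullback.snd p a₁) r := by
    change pullback.map _ _ _ _ G (𝟙 _) (𝟙 _) _ _ ≫ _ = _
    unfold pullback.map
    rw [pullback.lift_snd, Category.comp_id]
  rw [hM, pullbackLeftPullbackSndIso_inv_snd_snd]

end Groth.Agent.S4839
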