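import Groth.Statements.S4842
-- import your own Groth.Agent.* helpers here
import Groth.Agent.Lib.Helper9.LimComponents
import Groth.Agent.Lib.Helper9.LimConnComponents
import Groth.Agent.Lib.Helper9.LimEmbDense

set_option autoImplicit false
universe u
open CategoryTheory AlgebraicGeometry
open Lim8

namespace Groth.Agent.S4842

open Groth.Agent.Lib.helper9

open Groth.Agent.Lib.helper9

/-- Let S = lim S_i be a cofiltered limit of schemes whose transition maps are affine and topological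
embeddings (homeomorphisms onto subspaces), some stage S_{i₀} having Noetherian underlying space,
and assume that the underlying space of S is Noetherian. Then there is an index i over i₀ such that,
for every j over i, the map sending a connected component C of S to the closure of its image under S
⟶ S_j is a bijection from the set of connected components of S onto the set of connected components
of S_j. -/
theorem result {I : Type u} [SmallCategory I] [IsCofiltered I]
    (D : I ⥤ Scheme.{u}) (c : Limits.Cone D) (hc : Limits.IsLimit c)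
    [∀ (i j : I) (f : i ⟶ j), IsAffineHom (D.map f)] (i₀ : I)
    [TopologicalSpace.NoetherianSpace (D.obj i₀)] [TopologicalSpace.NoetherianSpace c.pt]
    (he : ∀ (i j : I) (φ : i ⟶ j), Topology.IsEmbedding ⇑(D.map φ)) :
    ∃ (i : I) (_ : i ⟶ i₀), ∀ (j : I) (_ : j ⟶ i),
      Set.BijOn (fun C : Set c.pt => closure (⇑(c.π.app j) '' (C : Set c.pt) : Set (D.obj j)))
        (Set.range (connectedComponent : c.pt → Set c.pt)) (Set.range (connectedComponent : D.obj j → Set (D.obj j))) := by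
  classical
  have hD' : ∀ {i j : I} (f : i ⟶ j), IsAffineHom (D.map f) := fun f => inferInstance
  have hfinI : (irreducibleComponents ↥c.pt).Finite :=
    TopologicalSpace.NoetherianSpace.finite_irreducibleComponents
  have hfinC := finite_range_connectedComponent hfinI
  let T := Set.range (connectedComponent : ↥c.pt → Set ↥c.pt)
  have hTfin : Fintype ↥T := hfinC.fintype
  have hTopen : ∀ C ∈ T, IsOpen C := by
    rintro _ ⟨x, rfl⟩
    exact isOpen_connectedComponent_of_finite hfinC x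
  -- descend each component to a stage
  have hex : ∀ C : ↥T, ∃ (i : I) (W : (D.obj i).Opens), IsCompact (W : Set ↥(D.obj i)) ∧
      ((c.π.app i ⁻¹ᵁ W : c.pt.Opens) : Set ↥c.pt) = C.1 := by
    intro C
    obtain ⟨i, W, hWc, hW⟩ := exists_preimage_eq D c hc ⟨C.1, hTopen C.1 C.2⟩
      (TopologicalSpace.NoetherianSpace.isCompact C.1)
    exact ⟨i, W, hWc, congrArg (fun U : c.pt.Opens => (U : Set ↥c.pt)) hW⟩
  choose ι W hWc hW using hex
  obtain ⟨i₁, a₁, hdense⟩ := exists_forall_denseRange_π_app_of_isInducing D c hc i₀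
    (fun i j φ => (he i j φ).isInducing)
  obtain ⟨i, hi⟩ := IsCofiltered.inf_objs_exists (insert i₁ (Finset.univ.image ι))
  have a₀ : i ⟶ i₁ := (hi (by simp)).some
  have a : ∀ C : ↥T, i ⟶ ι C := fun C => (hi (by simp)).some
  have hic : CompactSpace ↥(D.obj i) := QuasiCompact.compactSpace_of_compactSpace (D.map (a₀ ≫ a₁))
  let Wi : ↥T → (D.obj i).Opens := fun C => D.map (a C) ⁻¹ᵁ W C
  have hWic : ∀ C, IsCompact (Wi C : Set ↥(D.obj i)) := fun C =>
    QuasiCompact.isCompact_preimage (f := D.map (a C)) _ (W C).2 (hWc C)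
  have hWi : ∀ C : ↥T, ∀ x : ↥c.pt, (c.π.app i).base x ∈ Wi C ↔ x ∈ C.1 := by
    intro C x
    rw [← hW C]
    show (D.map (a C)).base ((c.π.app i).base x) ∈ W C ↔ (c.π.app (ι C)).base x ∈ W C
    rw [← Scheme.Hom.comp_apply, c.w]
  have hsup : c.π.app i ⁻¹ᵁ (⨆ C, Wi C) = c.π.app i ⁻¹ᵁ ⊤ := by
    rw [Scheme.Hom.preimage_iSup, Scheme.Hom.preimage_top, eq_top_iff]
    intro x _
    refine TopologicalSpace.Opens.mem_iSup.2 ⟨⟨connectedComponent x, x, rfl⟩, ?_⟩
    exact (hWi ⟨connectedComponent x, x, rfl⟩ x).mpr mem_connectedComponent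
  have hsupc : IsCompact ((⨆ C, Wi C : (D.obj i).Opens) : Set ↥(D.obj i)) := by
    rw [TopologicalSpace.Opens.coe_iSup]
    exact isCompact_iUnion hWic
  obtain ⟨i', b', hi'⟩ := exists_map_preimage_eq_map_preimage D c hc hsupc
    (V := ⊤) (by simpa using isCompact_univ) hsup
  refine ⟨i', b' ≫ a₀ ≫ a₁, fun j b => ?_⟩
  have hdj := hdense j (b ≫ b' ≫ a₀)
  let Wj : Set ↥c.pt → Set ↥(D.obj j) := fun C =>
    if h : C ∈ T then ((D.map (b ≫ b') ⁻¹ᵁ Wi ⟨C, h⟩ : (D.obj j).Opens) : Set ↥(D.obj j)) else ∅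
  have hWj : ∀ (C : Set ↥c.pt) (h : C ∈ T),
      Wj C = ((D.map (b ≫ b') ⁻¹ᵁ Wi ⟨C, h⟩ : (D.obj j).Opens) : Set ↥(D.obj j)) := fun C h =>
    dif_pos h
  have hWjp : ∀ (C : Set ↥c.pt) (h : C ∈ T) (x : ↥c.pt), (c.π.app j).base x ∈ Wj C ↔ x ∈ C := by
    intro C h x
    rw [hWj C h, ← hWi ⟨C, h⟩ x]
    show (D.map (b ≫ b')).base ((c.π.app j).base x) ∈ Wi ⟨C, h⟩ ↔ _
    rw [← Scheme.Hom.comp_apply, c.w]
  refine bijOn_connectedComponents_closure_image (fun x => (c.π.app j).base x)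
    (c.π.app j).continuous hdj Wj ?_ ?_ ?_ ?_
  · intro C hC
    rw [hWj C hC]
    exact (D.map (b ≫ b') ⁻¹ᵁ Wi ⟨C, hC⟩).isOpen
  · intro C hC
    ext x
    exact hWjp C hC x
  · intro C hC C' hC' hne
    rw [Set.disjoint_iff_inter_eq_empty]
    by_contra hcon
    have hopen : IsOpen (Wj C ∩ Wj C') := by
      rw [hWj C hC, hWj C' hC']
      exact (D.map (b ≫ b') ⁻¹ᵁ Wi ⟨C, hC⟩).isOpen.inter (D.map (b ≫ b') ⁻¹ᵁ Wi ⟨C', hC'⟩).isOpen
    obtain ⟨_, ⟨h1, h2⟩, ⟨s, rfl⟩⟩ := (dense_iff_inter_open.mp hdj) _ hopen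
      (Set.nonempty_iff_ne_empty.mpr hcon)
    have hs1 : s ∈ C := (hWjp C hC s).mp h1
    have hs2 : s ∈ C' := (hWjp C' hC' s).mp h2
    obtain ⟨x, rfl⟩ := hC
    obtain ⟨x', rfl⟩ := hC'
    exact hne ((connectedComponent_eq hs1).trans (connectedComponent_eq hs2).symm)
  · intro x
    have hx : (D.map (b ≫ b')).base x ∈ (⨆ C, Wi C : (D.obj i).Opens) := by
      have h1 : (D.map b).base x ∈ D.map b' ⁻¹ᵁ (⨆ C, Wi C) := by
        rw [hi', Scheme.Hom.preimage_top]; trivial
      have h2 : (D.map b').base ((D.map b).base x) ∈ (⨆ C, Wi C : (D.obj i).Opens) := h1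
      rwa [← Scheme.Hom.comp_apply, ← D.map_comp] at h2
    obtain ⟨C, hC⟩ := TopologicalSpace.Opens.mem_iSup.1 hx
    refine ⟨C.1, C.2, ?_⟩
    rw [hWj C.1 C.2]
    exact hC

end Groth.Agent.S4842
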