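import Groth.Statements.S4847
import Mathlib
import Groth.Agent.S0392
import Groth.Agent.Lib.Helper16.CohStalk
import Groth.Agent.Lib.Helper17.FlatOver4

set_option autoImplicit false
set_option linter.style.haveILetI false
universe u
open EGA43

namespace Groth.Agent.S4847


open TensorProduct in
/-- `(A/I) ⊗ M` and `M / I M` have the same flatness over `A/I`. -/
lemma flat_quot_iff {A : Type u} [CommRing A] (I : Ideal A) (M : Type u) [AddCommGroup M]
    [Module A M] :
    Module.Flat (A ⧸ I) ((A ⧸ I) ⊗[A] M) ↔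
      Module.Flat (A ⧸ I) (M ⧸ (I • (⊤ : Submodule A M))) := by
  have e : ((A ⧸ I) ⊗[A] M) ≃ₗ[A ⧸ I] (M ⧸ (I • (⊤ : Submodule A M))) :=
    (TensorProduct.quotTensorEquivQuotSMul M I).extendScalarsOfSurjective
      Ideal.Quotient.mk_surjective
  exact ⟨fun _ => Module.Flat.of_linearEquiv e.symm, fun _ => Module.Flat.of_linearEquiv e⟩

open AlgebraicGeometry CategoryTheory Limits in
/-- Case 1° (fibrewise flatness criterion for locally Noetherian schemes): let S, X and Y be locally
Noetherian schemes, f : X ⟶ Y and h : Y ⟶ S arbitrary morphisms, F a coherent O_X-module and x a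
point of X with images y in Y and s in S, such that the stalk F_x is nonzero. Then F is flat over S
at x and F_x / m_s F_x is flat over O_{Y,y} / m_s O_{Y,y} (that is, the fibre module F_s is flat
over the fibre Y_s at x) if and only if h is flat at y and F is flat over Y at x. No finiteness
hypothesis on f or h is required in this case. -/
theorem result {X Y S : Scheme.{u}}
    [IsLocallyNoetherian X] [IsLocallyNoetherian Y] [IsLocallyNoetherian S]
    (f : X ⟶ Y) (h : Y ⟶ S) (F : X.Modules) (hF : Coh.IsCoh F) (x : X)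
    (hx : Nontrivial ↑(F.presheaf.stalk x)) :
    letI := FlatMod.moduleStalkOver f F x
    (FlatMod.IsFlatOverAt (f ≫ h) F x ∧
      Module.Flat (↑(Y.presheaf.stalk (f x)) ⧸ Ideal.map (h.stalkMap (f x)).hom (IsLocalRing.maximalIdeal ↑(S.presheaf.stalk (h (f x)))))
        (↑(F.presheaf.stalk x) ⧸ (Ideal.map (h.stalkMap (f x)).hom (IsLocalRing.maximalIdeal ↑(S.presheaf.stalk (h (f x)))) •
          (⊤ : Submodule ↑(Y.presheaf.stalk (f x)) ↑(F.presheaf.stalk x))))) ↔
    ((h.stalkMap (f x)).hom.Flat ∧ FlatMod.IsFlatOverAt f F x) := by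
  letI algRA : Algebra (S.presheaf.stalk (h (f x))) (Y.presheaf.stalk (f x)) :=
    (h.stalkMap (f x)).hom.toAlgebra
  letI algAB : Algebra (Y.presheaf.stalk (f x)) (X.presheaf.stalk x) :=
    (f.stalkMap x).hom.toAlgebra
  letI algRB : Algebra (S.presheaf.stalk (h (f x))) (X.presheaf.stalk x) :=
    ((f.stalkMap x).hom.comp (h.stalkMap (f x)).hom).toAlgebra
  haveI : IsScalarTower (S.presheaf.stalk (h (f x))) (Y.presheaf.stalk (f x))
      (X.presheaf.stalk x) := IsScalarTower.of_algebraMap_eq fun _ => rfl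
  letI modA : Module (Y.presheaf.stalk (f x)) (F.presheaf.stalk x) :=
    FlatMod.moduleStalkOver f F x
  letI modR : Module (S.presheaf.stalk (h (f x))) (F.presheaf.stalk x) :=
    Module.compHom _ ((f.stalkMap x).hom.comp (h.stalkMap (f x)).hom)
  haveI : IsScalarTower (Y.presheaf.stalk (f x)) (X.presheaf.stalk x) (F.presheaf.stalk x) :=
    ⟨fun a b m => by
      change ((f.stalkMap x).hom a * b) • m = (f.stalkMap x).hom a • (b • m)
      rw [mul_smul]⟩
  haveI : IsScalarTower (S.presheaf.stalk (h (f x))) (Y.presheaf.stalk (f x))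
      (F.presheaf.stalk x) :=
    ⟨fun r a m => by
      change (f.stalkMap x).hom ((h.stalkMap (f x)).hom r * a) • m =
        (f.stalkMap x).hom ((h.stalkMap (f x)).hom r) • ((f.stalkMap x).hom a • m)
      rw [map_mul, mul_smul]⟩
  haveI : IsLocalHom (algebraMap (S.presheaf.stalk (h (f x))) (Y.presheaf.stalk (f x))) :=
    inferInstanceAs (IsLocalHom (h.stalkMap (f x)).hom)
  haveI : IsLocalHom (algebraMap (Y.presheaf.stalk (f x)) (X.presheaf.stalk x)) :=
    inferInstanceAs (IsLocalHom (f.stalkMap x).hom)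
  haveI : Module.Finite (X.presheaf.stalk x) (F.presheaf.stalk x) :=
    Groth.Agent.Lib.helper16.CohStalk.finite_stalk_of_isCoh F hF x
  rw [Groth.Agent.Lib.helper17.FlatOver4.isFlatOverAt_comp_iff f h F x]
  change (Module.Flat (S.presheaf.stalk (h (f x))) (F.presheaf.stalk x) ∧ _) ↔
    (Module.Flat (S.presheaf.stalk (h (f x))) (Y.presheaf.stalk (f x)) ∧
      Module.Flat (Y.presheaf.stalk (f x)) (F.presheaf.stalk x))
  rw [← flat_quot_iff]
  constructor
  · rintro ⟨h1, h2⟩
    haveI := h1
    exact Groth.Agent.S0392.result (R := S.presheaf.stalk (h (f x)))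
      (S := Y.presheaf.stalk (f x)) (S' := X.presheaf.stalk x) (M := F.presheaf.stalk x) h2
  · rintro ⟨h1, h2⟩
    haveI := h1
    haveI := h2
    exact ⟨Module.Flat.trans (S.presheaf.stalk (h (f x))) (Y.presheaf.stalk (f x))
      (F.presheaf.stalk x), inferInstance⟩

end Groth.Agent.S4847
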