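import Groth.Statements.S9613
import Mathlib

set_option autoImplicit false
universe u
open CAlg

namespace Groth.Agent.S9613



/-- Let R → K be an injective ring map into a field K which makes K an R-algebra of finite type. Then
for some nonzero f ∈ R the localization R_f is a field over which K is finite; here R_f is realised
as the R-subalgebra of K that is a localization of R away from f. -/
theorem result {R K : Type u} [CommRing R] [Field K] [Algebra R K] (hinj : Function.Injective (algebraMap R K)) [Algebra.FiniteType R K] :
    ∃ f : R, f ≠ 0 ∧ ∃ Rf : Subalgebra R K, IsLocalization.Away f Rf ∧ IsField Rf ∧ Module.Finite Rf K := by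
  classical
  haveI : IsDomain R := Function.Injective.isDomain (algebraMap R K) hinj
  have halg : Algebra.IsAlgebraic R K := by
    letI : Algebra (FractionRing R) K := (IsFractionRing.lift hinj).toAlgebra
    haveI : IsScalarTower R (FractionRing R) K :=
      IsScalarTower.of_algebraMap_eq (fun x => (IsFractionRing.lift_algebraMap hinj x).symm)
    haveI : Algebra.FiniteType (FractionRing R) K :=
      Algebra.FiniteType.of_restrictScalars_finiteType R _ _
    haveI : Module.Finite (FractionRing R) K := finite_of_finite_type_of_isJacobsonRing _ _
    have h1 : Algebra.IsAlgebraic (FractionRing R) K := inferInstance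
    exact (IsFractionRing.comap_isAlgebraic_iff (A := R) (K := FractionRing R) (C := K)).mpr h1
  obtain ⟨s, hs⟩ := (Algebra.FiniteType.out : (⊤ : Subalgebra R K).FG)
  obtain ⟨f, hf0, hfint⟩ := Algebra.IsAlgebraic.exists_integral_multiples R s
  refine ⟨f, hf0, ?_⟩
  have hfK : algebraMap R K f ≠ 0 := fun h => hf0 (hinj (by rw [h, map_zero]))
  have hunit : ∀ y : Submonoid.powers f, IsUnit ((Algebra.ofId R K) y) := by
    rintro ⟨y, n, rfl⟩
    rw [Algebra.ofId_apply, map_pow]
    exact (IsUnit.mk0 _ hfK).pow n
  let φ : Localization.Away f →ₐ[R] K :=
    IsLocalization.liftAlgHom (M := Submonoid.powers f) (f := Algebra.ofId R K) hunit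
  have hle : Submonoid.powers f ≤ nonZeroDivisors R :=
    powers_le_nonZeroDivisors_of_noZeroDivisors hf0
  have hφinj : Function.Injective φ := by
    rw [IsLocalization.coe_liftAlgHom, IsLocalization.lift_injective_iff]
    intro x y
    constructor
    · intro h
      rw [IsLocalization.injective (Localization.Away f) hle h]
    · intro h
      have h' : algebraMap R K x = algebraMap R K y := h
      rw [hinj h']
  let Rf : Subalgebra R K := φ.range
  let e : Localization.Away f ≃ₐ[R] Rf := AlgEquiv.ofInjective φ hφinj
  have hloc : IsLocalization.Away f Rf :=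
    IsLocalization.isLocalization_of_algEquiv (Submonoid.powers f) e
  have hinvmem : (algebraMap R K f)⁻¹ ∈ Rf := by
    refine ⟨IsLocalization.Away.invSelf f, ?_⟩
    have h1 : algebraMap R K f * φ (IsLocalization.Away.invSelf f) = 1 := by
      have h2 : algebraMap R K f = φ (algebraMap R (Localization.Away f) f) := (φ.commutes f).symm
      rw [h2, ← map_mul, IsLocalization.Away.mul_invSelf, map_one]
    exact eq_inv_of_mul_eq_one_right h1
  have hint : Algebra.IsIntegral Rf K := by
    have key : (⊤ : Subalgebra R K) ≤ (integralClosure Rf K).restrictScalars R := by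
      rw [← hs]
      apply Algebra.adjoin_le
      intro x hx
      have h1 : IsIntegral R (f • x) := hfint x hx
      have h2 : IsIntegral Rf (f • x) := h1.tower_top
      have h3 : IsIntegral Rf (algebraMap Rf K ⟨(algebraMap R K f)⁻¹, hinvmem⟩) :=
        isIntegral_algebraMap
      have h4 : x = algebraMap Rf K ⟨(algebraMap R K f)⁻¹, hinvmem⟩ * (f • x) := by
        rw [Algebra.smul_def]
        change x = (algebraMap R K f)⁻¹ * (algebraMap R K f * x)
        rw [← mul_assoc, inv_mul_cancel₀ hfK, one_mul]
      show x ∈ integralClosure Rf K
      rw [h4]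
      exact h3.mul h2
    exact ⟨fun x => key Algebra.mem_top⟩
  refine ⟨Rf, hloc, ?_, ?_⟩
  · exact isField_of_isIntegral_of_isField (fun a b h => Subtype.ext h) (Field.toIsField K)
  · haveI : Algebra.FiniteType Rf K := Algebra.FiniteType.of_restrictScalars_finiteType R Rf K
    exact Algebra.IsIntegral.finite


end Groth.Agent.S9613
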