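import Groth.Statements.S4860
import Mathlib
import Groth.Agent.S9613

set_option autoImplicit false
universe u
open EGA43

namespace Groth.Agent.S4860

section Aux
variable {B : Type u} [CommRing B] [IsDomain B]

lemma lemA (f : B) (hf : f ≠ 0) (hF : IsField (Localization.Away f))
    (p : PrimeSpectrum B) (hfp : f ∉ p.asIdeal) : p.asIdeal = ⊥ := by
  have hle : Submonoid.powers f ≤ nonZeroDivisors B :=
    powers_le_nonZeroDivisors_of_noZeroDivisors hf
  have hdom : IsDomain (Localization.Away f) := IsLocalization.isDomain_localization hle
  have hdisj : Disjoint (Submonoid.powers f : Set B) (p.asIdeal : Set B) := by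
    rw [Set.disjoint_left]
    rintro x ⟨n, rfl⟩ hx
    exact hfp (p.isPrime.mem_of_pow_mem n hx)
  have hP : (Ideal.map (algebraMap B (Localization.Away f)) p.asIdeal).IsPrime :=
    IsLocalization.isPrime_of_isPrime_disjoint (Submonoid.powers f) _ _ p.isPrime hdisj
  have hunder := IsLocalization.under_map_of_isPrime_disjoint (Submonoid.powers f)
    (Localization.Away f) p.isPrime hdisj
  have hbot : (⊥ : Ideal (Localization.Away f)).IsMaximal := Ring.isField_iff_maximal_bot.mp hF
  have hPbot : (⊥ : Ideal (Localization.Away f)) =
      Ideal.map (algebraMap B (Localization.Away f)) p.asIdeal :=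
    hbot.eq_of_le hP.ne_top bot_le
  rw [← hunder, ← hPbot]
  ext x
  rw [Ideal.under_def, Ideal.mem_comap, Ideal.mem_bot, Ideal.mem_bot]
  constructor
  · intro h
    exact IsLocalization.injective (Localization.Away f) hle (by rw [h, map_zero])
  · intro h
    rw [h, map_zero]

lemma lemB (f : B) (hf : f ≠ 0)
    (h : ∀ p : PrimeSpectrum B, f ∉ p.asIdeal → p.asIdeal = ⊥) :
    IsField (Localization.Away f) := by
  have hle : Submonoid.powers f ≤ nonZeroDivisors B :=
    powers_le_nonZeroDivisors_of_noZeroDivisors hf
  have hdom : IsDomain (Localization.Away f) := IsLocalization.isDomain_localization hle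
  rw [Ring.isField_iff_maximal_bot]
  obtain ⟨m, hm⟩ := Ideal.exists_maximal (Localization.Away f)
  obtain ⟨hq, hdisj⟩ := (IsLocalization.isPrime_iff_isPrime_disjoint (Submonoid.powers f)
    (Localization.Away f) m).mp hm.isPrime
  have hfq : f ∉ m.under B := fun hfm =>
    Set.disjoint_left.mp hdisj (Submonoid.mem_powers f) hfm
  have hq0 : m.under B = ⊥ := h ⟨m.under B, hq⟩ hfq
  have hm0 : m = ⊥ := by
    rw [← IsLocalization.map_under (Submonoid.powers f) (Localization.Away f) m, hq0, Ideal.map_bot]
  rw [← hm0]
  exact hm

end Aux



/-- For an integral domain B the following are equivalent: a) the localization B_f is a field for some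
nonzero f; b) the fraction field of B is a finitely generated B-algebra; c) there is a field
containing B (an injective algebra map from B) which is a finitely generated B-algebra; d) the
generic point of Spec B is open. -/
theorem result (B : Type u) [CommRing B] [IsDomain B] :
    [∃ f : B, f ≠ 0 ∧ IsField (Localization.Away f),
      Algebra.FiniteType B (FractionRing B),
      ∃ (K : Type u) (_ : Field K) (_ : Algebra B K), Function.Injective (algebraMap B K) ∧ Algebra.FiniteType B K,
      IsOpen ({⟨⊥, Ideal.bot_prime⟩} : Set (PrimeSpectrum B))].TFAE := by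
  classical
  tfae_have 1 → 2 := by
    rintro ⟨f, hf, hF⟩
    have hle : Submonoid.powers f ≤ nonZeroDivisors B :=
      powers_le_nonZeroDivisors_of_noZeroDivisors hf
    have hdom : IsDomain (Localization.Away f) := IsLocalization.isDomain_localization hle
    have hfr : IsFractionRing B (Localization.Away f) := by
      refine IsLocalization.of_le (Submonoid.powers f) (nonZeroDivisors B) hle ?_
      intro r hr
      have hr0 : algebraMap B (Localization.Away f) r ≠ 0 := by
        intro h0
        have : r = 0 := IsLocalization.injective (Localization.Away f) hle (by rw [h0, map_zero])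
        exact nonZeroDivisors.ne_zero hr this
      obtain ⟨b, hb⟩ := hF.mul_inv_cancel hr0
      exact IsUnit.of_mul_eq_one b hb
    have hfp : Algebra.FinitePresentation B (Localization.Away f) :=
      IsLocalization.Away.finitePresentation f
    have hft : Algebra.FiniteType B (Localization.Away f) := inferInstance
    exact hft.equiv (FractionRing.algEquiv B (Localization.Away f)).symm
  tfae_have 2 → 3 := by
    intro h
    exact ⟨FractionRing B, inferInstance, inferInstance, IsFractionRing.injective B _, h⟩
  tfae_have 3 → 1 := by
    rintro ⟨K, hK, hA, hinj, hft⟩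
    letI := hK
    letI := hA
    have := hft
    obtain ⟨f, hf, Rf, hloc, hfield, _⟩ := Groth.Agent.S9613.result (R := B) (K := K) hinj
    refine ⟨f, hf, ?_⟩
    have := hloc
    exact (MulEquiv.isField hfield
      (IsLocalization.algEquiv (Submonoid.powers f) (Localization.Away f) Rf).toMulEquiv)
  tfae_have 1 → 4 := by
    rintro ⟨f, hf, hF⟩
    have heq : ({⟨⊥, Ideal.bot_prime⟩} : Set (PrimeSpectrum B)) =
        (PrimeSpectrum.basicOpen f : Set (PrimeSpectrum B)) := by
      ext p
      rw [Set.mem_singleton_iff, SetLike.mem_coe, PrimeSpectrum.mem_basicOpen]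
      constructor
      · rintro rfl
        rw [Ideal.mem_bot]
        exact hf
      · intro hfp
        exact PrimeSpectrum.ext (lemA f hf hF p hfp)
    rw [heq]
    exact (PrimeSpectrum.basicOpen f).isOpen
  tfae_have 4 → 1 := by
    intro h4
    obtain ⟨v, ⟨f, rfl⟩, hmem, hsub⟩ :=
      PrimeSpectrum.isTopologicalBasis_basic_opens.exists_subset_of_mem_open
        (Set.mem_singleton (⟨⊥, Ideal.bot_prime⟩ : PrimeSpectrum B)) h4
    have hf : f ≠ 0 := by
      intro h0
      have := (PrimeSpectrum.mem_basicOpen f _).mp hmem
      exact this (by rw [h0]; exact Ideal.zero_mem _)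
    refine ⟨f, hf, lemB f hf ?_⟩
    intro p hfp
    have hp : p ∈ ({⟨⊥, Ideal.bot_prime⟩} : Set (PrimeSpectrum B)) :=
      hsub ((PrimeSpectrum.mem_basicOpen f p).mpr hfp)
    rw [Set.mem_singleton_iff.mp hp]
  tfae_finish


end Groth.Agent.S4860
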