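import Groth.Statements.S4861
import Mathlib
-- import your own Groth.Agent.* helpers here

set_option autoImplicit false
universe u
open EGA43

namespace Groth.Agent.S4861

section helpers
variable {B : Type u} [CommRing B] [IsDomain B]

lemma away_isField_iff (f : B) (hf : f ≠ 0) :
    IsField (Localization.Away f) ↔ ∀ q : Ideal B, q.IsPrime → q ≠ ⊥ → f ∈ q := by
  have hle : Submonoid.powers f ≤ nonZeroDivisors B :=
    Submonoid.powers_le.mpr (mem_nonZeroDivisors_of_ne_zero hf)
  have hinj : Function.Injective (algebraMap B (Localization.Away f)) :=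
    IsLocalization.injective _ hle
  have : Nontrivial (Localization.Away f) := hinj.nontrivial
  constructor
  · intro hfield q hq hq0
    by_contra hfq
    have hdisj : Disjoint (Submonoid.powers f : Set B) (q : Set B) := by
      rw [Set.disjoint_left]
      rintro x ⟨n, rfl⟩ hx
      exact hfq (hq.mem_of_pow_mem n hx)
    have hprime := IsLocalization.isPrime_of_isPrime_disjoint (Submonoid.powers f)
      (Localization.Away f) q hq hdisj
    have hcomap := IsLocalization.under_map_of_isPrime_disjoint (Submonoid.powers f)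
      (Localization.Away f) hq hdisj
    have hne : Ideal.map (algebraMap B (Localization.Away f)) q ≠ ⊥ := by
      intro h0
      rw [h0] at hcomap
      apply hq0
      rw [← hcomap]
      rw [eq_bot_iff]
      intro x hx
      rw [Ideal.mem_comap, Ideal.mem_bot] at hx
      rw [Ideal.mem_bot]
      exact hinj (by rw [hx, map_zero])
    exact Ring.not_isField_iff_exists_prime.mpr ⟨_, hne, hprime⟩ hfield
  · intro h
    by_contra hnf
    obtain ⟨P, hP0, hP⟩ := Ring.not_isField_iff_exists_prime.mp hnf
    have hq : (P.comap (algebraMap B (Localization.Away f))).IsPrime := Ideal.comap_isPrime _ _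
    have hq0 : P.comap (algebraMap B (Localization.Away f)) ≠ ⊥ := by
      intro h0
      apply hP0
      have h0' : Ideal.under B P = ⊥ := h0
      rw [← IsLocalization.map_under (Submonoid.powers f) (Localization.Away f) P, h0', Ideal.map_bot]
    have hfq := h _ hq hq0
    rw [Ideal.mem_comap] at hfq
    have hunit : IsUnit (algebraMap B (Localization.Away f) f) :=
      IsLocalization.map_units (Localization.Away f) (⟨f, Submonoid.mem_powers f⟩ : Submonoid.powers f)
    exact hP.ne_top (Ideal.eq_top_of_isUnit_mem _ hfq hunit)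

/-- finitely many primes => `B_f` is a field for some `f ≠ 0` -/
lemma exists_away_of_finite [Finite (PrimeSpectrum B)] :
    ∃ f : B, f ≠ 0 ∧ IsField (Localization.Away f) := by
  classical
  have : Fintype (PrimeSpectrum B) := Fintype.ofFinite _
  have hex : ∀ p : PrimeSpectrum B, ∃ g : B, g ≠ 0 ∧ (p.asIdeal ≠ ⊥ → g ∈ p.asIdeal) := by
    intro p
    by_cases hp : p.asIdeal = ⊥
    · exact ⟨1, one_ne_zero, fun h => absurd hp h⟩
    · obtain ⟨g, hg, hg0⟩ := Submodule.exists_mem_ne_zero_of_ne_bot hp
      exact ⟨g, hg0, fun _ => hg⟩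
  choose g hg0 hg using hex
  refine ⟨∏ p, g p, Finset.prod_ne_zero_iff.mpr (fun p _ => hg0 p), ?_⟩
  rw [away_isField_iff _ (Finset.prod_ne_zero_iff.mpr (fun p _ => hg0 p))]
  intro q hq hq0
  obtain ⟨c, hc⟩ := Finset.dvd_prod_of_mem g (Finset.mem_univ (⟨q, hq⟩ : PrimeSpectrum B))
  rw [hc]
  exact q.mul_mem_right c (hg ⟨q, hq⟩ hq0)

variable [IsNoetherianRing B]

/-- if `B_f` is a field, every nonzero prime is minimal over `(f)` -/
lemma mem_minimalPrimes_of_away_isField (f : B) (hf : f ≠ 0) (hfield : IsField (Localization.Away f))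
    (q : Ideal B) (hq : q.IsPrime) (hq0 : q ≠ ⊥) : q ∈ (Ideal.span {f}).minimalPrimes := by
  classical
  have hall := (away_isField_iff f hf).mp hfield
  have hfq : Ideal.span {f} ≤ q := (Ideal.span_singleton_le_iff_mem _).mpr (hall q hq hq0)
  by_contra hqM
  have hMfin : (Ideal.span {f}).minimalPrimes.Finite := Ideal.finite_minimalPrimes_of_isNoetherianRing B _
  -- prime avoidance
  have hnot : ¬ ((q : Set B) ⊆ ⋃ p ∈ (hMfin.toFinset : Set (Ideal B)), (p : Set B)) := by
    intro hsub
    rw [Ideal.subset_union_prime (f := fun p : Ideal B => p) ⊥ ⊥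
      (fun p hp _ _ => ((hMfin.mem_toFinset).mp hp).1.1)] at hsub
    obtain ⟨p, hp, hqp⟩ := hsub
    have hpM := (hMfin.mem_toFinset).mp hp
    have : p ≤ q := hpM.2 ⟨hq, hfq⟩ hqp
    exact hqM (le_antisymm this hqp ▸ hpM)
  rw [Set.not_subset] at hnot
  obtain ⟨g, hgq, hg⟩ := hnot
  have hgM : ∀ p ∈ (Ideal.span {f}).minimalPrimes, g ∉ p := by
    intro p hp hgp
    apply hg
    simp only [Set.mem_iUnion]
    exact ⟨p, (hMfin.mem_toFinset).mpr hp, hgp⟩
  obtain ⟨p₀, hp₀, _⟩ := Ideal.exists_minimalPrimes_le hfq
  have hg0 : g ≠ 0 := by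
    rintro rfl
    exact hgM p₀ hp₀ p₀.zero_mem
  have hgq' : Ideal.span {g} ≤ q := (Ideal.span_singleton_le_iff_mem _).mpr hgq
  obtain ⟨p', hp', hp'q⟩ := Ideal.exists_minimalPrimes_le hgq'
  have hp'prime : p'.IsPrime := hp'.1.1
  have hgp' : g ∈ p' := hp'.1.2 (Ideal.subset_span rfl)
  have hp'0 : p' ≠ ⊥ := by
    intro h
    rw [h, Ideal.mem_bot] at hgp'
    exact hg0 hgp'
  have hht : p'.height ≤ 1 := Ideal.height_le_one_of_isPrincipal_of_mem_minimalPrimes _ p' hp'
  have hfp' : Ideal.span {f} ≤ p' := (Ideal.span_singleton_le_iff_mem _).mpr (hall p' hp'prime hp'0)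
  obtain ⟨p₁, hp₁, hp₁p'⟩ := Ideal.exists_minimalPrimes_le hfp'
  have hp₁prime : p₁.IsPrime := hp₁.1.1
  have hp₁0 : p₁ ≠ ⊥ := by
    intro h
    have := hp₁.1.2 (Ideal.subset_span rfl : f ∈ Ideal.span {f})
    rw [h, Ideal.mem_bot] at this
    exact hf this
  have hht1 : 1 ≤ p₁.height := by
    rw [Order.one_le_iff_pos, pos_iff_ne_zero]
    intro h
    exact hp₁0 (Ideal.height_eq_zero_iff_eq_bot.mp h)
  have heq : p₁ = p' := Ideal.eq_of_le_of_height_le p₁ hp₁p' (hht.trans hht1)
  exact hgM p₁ hp₁ (heq ▸ hgp')

theorem main (B : Type u) [CommRing B] [IsDomain B]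
    [IsNoetherianRing B] :
    [∃ f : B, f ≠ 0 ∧ IsField (Localization.Away f),
      Finite (PrimeSpectrum B),
      Finite (MaximalSpectrum B) ∧ ringKrullDim B ≤ 1].TFAE := by
  -- (a) → all nonzero primes in a finite set of height ≤ 1 primes
  have key : (∃ f : B, f ≠ 0 ∧ IsField (Localization.Away f)) →
      Finite (PrimeSpectrum B) ∧ ringKrullDim B ≤ 1 := by
    rintro ⟨f, hf, hfield⟩
    have hmem := mem_minimalPrimes_of_away_isField f hf hfield
    have hMfin : (Ideal.span {f}).minimalPrimes.Finite :=
      Ideal.finite_minimalPrimes_of_isNoetherianRing B _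
    constructor
    · have hfin : (({⊥} : Set (Ideal B)) ∪ (Ideal.span {f}).minimalPrimes).Finite :=
        (Set.finite_singleton _).union hMfin
      have := hfin.to_subtype
      let φ : PrimeSpectrum B → ↥(({⊥} : Set (Ideal B)) ∪ (Ideal.span {f}).minimalPrimes) :=
        fun p => ⟨p.asIdeal, by
          by_cases h : p.asIdeal = ⊥
          · exact Or.inl h
          · exact Or.inr (hmem p.asIdeal p.2 h)⟩
      apply Finite.of_injective φ
      intro p p' h
      exact PrimeSpectrum.ext (congrArg Subtype.val h)
    · rw [ringKrullDim_le_iff_height_le]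
      intro p hp
      by_cases h : p = ⊥
      · rw [h, Ideal.height_bot]; exact zero_le_one
      · have := Ideal.height_le_one_of_isPrincipal_of_mem_minimalPrimes _ p (hmem p hp h)
        exact_mod_cast this
  tfae_have 1 → 2 := fun h => (key h).1
  tfae_have 2 → 1 := fun h => exists_away_of_finite
  tfae_have 1 → 3 := fun h => by
    obtain ⟨h1, h2⟩ := key h
    exact ⟨Finite.of_injective _ MaximalSpectrum.toPrimeSpectrum_injective, h2⟩
  tfae_have 3 → 2 := by
    rintro ⟨hmax, hdim⟩
    have hfinM : {m : Ideal B | m.IsMaximal}.Finite := by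
      have : {m : Ideal B | m.IsMaximal} = Set.range (fun m : MaximalSpectrum B => m.asIdeal) := by
        ext m
        constructor
        · intro hm; exact ⟨⟨m, hm⟩, rfl⟩
        · rintro ⟨m', rfl⟩; exact m'.2
      rw [this]
      exact Set.finite_range _
    have hfin : (({⊥} : Set (Ideal B)) ∪ {m : Ideal B | m.IsMaximal}).Finite :=
      (Set.finite_singleton _).union hfinM
    have := hfin.to_subtype
    let φ : PrimeSpectrum B → ↥(({⊥} : Set (Ideal B)) ∪ {m : Ideal B | m.IsMaximal}) :=
      fun p => ⟨p.asIdeal, by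
        by_cases h : p.asIdeal = ⊥
        · exact Or.inl h
        · right
          obtain ⟨m, hm, hpm⟩ := p.asIdeal.exists_le_maximal p.2.ne_top
          have hpm' : p.asIdeal = m := by
            by_contra hne
            have hlt : p.asIdeal < m := lt_of_le_of_ne hpm hne
            have := p.2
            have := hm.isPrime
            have h1 : p.asIdeal.height < m.height := Ideal.height_strict_mono_of_isPrime hlt
            have h2 : 1 ≤ p.asIdeal.height := by
              rw [Order.one_le_iff_pos, pos_iff_ne_zero]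
              intro h0
              exact h (Ideal.height_eq_zero_iff_eq_bot.mp h0)
            have h3 : (m.height : WithBot ℕ∞) ≤ 1 :=
              (Ideal.height_le_ringKrullDim_of_isPrime).trans hdim
            have h4 : m.height ≤ 1 := by exact_mod_cast h3
            exact absurd (lt_of_le_of_lt h2 h1) (not_lt.mpr h4)
          rw [hpm']; exact hm⟩
    apply Finite.of_injective φ
    intro p p' h
    exact PrimeSpectrum.ext (congrArg Subtype.val h)
  tfae_finish

end helpers

/-- For a Noetherian integral domain B the following are equivalent (and hence equivalent to: the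
fraction field of B is a finitely generated B-algebra; the generic point of Spec B is open): a) the
localization B_f is a field for some nonzero f; e) Spec B is finite; f) B is semi-local (finitely
many maximal ideals) of Krull dimension at most 1. -/
theorem result (B : Type u) [CommRing B] [IsDomain B]
    [IsNoetherianRing B] :
    [∃ f : B, f ≠ 0 ∧ IsField (Localization.Away f),
      Finite (PrimeSpectrum B),
      Finite (MaximalSpectrum B) ∧ ringKrullDim B ≤ 1].TFAE := by
  exact main B

end Groth.Agent.S4861
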