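import Groth.Statements.S4862
import Mathlib

set_option autoImplicit false
universe u
open EGA43

namespace Groth.Agent.S4862

/-- For a commutative ring A the following are equivalent: a) A is a Jacobson ring; b) for every prime
ideal p of A which is not maximal and every nonzero f of B = A/p, the localization B_f is not a
field; b′) every finitely generated A-algebra which is a field is a finite A-module. -/
theorem result (A : Type u) [CommRing A] :
    [IsJacobsonRing A,
      ∀ (p : Ideal A) [p.IsPrime], ¬ p.IsMaximal → ∀ f : A ⧸ p, f ≠ 0 → ¬ IsField (Localization.Away f),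
      ∀ (K : Type u) [Field K] [Algebra A K], Algebra.FiniteType A K → Module.Finite A K].TFAE := by
  tfae_have 1 → 3 := by
    intro h K _ _ hK
    exact finite_of_finite_type_of_isJacobsonRing A K
  tfae_have 3 → 2 := by
    intro h p hp hpmax f hf hF
    apply hpmax
    let _ : Field (Localization.Away f) := hF.toField
    have hft1 : Algebra.FiniteType (A ⧸ p) (Localization.Away f) :=
      IsLocalization.finiteType_of_monoid_fg (Submonoid.powers f) (Localization.Away f)
    have hft0 : Algebra.FiniteType A (A ⧸ p) :=
      Algebra.FiniteType.of_surjective (Ideal.Quotient.mkₐ A p) Ideal.Quotient.mk_surjective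
    have hft : Algebra.FiniteType A (Localization.Away f) := Algebra.FiniteType.trans hft0 hft1
    have hfin : Module.Finite A (Localization.Away f) := h (Localization.Away f) hft
    have hfin' : Module.Finite (A ⧸ p) (Localization.Away f) :=
      Module.Finite.of_restrictScalars_finite A (A ⧸ p) (Localization.Away f)
    have hint : Algebra.IsIntegral (A ⧸ p) (Localization.Away f) := Algebra.IsIntegral.of_finite _ _
    have hdom : IsDomain (A ⧸ p) := Ideal.Quotient.isDomain p
    have hinj : Function.Injective (algebraMap (A ⧸ p) (Localization.Away f)) :=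
      IsLocalization.injective (Localization.Away f) (M := Submonoid.powers f)
        (Submonoid.powers_le.mpr (mem_nonZeroDivisors_of_ne_zero hf))
    exact Ideal.Quotient.maximal_of_isField p (isField_of_isIntegral_of_isField hinj hF)
  tfae_have 2 → 1 := by
    intro h
    rw [isJacobsonRing_iff_prime_eq]
    intro P hP
    refine le_antisymm ?_ Ideal.le_jacobson
    intro x hx
    by_contra hxP
    -- Zorn: maximal ideal disjoint from powers of x
    set S : Submonoid A := Submonoid.powers x with hS
    have hdisj : Disjoint (P : Set A) S := by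
      rw [Set.disjoint_right]
      rintro _ ⟨n, rfl⟩ hn
      exact hxP (hP.mem_of_pow_mem n hn)
    have ⟨q, hPq, hq⟩ := zorn_le_nonempty₀ {p : Ideal A | Disjoint (p : Set A) S}
      (fun c hc hc' y hy => by
        cases isEmpty_or_nonempty c
        · exact ⟨P, hdisj, fun J hJ => isEmptyElim (⟨J, hJ⟩ : c)⟩
        refine ⟨sSup c, Set.disjoint_left.mpr fun z hz => ?_, fun _ => le_sSup⟩
        have ⟨p, hp⟩ := (Submodule.mem_iSup_of_directed _ hc'.directed).mp (sSup_eq_iSup' c ▸ hz)
        exact Set.disjoint_left.mp (hc p.2) hp) P hdisj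
    have hqdisj : Disjoint (q : Set A) S := hq.1
    have hqmax : ∀ J : Ideal A, q < J → ¬ Disjoint (J : Set A) S := fun _ => hq.not_prop_of_gt
    have hqprime : q.IsPrime := Ideal.isPrime_of_maximally_disjoint q S hqdisj hqmax
    have hxq : x ∉ q := fun hxq =>
      Set.disjoint_left.mp hqdisj hxq (Submonoid.mem_powers x)
    have hf : (Ideal.Quotient.mk q x) ≠ 0 := by
      rwa [Ne, Ideal.Quotient.eq_zero_iff_mem]
    have hdom : IsDomain (A ⧸ q) := Ideal.Quotient.isDomain q
    set f := Ideal.Quotient.mk q x with hfdef
    have hle : Submonoid.powers f ≤ nonZeroDivisors (A ⧸ q) :=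
      Submonoid.powers_le.mpr (mem_nonZeroDivisors_of_ne_zero hf)
    have hLdom : IsDomain (Localization.Away f) :=
      IsLocalization.isDomain_localization hle
    -- the localization is a field
    have hF : IsField (Localization.Away f) := by
      refine ⟨⟨0, 1, zero_ne_one⟩, mul_comm, ?_⟩
      intro a ha
      obtain ⟨c, s, rfl⟩ := IsLocalization.exists_mk'_eq (Submonoid.powers f) a
      have hc : c ≠ 0 := by
        rintro rfl
        exact ha (IsLocalization.mk'_zero s)
      obtain ⟨c₀, rfl⟩ := Ideal.Quotient.mk_surjective c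
      have hc₀ : c₀ ∉ q := by
        rwa [Ne, Ideal.Quotient.eq_zero_iff_mem] at hc
      have hJ := hqmax (q ⊔ Ideal.span {c₀}) (Submodule.lt_sup_iff_notMem.mpr hc₀)
      rw [Set.not_disjoint_iff] at hJ
      obtain ⟨_, hzJ, ⟨n, rfl⟩⟩ := hJ
      obtain ⟨i, hi, j, hj, hij⟩ := Submodule.mem_sup.mp hzJ
      obtain ⟨r, rfl⟩ := Ideal.mem_span_singleton'.mp hj
      have hij' : i + r * c₀ = x ^ n := hij
      have hcr : Ideal.Quotient.mk q c₀ * Ideal.Quotient.mk q r = f ^ n := by
        rw [hfdef, ← map_pow, ← map_mul, ← hij', map_add, Ideal.Quotient.eq_zero_iff_mem.mpr hi,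
          zero_add, mul_comm]
      have hunit : IsUnit (algebraMap (A ⧸ q) (Localization.Away f) (Ideal.Quotient.mk q c₀)) := by
        have h1 : IsUnit (algebraMap (A ⧸ q) (Localization.Away f) (f ^ n)) :=
          IsLocalization.map_units _ (⟨f ^ n, n, rfl⟩ : Submonoid.powers f)
        rw [← hcr, map_mul] at h1
        exact isUnit_of_mul_isUnit_left h1
      have hunit2 : IsUnit (IsLocalization.mk' (Localization.Away f) (Ideal.Quotient.mk q c₀) s) := by
        rw [IsLocalization.mk'_eq_mul_mk'_one]
        exact hunit.mul (by
          have : IsUnit (algebraMap (A ⧸ q) (Localization.Away f) (s : A ⧸ q)) :=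
            IsLocalization.map_units _ s
          have h2 : IsLocalization.mk' (Localization.Away f) (1 : A ⧸ q) s *
              algebraMap (A ⧸ q) (Localization.Away f) (s : A ⧸ q) = 1 := by
            rw [IsLocalization.mk'_spec, map_one]
          exact isUnit_iff_exists_inv.mpr ⟨_, h2⟩)
      obtain ⟨u, hu⟩ := hunit2
      exact ⟨↑u⁻¹, by rw [← hu, Units.mul_inv]⟩
    have hqMax : q.IsMaximal := by
      by_contra hnm
      exact h q hnm f hf hF
    have : x ∈ q := by
      rw [Ideal.jacobson, Ideal.mem_sInf] at hx
      exact hx ⟨hPq, hqMax⟩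
    exact hxq this
  tfae_finish

end Groth.Agent.S4862
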