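import Groth.Statements.S4866
import Mathlib
import Groth.Agent.Lib.Helper21.FibReg3
-- import your own Groth.Agent.* helpers here

set_option autoImplicit false
universe u
open EGA43

namespace Groth.Agent.S4866

open AlgebraicGeometry CategoryTheory Limits in
/-- Let Y be a locally Noetherian scheme, f : X ⟶ Y locally of finite type, F a coherent f-flat
O_X-module and g₁, …, gₙ sections of O_X over X. Then the set of points x of X, with y = f x, such
that the germs (gᵢ)_x form a weakly regular sequence on the fibre module F_x / m_y F_x (each gᵢ is a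
non-zero-divisor on the quotient by the preceding ones; the quotient by all of them may be zero) is
open in X. -/
theorem result {X Y : Scheme.{u}} [IsLocallyNoetherian Y] (f : X ⟶ Y)
    [LocallyOfFiniteType f] (F : X.Modules) (hF : Coh.IsCoh F) (hflat : FlatMod.IsFlatOver f F)
    (n : ℕ) (g : Fin n → Γ(X, ⊤)) :
    IsOpen {x : X |
      RingTheory.Sequence.IsWeaklyRegular
        (↑(F.presheaf.stalk x) ⧸ (Ideal.map (f.stalkMap x).hom (IsLocalRing.maximalIdeal ↑(Y.presheaf.stalk (f x))) •
          (⊤ : Submodule ↑(X.presheaf.stalk x) ↑(F.presheaf.stalk x))))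
        (List.ofFn fun i => (X.presheaf.germ ⊤ x trivial) (g i))} := by
  have h := Groth.Agent.Lib.helper21.FibReg.isOpen_flat_and_fibreRegular f (List.ofFn g) F hF
  convert h using 1
  ext x
  simp only [Set.mem_setOf_eq]
  constructor
  · intro hx
    refine ⟨hflat x, ?_⟩
    unfold Groth.Agent.Lib.helper21.FibReg.FibreRegular
    rw [List.map_ofFn]
    exact hx
  · rintro ⟨-, hx⟩
    unfold Groth.Agent.Lib.helper21.FibReg.FibreRegular at hx
    rw [List.map_ofFn] at hx
    exact hx

end Groth.Agent.S4866
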