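import Groth.Statements.S4867
import Groth.Agent.Lib.Helper11.LimFlatPt
import Groth.Agent.Lib.Helper11.ConsMod3
import Groth.Agent.Lib.Helper9.FGLimitZ

set_option autoImplicit false
universe u
open CategoryTheory AlgebraicGeometry
open EGA43

namespace Groth.Agent.S4867

theorem isPullback_id' {C : Type*} [Category C] {X Y : C} (p : X ⟶ Y) :
    IsPullback p (𝟙 X) (𝟙 Y) p := IsPullback.of_vert_isIso ⟨by simp⟩

open Groth.Agent.Lib.helper9.FGLimitZ in
/-- from a stage of the system to the data of the statement. -/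
theorem stage_model {A : Type u} [CommRing A] {X : Scheme.{u}}
    (f : X ⟶ Spec (CommRingCat.of A)) (F : X.Modules)
    (k : (Finset A)ᵒᵖ) (Xk : Scheme.{u}) (uk : Xk ⟶ (specDiagram A).obj k) (e : X ⟶ Xk)
    (Fk : Xk.Modules) [Fk.IsQuasicoherent] (hfp : CohB1.IsFP Fk)
    [LocallyOfFinitePresentation uk] [QuasiCompact uk]
    (sq : IsPullback e f uk ((specCone A).π.app k))
    (hiso : F ≅ (Scheme.Modules.pullback e).obj Fk)
    (i : (Finset A)ᵒᵖ) (φ : i ⟶ k) (Xi Yi : Scheme.{u}) (fi : Xi ⟶ Yi)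
    (gi : Yi ⟶ (specDiagram A).obj i) (pY : Yi ⟶ (specDiagram A).obj k) (pX : Xi ⟶ Xk)
    (hpY : IsPullback pY gi (𝟙 _) ((specDiagram A).map φ)) (hpX : IsPullback pX fi uk pY) :
    ∃ (q : X ⟶ Xi), q ≫ pX = e ∧ IsIso gi ∧
      LocallyOfFiniteType (fi ≫ gi) ∧ QuasiCompact (fi ≫ gi) ∧
      Coh.IsCoh ((Scheme.Modules.pullback pX).obj Fk) ∧
      IsPullback q f (fi ≫ gi) (Spec.map (CommRingCat.ofHom (adj A i.unop).val.toRingHom)) ∧
      (∀ v : X ⟶ Xi, v ≫ pX = e → v ≫ fi ≫ gi = f ≫ (specCone A).π.app i → v = q) ∧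
      Nonempty ((Scheme.Modules.pullback q).obj ((Scheme.Modules.pullback pX).obj Fk) ≅ F) := by
  have hbig : IsPullback pX (fi ≫ gi) uk ((specDiagram A).map φ) := by
    have := hpX.paste_vert hpY
    rwa [Category.comp_id] at this
  have hcw : ((specCone A).π.app i : Spec (CommRingCat.of A) ⟶ _) ≫ (specDiagram A).map φ =
      (specCone A).π.app k := (specCone A).w φ
  have hw : e ≫ uk = (f ≫ (specCone A).π.app i) ≫ (specDiagram A).map φ := by
    rw [Category.assoc]
    exact sq.w.trans (congrArg (fun t => f ≫ t) hcw.symm)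
  let q : X ⟶ Xi := hbig.lift e (f ≫ (specCone A).π.app i) hw
  have hq1 : q ≫ pX = e := hbig.lift_fst _ _ _
  have hq2 : q ≫ fi ≫ gi = f ≫ (specCone A).π.app i := hbig.lift_snd _ _ _
  haveI : IsIso gi := by
    have : IsIso (𝟙 ((specDiagram A).obj k)) := inferInstance
    exact MorphismProperty.of_isPullback (P := MorphismProperty.isomorphisms Scheme.{u}) hpY this
  refine ⟨q, hq1, inferInstance, ?_, ?_, ?_, ?_, ?_, ?_⟩
  · haveI : LocallyOfFinitePresentation (fi ≫ gi) :=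
      MorphismProperty.of_isPullback hbig inferInstance
    infer_instance
  · exact MorphismProperty.of_isPullback hbig inferInstance
  · exact Groth.Agent.Lib.helper11.ConsMod.isCoh_of_isFP _
      (Groth.Agent.Lib.helper16.QCohPullback2.isFinitePresentation_pullback pX Fk hfp)
  · have h1 : IsPullback (q ≫ pX) f uk ((specCone A).π.app i ≫ (specDiagram A).map φ) := by
      rw [hq1]
      exact hcw.symm ▸ sq
    exact IsPullback.of_right h1 hq2 hbig
  · intro v hv1 hv2
    exact hbig.hom_ext (hv1.trans hq1.symm) (hv2.trans hq2.symm)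
  · exact ⟨(Scheme.Modules.pullbackComp q pX).app Fk ≪≫
      (Scheme.Modules.pullbackCongr hq1).app Fk ≪≫ hiso.symm⟩


/-- Let A be a commutative ring, f : X ⟶ Spec A a morphism of finite presentation, F a quasi-coherent
O_X-module of finite presentation and x a point of X. If F is f-flat at x, then there are a finitely
generated subring A₀ of A, a morphism of finite type f₀ : X₀ ⟶ Spec A₀, a coherent O_{X₀}-module F₀
and a cartesian square q : X ⟶ X₀ over Spec A ⟶ Spec A₀ together with an isomorphism q^*F₀ ≅ F, such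
that F₀ is f₀-flat at q x; and if F is f-flat, F₀ can be chosen f₀-flat. -/
theorem result {A : Type u} [CommRing A] {X : Scheme.{u}}
    (f : X ⟶ Spec (CommRingCat.of A)) [LocallyOfFinitePresentation f] [QuasiCompact f] [QuasiSeparated f]
    (F : X.Modules) [Coh.IsQCoh F] (hF : CohB1.IsFP F) (x : X) :
    (FlatMod.IsFlatOverAt f F x →
      ∃ (A₀ : Subalgebra ℤ A) (_ : A₀.FG) (X₀ : Scheme.{u}) (f₀ : X₀ ⟶ Spec (CommRingCat.of ↥A₀))
        (_ : LocallyOfFiniteType f₀) (_ : QuasiCompact f₀) (F₀ : X₀.Modules) (_ : Coh.IsCoh F₀) (q : X ⟶ X₀)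
        (_ : IsPullback q f f₀ (Spec.map (CommRingCat.ofHom A₀.val.toRingHom)))
        (_ : (Scheme.Modules.pullback q).obj F₀ ≅ F),
        FlatMod.IsFlatOverAt f₀ F₀ (q x)) ∧
    (FlatMod.IsFlatOver f F →
      ∃ (A₀ : Subalgebra ℤ A) (_ : A₀.FG) (X₀ : Scheme.{u}) (f₀ : X₀ ⟶ Spec (CommRingCat.of ↥A₀))
        (_ : LocallyOfFiniteType f₀) (_ : QuasiCompact f₀) (F₀ : X₀.Modules) (_ : Coh.IsCoh F₀) (q : X ⟶ X₀)
        (_ : IsPullback q f f₀ (Spec.map (CommRingCat.ofHom A₀.val.toRingHom)))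
        (_ : (Scheme.Modules.pullback q).obj F₀ ≅ F),
        FlatMod.IsFlatOver f₀ F₀) := by
  classical
  haveI : F.IsQuasicoherent := inferInstance
  let f' : X ⟶ (Groth.Agent.Lib.helper9.FGLimitZ.specCone A).pt := f
  haveI : LocallyOfFinitePresentation f' := inferInstanceAs (LocallyOfFinitePresentation f)
  haveI : QuasiCompact f' := inferInstanceAs (QuasiCompact f)
  haveI : QuasiSeparated f' := inferInstanceAs (QuasiSeparated f)
  obtain ⟨k, Xk, uk, e, Fk, h1, h2, h3, sq, hq, hfp, ⟨hiso⟩⟩ :=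
    Groth.Agent.Lib.helper11.ConsMod.exists_mod_model
      (Groth.Agent.Lib.helper9.FGLimitZ.specDiagram A) (Groth.Agent.Lib.helper9.FGLimitZ.specCone A)
      (Groth.Agent.Lib.helper9.FGLimitZ.isLimitSpecCone A) (X := X) f' F hF
  haveI := h1; haveI := h2; haveI := h3; haveI := hq
  have hY := isPullback_id' ((Groth.Agent.Lib.helper9.FGLimitZ.specCone A).π.app k)
  constructor
  · intro hfl
    have hfl' : FlatMod.IsFlatOverAt f ((Scheme.Modules.pullback e).obj Fk) x :=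
      (Groth.Agent.Lib.helper17.FlatOver7.isFlatOverAt_iff_of_iso f hiso x).mp hfl
    obtain ⟨i, φ, Xi, Yi, fi, gi, pY, pX, vY, vX, hpY, hpX, e1, e2, e3, e4, hfli⟩ :=
      Groth.Agent.Lib.helper11.LimFlatPt.exists_stage_pt
        (Groth.Agent.Lib.helper9.FGLimitZ.specDiagram A)
        (Groth.Agent.Lib.helper9.FGLimitZ.specCone A)
        (Groth.Agent.Lib.helper9.FGLimitZ.isLimitSpecCone A) k uk (𝟙 _) Fk hfp f (𝟙 _)
        ((Groth.Agent.Lib.helper9.FGLimitZ.specCone A).π.app k) e hY sq x hfl'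
    obtain ⟨q, hq1, hgi, hlft, hqc, hcoh, hpb, huniq, ⟨hiso'⟩⟩ :=
      stage_model f F k Xk uk e Fk hfp sq hiso i φ Xi Yi fi gi pY pX hpY hpX
    have hqv : vX = q := by
      refine huniq vX e3 ?_
      rw [← Category.assoc, e4, Category.assoc, e2]
      erw [Category.id_comp]
    refine ⟨Groth.Agent.Lib.helper9.FGLimitZ.adj A i.unop, ⟨i.unop, rfl⟩, Xi, fi ≫ gi, hlft, hqc,
      (Scheme.Modules.pullback pX).obj Fk, hcoh, q, hpb, hiso', ?_⟩
    haveI := hgi
    refine (Groth.Agent.Lib.helper11.LimFlatPt.isFlatOverAt_comp_openImmersion_iff fi gi _ _).mpr ?_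
    rw [← hqv]
    exact hfli
  · intro hfl
    have hfl' : FlatMod.IsFlatOver f ((Scheme.Modules.pullback e).obj Fk) :=
      (Groth.Agent.Lib.helper17.FlatOver7.isFlatOver_iff_of_iso f hiso).mp hfl
    obtain ⟨i, φ, Xi, Yi, fi, gi, pY, pX, hpY, hpX, hfli⟩ :=
      (Groth.Agent.Lib.helper11.LimFlatSch.main
        (Groth.Agent.Lib.helper9.FGLimitZ.specDiagram A)
        (Groth.Agent.Lib.helper9.FGLimitZ.specCone A)
        (Groth.Agent.Lib.helper9.FGLimitZ.isLimitSpecCone A) k uk (𝟙 _) Fk hfp f (𝟙 _)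
        ((Groth.Agent.Lib.helper9.FGLimitZ.specCone A).π.app k) e hY sq).mp hfl'
    obtain ⟨q, hq1, hgi, hlft, hqc, hcoh, hpb, huniq, ⟨hiso'⟩⟩ :=
      stage_model f F k Xk uk e Fk hfp sq hiso i φ Xi Yi fi gi pY pX hpY hpX
    refine ⟨Groth.Agent.Lib.helper9.FGLimitZ.adj A i.unop, ⟨i.unop, rfl⟩, Xi, fi ≫ gi, hlft, hqc,
      (Scheme.Modules.pullback pX).obj Fk, hcoh, q, hpb, hiso', ?_⟩
    intro ξ
    haveI := hgi
    exact (Groth.Agent.Lib.helper11.LimFlatPt.isFlatOverAt_comp_openImmersion_iff fi gi _ _).mpr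
      (hfli ξ)

end Groth.Agent.S4867
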