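import Groth.Statements.S4871
import Groth.Agent.Lib.Helper3.RestrSepO

set_option autoImplicit false
universe u
open CategoryTheory AlgebraicGeometry
open EGA43

namespace Groth.Agent.S4871

open CategoryTheory.Limits in
/-- Let f : X ⟶ S be flat and locally of finite presentation and U an open subscheme of X. Then U is
universally schematically dense in X relative to S, i.e. for every base change S' ⟶ S the preimage
of U in X ×_S S' is schematically dense, if and only if for every point s of S the trace U_s of U on
the fibre X_s is schematically dense in X_s. -/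
theorem result {X S : Scheme.{u}} (f : X ⟶ S) [Flat f]
    [LocallyOfFinitePresentation f] (U : X.Opens) :
    (∀ (S' : Scheme.{u}) (g : S' ⟶ S), CInt.IsSchematicallyDense ((pullback.fst f g) ⁻¹ᵁ U)) ↔
      ∀ s : S, CInt.IsSchematicallyDense ((f.fiberι s) ⁻¹ᵁ U) := by
  constructor
  · intro h s
    exact h (Spec (S.residueField s)) (S.fromSpecResidueField s)
  · intro H S' g
    have H' : ∀ s : S, Groth.Agent.Lib.helper3.RestrSep.SchDense
        ((pullback.fst f (S.fromSpecResidueField s)) ⁻¹ᵁ U) :=
      fun s => (Groth.Agent.Lib.helper3.RestrSep.schDense_iff _).mpr (fun V => H s V)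
    exact (Groth.Agent.Lib.helper3.RestrSep.schDense_iff _).mp
      (Groth.Agent.Lib.helper3.RestrSep.schDense_baseChange_of_fibrewise f U H' g)

end Groth.Agent.S4871
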