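import Groth.Statements.S4872
import Mathlib

set_option autoImplicit false
universe u
open CategoryTheory AlgebraicGeometry
open EGA43

namespace Groth.Agent.S4872

open CategoryTheory.Limits in
theorem b_to_c {X : Scheme.{u}} {ι : Type u} (Z : ι → Scheme.{u}) (f : ∀ i, Z i ⟶ X)
    (hb : ∀ (V : (X).Opens) (t : Γ(X, V)), (∀ i, (f i).app V t = 0) → t = 0)
    (U : X.Opens) (Y : Scheme.{u}) (j : Y ⟶ (U : Scheme.{u})) [IsClosedImmersion j]
    (hg : ∀ i, ∃ g : ((f i) ⁻¹ᵁ U : Scheme.{u}) ⟶ Y, g ≫ j = (f i) ∣_ U) : IsIso j := by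
  rw [IsClosedImmersion.isIso_iff_ker_eq_bot]
  apply Scheme.IdealSheafData.ext
  funext W
  rw [Scheme.Hom.ker_apply, Scheme.IdealSheafData.ideal_bot]
  rw [Pi.bot_apply, eq_bot_iff]
  intro s hs
  rw [RingHom.mem_ker] at hs
  rw [Ideal.mem_bot]
  apply hb (U.ι ''ᵁ W.1) s
  intro i
  obtain ⟨g, hg⟩ := hg i
  have h1 : ((f i) ∣_ U).app W.1 s = 0 := by
    rw [← hg, Scheme.Hom.comp_app]
    show (g.app (j ⁻¹ᵁ W.1)).hom ((j.app W.1).hom s) = 0
    rw [hs, map_zero]
  rw [morphismRestrict_app] at h1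
  have h1' : ((Z i).presheaf.map
      (eqToHom (image_morphismRestrict_preimage (f i) U W.1)).op).hom
        (((f i).app (U.ι ''ᵁ W.1)).hom s) = 0 := h1
  have hinj : Function.Injective ((Z i).presheaf.map
      (eqToHom (image_morphismRestrict_preimage (f i) U W.1)).op).hom :=
    ((ConcreteCategory.isIso_iff_bijective ((Z i).presheaf.map
      (eqToHom (image_morphismRestrict_preimage (f i) U W.1)).op)).mp inferInstance).1
  apply hinj
  rw [map_zero]
  exact h1'

open CategoryTheory.Limits in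
theorem c_to_d {X S : Scheme.{u}} (p : X ⟶ S) {ι : Type u} (Z : ι → Scheme.{u}) (f : ∀ i, Z i ⟶ X)
    (hc : ∀ (U : X.Opens) (Y : Scheme.{u}) (j : Y ⟶ (U : Scheme.{u})), IsClosedImmersion j →
        (∀ i, ∃ g : ((f i) ⁻¹ᵁ U : Scheme.{u}) ⟶ Y, g ≫ j = (f i) ∣_ U) → IsIso j)
    (X' : Scheme.{u}) (q : X' ⟶ S) [IsSeparated q] (U : X.Opens) (u v : (U : Scheme.{u}) ⟶ X')
    (hu : u ≫ q = U.ι ≫ p) (hv : v ≫ q = U.ι ≫ p)
    (huv : ∀ i, ((f i) ∣_ U) ≫ u = ((f i) ∣_ U) ≫ v) : u = v := by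
  let U' : Over S := Over.mk (U.ι ≫ p)
  let X'' : Over S := Over.mk q
  let u' : U' ⟶ X'' := Over.homMk u hu
  let v' : U' ⟶ X'' := Over.homMk v hv
  haveI : IsSeparated X''.hom := ‹IsSeparated q›
  have hcl : IsClosedImmersion (equalizer.ι u' v').left := inferInstance
  have hiso : IsIso (equalizer.ι u' v').left := by
    refine hc U _ (equalizer.ι u' v').left hcl (fun i => ?_)
    let Zi' : Over S := Over.mk (((f i) ∣_ U) ≫ U.ι ≫ p)
    let fi' : Zi' ⟶ U' := Over.homMk ((f i) ∣_ U) rfl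
    have hfi : fi' ≫ u' = fi' ≫ v' := by
      ext
      exact huv i
    refine ⟨(equalizer.lift fi' hfi).left, ?_⟩
    rw [← Over.comp_left, equalizer.lift_ι]
    rfl
  have hcond : (equalizer.ι u' v').left ≫ u = (equalizer.ι u' v').left ≫ v :=
    congrArg CommaMorphism.left (equalizer.condition u' v')
  exact (cancel_epi _).mp hcond

theorem d_to_b {X S : Scheme.{u}} (p : X ⟶ S) {ι : Type u} (Z : ι → Scheme.{u}) (f : ∀ i, Z i ⟶ X)
    (hd : ∀ (X' : Scheme.{u}) (q : X' ⟶ S), IsSeparated q → ∀ (U : X.Opens) (u v : (U : Scheme.{u}) ⟶ X'),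
        u ≫ q = U.ι ≫ p → v ≫ q = U.ι ≫ p → (∀ i, ((f i) ∣_ U) ≫ u = ((f i) ∣_ U) ≫ v) → u = v)
    (V : X.Opens) (t : Γ(X, V)) (ht : ∀ i, (f i).app V t = 0) : t = 0 := by
  have hsep : IsSeparated (𝔸(PUnit.{u + 1}; S) ↘ S) :=
    IsSeparated.of_isAffineHom (𝔸(PUnit.{u + 1}; S) ↘ S)
  have key := hd 𝔸(PUnit.{u + 1}; S) (𝔸(PUnit.{u + 1}; S) ↘ S) hsep V
    (AffineSpace.homOfVector (V.ι ≫ p) (fun _ => V.topIso.inv t))
    (AffineSpace.homOfVector (V.ι ≫ p) (fun _ => 0))
    (AffineSpace.homOfVector_over _ _) (AffineSpace.homOfVector_over _ _) (by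
      intro i
      rw [AffineSpace.comp_homOfVector, AffineSpace.comp_homOfVector]
      congr 1
      funext _
      simp only [Function.comp_apply, map_zero]
      rw [morphismRestrict_appTop]
      have h1 : ((f i).app (V.ι ''ᵁ ⊤)).hom ((V.topIso.inv).hom t) = 0 := by
        have h2 := (f i).naturality (eqToHom V.ι_image_top).op
        have h3 := congrArg (fun φ => φ.hom t) h2
        simp only [CommRingCat.hom_comp, RingHom.comp_apply] at h3
        have ht' : ((f i).app V).hom t = 0 := ht i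
        rw [ht', map_zero] at h3
        exact h3
      show ((Z i).presheaf.map (eqToHom (image_morphismRestrict_preimage (f i) V ⊤)).op).hom
        (((f i).app (V.ι ''ᵁ ⊤)).hom ((V.topIso.inv).hom t)) = 0
      rw [h1, map_zero])
  have h4 := congrArg (fun φ => φ.appTop (AffineSpace.coord S PUnit.unit)) key
  simp only [AffineSpace.homOfVector_appTop_coord] at h4
  have h5 := congrArg V.topIso.hom h4
  rw [map_zero] at h5
  rw [← h5]
  exact ((V.topIso.commRingCatIsoToRingEquiv).apply_symm_apply t).symm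

/-- Conditions b), c), d) (schematically dominant families): let p : X ⟶ S be a morphism and (f_i : Z_i
⟶ X) a family of morphisms. The following are equivalent: b) for every open V of X, a section of O_X
over V whose images in all the Γ(f_i⁻¹(V), O_{Z_i}) are zero is zero; c) for every open U of X, a
closed immersion j : Y ⟶ U through which each restriction f_i⁻¹(U) ⟶ U factors is an isomorphism; d)
for every separated S-scheme X', every open U of X and every pair of S-morphisms u, v : U ⟶ X'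
having the same composite with each f_i⁻¹(U) ⟶ U, one has u = v. -/
theorem result {X S : Scheme.{u}} (p : X ⟶ S) {ι : Type u} (Z : ι → Scheme.{u})
    (f : ∀ i, Z i ⟶ X) :
    [(∀ (V : (X).Opens) (t : Γ(X, V)), (∀ i, (f i).app V t = 0) → t = 0),
      ∀ (U : X.Opens) (Y : Scheme.{u}) (j : Y ⟶ (U : Scheme.{u})), IsClosedImmersion j →
        (∀ i, ∃ g : ((f i) ⁻¹ᵁ U : Scheme.{u}) ⟶ Y, g ≫ j = (f i) ∣_ U) → IsIso j,
      ∀ (X' : Scheme.{u}) (q : X' ⟶ S), IsSeparated q → ∀ (U : X.Opens) (u v : (U : Scheme.{u}) ⟶ X'),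
        u ≫ q = U.ι ≫ p → v ≫ q = U.ι ≫ p → (∀ i, ((f i) ∣_ U) ≫ u = ((f i) ∣_ U) ≫ v) → u = v].TFAE := by
  tfae_have 1 → 2 := fun hb U Y j hj hg => by
    haveI := hj
    exact b_to_c Z f hb U Y j hg
  tfae_have 2 → 3 := fun hc X' q hq U u v hu hv huv => by
    haveI := hq
    exact c_to_d p Z f hc X' q U u v hu hv huv
  tfae_have 3 → 1 := fun hd V t ht => d_to_b p Z f hd V t ht
  tfae_finish

end Groth.Agent.S4872
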