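import Groth.Statements.S4874
import Mathlib
-- import your own Groth.Agent.* helpers here

set_option autoImplicit false
universe u
open CategoryTheory AlgebraicGeometry
open EGA43

namespace Groth.Agent.S4874

section helpers
/-- a flat surjective morphism is injective on sections -/
theorem app_injective {X X' : Scheme.{u}} (g : X' ⟶ X) [Flat g] [Surjective g] (V : X.Opens) :
    Function.Injective (g.app V) := by
  rw [injective_iff_map_eq_zero]
  intro t ht
  apply TopCat.Presheaf.section_ext X.sheaf V
  intro y hy
  obtain ⟨x, rfl⟩ := g.surjective y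
  have hinj : Function.Injective (g.stalkMap x) := by
    algebraize [(g.stalkMap x).hom]
    have : Module.FaithfullyFlat (X.presheaf.stalk (g x)) (X'.presheaf.stalk x) :=
      @Module.FaithfullyFlat.of_flat_of_isLocalHom _ _ _ _ _ _ _
        (Flat.stalkMap g x) (g.toLRSHom.prop x)
    exact ‹RingHom.FaithfullyFlat _›.injective
  apply hinj
  change g.stalkMap x (X.presheaf.germ V (g x) hy t) = g.stalkMap x (X.presheaf.germ V (g x) hy 0)
  rw [Scheme.Hom.germ_stalkMap_apply, Scheme.Hom.germ_stalkMap_apply, ht]
  simp only [map_zero]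

theorem main {X X' : Scheme.{u}} {ι : Type u} (Z : ι → Scheme.{u})
    (f : ∀ i, Z i ⟶ X) (g : X' ⟶ X) [Flat g] [Surjective g]
    (h : (∀ (V : (X').Opens) (t : Γ(X', V)), (∀ i, (Limits.pullback.snd (f i) g).app V t = 0) → t = 0)) :
    (∀ (V : (X).Opens) (t : Γ(X, V)), (∀ i, (f i).app V t = 0) → t = 0) := by
  intro V t ht
  apply app_injective g V
  rw [map_zero]
  apply h
  intro i
  have e : Limits.pullback.snd (f i) g ≫ g = Limits.pullback.fst (f i) g ≫ f i :=
    Limits.pullback.condition.symm
  have h1 := Scheme.Hom.congr_app e V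
  have key : (Limits.pullback.snd (f i) g).app (g ⁻¹ᵁ V) (g.app V t) =
      ((Limits.pullback (f i) g).presheaf.map (eqToHom (by rw [← e]; rfl)).op)
        ((Limits.pullback.fst (f i) g ≫ f i).app V t) := ConcreteCategory.congr_hom h1 t
  have h3 : (Limits.pullback.fst (f i) g ≫ f i).app V t =
      (Limits.pullback.fst (f i) g).app (f i ⁻¹ᵁ V) ((f i).app V t) := rfl
  rw [key, h3, ht i, map_zero]
  exact map_zero _
end helpers

/-- Let (f_i : Z_i ⟶ X) be a family of morphisms, g : X' ⟶ X a faithfully flat morphism and f'_i : Z_i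
×_X X' ⟶ X' the base changes. If the family (f'_i) is schematically dominant, then so is the family
(f_i). (Schematically dominant: a section of the structure sheaf over an open whose pullback along
every member of the family vanishes is zero.) -/
theorem result {X X' : Scheme.{u}} {ι : Type u} (Z : ι → Scheme.{u})
    (f : ∀ i, Z i ⟶ X) (g : X' ⟶ X) [Flat g] [Surjective g]
    (h : (∀ (V : (X').Opens) (t : Γ(X', V)), (∀ i, (Limits.pullback.snd (f i) g).app V t = 0) → t = 0)) :
    (∀ (V : (X).Opens) (t : Γ(X, V)), (∀ i, (f i).app V t = 0) → t = 0) := by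
  exact main Z f g h

end Groth.Agent.S4874
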