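import Groth.Statements.S4878
import Mathlib
-- import your own Groth.Agent.* helpers here

set_option autoImplicit false
universe u
open TensorProduct
open EGA43

namespace Groth.Agent.S4878

/-- Let A be a commutative ring, (u_i : M → M_i) a family of A-linear maps whose kernels have zero
intersection, and N a projective A-module. Then the kernels of the maps u_i ⊗ 1 : M ⊗_A N → M_i ⊗_A
N have zero intersection. -/
theorem result {A : Type u} [CommRing A]
    {M : Type u} [AddCommGroup M] [Module A M] {ι : Type u} (M' : ι → Type u)
    [∀ i, AddCommGroup (M' i)] [∀ i, Module A (M' i)] (u : ∀ i, M →ₗ[A] M' i)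
    (hu : ⨅ i, LinearMap.ker (u i) = ⊥)
    (N : Type u) [AddCommGroup N] [Module A N] [Module.Projective A N] :
    ⨅ i, LinearMap.ker ((u i).rTensor N) = ⊥ := by
  classical
  obtain ⟨s, hs⟩ := Module.projective_def'.mp (inferInstance : Module.Projective A N)
  rw [eq_bot_iff]
  intro x hx
  rw [Submodule.mem_iInf] at hx
  rw [Submodule.mem_bot]
  have hx1 : x = ((Finsupp.linearCombination A (id : N → N)).lTensor M) ((s.lTensor M) x) := by
    rw [← LinearMap.comp_apply, ← LinearMap.lTensor_comp, hs, LinearMap.lTensor_id]
    rfl
  rw [hx1]
  suffices h : (s.lTensor M) x = 0 by rw [h, map_zero]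
  apply (TensorProduct.finsuppScalarRight A A M N).injective
  rw [map_zero]
  ext n
  rw [TensorProduct.finsuppScalarRight_apply, Finsupp.zero_apply]
  have key : ∀ i, u i (TensorProduct.AlgebraTensorModule.rid A A M
      ((Finsupp.lapply n).lTensor M ((s.lTensor M) x))) = 0 := by
    intro i
    have h1 : ∀ y : M ⊗[A] N, u i (TensorProduct.AlgebraTensorModule.rid A A M
        ((Finsupp.lapply n).lTensor M ((s.lTensor M) y))) =
        TensorProduct.AlgebraTensorModule.rid A A (M' i)
          ((Finsupp.lapply n).lTensor (M' i) ((s.lTensor (M' i)) ((u i).rTensor N y))) := by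
      intro y
      induction y using TensorProduct.induction_on with
      | zero => simp
      | tmul m n' => simp
      | add a b ha hb => simp only [map_add, ha, hb]
    rw [h1, LinearMap.mem_ker.mp (hx i), map_zero, map_zero, map_zero]
  have hmem : TensorProduct.AlgebraTensorModule.rid A A M
      ((Finsupp.lapply n).lTensor M ((s.lTensor M) x)) ∈ ⨅ i, LinearMap.ker (u i) := by
    rw [Submodule.mem_iInf]
    exact key
  rw [hu] at hmem
  exact hmem

end Groth.Agent.S4878
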