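import Groth.Statements.S4880
import Mathlib
import Groth.Agent.Lib.Helper13.GDomain
-- import your own Groth.Agent.* helpers here

set_option autoImplicit false
universe u
open CategoryTheory AlgebraicGeometry
open EGA43

namespace Groth.Agent.S4880

/-- For a Noetherian irreducible scheme X the following are equivalent: a) the generic point of X is an
isolated point; b) the underlying set of X is finite; c) X has dimension at most 1 and finitely many
closed points. -/
theorem result (X : Scheme.{u}) [IsNoetherian X]
    [IrreducibleSpace X] :
    [IsOpen ({genericPoint X} : Set X),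
      Finite X,
      topologicalKrullDim X ≤ 1 ∧ {x : X | IsClosed ({x} : Set X)}.Finite].TFAE := by
  have hgen : closure ({genericPoint X} : Set X) = Set.univ := genericPoint_closure X
  have hηspec : ∀ y : X, genericPoint X ⤳ y := fun y =>
    specializes_iff_mem_closure.mpr (hgen ▸ Set.mem_univ y)
  have h' : closure {genericPoint X} ∩ {genericPoint X} = ({genericPoint X} : Set X) :=
    Set.inter_eq_right.mpr subset_closure
  tfae_have 1 → 2 := by
    intro h
    have := (Groth.Agent.Lib.helper13.scheme_core X (genericPoint X) {genericPoint X} h h').1
    rw [hgen] at this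
    exact Set.finite_univ_iff.mp this
  tfae_have 2 → 1 := by
    intro hfin
    have : ({genericPoint X} : Set X)ᶜ = ⋃ x ∈ ({genericPoint X} : Set X)ᶜ, closure {x} := by
      ext y
      simp only [Set.mem_compl_iff, Set.mem_singleton_iff, Set.mem_iUnion, exists_prop]
      constructor
      · intro hy
        exact ⟨y, hy, subset_closure rfl⟩
      · rintro ⟨x, hx, hyx⟩ rfl
        exact hx ((specializes_iff_mem_closure.mpr hyx).antisymm (hηspec x)).eq
    rw [← isClosed_compl_iff, this]
    exact Set.Finite.isClosed_biUnion (Set.toFinite _) (fun _ _ => isClosed_closure)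
  tfae_have 1 → 3 := by
    intro h
    have hfin : Finite X := tfae_1_to_2 h
    refine ⟨?_, Set.toFinite _⟩
    have hchain :=
      (Groth.Agent.Lib.helper13.scheme_core X (genericPoint X) {genericPoint X} h h').2
    rw [topologicalKrullDim, Order.krullDim_le_one_iff]
    intro T
    by_contra hcon
    push Not at hcon
    obtain ⟨hmin, hmax⟩ := hcon
    rw [isMin_iff_forall_not_lt] at hmin
    rw [isMax_iff_forall_not_lt] at hmax
    push Not at hmin hmax
    obtain ⟨T₀, hT₀⟩ := hmin
    obtain ⟨T₂, hT₂⟩ := hmax
    obtain ⟨x₁, hx₁⟩ := QuasiSober.sober T.isIrreducible' T.isClosed'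
    obtain ⟨x₀, hx₀⟩ := QuasiSober.sober T₀.isIrreducible' T₀.isClosed'
    have h10 : x₁ ⤳ x₀ := by
      rw [specializes_iff_mem_closure, hx₁.def]
      exact hT₀.le hx₀.mem
    have hne1 : genericPoint X ≠ x₁ := by
      intro e
      have : T.carrier = Set.univ := by
        rw [← hgen, e]; exact hx₁.def.symm
      refine hT₂.not_ge (fun z _ => ?_)
      show z ∈ T.carrier
      rw [this]
      exact Set.mem_univ z
    have hne2 : x₁ ≠ x₀ := by
      intro e
      have : T.carrier = T₀.carrier := by
        rw [← hx₁.def, e, hx₀.def]
      exact hT₀.ne (SetLike.coe_injective this.symm)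
    exact hchain x₁ x₀ (hηspec x₁) h10 hne1 hne2
  tfae_have 3 → 1 := by
    rintro ⟨hdim, hfin⟩
    rw [topologicalKrullDim, Order.krullDim_le_one_iff] at hdim
    have hclosed : ∀ x : X, x ≠ genericPoint X → IsClosed ({x} : Set X) := by
      intro x hx
      let T : TopologicalSpace.IrreducibleCloseds X :=
        ⟨closure {x}, isIrreducible_singleton.closure, isClosed_closure⟩
      rcases hdim T with hmin | hmax
      · have : closure ({x} : Set X) = {x} := by
          apply Set.Subset.antisymm _ subset_closure
          intro y hy
          let T' : TopologicalSpace.IrreducibleCloseds X :=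
            ⟨closure {y}, isIrreducible_singleton.closure, isClosed_closure⟩
          have hle : T' ≤ T := fun z hz =>
            closure_minimal (Set.singleton_subset_iff.mpr hy) isClosed_closure hz
          have hge : T ≤ T' := hmin hle
          have hxy : x ∈ closure {y} := hge (subset_closure rfl)
          exact ((specializes_iff_mem_closure.mpr hxy).antisymm
            (specializes_iff_mem_closure.mpr hy)).eq
        rw [← this]
        exact isClosed_closure
      · exfalso
        let Tt : TopologicalSpace.IrreducibleCloseds X :=
          ⟨Set.univ, IrreducibleSpace.isIrreducible_univ X, isClosed_univ⟩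
        have hle : T ≤ Tt := fun z _ => Set.mem_univ z
        have hge : Tt ≤ T := hmax hle
        have hx' : closure ({x} : Set X) = Set.univ :=
          Set.eq_univ_of_univ_subset (fun z hz => hge hz)
        exact hx (IsGenericPoint.eq (show IsGenericPoint x ⊤ from hx') (genericPoint_spec X))
    have hsub : ({genericPoint X} : Set X)ᶜ ⊆ {x | IsClosed ({x} : Set X)} :=
      fun x hx => hclosed x hx
    have hfin' := hfin.subset hsub
    rw [← isClosed_compl_iff]
    have : ({genericPoint X} : Set X)ᶜ = ⋃ x ∈ ({genericPoint X} : Set X)ᶜ, {x} := by
      rw [Set.biUnion_of_singleton]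
    rw [this]
    exact hfin'.isClosed_biUnion (fun x hx => hclosed x hx)
  tfae_finish

end Groth.Agent.S4880
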