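import Groth.Statements.S4882
import Mathlib

set_option autoImplicit false
universe u
open EGA43

namespace Groth.Agent.S4882

/-- Let X be a Jacobson space and Z a locally quasi-constructible subset of X, i.e. every point of X has
an open neighbourhood U such that U ∩ Z is a finite union of locally closed subsets of X. Then the
subspace Z is a Jacobson space, and a point of Z is closed in Z if and only if it is closed in X. -/
theorem result {X : Type u} [TopologicalSpace X] [JacobsonSpace X]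
    (Z : Set X)
    (hZ : ∀ x : X, ∃ U : Set X, IsOpen U ∧ x ∈ U ∧
      ∃ T : Set (Set X), T.Finite ∧ (∀ t ∈ T, IsLocallyClosed t) ∧ U ∩ Z = ⋃₀ T) :
    JacobsonSpace ↥Z ∧ ∀ z : ↥Z, IsClosed ({z} : Set ↥Z) ↔ IsClosed ({(z : X)} : Set X) := by
  have keyA : ∀ W : Set ↥Z, W.Nonempty → IsLocallyClosed W →
      ∃ w ∈ W, IsClosed ({(w : X)} : Set X) := by
    intro W hWne hW
    obtain ⟨L, hL, rfl⟩ := (Topology.IsInducing.subtypeVal).isLocallyClosed_iff.mp hW
    obtain ⟨w₀, hw₀⟩ := hWne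
    obtain ⟨U, hU, hxU, T, hTfin, hT, hUZ⟩ := hZ (w₀ : X)
    have hx : (w₀ : X) ∈ U ∩ Z := ⟨hxU, w₀.2⟩
    rw [hUZ] at hx
    obtain ⟨t, htT, hxt⟩ := hx
    have hne : (L ∩ t).Nonempty := ⟨(w₀ : X), hw₀, hxt⟩
    obtain ⟨y, ⟨hyL, hyt⟩, hyc⟩ := nonempty_inter_closedPoints hne (hL.inter (hT t htT))
    have hyZ : y ∈ Z := by
      have : y ∈ U ∩ Z := by rw [hUZ]; exact ⟨t, htT, hyt⟩
      exact this.2
    exact ⟨⟨y, hyZ⟩, hyL, hyc⟩
  have hclosed : ∀ z : ↥Z, IsClosed ({(z : X)} : Set X) → IsClosed ({z} : Set ↥Z) := by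
    intro z hz
    have : ({z} : Set ↥Z) = Subtype.val ⁻¹' ({(z : X)} : Set X) := by
      ext w
      simp [Subtype.ext_iff]
    rw [this]
    exact hz.preimage continuous_subtype_val
  constructor
  · rw [jacobsonSpace_iff_locallyClosed]
    intro W hWne hW
    obtain ⟨w, hwW, hwc⟩ := keyA W hWne hW
    exact ⟨w, hwW, hclosed w hwc⟩
  · intro z
    constructor
    · intro hz
      obtain ⟨w, hwW, hwc⟩ := keyA {z} (Set.singleton_nonempty z) hz.isLocallyClosed
      rw [Set.mem_singleton_iff] at hwW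
      rw [← hwW]
      exact hwc
    · exact hclosed z

end Groth.Agent.S4882
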