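import Groth.Statements.S4883
import Mathlib
import Groth.Agent.Lib.Helper13.GDomain
-- import your own Groth.Agent.* helpers here

set_option autoImplicit false
universe u
open CategoryTheory AlgebraicGeometry
open EGA43

namespace Groth.Agent.S4883

/-- Let X be a Noetherian scheme. Then the set of points x of X whose closure is finite is very dense in
X: every nonempty locally closed subset of X contains a point with finite closure. -/
theorem result (X : Scheme.{u}) [IsNoetherian X]
    (Z : Set X) (hZ : IsLocallyClosed Z) (hne : Z.Nonempty) :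
    ∃ x ∈ Z, (closure ({x} : Set X)).Finite := by
  obtain ⟨U, C, hU, hC, rfl⟩ := hZ
  have hcomp : IsCompact (U ∩ C) := TopologicalSpace.NoetherianSpace.isCompact _
  have : CompactSpace ↥(U ∩ C) := isCompact_iff_compactSpace.mp hcomp
  have : Nonempty ↥(U ∩ C) := hne.to_subtype
  obtain ⟨z, -, hz⟩ := IsClosed.exists_closed_singleton (X := ↥(U ∩ C)) isClosed_univ
    Set.univ_nonempty
  obtain ⟨t, ht, hte⟩ := Topology.IsInducing.subtypeVal.isClosed_iff.mp hz
  refine ⟨z.1, z.2, ?_⟩
  have hzt : z.1 ∈ t := by
    have : z ∈ Subtype.val ⁻¹' t := by rw [hte]; rfl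
    exact this
  have hcl : closure {z.1} ⊆ t := closure_minimal (Set.singleton_subset_iff.mpr hzt) ht
  have hclC : closure {z.1} ⊆ C := closure_minimal (Set.singleton_subset_iff.mpr z.2.2) hC
  have h : closure {z.1} ∩ U = {z.1} := by
    apply Set.Subset.antisymm
    · rintro w ⟨hw, hwU⟩
      have hwZ : w ∈ U ∩ C := ⟨hwU, hclC hw⟩
      have : (⟨w, hwZ⟩ : ↥(U ∩ C)) ∈ Subtype.val ⁻¹' t := hcl hw
      rw [hte] at this
      exact congrArg Subtype.val (Set.mem_singleton_iff.mp this)
    · rintro w rfl
      exact ⟨subset_closure rfl, z.2.1⟩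
  exact (Groth.Agent.Lib.helper13.scheme_core X z.1 U hU h).1

end Groth.Agent.S4883
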