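import Groth.Statements.S4885
import Mathlib
-- import your own Groth.Agent.* helpers here

set_option autoImplicit false
universe u
open EGA43

namespace Groth.Agent.S4885

/-- A finite, finitely presented `A`-algebra surjecting onto the finite `A`-algebra `A'`. -/
theorem exists_fp_cover (A A' : Type u) [CommRing A] [CommRing A'] [Algebra A A']
    [Module.Finite A A'] :
    ∃ (B : Type u) (_ : CommRing B) (_ : Algebra A B) (φ : B →ₐ[A] A'),
      Function.Surjective φ ∧ Module.Finite A B ∧ Algebra.FinitePresentation A B := by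
  classical
  obtain ⟨s, hs⟩ := (inferInstance : Algebra.FiniteType A A').out
  have hint : ∀ x : A', IsIntegral A x := fun x => Algebra.IsIntegral.isIntegral x
  choose p hpm hp0 using fun i : s => hint i.1
  let q : s → MvPolynomial s A := fun i => Polynomial.aeval (MvPolynomial.X i) (p i)
  let I : Ideal (MvPolynomial s A) := Ideal.span (Set.range q)
  have hIle : I ≤ RingHom.ker (MvPolynomial.aeval (fun i : s => (i : A'))).toRingHom := by
    rw [Ideal.span_le]
    rintro _ ⟨i, rfl⟩
    show MvPolynomial.aeval _ (Polynomial.aeval (MvPolynomial.X i) (p i)) = 0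
    rw [← Polynomial.aeval_algHom_apply, MvPolynomial.aeval_X]
    exact hp0 i
  have hker : ∀ a ∈ I, MvPolynomial.aeval (fun i : s => (i : A')) a = 0 := fun a ha => hIle ha
  let φ : (MvPolynomial s A ⧸ I) →ₐ[A] A' :=
    Ideal.Quotient.liftₐ I (MvPolynomial.aeval fun i : s => (i : A')) hker
  refine ⟨MvPolynomial s A ⧸ I, inferInstance, inferInstance, φ, ?_, ?_, ?_⟩
  · intro a'
    have : a' ∈ (MvPolynomial.aeval (R := A) (fun i : s => (i : A'))).range := by
      rw [← Algebra.adjoin_range_eq_range_aeval, Subtype.range_coe_subtype]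
      have : {x | x ∈ s} = (s : Set A') := rfl
      rw [this, hs]
      trivial
    obtain ⟨P, rfl⟩ := this
    exact ⟨Ideal.Quotient.mk I P, rfl⟩
  · have hadj : Algebra.adjoin A (Set.range fun i : s =>
        (Ideal.Quotient.mk I (MvPolynomial.X i) : MvPolynomial s A ⧸ I)) = ⊤ := by
      have h1 : (Set.range fun i : s =>
          (Ideal.Quotient.mk I (MvPolynomial.X i) : MvPolynomial s A ⧸ I)) =
          (Ideal.Quotient.mkₐ A I) '' (Set.range (MvPolynomial.X : s → MvPolynomial s A)) := by
        rw [← Set.range_comp]; rfl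
      rw [h1, ← AlgHom.map_adjoin, MvPolynomial.adjoin_range_X, Algebra.map_top]
      exact (AlgHom.range_eq_top _).mpr (Ideal.Quotient.mkₐ_surjective A I)
    have hfg := fg_adjoin_of_finite (R := A) (Set.finite_range fun i : s =>
        (Ideal.Quotient.mk I (MvPolynomial.X i) : MvPolynomial s A ⧸ I)) (by
      rintro _ ⟨i, rfl⟩
      refine ⟨p i, hpm i, ?_⟩
      show Polynomial.aeval (Ideal.Quotient.mkₐ A I (MvPolynomial.X i)) (p i) = 0
      rw [Polynomial.aeval_algHom_apply]
      exact Ideal.Quotient.eq_zero_iff_mem.mpr (Ideal.subset_span ⟨i, rfl⟩))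
    rw [hadj, Algebra.top_toSubmodule] at hfg
    exact ⟨hfg⟩
  · exact Algebra.FinitePresentation.quotient ⟨Finset.univ.image q, by simp [I]⟩

/-- Every finite algebra A' over a commutative ring A is a directed colimit (filtered inductive limit)
of A-algebras which are finite and of finite presentation over A. -/
theorem result (A A' : Type u) [CommRing A] [CommRing A']
    [Algebra A A'] [Module.Finite A A'] :
    ∃ (ι : Type u) (_ : Preorder ι) (G : ι → Type u) (_ : ∀ i, CommRing (G i)) (_ : ∀ i, Algebra A (G i))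
      (g : ∀ i j, i ≤ j → G i →ₐ[A] G j) (_ : ∀ i, Algebra (G i) A') (_ : ∀ i, IsScalarTower A (G i) A'),
      FlatCA.IsDirectedColimitRing G (fun i j h => (g i j h).toRingHom) A' ∧
        ∀ i, Module.Finite A (G i) ∧ Algebra.FinitePresentation A (G i) := by
  classical
  obtain ⟨B, _, _, φ, hφ, hfin, hfp⟩ := exists_fp_cover A A'
  let K : Ideal B := RingHom.ker φ.toRingHom
  let J : Finset K → Ideal B := fun s => Ideal.span ((s.image Subtype.val : Finset B) : Set B)
  have hJK : ∀ s, J s ≤ K := by
    intro s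
    rw [Ideal.span_le]
    intro b hb
    obtain ⟨k, -, rfl⟩ := Finset.mem_image.mp (Finset.mem_coe.mp hb)
    exact k.2
  have hJmono : ∀ s t : Finset K, s ≤ t → J s ≤ J t := by
    intro s t h
    apply Ideal.span_mono
    exact Finset.coe_subset.mpr (Finset.image_subset_image h)
  have hJφ : ∀ (s : Finset K) (a : B), a ∈ J s → φ a = 0 := fun s a ha => hJK s ha
  refine ⟨Finset K, inferInstance, fun s => B ⧸ J s, fun s => inferInstance,
    fun s => inferInstance, fun s t h => Ideal.Quotient.factorₐ A (hJmono s t h),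
    fun s => (Ideal.Quotient.liftₐ (J s) φ (hJφ s)).toRingHom.toAlgebra, ?_, ?_, ?_⟩
  · intro s
    let : Algebra (B ⧸ J s) A' := (Ideal.Quotient.liftₐ (J s) φ (hJφ s)).toRingHom.toAlgebra
    refine IsScalarTower.of_algebraMap_eq fun a => ?_
    exact ((Ideal.Quotient.liftₐ (J s) φ (hJφ s)).commutes a).symm
  · refine ⟨?_, ⟨∅⟩, ?_, ?_, ?_, ?_, ?_⟩
    · exact ⟨fun s t => ⟨s ∪ t, Finset.subset_union_left, Finset.subset_union_right⟩⟩
    · intro s
      apply Ideal.Quotient.ringHom_ext
      ext b
      rfl
    · intro s t r hst htr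
      apply Ideal.Quotient.ringHom_ext
      ext b
      rfl
    · intro s t h
      apply Ideal.Quotient.ringHom_ext
      ext b
      rfl
    · intro a'
      obtain ⟨b, rfl⟩ := hφ a'
      exact ⟨∅, Ideal.Quotient.mk (J ∅) b, rfl⟩
    · intro s x hx
      obtain ⟨b, rfl⟩ := Ideal.Quotient.mk_surjective x
      have hbK : b ∈ K := hx
      refine ⟨insert ⟨b, hbK⟩ s, Finset.subset_insert _ _, ?_⟩
      show Ideal.Quotient.mk (J (insert ⟨b, hbK⟩ s)) b = 0
      rw [Ideal.Quotient.eq_zero_iff_mem]
      apply Ideal.subset_span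
      rw [Finset.mem_coe, Finset.mem_image]
      exact ⟨⟨b, hbK⟩, Finset.mem_insert_self _ _, rfl⟩
  · intro s
    refine ⟨?_, ?_⟩
    · exact Module.Finite.of_surjective (Ideal.Quotient.mkₐ A (J s)).toLinearMap
        (Ideal.Quotient.mkₐ_surjective A (J s))
    · exact Algebra.FinitePresentation.quotient ⟨s.image Subtype.val, rfl⟩

end Groth.Agent.S4885
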