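import Groth.Statements.S4891
import Mathlib
import Groth.Agent.Lib.Helper8.LocalFlat

set_option autoImplicit false
universe u
open TensorProduct
open EGA43

namespace Groth.Agent.S4891

open Groth.Agent.Lib.helper8.LocalFlat


/-- Let A be a commutative ring, J a nilpotent ideal of A, B a commutative A-algebra and M a B-module.
If M is flat over A, M/JM is flat over B/JB, B/JB is flat over A/J and mM ≠ M for every maximal
ideal m of B containing JB, then B is flat over A. (Under the first two hypotheses M is also flat
over B; that implication is stated elsewhere and not repeated here.) -/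
theorem result {A B : Type u} [CommRing A] [CommRing B] [Algebra A B]
    (J : Ideal A) (hJ : IsNilpotent J) (M : Type u) [AddCommGroup M] [Module B M] [Module A M] [IsScalarTower A B M]
    (hc1 : Module.Flat A M)
    (hc2 : Module.Flat (B ⧸ J.map (algebraMap A B)) ((B ⧸ J.map (algebraMap A B)) ⊗[B] M))
    (hd1 : Module.Flat (A ⧸ J) ((A ⧸ J) ⊗[A] B))
    (hd2 : ∀ m : Ideal B, m.IsMaximal → J.map (algebraMap A B) ≤ m → (m • (⊤ : Submodule B M)) ≠ ⊤) :
    Module.Flat A B := by
  have hJB : IsNilpotent (J.map (algebraMap A B)) := by
    obtain ⟨n, hn⟩ := hJ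
    exact ⟨n, by rw [← Ideal.map_pow, hn]; exact Ideal.map_bot⟩
  have h0 : Function.Injective (J.subtype.rTensor M) :=
    Module.Flat.rTensor_preserves_injective_linearMap _ Subtype.val_injective
  have h1 : Function.Injective ((J.map (algebraMap A B)).subtype.rTensor M) :=
    map_subtype_rTensor_injective J M h0
  haveI hMB : Module.Flat B M := flat_of_isNilpotent (J.map (algebraMap A B)) M h1 hJB
  haveI : Module.FaithfullyFlat B M := by
    refine ⟨fun m hm htop => hd2 m hm ?_ htop⟩
    obtain ⟨n, hn⟩ := hJB
    have : (J.map (algebraMap A B)) ^ n ≤ m := by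
      rw [hn]; exact bot_le
    exact hm.isPrime.le_of_pow_le this
  exact flat_of_faithfullyFlat_of_flat M

end Groth.Agent.S4891
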