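import Groth.Statements.S4897
import Mathlib
import Groth.Agent.Lib.Helper17.QuasiHomeo
-- import your own Groth.Agent.* helpers here

set_option autoImplicit false
universe u
open EGA43

namespace Groth.Agent.S4897

open Groth.Agent.Lib.helper17.QH Topology

section
universe v w
variable {X : Type v} {Y : Type w} [TopologicalSpace X] [TopologicalSpace Y]

/-- Every point lies in a locally closed set contained in `Z` or in `Zᶜ`. -/
def IsLP (Z : Set Y) : Prop :=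
  ∀ y, ∃ L, IsLocallyClosed L ∧ y ∈ L ∧ (L ⊆ Z ∨ L ⊆ Zᶜ)

theorem IsLP.of_isOpen {U : Set Y} (hU : IsOpen U) : IsLP U := by
  intro y
  by_cases hy : y ∈ U
  · exact ⟨U, hU.isLocallyClosed, hy, Or.inl subset_rfl⟩
  · exact ⟨Uᶜ, hU.isClosed_compl.isLocallyClosed, hy, Or.inr subset_rfl⟩

theorem IsLP.compl {Z : Set Y} (h : IsLP Z) : IsLP Zᶜ := by
  intro y
  obtain ⟨L, hL, hy, h1⟩ := h y
  exact ⟨L, hL, hy, by rw [compl_compl]; exact h1.symm⟩

theorem IsLP.union {Z₁ Z₂ : Set Y} (h₁ : IsLP Z₁) (h₂ : IsLP Z₂) : IsLP (Z₁ ∪ Z₂) := by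
  intro y
  obtain ⟨L₁, hL₁, hy₁, h1⟩ := h₁ y
  obtain ⟨L₂, hL₂, hy₂, h2⟩ := h₂ y
  rcases h1 with h1 | h1
  · exact ⟨L₁, hL₁, hy₁, Or.inl (h1.trans Set.subset_union_left)⟩
  rcases h2 with h2 | h2
  · exact ⟨L₂, hL₂, hy₂, Or.inl (h2.trans Set.subset_union_right)⟩
  refine ⟨L₁ ∩ L₂, hL₁.inter hL₂, ⟨hy₁, hy₂⟩, Or.inr ?_⟩
  rw [Set.compl_union]
  exact fun z hz => ⟨h1 hz.1, h2 hz.2⟩

theorem IsLP.inter {Z₁ Z₂ : Set Y} (h₁ : IsLP Z₁) (h₂ : IsLP Z₂) : IsLP (Z₁ ∩ Z₂) := by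
  have := (h₁.compl.union h₂.compl).compl
  rwa [Set.compl_union, compl_compl, compl_compl] at this

theorem IsLP.of_mem_closure {Z : Set Y}
    (h : Z ∈ BooleanSubalgebra.closure {U : Set Y | IsOpen U}) : IsLP Z := by
  induction h using BooleanSubalgebra.closure_bot_sup_induction with
  | mem U hU => exact IsLP.of_isOpen hU
  | bot => exact IsLP.of_isOpen isOpen_empty
  | sup s hs t ht hs' ht' => exact hs'.union ht'
  | compl s hs hs' => exact hs'.compl

theorem IsLP.of_isConstructible {Z : Set Y} (h : IsConstructible Z) : IsLP Z :=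
  IsLP.of_mem_closure (BooleanSubalgebra.closure_mono (fun U hU => hU.1) h)

theorem IsLP.of_isLocallyClosed {Z : Set Y} (h : IsLocallyClosed Z) : IsLP Z := by
  obtain ⟨U, C, hU, hC, rfl⟩ := h
  have := (IsLP.of_isOpen hC.isOpen_compl).compl
  rw [compl_compl] at this
  exact (IsLP.of_isOpen hU).inter this

theorem IsLP.image_val {U : Set Y} (hU : IsOpen U) {S : Set ↥U} (h : IsLP S) :
    IsLP (Subtype.val '' S) := by
  intro y
  by_cases hy : y ∈ U
  · obtain ⟨L', hL', hy', h1⟩ := h ⟨y, hy⟩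
    refine ⟨Subtype.val '' L', hL'.image IsInducing.subtypeVal
      (by rw [Subtype.range_val]; exact hU.isLocallyClosed), ⟨_, hy', rfl⟩, ?_⟩
    rcases h1 with h1 | h1
    · left
      rintro _ ⟨z, hz, rfl⟩
      exact ⟨z, h1 hz, rfl⟩
    · right
      rintro _ ⟨z, hz, rfl⟩ ⟨w, hw, hwz⟩
      rw [Subtype.val_injective hwz] at hw
      exact h1 hz hw
  · refine ⟨Uᶜ, hU.isClosed_compl.isLocallyClosed, hy, Or.inr ?_⟩
    rintro z hz ⟨w, _, rfl⟩
    exact hz w.2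

theorem IsLP.of_isLocallyConstructible {Z : Set Y} (h : IsLocallyConstructible Z) : IsLP Z := by
  intro y
  obtain ⟨U, hyU, hU, hc⟩ := h y
  obtain ⟨L', hL', hy', h1⟩ := (IsLP.of_isConstructible hc) ⟨y, mem_of_mem_nhds hyU⟩
  refine ⟨Subtype.val '' L', hL'.image IsInducing.subtypeVal
    (by rw [Subtype.range_val]; exact hU.isLocallyClosed), ⟨_, hy', rfl⟩, ?_⟩
  rcases h1 with h1 | h1
  · left
    rintro _ ⟨z, hz, rfl⟩
    exact h1 hz
  · right
    rintro _ ⟨z, hz, rfl⟩ hzZ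
    exact h1 hz hzZ

theorem eq_of_preimage_eq {f : X → Y} (hq : IsQH f) {Z₁ Z₂ : Set Y} (h₁ : IsLP Z₁)
    (h₂ : IsLP Z₂) (e : f ⁻¹' Z₁ = f ⁻¹' Z₂) : Z₁ = Z₂ := by
  have key : ∀ Z₁ Z₂ : Set Y, IsLP Z₁ → IsLP Z₂ → f ⁻¹' Z₁ = f ⁻¹' Z₂ → Z₁ ⊆ Z₂ := by
    intro Z₁ Z₂ h₁ h₂ e y hy
    by_contra hy2
    obtain ⟨L₁, hL₁, hy₁, h1⟩ := h₁ y
    obtain ⟨L₂, hL₂, hy₂, h2⟩ := h₂ y
    have h1' : L₁ ⊆ Z₁ := h1.resolve_right (fun h => h hy₁ hy)
    have h2' : L₂ ⊆ Z₂ᶜ := h2.resolve_left (fun h => hy2 (h hy₂))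
    obtain ⟨x, hx1, hx2⟩ := nonempty_inter_range hq _ (hL₁.inter hL₂) ⟨y, hy₁, hy₂⟩
    have : x ∈ f ⁻¹' Z₁ := h1' hx1
    rw [e] at this
    exact h2' hx2 this
  exact subset_antisymm (key _ _ h₁ h₂ e) (key _ _ h₂ h₁ e.symm)

theorem retro_preimage {f : X → Y} (hf : Continuous f) (hq : IsQH f) {s : Set Y}
    (hs : IsOpen s) (hr : IsRetrocompact s) : IsRetrocompact (f ⁻¹' s) := by
  intro V hVc hVo
  obtain ⟨W, hW, rfl⟩ := hq.2 V hVo
  have hWc : IsCompact W := (isCompact_preimage_iff hf hq hW).mp hVc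
  rw [← Set.preimage_inter]
  exact (isCompact_preimage_iff hf hq (hs.inter hW)).mpr (hr hWc hW)

theorem retro_of_preimage {f : X → Y} (hf : Continuous f) (hq : IsQH f) {s : Set Y}
    (hs : IsOpen s) (hr : IsRetrocompact (f ⁻¹' s)) : IsRetrocompact s := by
  intro W hWc hWo
  have : IsCompact (f ⁻¹' s ∩ f ⁻¹' W) :=
    hr ((isCompact_preimage_iff hf hq hWo).mpr hWc) (hWo.preimage hf)
  rw [← Set.preimage_inter] at this
  exact (isCompact_preimage_iff hf hq (hs.inter hWo)).mp this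

theorem constructible_preimage {f : X → Y} (hf : Continuous f) (hq : IsQH f) {Z : Set Y}
    (hZ : IsConstructible Z) : IsConstructible (f ⁻¹' Z) :=
  hZ.preimage hf (fun _ hs hr => retro_preimage hf hq hs hr)

theorem constructible_surj {f : X → Y} (hf : Continuous f) (hq : IsQH f) {W : Set X}
    (hW : IsConstructible W) : ∃ Z, IsConstructible Z ∧ f ⁻¹' Z = W := by
  induction hW using IsConstructible.empty_union_induction with
  | open_retrocompact U hUo hUr =>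
    obtain ⟨V, hV, rfl⟩ := hq.2 U hUo
    exact ⟨V, (retro_of_preimage hf hq hV hUr).isConstructible hV, rfl⟩
  | union s hs t ht hs' ht' =>
    obtain ⟨Zs, hZs, rfl⟩ := hs'
    obtain ⟨Zt, hZt, rfl⟩ := ht'
    exact ⟨Zs ∪ Zt, hZs.union hZt, Set.preimage_union⟩
  | compl s hs hs' =>
    obtain ⟨Zs, hZs, rfl⟩ := hs'
    exact ⟨Zsᶜ, hZs.compl, Set.preimage_compl⟩

theorem locConstr_preimage {f : X → Y} (hf : Continuous f) (hq : IsQH f) {Z : Set Y}
    (hZ : IsLocallyConstructible Z) : IsLocallyConstructible (f ⁻¹' Z) := by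
  intro x
  obtain ⟨U, hU, hUo, hc⟩ := hZ (f x)
  refine ⟨f ⁻¹' U, hf.continuousAt.preimage_mem_nhds hU, hUo.preimage hf, ?_⟩
  have hq' : IsQH (U.restrictPreimage f) := isQH_restrictPreimage hq U (IsLQC.of_isOpen hUo)
  exact constructible_preimage (hf.restrictPreimage) hq' hc

theorem locConstr_surj {f : X → Y} (hf : Continuous f) (hq : IsQH f) {W : Set X}
    (hW : IsLocallyConstructible W) : ∃ Z, IsLocallyConstructible Z ∧ f ⁻¹' Z = W := by
  have hex : ∀ x : X, ∃ U : Set Y, IsOpen U ∧ x ∈ f ⁻¹' U ∧ ∃ S : Set ↥U,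
      IsConstructible S ∧ (U.restrictPreimage f) ⁻¹' S = (Subtype.val ⁻¹' W : Set ↥(f ⁻¹' U)) := by
    intro x
    obtain ⟨U', hU', hU'o, hc⟩ := hW x
    obtain ⟨U, hU, rfl⟩ := hq.2 U' hU'o
    have hq' : IsQH (U.restrictPreimage f) := isQH_restrictPreimage hq U (IsLQC.of_isOpen hU)
    obtain ⟨S, hS, hSe⟩ := constructible_surj hf.restrictPreimage hq' hc
    exact ⟨U, hU, mem_of_mem_nhds hU', S, hS, hSe⟩
  choose U hU hxU S hS hSe using hex
  have hpre : ∀ x, f ⁻¹' (Subtype.val '' S x) = f ⁻¹' (U x) ∩ W := by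
    intro x
    ext x'
    constructor
    · rintro ⟨⟨y, hy⟩, hyS, hyx⟩
      have hyx' : y = f x' := hyx
      subst hyx'
      have : (⟨x', hy⟩ : ↥(f ⁻¹' U x)) ∈ (U x).restrictPreimage f ⁻¹' S x := hyS
      rw [hSe x] at this
      exact ⟨hy, this⟩
    · rintro ⟨hx'U, hx'W⟩
      have : (⟨x', hx'U⟩ : ↥(f ⁻¹' U x)) ∈ (Subtype.val ⁻¹' W : Set ↥(f ⁻¹' U x)) := hx'W
      rw [← hSe x] at this
      exact ⟨⟨f x', hx'U⟩, this, rfl⟩
  have hcover : ⋃ x, U x = Set.univ := by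
    apply hq.1 _ _ (isOpen_iUnion hU) isOpen_univ
    rw [Set.preimage_iUnion, Set.preimage_univ]
    exact Set.eq_univ_of_forall fun x => Set.mem_iUnion.mpr ⟨x, hxU x⟩
  have hLP : ∀ x, IsLP (Subtype.val '' S x) := fun x =>
    (IsLP.of_isConstructible (hS x)).image_val (hU x)
  have hcompat : ∀ x x', Subtype.val '' S x' ∩ U x = Subtype.val '' S x ∩ U x' := by
    intro x x'
    apply eq_of_preimage_eq hq ((hLP x').inter (IsLP.of_isOpen (hU x)))
      ((hLP x).inter (IsLP.of_isOpen (hU x')))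
    rw [Set.preimage_inter, Set.preimage_inter, hpre, hpre]
    ext z
    simp only [Set.mem_inter_iff]
    tauto
  refine ⟨⋃ x, Subtype.val '' S x, ?_, ?_⟩
  · intro y
    obtain ⟨x, hyx⟩ : ∃ x, y ∈ U x := by
      have : y ∈ ⋃ x, U x := hcover ▸ trivial
      exact Set.mem_iUnion.mp this
    refine ⟨U x, (hU x).mem_nhds hyx, hU x, ?_⟩
    have : (Subtype.val ⁻¹' (⋃ x, Subtype.val '' S x) : Set ↥(U x)) = S x := by
      ext z
      simp only [Set.mem_preimage, Set.mem_iUnion]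
      constructor
      · rintro ⟨x', hz⟩
        have h1 : z.1 ∈ Subtype.val '' S x' ∩ U x := ⟨hz, z.2⟩
        rw [hcompat] at h1
        obtain ⟨⟨w, hw, hwz⟩, _⟩ := h1
        rwa [Subtype.val_injective hwz] at hw
      · intro hz
        exact ⟨x, z, hz, rfl⟩
    rw [this]
    exact hS x
  · rw [Set.preimage_iUnion]
    simp_rw [hpre]
    ext x'
    simp only [Set.mem_iUnion, Set.mem_inter_iff]
    constructor
    · rintro ⟨x, _, h⟩
      exact h
    · intro h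
      exact ⟨x', hxU x', h⟩

end

/-- Let f : X → Y be a quasi-homeomorphism, i.e. a continuous map such that U ↦ f⁻¹(U) is a bijection
from the open subsets of Y onto the open subsets of X. Then Z ↦ f⁻¹(Z) induces bijections from the
locally closed (resp. constructible, resp. locally constructible) subsets of Y onto those of X. -/
theorem result {X Y : Type u}
    [TopologicalSpace X] [TopologicalSpace Y] (f : X → Y) (hf : Continuous f)
    (hq : Function.Bijective (fun U : TopologicalSpace.Opens Y =>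
      (⟨f ⁻¹' (U : Set Y), U.isOpen.preimage hf⟩ : TopologicalSpace.Opens X))) :
    Function.Bijective (fun Z : {Z : Set Y // IsLocallyClosed Z} =>
        (⟨f ⁻¹' Z.1, Z.2.preimage hf⟩ : {Z : Set X // IsLocallyClosed Z})) ∧
      Set.BijOn (fun Z : Set Y => f ⁻¹' Z) {Z | Topology.IsConstructible Z} {Z | Topology.IsConstructible Z} ∧
      Set.BijOn (fun Z : Set Y => f ⁻¹' Z) {Z | Topology.IsLocallyConstructible Z}
        {Z | Topology.IsLocallyConstructible Z} := by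
  have hq' : IsQH f := (bijective_opens_iff f hf).mp hq
  refine ⟨⟨?_, ?_⟩, ⟨?_, ?_, ?_⟩, ⟨?_, ?_, ?_⟩⟩
  · intro Z₁ Z₂ e
    apply Subtype.ext
    exact eq_of_preimage_eq hq' (IsLP.of_isLocallyClosed Z₁.2) (IsLP.of_isLocallyClosed Z₂.2)
      (congrArg Subtype.val e)
  · rintro ⟨W, U', C', hU', hC', rfl⟩
    obtain ⟨U, hU, rfl⟩ := hq'.2 U' hU'
    obtain ⟨C, hC, rfl⟩ := ((isQH_iff_closed f).mp hq').2 C' hC'
    exact ⟨⟨U ∩ C, U, C, hU, hC, rfl⟩, Subtype.ext Set.preimage_inter⟩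
  · intro Z hZ
    exact constructible_preimage hf hq' hZ
  · intro Z₁ h₁ Z₂ h₂ e
    exact eq_of_preimage_eq hq' (IsLP.of_isConstructible h₁) (IsLP.of_isConstructible h₂) e
  · intro W hW
    obtain ⟨Z, hZ, e⟩ := constructible_surj hf hq' hW
    exact ⟨Z, hZ, e⟩
  · intro Z hZ
    exact locConstr_preimage hf hq' hZ
  · intro Z₁ h₁ Z₂ h₂ e
    exact eq_of_preimage_eq hq' (IsLP.of_isLocallyConstructible h₁)
      (IsLP.of_isLocallyConstructible h₂) e
  · intro W hW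
    obtain ⟨Z, hZ, e⟩ := locConstr_surj hf hq' hW
    exact ⟨Z, hZ, e⟩

end Groth.Agent.S4897
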