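import Groth.Statements.S4903
import Mathlib


set_option autoImplicit false
universe u
open EGA43

namespace Groth.Agent.S4903

set_option linter.style.haveILetI false

variable {X : Type u} [TopologicalSpace X]

/-- quasi-constructible -/
abbrev QC (Z : Set X) : Prop :=
  ∃ T : Set (Set X), T.Finite ∧ (∀ t ∈ T, IsLocallyClosed t) ∧ Z = ⋃₀ T

/-- locally quasi-constructible -/
abbrev LQC (Z : Set X) : Prop :=
  ∀ x : X, ∃ U : Set X, IsOpen U ∧ x ∈ U ∧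
    ∃ T : Set (Set X), T.Finite ∧ (∀ t ∈ T, IsLocallyClosed t) ∧ U ∩ Z = ⋃₀ T

/-- the very-dense condition -/
abbrev VD (X₀ : Set X) : Prop :=
  ∀ Z : Set X, IsLocallyClosed Z → Z.Nonempty → (Z ∩ X₀).Nonempty

theorem QC.lqc {Z : Set X} (h : QC Z) : LQC Z := by
  intro x
  obtain ⟨T, hT, hlc, rfl⟩ := h
  exact ⟨Set.univ, isOpen_univ, trivial, T, hT, hlc, Set.univ_inter _⟩

theorem QC.inter_open {Z U : Set X} (h : QC Z) (hU : IsOpen U) : QC (U ∩ Z) := by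
  obtain ⟨T, hT, hlc, rfl⟩ := h
  refine ⟨(fun t => U ∩ t) '' T, hT.image _, ?_, ?_⟩
  · rintro _ ⟨t, ht, rfl⟩
    exact hU.isLocallyClosed.inter (hlc t ht)
  · ext y
    simp only [Set.mem_inter_iff, Set.mem_sUnion, Set.mem_image, exists_exists_and_eq_and]
    constructor
    · rintro ⟨hy, t, ht, hyt⟩
      exact ⟨t, ht, hy, hyt⟩
    · rintro ⟨t, ht, hy, hyt⟩
      exact ⟨hy, t, ht, hyt⟩

theorem LQC.inter_open {Z V : Set X} (h : LQC Z) (hV : IsOpen V) : LQC (V ∩ Z) := by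
  intro x
  obtain ⟨U, hU, hxU, T, hT, hlc, hUT⟩ := h x
  have hq : QC (U ∩ Z) := ⟨T, hT, hlc, hUT⟩
  obtain ⟨T', hT', hlc', h'⟩ := hq.inter_open hV
  refine ⟨U, hU, hxU, T', hT', hlc', ?_⟩
  rw [← h']
  ext y
  simp only [Set.mem_inter_iff]
  tauto

/-- shrinking a locally closed set away from finitely many locally closed sets -/
theorem exists_lc_disjoint {T' : Set (Set X)} (hT' : T'.Finite) (hlc : ∀ s ∈ T', IsLocallyClosed s)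
    (t : Set X) (ht : IsLocallyClosed t) (x : X) (hxt : x ∈ t) (hx : x ∉ ⋃₀ T') :
    ∃ t' : Set X, IsLocallyClosed t' ∧ x ∈ t' ∧ t' ⊆ t ∧ ∀ p ∈ t', p ∉ ⋃₀ T' := by
  induction T', hT' using Set.Finite.induction_on with
  | empty => exact ⟨t, ht, hxt, subset_rfl, fun p _ => by simp⟩
  | @insert s T'' hs hfin ih =>
    have hx'' : x ∉ ⋃₀ T'' := by
      intro h
      apply hx
      rw [Set.sUnion_insert]
      exact Or.inr h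
    obtain ⟨t'', hlc'', hxt'', hsub'', hdis''⟩ :=
      ih (fun s' hs' => hlc s' (Set.mem_insert_of_mem _ hs')) hx''
    have hxs : x ∉ s := by
      intro h
      apply hx
      rw [Set.sUnion_insert]
      exact Or.inl h
    obtain ⟨O, C, hO, hC, rfl⟩ := hlc s (Set.mem_insert _ _)
    by_cases hxO : x ∈ O
    · have hxC : x ∉ C := fun h => hxs ⟨hxO, h⟩
      refine ⟨t'' ∩ Cᶜ, hlc''.inter hC.isOpen_compl.isLocallyClosed, ⟨hxt'', hxC⟩,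
        Set.inter_subset_left.trans hsub'', ?_⟩
      rintro p ⟨hp, hpC⟩ hmem
      rw [Set.sUnion_insert] at hmem
      rcases hmem with h | h
      · exact hpC h.2
      · exact hdis'' p hp h
    · refine ⟨t'' ∩ Oᶜ, hlc''.inter hO.isClosed_compl.isLocallyClosed, ⟨hxt'', hxO⟩,
        Set.inter_subset_left.trans hsub'', ?_⟩
      rintro p ⟨hp, hpO⟩ hmem
      rw [Set.sUnion_insert] at hmem
      rcases hmem with h | h
      · exact hpO h.1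
      · exact hdis'' p hp h

theorem sub_of_trace {X₀ : Set X} (ha : VD X₀) {Z Z' : Set X} (hZ : LQC Z) (hZ' : LQC Z')
    (htr : Z ∩ X₀ ⊆ Z' ∩ X₀) : Z ⊆ Z' := by
  intro x hxZ
  by_contra hxZ'
  obtain ⟨U, hU, hxU, T, hT, hlc, hUT⟩ := hZ x
  obtain ⟨U', hU', hxU', T', hT', hlc', hUT'⟩ := hZ' x
  have hxT : x ∈ ⋃₀ T := hUT ▸ ⟨hxU, hxZ⟩
  obtain ⟨t, htT, hxt⟩ := hxT
  have htZ : t ⊆ Z := fun p hp => (hUT ▸ (⟨t, htT, hp⟩ : p ∈ ⋃₀ T) : p ∈ U ∩ Z).2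
  have hxT' : x ∉ ⋃₀ T' := by
    intro h
    exact hxZ' ((hUT' ▸ h : x ∈ U' ∩ Z').2)
  obtain ⟨t', hlct', hxt', hsub', hdis'⟩ := exists_lc_disjoint hT' hlc' (t ∩ U')
    ((hlc t htT).inter hU'.isLocallyClosed) x ⟨hxt, hxU'⟩ hxT'
  obtain ⟨p, hpt', hpX₀⟩ := ha t' hlct' ⟨x, hxt'⟩
  have hpZ : p ∈ Z := htZ (hsub' hpt').1
  have hpZ' : p ∈ Z' := (htr ⟨hpZ, hpX₀⟩).1
  have hpU' : p ∈ U' := (hsub' hpt').2
  have : p ∈ ⋃₀ T' := hUT' ▸ (⟨hpU', hpZ'⟩ : p ∈ U' ∩ Z')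
  exact hdis' p hpt' this

theorem tfae_part (X₀ : Set X) :
    [VD X₀,
      ∀ Z : Set X, LQC Z → Z.Nonempty → (Z ∩ X₀).Nonempty,
      ∀ Z : Set X, LQC Z → Z ⊆ closure (Z ∩ X₀),
      ∀ Z Z' : Set X, QC Z → QC Z' → Z ∩ X₀ = Z' ∩ X₀ → Z = Z',
      ∀ Z Z' : Set X, LQC Z → LQC Z' → Z ∩ X₀ = Z' ∩ X₀ → Z = Z'].TFAE := by
  tfae_have 1 → 2 := by
    intro ha Z hZ ⟨x, hx⟩
    obtain ⟨U, hU, hxU, T, hT, hlc, hUT⟩ := hZ x
    have hxT : x ∈ ⋃₀ T := hUT ▸ ⟨hxU, hx⟩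
    obtain ⟨t, htT, hxt⟩ := hxT
    obtain ⟨p, hpt, hpX₀⟩ := ha t (hlc t htT) ⟨x, hxt⟩
    have : p ∈ U ∩ Z := hUT ▸ (⟨t, htT, hpt⟩ : p ∈ ⋃₀ T)
    exact ⟨p, this.2, hpX₀⟩
  tfae_have 2 → 3 := by
    intro hb Z hZ x hx
    rw [mem_closure_iff]
    intro V hV hxV
    obtain ⟨p, ⟨hpV, hpZ⟩, hpX₀⟩ := hb (V ∩ Z) (hZ.inter_open hV) ⟨x, hxV, hx⟩
    exact ⟨p, hpV, hpZ, hpX₀⟩
  tfae_have 3 → 1 := by
    intro hb' Z hZ ⟨x, hx⟩
    have hl : LQC Z := QC.lqc ⟨{Z}, Set.finite_singleton _, by simpa using hZ, by simp⟩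
    have := hb' Z hl hx
    by_contra hne
    rw [Set.not_nonempty_iff_eq_empty] at hne
    rw [hne, closure_empty] at this
    exact this
  tfae_have 1 → 5 := by
    intro ha Z Z' hZ hZ' htr
    exact Set.Subset.antisymm (sub_of_trace ha hZ hZ' htr.subset) (sub_of_trace ha hZ' hZ htr.symm.subset)
  tfae_have 5 → 4 := by
    intro h Z Z' hZ hZ' htr
    exact h Z Z' hZ.lqc hZ'.lqc htr
  tfae_have 4 → 1 := by
    intro h Z hZ hne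
    by_contra hemp
    rw [Set.not_nonempty_iff_eq_empty] at hemp
    have h1 : QC Z := ⟨{Z}, Set.finite_singleton _, by simpa using hZ, by simp⟩
    have h2 : QC (∅ : Set X) := ⟨∅, Set.finite_empty, by simp, by simp⟩
    have := h Z ∅ h1 h2 (by rw [hemp, Set.empty_inter])
    rw [this] at hne
    exact Set.not_nonempty_empty hne
  tfae_finish

theorem lift_lqc (X₀ : Set X) (ha : VD X₀) (Z₀ : Set ↥X₀) (hZ₀ : LQC Z₀) :
    ∃ Z : Set X, LQC Z ∧ Subtype.val ⁻¹' Z = Z₀ := by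
  classical
  -- local data on X₀
  choose U₀ hU₀ hxU₀ T₀ hT₀ hlc₀ hUT₀ using hZ₀
  -- lift opens
  have hopen : ∀ x₀ : ↥X₀, ∃ U : Set X, IsOpen U ∧ Subtype.val ⁻¹' U = U₀ x₀ :=
    fun x₀ => isOpen_induced_iff.mp (hU₀ x₀)
  choose U hU hUU₀ using hopen
  -- lift locally closed sets
  have hlift : ∀ t₀ : Set ↥X₀, ∃ t : Set X, IsLocallyClosed t₀ →
      (IsLocallyClosed t ∧ Subtype.val ⁻¹' t = t₀) := by
    intro t₀
    by_cases h : IsLocallyClosed t₀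
    · obtain ⟨t, ht, hpre⟩ := (Topology.IsInducing.subtypeVal.isLocallyClosed_iff).mp h
      exact ⟨t, fun _ => ⟨ht, hpre⟩⟩
    · exact ⟨∅, fun h' => (h h').elim⟩
  choose L hL using hlift
  let T : ↥X₀ → Set (Set X) := fun x₀ => L '' (T₀ x₀)
  have hTfin : ∀ x₀, (T x₀).Finite := fun x₀ => (hT₀ x₀).image _
  have hTlc : ∀ x₀, ∀ t ∈ T x₀, IsLocallyClosed t := by
    rintro x₀ _ ⟨t₀, ht₀, rfl⟩
    exact (hL t₀ (hlc₀ x₀ t₀ ht₀)).1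
  have hTpre : ∀ x₀, Subtype.val ⁻¹' (⋃₀ T x₀) = ⋃₀ T₀ x₀ := by
    intro x₀
    ext p
    simp only [Set.mem_preimage, Set.mem_sUnion, T, Set.mem_image, exists_exists_and_eq_and]
    constructor
    · rintro ⟨t₀, ht₀, hp⟩
      refine ⟨t₀, ht₀, ?_⟩
      have := (hL t₀ (hlc₀ x₀ t₀ ht₀)).2
      rw [← this]
      exact hp
    · rintro ⟨t₀, ht₀, hp⟩
      refine ⟨t₀, ht₀, ?_⟩
      have := (hL t₀ (hlc₀ x₀ t₀ ht₀)).2
      rw [← this] at hp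
      exact hp
  let ZU : ↥X₀ → Set X := fun x₀ => U x₀ ∩ ⋃₀ T x₀
  have hZUqc : ∀ x₀, QC (ZU x₀) := fun x₀ =>
    QC.inter_open ⟨T x₀, hTfin x₀, hTlc x₀, rfl⟩ (hU x₀)
  have hZUpre : ∀ x₀, Subtype.val ⁻¹' (ZU x₀) = U₀ x₀ ∩ Z₀ := by
    intro x₀
    rw [Set.preimage_inter, hUU₀, hTpre, ← hUT₀]
    ext p
    simp only [Set.mem_inter_iff]
    tauto
  let Z : Set X := ⋃ x₀, ZU x₀
  refine ⟨Z, ?_, ?_⟩
  · -- LQC
    have hcover : ∀ x : X, ∃ x₀ : ↥X₀, x ∈ U x₀ := by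
      intro x
      by_contra hno
      rw [not_exists] at hno
      have hcl : IsClosed (⋃ x₀, U x₀)ᶜ := (isOpen_iUnion hU).isClosed_compl
      have hx : x ∈ (⋃ x₀, U x₀)ᶜ := by
        simp only [Set.mem_compl_iff, Set.mem_iUnion, not_exists]
        exact hno
      obtain ⟨p, hp, hpX₀⟩ := ha _ hcl.isLocallyClosed ⟨x, hx⟩
      apply hp
      refine Set.mem_iUnion.mpr ⟨⟨p, hpX₀⟩, ?_⟩
      have : (⟨p, hpX₀⟩ : ↥X₀) ∈ Subtype.val ⁻¹' U ⟨p, hpX₀⟩ := by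
        rw [hUU₀]; exact hxU₀ _
      exact this
    intro x
    obtain ⟨x₀, hx₀⟩ := hcover x
    have hkey : U x₀ ∩ Z = ZU x₀ := by
      apply Set.Subset.antisymm
      · rintro y ⟨hyU, hyZ⟩
        obtain ⟨x₁, hy₁⟩ := Set.mem_iUnion.mp hyZ
        have hA : LQC (U x₀ ∩ ZU x₁) := ((hZUqc x₁).inter_open (hU x₀)).lqc
        have hB : LQC (ZU x₀) := (hZUqc x₀).lqc
        have hsub : (U x₀ ∩ ZU x₁) ∩ X₀ ⊆ ZU x₀ ∩ X₀ := by
          rintro p ⟨⟨hpU, hpZ₁⟩, hpX₀⟩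
          refine ⟨?_, hpX₀⟩
          have h1 : (⟨p, hpX₀⟩ : ↥X₀) ∈ Subtype.val ⁻¹' (ZU x₁) := hpZ₁
          rw [hZUpre] at h1
          have h2 : (⟨p, hpX₀⟩ : ↥X₀) ∈ U₀ x₀ := by
            rw [← hUU₀]; exact hpU
          have h3 : (⟨p, hpX₀⟩ : ↥X₀) ∈ Subtype.val ⁻¹' (ZU x₀) := by
            rw [hZUpre]; exact ⟨h2, h1.2⟩
          exact h3
        exact sub_of_trace ha hA hB hsub ⟨hyU, hy₁⟩
      · intro y hy
        exact ⟨hy.1, Set.mem_iUnion.mpr ⟨x₀, hy⟩⟩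
    obtain ⟨T', hT', hlc', hT'eq⟩ := hZUqc x₀
    exact ⟨U x₀, hU x₀, hx₀, T', hT', hlc', hkey.trans hT'eq⟩
  · -- trace
    ext p
    simp only [Z, Set.preimage_iUnion, Set.mem_iUnion]
    constructor
    · rintro ⟨x₀, hp⟩
      have : p ∈ Subtype.val ⁻¹' (ZU x₀) := hp
      rw [hZUpre] at this
      exact this.2
    · intro hp
      refine ⟨p, ?_⟩
      have : p ∈ Subtype.val ⁻¹' (ZU p) := by
        rw [hZUpre]; exact ⟨hxU₀ p, hp⟩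
      exact this

theorem main {X : Type u} [TopologicalSpace X] (X₀ : Set X) :
    [∀ Z : Set X, IsLocallyClosed Z → Z.Nonempty → (Z ∩ X₀).Nonempty,
      ∀ Z : Set X, (∀ x : X, ∃ U : Set X, IsOpen U ∧ x ∈ U ∧ ∃ T : Set (Set X), T.Finite ∧ (∀ t ∈ T, IsLocallyClosed t) ∧ U ∩ Z = ⋃₀ T) → Z.Nonempty → (Z ∩ X₀).Nonempty,
      ∀ Z : Set X, (∀ x : X, ∃ U : Set X, IsOpen U ∧ x ∈ U ∧ ∃ T : Set (Set X), T.Finite ∧ (∀ t ∈ T, IsLocallyClosed t) ∧ U ∩ Z = ⋃₀ T) → Z ⊆ closure (Z ∩ X₀),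
      ∀ Z Z' : Set X, (∃ T : Set (Set X), T.Finite ∧ (∀ t ∈ T, IsLocallyClosed t) ∧ Z = ⋃₀ T) → (∃ T : Set (Set X), T.Finite ∧ (∀ t ∈ T, IsLocallyClosed t) ∧ Z' = ⋃₀ T) → Z ∩ X₀ = Z' ∩ X₀ → Z = Z',
      ∀ Z Z' : Set X, (∀ x : X, ∃ U : Set X, IsOpen U ∧ x ∈ U ∧ ∃ T : Set (Set X), T.Finite ∧ (∀ t ∈ T, IsLocallyClosed t) ∧ U ∩ Z = ⋃₀ T) → (∀ x : X, ∃ U : Set X, IsOpen U ∧ x ∈ U ∧ ∃ T : Set (Set X), T.Finite ∧ (∀ t ∈ T, IsLocallyClosed t) ∧ U ∩ Z' = ⋃₀ T) → Z ∩ X₀ = Z' ∩ X₀ → Z = Z'].TFAE ∧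
    ((∀ Z : Set X, IsLocallyClosed Z → Z.Nonempty → (Z ∩ X₀).Nonempty) →
      ∀ Z₀ : Set ↥X₀, (∀ x : ↥X₀, ∃ U : Set ↥X₀, IsOpen U ∧ x ∈ U ∧ ∃ T : Set (Set ↥X₀), T.Finite ∧ (∀ t ∈ T, IsLocallyClosed t) ∧ U ∩ Z₀ = ⋃₀ T) →
        ∃ Z : Set X, (∀ x : X, ∃ U : Set X, IsOpen U ∧ x ∈ U ∧ ∃ T : Set (Set X), T.Finite ∧ (∀ t ∈ T, IsLocallyClosed t) ∧ U ∩ Z = ⋃₀ T) ∧ Subtype.val ⁻¹' Z = Z₀) :=
  ⟨tfae_part X₀, fun ha Z₀ hZ₀ => lift_lqc X₀ ha Z₀ hZ₀⟩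



/-- Conditions a), b), b′), c″), c‴) and its last assertion: given a topological space X and a subset X₀
⊆ X, the statements below are equivalent. Every locally closed subset of X that is nonempty
intersects X₀. Every nonempty locally quasi-constructible subset of X intersects X₀; here a subset
is locally quasi-constructible when each point of X has an open neighbourhood on which the subset's
trace can be written as a union of finitely many locally closed sets. Each locally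
quasi-constructible Z ⊆ X is contained in the closure of Z ∩ X₀. Any two quasi-constructible subsets
of X (unions of finitely many locally closed sets) having equal traces on X₀ coincide. Any two
locally quasi-constructible subsets of X having equal traces on X₀ coincide. Assuming these
conditions, each locally quasi-constructible subset of the subspace X₀ arises as the trace on X₀ of
some locally quasi-constructible subset of X. -/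
theorem result {X : Type u} [TopologicalSpace X] (X₀ : Set X) :
    [∀ Z : Set X, IsLocallyClosed Z → Z.Nonempty → (Z ∩ X₀).Nonempty,
      ∀ Z : Set X, (∀ x : X, ∃ U : Set X, IsOpen U ∧ x ∈ U ∧ ∃ T : Set (Set X), T.Finite ∧ (∀ t ∈ T, IsLocallyClosed t) ∧ U ∩ Z = ⋃₀ T) → Z.Nonempty → (Z ∩ X₀).Nonempty,
      ∀ Z : Set X, (∀ x : X, ∃ U : Set X, IsOpen U ∧ x ∈ U ∧ ∃ T : Set (Set X), T.Finite ∧ (∀ t ∈ T, IsLocallyClosed t) ∧ U ∩ Z = ⋃₀ T) → Z ⊆ closure (Z ∩ X₀),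
      ∀ Z Z' : Set X, (∃ T : Set (Set X), T.Finite ∧ (∀ t ∈ T, IsLocallyClosed t) ∧ Z = ⋃₀ T) → (∃ T : Set (Set X), T.Finite ∧ (∀ t ∈ T, IsLocallyClosed t) ∧ Z' = ⋃₀ T) → Z ∩ X₀ = Z' ∩ X₀ → Z = Z',
      ∀ Z Z' : Set X, (∀ x : X, ∃ U : Set X, IsOpen U ∧ x ∈ U ∧ ∃ T : Set (Set X), T.Finite ∧ (∀ t ∈ T, IsLocallyClosed t) ∧ U ∩ Z = ⋃₀ T) → (∀ x : X, ∃ U : Set X, IsOpen U ∧ x ∈ U ∧ ∃ T : Set (Set X), T.Finite ∧ (∀ t ∈ T, IsLocallyClosed t) ∧ U ∩ Z' = ⋃₀ T) → Z ∩ X₀ = Z' ∩ X₀ → Z = Z'].TFAE ∧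
    ((∀ Z : Set X, IsLocallyClosed Z → Z.Nonempty → (Z ∩ X₀).Nonempty) →
      ∀ Z₀ : Set ↥X₀, (∀ x : ↥X₀, ∃ U : Set ↥X₀, IsOpen U ∧ x ∈ U ∧ ∃ T : Set (Set ↥X₀), T.Finite ∧ (∀ t ∈ T, IsLocallyClosed t) ∧ U ∩ Z₀ = ⋃₀ T) →
        ∃ Z : Set X, (∀ x : X, ∃ U : Set X, IsOpen U ∧ x ∈ U ∧ ∃ T : Set (Set X), T.Finite ∧ (∀ t ∈ T, IsLocallyClosed t) ∧ U ∩ Z = ⋃₀ T) ∧ Subtype.val ⁻¹' Z = Z₀) := by
  exact main X₀

end Groth.Agent.S4903
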