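import Groth.Statements.S4914
import Mathlib
-- import your own Groth.Agent.* helpers here

set_option autoImplicit false
open CategoryTheory AlgebraicGeometry
universe u v w
open EGA43

namespace Groth.Agent.S4914

/-- Let ψ : X → Y be a continuous map, x a point of X, and (Y_i) a locally finite covering of Y by
closed subsets. If for every index i with ψ x ∈ Y_i the restriction ψ⁻¹(Y_i) → Y_i of ψ is open at
x, then ψ is open at x. -/
theorem result {α : Type u} {β : Type v} {ι : Type w} [TopologicalSpace α]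
    [TopologicalSpace β] (ψ : α → β) (hψ : Continuous ψ) (x : α) (Y : ι → Set β) (hY : LocallyFinite Y)
    (hcl : ∀ i, IsClosed (Y i)) (hcov : ⋃ i, Y i = Set.univ)
    (h : ∀ i, ∀ hi : ψ x ∈ Y i, EGA43.IsOpenAt ((Y i).restrictPreimage ψ) ⟨x, hi⟩) :
    EGA43.IsOpenAt ψ x := by
  intro U hU
  -- local finiteness at y = ψ x
  obtain ⟨W, hW, hWfin⟩ := hY (ψ x)
  set J : Set ι := {i | (Y i ∩ W).Nonempty} with hJ
  -- the indices in J not containing ψ x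
  have hclosed : IsClosed (⋃ i ∈ {i ∈ J | ψ x ∉ Y i}, Y i) :=
    (hWfin.subset (fun i hi => hi.1)).isClosed_biUnion (fun i _ => hcl i)
  have hnot : ψ x ∉ ⋃ i ∈ {i ∈ J | ψ x ∉ Y i}, Y i := by
    simp only [Set.mem_iUnion, not_exists]
    rintro i ⟨_, hi⟩ h'
    exact hi h'
  have hW' : (⋃ i ∈ {i ∈ J | ψ x ∉ Y i}, Y i)ᶜ ∈ nhds (ψ x) := hclosed.isOpen_compl.mem_nhds hnot
  -- for each i in J with ψ x ∈ Y i get a nbhd V i
  have hV : ∀ i, ψ x ∈ Y i → ∃ V ∈ nhds (ψ x), V ∩ Y i ⊆ ψ '' U := by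
    intro i hi
    have hU' : (Subtype.val ⁻¹' U : Set ↥(ψ ⁻¹' (Y i))) ∈ nhds ⟨x, hi⟩ :=
      continuous_subtype_val.continuousAt hU
    have h1 := h i hi _ hU'
    rw [mem_nhds_subtype] at h1
    obtain ⟨V, hV, hVsub⟩ := h1
    refine ⟨V, hV, ?_⟩
    rintro z ⟨hzV, hzY⟩
    obtain ⟨⟨w, hw⟩, hwU, hwz⟩ := hVsub (show (⟨z, hzY⟩ : ↥(Y i)) ∈ Subtype.val ⁻¹' V from hzV)
    refine ⟨w, hwU, ?_⟩
    exact congrArg Subtype.val hwz
  classical
  choose! V hVn hVs using hV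
  have hfin : {i ∈ J | ψ x ∈ Y i}.Finite := hWfin.subset (fun i hi => hi.1)
  have hInter : (⋂ i ∈ {i ∈ J | ψ x ∈ Y i}, V i) ∈ nhds (ψ x) :=
    (Filter.biInter_mem hfin).2 (fun i hi => hVn i hi.2)
  refine Filter.mem_of_superset (Filter.inter_mem (Filter.inter_mem hW hW') hInter) ?_
  rintro z ⟨⟨hzW, hzW'⟩, hzI⟩
  -- z lies in some Y i
  have : z ∈ ⋃ i, Y i := by rw [hcov]; trivial
  obtain ⟨i, hzi⟩ := Set.mem_iUnion.1 this
  have hiJ : i ∈ J := ⟨z, hzi, hzW⟩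
  have hxi : ψ x ∈ Y i := by
    by_contra hxi
    apply hzW'
    simp only [Set.mem_iUnion]
    exact ⟨i, ⟨hiJ, hxi⟩, hzi⟩
  have hzVi : z ∈ V i := by
    simp only [Set.mem_iInter] at hzI
    exact hzI i ⟨hiJ, hxi⟩
  exact hVs i hxi ⟨hzVi, hzi⟩

end Groth.Agent.S4914
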