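import Groth.Statements.S4925
import Groth.Agent.Lib.Helper8.UnivOpenAt

set_option autoImplicit false
open CategoryTheory AlgebraicGeometry
universe u v w
open EGA43

namespace Groth.Agent.S4925

/-- Let f : X ⟶ Y and g : Y ⟶ Z be morphisms of schemes and x a point of X. If f is universally open at
x and g is universally open at f x, then f ≫ g is universally open at x. -/
theorem result {X Y Z : Scheme.{u}} (f : X ⟶ Y) (g : Y ⟶ Z) (x : X)
    (hf : EGA43.IsUnivOpenAt f x) (hg : EGA43.IsUnivOpenAt g (f.base x)) :
    EGA43.IsUnivOpenAt (f ≫ g) x := by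
  open CategoryTheory.Limits Groth.Agent.Lib.helper8 in
  intro Z' g' x' hx'
  -- Y' := pullback g g'
  let a : pullback (f ≫ g) g' ⟶ pullback g g' :=
    pullback.lift (pullback.fst (f ≫ g) g' ≫ f) (pullback.snd (f ≫ g) g')
      (by rw [Category.assoc]; exact pullback.condition)
  have ha1 : a ≫ pullback.fst g g' = pullback.fst (f ≫ g) g' ≫ f := pullback.lift_fst _ _ _
  have ha2 : a ≫ pullback.snd g g' = pullback.snd (f ≫ g) g' := pullback.lift_snd _ _ _
  have t : IsPullback (pullback.snd g g') (pullback.fst g g') g' g :=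
    (IsPullback.of_hasPullback g g').flip
  have s : IsPullback (a ≫ pullback.snd g g') (pullback.fst (f ≫ g) g') g' (f ≫ g) := by
    rw [ha2]; exact (IsPullback.of_hasPullback (f ≫ g) g').flip
  have sq : IsPullback a (pullback.fst (f ≫ g) g') (pullback.fst g g') f :=
    IsPullback.of_right s ha1 t
  have h1 : EGA43.IsOpenAt a.base x' := isOpenAt_snd_of_isPullback hf sq.flip x' hx'
  have h2 : EGA43.IsOpenAt (pullback.snd g g').base (a.base x') := by
    apply hg
    have : (pullback.fst g g').base (a.base x') = (a ≫ pullback.fst g g').base x' := rfl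
    rw [this, ha1]
    change f.base ((pullback.fst (f ≫ g) g').base x') = _
    rw [hx']
  have h3 := isOpenAt_comp _ _ _ h1 h2
  have h4 : (fun q => (pullback.snd (f ≫ g) g').base q) =
      (fun q => (pullback.snd g g').base q) ∘ (fun q => a.base q) := by
    funext q
    exact congrArg (fun φ : pullback (f ≫ g) g' ⟶ Z' => φ.base q) ha2.symm
  change EGA43.IsOpenAt (fun q => (pullback.snd (f ≫ g) g').base q) x'
  rw [h4]
  exact h3

end Groth.Agent.S4925
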