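import Groth.Statements.S4926
import Groth.Agent.Lib.Helper8.UnivOpenAt

set_option autoImplicit false
open CategoryTheory AlgebraicGeometry
universe u v w
open EGA43

namespace Groth.Agent.S4926

/-- Let f : X ⟶ Y and g : Y ⟶ Z be morphisms of schemes and x a point of X. If f ≫ g is universally open
at x, then g is universally open at the point f x. -/
theorem result {X Y Z : Scheme.{u}} (f : X ⟶ Y) (g : Y ⟶ Z) (x : X)
    (h : EGA43.IsUnivOpenAt (f ≫ g) x) : EGA43.IsUnivOpenAt g (f.base x) := by
  open CategoryTheory.Limits Groth.Agent.Lib.helper8 in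
  intro Z' g' y' hy'
  let a : pullback (f ≫ g) g' ⟶ pullback g g' :=
    pullback.lift (pullback.fst (f ≫ g) g' ≫ f) (pullback.snd (f ≫ g) g')
      (by rw [Category.assoc]; exact pullback.condition)
  have ha1 : a ≫ pullback.fst g g' = pullback.fst (f ≫ g) g' ≫ f := pullback.lift_fst _ _ _
  have ha2 : a ≫ pullback.snd g g' = pullback.snd (f ≫ g) g' := pullback.lift_snd _ _ _
  have t : IsPullback (pullback.snd g g') (pullback.fst g g') g' g :=
    (IsPullback.of_hasPullback g g').flip
  have s : IsPullback (a ≫ pullback.snd g g') (pullback.fst (f ≫ g) g') g' (f ≫ g) := by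
    rw [ha2]; exact (IsPullback.of_hasPullback (f ≫ g) g').flip
  have sq : IsPullback a (pullback.fst (f ≫ g) g') (pullback.fst g g') f :=
    IsPullback.of_right s ha1 t
  -- find a point x' of the big pullback over x and y'
  have e1 : sq.isoPullback.hom ≫ pullback.fst (pullback.fst g g') f = a := sq.isoPullback_hom_fst
  have e2 : sq.isoPullback.hom ≫ pullback.snd (pullback.fst g g') f = pullback.fst (f ≫ g) g' :=
    sq.isoPullback_hom_snd
  obtain ⟨w, hw1, hw2⟩ := Scheme.Pullback.exists_preimage_pullback
    (f := pullback.fst g g') (g := f) y' x hy'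
  let x' := sq.isoPullback.inv.base w
  have hx'1 : a.base x' = y' := by
    have : a.base x' = (sq.isoPullback.inv ≫ a).base w := rfl
    rw [this, sq.isoPullback_inv_fst]
    exact hw1
  have hx'2 : (pullback.fst (f ≫ g) g').base x' = x := by
    have : (pullback.fst (f ≫ g) g').base x' = (sq.isoPullback.inv ≫ pullback.fst (f ≫ g) g').base w := rfl
    rw [this, sq.isoPullback_inv_snd]
    exact hw2
  have h1 : EGA43.IsOpenAt (pullback.snd (f ≫ g) g').base x' := h Z' g' x' hx'2
  have h4 : (fun q => (pullback.snd (f ≫ g) g').base q) =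
      (fun q => (pullback.snd g g').base q) ∘ (fun q => a.base q) := by
    funext q
    exact congrArg (fun φ : pullback (f ≫ g) g' ⟶ Z' => φ.base q) ha2.symm
  change EGA43.IsOpenAt (fun q => (pullback.snd (f ≫ g) g').base q) x' at h1
  rw [h4] at h1
  have h5 := isOpenAt_of_comp _ _ x' (a.continuous.continuousAt) h1
  rw [hx'1] at h5
  exact h5

end Groth.Agent.S4926
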