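import Groth.Statements.S4929
import Groth.Agent.Lib.Helper8.UnivOpenAt2

set_option autoImplicit false
open CategoryTheory AlgebraicGeometry
universe u v w
open EGA43

namespace Groth.Agent.S4929

open CategoryTheory.Limits in
/-- Let f : X ⟶ Y be a morphism of schemes, x a point of X, and (Y_i ⟶ Y) a finite family of closed
immersions whose images cover Y. If for every i the base change X ×_Y Y_i ⟶ Y_i is universally open
at every point lying over x, then f is universally open at x. -/
theorem result {X Y : Scheme.{u}} (f : X ⟶ Y) (x : X) {ι : Type w}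
    [Finite ι] (T : ι → Scheme.{u}) (g : ∀ i, T i ⟶ Y) [∀ i, IsClosedImmersion (g i)]
    (hcov : ⋃ i, Set.range (g i).base = Set.univ)
    (h : ∀ i, ∀ x' : ↥(pullback f (g i)), (pullback.fst f (g i)).base x' = x →
      EGA43.IsUnivOpenAt (pullback.snd f (g i)) x') :
    EGA43.IsUnivOpenAt f x := by
  open CategoryTheory.Limits Groth.Agent.Lib.helper8 in
  intro Y' g' x' hx'
  apply isOpenAt_of_baseChange_finite_closed_cover (fun i => pullback (g i) g')
    (fun i => pullback.snd (g i) g') (fun i => (pullback.snd (g i) g').isClosedEmbedding.isClosedMap)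
    ?_ (pullback.snd f g') x'
  · intro i z hz
    exact isOpenAt_snd_snd_of_isUnivOpenAt (g i) f x (h i) g' x' hx' z hz
  · intro y'
    have hy : g'.base y' ∈ ⋃ i, Set.range (g i).base := by rw [hcov]; trivial
    obtain ⟨i, t, ht⟩ := Set.mem_iUnion.mp hy
    obtain ⟨w, -, hw2⟩ := Scheme.Pullback.exists_preimage_pullback (f := g i) (g := g') t y' ht
    exact ⟨i, w, hw2⟩

end Groth.Agent.S4929
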