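import Groth.Statements.S4935
import Mathlib.RingTheory.IntegralClosure.GoingDown
import Mathlib.RingTheory.Ideal.GoingUp
import Mathlib.RingTheory.IntegralClosure.IntegrallyClosed

set_option autoImplicit false
universe u
open EGA43

namespace Groth.Agent.S4935

open IsLocalRing

lemma abstract_goingDown {A A' B C : Type u} [CommRing A] [IsLocalRing A] [CommRing A'] [IsDomain A']
    [IsLocalRing A'] [IsIntegrallyClosed A'] [CommRing B] [CommRing C] [IsDomain C]
    [Algebra A A'] [Algebra A B] [Algebra A' C] [Algebra B C] [Algebra A C]
    [IsScalarTower A A' C] [IsScalarTower A B C]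
    [Algebra.IsIntegral A A'] [Algebra.IsIntegral A' C] [Algebra.IsIntegral B C] [FaithfulSMul A' C]
    (hBC : Function.Injective (algebraMap B C))
    (n : Ideal B) [n.IsPrime] (hn : n.comap (algebraMap A B) = maximalIdeal A)
    (p : Ideal A) [p.IsPrime] (hker : RingHom.ker (algebraMap A A') ≤ p) :
    ∃ q : Ideal B, q.IsPrime ∧ q ≤ n ∧ q.comap (algebraMap A B) = p := by
  obtain ⟨n', -, hn'prime, hn'⟩ := Ideal.exists_ideal_over_prime_of_isIntegral n (⊥ : Ideal C) (by
    rw [← RingHom.ker_eq_comap_bot, (RingHom.injective_iff_ker_eq_bot _).1 hBC]; exact bot_le)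
  set n'' := n'.comap (algebraMap A' C) with hn''
  have hn''A : n''.comap (algebraMap A A') = maximalIdeal A := by
    rw [hn'', Ideal.comap_comap, ← IsScalarTower.algebraMap_eq, IsScalarTower.algebraMap_eq A B C,
      ← Ideal.comap_comap, hn', hn]
  have hn''prime : n''.IsPrime := Ideal.comap_isPrime _ _
  have hn''max : n''.IsMaximal :=
    Ideal.isMaximal_of_isIntegral_of_isMaximal_comap (R := A) n'' (by
      rw [hn''A]; exact maximalIdeal.isMaximal A)
  have hn''eq : n'' = maximalIdeal A' := IsLocalRing.eq_maximalIdeal hn''max
  obtain ⟨p', -, hp'prime, hp'⟩ := Ideal.exists_ideal_over_prime_of_isIntegral p (⊥ : Ideal A') (by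
    rw [← RingHom.ker_eq_comap_bot]; exact hker)
  have hle : p' ≤ n'' := hn''eq ▸ IsLocalRing.le_maximalIdeal hp'prime.ne_top
  have hlies : n'.LiesOver n'' := ⟨rfl⟩
  obtain ⟨P, hPle, hPprime, hPlies⟩ :=
    Ideal.exists_ideal_le_liesOver_of_le (p := p') (q := n'') n' hle
  refine ⟨P.comap (algebraMap B C), Ideal.comap_isPrime _ _, ?_, ?_⟩
  · rw [← hn']; exact Ideal.comap_mono hPle
  · rw [Ideal.comap_comap, ← IsScalarTower.algebraMap_eq, IsScalarTower.algebraMap_eq A A' C,
      ← Ideal.comap_comap]
    have := hPlies.over
    rw [Ideal.under_def] at this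
    rw [← this, hp']

/-- Let A be a unibranch local domain, B a domain containing A and integral over A, and 𝔫 a prime ideal
of B lying over the maximal ideal of A. Then Spec B_𝔫 → Spec A is surjective: for every prime ideal
𝔭 of A there is a prime ideal 𝔮 ⊆ 𝔫 of B with 𝔮 ∩ A = 𝔭. -/
theorem result {A B : Type u} [CommRing A] [IsDomain A]
    [IsLocalRing A] (hA : CAlg2.IsUnibranch A) [CommRing B] [IsDomain B] [Algebra A B]
    (hinj : Function.Injective (algebraMap A B)) [Algebra.IsIntegral A B] (n : Ideal B) [n.IsPrime]
    (hn : n.comap (algebraMap A B) = IsLocalRing.maximalIdeal A) (p : Ideal A) [p.IsPrime] :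
    ∃ q : Ideal B, q.IsPrime ∧ q ≤ n ∧ q.comap (algebraMap A B) = p := by
  classical
  obtain ⟨hdom, hloc⟩ := hA
  have hnil : nilradical A = ⊥ := nilradical_eq_zero A
  have hmk_inj : Function.Injective (algebraMap A (CAlg2.red A)) := by
    rw [injective_iff_map_eq_zero]
    intro a ha
    rw [Ideal.Quotient.algebraMap_eq, Ideal.Quotient.eq_zero_iff_mem, hnil] at ha
    simpa using ha
  have hic : IsIntegrallyClosed (CAlg2.normRed A) :=
    integralClosure.isIntegrallyClosedOfFiniteExtension (FractionRing (CAlg2.red A))
      (L := FractionRing (CAlg2.red A))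
  -- the map `red A → Frac B`
  let g : CAlg2.red A →+* FractionRing B :=
    Ideal.Quotient.lift (nilradical A) (algebraMap A (FractionRing B)) (by
      intro a ha
      rw [hnil] at ha
      rw [(Ideal.mem_bot).1 ha, map_zero])
  have hg : Function.Injective g := by
    rw [injective_iff_map_eq_zero]
    intro x hx
    obtain ⟨a, rfl⟩ := Ideal.Quotient.mk_surjective x
    rw [Ideal.Quotient.lift_mk, IsScalarTower.algebraMap_apply A B (FractionRing B)] at hx
    have h1 := (IsFractionRing.injective B (FractionRing B)) (hx.trans (map_zero _).symm)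
    have h2 := hinj (h1.trans (map_zero _).symm)
    rw [h2, map_zero]
  let algA₀L : Algebra (CAlg2.red A) (FractionRing B) := g.toAlgebra
  have towA : IsScalarTower A (CAlg2.red A) (FractionRing B) :=
    IsScalarTower.of_algebraMap_eq fun a => rfl
  let algKL : Algebra (FractionRing (CAlg2.red A)) (FractionRing B) :=
    (IsFractionRing.lift hg).toAlgebra
  have towK : IsScalarTower (CAlg2.red A) (FractionRing (CAlg2.red A)) (FractionRing B) :=
    IsScalarTower.of_algebraMap_eq fun a => (IsFractionRing.lift_algebraMap hg a).symm
  have i3 : IsScalarTower A (CAlg2.normRed A) (FractionRing B) :=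
    IsScalarTower.of_algebraMap_eq (fun a => by
      show algebraMap A (FractionRing B) a = algebraMap (FractionRing (CAlg2.red A)) (FractionRing B)
        (algebraMap A (FractionRing (CAlg2.red A)) a)
      rw [IsScalarTower.algebraMap_apply A (CAlg2.red A) (FractionRing (CAlg2.red A)),
        ← IsScalarTower.algebraMap_apply (CAlg2.red A) (FractionRing (CAlg2.red A)) (FractionRing B),
        ← IsScalarTower.algebraMap_apply A (CAlg2.red A) (FractionRing B)])
  have i5 : IsScalarTower A (CAlg2.normRed A)
      (integralClosure (CAlg2.normRed A) (FractionRing B)) :=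
    IsScalarTower.of_algebraMap_eq (fun a => by
      apply Subtype.ext
      change algebraMap A (FractionRing B) a = algebraMap (CAlg2.normRed A) (FractionRing B)
        (algebraMap A (CAlg2.normRed A) a)
      exact IsScalarTower.algebraMap_apply A (CAlg2.normRed A) (FractionRing B) a)
  have hA'L : Function.Injective (algebraMap (CAlg2.normRed A) (FractionRing B)) := by
    intro x y hxy
    apply Subtype.ext
    exact (algebraMap (FractionRing (CAlg2.red A)) (FractionRing B)).injective hxy
  have i6 : FaithfulSMul (CAlg2.normRed A)
      (integralClosure (CAlg2.normRed A) (FractionRing B)) := by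
    rw [faithfulSMul_iff_algebraMap_injective]
    intro x y hxy
    exact hA'L (congrArg Subtype.val hxy)
  have i7 : Algebra.IsIntegral A (CAlg2.normRed A) := by
    have : Algebra.IsIntegral A (CAlg2.red A) :=
      Algebra.isIntegral_of_surjective Ideal.Quotient.mk_surjective
    exact Algebra.IsIntegral.trans (CAlg2.red A)
  have hBL : ∀ b : B, algebraMap B (FractionRing B) b ∈
      integralClosure (CAlg2.normRed A) (FractionRing B) := by
    intro b
    have h1 : IsIntegral A (algebraMap B (FractionRing B) b) :=
      (Algebra.IsIntegral.isIntegral (R := A) b).map (IsScalarTower.toAlgHom A B (FractionRing B))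
    exact h1.tower_top
  let ψ : B →+* integralClosure (CAlg2.normRed A) (FractionRing B) :=
    (algebraMap B (FractionRing B)).codRestrict _ hBL
  let algBC : Algebra B (integralClosure (CAlg2.normRed A) (FractionRing B)) := ψ.toAlgebra
  have towB : IsScalarTower A B (integralClosure (CAlg2.normRed A) (FractionRing B)) :=
    IsScalarTower.of_algebraMap_eq (fun a => by
      apply Subtype.ext
      change algebraMap A (FractionRing B) a = algebraMap B (FractionRing B) (algebraMap A B a)
      exact IsScalarTower.algebraMap_apply A B (FractionRing B) a)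
  have hψinj : Function.Injective (algebraMap B (integralClosure (CAlg2.normRed A) (FractionRing B))) := by
    intro b b' hbb
    exact IsFractionRing.injective B (FractionRing B) (congrArg Subtype.val hbb)
  have intBC : Algebra.IsIntegral B (integralClosure (CAlg2.normRed A) (FractionRing B)) := by
    refine ⟨fun c => ?_⟩
    have h1 : IsIntegral (CAlg2.normRed A) (c : FractionRing B) := c.2
    have h2 : IsIntegral A (c : FractionRing B) := isIntegral_trans _ h1
    have h3 : IsIntegral B (c : FractionRing B) := h2.tower_top
    obtain ⟨P, hP, hP0⟩ := h3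
    refine ⟨P, hP, ?_⟩
    apply Subtype.ext
    have h4 := Polynomial.hom_eval₂ P ψ
      (integralClosure (CAlg2.normRed A) (FractionRing B)).toSubring.subtype c
    change _ = (0 : FractionRing B)
    rw [← hP0]
    exact h4
  have hker : RingHom.ker (algebraMap A (CAlg2.normRed A)) ≤ p := by
    have hinjA' : Function.Injective (algebraMap A (CAlg2.normRed A)) := by
      intro a a' haa
      have h1 : algebraMap A (FractionRing (CAlg2.red A)) a
          = algebraMap A (FractionRing (CAlg2.red A)) a' := congrArg Subtype.val haa
      rw [IsScalarTower.algebraMap_apply A (CAlg2.red A) (FractionRing (CAlg2.red A)),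
        IsScalarTower.algebraMap_apply A (CAlg2.red A) (FractionRing (CAlg2.red A))] at h1
      exact hmk_inj (IsFractionRing.injective (CAlg2.red A) (FractionRing (CAlg2.red A)) h1)
    rw [(RingHom.injective_iff_ker_eq_bot _).1 hinjA']
    exact bot_le
  exact abstract_goingDown (A' := CAlg2.normRed A)
    (C := integralClosure (CAlg2.normRed A) (FractionRing B)) hψinj n hn p hker

end Groth.Agent.S4935
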