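import Groth.Statements.S4942
import Groth.Agent.Lib.Helper8.UnivOpenAt

set_option autoImplicit false
open CategoryTheory AlgebraicGeometry
universe u v w
open EGA43

namespace Groth.Agent.S4942

open CategoryTheory.Limits in
/-- Let v : Y₁ ⟶ Y be a universally closed surjective morphism of schemes, f : X ⟶ Y a morphism and x a
point of X. If the base change f₁ : X ×_Y Y₁ ⟶ Y₁ is universally open at every point of X ×_Y Y₁
lying over x, then f is universally open at x. -/
theorem result {X Y Y₁ : Scheme.{u}} (v : Y₁ ⟶ Y)
    [UniversallyClosed v] [Surjective v] (f : X ⟶ Y) (x : X)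
    (h : ∀ x₁ : ↥(pullback f v), (pullback.fst f v).base x₁ = x → EGA43.IsUnivOpenAt (pullback.snd f v) x₁) :
    EGA43.IsUnivOpenAt f x := by
  open CategoryTheory.Limits Groth.Agent.Lib.helper8 in
  intro Y' g x' hx'
  -- v' : Y₁ ×_Y Y' ⟶ Y' is universally closed and surjective
  have hv'c : IsClosedMap (pullback.snd v g).base := (pullback.snd v g).isClosedMap
  have hv's : Function.Surjective (pullback.snd v g).base := (pullback.snd v g).surjective
  apply isOpenAt_of_baseChange_closed_surjective (pullback.snd v g) hv'c hv's (pullback.snd f g) x'
  intro z hz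
  -- a : T ⟶ X ×_Y Y₁
  let a : pullback (pullback.snd f g) (pullback.snd v g) ⟶ pullback f v :=
    pullback.lift (pullback.fst (pullback.snd f g) (pullback.snd v g) ≫ pullback.fst f g)
      (pullback.snd (pullback.snd f g) (pullback.snd v g) ≫ pullback.fst v g)
      (by
        rw [Category.assoc, Category.assoc, pullback.condition, pullback.condition,
          ← Category.assoc, ← Category.assoc, pullback.condition])
  have ha1 : a ≫ pullback.fst f v =
      pullback.fst (pullback.snd f g) (pullback.snd v g) ≫ pullback.fst f g := pullback.lift_fst _ _ _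
  have ha2 : a ≫ pullback.snd f v =
      pullback.snd (pullback.snd f g) (pullback.snd v g) ≫ pullback.fst v g := pullback.lift_snd _ _ _
  -- outer square: T over X and Y₁ ×_Y Y' --(v' ≫ g)--> Y
  have outer : IsPullback
      (pullback.fst (pullback.snd f g) (pullback.snd v g) ≫ pullback.fst f g)
      (pullback.snd (pullback.snd f g) (pullback.snd v g)) f (pullback.snd v g ≫ g) :=
    ((IsPullback.of_hasPullback (pullback.snd f g) (pullback.snd v g)).flip.paste_vert
      (IsPullback.of_hasPullback f g).flip).flip
  have hvg : pullback.snd v g ≫ g = pullback.fst v g ≫ v := pullback.condition.symm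
  rw [hvg, ← ha1] at outer
  have sq : IsPullback a (pullback.snd (pullback.snd f g) (pullback.snd v g))
      (pullback.snd f v) (pullback.fst v g) :=
    IsPullback.of_right outer ha2 (IsPullback.of_hasPullback f v)
  have hax : (pullback.fst f v).base (a.base z) = x := by
    have : (pullback.fst f v).base (a.base z) = (a ≫ pullback.fst f v).base z := rfl
    rw [this, ha1]
    change (pullback.fst f g).base ((pullback.fst (pullback.snd f g) (pullback.snd v g)).base z) = x
    rw [hz, hx']
  exact isOpenAt_snd_of_isPullback (h (a.base z) hax) sq z rfl

end Groth.Agent.S4942
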