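import Groth.Statements.S4951
import Mathlib.Topology.NoetherianSpace
import Mathlib.Topology.Sober
import Mathlib.Topology.Connected.Basic

set_option autoImplicit false
universe u
open EGA43

namespace Groth.Agent.S4951

/-- In a locally Noetherian quasi-sober space, a point of the closure of an open set `U` is a
specialization of a point of `U`. -/
theorem exists_specializes_of_mem_closure_open {X : Type u} [TopologicalSpace X] [QuasiSober X]
    (hloc : ∀ x : X, ∃ U ∈ nhds x, TopologicalSpace.NoetherianSpace ↥U)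
    {U : Set X} (hU : IsOpen U) {x : X} (hx : x ∈ closure U) : ∃ η ∈ U, η ⤳ x := by
  obtain ⟨N0, hN0, hNoeth0⟩ := hloc x
  set N : Set X := interior N0 with hN
  have hNo : IsOpen N := isOpen_interior
  have hxN : x ∈ N := mem_interior_iff_mem_nhds.mpr hN0
  have : TopologicalSpace.NoetherianSpace ↥N :=
    (Topology.IsEmbedding.inclusion (interior_subset : N ⊆ N0)).isInducing.noetherianSpace
  have : QuasiSober ↥N := hNo.isOpenEmbedding_subtypeVal.quasiSober
  set U' : Set ↥N := Subtype.val ⁻¹' U with hU'
  have hU'o : IsOpen U' := hU.preimage continuous_subtype_val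
  have hx' : (⟨x, hxN⟩ : ↥N) ∈ closure U' := by
    rw [hU', ← hNo.isOpenEmbedding_subtypeVal.isOpenMap.preimage_closure_eq_closure_preimage
      continuous_subtype_val]
    exact hx
  obtain ⟨S, hSfin, hSc, hSi, hSU⟩ :=
    TopologicalSpace.NoetherianSpace.exists_finite_set_isClosed_irreducible
      (isClosed_closure (s := U'))
  -- the members of `S` meeting `U'` already cover the closure
  have hcov : closure U' ⊆ ⋃₀ {t ∈ S | (t ∩ U').Nonempty} := by
    apply closure_minimal
    · intro y hy
      have : y ∈ ⋃₀ S := hSU ▸ subset_closure hy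
      obtain ⟨t, htS, hyt⟩ := this
      exact ⟨t, ⟨htS, ⟨y, hyt, hy⟩⟩, hyt⟩
    · rw [Set.sUnion_eq_biUnion]
      exact (hSfin.subset (Set.sep_subset _ _)).isClosed_biUnion fun t ht => hSc t ht.1
  obtain ⟨t, ⟨htS, htU⟩, hxt⟩ := hcov hx'
  obtain ⟨η, hη⟩ := QuasiSober.sober (hSi t htS) (hSc t htS)
  refine ⟨η.1, (hη.mem_open_set_iff hU'o).mpr htU, ?_⟩
  exact (hη.specializes hxt).map continuous_subtype_val

/-- In a quasi-sober T₀ space, a nonempty closed set has a point none of whose proper
generizations lie in the set. -/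
theorem exists_minimal_generization {X : Type u} [TopologicalSpace X] [QuasiSober X] [T0Space X]
    {W : Set X} (hW : IsClosed W) (hne : W.Nonempty) :
    ∃ x ∈ W, ∀ x' ∈ W, x' ⤳ x → x' = x := by
  obtain ⟨w, hw⟩ := hne
  set w' : ↥W := ⟨w, hw⟩
  set C' : Set ↥W := irreducibleComponent w' with hC'
  have hC'irr : IsIrreducible C' := isIrreducible_irreducibleComponent
  have hC'cl : IsClosed C' := isClosed_irreducibleComponent
  have hCirr : IsIrreducible (Subtype.val '' C') :=
    hC'irr.image _ continuous_subtype_val.continuousOn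
  have hCcl : IsClosed (Subtype.val '' C') :=
    hW.isClosedEmbedding_subtypeVal.isClosedMap _ hC'cl
  obtain ⟨x, hx⟩ := QuasiSober.sober hCirr hCcl
  obtain ⟨c, hcC', hcx⟩ := hx.mem
  refine ⟨x, hcx ▸ c.2, ?_⟩
  intro x' hx'W hsp
  -- the closure of `x'` inside `W`
  set D' : Set ↥W := closure {(⟨x', hx'W⟩ : ↥W)} with hD'
  have hD'irr : IsPreirreducible D' := (isIrreducible_singleton.closure).isPreirreducible
  have hsub : C' ⊆ D' := by
    intro d hd
    rw [hD', closure_subtype, Set.image_singleton]
    have hdC : (d : X) ∈ Subtype.val '' C' := ⟨d, hd, rfl⟩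
    rw [← hx.def] at hdC
    have hxd : x ⤳ (d : X) := specializes_iff_mem_closure.mpr hdC
    exact specializes_iff_mem_closure.mp (hsp.trans hxd)
  have heq : D' = C' := eq_irreducibleComponent hD'irr hsub
  have hmem : (⟨x', hx'W⟩ : ↥W) ∈ C' := heq ▸ subset_closure rfl
  have hx'C : x' ∈ Subtype.val '' C' := ⟨_, hmem, rfl⟩
  exact (hsp.antisymm (hx.specializes hx'C)).eq

/-- Let X be a locally Noetherian topological space in which every irreducible closed subset has a
unique generic point (X quasi-sober and T₀), and Z a closed nowhere dense subset of X such that for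
every point x of Z the set of generizations of x distinct from x is connected (possibly empty). If X
is connected, then X − Z is connected. (Uniqueness of generic points, automatic for the underlying
space of a scheme, is needed: in the four-point space {u, v, z₁, z₂} whose open sets are ∅, {u},
{v}, {u, v} and the whole space, the closed nowhere dense set Z = {z₁, z₂} satisfies the hypothesis,
since z₂ is a generization of z₁ and conversely, yet X − Z = {u, v} is not connected.) -/
theorem result {X : Type u} [TopologicalSpace X]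
    [QuasiSober X] [T0Space X] (hloc : ∀ x : X, ∃ U ∈ nhds x, TopologicalSpace.NoetherianSpace ↥U) [ConnectedSpace X]
    (Z : Set X) (hZ : IsClosed Z) (hZn : IsNowhereDense Z)
    (hgen : ∀ x ∈ Z, IsPreconnected ({x' : X | x' ⤳ x} \ {x})) :
    IsConnected Zᶜ := by
  classical
  have hdense : closure Zᶜ = Set.univ := by
    rw [closure_compl]
    have : interior Z = ∅ := by
      have h := hZn
      rw [IsNowhereDense, hZ.closure_eq] at h
      exact h
    rw [this, Set.compl_empty]
  refine ⟨?_, ?_⟩
  · by_contra hempty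
    rw [Set.not_nonempty_iff_eq_empty] at hempty
    rw [hempty, closure_empty] at hdense
    exact Set.empty_ne_univ hdense
  · intro u v hu hv hcov ⟨a, haZ, hau⟩ ⟨b, hbZ, hbv⟩
    by_contra hne
    rw [Set.not_nonempty_iff_eq_empty] at hne
    set U1 : Set X := Zᶜ ∩ u with hU1
    set U2 : Set X := Zᶜ ∩ v with hU2
    have hU1o : IsOpen U1 := hZ.isOpen_compl.inter hu
    have hU2o : IsOpen U2 := hZ.isOpen_compl.inter hv
    have hdisj : Disjoint U1 U2 := by
      rw [Set.disjoint_iff_inter_eq_empty]
      rw [← hne]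
      ext y
      simp only [hU1, hU2, Set.mem_inter_iff]
      tauto
    have hunion : U1 ∪ U2 = Zᶜ := by
      rw [hU1, hU2, ← Set.inter_union_distrib_left]
      exact Set.inter_eq_left.mpr hcov
    have hclun : closure U1 ∪ closure U2 = Set.univ := by
      rw [← closure_union, hunion, hdense]
    -- the two closures meet
    obtain ⟨w, -, hw1, hw2⟩ : (Set.univ ∩ (closure U1 ∩ closure U2)).Nonempty :=
      isPreconnected_closed_iff.mp isPreconnected_univ (closure U1) (closure U2)
        isClosed_closure isClosed_closure hclun.ge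
        ⟨a, Set.mem_univ _, subset_closure ⟨haZ, hau⟩⟩
        ⟨b, Set.mem_univ _, subset_closure ⟨hbZ, hbv⟩⟩
    set W : Set X := closure U1 ∩ closure U2 with hWdef
    have hWcl : IsClosed W := isClosed_closure.inter isClosed_closure
    have hWZ : W ⊆ Z := by
      intro y hy
      by_contra hyZ
      have hyU : y ∈ U1 ∪ U2 := hunion ▸ hyZ
      rcases hyU with hy1 | hy2
      · exact (hdisj.closure_right hU1o).le_bot ⟨hy1, hy.2⟩
      · exact (hdisj.symm.closure_right hU2o).le_bot ⟨hy2, hy.1⟩
    obtain ⟨x, hxW, hxmin⟩ := exists_minimal_generization hWcl ⟨w, hw1, hw2⟩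
    have hxZ : x ∈ Z := hWZ hxW
    set G : Set X := {x' : X | x' ⤳ x} \ {x} with hG
    have hGpre := hgen x hxZ
    have hGcov : G ⊆ closure U1 ∪ closure U2 := by rw [hclun]; exact Set.subset_univ _
    have key : ¬ ((G ∩ closure U1).Nonempty ∧ (G ∩ closure U2).Nonempty) := by
      rintro ⟨h1, h2⟩
      obtain ⟨g, hgG, hgW⟩ := isPreconnected_closed_iff.mp hGpre (closure U1) (closure U2)
        isClosed_closure isClosed_closure hGcov h1 h2
      exact hgG.2 (hxmin g hgW hgG.1)
    have hZU1 : ∀ η ∈ U1, η ≠ x := fun η hη h => hη.1 (h ▸ hxZ)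
    have hZU2 : ∀ η ∈ U2, η ≠ x := fun η hη h => hη.1 (h ▸ hxZ)
    obtain ⟨η1, hη1, hsp1⟩ := exists_specializes_of_mem_closure_open hloc hU1o hxW.1
    obtain ⟨η2, hη2, hsp2⟩ := exists_specializes_of_mem_closure_open hloc hU2o hxW.2
    exact key ⟨⟨η1, ⟨hsp1, hZU1 η1 hη1⟩, subset_closure hη1⟩,
      ⟨η2, ⟨hsp2, hZU2 η2 hη2⟩, subset_closure hη2⟩⟩

end Groth.Agent.S4951
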