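import Mathlib
import Groth.Statements.S4971

set_option autoImplicit false
universe u
open EGA43

namespace Groth.Agent.S4971

/-- Let B be a Noetherian local ring, M, N, P three B-modules with N finitely generated, u : M → N and v
: N → P linear maps with v ∘ u = 0, and t an element of the maximal ideal of B which is P-regular.
If the induced sequence M/tM → N/tN → P/tP is exact, then M → N → P is exact. -/
theorem result {B : Type u} [CommRing B] [IsNoetherianRing B] [IsLocalRing B]
    {M N P : Type u} [AddCommGroup M] [Module B M] [AddCommGroup N] [Module B N] [Module.Finite B N]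
    [AddCommGroup P] [Module B P] (u : M →ₗ[B] N) (v : N →ₗ[B] P) (huv : v ∘ₗ u = 0) (t : B)
    (ht : t ∈ IsLocalRing.maximalIdeal B) (hreg : IsSMulRegular P t)
    (hu : (Ideal.span {t} • ⊤ : Submodule B M) ≤ (Ideal.span {t} • ⊤ : Submodule B N).comap u)
    (hv : (Ideal.span {t} • ⊤ : Submodule B N) ≤ (Ideal.span {t} • ⊤ : Submodule B P).comap v)
    (hex : LinearMap.ker ((Ideal.span {t} • ⊤ : Submodule B N).mapQ (Ideal.span {t} • ⊤ : Submodule B P) v hv) ≤
      LinearMap.range ((Ideal.span {t} • ⊤ : Submodule B M).mapQ (Ideal.span {t} • ⊤ : Submodule B N) u hu)) :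
    LinearMap.ker v ≤ LinearMap.range u := by
  have hfg : (LinearMap.ker v).FG := IsNoetherian.noetherian _
  have hjac : Ideal.span {t} ≤ Ideal.jacobson (⊥ : Ideal B) := by
    rw [IsLocalRing.jacobson_eq_maximalIdeal ⊥ bot_ne_top, Ideal.span_le]
    simpa using ht
  refine Submodule.le_of_le_smul_of_le_jacobson_bot hfg hjac ?_
  intro y hy
  have hy0 : v y = 0 := hy
  have h1 : Submodule.mkQ _ y ∈ LinearMap.ker ((Ideal.span {t} • ⊤ : Submodule B N).mapQ
      (Ideal.span {t} • ⊤ : Submodule B P) v hv) := by
    rw [LinearMap.mem_ker, Submodule.mkQ_apply, Submodule.mapQ_apply, hy0]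
    simp
  obtain ⟨xb, hxb⟩ := hex h1
  obtain ⟨x, rfl⟩ := Submodule.mkQ_surjective _ xb
  rw [Submodule.mkQ_apply, Submodule.mapQ_apply, Submodule.mkQ_apply] at hxb
  have h2 : y - u x ∈ (Ideal.span {t} • ⊤ : Submodule B N) := by
    rw [← Submodule.Quotient.eq]
    exact hxb.symm
  rw [Submodule.ideal_span_singleton_smul] at h2
  obtain ⟨z, -, hz⟩ := h2
  have hz' : t • z = y - u x := hz
  have hvz : v z = 0 := by
    apply hreg
    have hvu : v (u x) = 0 := by
      have := LinearMap.congr_fun huv x
      simpa using this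
    change t • v z = t • 0
    rw [smul_zero, ← map_smul, hz', map_sub, hy0, hvu, sub_zero]
  have : y = u x + t • z := by rw [hz']; abel
  rw [this]
  refine Submodule.add_mem_sup ⟨x, rfl⟩ ?_
  exact Submodule.smul_mem_smul (Ideal.mem_span_singleton_self t) hvz

end Groth.Agent.S4971
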