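import Groth.Statements.S4975
-- import your own Groth.Agent.* helpers here
import Groth.Agent.S3458
import Groth.Agent.S5927
import Groth.Agent.Lib.Helper9.SecOpen3

set_option autoImplicit false
open CategoryTheory AlgebraicGeometry
universe u v w
open EGA43

namespace Groth.Agent.S4975

/-- Let f : X ⟶ Y be a morphism locally of finite type with Y locally Noetherian, g : Y ⟶ X a section of
f, X_y^0 the connected component of f⁻¹(y) containing g y, and X^0 ⊆ X their union. Suppose every
X_y^0 is geometrically integral over κ(y) (its preimage in X_y ⊗ K is irreducible and has reduced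
local rings, for every field extension K of κ(y)). Then y ↦ dim X_y^0 is locally constant on Y if
and only if f is universally open at every point of X^0; and when this holds, X^0 is open in X. (The
published statement also lists, as a further equivalent condition, flatness of the base change of f
to the reduced closed subscheme Y_red at the points of X^0; that condition is not stated here.) -/
theorem result {X Y : Scheme.{u}}
    [IsLocallyNoetherian Y] (f : X ⟶ Y) [LocallyOfFiniteType f] (g : Y ⟶ X) (hg : g ≫ f = 𝟙 Y)
    (hint : ∀ y : Y, (∀ (K : Type u) [Field K] [Algebra (IsLocalRing.ResidueField (Y.presheaf.stalk y)) K],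
        IsIrreducible ((FBase.bcπ (f.fiberToSpecResidueField y) K ≫ f.fiberι y).base ⁻¹' connectedComponentIn (f.base ⁻¹' {y}) (g.base y)) ∧
        ∀ x' : ↥(FBase.bc (f.fiberToSpecResidueField y) K),
          (FBase.bcπ (f.fiberToSpecResidueField y) K ≫ f.fiberι y).base x' ∈ connectedComponentIn (f.base ⁻¹' {y}) (g.base y) →
          _root_.IsReduced ((FBase.bc (f.fiberToSpecResidueField y) K).presheaf.stalk x'))) :
    (IsLocallyConstant (fun y : Y => topologicalKrullDim ↥(connectedComponentIn (f.base ⁻¹' {y}) (g.base y))) ↔ ∀ x ∈ MoreMor.sectionComponents f g, EGA43.IsUnivOpenAt f x) ∧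
      (IsLocallyConstant (fun y : Y => topologicalKrullDim ↥(connectedComponentIn (f.base ⁻¹' {y}) (g.base y))) → IsOpen (MoreMor.sectionComponents f g)) := by
  classical
  have hfg : ∀ y : Y, f.base (g.base y) = y := fun y => by
    rw [← Scheme.Hom.comp_apply, hg]; rfl
  have hirr : ∀ y : Y, (∀ (K : Type u) [Field K]
      [Algebra (IsLocalRing.ResidueField (Y.presheaf.stalk y)) K],
        IsIrreducible ((FBase.bcπ (f.fiberToSpecResidueField y) K ≫ f.fiberι y).base ⁻¹'
          connectedComponentIn (f.base ⁻¹' {y}) (g.base y))) := fun y K _ _ => (hint y K).1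
  have hred : ∀ y : Y, (∀ (K : Type u) [Field K]
      [Algebra (IsLocalRing.ResidueField (Y.presheaf.stalk y)) K],
        ∀ x' : ↥(FBase.bc (f.fiberToSpecResidueField y) K),
          (FBase.bcπ (f.fiberToSpecResidueField y) K ≫ f.fiberι y).base x' ∈
            connectedComponentIn (f.base ⁻¹' {y}) (g.base y) →
          _root_.IsReduced ((FBase.bc (f.fiberToSpecResidueField y) K).presheaf.stalk x')) :=
    fun y K _ _ => (hint y K).2
  -- local constancy ⇒ universally open on the components
  have hA : IsLocallyConstant (fun y : Y => topologicalKrullDim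
      ↥(connectedComponentIn (f.base ⁻¹' {y}) (g.base y))) →
      ∀ y : Y, ∀ x ∈ connectedComponentIn (f.base ⁻¹' {y}) (g.base y), EGA43.IsUnivOpenAt f x := by
    intro hlc y
    refine Groth.Agent.S3458.result f g hg (fun y K _ _ => hirr y K) y ?_
    obtain ⟨V, hV, hyV, hVc⟩ := hlc.exists_open y
    exact ⟨V, hV.mem_nhds hyV, fun z hz => hVc z hz⟩
  have hmem : ∀ x : X, x ∈ MoreMor.sectionComponents f g ↔
      x ∈ connectedComponentIn (f.base ⁻¹' {f.base x}) (g.base (f.base x)) := fun x => Iff.rfl
  refine ⟨⟨?_, ?_⟩, ?_⟩
  · intro hlc x hx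
    exact hA hlc (f.base x) x ((hmem x).mp hx)
  · intro huo
    rw [IsLocallyConstant.iff_exists_open]
    intro y₀
    have huo' : ∀ y : Y, ∀ x ∈ connectedComponentIn (f.base ⁻¹' {y}) (g.base y),
        EGA43.IsUnivOpenAt f x := by
      intro y x hx
      have hfx : f.base x = y := connectedComponentIn_subset (f.base ⁻¹' {y}) _ hx
      subst hfx
      exact huo x ((hmem x).mpr hx)
    have hgr : FBase.IsGeomReducedAt (f.fiberToSpecResidueField (f.base (g.base y₀)))
        (f.asFiber (g.base y₀)) := by
      intro K _ _ x' hx'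
      refine hred (f.base (g.base y₀)) K x' ?_
      rw [Scheme.Hom.comp_apply, hx', f.fiberι_asFiber, hfg y₀]
      exact mem_connectedComponentIn (hfg y₀)
    obtain ⟨V, hV, hVc⟩ := Groth.Agent.S5927.result f g hg hirr y₀
      (fun ξ hξ _ => huo' y₀ ξ hξ) (Or.inl hgr)
    obtain ⟨V', hV'V, hV', hyV'⟩ := mem_nhds_iff.mp hV
    exact ⟨V', hV', hyV', fun z hz => hVc z (hV'V hz)⟩
  · intro hlc
    exact Groth.Agent.Lib.helper9.SecOpen.isOpen_sectionComponents f g hg hirr hred (hA hlc)

end Groth.Agent.S4975
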