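import Groth.Statements.S4987
import Mathlib
import Groth.Agent.S8190
-- import your own Groth.Agent.* helpers here

set_option autoImplicit false
universe u
open CategoryTheory CategoryTheory.Limits AlgebraicGeometry TopologicalSpace
open Unram17

namespace Groth.Agent.S4987

/-- The open locus where two `S`-morphisms into a formally unramified `S`-scheme (locally of
finite type) agree: it contains every fibre on which they agree; it is closed when the target is
separated. -/
theorem exists_opens_eq {X Y S : Scheme.{u}} (h : Y ⟶ S)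
    [FormallyUnramified h] [LocallyOfFiniteType h] (f g : X ⟶ Y) (w : g ≫ h = f ≫ h) :
    ∃ U : X.Opens, U.ι ≫ f = U.ι ≫ g ∧
      (∀ s : ↥S, (f ≫ h).fiberι s ≫ f = (f ≫ h).fiberι s ≫ g →
        ∀ x : ↥X, (f ≫ h) x = s → x ∈ U) ∧
      (IsSeparated h → IsClosed (U : Set ↥X)) := by
  let X' : Over S := Over.mk (f ≫ h)
  let Y' : Over S := Over.mk h
  let f' : X' ⟶ Y' := Over.homMk f rfl
  let g' : X' ⟶ Y' := Over.homMk g w
  have hopen : IsOpenImmersion (pullback.diagonal Y'.hom) :=
    inferInstanceAs (IsOpenImmersion (pullback.diagonal h))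
  have hop : IsOpenImmersion (equalizer.ι f' g').left :=
    Groth.Agent.S8190.isOpenImmersion_equalizer_ι_left f' g'
  have hcond : (equalizer.ι f' g').left ≫ f = (equalizer.ι f' g').left ≫ g :=
    congr($(equalizer.condition f' g').left)
  refine ⟨(equalizer.ι f' g').left.opensRange, ?_, ?_, ?_⟩
  · rw [← Scheme.Hom.isoOpensRange_inv_comp, Category.assoc, Category.assoc, hcond]
  · intro s hs x hx
    let F' : Over S := Over.mk ((f ≫ h).fiberι s ≫ f ≫ h)
    let i' : F' ⟶ X' := Over.homMk ((f ≫ h).fiberι s) rfl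
    have hi' : i' ≫ f' = i' ≫ g' := by
      ext1; exact hs
    let l : F' ⟶ equalizer f' g' := equalizer.lift i' hi'
    have hl : l.left ≫ (equalizer.ι f' g').left = (f ≫ h).fiberι s := by
      rw [← Over.comp_left, equalizer.lift_ι]; rfl
    have hxr : x ∈ Set.range ((f ≫ h).fiberι s) := by
      rw [Scheme.Hom.range_fiberι]; exact hx
    obtain ⟨y, rfl⟩ := hxr
    refine ⟨l.left y, ?_⟩
    rw [← Scheme.Hom.comp_apply, hl]
  · intro hsep
    have hsep' : IsSeparated Y'.hom := hsep
    have hcl : IsClosedImmersion (equalizer.ι f' g').left := inferInstance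
    exact (Scheme.Hom.isClosedEmbedding _).isClosed_range

/-- Let h : Y ⟶ S be formally unramified and locally of finite type, let f, g : X ⟶ Y be two morphisms
over S whose common composite X ⟶ S is closed as a map of topological spaces, and let s be a point
of S such that f and g have the same restriction to the scheme-theoretic fibre of X over s. Then
there is an open neighbourhood V of s such that f and g agree on the preimage of V. -/
theorem result {X Y S : Scheme.{u}} (h : Y ⟶ S)
    [FormallyUnramified h] [LocallyOfFiniteType h] (f g : X ⟶ Y) (w : g ≫ h = f ≫ h)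
    (hc : IsClosedMap (f ≫ h).base) (s : ↥S)
    (hs : (f ≫ h).fiberι s ≫ f = (f ≫ h).fiberι s ≫ g) :
    ∃ V : S.Opens, s ∈ V ∧ ((f ≫ h) ⁻¹ᵁ V).ι ≫ f = ((f ≫ h) ⁻¹ᵁ V).ι ≫ g := by
  obtain ⟨U, hU, hfib, -⟩ := exists_opens_eq h f g w
  have hZ : IsClosed ((f ≫ h) '' (U : Set ↥X)ᶜ) := hc _ U.isOpen.isClosed_compl
  refine ⟨⟨((f ≫ h) '' (U : Set ↥X)ᶜ)ᶜ, hZ.isOpen_compl⟩, ?_, ?_⟩
  · rintro ⟨x, hxU, hx⟩
    exact hxU (hfib s hs x hx)
  · have hle : (f ≫ h) ⁻¹ᵁ ⟨((f ≫ h) '' (U : Set ↥X)ᶜ)ᶜ, hZ.isOpen_compl⟩ ≤ U := by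
      intro x hx
      by_contra hxU
      exact hx ⟨x, hxU, rfl⟩
    rw [← X.homOfLE_ι hle, Category.assoc, Category.assoc, hU]

end Groth.Agent.S4987
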