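import Groth.Statements.S4996
import Groth.Agent.S9442
import Groth.Agent.Lib.Helper24.GeomLim3
import Groth.Agent.Lib.Helper24.SmoothRegularHom

set_option autoImplicit false
universe u
open Unram17

namespace Groth.Agent.S4996

open TensorProduct in
/-- Over an algebraically closed field every field extension is separable. -/
theorem isGeometricallyReduced_of_isAlgClosed (K L : Type u) [Field K] [IsAlgClosed K] [Field L]
    [Algebra K L] : Algebra.IsGeometricallyReduced K L := by
  rw [Algebra.isGeometricallyReduced_field_iff]
  let e : AlgebraicClosure K ≃ₐ[K] K := IsAlgClosure.equiv K (AlgebraicClosure K) K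
  let e' : AlgebraicClosure K ⊗[K] L ≃ₐ[K] L :=
    (Algebra.TensorProduct.congr e AlgEquiv.refl).trans (Algebra.TensorProduct.lid K L)
  exact isReduced_of_injective e'.toRingEquiv.toRingHom e'.injective

open TensorProduct in
/-- A finite type algebra over a field which is geometrically regular is smooth. -/
theorem smooth_of_geomRegular (κ F : Type u) [Field κ] [CommRing F] [Algebra κ F]
    [Algebra.FiniteType κ F] (h : CAlg.IsGeometricallyRegular κ F) : Algebra.Smooth κ F := by
  haveI : IsNoetherianRing (AlgebraicClosure κ ⊗[κ] F) :=
    Algebra.FiniteType.isNoetherianRing (AlgebraicClosure κ) _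
  haveI hreg : IsRegularRing (AlgebraicClosure κ ⊗[κ] F) :=
    Groth.Agent.Lib.Helper24.GeomLim.isRegularRing_tensor_of_geom κ F h (AlgebraicClosure κ)
  haveI : Algebra.FinitePresentation (AlgebraicClosure κ) (AlgebraicClosure κ ⊗[κ] F) :=
    Algebra.FinitePresentation.of_finiteType.mp inferInstance
  haveI : Algebra.Smooth (AlgebraicClosure κ) (AlgebraicClosure κ ⊗[κ] F) := by
    refine ⟨?_, inferInstance⟩
    rw [← Algebra.smoothLocus_eq_univ_iff, Set.eq_univ_iff_forall]
    intro Q
    haveI := isGeometricallyReduced_of_isAlgClosed (AlgebraicClosure κ) Q.asIdeal.ResidueField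
    exact (Groth.Agent.S9442.result (AlgebraicClosure κ) (AlgebraicClosure κ ⊗[κ] F) Q.asIdeal).2
      (IsRegularRing.isRegularLocalRing_localization Q.asIdeal)
  exact Algebra.Smooth.of_smooth_tensorProduct_of_faithfullyFlat (AlgebraicClosure κ)


open TensorProduct in
/-- Let B be a finitely presented algebra over a commutative ring A. Then B is smooth over A if and only
if B is flat over A and every fibre ring κ(p) ⊗_A B, p a prime of A, is geometrically regular over
the residue field κ(p), i.e. stays a regular ring after base change to any finite extension of κ(p). -/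
theorem result (A B : Type u) [CommRing A] [CommRing B]
    [Algebra A B] [Algebra.FinitePresentation A B] :
    Algebra.Smooth A B ↔
      Module.Flat A B ∧ ∀ (p : Ideal A) [p.IsPrime], CAlg.IsGeometricallyRegular p.ResidueField (p.Fiber B) := by
  constructor
  · intro hs
    have h := Groth.Agent.Lib.Helper24.SmoothRegularHom.isRegularHom_of_smooth A B
    exact ⟨h.1, fun p _ => (h.2 p).2⟩
  · rintro ⟨hflat, hfib⟩
    haveI := hflat
    refine Algebra.Smooth.of_formallySmooth_fiber (R := A) (S := B) ?_
    intro p _
    haveI : Algebra.FiniteType p.ResidueField (p.Fiber B) :=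
      inferInstanceAs (Algebra.FiniteType p.ResidueField (TensorProduct A p.ResidueField B))
    exact (smooth_of_geomRegular p.ResidueField (p.Fiber B) (hfib p)).1

end Groth.Agent.S4996
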