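import Groth.Statements.S4998
import Mathlib
-- import your own Groth.Agent.* helpers here

set_option autoImplicit false
universe u
open Unram17

namespace Groth.Agent.S4998


theorem isSeparable_pi {K : Type u} [Field K] {I : Type u} [Finite I] (Ai : I → Type u)
    [∀ i, Field (Ai i)] [∀ i, Algebra K (Ai i)] (h : ∀ i, Algebra.IsSeparable K (Ai i)) :
    Algebra.IsSeparable K (Π i, Ai i) := by
  classical
  haveI := Fintype.ofFinite I
  refine ⟨fun x => ?_⟩
  let s : Finset (Polynomial K) := Finset.univ.image (fun i => minpoly K (x i))
  let P : Polynomial K := ∏ q ∈ s, q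
  have hPsep : P.Separable := by
    apply Polynomial.separable_prod'
    · intro q hq q' hq' hne
      obtain ⟨i, -, rfl⟩ := Finset.mem_image.mp hq
      obtain ⟨j, -, rfl⟩ := Finset.mem_image.mp hq'
      have hi : Irreducible (minpoly K (x i)) :=
        minpoly.irreducible (Algebra.IsSeparable.isIntegral K (x i))
      have hj : Irreducible (minpoly K (x j)) :=
        minpoly.irreducible (Algebra.IsSeparable.isIntegral K (x j))
      refine hi.coprime_iff_not_dvd.mpr fun hdvd => hne ?_
      exact Polynomial.eq_of_monic_of_associated
        (minpoly.monic (Algebra.IsSeparable.isIntegral K (x i)))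
        (minpoly.monic (Algebra.IsSeparable.isIntegral K (x j)))
        (hi.associated_of_dvd hj hdvd)
    · intro q hq
      obtain ⟨i, -, rfl⟩ := Finset.mem_image.mp hq
      exact Algebra.IsSeparable.isSeparable K (x i)
  have hPx : Polynomial.aeval x P = 0 := by
    funext i
    have h1 : (Polynomial.aeval x P) i = Polynomial.aeval (x i) P := by
      have := Polynomial.aeval_algHom_apply (Pi.evalAlgHom K Ai i) x P
      simpa using this.symm
    rw [h1]
    have hdvd : minpoly K (x i) ∣ P :=
      Finset.dvd_prod_of_mem _ (Finset.mem_image_of_mem _ (Finset.mem_univ i))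
    obtain ⟨Q, hQ⟩ := hdvd
    rw [hQ, map_mul, minpoly.aeval, zero_mul]
    rfl
  exact hPsep.of_dvd (minpoly.dvd K x hPx)

theorem isReduced_of_isSeparable (k A : Type u) [Field k] [CommRing A] [Algebra k A]
    [Algebra.IsSeparable k A] : IsReduced A := by
  refine ⟨fun x hx => ?_⟩
  obtain ⟨n, hn⟩ := hx
  have hsep : (minpoly k x).Separable := Algebra.IsSeparable.isSeparable k x
  have hdvd : minpoly k x ∣ (Polynomial.X : Polynomial k) ^ n := by
    apply minpoly.dvd
    simp [hn]
  by_cases hn0 : n = 0
  · subst hn0
    rw [pow_zero] at hn
    calc x = x * 1 := (mul_one x).symm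
      _ = 0 := by rw [hn, mul_zero]
  have hX : minpoly k x ∣ Polynomial.X := (hsep.squarefree.dvd_pow_iff_dvd hn0).mp hdvd
  obtain ⟨Q, hQ⟩ := hX
  have := congrArg (Polynomial.aeval x) hQ
  rw [map_mul, minpoly.aeval, zero_mul, Polynomial.aeval_X] at this
  exact this

theorem isSeparable_quotient (k A : Type u) [Field k] [CommRing A] [Algebra k A]
    [Algebra.IsSeparable k A] (m : Ideal A) : Algebra.IsSeparable k (A ⧸ m) := by
  refine ⟨fun y => ?_⟩
  obtain ⟨x, rfl⟩ := Ideal.Quotient.mk_surjective y
  have hsep : (minpoly k x).Separable := Algebra.IsSeparable.isSeparable k x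
  refine hsep.of_dvd (minpoly.dvd k _ ?_)
  have := Polynomial.aeval_algHom_apply (Ideal.Quotient.mkₐ k m) x (minpoly k x)
  rw [minpoly.aeval, map_zero] at this
  exact this

/-- Let A be an algebra of finite type over a field k. Then A is formally unramified over k if and only
if A is finite over k and every element of A has separable minimal polynomial over k (equivalently,
A is a finite product of finite separable extensions of k). -/
theorem result (k A : Type u) [Field k] [CommRing A]
    [Algebra k A] [Algebra.FiniteType k A] :
    Algebra.FormallyUnramified k A ↔ Module.Finite k A ∧ Algebra.IsSeparable k A := by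
  constructor
  · intro hunr
    haveI := Algebra.FormallyUnramified.finite_of_free k A
    refine ⟨inferInstance, ?_⟩
    haveI : Algebra.FormallyEtale k A := Algebra.FormallyEtale.of_formallyUnramified_of_field k A
    obtain ⟨I, hI, Ai, hf, ha, e, hsep⟩ :=
      (Algebra.FormallyEtale.iff_exists_algEquiv_prod k A).mp inferInstance
    haveI := isSeparable_pi Ai hsep
    exact AlgEquiv.Algebra.isSeparable e.symm
  · rintro ⟨hfin, hsep⟩
    haveI : IsReduced A := isReduced_of_isSeparable k A
    haveI : IsArtinianRing A := .of_finite k A
    have : Algebra.FormallyUnramified k (Π m : MaximalSpectrum A, A ⧸ m.asIdeal) := by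
      rw [Algebra.FormallyUnramified.pi_iff]
      intro m
      letI := Ideal.Quotient.field m.asIdeal
      haveI := isSeparable_quotient k A m.asIdeal
      exact Algebra.FormallyUnramified.of_isSeparable k _
    exact Algebra.FormallyUnramified.of_equiv ((IsArtinianRing.equivPi A).restrictScalars k).symm

end Groth.Agent.S4998
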