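import Groth.Statements.S4999
import Groth.Agent.LibGenRed29
import Groth.Agent.Lib.Helper24.SmoothReduced
-- import your own Groth.Agent.* helpers here

set_option autoImplicit false
universe u
open Unram17

namespace Groth.Agent.S4999

open TensorProduct

attribute [local instance] Algebra.TensorProduct.rightAlgebra

section loc
variable (k K A : Type u) [Field k] [Field K] [Algebra k K] [CommRing A] [Algebra k A]
  (p : Ideal A) [p.IsPrime]

/-- `K ⊗ A_p` as an algebra over `K ⊗ A` -/
@[reducible] noncomputable def tensorAlg : Algebra (K ⊗[k] A) (K ⊗[k] Localization.AtPrime p) :=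
  (Algebra.TensorProduct.map (AlgHom.id k K)
    (IsScalarTower.toAlgHom k A (Localization.AtPrime p))).toAlgebra

lemma isLocalization_tensor : letI := tensorAlg k K A p
    IsLocalization (p.primeCompl.map (Algebra.TensorProduct.includeRight (R := k) (A := K)))
      (K ⊗[k] Localization.AtPrime p) := by
  letI := tensorAlg k K A p
  have : IsScalarTower K (K ⊗[k] A) (K ⊗[k] Localization.AtPrime p) :=
    .of_algebraMap_eq <| by intro; simp [RingHom.algebraMap_toAlgebra]
  exact IsLocalization.tensorProduct_tensorProduct_right k K p.primeCompl (Localization.AtPrime p)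
    (by ext; simp [RingHom.algebraMap_toAlgebra])

lemma isReduced_tensor_localization [Algebra.Smooth k A] :
    IsReduced (K ⊗[k] Localization.AtPrime p) := by
  have : Algebra.Smooth K (K ⊗[k] A) := inferInstance
  have : IsReduced (K ⊗[k] A) :=
    Groth.Agent.Lib.Helper24.SmoothReduced.isReduced_of_smooth K (K ⊗[k] A)
  letI := tensorAlg k K A p
  have := isLocalization_tensor k K A p
  exact isReduced_localizationPreserves
    (p.primeCompl.map (Algebra.TensorProduct.includeRight (R := k) (A := K)))
    (K ⊗[k] Localization.AtPrime p) inferInstance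

lemma projective_kaehler_baseChange [Module.Projective A Ω[A⁄k]] :
    Module.Projective (K ⊗[k] A) Ω[(K ⊗[k] A)⁄K] :=
  Module.Projective.of_equiv (KaehlerDifferential.tensorKaehlerEquiv k K A (K ⊗[k] A))

lemma comap_mem_minimalPrimes (Q : Ideal (K ⊗[k] A)) [Q.IsPrime]
    (hQ : Q ∈ minimalPrimes (K ⊗[k] A)) :
    Q.comap (algebraMap A (K ⊗[k] A)) ∈ minimalPrimes A := by
  have : Module.Flat A (K ⊗[k] A) :=
    .of_linearEquiv (Algebra.TensorProduct.commRight k A K).symm.toLinearEquiv
  obtain ⟨p', hpmin, hpq⟩ := Ideal.exists_minimalPrimes_le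
    (bot_le : (⊥ : Ideal A) ≤ Q.comap (algebraMap A (K ⊗[k] A)))
  have : p'.IsPrime := hpmin.1.1
  have : Q.LiesOver (Q.comap (algebraMap A (K ⊗[k] A))) := ⟨rfl⟩
  obtain ⟨P, hPQ, hP, hPp⟩ := Ideal.exists_ideal_le_liesOver_of_le Q hpq
  have h1 : P = Q := le_antisymm hPQ (hQ.2 ⟨hP, bot_le⟩ hPQ)
  have h2 : p' = Q.comap (algebraMap A (K ⊗[k] A)) := by rw [hPp.over, h1]
  exact h2 ▸ hpmin

lemma isReduced_localization_of (hred : IsReduced (K ⊗[k] Localization.AtPrime p))
    (Q : Ideal (K ⊗[k] A)) [Q.IsPrime] (hq : Q.comap (algebraMap A (K ⊗[k] A)) = p) :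
    IsReduced (Localization.AtPrime Q) := by
  letI := tensorAlg k K A p
  have := isLocalization_tensor k K A p
  constructor
  rintro x ⟨n, hn⟩
  obtain ⟨a, s, rfl⟩ := IsLocalization.exists_mk'_eq Q.primeCompl x
  have hn1 : IsLocalization.mk' (Localization.AtPrime Q) a s ^ (n + 1) = 0 := by
    rw [pow_succ, hn, zero_mul]
  rw [← IsLocalization.mk'_pow, IsLocalization.mk'_eq_zero_iff] at hn1
  obtain ⟨t, ht⟩ := hn1
  have hnil : IsNilpotent ((t : K ⊗[k] A) * a) := by
    refine ⟨n + 1, ?_⟩
    rw [mul_pow, pow_succ (t : K ⊗[k] A), mul_assoc, ht, mul_zero]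
  have h0 : algebraMap (K ⊗[k] A) (K ⊗[k] Localization.AtPrime p) ((t : K ⊗[k] A) * a) = 0 :=
    (hnil.map _).eq_zero
  obtain ⟨u, hu⟩ := (IsLocalization.map_eq_zero_iff
    (p.primeCompl.map (Algebra.TensorProduct.includeRight (R := k) (A := K))) _ _).mp h0
  obtain ⟨v, hv, hvu⟩ := u.2
  have huQ : (u : K ⊗[k] A) ∉ Q := by
    rw [← hvu]
    intro hmem
    apply hv
    rw [← hq]
    exact hmem
  rw [IsLocalization.mk'_eq_zero_iff]
  refine ⟨⟨u * t, Q.primeCompl.mul_mem huQ t.2⟩, ?_⟩
  rw [mul_assoc]
  exact hu

lemma isField_localization_of (hred : IsReduced (K ⊗[k] Localization.AtPrime p))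
    (Q : Ideal (K ⊗[k] A)) [Q.IsPrime] (hQ : Q ∈ minimalPrimes (K ⊗[k] A))
    (hq : Q.comap (algebraMap A (K ⊗[k] A)) = p) :
    IsField (Localization.AtPrime Q) := by
  have := isReduced_localization_of k K A p hred Q hq
  have : Ring.KrullDimLE 0 (Localization.AtPrime Q) := by
    rw [Ring.krullDimLE_iff, IsLocalization.AtPrime.ringKrullDim_eq_height Q,
      Ideal.height_eq_zero_iff.mpr hQ]
    rfl
  exact Ring.KrullDimLE.isField_of_isReduced

end loc


/-- Let A be an algebra of finite type over a field k. Then A is smooth over k if and only if the module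
of differentials of A over k is projective (locally free) and, at every minimal prime p of A, the
local ring A_p is geometrically reduced over k, which for this Artinian local ring says that A_p is
a field and a separable (not necessarily algebraic) extension of k. -/
theorem result (k A : Type u) [Field k] [CommRing A]
    [Algebra k A] [Algebra.FiniteType k A] :
    Algebra.Smooth k A ↔
      Module.Projective A (KaehlerDifferential k A) ∧
        ∀ (p : Ideal A) [p.IsPrime], p ∈ minimalPrimes A →
          Algebra.IsGeometricallyReduced k (Localization.AtPrime p) := by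
  constructor
  · intro hsm
    refine ⟨inferInstance, fun p _ _ => ?_⟩
    rw [Algebra.isGeometricallyReduced_field_iff]
    exact isReduced_tensor_localization k (AlgebraicClosure k) A p
  · rintro ⟨hproj, hgen⟩
    have hfp : Algebra.FinitePresentation k A :=
      Algebra.FinitePresentation.of_finiteType.mp inferInstance
    have := projective_kaehler_baseChange k (AlgebraicClosure k) A
    have hsm : Algebra.Smooth (AlgebraicClosure k) (AlgebraicClosure k ⊗[k] A) := by
      refine Groth.Agent.LibGenRed29.smooth_of_generic (AlgebraicClosure k)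
        (AlgebraicClosure k ⊗[k] A) fun Q _ hQ => ?_
      have hq := comap_mem_minimalPrimes k (AlgebraicClosure k) A Q hQ
      have : (Q.comap (algebraMap A (AlgebraicClosure k ⊗[k] A))).IsPrime :=
        Ideal.comap_isPrime _ _
      have hred := (Algebra.isGeometricallyReduced_field_iff k _).mp (hgen _ hq)
      exact isField_localization_of k (AlgebraicClosure k) A _ hred Q hQ rfl
    have hH1 : Subsingleton (Algebra.H1Cotangent (AlgebraicClosure k)
        (AlgebraicClosure k ⊗[k] A)) := ((Algebra.formallySmooth_iff _ _).mp hsm.1).2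
    have h2 : Subsingleton (AlgebraicClosure k ⊗[k] Algebra.H1Cotangent k A) :=
      (Algebra.tensorH1CotangentOfFlat k A (AlgebraicClosure k)).toEquiv.subsingleton
    have h3 : Subsingleton (Algebra.H1Cotangent k A) :=
      (Module.FaithfullyFlat.subsingleton_tensorProduct_iff_right k (AlgebraicClosure k)).mp h2
    exact ⟨(Algebra.formallySmooth_iff _ _).mpr ⟨hproj, h3⟩, hfp⟩

end Groth.Agent.S4999
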