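import Groth.Statements.S5001
import Mathlib
import Groth.Agent.S2790

set_option autoImplicit false
universe u
open Unram17

namespace Groth.Agent.S5001

section aux
open MvPolynomial

theorem under_eq_idealOfVars (k : Type u) [Field k] (n : ℕ)
    (q : Ideal (MvPolynomial (Fin n) k)) [hq : q.IsPrime]
    (h : ∀ i : Fin n, (X i : MvPolynomial (Fin n) k) ∈ q) :
    q = Ideal.span (Set.range (X : Fin n → MvPolynomial (Fin n) k)) := by
  have hle : Ideal.span (Set.range (X : Fin n → MvPolynomial (Fin n) k)) ≤ q := by
    rw [Ideal.span_le]
    rintro _ ⟨i, rfl⟩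
    exact h i
  have hmem : ∀ f : MvPolynomial (Fin n) k, f - C (constantCoeff f) ∈
      Ideal.span (Set.range (X : Fin n → MvPolynomial (Fin n) k)) := by
    intro f
    have h1 : f - C (constantCoeff f) ∈ MvPolynomial.idealOfVars (Fin n) k ^ 1 := by
      rw [MvPolynomial.mem_pow_idealOfVars_iff']
      intro x hx
      have hx0 : x = 0 := by
        have h0 : Finsupp.degree x = 0 := by omega
        exact (Finsupp.degree_eq_zero_iff x).mp h0
      subst hx0
      simp [constantCoeff_eq]
    rwa [pow_one] at h1
  apply le_antisymm _ hle
  intro f hf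
  have h1 := hmem f
  have h2 : C (constantCoeff f) ∈ q := by
    have h0 : C (constantCoeff f) = f - (f - C (constantCoeff f)) := by ring
    rw [h0]
    exact sub_mem hf (hle h1)
  have h3 : constantCoeff f = 0 := by
    by_contra hne
    apply hq.ne_top
    rw [Ideal.eq_top_iff_one]
    have h0 : (1 : MvPolynomial (Fin n) k) = C ((constantCoeff f)⁻¹) * C (constantCoeff f) := by
      rw [← C_mul, inv_mul_cancel₀ hne, C_1]
    rw [h0]
    exact Ideal.mul_mem_left _ _ h2
  rw [h3, C_0, sub_zero] at h1
  exact h1

end aux



/-- Let k be a field, A a k-algebra of finite type equipped with a k-algebra map from the polynomial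
ring in n variables, with images g_i of the variables, and p a prime of A such that Spec A has local
dimension n at p, the residue field of p is a finite separable extension of k, and every g_i lies in
p. Then A is etale over the polynomial ring at p if and only if the images of the g_i generate the
maximal ideal of the local ring A_p. -/
theorem result (k A : Type u) [Field k] [CommRing A] [Algebra k A]
    [Algebra.FiniteType k A] (n : ℕ) [Algebra (MvPolynomial (Fin n) k) A]
    [IsScalarTower k (MvPolynomial (Fin n) k) A] (p : Ideal A) [p.IsPrime]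
    (hn : FlatMor.localDim (PrimeSpectrum A) ⟨p, inferInstance⟩ = (n : WithBot ℕ∞))
    [Module.Finite k p.ResidueField] [Algebra.IsSeparable k p.ResidueField]
    (hg : ∀ i : Fin n, algebraMap (MvPolynomial (Fin n) k) A (MvPolynomial.X i) ∈ p) :
    Algebra.IsEtaleAt (MvPolynomial (Fin n) k) p ↔
      Ideal.span (Set.range fun i : Fin n =>
        algebraMap A (Localization.AtPrime p) (algebraMap (MvPolynomial (Fin n) k) A (MvPolynomial.X i))) =
        IsLocalRing.maximalIdeal (Localization.AtPrime p) := by
  classical
  set p₀ : Ideal (MvPolynomial (Fin n) k) := p.under (MvPolynomial (Fin n) k) with hp₀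
  haveI : p₀.IsPrime := Ideal.comap_isPrime _ _
  haveI : p.LiesOver p₀ := ⟨rfl⟩
  letI := Localization.AtPrime.algebraOfLiesOver p₀ p
  haveI : Localization.AtPrime.IsLiesOverAlgebra p₀ p := inferInstance
  haveI : IsScalarTower k p₀.ResidueField p.ResidueField := inferInstance
  haveI : Algebra.IsSeparable p₀.ResidueField p.ResidueField :=
    Algebra.isSeparable_tower_top_of_isSeparable k p₀.ResidueField p.ResidueField
  haveI : Algebra.FiniteType (MvPolynomial (Fin n) k) A :=
    Algebra.FiniteType.of_restrictScalars_finiteType k (MvPolynomial (Fin n) k) A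
  have hp₀eq : p₀ = Ideal.span (Set.range (MvPolynomial.X : Fin n → MvPolynomial (Fin n) k)) :=
    under_eq_idealOfVars k n p₀ hg
  have hfun : (fun i : Fin n => algebraMap A (Localization.AtPrime p)
      (algebraMap (MvPolynomial (Fin n) k) A (MvPolynomial.X i))) =
      (algebraMap (MvPolynomial (Fin n) k) (Localization.AtPrime p)) ∘
        (MvPolynomial.X : Fin n → MvPolynomial (Fin n) k) := by
    funext i
    rw [Function.comp_apply, ← IsScalarTower.algebraMap_apply]
  rw [hfun, Set.range_comp, ← Ideal.map_span, ← hp₀eq]
  have hiff := Algebra.isUnramifiedAt_iff_map_eq (MvPolynomial (Fin n) k) p₀ p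
  constructor
  · intro h
    haveI : Algebra.FormallyEtale (MvPolynomial (Fin n) k) (Localization.AtPrime p) := h
    haveI : Algebra.IsUnramifiedAt (MvPolynomial (Fin n) k) p :=
      (inferInstance : Algebra.FormallyUnramified (MvPolynomial (Fin n) k) (Localization.AtPrime p))
    exact (hiff.mp inferInstance).2
  · intro h
    haveI : Algebra.IsUnramifiedAt (MvPolynomial (Fin n) k) p := hiff.mpr ⟨inferInstance, h⟩
    exact Groth.Agent.S2790.etaleAt_of_unram k n A p hn


end Groth.Agent.S5001
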