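import Groth.Statements.S5004
import Mathlib
import Groth.Agent.S5803
import Groth.Agent.LibSeqFlat29
import Groth.Agent.Lib.Helper3.FTFieldLocalDim
import Groth.Agent.Lib.Helper17.RegSpread2

set_option autoImplicit false
universe u
open CategoryTheory CategoryTheory.Limits AlgebraicGeometry TopologicalSpace
open Nrm16

namespace Groth.Agent.S5004

/-- On a locally Noetherian scheme, every quasi-regular (quasi-coherent) ideal sheaf is a regular ideal
sheaf. -/
theorem result {X : Scheme.{u}} [IsLocallyNoetherian X] (I : X.IdealSheafData)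
    (h : RegImm.IsRegularIdeal RegImm.Kind.quasi I) : RegImm.IsRegularIdeal RegImm.Kind.regular I := by
  intro x hx
  obtain ⟨⟨U, hU⟩, hxU, rs, hrs, hI⟩ := h x hx
  haveI : IsNoetherianRing Γ(X, U) := IsLocallyNoetherian.component_noetherian ⟨U, hU⟩
  set q := (hU.primeIdealOf ⟨x, hxU⟩).asIdeal with hq
  have hle : I.ideal ⟨U, hU⟩ ≤ q := by
    have h1 := (Scheme.IdealSheafData.mem_support_iff_of_mem (I := I) (U := ⟨U, hU⟩) hxU).mp hx
    intro a ha
    have h2 := (Scheme.mem_zeroLocus_iff (X := X) (U := U) (s := (I.ideal ⟨U, hU⟩ : Set Γ(X, U)))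
      (x := x)).mp h1 a ha
    by_contra hcon
    exact h2 ((Groth.Agent.Lib.helper3.FTField.mem_basicOpen_iff hU x hxU a).mpr hcon)
  let φ : Γ(X, U) →+* Localization.AtPrime q := algebraMap Γ(X, U) (Localization.AtPrime q)
  have hφ : φ.Flat := by
    rw [RingHom.flat_algebraMap_iff]
    infer_instance
  have hq1 : CAlgX.IsQuasiRegular (φ ∘ rs.get) :=
    Groth.Agent.LibSeqFlat29.isQuasiRegular_map_of_flat φ hφ rs.get hrs
  have hjac : ∀ i, (φ ∘ rs.get) i ∈ Ring.jacobson (Localization.AtPrime q) := by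
    intro i
    have h1 : rs.get i ∈ I.ideal ⟨U, hU⟩ := by
      rw [hI]
      exact Ideal.subset_span (List.get_mem rs i)
    have h2 : φ (rs.get i) ∈ IsLocalRing.maximalIdeal (Localization.AtPrime q) := by
      rw [← Localization.AtPrime.map_eq_maximalIdeal]
      exact Ideal.mem_map_of_mem _ (hle h1)
    rw [IsLocalRing.ringJacobson_eq_maximalIdeal]
    exact h2
  have hw := Groth.Agent.S5803.result (Localization.AtPrime q) rs.length (φ ∘ rs.get) hjac hq1
  have hofn : List.ofFn (φ ∘ rs.get) = rs.map φ := by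
    rw [← List.map_ofFn, List.ofFn_get]
  rw [hofn] at hw
  have hK : (I.ideal ⟨U, hU⟩).map (algebraMap Γ(X, U) (Localization.AtPrime q)) =
      Ideal.ofList (rs.map φ) := by
    rw [hI, Ideal.map_ofList]
  obtain ⟨g, hg, ks, -, -, hB⟩ := Groth.Agent.Lib.helper17.RegSpread.spread_regular q
    (I.ideal ⟨U, hU⟩) hle (rs.map φ) hw hK
  haveI := hU.isLocalization_basicOpen g
  obtain ⟨hreg, hideal⟩ := hB Γ(X, X.basicOpen g)
  refine ⟨⟨X.basicOpen g, hU.basicOpen g⟩, ?_, ks.map (algebraMap Γ(X, U) Γ(X, X.basicOpen g)),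
    hreg, ?_⟩
  · exact (Groth.Agent.Lib.helper3.FTField.mem_basicOpen_iff hU x hxU g).mpr hg
  · have h1 := I.map_ideal_basicOpen ⟨U, hU⟩ g
    rw [← hideal]
    exact h1.symm

end Groth.Agent.S5004
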