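import Groth.Statements.S5006
import Mathlib.RingTheory.Nakayama
import Mathlib.RingTheory.Noetherian.Nilpotent
import Mathlib.RingTheory.Nilpotent.Lemmas

set_option autoImplicit false
universe u
open Nrm16

namespace Groth.Agent.S5006

/-- Let A be a commutative ring, I a finitely generated ideal and p a prime ideal containing I. Then
some basic open neighbourhood of p in Spec A is contained in the closed set V(I) (so that V(I) ⟶
Spec A is a local homeomorphism onto an open set near p) if and only if there is an integer n > 0
with I^n A_p = I^(n+1) A_p in the local ring at p. Affine form. -/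
theorem result (A : Type u) [CommRing A] (I : Ideal A) (hI : I.FG)
    (p : Ideal A) [p.IsPrime] (hp : I ≤ p) :
    (∃ f : A, f ∉ p ∧ ∀ q : Ideal A, q.IsPrime → f ∉ q → I ≤ q) ↔
      ∃ n : ℕ, 0 < n ∧
        (I ^ n).map (algebraMap A (Localization.AtPrime p)) =
          (I ^ (n + 1)).map (algebraMap A (Localization.AtPrime p)) := by
  classical
  have hmapFG : (I.map (algebraMap A (Localization.AtPrime p))).FG := hI.map _
  constructor
  · rintro ⟨f, hfp, hf⟩
    have hle : I.map (algebraMap A (Localization.AtPrime p)) ≤
        nilradical (Localization.AtPrime p) := by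
      rw [Ideal.map_le_iff_le_comap]
      intro x hx
      rw [Ideal.mem_comap, mem_nilradical]
      have h1 : x * f ∈ nilradical A := by
        rw [nilradical_eq_sInf, Ideal.mem_sInf]
        intro q hq
        by_cases hfq : f ∈ q
        · exact q.mul_mem_left x hfq
        · exact q.mul_mem_right f (hf q hq hfq hx)
      obtain ⟨k, hk⟩ : IsNilpotent (x * f) := h1
      refine ⟨k, ?_⟩
      have hu : IsUnit (algebraMap A (Localization.AtPrime p) f) :=
        IsLocalization.map_units (M := p.primeCompl) _ ⟨f, hfp⟩
      have h2 : (algebraMap A (Localization.AtPrime p) x) ^ k *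
          (algebraMap A (Localization.AtPrime p) f) ^ k = 0 := by
        rw [← mul_pow, ← map_mul, ← map_pow, hk, map_zero]
      exact (hu.pow k).mul_left_eq_zero.mp h2
    obtain ⟨n, hn⟩ := (Ideal.FG.isNilpotent_iff_le_nilradical hmapFG).mpr hle
    refine ⟨n + 1, Nat.succ_pos n, ?_⟩
    rw [Ideal.map_pow, Ideal.map_pow, pow_succ, pow_succ, pow_succ, hn]
    simp
  · rintro ⟨n, hn0, hn⟩
    have hJ : (I ^ n).map (algebraMap A (Localization.AtPrime p)) = ⊥ := by
      apply Submodule.eq_bot_of_le_smul_of_le_jacobson_bot
        (I.map (algebraMap A (Localization.AtPrime p)))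
      · exact (hI.pow).map _
      · rw [smul_eq_mul]
        conv_lhs => rw [hn]
        rw [pow_succ', Ideal.map_mul]
      · rw [IsLocalRing.jacobson_eq_maximalIdeal _ bot_ne_top]
        rw [Ideal.map_le_iff_le_comap]
        have := IsLocalization.AtPrime.under_maximalIdeal (Localization.AtPrime p) p
        rw [Ideal.under] at this
        rw [this]
        exact hp
    obtain ⟨T, hT⟩ := hI.pow (n := n)
    have hTs : ∀ t ∈ T, ∃ s : A, s ∉ p ∧ s * t = 0 := by
      intro t ht
      have ht' : t ∈ I ^ n := hT ▸ Ideal.subset_span ht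
      have h0 : algebraMap A (Localization.AtPrime p) t = 0 := by
        have := Ideal.mem_map_of_mem (algebraMap A (Localization.AtPrime p)) ht'
        rw [hJ] at this
        exact this
      obtain ⟨m, hm⟩ := (IsLocalization.map_eq_zero_iff p.primeCompl
        (Localization.AtPrime p) t).mp h0
      exact ⟨m.1, m.2, hm⟩
    choose! s hs using hTs
    refine ⟨∏ t ∈ T, s t, ?_, ?_⟩
    · intro hmem
      obtain ⟨t, ht, hst⟩ := (Ideal.IsPrime.prod_mem_iff (hp := ‹p.IsPrime›)).mp hmem
      exact (hs t ht).1 hst
    · intro q hq hfq x hx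
      have hxn : x ^ n ∈ I ^ n := Ideal.pow_mem_pow hx n
      have hkill : ∀ y ∈ I ^ n, (∏ t ∈ T, s t) * y = 0 := by
        intro y hy
        rw [← hT] at hy
        refine Submodule.span_induction ?_ ?_ ?_ ?_ hy
        · intro t ht
          rw [← Finset.mul_prod_erase T s ht, mul_comm (s t), mul_assoc, (hs t ht).2, mul_zero]
        · simp
        · intro a b _ _ ha hb
          rw [mul_add, ha, hb, add_zero]
        · intro a b _ hb
          rw [smul_eq_mul, mul_left_comm, hb, mul_zero]
      have h3 : (∏ t ∈ T, s t) * x ^ n ∈ q := by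
        rw [hkill _ hxn]; exact q.zero_mem
      rcases hq.mem_or_mem h3 with h4 | h4
      · exact absurd h4 hfq
      · exact hq.mem_of_pow_mem n h4

end Groth.Agent.S5006
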