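import Groth.Statements.S5007
import Mathlib
import Groth.Agent.Lib.Helper18.PullbackSquare

set_option autoImplicit false
universe u
open CategoryTheory CategoryTheory.Limits AlgebraicGeometry TopologicalSpace
open Unram17

namespace Groth.Agent.S5007

open Groth.Agent.Lib.Helper18.PullbackStalk H18Stalk

/-- Let g : Y ⟶ S and h : X ⟶ S be locally of finite presentation and f : X ⟶ Y a morphism over S. Then
f is (formally) unramified if and only if for every point s of S the base change of f along the
fibre Y_s ⟶ Y, which is the fibre map X_s ⟶ Y_s, is (formally) unramified. -/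
theorem result {X Y S : Scheme.{u}} (g : Y ⟶ S) (h : X ⟶ S)
    [LocallyOfFinitePresentation g] [LocallyOfFinitePresentation h] (f : X ⟶ Y) (w : f ≫ g = h) :
    FormallyUnramified f ↔ ∀ s : ↥S, FormallyUnramified (pullback.snd f (g.fiberι s)) := by
  have : LocallyOfFiniteType (f ≫ g) := by rw [w]; infer_instance
  have : LocallyOfFiniteType f := locallyOfFiniteType_of_comp f g
  constructor
  · intro hf s
    exact MorphismProperty.pullback_snd (P := @FormallyUnramified) _ _ hf
  · intro H
    have key : ∀ x : X, ∃ U : X.Opens, x ∈ U ∧ FormallyUnramified (U.ι ≫ f) := by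
      intro x
      rw [exists_unramified_nhd_iff]
      have hy : f x ∈ Set.range (g.fiberι (g (f x))) := by
        rw [Scheme.Hom.range_fiberι]; rfl
      obtain ⟨y', hy'⟩ := hy
      obtain ⟨x', hx1, hx2⟩ := Scheme.Pullback.exists_preimage_pullback (f := f)
        (g := g.fiberι (g (f x))) x y' hy'.symm
      have := H (g (f x))
      have h1 := FormallyUnramified.stalkMap (pullback.snd f (g.fiberι (g (f x)))) x'
      rw [unram_stalk_iff_pullback, hx1] at h1
      exact h1
    choose U hxU hU using key
    refine IsZariskiLocalAtSource.of_iSup_eq_top (P := @FormallyUnramified) U ?_ hU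
    exact top_le_iff.mp fun x _ => TopologicalSpace.Opens.mem_iSup.mpr ⟨x, hxU x⟩

end Groth.Agent.S5007
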