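import Groth.Statements.S5009
import Mathlib
import Groth.Agent.Lib.Helper18.StalkEtale

set_option autoImplicit false
set_option linter.style.haveILetI false
universe u
open CategoryTheory CategoryTheory.Limits AlgebraicGeometry TopologicalSpace
open Unram17

namespace Groth.Agent.S5009

lemma isLocalHom_of_surjective_of_sq_zero {B B' : Type u} [CommRing B] [CommRing B'] (φ : B' →+* B)
    (hφ : Function.Surjective φ) (hker : RingHom.ker φ ^ 2 = ⊥) : IsLocalHom φ := by
  constructor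
  intro b hb
  obtain ⟨c, hc⟩ := hb
  obtain ⟨b', hb'⟩ := hφ (c⁻¹ : Bˣ)
  have hmem : b * b' - 1 ∈ RingHom.ker φ := by
    rw [RingHom.mem_ker, map_sub, map_mul, hb', ← hc, map_one]
    simp
  have hnil : IsNilpotent (b * b' - 1) := by
    refine ⟨2, ?_⟩
    have : (b * b' - 1) ^ 2 ∈ RingHom.ker φ ^ 2 := Ideal.pow_mem_pow hmem 2
    rwa [hker] at this
  have hu : IsUnit (b * b') := by
    have := hnil.isUnit_add_one
    simpa using this
  exact isUnit_of_mul_isUnit_left hu

lemma exists_local_hom {X : Scheme.{u}} {R : CommRingCat.{u}} [IsLocalRing R] (γ : Spec R ⟶ X)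
    (x : X) (h : γ (IsLocalRing.closedPoint R) = x) :
    ∃ g : X.presheaf.stalk x ⟶ R, Spec.map g ≫ X.fromSpecStalk x = γ := by
  subst h
  exact ⟨_, Scheme.Spec_stalkClosedPointTo_fromSpecStalk γ⟩

lemma spec_map_fromSpecStalk_injective {X : Scheme.{u}} {R : CommRingCat.{u}} (x : X)
    {a a' : X.presheaf.stalk x ⟶ R}
    (h : Spec.map a ≫ X.fromSpecStalk x = Spec.map a' ≫ X.fromSpecStalk x) : a = a' := by
  have h2 := (cancel_mono (X.fromSpecStalk x)).mp h
  exact Spec.map_injective h2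

theorem forward {X Y : Scheme.{u}} (f : X ⟶ Y) (x : X)
    (hx : (f.stalkMap x).hom.FormallyUnramified)
    (B B' : Type u) [CommRing B] [CommRing B'] [IsLocalRing B] [IsLocalRing B'] (φ : B' →+* B)
    (hφ : Function.Surjective φ) (hker : RingHom.ker φ ^ 2 = ⊥)
    (α : Spec (CommRingCat.of B) ⟶ X) (β : Spec (CommRingCat.of B') ⟶ Y)
    (hα : α.base (IsLocalRing.closedPoint B) = x)
    (γ₁ γ₂ : Spec (CommRingCat.of B') ⟶ X)
    (h1 : Spec.map (CommRingCat.ofHom φ) ≫ γ₁ = α) (h1' : γ₁ ≫ f = β)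
    (h2 : Spec.map (CommRingCat.ofHom φ) ≫ γ₂ = α) (h2' : γ₂ ≫ f = β) : γ₁ = γ₂ := by
  haveI : IsLocalHom (CommRingCat.ofHom φ).hom := isLocalHom_of_surjective_of_sq_zero φ hφ hker
  have hcp : (Spec.map (CommRingCat.ofHom φ)) (IsLocalRing.closedPoint (CommRingCat.of B)) =
      IsLocalRing.closedPoint (CommRingCat.of B') := Spec_closedPoint
  have hγ₁ : γ₁ (IsLocalRing.closedPoint (CommRingCat.of B')) = x := by
    rw [← hcp, ← Scheme.Hom.comp_apply, h1]; exact hα
  have hγ₂ : γ₂ (IsLocalRing.closedPoint (CommRingCat.of B')) = x := by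
    rw [← hcp, ← Scheme.Hom.comp_apply, h2]; exact hα
  obtain ⟨g₁, rfl⟩ := exists_local_hom γ₁ x hγ₁
  obtain ⟨g₂, rfl⟩ := exists_local_hom γ₂ x hγ₂
  have e1 : g₁ ≫ CommRingCat.ofHom φ = g₂ ≫ CommRingCat.ofHom φ := by
    apply spec_map_fromSpecStalk_injective x
    rw [Spec.map_comp, Spec.map_comp, Category.assoc, Category.assoc, h1, h2]
  have e2 : f.stalkMap x ≫ g₁ = f.stalkMap x ≫ g₂ := by
    apply spec_map_fromSpecStalk_injective (f x)
    rw [Category.assoc] at h1' h2'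
    rw [Spec.map_comp, Spec.map_comp, Category.assoc, Category.assoc,
      Scheme.SpecMap_stalkMap_fromSpecStalk, h1', h2']
  algebraize [(f.stalkMap x).hom]
  letI : Algebra (Y.presheaf.stalk (f x)) B' := (g₁.hom.comp (f.stalkMap x).hom).toAlgebra
  let G₁ : X.presheaf.stalk x →ₐ[Y.presheaf.stalk (f x)] B' :=
    { g₁.hom with commutes' := fun r => rfl }
  let G₂ : X.presheaf.stalk x →ₐ[Y.presheaf.stalk (f x)] B' :=
    { g₂.hom with commutes' := fun r => (congr($(e2).hom r)).symm }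
  have : G₁ = G₂ := Algebra.FormallyUnramified.ext' φ ⟨2, hker⟩ G₁ G₂
    (fun t => congr($(e1).hom t))
  have hg : g₁ = g₂ := by
    ext t
    exact congr($this t)
  rw [hg]

open TensorProduct in
theorem backward {X Y : Scheme.{u}} (f : X ⟶ Y) (x : X)
    (H : ∀ (B B' : Type u) [CommRing B] [CommRing B'] [IsLocalRing B] [IsLocalRing B'] (φ : B' →+* B),
      Function.Surjective φ → RingHom.ker φ ^ 2 = ⊥ →
      ∀ (α : Spec (CommRingCat.of B) ⟶ X) (β : Spec (CommRingCat.of B') ⟶ Y),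
        α.base (IsLocalRing.closedPoint B) = x → Spec.map (CommRingCat.ofHom φ) ≫ β = α ≫ f →
        ∀ γ₁ γ₂ : Spec (CommRingCat.of B') ⟶ X,
          Spec.map (CommRingCat.ofHom φ) ≫ γ₁ = α → γ₁ ≫ f = β →
          Spec.map (CommRingCat.ofHom φ) ≫ γ₂ = α → γ₂ ≫ f = β → γ₁ = γ₂) :
    (f.stalkMap x).hom.FormallyUnramified := by
  algebraize [(f.stalkMap x).hom]
  rw [RingHom.FormallyUnramified]
  let m : (X.presheaf.stalk x) ⊗[Y.presheaf.stalk (f x)] (X.presheaf.stalk x)
      →ₐ[Y.presheaf.stalk (f x)] X.presheaf.stalk x :=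
    Algebra.TensorProduct.lmul' (Y.presheaf.stalk (f x))
  have hm : Function.Surjective m := fun c => ⟨c ⊗ₜ 1, by simp [m]⟩
  have hφ : Function.Surjective m.kerSquareLift :=
    Ideal.Quotient.lift_surjective_of_surjective _ _ hm
  have hker : RingHom.ker m.kerSquareLift.toRingHom ^ 2 = ⊥ := by
    rw [AlgHom.ker_kerSquareLift, Ideal.cotangentIdeal_square]
  haveI : IsLocalHom m.kerSquareLift.toRingHom :=
    isLocalHom_of_surjective_of_sq_zero _ hφ hker
  haveI : IsLocalRing (((X.presheaf.stalk x) ⊗[Y.presheaf.stalk (f x)] (X.presheaf.stalk x)) ⧸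
      RingHom.ker m.toRingHom ^ 2) := RingHom.domain_isLocalRing m.kerSquareLift.toRingHom
  let g₁ : X.presheaf.stalk x →ₐ[Y.presheaf.stalk (f x)]
      (((X.presheaf.stalk x) ⊗[Y.presheaf.stalk (f x)] (X.presheaf.stalk x)) ⧸
      RingHom.ker m.toRingHom ^ 2) :=
    (Ideal.Quotient.mkₐ _ _).comp Algebra.TensorProduct.includeLeft
  let g₂ : X.presheaf.stalk x →ₐ[Y.presheaf.stalk (f x)]
      (((X.presheaf.stalk x) ⊗[Y.presheaf.stalk (f x)] (X.presheaf.stalk x)) ⧸
      RingHom.ker m.toRingHom ^ 2) :=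
    (Ideal.Quotient.mkₐ _ _).comp Algebra.TensorProduct.includeRight
  have comm : Spec.map (CommRingCat.ofHom m.kerSquareLift.toRingHom) ≫
      (Spec.map (CommRingCat.ofHom (algebraMap (Y.presheaf.stalk (f x))
      (((X.presheaf.stalk x) ⊗[Y.presheaf.stalk (f x)] (X.presheaf.stalk x)) ⧸
      RingHom.ker m.toRingHom ^ 2))) ≫ Y.fromSpecStalk (f x)) = X.fromSpecStalk x ≫ f := by
    rw [← Scheme.SpecMap_stalkMap_fromSpecStalk, ← Spec.map_comp_assoc]
    congr 2
    ext r
    exact m.kerSquareLift.commutes r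
  have e1 : ∀ g : X.presheaf.stalk x →ₐ[Y.presheaf.stalk (f x)]
      (((X.presheaf.stalk x) ⊗[Y.presheaf.stalk (f x)] (X.presheaf.stalk x)) ⧸
      RingHom.ker m.toRingHom ^ 2), (Spec.map (CommRingCat.ofHom g.toRingHom) ≫ X.fromSpecStalk x) ≫ f =
      Spec.map (CommRingCat.ofHom (algebraMap (Y.presheaf.stalk (f x))
      (((X.presheaf.stalk x) ⊗[Y.presheaf.stalk (f x)] (X.presheaf.stalk x)) ⧸
      RingHom.ker m.toRingHom ^ 2))) ≫ Y.fromSpecStalk (f x) := by
    intro g
    rw [Category.assoc, ← Scheme.SpecMap_stalkMap_fromSpecStalk, ← Spec.map_comp_assoc]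
    congr 2
    ext r
    exact g.commutes r
  have e2 : ∀ g : X.presheaf.stalk x →ₐ[Y.presheaf.stalk (f x)]
      (((X.presheaf.stalk x) ⊗[Y.presheaf.stalk (f x)] (X.presheaf.stalk x)) ⧸
      RingHom.ker m.toRingHom ^ 2), (∀ c, m.kerSquareLift (g c) = c) →
      Spec.map (CommRingCat.ofHom m.kerSquareLift.toRingHom) ≫
        (Spec.map (CommRingCat.ofHom g.toRingHom) ≫ X.fromSpecStalk x) = X.fromSpecStalk x := by
    intro g hg
    rw [← Spec.map_comp_assoc]
    have : CommRingCat.ofHom g.toRingHom ≫ CommRingCat.ofHom m.kerSquareLift.toRingHom = 𝟙 _ := by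
      ext c
      exact hg c
    rw [this, Spec.map_id]
    exact Category.id_comp _
  have key := H (X.presheaf.stalk x) _ m.kerSquareLift.toRingHom hφ hker (X.fromSpecStalk x) _
    Scheme.fromSpecStalk_closedPoint comm
    (Spec.map (CommRingCat.ofHom g₁.toRingHom) ≫ X.fromSpecStalk x)
    (Spec.map (CommRingCat.ofHom g₂.toRingHom) ≫ X.fromSpecStalk x)
    (e2 g₁ (fun c => by
      change m.kerSquareLift (Ideal.Quotient.mk _ (c ⊗ₜ 1)) = c
      rw [AlgHom.kerSquareLift_mk]; simp [m])) (e1 g₁) (e2 g₂ (fun c => by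
      change m.kerSquareLift (Ideal.Quotient.mk _ (1 ⊗ₜ c)) = c
      rw [AlgHom.kerSquareLift_mk]; simp [m])) (e1 g₂)
  have hg : CommRingCat.ofHom g₁.toRingHom = CommRingCat.ofHom g₂.toRingHom :=
    spec_map_fromSpecStalk_injective x key
  have hD : ∀ c : X.presheaf.stalk x,
      KaehlerDifferential.D (Y.presheaf.stalk (f x)) (X.presheaf.stalk x) c = 0 := by
    intro c
    rw [KaehlerDifferential.D_apply]
    refine (Ideal.toCotangent_eq_zero _ _).mpr ?_
    have h3 : g₂ c = g₁ c := (congr($(hg).hom c)).symm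
    have h4 : Ideal.Quotient.mk (RingHom.ker m.toRingHom ^ 2) ((1 : X.presheaf.stalk x) ⊗ₜ c) =
        Ideal.Quotient.mk (RingHom.ker m.toRingHom ^ 2) (c ⊗ₜ (1 : X.presheaf.stalk x)) := h3
    rw [Ideal.Quotient.eq] at h4
    exact h4
  constructor
  have htop : (⊤ : Submodule (X.presheaf.stalk x)
      (Ω[X.presheaf.stalk x⁄Y.presheaf.stalk (f x)])) = ⊥ := by
    rw [← KaehlerDifferential.span_range_derivation, Submodule.span_eq_bot]
    rintro _ ⟨c, rfl⟩
    exact hD c
  exact (Submodule.subsingleton_iff _).mp (subsingleton_of_bot_eq_top htop.symm)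

/-- Let f : X ⟶ Y be locally of finite presentation and x a point of X. Then f is (formally) unramified
on an open neighbourhood of x if and only if for every surjection of local rings B' → B with
square-zero kernel, every morphism Spec B ⟶ X sending the closed point to x and every morphism Spec
B' ⟶ Y making the square commute, any two lifts Spec B' ⟶ X compatible with both are equal. -/
theorem result {X Y : Scheme.{u}} (f : X ⟶ Y)
    [LocallyOfFinitePresentation f] (x : ↥X) :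
    (∃ U : X.Opens, x ∈ U ∧ FormallyUnramified (U.ι ≫ f)) ↔
      ∀ (B B' : Type u) [CommRing B] [CommRing B'] [IsLocalRing B] [IsLocalRing B'] (φ : B' →+* B),
      Function.Surjective φ → RingHom.ker φ ^ 2 = ⊥ →
      ∀ (α : Spec (CommRingCat.of B) ⟶ X) (β : Spec (CommRingCat.of B') ⟶ Y),
        α.base (IsLocalRing.closedPoint B) = x → Spec.map (CommRingCat.ofHom φ) ≫ β = α ≫ f →
        ∀ γ₁ γ₂ : Spec (CommRingCat.of B') ⟶ X,
          Spec.map (CommRingCat.ofHom φ) ≫ γ₁ = α → γ₁ ≫ f = β →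
          Spec.map (CommRingCat.ofHom φ) ≫ γ₂ = α → γ₂ ≫ f = β → γ₁ = γ₂ := by
  rw [H18Stalk.exists_unramified_nhd_iff]
  exact ⟨fun hx B B' _ _ _ _ φ hφ hker α β hα _ γ₁ γ₂ h1 h1' h2 h2' =>
    forward f x hx B B' φ hφ hker α β hα γ₁ γ₂ h1 h1' h2 h2', fun H => backward f x H⟩

end Groth.Agent.S5009
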