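import Groth.Statements.S5010
import Groth.Agent.LibPP29i
import Groth.Agent.S2808
import Groth.Agent.S3816
import Mathlib.RingTheory.Etale.Kaehler
import Mathlib.RingTheory.Kaehler.Polynomial
import Mathlib.RingTheory.Smooth.Basic
-- import your own Groth.Agent.* helpers here

set_option autoImplicit false
universe u
open PP16

namespace Groth.Agent.S5010

/-- Let k be a field and K the field of fractions of the polynomial ring k[T_1, ..., T_r]. For every n,
the K-algebra map from the polynomial ring K[U_1, ..., U_r] to the ring of principal parts of order
n of K over k (a K-algebra through the first factor) that sends U_i to d^n(T_i) − T_i · 1 is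
surjective, and its kernel is the (n+1)-st power of the ideal generated by the U_i. -/
theorem result (k : Type u) [Field k] (r n : ℕ) :
    Function.Surjective
        (MvPolynomial.aeval (R := FractionRing (MvPolynomial (Fin r) k))
          (S₁ := PP16.P n k (FractionRing (MvPolynomial (Fin r) k)))
          (fun i : Fin r =>
            PP16.dn n k (FractionRing (MvPolynomial (Fin r) k))
                (algebraMap (MvPolynomial (Fin r) k) (FractionRing (MvPolynomial (Fin r) k)) (MvPolynomial.X i)) -
              algebraMap (FractionRing (MvPolynomial (Fin r) k)) (PP16.P n k (FractionRing (MvPolynomial (Fin r) k)))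
                (algebraMap (MvPolynomial (Fin r) k) (FractionRing (MvPolynomial (Fin r) k)) (MvPolynomial.X i)))) ∧
      RingHom.ker
          (MvPolynomial.aeval (R := FractionRing (MvPolynomial (Fin r) k))
            (S₁ := PP16.P n k (FractionRing (MvPolynomial (Fin r) k)))
            (fun i : Fin r =>
              PP16.dn n k (FractionRing (MvPolynomial (Fin r) k))
                  (algebraMap (MvPolynomial (Fin r) k) (FractionRing (MvPolynomial (Fin r) k)) (MvPolynomial.X i)) -
                algebraMap (FractionRing (MvPolynomial (Fin r) k)) (PP16.P n k (FractionRing (MvPolynomial (Fin r) k)))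
                  (algebraMap (MvPolynomial (Fin r) k) (FractionRing (MvPolynomial (Fin r) k)) (MvPolynomial.X i)))).toRingHom =
        (Ideal.span (Set.range (MvPolynomial.X : Fin r → MvPolynomial (Fin r) (FractionRing (MvPolynomial (Fin r) k))))) ^ (n + 1) := by
  classical
  set R := MvPolynomial (Fin r) k with hR
  set K := FractionRing R with hK
  set z : Fin r → K := fun i => algebraMap R K (MvPolynomial.X i) with hz'
  haveI : Algebra.FormallySmooth R K := Algebra.FormallySmooth.of_isLocalization (nonZeroDivisors R)
  haveI : Algebra.FormallySmooth k K := Algebra.FormallySmooth.comp k R K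
  let b0 := KaehlerDifferential.mvPolynomialBasis k (Fin r)
  let b : Module.Basis (Fin r) K (KaehlerDifferential k K) :=
    b0.ofIsLocalizedModule K (nonZeroDivisors R) (KaehlerDifferential.map k k R K)
  have hb : ∀ i, b i = KaehlerDifferential.D k K (z i) := by
    intro i
    rw [Module.Basis.ofIsLocalizedModule_apply, KaehlerDifferential.mvPolynomialBasis_apply,
      KaehlerDifferential.map_D]
  obtain ⟨Dp, ⟨hD, hDz⟩, -⟩ := Groth.Agent.S2808.result k K r z ⟨b, hb⟩
  have hz : Submodule.span K (Set.range fun i => KaehlerDifferential.D k K (z i)) = ⊤ := by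
    rw [← b.span_eq]
    congr 1
    ext x
    simp [hb]
  obtain ⟨hB, b', hb'⟩ := (Groth.Agent.S3816.result k K (Fin r) z hz).2
    ⟨Dp, fun p => ⟨_, hD p⟩, hDz⟩
  obtain ⟨bm, hbm⟩ := Groth.Agent.LibPP29.exists_basis_P z hB b' hb' n
  exact Groth.Agent.LibPP29.evz_surjective_and_ker z n bm hbm

end Groth.Agent.S5010
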