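import Groth.Statements.S5011
import Mathlib
import Groth.Agent.Lib.Helper18.StalkEtale

set_option autoImplicit false
universe u
open CategoryTheory CategoryTheory.Limits AlgebraicGeometry TopologicalSpace
open Unram17

namespace Groth.Agent.S5011

open IsLocalRing H18Stalk

/-- Transport of finiteness/separability between the quotient-map algebra on `B ⧸ J` (for
`J = m_B`) and the residue field algebra. -/
theorem transport {A B : Type u} [CommRing A] [CommRing B] [IsLocalRing A] [IsLocalRing B]
    [Algebra A B] [IsLocalHom (algebraMap A B)]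
    (J : Ideal B) (hJ : J = maximalIdeal B) (hle : maximalIdeal A ≤ J.comap (algebraMap A B)) :
    letI := (Ideal.quotientMap J (algebraMap A B) hle).toAlgebra
    (Module.Finite (A ⧸ maximalIdeal A) (B ⧸ J) ↔ Module.Finite (ResidueField A) (ResidueField B)) ∧
    (Algebra.IsSeparable (A ⧸ maximalIdeal A) (B ⧸ J) ↔
      Algebra.IsSeparable (ResidueField A) (ResidueField B)) := by
  subst hJ
  have h : (Ideal.quotientMap (maximalIdeal B) (algebraMap A B) hle).toAlgebra =
      (inferInstance : Algebra (ResidueField A) (ResidueField B)) := by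
    refine Algebra.algebra_ext _ _ fun x ↦ ?_
    obtain ⟨x, rfl⟩ := Ideal.Quotient.mk_surjective x
    rfl
  rw [h]
  exact ⟨Iff.rfl, Iff.rfl⟩

/-- Local criterion: a local homomorphism essentially of finite type is formally unramified iff
`B / m_A B` is a finite separable field extension of `A / m_A`. -/
theorem local_unram_iff {A B : Type u} [CommRing A] [CommRing B] [IsLocalRing A] [IsLocalRing B]
    [Algebra A B] [IsLocalHom (algebraMap A B)] [Algebra.EssFiniteType A B] :
    letI := (Ideal.quotientMap ((maximalIdeal A).map (algebraMap A B)) (algebraMap A B)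
        Ideal.le_comap_map).toAlgebra
    (IsField (B ⧸ (maximalIdeal A).map (algebraMap A B)) ∧
        Module.Finite (A ⧸ maximalIdeal A) (B ⧸ (maximalIdeal A).map (algebraMap A B)) ∧
        Algebra.IsSeparable (A ⧸ maximalIdeal A) (B ⧸ (maximalIdeal A).map (algebraMap A B))) ↔
      Algebra.FormallyUnramified A B := by
  constructor
  · rintro ⟨h1, h2, h3⟩
    have hmax : ((maximalIdeal A).map (algebraMap A B)).IsMaximal :=
      Ideal.Quotient.maximal_of_isField _ h1
    have hJ : (maximalIdeal A).map (algebraMap A B) = maximalIdeal B :=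
      IsLocalRing.eq_maximalIdeal hmax
    have := (transport _ hJ Ideal.le_comap_map).2.mp h3
    exact Algebra.FormallyUnramified.iff_map_maximalIdeal_eq.mpr ⟨this, hJ⟩
  · intro h
    have hJ : (maximalIdeal A).map (algebraMap A B) = maximalIdeal B :=
      Algebra.FormallyUnramified.map_maximalIdeal
    have hmax : ((maximalIdeal A).map (algebraMap A B)).IsMaximal := by
      rw [hJ]; infer_instance
    refine ⟨(Ideal.Quotient.maximal_ideal_iff_isField_quotient _).mp hmax,
      (transport _ hJ Ideal.le_comap_map).1.mpr inferInstance,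
      (transport _ hJ Ideal.le_comap_map).2.mpr inferInstance⟩

/-- Let f : X ⟶ Y be locally of finite presentation. Then f is etale if and only if f is flat and, for
every point x of X with image y, the quotient of the local ring of X at x by the extension of the
maximal ideal of the local ring of Y at y is a field, finite and separable over the residue field
κ(y); that is, every fibre of f is a sum of spectra of finite separable extensions of the residue
field. -/
theorem result {X Y : Scheme.{u}} (f : X ⟶ Y)
    [LocallyOfFinitePresentation f] :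
    Etale f ↔ Flat f ∧ ∀ x : ↥X,
      letI φ := (f.stalkMap x).hom
      letI 𝔪 := IsLocalRing.maximalIdeal ↑(Y.presheaf.stalk (f.base x))
      letI := (Ideal.quotientMap (𝔪.map φ) φ Ideal.le_comap_map).toAlgebra
      IsField (↑(X.presheaf.stalk x) ⧸ 𝔪.map φ) ∧
        Module.Finite (↑(Y.presheaf.stalk (f.base x)) ⧸ 𝔪) (↑(X.presheaf.stalk x) ⧸ 𝔪.map φ) ∧
        Algebra.IsSeparable (↑(Y.presheaf.stalk (f.base x)) ⧸ 𝔪) (↑(X.presheaf.stalk x) ⧸ 𝔪.map φ) := by
  have key : ∀ x : X, letI φ := (f.stalkMap x).hom
      letI 𝔪 := IsLocalRing.maximalIdeal ↑(Y.presheaf.stalk (f.base x))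
      letI := (Ideal.quotientMap (𝔪.map φ) φ Ideal.le_comap_map).toAlgebra
      (IsField (↑(X.presheaf.stalk x) ⧸ 𝔪.map φ) ∧
        Module.Finite (↑(Y.presheaf.stalk (f.base x)) ⧸ 𝔪) (↑(X.presheaf.stalk x) ⧸ 𝔪.map φ) ∧
        Algebra.IsSeparable (↑(Y.presheaf.stalk (f.base x)) ⧸ 𝔪) (↑(X.presheaf.stalk x) ⧸ 𝔪.map φ)) ↔
      (f.stalkMap x).hom.FormallyUnramified := by
    intro x
    algebraize [(f.stalkMap x).hom]
    have : IsLocalHom (algebraMap (Y.presheaf.stalk (f x)) (X.presheaf.stalk x)) :=
      inferInstanceAs <| IsLocalHom (f.stalkMap x).hom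
    have : Algebra.EssFiniteType (Y.presheaf.stalk (f x)) (X.presheaf.stalk x) := by
      rw [← RingHom.essFiniteType_algebraMap, RingHom.algebraMap_toAlgebra]
      exact LocallyOfFiniteType.stalkMap f x
    have h0 : (f.stalkMap x).hom.FormallyUnramified ↔
        Algebra.FormallyUnramified (Y.presheaf.stalk (f x)) (X.presheaf.stalk x) := by
      rw [← RingHom.formallyUnramified_algebraMap, RingHom.algebraMap_toAlgebra]
    rw [h0]
    exact local_unram_iff (A := Y.presheaf.stalk (f x)) (B := X.presheaf.stalk x)
  simp only [key]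
  rw [Etale.iff_flat_and_formallyUnramified]
  constructor
  · rintro ⟨h1, h2, -⟩
    exact ⟨h1, fun x => FormallyUnramified.stalkMap f x⟩
  · rintro ⟨h1, h2⟩
    refine ⟨h1, ?_, inferInstance⟩
    have hnhd : ∀ x : X, ∃ U : X.Opens, x ∈ U ∧ FormallyUnramified (U.ι ≫ f) := fun x =>
      (exists_unramified_nhd_iff f x).mpr (h2 x)
    choose U hxU hU using hnhd
    refine IsZariskiLocalAtSource.of_iSup_eq_top (P := @FormallyUnramified) U ?_ hU
    exact top_le_iff.mp fun x _ => TopologicalSpace.Opens.mem_iSup.mpr ⟨x, hxU x⟩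

end Groth.Agent.S5011
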