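import Groth.Statements.S5012
import Mathlib
import Groth.Agent.Lib.Helper24.SmoothRegular
import Groth.Agent.Lib.Helper15.Regular
import Groth.Agent.Lib.Helper17.SmoothArtin

set_option autoImplicit false
universe u
open Unram17

namespace Groth.Agent.S5012

section aux

variable (k A : Type u) [Field k] [CommRing A] [Algebra k A] [Algebra.FiniteType k A]

theorem smoothAt_iff_geomRed (p : Ideal A) [p.IsPrime] (hp : p ∈ minimalPrimes A) :
    Algebra.IsSmoothAt k p ↔ Algebra.IsGeometricallyReduced k (Localization.AtPrime p) := by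
  haveI : IsNoetherianRing A := Algebra.FiniteType.isNoetherianRing k A
  haveI : Algebra.FinitePresentation k A :=
    Algebra.FinitePresentation.of_finiteType.mp inferInstance
  have hdim : ringKrullDim (Localization.AtPrime p) ≤ ((0 : ℕ) : WithBot ℕ∞) := by
    rw [IsLocalization.AtPrime.ringKrullDim_eq_height p (Localization.AtPrime p),
      Ideal.height_eq_zero_iff.mpr hp]
    rfl
  haveI : Ring.KrullDimLE 0 (Localization.AtPrime p) := Ring.krullDimLE_iff.mpr hdim
  haveI : IsArtinianRing (Localization.AtPrime p) :=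
    isArtinianRing_iff_krullDimLE_zero.mpr inferInstance
  constructor
  · intro h
    haveI : Algebra.IsSmoothAt k p := h
    haveI hreg : IsRegularLocalRing (Localization.AtPrime p) :=
      Groth.Agent.Lib.Helper24.SmoothRegular.isRegularLocalRing_atPrime_of_smoothAt k A p
    haveI hdom : IsDomain (Localization.AtPrime p) :=
      Groth.Agent.Lib.helper15.isDomain_of_isRegularLocalRing _
    have hfield : IsField (Localization.AtPrime p) :=
      IsArtinianRing.isField_of_isReduced_of_isLocalRing _
    letI : Field (Localization.AtPrime p) := hfield.toField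
    haveI : Algebra.FormallySmooth k (Localization.AtPrime p) := h
    exact Groth.Agent.Lib.helper17.SmoothArtin.isGeometricallyReduced_of_formallySmooth
  · intro h
    haveI := h
    haveI : IsReduced (Localization.AtPrime p) :=
      Algebra.isReduced_of_isGeometricallyReduced k
    have hfield : IsField (Localization.AtPrime p) :=
      IsArtinianRing.isField_of_isReduced_of_isLocalRing _
    letI : Field (Localization.AtPrime p) := hfield.toField
    exact Groth.Agent.Lib.helper17.FieldLift.formallySmooth_of_isGeometricallyReduced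

omit [Algebra.FiniteType k A] [Algebra k A] [Field k] in
theorem dense_of_minimalPrimes_mem (U : Set (PrimeSpectrum A)) (hU : IsOpen U)
    (h : ∀ (p : Ideal A) (hp : p.IsPrime), p ∈ minimalPrimes A → (⟨p, hp⟩ : PrimeSpectrum A) ∈ U) :
    Dense U := by
  rw [dense_iff_inter_open]
  rintro W hW ⟨x, hx⟩
  obtain ⟨p₀, hp₀, hle⟩ := Ideal.exists_minimalPrimes_le (bot_le : (⊥ : Ideal A) ≤ x.asIdeal)
  have hp₀prime : p₀.IsPrime := hp₀.1.1
  have hspec : (⟨p₀, hp₀prime⟩ : PrimeSpectrum A) ⤳ x :=
    (PrimeSpectrum.le_iff_specializes _ x).mp hle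
  exact ⟨⟨p₀, hp₀prime⟩, hspec.mem_open hW hx, h p₀ hp₀prime hp₀⟩

omit [Algebra.FiniteType k A] [Algebra k A] [Field k] in
theorem minimalPrime_mem_of_dense [IsNoetherianRing A] (U : Set (PrimeSpectrum A))
    (hU : IsOpen U) (hd : Dense U) (p : Ideal A) [hp' : p.IsPrime] (hp : p ∈ minimalPrimes A) :
    (⟨p, hp'⟩ : PrimeSpectrum A) ∈ U := by
  classical
  set F := (minimalPrimes.finite_of_isNoetherianRing A).toFinset.erase p with hF
  have hex : ∀ p' : Ideal A, p' ∈ F → ∃ x : A, x ∈ p' ∧ x ∉ p := by
    intro p' hp'F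
    rw [hF, Finset.mem_erase, Set.Finite.mem_toFinset] at hp'F
    obtain ⟨hne, hmin⟩ := hp'F
    by_contra hcon
    push_neg at hcon
    have hle : p' ≤ p := fun x hx => hcon x hx
    have hle2 : p ≤ p' := hp.2 ⟨hmin.1.1, bot_le⟩ hle
    exact hne (le_antisymm hle hle2)
  choose! xs hxs1 hxs2 using hex
  set g := ∏ p' ∈ F, xs p' with hg
  have hgp : g ∉ p := by
    rw [hg, Ideal.IsPrime.prod_mem_iff]
    rintro ⟨p', hp'F, hx⟩
    exact hxs2 p' hp'F hx
  have hgF : ∀ p' ∈ F, g ∈ p' := by
    intro p' hp'F
    rw [hg, ← Finset.mul_prod_erase F xs hp'F]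
    exact Ideal.mul_mem_right _ _ (hxs1 p' hp'F)
  have hWne : (↑(PrimeSpectrum.basicOpen g) ∩ U).Nonempty := by
    refine dense_iff_inter_open.mp hd _ (PrimeSpectrum.basicOpen g).isOpen ⟨⟨p, hp'⟩, ?_⟩
    exact hgp
  obtain ⟨x, hxg, hxU⟩ := hWne
  have hxg' : g ∉ x.asIdeal := hxg
  obtain ⟨p₀, hp₀, hle⟩ := Ideal.exists_minimalPrimes_le (bot_le : (⊥ : Ideal A) ≤ x.asIdeal)
  have hp₀eq : p₀ = p := by
    by_contra hne
    have hp₀F : p₀ ∈ F := by
      rw [hF, Finset.mem_erase, Set.Finite.mem_toFinset]
      exact ⟨hne, hp₀⟩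
    exact hxg' (hle (hgF p₀ hp₀F))
  subst hp₀eq
  have hspec : (⟨p₀, hp'⟩ : PrimeSpectrum A) ⤳ x :=
    (PrimeSpectrum.le_iff_specializes _ x).mp hle
  exact hspec.mem_open hU hxU

end aux



/-- Let A be an algebra of finite type over a field k. Then Spec A has a dense open subset consisting of
points at which A is smooth over k if and only if, for every minimal prime p of A, the local ring
A_p is geometrically reduced over k (that is, A_p is a field and a separable extension of k). -/
theorem result (k A : Type u) [Field k] [CommRing A] [Algebra k A]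
    [Algebra.FiniteType k A] :
    (∃ U : TopologicalSpace.Opens (PrimeSpectrum A), Dense (U : Set (PrimeSpectrum A)) ∧
        ∀ p ∈ U, Algebra.IsSmoothAt k p.asIdeal) ↔
      ∀ (p : Ideal A) [p.IsPrime], p ∈ minimalPrimes A →
        Algebra.IsGeometricallyReduced k (Localization.AtPrime p) := by
  haveI : IsNoetherianRing A := Algebra.FiniteType.isNoetherianRing k A
  haveI : Algebra.FinitePresentation k A :=
    Algebra.FinitePresentation.of_finiteType.mp inferInstance
  constructor
  · rintro ⟨U, hd, hU⟩ p hp' hp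
    have hmem : (⟨p, hp'⟩ : PrimeSpectrum A) ∈ (U : Set (PrimeSpectrum A)) :=
      minimalPrime_mem_of_dense A U U.isOpen hd p hp
    exact (smoothAt_iff_geomRed k A p hp).mp (hU ⟨p, hp'⟩ hmem)
  · intro h
    refine ⟨⟨Algebra.smoothLocus k A, Algebra.isOpen_smoothLocus⟩, ?_, fun p hp => hp⟩
    refine dense_of_minimalPrimes_mem A _ Algebra.isOpen_smoothLocus ?_
    intro p hp' hp
    haveI := hp'
    exact (smoothAt_iff_geomRed k A p hp).mpr (h p hp)


end Groth.Agent.S5012
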