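import Groth.Statements.S5014
import Mathlib
import Groth.Agent.S2789

set_option autoImplicit false
set_option linter.style.haveILetI false
universe u
open Unram17

namespace Groth.Agent.S5014

/-- Let C be a smooth algebra over a commutative ring A, equipped with an A-algebra map from the
polynomial ring in r variables (images s_i of the variables), and let q be a prime of C. Then C is
etale at q over the polynomial ring if and only if the differentials of the s_i are linearly
independent and generate the module of differentials of the local ring C_q over A, i.e. form a basis
of it. -/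
theorem result (A C : Type u) [CommRing A] [CommRing C]
    [Algebra A C] [Algebra.Smooth A C] (r : ℕ) [Algebra (MvPolynomial (Fin r) A) C]
    [IsScalarTower A (MvPolynomial (Fin r) A) C] (q : Ideal C) [q.IsPrime] :
    Algebra.IsEtaleAt (MvPolynomial (Fin r) A) q ↔
      LinearIndependent (Localization.AtPrime q)
          (fun i : Fin r => KaehlerDifferential.D A (Localization.AtPrime q)
            (algebraMap C (Localization.AtPrime q) (algebraMap (MvPolynomial (Fin r) A) C (MvPolynomial.X i)))) ∧
        Submodule.span (Localization.AtPrime q)
          (Set.range fun i : Fin r => KaehlerDifferential.D A (Localization.AtPrime q)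
            (algebraMap C (Localization.AtPrime q) (algebraMap (MvPolynomial (Fin r) A) C (MvPolynomial.X i)))) = ⊤ := by
  classical
  haveI : Algebra.FinitePresentation A C := Algebra.Smooth.finitePresentation
  haveI hsm : Algebra.IsSmoothAt A q := by
    haveI : Algebra.FormallySmooth A C := Algebra.Smooth.formallySmooth
    haveI : Algebra.FormallySmooth C (Localization.AtPrime q) :=
      Algebra.FormallySmooth.of_isLocalization q.primeCompl
    exact Algebra.FormallySmooth.comp A C (Localization.AtPrime q)
  have h1 := Groth.Agent.S2789.result A (MvPolynomial (Fin r) A) C q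
  have h2 : Algebra.IsEtaleAt (MvPolynomial (Fin r) A) q ↔ Function.Bijective
      (KaehlerDifferential.mapBaseChange A (MvPolynomial (Fin r) A) (Localization.AtPrime q)) :=
    ⟨fun h => (h1.mp ⟨h, hsm⟩).2, fun h => (h1.mpr ⟨hsm, h⟩).1⟩
  rw [h2]
  -- the basis of the base change
  let b : Module.Basis (Fin r) (Localization.AtPrime q)
      (TensorProduct (MvPolynomial (Fin r) A) (Localization.AtPrime q)
        (KaehlerDifferential A (MvPolynomial (Fin r) A))) :=
    Algebra.TensorProduct.basis (Localization.AtPrime q) (KaehlerDifferential.mvPolynomialBasis A (Fin r))
  have hb : ∀ i, KaehlerDifferential.mapBaseChange A (MvPolynomial (Fin r) A) (Localization.AtPrime q) (b i) =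
      KaehlerDifferential.D A (Localization.AtPrime q)
        (algebraMap C (Localization.AtPrime q) (algebraMap (MvPolynomial (Fin r) A) C (MvPolynomial.X i))) := by
    intro i
    simp only [b, Algebra.TensorProduct.basis_apply, KaehlerDifferential.mvPolynomialBasis_apply,
      KaehlerDifferential.mapBaseChange_tmul, KaehlerDifferential.map_D, one_smul]
    rw [← IsScalarTower.algebraMap_apply]
  constructor
  · intro hbij
    let e := LinearEquiv.ofBijective _ hbij
    have hb' : ∀ i, (b.map e) i = KaehlerDifferential.D A (Localization.AtPrime q)
        (algebraMap C (Localization.AtPrime q) (algebraMap (MvPolynomial (Fin r) A) C (MvPolynomial.X i))) :=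
      fun i => by rw [Module.Basis.map_apply]; exact hb i
    have hfun : (fun i : Fin r => KaehlerDifferential.D A (Localization.AtPrime q)
        (algebraMap C (Localization.AtPrime q)
          (algebraMap (MvPolynomial (Fin r) A) C (MvPolynomial.X i)))) = ⇑(b.map e) :=
      funext fun i => (hb' i).symm
    rw [hfun]
    exact ⟨(b.map e).linearIndependent, (b.map e).span_eq⟩
  · rintro ⟨hli, hsp⟩
    let b' := Module.Basis.mk hli hsp.ge
    have : KaehlerDifferential.mapBaseChange A (MvPolynomial (Fin r) A) (Localization.AtPrime q) =
        (b.equiv b' (Equiv.refl _)).toLinearMap := by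
      apply b.ext
      intro i
      rw [hb i]
      simp [b']
    rw [this]
    exact (b.equiv b' (Equiv.refl _)).bijective

end Groth.Agent.S5014
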