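import Groth.Statements.S5017
import Groth.Agent.Lib.Helper5.ConsMono1
import Mathlib

set_option autoImplicit false
universe u
open CategoryTheory CategoryTheory.Limits AlgebraicGeometry TopologicalSpace
open Unram17

namespace Groth.Agent.S5017

open IsLocalRing in
theorem alg_key {R S : Type u} [CommRing R] [CommRing S] [IsLocalRing R] [IsLocalRing S]
    [Algebra R S] [IsLocalHom (algebraMap R S)] [Algebra.EssFiniteType R S] :
    (Algebra.FormallyUnramified R S ∧ IsPurelyInseparable (ResidueField R) (ResidueField S)) ↔
      Function.Bijective (Ideal.quotientMap ((maximalIdeal R).map (algebraMap R S))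
        (algebraMap R S) Ideal.le_comap_map) := by
  have hle : (maximalIdeal R).map (algebraMap R S) ≤ maximalIdeal S :=
    ((local_hom_TFAE (algebraMap R S)).out 0 2 rfl rfl).mp ‹_›
  have hinj : Function.Injective (Ideal.quotientMap ((maximalIdeal R).map (algebraMap R S))
        (algebraMap R S) Ideal.le_comap_map) := by
    apply Ideal.quotientMap_injective'
    intro r hr
    have h1 : algebraMap R S r ∈ maximalIdeal S := hle hr
    rw [mem_maximalIdeal, mem_nonunits_iff] at h1 ⊢
    intro hu
    exact h1 (hu.map _)
  constructor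
  · rintro ⟨hFU, hPI⟩
    have hH : (maximalIdeal R).map (algebraMap R S) = maximalIdeal S :=
      Algebra.FormallyUnramified.map_maximalIdeal
    have hsurj : Function.Surjective (algebraMap (ResidueField R) (ResidueField S)) :=
      IsPurelyInseparable.surjective_algebraMap_of_isSeparable _ _
    refine ⟨hinj, fun y => ?_⟩
    obtain ⟨s, rfl⟩ := Ideal.Quotient.mk_surjective y
    obtain ⟨rb, hrb⟩ := hsurj (residue S s)
    obtain ⟨r, rfl⟩ := residue_surjective rb
    refine ⟨Ideal.Quotient.mk _ r, ?_⟩
    rw [Ideal.quotientMap_mk]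
    rw [Ideal.Quotient.eq, hH]
    have h2 : residue S (algebraMap R S r) = residue S s := hrb
    rw [← Ideal.Quotient.eq]
    exact h2
  · intro hbij
    have hH : (maximalIdeal R).map (algebraMap R S) = maximalIdeal S := by
      refine le_antisymm hle fun s hs => ?_
      obtain ⟨rb, hrb⟩ := hbij.2 (Ideal.Quotient.mk _ s)
      obtain ⟨r, rfl⟩ := Ideal.Quotient.mk_surjective rb
      rw [Ideal.quotientMap_mk, Ideal.Quotient.eq] at hrb
      have h1 : algebraMap R S r ∈ maximalIdeal S := by
        have := (maximalIdeal S).add_mem (hle hrb) hs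
        simpa using this
      have h2 : r ∈ maximalIdeal R := by
        rw [mem_maximalIdeal, mem_nonunits_iff] at h1 ⊢
        intro hu
        exact h1 (hu.map _)
      have h3 : algebraMap R S r ∈ (maximalIdeal R).map (algebraMap R S) :=
        Ideal.mem_map_of_mem _ h2
      have := Ideal.sub_mem _ h3 hrb
      simpa using this
    have hsurj : Function.Surjective (algebraMap (ResidueField R) (ResidueField S)) := by
      intro y
      obtain ⟨s, rfl⟩ := residue_surjective y
      obtain ⟨rb, hrb⟩ := hbij.2 (Ideal.Quotient.mk _ s)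
      obtain ⟨r, rfl⟩ := Ideal.Quotient.mk_surjective rb
      rw [Ideal.quotientMap_mk, Ideal.Quotient.eq, hH] at hrb
      refine ⟨residue R r, ?_⟩
      show residue S (algebraMap R S r) = residue S s
      exact Ideal.Quotient.eq.mpr hrb
    have hsep : Algebra.IsSeparable (ResidueField R) (ResidueField S) :=
      ⟨fun x => by obtain ⟨k, rfl⟩ := hsurj x; exact isSeparable_algebraMap k⟩
    refine ⟨Algebra.FormallyUnramified.of_map_maximalIdeal hH, ?_⟩
    rw [isPurelyInseparable_iff]
    intro x
    obtain ⟨k, rfl⟩ := hsurj x
    exact ⟨isIntegral_algebraMap, fun _ => ⟨k, rfl⟩⟩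

open IsLocalRing in
theorem ring_key {R S : Type u} [CommRing R] [CommRing S] [IsLocalRing R] [IsLocalRing S]
    (φ : R →+* S) [IsLocalHom φ] (hφ : φ.EssFiniteType) :
    (φ.FormallyUnramified ∧ (IsLocalRing.ResidueField.map φ).IsPurelyInseparable) ↔
      Function.Bijective (Ideal.quotientMap ((maximalIdeal R).map φ) φ Ideal.le_comap_map) := by
  algebraize [φ]
  have hloc : IsLocalHom (algebraMap R S) := ‹IsLocalHom φ›
  have hmapeq : IsLocalRing.ResidueField.map φ =
      algebraMap (ResidueField R) (ResidueField S) := by
    refine RingHom.ext fun x => ?_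
    obtain ⟨r, rfl⟩ := residue_surjective x
    rfl
  rw [hmapeq, RingHom.isPurelyInseparable_algebraMap_iff]
  exact alg_key (R := R) (S := S)


/-- Let f : X ⟶ Y be locally of finite type. Then f is a monomorphism if and only if, for every point x
of X with image y, x is the only point of its fibre and the canonical map from the residue field
κ(y) to the quotient of the local ring of X at x by the extension of the maximal ideal at y is
bijective (each nonempty fibre is Spec κ(y)). -/
theorem result {X Y : Scheme.{u}} (f : X ⟶ Y) [LocallyOfFiniteType f] :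
    Mono f ↔ ∀ x : ↥X,
      (∀ x' : ↥X, f.base x' = f.base x → x' = x) ∧
        Function.Bijective
          (Ideal.quotientMap
            ((IsLocalRing.maximalIdeal ↑(Y.presheaf.stalk (f.base x))).map (f.stalkMap x).hom)
            (f.stalkMap x).hom Ideal.le_comap_map) := by
  have hUI : UniversallyInjective f ↔
      Function.Injective f ∧ ∀ x, (f.residueFieldMap x).hom.IsPurelyInseparable :=
    (tfae_universallyInjective f).out 0 2
  rw [Groth.Agent.Lib.helper5.ConsMono.mono_iff f, hUI,
    Groth.Agent.Lib.helper5.ConsMono.formallyUnramified_iff_forall_unrAt]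
  constructor
  · rintro ⟨⟨hinj, hpi⟩, hun⟩ x
    refine ⟨fun x' h => hinj h, ?_⟩
    exact (ring_key (f.stalkMap x).hom (LocallyOfFiniteType.stalkMap f x)).mp
      ⟨(Groth.Agent.Lib.helper5.UnramLocus.unrAt_iff_stalk f x).mp (hun x), hpi x⟩
  · intro h
    refine ⟨⟨fun a b hab => (h b).1 a hab, fun x => ?_⟩, fun x => ?_⟩
    · exact ((ring_key (f.stalkMap x).hom (LocallyOfFiniteType.stalkMap f x)).mpr (h x).2).2
    · exact (Groth.Agent.Lib.helper5.UnramLocus.unrAt_iff_stalk f x).mpr
        ((ring_key (f.stalkMap x).hom (LocallyOfFiniteType.stalkMap f x)).mpr (h x).2).1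

end Groth.Agent.S5017
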