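import Groth.Statements.S5018
import Groth.Agent.Lib.Helper7.FSmoothHom
import Groth.Agent.Lib.Helper7.OmegaStruct
import Groth.Agent.Lib.Helper7.OmegaQCoh
import Groth.Agent.Lib.Helper16.FLF8

set_option autoImplicit false
universe u
open CategoryTheory CategoryTheory.Limits AlgebraicGeometry TopologicalSpace
open Unram17

namespace Groth.Agent.S5018

/-- Let f : X ⟶ Y be formally smooth and locally of finite type, and let (Ω', d) be a sheaf of
differentials of X over Y, i.e. d a universal Y-derivation of O_X into Ω'. Then Ω' is finite locally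
free. (The published statement also shows that the sheaf of differentials is locally projective for
every formally smooth f; this row states only the case of f locally of finite type.) -/
theorem result {X Y : Scheme.{u}} (f : X ⟶ Y)
    (hf : MoreMor.IsFormallySmoothHom f) [LocallyOfFiniteType f]
    (Ω' : X.Modules) (d : OmegaSh.Der f Ω') (hd : OmegaSh.IsUniversal d) :
    FlatMod.IsFinLocFree Ω' := by
  haveI : Ω'.IsQuasicoherent :=
    Groth.Agent.Lib.helper7.OmegaQCoh.isQuasicoherent_of_isUniversal f d hd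
  let ι := {t : X.affineOpens × Y.affineOpens // t.1.1 ≤ f ⁻¹ᵁ t.2.1}
  have hcov : ⨆ t : ι, t.1.1.1 = ⊤ := by
    rw [eq_top_iff]
    intro x _
    obtain ⟨V, hV, hxV, -⟩ := TopologicalSpace.Opens.isBasis_iff_nbhd.mp Y.isBasis_affineOpens
      (show f x ∈ (⊤ : Y.Opens) from trivial)
    obtain ⟨U, hU, hxU, hUV⟩ := TopologicalSpace.Opens.isBasis_iff_nbhd.mp X.isBasis_affineOpens
      (show x ∈ f ⁻¹ᵁ V from hxV)
    exact TopologicalSpace.Opens.mem_iSup.mpr ⟨⟨(⟨U, hU⟩, ⟨V, hV⟩), hUV⟩, hxU⟩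
  refine Groth.Agent.Lib.helper16.FLF.isFinLocFree_of_projective_sections Ω'
    (fun t : ι => t.1.1.1) (fun t => t.1.1.2) hcov (fun t => ?_)
  obtain ⟨⟨⟨U, hU⟩, ⟨V, hV⟩⟩, e⟩ := t
  letI alg := (f.appLE V U e).hom.toAlgebra
  obtain ⟨ψ, -⟩ := Groth.Agent.Lib.helper7.OmegaStruct.exists_sectionsEquiv f d hd hU hV e
  haveI : Algebra.FormallySmooth Γ(Y, V) Γ(X, U) :=
    Groth.Agent.Lib.helper7.FSmoothHom.formallySmooth_appLE f hf hU hV e
  haveI : Algebra.FiniteType Γ(Y, V) Γ(X, U) := f.finiteType_appLE hV hU e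
  exact ⟨Module.Finite.equiv ψ.symm, Module.Projective.of_equiv ψ.symm⟩

end Groth.Agent.S5018
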