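import Groth.Statements.S5019
import Mathlib
import Groth.Agent.S4993
import Groth.Agent.Lib.Helper7.OmegaStruct
import Groth.Agent.Lib.Helper7.OmegaQCoh
import Groth.Agent.Lib.Helper16.FLF1

set_option autoImplicit false
universe u
open CategoryTheory CategoryTheory.Limits AlgebraicGeometry TopologicalSpace
open Unram17

namespace Groth.Agent.S5019

/-- Let f : X ⟶ Y be smooth and let (Ω', d) be a sheaf of differentials of X over Y (d a universal
Y-derivation). Then for every point x of X there are an open neighbourhood U of x and an integer n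
such that Ω' restricted to U is free of rank n and n is the local dimension at x of the fibre of f
through x. -/
theorem result {X Y : Scheme.{u}} (f : X ⟶ Y) [Smooth f]
    (Ω' : X.Modules) (d : OmegaSh.Der f Ω') (hd : OmegaSh.IsUniversal d) (x : ↥X) :
    ∃ (U : X.Opens) (n : ℕ), x ∈ U ∧ Nonempty (Ω'.restrict U.ι ≅ FlatMod.freeMod (↑U) n) ∧
      FlatMor.fibreDimAt f x = (n : WithBot ℕ∞) := by
  haveI : Ω'.IsQuasicoherent :=
    Groth.Agent.Lib.helper7.OmegaQCoh.isQuasicoherent_of_isUniversal f d hd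
  obtain ⟨U₀, hU₀, hyU₀, -⟩ := TopologicalSpace.Opens.isBasis_iff_nbhd.mp Y.isBasis_affineOpens
    (TopologicalSpace.Opens.mem_top (f x))
  obtain ⟨V, hV, hxV, eV⟩ := TopologicalSpace.Opens.isBasis_iff_nbhd.mp X.isBasis_affineOpens
    (show x ∈ f ⁻¹ᵁ U₀ from hyU₀)
  obtain ⟨r, hxr, n, hn⟩ :=
    Groth.Agent.S4993.exists_basicOpen_isStandardSmooth f U₀ hU₀ V hV eV x hxV
  have hVr : IsAffineOpen (X.basicOpen r) := hV.basicOpen r
  have e' : X.basicOpen r ≤ f ⁻¹ᵁ U₀ := (X.basicOpen_le r).trans eV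
  refine ⟨X.basicOpen r, n, hxr, ?_,
    Groth.Agent.S4993.fibreDimAt_of_chart n f U₀ hU₀ _ hVr x hxr e' hn⟩
  letI := (f.appLE U₀ (X.basicOpen r) e').hom.toAlgebra
  obtain ⟨ψ, -⟩ := Groth.Agent.Lib.helper7.OmegaStruct.exists_sectionsEquiv f d hd hVr hU₀ e'
  haveI h1 : Algebra.IsStandardSmoothOfRelativeDimension n Γ(Y, U₀) Γ(X, X.basicOpen r) := hn
  haveI h2 : Algebra.IsStandardSmooth Γ(Y, U₀) Γ(X, X.basicOpen r) :=
    Algebra.IsStandardSmoothOfRelativeDimension.isStandardSmooth n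
  haveI : Nontrivial Γ(X, X.basicOpen r) :=
    @Scheme.component_nontrivial X (X.basicOpen r) ⟨⟨x, hxr⟩⟩
  have hrank : Module.rank Γ(X, X.basicOpen r) Ω[Γ(X, X.basicOpen r)⁄Γ(Y, U₀)] = n :=
    Algebra.IsStandardSmoothOfRelativeDimension.rank_kaehlerDifferential n
  obtain ⟨e2⟩ : Nonempty (Ω[Γ(X, X.basicOpen r)⁄Γ(Y, U₀)] ≃ₗ[Γ(X, X.basicOpen r)]
      (Fin n → Γ(X, X.basicOpen r))) :=
    nonempty_linearEquiv_of_rank_eq (by rw [hrank, rank_fun']; simp)
  exact Groth.Agent.Lib.helper16.FLF.restrict_iso_freeMod_of_sections Ω' hVr n (ψ ≪≫ₗ e2)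

end Groth.Agent.S5019
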