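import Groth.Statements.S5021
import Mathlib
import Groth.Agent.S14106
import Groth.Agent.Lib.Helper16.FLF6
import Groth.Agent.Lib.Helper7.OmegaAffine

set_option autoImplicit false
universe u
open CategoryTheory CategoryTheory.Limits AlgebraicGeometry TopologicalSpace
open Unram17

namespace Groth.Agent.S5021

open Scheme.Modules

/-- around a point of the source of an immersion there is an affine open of the target with affine
preimage -/
theorem exists_affine_preimage_affine {X' X : Scheme.{u}} (j : X' ⟶ X) [IsImmersion j] (x : X') :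
    ∃ V : X.Opens, IsAffineOpen V ∧ j.base x ∈ V ∧ IsAffineOpen (j ⁻¹ᵁ V) := by
  have hx : j.base x ∈ j.coborderRange := by
    have h1 : j.base x = j.coborderRange.ι.base (j.liftCoborder.base x) := by
      rw [← Scheme.Hom.comp_apply, j.liftCoborder_ι]
    rw [h1]
    exact (j.liftCoborder.base x).2
  obtain ⟨V, hV, hxV, hVle⟩ := Opens.isBasis_iff_nbhd.mp X.isBasis_affineOpens hx
  refine ⟨V, hV, hxV, ?_⟩
  have h1 : IsAffineOpen (j.coborderRange.ι ⁻¹ᵁ V) :=
    hV.preimage_of_isOpenImmersion _ (by rw [Scheme.Opens.opensRange_ι]; exact hVle)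
  have h2 : IsAffineOpen (j.liftCoborder ⁻¹ᵁ (j.coborderRange.ι ⁻¹ᵁ V)) := h1.preimage j.liftCoborder
  have h3 : j.liftCoborder ⁻¹ᵁ (j.coborderRange.ι ⁻¹ᵁ V) = j ⁻¹ᵁ V := by
    rw [← Scheme.Hom.comp_preimage, j.liftCoborder_ι]
  rwa [h3] at h2

/-- the conormal sheaf of an immersion restricted to the preimage of an affine open (with affine
preimage) is the conormal sheaf of the restricted immersion -/
theorem nonempty_conormal_restrict_iso {X' X : Scheme.{u}} (j : X' ⟶ X) [IsImmersion j]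
    [QuasiCompact j] (V : X.Opens) (hV : IsAffineOpen V) (hU : IsAffineOpen (j ⁻¹ᵁ V)) :
    Nonempty ((Omega.conormal j).restrict (j ⁻¹ᵁ V).ι ≅ Omega.conormal (j ∣_ V)) := by
  haveI : QuasiCompact (j ∣_ V) := inferInstance
  have h : hU.fromSpec ≫ j = Spec.map (j.app V) ≫ hV.fromSpec := by
    have := IsAffineOpen.SpecMap_appLE_fromSpec j hV hU le_rfl
    rw [← this, Scheme.Hom.app_eq_appLE]
  have hcart : hU.fromSpec ''ᵁ ⊤ = j ⁻¹ᵁ (Groth.Agent.Lib.helper7.OmegaAffine.chartOpen hV.fromSpec).1 := by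
    have h1 : hU.fromSpec ''ᵁ ⊤ = j ⁻¹ᵁ V := by
      rw [Scheme.Hom.image_top_eq_opensRange, hU.opensRange_fromSpec]
    have h2 : (Groth.Agent.Lib.helper7.OmegaAffine.chartOpen hV.fromSpec).1 = V := by
      show hV.fromSpec ''ᵁ ⊤ = V
      rw [Scheme.Hom.image_top_eq_opensRange, hV.opensRange_fromSpec]
    rw [h1, h2]
  let isoA := Groth.Agent.Lib.helper7.OmegaAffine.conormalRestrictIso j hU.fromSpec hV.fromSpec
    (j.app V) h hcart
  haveI : IsAffine (j ⁻¹ᵁ V : Scheme.{u}) := hU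
  haveI : IsAffine (V : Scheme.{u}) := hV
  have h0 : hU.isoSpec.inv ≫ (j ∣_ V) = Spec.map (j.app V) ≫ hV.isoSpec.inv := by
    rw [← cancel_mono V.ι, Category.assoc, Category.assoc, morphismRestrict_ι]
    exact h
  have hcart0 : hU.isoSpec.inv ''ᵁ ⊤ =
      (j ∣_ V) ⁻¹ᵁ (Groth.Agent.Lib.helper7.OmegaAffine.chartOpen hV.isoSpec.inv).1 := by
    have h1 : hU.isoSpec.inv ''ᵁ ⊤ = ⊤ := by
      rw [Scheme.Hom.image_top_eq_opensRange]
      exact Scheme.Hom.opensRange_of_isIso _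
    have h2 : (Groth.Agent.Lib.helper7.OmegaAffine.chartOpen hV.isoSpec.inv).1 = ⊤ := by
      show hV.isoSpec.inv ''ᵁ ⊤ = ⊤
      rw [Scheme.Hom.image_top_eq_opensRange]
      exact Scheme.Hom.opensRange_of_isIso _
    rw [h1, h2]
    rfl
  let isoB := Groth.Agent.Lib.helper7.OmegaAffine.conormalRestrictIso (j ∣_ V) hU.isoSpec.inv
    hV.isoSpec.inv (j.app V) h0 hcart0
  -- assemble
  let e : Spec Γ(X', j ⁻¹ᵁ V) ≅ (j ⁻¹ᵁ V : Scheme.{u}) := hU.isoSpec.symm
  have i1 : ((Omega.conormal j).restrict (j ⁻¹ᵁ V).ι).restrict e.hom ≅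
      (Omega.conormal (j ∣_ V)).restrict e.hom :=
    ((restrictFunctorComp hU.isoSpec.inv (j ⁻¹ᵁ V).ι).app (Omega.conormal j)).symm ≪≫
      isoA ≪≫ isoB.symm
  exact ⟨(Groth.Agent.Lib.helper16.FLF.restrictIsoInvIso _ e).symm ≪≫
    (restrictFunctor e.inv).mapIso i1 ≪≫ Groth.Agent.Lib.helper16.FLF.restrictIsoInvIso _ e⟩

/-- the quasi-separated case -/
theorem core {X' X Y : Scheme.{u}} (f : X ⟶ Y) [Smooth f] [QuasiSeparated f]
    (j : X' ⟶ X) [IsImmersion j] [QuasiCompact j] [Smooth (j ≫ f)] [QuasiSeparated (j ≫ f)] :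
    FlatMod.IsFinLocFree (Omega.conormal j) ∧ ∀ x : X',
      FlatMor.fibreDimAt f (j.base x) = FlatMor.fibreDimAt (j ≫ f) x +
        ((Module.finrank (X'.presheaf.stalk x) ((Omega.conormal j).presheaf.stalk x) : ℕ) :
          WithBot ℕ∞) := by
  obtain ⟨hΩX, hX⟩ := Groth.Agent.S14106.finrank_stalk_omega f (OmegaSh.dOmega f)
    (Groth.Agent.Lib.helper7.OmegaUniv.isUniversal_dOmega f)
  obtain ⟨hΩX', hX'⟩ := Groth.Agent.S14106.finrank_stalk_omega (j ≫ f) (OmegaSh.dOmega (j ≫ f))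
    (Groth.Agent.Lib.helper7.OmegaUniv.isUniversal_dOmega (j ≫ f))
  obtain ⟨φ, hφ⟩ := Groth.Agent.Lib.helper7.ConormalDiffExists.exists_conormalDiff j
    (OmegaSh.dOmega f)
  obtain ⟨c, hc, -⟩ := Groth.Agent.Lib.helper7.OmegaPush.existsUnique_isDiffCompat f (j ≫ f) j
    (𝟙 _) (Category.comp_id _) (OmegaSh.dOmega f) (OmegaSh.dOmega (j ≫ f))
    (Groth.Agent.Lib.helper7.OmegaUniv.isUniversal_dOmega f)
  obtain ⟨hCfree, hrank⟩ := Groth.Agent.Lib.helper17.ConormalRank.isFinLocFree_conormal_and_rank f j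
    (OmegaSh.dOmega f) (Groth.Agent.Lib.helper7.OmegaUniv.isUniversal_dOmega f)
    (OmegaSh.dOmega (j ≫ f)) (Groth.Agent.Lib.helper7.OmegaUniv.isUniversal_dOmega (j ≫ f))
    φ hφ c hc hΩX hΩX'
  refine ⟨hCfree, fun x => ?_⟩
  have h3 := hrank x
  rw [(hX (j.base x)).2, (hX' x).2]
  have h4 : Module.finrank (X.presheaf.stalk (j.base x)) ((Omega.sheaf f).presheaf.stalk (j.base x)) =
      Module.finrank (X'.presheaf.stalk x) ((Omega.conormal j).presheaf.stalk x) +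
      Module.finrank (X'.presheaf.stalk x) ((Omega.sheaf (j ≫ f)).presheaf.stalk x) := h3
  rw [h4]
  push_cast
  rw [add_comm]

theorem main {X' X Y : Scheme.{u}} (f : X ⟶ Y) [Smooth f]
    (j : X' ⟶ X) [IsImmersion j] [QuasiCompact j] [Smooth (j ≫ f)] (x : ↥X') :
    ∃ (U : X'.Opens) (n : ℕ), x ∈ U ∧ Nonempty ((Omega.conormal j).restrict U.ι ≅ FlatMod.freeMod (↑U) n) ∧
      FlatMor.fibreDimAt f (j.base x) = FlatMor.fibreDimAt (j ≫ f) x + (n : WithBot ℕ∞) := by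
  obtain ⟨V, hV, hxV, hU⟩ := exists_affine_preimage_affine j x
  haveI : IsAffine (j ⁻¹ᵁ V : Scheme.{u}) := hU
  haveI : IsAffine (V : Scheme.{u}) := hV
  haveI : Smooth (V.ι ≫ f) := inferInstance
  haveI : QuasiSeparated (V.ι ≫ f) := inferInstance
  haveI : IsImmersion (j ∣_ V) := inferInstance
  haveI : QuasiCompact (j ∣_ V) := inferInstance
  have hcomp : (j ∣_ V) ≫ V.ι ≫ f = (j ⁻¹ᵁ V).ι ≫ j ≫ f := by
    rw [← Category.assoc, morphismRestrict_ι, Category.assoc]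
  haveI : Smooth ((j ∣_ V) ≫ V.ι ≫ f) := by
    rw [hcomp]; infer_instance
  haveI : QuasiSeparated ((j ∣_ V) ≫ V.ι ≫ f) := inferInstance
  obtain ⟨hfree, hdim⟩ := core (V.ι ≫ f) (j ∣_ V)
  obtain ⟨isoC⟩ := nonempty_conormal_restrict_iso j V hV hU
  let x0 : (j ⁻¹ᵁ V : Scheme.{u}) := ⟨x, hxV⟩
  obtain ⟨U0, n, hx0, ⟨iso0⟩⟩ := hfree x0
  haveI : (Omega.conormal (j ∣_ V)).IsQuasicoherent :=
    Groth.Agent.Lib.helper16.FLF.isQuasicoherent_of_isFinLocFree _ hfree
  have hn := (Groth.Agent.Lib.helper16.FLF.free_stalk_of_restrict_iso_freeMod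
    (Omega.conormal (j ∣_ V)) n iso0 x0 hx0).2
  let g : (U0 : Scheme.{u}) ⟶ X' := U0.ι ≫ (j ⁻¹ᵁ V).ι
  have i1 : (Omega.conormal j).restrict g ≅ FlatMod.freeMod (↑U0) n :=
    (restrictFunctorComp U0.ι (j ⁻¹ᵁ V).ι).app (Omega.conormal j) ≪≫
      (restrictFunctor U0.ι).mapIso isoC ≪≫ iso0
  obtain ⟨i2⟩ := Groth.Agent.Lib.helper16.FLF.restrict_opensRange_iso_freeMod (Omega.conormal j) g n i1
  refine ⟨g.opensRange, n, ⟨⟨x0, hx0⟩, rfl⟩, ⟨i2⟩, ?_⟩
  have h1 := hdim x0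
  rw [hn] at h1
  have h2 : FlatMor.fibreDimAt (V.ι ≫ f) ((j ∣_ V).base x0) = FlatMor.fibreDimAt f (j.base x) := by
    rw [Groth.Agent.Lib.helper5.FibreDimLocal.fibreDimAt_comp_etale_left]
    congr 1
    rw [← Scheme.Hom.comp_apply, morphismRestrict_ι]
    rfl
  have h3 : FlatMor.fibreDimAt ((j ∣_ V) ≫ V.ι ≫ f) x0 = FlatMor.fibreDimAt (j ≫ f) x := by
    have h4 : ∀ (m : (j ⁻¹ᵁ V : Scheme.{u}) ⟶ Y), m = (j ⁻¹ᵁ V).ι ≫ j ≫ f →
        FlatMor.fibreDimAt m x0 = FlatMor.fibreDimAt (j ≫ f) x := by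
      rintro m rfl
      rw [Groth.Agent.Lib.helper5.FibreDimLocal.fibreDimAt_comp_etale_left]
      rfl
    exact h4 _ hcomp
  rw [← h2, ← h3]
  exact h1

/-- Let f : X ⟶ Y be smooth and j : X' ⟶ X a quasi-compact immersion such that j ≫ f is smooth. Then for
every point x of X' there are an open neighbourhood U of x and an integer n with the conormal sheaf
of j free of rank n on U, and the local dimension at j(x) of the fibre of f through j(x) equals the
local dimension at x of the fibre of j ≫ f through x plus n. (The published statement allows any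
immersion j; this row assumes j quasi-compact, the case in which the conormal sheaf used here is
known to be the conormal sheaf of j.) -/
theorem result {X' X Y : Scheme.{u}} (f : X ⟶ Y) [Smooth f]
    (j : X' ⟶ X) [IsImmersion j] [QuasiCompact j] [Smooth (j ≫ f)] (x : ↥X') :
    ∃ (U : X'.Opens) (n : ℕ), x ∈ U ∧ Nonempty ((Omega.conormal j).restrict U.ι ≅ FlatMod.freeMod (↑U) n) ∧
      FlatMor.fibreDimAt f (j.base x) = FlatMor.fibreDimAt (j ≫ f) x + (n : WithBot ℕ∞) := by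
  exact main f j x

end Groth.Agent.S5021
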