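import Groth.Statements.S5026
import Mathlib
import Groth.Agent.S2790

set_option autoImplicit false
universe u
open Unram17

namespace Groth.Agent.S5026

section aux
open MvPolynomial Groth.Agent.S9448 Groth.Agent.S2790 TensorProduct

open Classical in
/-- substitute zero for the variables in `s`. -/
noncomputable def evZero (k : Type u) [Field k] {σ : Type} (s : Set σ) :
    MvPolynomial σ k →ₐ[k] MvPolynomial σ k :=
  MvPolynomial.aeval (fun i => if i ∈ s then (0 : MvPolynomial σ k) else X i)

theorem evZero_X_mem (k : Type u) [Field k] {σ : Type} (s : Set σ) {i : σ} (hi : i ∈ s) :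
    evZero k s (X i) = 0 := by
  unfold evZero; rw [aeval_X, if_pos hi]

theorem evZero_X_not_mem (k : Type u) [Field k] {σ : Type} (s : Set σ) {i : σ} (hi : i ∉ s) :
    evZero k s (X i) = X i := by
  unfold evZero; rw [aeval_X, if_neg hi]

theorem sub_evZero_mem (k : Type u) [Field k] {σ : Type} (s : Set σ) (x : MvPolynomial σ k) :
    x - evZero k s x ∈ Ideal.span ((X : σ → MvPolynomial σ k) '' s) := by
  induction x using MvPolynomial.induction_on with
  | C a =>
    have h0 : evZero k s (C a) = C a := by
      unfold evZero; rw [aeval_C]; rfl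
    rw [h0, sub_self]; exact zero_mem _
  | add p q hp hq =>
    have h0 : p + q - evZero k s (p + q) = (p - evZero k s p) + (q - evZero k s q) := by
      rw [map_add]; ring
    rw [h0]; exact add_mem hp hq
  | mul_X p i hp =>
    by_cases hi : i ∈ s
    · rw [map_mul, evZero_X_mem k s hi, mul_zero, sub_zero]
      exact Ideal.mul_mem_left _ _ (Ideal.subset_span ⟨i, hi, rfl⟩)
    · have h0 : p * X i - evZero k s (p * X i) = (p - evZero k s p) * X i := by
        rw [map_mul, evZero_X_not_mem k s hi]; ring
      rw [h0]; exact Ideal.mul_mem_right _ _ hp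

theorem ker_evZero (k : Type u) [Field k] {σ : Type} (s : Set σ) :
    RingHom.ker (evZero k s).toRingHom = Ideal.span ((X : σ → MvPolynomial σ k) '' s) := by
  apply le_antisymm
  · intro x hx
    have h0 : evZero k s x = 0 := RingHom.mem_ker.mp hx
    have h1 := sub_evZero_mem k s x
    rwa [h0, sub_zero] at h1
  · rw [Ideal.span_le]
    rintro _ ⟨i, hi, rfl⟩
    show X i ∈ RingHom.ker (evZero k s).toRingHom
    rw [RingHom.mem_ker]
    exact evZero_X_mem k s hi

theorem isPrime_span_X_image (k : Type u) [Field k] {σ : Type} (s : Set σ) :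
    (Ideal.span ((X : σ → MvPolynomial σ k) '' s)).IsPrime := by
  rw [← ker_evZero k s]
  exact RingHom.ker_isPrime _

theorem X_not_mem_span_X_image (k : Type u) [Field k] {σ : Type} (s : Set σ) {j : σ}
    (hj : j ∉ s) : (X j : MvPolynomial σ k) ∉ Ideal.span ((X : σ → MvPolynomial σ k) '' s) := by
  rw [← ker_evZero k s]
  intro h
  have h0 : evZero k s (X j) = 0 := RingHom.mem_ker.mp h
  rw [evZero_X_not_mem k s hj] at h0
  exact MvPolynomial.X_ne_zero j h0

theorem le_height_span_X (k : Type u) [Field k] (n : ℕ) : ∀ j : ℕ, j ≤ n →
    (j : ℕ∞) ≤ (Ideal.span ((X : Fin n → MvPolynomial (Fin n) k) ''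
      {i : Fin n | (i : ℕ) < j})).height := by
  intro j
  induction j with
  | zero => intro _; rw [Nat.cast_zero]; exact zero_le
  | succ j ih =>
    intro hj
    have hjn : j < n := hj
    have h1 := ih (le_of_lt hjn)
    haveI : (Ideal.span ((X : Fin n → MvPolynomial (Fin n) k) ''
        {i : Fin n | (i : ℕ) < j})).IsPrime := isPrime_span_X_image k _
    have hlt : Ideal.span ((X : Fin n → MvPolynomial (Fin n) k) '' {i : Fin n | (i : ℕ) < j}) <
        Ideal.span ((X : Fin n → MvPolynomial (Fin n) k) '' {i : Fin n | (i : ℕ) < j + 1}) := by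
      refine lt_of_le_of_ne (Ideal.span_mono (Set.image_mono
        (fun i (hi : (i : ℕ) < j) => Nat.lt_succ_of_lt hi))) ?_
      intro heq
      have hXJ : (X ⟨j, hjn⟩ : MvPolynomial (Fin n) k) ∈
          Ideal.span ((X : Fin n → MvPolynomial (Fin n) k) '' {i : Fin n | (i : ℕ) < j + 1}) :=
        Ideal.subset_span ⟨⟨j, hjn⟩, Nat.lt_succ_self j, rfl⟩
      rw [← heq] at hXJ
      exact X_not_mem_span_X_image k _ (j := (⟨j, hjn⟩ : Fin n))
        (fun (h : ((⟨j, hjn⟩ : Fin n) : ℕ) < j) => lt_irrefl j h) hXJ
    have h2 := Ideal.height_strict_mono_of_isPrime hlt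
    calc ((j + 1 : ℕ) : ℕ∞) = (j : ℕ∞) + 1 := by push_cast; rfl
      _ ≤ (Ideal.span ((X : Fin n → MvPolynomial (Fin n) k) ''
          {i : Fin n | (i : ℕ) < j})).height + 1 := add_le_add h1 le_rfl
      _ ≤ _ := Order.add_one_le_of_lt h2

variable (k : Type u) [Field k] (n : ℕ)

/-- height of primes of an étale algebra over `k[x_1..x_n]`. -/
theorem height_aux' {B : Type u} [CommRing B] [Algebra (MvPolynomial (Fin n) k) B]
    [Algebra.Etale (MvPolynomial (Fin n) k) B] (𝔫 : Ideal B) [𝔫.IsPrime] :
    𝔫.height = (𝔫.under (MvPolynomial (Fin n) k)).height := by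
  set 𝔭 := 𝔫.under (MvPolynomial (Fin n) k) with h𝔭
  haveI : 𝔭.IsPrime := Ideal.comap_isPrime _ _
  haveI : 𝔫.LiesOver 𝔭 := ⟨rfl⟩
  haveI : IsNoetherianRing B := Algebra.FiniteType.isNoetherianRing (MvPolynomial (Fin n) k) B
  have hform := Ideal.height_eq_height_add_of_liesOver_of_hasGoingDown 𝔭 𝔫
  have hzero : (𝔫.map (Ideal.Quotient.mk (𝔭.map (algebraMap (MvPolynomial (Fin n) k) B)))).height
      = 0 := by
    set I := 𝔭.map (algebraMap (MvPolynomial (Fin n) k) B) with hI
    have hIle : I ≤ 𝔫 := Ideal.map_le_iff_le_comap.mpr le_rfl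
    have hsurj : Function.Surjective (Ideal.Quotient.mk I) := Ideal.Quotient.mk_surjective
    haveI hprime : (𝔫.map (Ideal.Quotient.mk I)).IsPrime :=
      Ideal.map_isPrime_of_surjective hsurj (by rw [Ideal.mk_ker]; exact hIle)
    rw [Ideal.height_eq_zero_iff]
    refine ⟨⟨hprime, bot_le⟩, ?_⟩
    rintro 𝔮' ⟨h𝔮', -⟩ hle
    haveI := h𝔮'
    set 𝔮 := 𝔮'.comap (Ideal.Quotient.mk I) with h𝔮
    haveI : 𝔮.IsPrime := Ideal.comap_isPrime _ _
    have h1 : 𝔮 ≤ 𝔫 := by
      have h0 := Ideal.comap_mono (f := Ideal.Quotient.mk I) hle
      rwa [Ideal.comap_map_of_surjective _ hsurj, ← RingHom.ker_eq_comap_bot, Ideal.mk_ker,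
        sup_eq_left.mpr hIle] at h0
    have h2 : 𝔮.under (MvPolynomial (Fin n) k) = 𝔫.under (MvPolynomial (Fin n) k) := by
      apply le_antisymm
      · exact Ideal.comap_mono h1
      · intro x hx
        show Ideal.Quotient.mk I (algebraMap (MvPolynomial (Fin n) k) B x) ∈ 𝔮'
        have h0 : Ideal.Quotient.mk I (algebraMap (MvPolynomial (Fin n) k) B x) = 0 :=
          Ideal.Quotient.eq_zero_iff_mem.mpr (Ideal.mem_map_of_mem _ hx)
        rw [h0]; exact zero_mem _
    have h3 := Algebra.QuasiFinite.eq_of_le_of_under_eq (R := MvPolynomial (Fin n) k) 𝔮 𝔫 h1 h2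
    rw [← h3]
    exact Ideal.map_comap_le
  rw [hform, hzero, add_zero]

/-- Nakayama-type criterion: in a local `k`-algebra `B` with finite `Ω`, if the `g i` (`i ∈ s`)
generate the maximal ideal and the `d (res (g i))` (`i ∈ t`) generate `Ω_{κ/k}`, then the `d (g i)`
generate `Ω_{B/k}`. -/
theorem span_D_eq_top_of_local (B : Type u) [CommRing B] [Algebra k B] [IsLocalRing B]
    [Module.Finite B Ω[B⁄k]] {ι : Type} (g : ι → B) (s t : Set ι)
    (h1 : Ideal.span (g '' s) = IsLocalRing.maximalIdeal B)
    (h2 : Submodule.span (IsLocalRing.ResidueField B) ((fun i =>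
      KaehlerDifferential.D k (IsLocalRing.ResidueField B) (IsLocalRing.residue B (g i))) '' t)
        = ⊤) :
    Submodule.span B (Set.range fun i => KaehlerDifferential.D k B (g i)) = ⊤ := by
  have hsurj : Function.Surjective (algebraMap B (IsLocalRing.ResidueField B)) :=
    IsLocalRing.residue_surjective
  -- the statement over the residue field
  have hW : Submodule.span (IsLocalRing.ResidueField B) (Set.range fun i =>
      (1 : IsLocalRing.ResidueField B) ⊗ₜ[B] KaehlerDifferential.D k B (g i)) = ⊤ := by
    set W := Submodule.span (IsLocalRing.ResidueField B) (Set.range fun i =>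
      (1 : IsLocalRing.ResidueField B) ⊗ₜ[B] KaehlerDifferential.D k B (g i)) with hWdef
    have hclaim : ∀ m ∈ Ideal.span (g '' s),
        (1 : IsLocalRing.ResidueField B) ⊗ₜ[B] KaehlerDifferential.D k B m ∈ W := by
      intro m hm
      induction hm using Submodule.span_induction with
      | mem y hy =>
        obtain ⟨i, -, rfl⟩ := hy
        exact Submodule.subset_span ⟨i, rfl⟩
      | zero => rw [map_zero, TensorProduct.tmul_zero]; exact zero_mem _
      | add a b _ _ ha hb => rw [map_add, TensorProduct.tmul_add]; exact add_mem ha hb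
      | smul c a ha' ha =>
        rw [smul_eq_mul, Derivation.leibniz, TensorProduct.tmul_add]
        refine add_mem ?_ ?_
        · rw [TensorProduct.tmul_smul, algebra_compatible_smul (IsLocalRing.ResidueField B) c]
          exact Submodule.smul_mem _ _ ha
        · rw [← TensorProduct.smul_tmul]
          have ha0 : a • (1 : IsLocalRing.ResidueField B) = 0 := by
            rw [Algebra.smul_def, mul_one]
            show IsLocalRing.residue B a = 0
            rw [IsLocalRing.residue_eq_zero_iff, ← h1]
            exact ha'
          rw [ha0, TensorProduct.zero_tmul]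
          exact zero_mem _
    have hlift : ∀ y ∈ Submodule.span (IsLocalRing.ResidueField B) ((fun i =>
        KaehlerDifferential.D k (IsLocalRing.ResidueField B) (IsLocalRing.residue B (g i))) '' t),
        ∃ w ∈ W, KaehlerDifferential.mapBaseChange k B (IsLocalRing.ResidueField B) w = y := by
      intro y hy
      induction hy using Submodule.span_induction with
      | mem y hy =>
        obtain ⟨i, -, rfl⟩ := hy
        refine ⟨(1 : IsLocalRing.ResidueField B) ⊗ₜ[B] KaehlerDifferential.D k B (g i),
          Submodule.subset_span ⟨i, rfl⟩, ?_⟩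
        rw [KaehlerDifferential.mapBaseChange_tmul, one_smul, KaehlerDifferential.map_D]
        rfl
      | zero => exact ⟨0, zero_mem _, map_zero _⟩
      | add a b _ _ ha hb =>
        obtain ⟨w1, hw1, e1⟩ := ha
        obtain ⟨w2, hw2, e2⟩ := hb
        exact ⟨w1 + w2, add_mem hw1 hw2, by rw [map_add, e1, e2]⟩
      | smul c a _ ha =>
        obtain ⟨w, hw, e⟩ := ha
        exact ⟨c • w, Submodule.smul_mem _ _ hw, by rw [map_smul, e]⟩
    rw [eq_top_iff]
    rintro x -
    have hx2 : KaehlerDifferential.mapBaseChange k B (IsLocalRing.ResidueField B) x ∈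
        Submodule.span (IsLocalRing.ResidueField B) ((fun i =>
        KaehlerDifferential.D k (IsLocalRing.ResidueField B) (IsLocalRing.residue B (g i))) '' t) := by
      rw [h2]; trivial
    obtain ⟨w, hw, hwe⟩ := hlift _ hx2
    have hker : KaehlerDifferential.mapBaseChange k B (IsLocalRing.ResidueField B) (x - w) = 0 := by
      rw [map_sub, hwe, sub_self]
    obtain ⟨c, hc⟩ := (KaehlerDifferential.exact_kerCotangentToTensor_mapBaseChange k B
      (IsLocalRing.ResidueField B) hsurj (x - w)).mp hker
    obtain ⟨⟨m, hm⟩, rfl⟩ := Ideal.toCotangent_surjective _ c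
    rw [KaehlerDifferential.kerCotangentToTensor_toCotangent] at hc
    have hm' : m ∈ Ideal.span (g '' s) := by
      rw [h1, ← IsLocalRing.residue_eq_zero_iff]
      exact RingHom.mem_ker.mp hm
    have h3 := hclaim m hm'
    have hx : x = w + (1 : IsLocalRing.ResidueField B) ⊗ₜ[B] KaehlerDifferential.D k B m := by
      rw [hc]; abel
    rw [hx]
    exact add_mem hw h3
  rw [← IsLocalRing.map_tensorProduct_mk_eq_top, Submodule.map_span,
    ← Submodule.restrictScalars_span B (IsLocalRing.ResidueField B) hsurj,
    Submodule.restrictScalars_eq_top_iff, ← Set.range_comp]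
  exact hW

variable (A : Type u) [CommRing A] [Algebra k A] [Algebra (MvPolynomial (Fin n) k) A]
    [IsScalarTower k (MvPolynomial (Fin n) k) A]

theorem height_under_of_etaleAt [Algebra.FiniteType (MvPolynomial (Fin n) k) A]
    (p : Ideal A) [hp : p.IsPrime] [Algebra.IsEtaleAt (MvPolynomial (Fin n) k) p] :
    (p.under (MvPolynomial (Fin n) k)).height = p.height := by
  haveI : Algebra.FinitePresentation (MvPolynomial (Fin n) k) A :=
    Algebra.FinitePresentation.of_finiteType.mp inferInstance
  obtain ⟨f, hf, hE⟩ := Algebra.exists_etale_of_isEtaleAt (R := MvPolynomial (Fin n) k) p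
  have hdisj : Disjoint (Submonoid.powers f : Set A) (p : Set A) := by
    rw [Set.disjoint_left]
    rintro x ⟨j, rfl⟩ hx
    exact hf (hp.mem_of_pow_mem j hx)
  set T := Localization.Away f with hT
  set 𝔪 := p.map (algebraMap A T) with h𝔪
  haveI h𝔪prime : 𝔪.IsPrime :=
    IsLocalization.isPrime_of_isPrime_disjoint (Submonoid.powers f) T p hp hdisj
  have hcomap : 𝔪.comap (algebraMap A T) = p :=
    IsLocalization.under_map_of_isPrime_disjoint (Submonoid.powers f) T hp hdisj
  have hunder : 𝔪.under (MvPolynomial (Fin n) k) = p.under (MvPolynomial (Fin n) k) := by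
    ext x
    simp only [Ideal.under, Ideal.mem_comap]
    rw [IsScalarTower.algebraMap_apply (MvPolynomial (Fin n) k) A T, ← Ideal.mem_comap, hcomap]
  have h0 : 𝔪.height = (𝔪.under (MvPolynomial (Fin n) k)).height := height_aux' k n 𝔪
  have h1 : ringKrullDim (Localization.AtPrime 𝔪) =
      ((𝔪.comap (algebraMap A T)).height : WithBot ℕ∞) :=
    IsLocalization.AtPrime.ringKrullDim_eq_height _ _
  have h2 : ringKrullDim (Localization.AtPrime 𝔪) = (𝔪.height : WithBot ℕ∞) :=
    IsLocalization.AtPrime.ringKrullDim_eq_height _ _
  rw [hcomap, h2] at h1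
  have h3 : 𝔪.height = p.height := WithBot.coe_injective h1
  rw [← hunder, ← h0, h3]

end aux



/-- Let k be a field, A a k-algebra of finite type equipped with a k-algebra map from the polynomial
ring in n variables (images g_i of the variables), p a prime of A such that Spec A has local
dimension n at p, r the Krull dimension of the local ring A_p, and suppose g_i ∈ p for the indices i
< r. Then A is etale at p over the polynomial ring if and only if the images of the g_i with i < r
generate the maximal ideal of A_p and the differentials of the residue classes of the g_i with i ≥ r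
generate the module of differentials of the residue field κ(p) over k. (The published statement adds
that these conditions imply that A is smooth at p over k and that κ(p) is separable over k; this row
does not state that consequence.) -/
theorem result (k A : Type u) [Field k]
    [CommRing A] [Algebra k A] [Algebra.FiniteType k A] (n r : ℕ) [Algebra (MvPolynomial (Fin n) k) A]
    [IsScalarTower k (MvPolynomial (Fin n) k) A] (p : Ideal A) [p.IsPrime]
    (hn : FlatMor.localDim (PrimeSpectrum A) ⟨p, inferInstance⟩ = (n : WithBot ℕ∞))
    (hr : ringKrullDim (Localization.AtPrime p) = (r : WithBot ℕ∞))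
    (hg : ∀ i : Fin n, (i : ℕ) < r → algebraMap (MvPolynomial (Fin n) k) A (MvPolynomial.X i) ∈ p) :
    Algebra.IsEtaleAt (MvPolynomial (Fin n) k) p ↔
      Ideal.span ((fun i : Fin n =>
          algebraMap A (Localization.AtPrime p) (algebraMap (MvPolynomial (Fin n) k) A (MvPolynomial.X i))) ''
            {i : Fin n | (i : ℕ) < r}) = IsLocalRing.maximalIdeal (Localization.AtPrime p) ∧
        Submodule.span p.ResidueField ((fun i : Fin n =>
          KaehlerDifferential.D k p.ResidueField
            (IsLocalRing.residue (Localization.AtPrime p)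
              (algebraMap A (Localization.AtPrime p) (algebraMap (MvPolynomial (Fin n) k) A (MvPolynomial.X i))))) ''
            {i : Fin n | r ≤ (i : ℕ)}) = ⊤ := by
  classical
  haveI : Algebra.FiniteType (MvPolynomial (Fin n) k) A :=
    Algebra.FiniteType.of_restrictScalars_finiteType k (MvPolynomial (Fin n) k) A
  have hfun : (fun i : Fin n => algebraMap A (Localization.AtPrime p)
      (algebraMap (MvPolynomial (Fin n) k) A (MvPolynomial.X i))) =
      fun i : Fin n => algebraMap (MvPolynomial (Fin n) k) (Localization.AtPrime p)
        (MvPolynomial.X i) := by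
    funext i
    rw [← IsScalarTower.algebraMap_apply]
  constructor
  · intro h
    haveI : Algebra.IsEtaleAt (MvPolynomial (Fin n) k) p := h
    haveI : Algebra.FormallyEtale (MvPolynomial (Fin n) k) (Localization.AtPrime p) := h
    haveI : Algebra.IsUnramifiedAt (MvPolynomial (Fin n) k) p :=
      (inferInstance : Algebra.FormallyUnramified (MvPolynomial (Fin n) k) (Localization.AtPrime p))
    set q₀ : Ideal (MvPolynomial (Fin n) k) := p.under (MvPolynomial (Fin n) k) with hq₀
    haveI : q₀.IsPrime := Ideal.comap_isPrime _ _
    haveI : p.LiesOver q₀ := ⟨rfl⟩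
    letI := Localization.AtPrime.algebraOfLiesOver q₀ p
    have hpht : p.height = r := by
      have h0 : ringKrullDim (Localization.AtPrime p) = (p.height : WithBot ℕ∞) :=
        IsLocalization.AtPrime.ringKrullDim_eq_height p (Localization.AtPrime p)
      rw [hr] at h0
      have h1 : ((r : ℕ∞) : WithBot ℕ∞) = (p.height : WithBot ℕ∞) := h0
      exact (WithBot.coe_injective h1).symm
    have hq₀ht : q₀.height = r := by
      rw [hq₀, height_under_of_etaleAt k n A p, hpht]
    have hrn : r ≤ n := by
      have h0 : (q₀.height : WithBot ℕ∞) ≤ ringKrullDim (MvPolynomial (Fin n) k) :=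
        Ideal.height_le_ringKrullDim_of_ne_top (Ideal.IsPrime.ne_top inferInstance)
      have h1 : ringKrullDim (MvPolynomial (Fin n) k) ≤ (n : WithBot ℕ∞) :=
        Groth.Agent.S2790.dim_le_aux k n
      rw [hq₀ht] at h0
      have h2 : ((r : ℕ) : WithBot ℕ∞) ≤ ((n : ℕ) : WithBot ℕ∞) := le_trans h0 h1
      exact_mod_cast h2
    haveI hIprime : (Ideal.span ((MvPolynomial.X : Fin n → MvPolynomial (Fin n) k) ''
        {i : Fin n | (i : ℕ) < r})).IsPrime := isPrime_span_X_image k _
    have hIle : Ideal.span ((MvPolynomial.X : Fin n → MvPolynomial (Fin n) k) ''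
        {i : Fin n | (i : ℕ) < r}) ≤ q₀ := by
      rw [Ideal.span_le]
      rintro _ ⟨i, hi, rfl⟩
      exact hg i hi
    have hIeq : Ideal.span ((MvPolynomial.X : Fin n → MvPolynomial (Fin n) k) ''
        {i : Fin n | (i : ℕ) < r}) = q₀ := by
      refine Ideal.eq_of_le_of_height_le _ hIle ?_
      rw [hq₀ht]
      exact le_height_span_X k n r hrn
    refine ⟨?_, ?_⟩
    · have hmap := ((Algebra.isUnramifiedAt_iff_map_eq (MvPolynomial (Fin n) k) q₀ p).mp
        inferInstance).2
      rw [← hIeq, Ideal.map_span, Set.image_image] at hmap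
      rw [hfun]
      exact hmap
    · have htop : (⊤ : Submodule p.ResidueField Ω[p.ResidueField⁄k]) =
          Submodule.span p.ResidueField (Set.range (KaehlerDifferential.D k p.ResidueField)) :=
        (KaehlerDifferential.span_range_derivation k p.ResidueField).symm
      rw [eq_top_iff, htop]
      refine Submodule.span_le.mpr ?_
      rintro _ ⟨y, rfl⟩
      obtain ⟨b, rfl⟩ := IsLocalRing.residue_surjective y
      have hb : KaehlerDifferential.D k (Localization.AtPrime p) b ∈
          Submodule.span (Localization.AtPrime p) (Set.range fun i : Fin n =>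
            KaehlerDifferential.D k (Localization.AtPrime p)
              (algebraMap (MvPolynomial (Fin n) k) (Localization.AtPrime p)
                (MvPolynomial.X i))) := by
        rw [Groth.Agent.S9448.span_aux k n (Localization.AtPrime p)]; trivial
      have hclaim : ∀ ω ∈ Submodule.span (Localization.AtPrime p) (Set.range fun i : Fin n =>
            KaehlerDifferential.D k (Localization.AtPrime p)
              (algebraMap (MvPolynomial (Fin n) k) (Localization.AtPrime p)
                (MvPolynomial.X i))),
          KaehlerDifferential.map k k (Localization.AtPrime p) p.ResidueField ω ∈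
            Submodule.span p.ResidueField ((fun i : Fin n =>
              KaehlerDifferential.D k p.ResidueField
                (IsLocalRing.residue (Localization.AtPrime p)
                  (algebraMap A (Localization.AtPrime p)
                    (algebraMap (MvPolynomial (Fin n) k) A (MvPolynomial.X i))))) ''
                {i : Fin n | r ≤ (i : ℕ)}) := by
        intro ω hω
        induction hω using Submodule.span_induction with
        | mem x hx =>
          obtain ⟨i, rfl⟩ := hx
          rw [KaehlerDifferential.map_D]
          by_cases hi : r ≤ (i : ℕ)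
          · refine Submodule.subset_span ⟨i, hi, ?_⟩
            show KaehlerDifferential.D k p.ResidueField
              (IsLocalRing.residue (Localization.AtPrime p)
                (algebraMap A (Localization.AtPrime p)
                  (algebraMap (MvPolynomial (Fin n) k) A (MvPolynomial.X i)))) = _
            rw [← IsScalarTower.algebraMap_apply (MvPolynomial (Fin n) k) A
              (Localization.AtPrime p)]
            rfl
          · have hi' : (i : ℕ) < r := not_le.mp hi
            have h0 : algebraMap (Localization.AtPrime p) p.ResidueField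
                (algebraMap (MvPolynomial (Fin n) k) (Localization.AtPrime p)
                  (MvPolynomial.X i)) = 0 := by
              show IsLocalRing.residue (Localization.AtPrime p) _ = 0
              rw [IsLocalRing.residue_eq_zero_iff,
                IsScalarTower.algebraMap_apply (MvPolynomial (Fin n) k) A (Localization.AtPrime p),
                IsLocalization.AtPrime.to_map_mem_maximal_iff (Localization.AtPrime p) p]
              exact hg i hi'
            rw [h0, map_zero]
            exact zero_mem _
        | zero => rw [map_zero]; exact zero_mem _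
        | add x y _ _ hx hy => rw [map_add]; exact add_mem hx hy
        | smul c x _ hx =>
          rw [map_smul, algebra_compatible_smul p.ResidueField c]
          exact Submodule.smul_mem _ _ hx
      have h1 := hclaim _ hb
      rw [KaehlerDifferential.map_D] at h1
      exact h1
  · rintro ⟨h1, h2⟩
    have hspan := span_D_eq_top_of_local k (Localization.AtPrime p)
      (fun i : Fin n => algebraMap A (Localization.AtPrime p)
        (algebraMap (MvPolynomial (Fin n) k) A (MvPolynomial.X i)))
      {i : Fin n | (i : ℕ) < r} {i : Fin n | r ≤ (i : ℕ)} h1 h2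
    have hfun' : (fun i : Fin n => KaehlerDifferential.D k (Localization.AtPrime p)
        (algebraMap A (Localization.AtPrime p)
          (algebraMap (MvPolynomial (Fin n) k) A (MvPolynomial.X i)))) =
        fun i : Fin n => KaehlerDifferential.D k (Localization.AtPrime p)
          (algebraMap (MvPolynomial (Fin n) k) (Localization.AtPrime p) (MvPolynomial.X i)) := by
      funext i
      rw [← IsScalarTower.algebraMap_apply]
    rw [hfun'] at hspan
    haveI : Algebra.IsUnramifiedAt (MvPolynomial (Fin n) k) p :=
      Groth.Agent.S9448.unram_of_span k n (Localization.AtPrime p) hspan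
    exact Groth.Agent.S2790.etaleAt_of_unram k n A p hn


end Groth.Agent.S5026
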