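import Groth.Statements.S5027
import Mathlib
import Groth.Agent.LibLocalDimFormula29
import Groth.Agent.Lib.Helper9.GenIrr2
import Groth.Agent.Lib.Helper26.KaehlerField
import Groth.Agent.Lib.Helper17.SmoothArtin

set_option autoImplicit false
universe u
open Unram17

namespace Groth.Agent.S5027

open TensorProduct

theorem trdeg_residueField_eq (k A : Type u) [Field k] [CommRing A] [Algebra k A]
    (p : Ideal A) [p.IsPrime] :
    Algebra.trdeg k p.ResidueField = Algebra.trdeg k (A ⧸ p) := by
  haveI : Algebra.IsAlgebraic (A ⧸ p) p.ResidueField :=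
    IsLocalization.isAlgebraic p.ResidueField (nonZeroDivisors (A ⧸ p))
  have h := trdeg_add_eq k (A ⧸ p) (A := p.ResidueField)
  rw [trdeg_eq_zero (R := A ⧸ p) (A := p.ResidueField), add_zero] at h
  exact h.symm

theorem dim_formula (k A : Type u) [Field k]
    [CommRing A] [Algebra k A] [Algebra.FiniteType k A] (n r : ℕ) (p : Ideal A) [p.IsPrime]
    (hn : FlatMor.localDim (PrimeSpectrum A) ⟨p, inferInstance⟩ = (n : WithBot ℕ∞))
    (hr : ringKrullDim (Localization.AtPrime p) = (r : WithBot ℕ∞)) :
    ∃ t : ℕ, Algebra.trdeg k p.ResidueField = t ∧ n = r + t := by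
  obtain ⟨t, ht⟩ := Groth.Agent.Lib.helper3.FTField.exists_nat_trdeg_quotient k p
  have hpht : p.height = r := by
    have h0 : ringKrullDim (Localization.AtPrime p) = (p.height : WithBot ℕ∞) :=
      IsLocalization.AtPrime.ringKrullDim_eq_height p (Localization.AtPrime p)
    rw [hr] at h0
    have h1 : ((r : ℕ∞) : WithBot ℕ∞) = (p.height : WithBot ℕ∞) := h0
    exact (WithBot.coe_injective h1).symm
  have h := Groth.Agent.LibLocalDimFormula29.localDim_eq_height_add_trdeg k p r t hpht ht
  rw [hn] at h
  refine ⟨t, (trdeg_residueField_eq k A p).trans ht, ?_⟩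
  exact_mod_cast h

/-- a geometrically reduced finitely generated field extension has a family of `trdeg` elements whose
differentials span the module of differentials -/
theorem exists_span_D_of_isGeometricallyReduced (k K : Type u) [Field k] [Field K] [Algebra k K]
    [Algebra.EssFiniteType k K] [Algebra.IsGeometricallyReduced k K] (t : ℕ)
    (ht : Algebra.trdeg k K = t) :
    ∃ x : Fin t → K, Submodule.span K (Set.range fun j => KaehlerDifferential.D k K (x j)) = ⊤ := by
  classical
  have hred : IsReduced (AlgebraicClosure k ⊗[k] K) :=
    (Algebra.isGeometricallyReduced_field_iff k K).mp inferInstance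
  obtain ⟨s, hs, hsep⟩ := Groth.Agent.Lib.helper9.GenIrr.exists_sep_transcendenceBasis hred
  haveI : Algebra.IsSeparable (IntermediateField.adjoin k (Set.range ((↑) : s → K))) K := by
    convert! hsep <;> simp
  obtain ⟨b, hb⟩ := Groth.Agent.Lib.helper26.exists_basis_D ((↑) : s → K) hs.1
  have hcard : Fintype.card s = t := by
    have h1 := hs.cardinalMk_eq_trdeg
    rw [ht, Cardinal.mk_fintype] at h1
    exact_mod_cast h1
  let e : Fin t ≃ s := (Fintype.equivFinOfCardEq hcard).symm
  refine ⟨fun j => (e j : K), ?_⟩
  rw [eq_top_iff, ← b.span_eq]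
  refine Submodule.span_mono ?_
  rintro _ ⟨i, rfl⟩
  refine ⟨e.symm i, ?_⟩
  show KaehlerDifferential.D k K ((e (e.symm i) : s) : K) = b i
  rw [Equiv.apply_symm_apply, hb]

/-- a finitely generated field extension whose module of differentials is spanned by the differentials of at
most `trdeg` elements is geometrically reduced -/
theorem isGeometricallyReduced_of_span_D (k K : Type u) [Field k] [Field K] [Algebra k K]
    [Algebra.EssFiniteType k K] {ι : Type} [Finite ι] (x : ι → K)
    (hspan : Submodule.span K (Set.range fun j => KaehlerDifferential.D k K (x j)) = ⊤)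
    (t : ℕ) (ht : Algebra.trdeg k K = t) (hcard : Nat.card ι ≤ t) :
    Algebra.IsGeometricallyReduced k K := by
  classical
  set F := IntermediateField.adjoin k (Set.range x) with hF
  -- `K / F` is formally unramified
  haveI : Algebra.FormallyUnramified F K := by
    refine ⟨?_⟩
    have hsurj := KaehlerDifferential.map_surjective k F K
    have hzero : KaehlerDifferential.map k F K K = 0 := by
      apply LinearMap.ext_on_range hspan
      intro j
      rw [KaehlerDifferential.map_D, LinearMap.zero_apply]
      have hxj : x j ∈ F := IntermediateField.subset_adjoin k _ ⟨j, rfl⟩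
      have h1 : algebraMap K K (x j) = algebraMap F K ⟨x j, hxj⟩ := rfl
      rw [h1, Derivation.map_algebraMap]
    refine ⟨fun a b => ?_⟩
    obtain ⟨a', rfl⟩ := hsurj a
    obtain ⟨b', rfl⟩ := hsurj b
    rw [hzero, LinearMap.zero_apply, LinearMap.zero_apply]
  haveI : Algebra.EssFiniteType F K := Algebra.EssFiniteType.of_comp k F K
  haveI hsep : Algebra.IsSeparable F K := Algebra.FormallyUnramified.isSeparable F K
  haveI : Algebra.IsAlgebraic F K := Algebra.IsSeparable.isAlgebraic F K
  haveI : Algebra.IsAlgebraic (Algebra.adjoin k (Set.range x)) K :=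
    IntermediateField.isAlgebraic_adjoin_iff_top.mp inferInstance
  have hx : IsTranscendenceBasis k x := by
    refine Algebra.IsAlgebraic.isTranscendenceBasis_of_lift_le_trdeg_of_finite k x ?_
    rw [ht]
    have h1 : (Cardinal.mk ι) = (Nat.card ι : Cardinal) := by
      rw [Nat.cast_card]
    rw [h1]
    simp only [Cardinal.lift_natCast, Nat.cast_le]
    exact hcard
  haveI : Algebra.FormallySmooth k K :=
    Algebra.FormallySmooth.of_algebraicIndependent_of_isSeparable hx.1
  exact Groth.Agent.Lib.helper17.SmoothArtin.isGeometricallyReduced_of_formallySmooth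

theorem essFiniteType_residueField (k A : Type u) [Field k] [CommRing A] [Algebra k A]
    [Algebra.FiniteType k A] (p : Ideal A) [p.IsPrime] :
    Algebra.EssFiniteType k p.ResidueField := by
  haveI : Algebra.EssFiniteType A (Localization.AtPrime p) :=
    Algebra.EssFiniteType.of_isLocalization (Localization.AtPrime p) p.primeCompl
  haveI : Algebra.EssFiniteType (Localization.AtPrime p) p.ResidueField :=
    inferInstance
  haveI : Algebra.EssFiniteType A p.ResidueField :=
    Algebra.EssFiniteType.comp A (Localization.AtPrime p) p.ResidueField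
  exact Algebra.EssFiniteType.comp k A p.ResidueField

theorem exists_gens_of_regular (R : Type u) [CommRing R] [IsRegularLocalRing R] (r : ℕ)
    (hr : ringKrullDim R = (r : WithBot ℕ∞)) :
    ∃ y : Fin r → R, Ideal.span (Set.range y) = IsLocalRing.maximalIdeal R := by
  classical
  have hfg : (IsLocalRing.maximalIdeal R).FG := IsNoetherian.noetherian _
  have hfin := Submodule.FG.finite_generators hfg
  have hcard : (Submodule.generators (IsLocalRing.maximalIdeal R)).ncard = r := by
    rw [Submodule.FG.generators_ncard hfg]
    have h := IsRegularLocalRing.spanFinrank_maximalIdeal (R := R)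
    rw [hr] at h
    exact_mod_cast h
  haveI := hfin.fintype
  have hcard' : Fintype.card (Submodule.generators (IsLocalRing.maximalIdeal R)) = r := by
    rw [← hcard, Set.ncard_eq_toFinset_card', Set.toFinset_card]
  let e := Fintype.equivFinOfCardEq hcard'
  refine ⟨fun i => (e.symm i : R), ?_⟩
  have hrange : Set.range (fun i => (e.symm i : R)) =
      Submodule.generators (IsLocalRing.maximalIdeal R) := by
    ext z
    constructor
    · rintro ⟨i, rfl⟩
      exact (e.symm i).2
    · intro hz
      exact ⟨e ⟨z, hz⟩, by simp⟩
  rw [hrange]
  exact Submodule.span_generators _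

theorem regular_of_span (R : Type u) [CommRing R] [IsLocalRing R] [IsNoetherianRing R] (r : ℕ)
    (hr : ringKrullDim R = (r : WithBot ℕ∞)) (s : Set R) (hs : s.Finite) (hcard : s.ncard ≤ r)
    (hspan : Ideal.span s = IsLocalRing.maximalIdeal R) : IsRegularLocalRing R := by
  apply IsRegularLocalRing.of_spanFinrank_maximalIdeal_le
  rw [hr, ← hspan]
  have h := (Submodule.spanFinrank_span_le_ncard_of_finite (R := R) hs).trans hcard
  exact_mod_cast h

/-- Let A be an algebra of finite type over a field k, p a prime of A such that Spec A has local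
dimension n at p, and r the Krull dimension of the local ring A_p. Then A_p is regular and the
residue field κ(p) is a separable extension of k (geometrically reduced over k) if and only if there
exist n elements of the local ring A_p (germs at p in place of sections over an open neighbourhood
of p, which is equivalent) of which those with index < r generate the maximal ideal and the residue
classes of the remaining ones have differentials generating the module of differentials of κ(p) over
k. -/
theorem result (k A : Type u) [Field k]
    [CommRing A] [Algebra k A] [Algebra.FiniteType k A] (n r : ℕ) (p : Ideal A) [p.IsPrime]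
    (hn : FlatMor.localDim (PrimeSpectrum A) ⟨p, inferInstance⟩ = (n : WithBot ℕ∞))
    (hr : ringKrullDim (Localization.AtPrime p) = (r : WithBot ℕ∞)) :
    (IsRegularLocalRing (Localization.AtPrime p) ∧ Algebra.IsGeometricallyReduced k p.ResidueField) ↔
      ∃ g : Fin n → Localization.AtPrime p,
        Ideal.span (g '' {i : Fin n | (i : ℕ) < r}) = IsLocalRing.maximalIdeal (Localization.AtPrime p) ∧
          Submodule.span p.ResidueField ((fun i : Fin n =>
            KaehlerDifferential.D k p.ResidueField (IsLocalRing.residue (Localization.AtPrime p) (g i))) ''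
              {i : Fin n | r ≤ (i : ℕ)}) = ⊤ := by
  classical
  obtain ⟨t, ht, hnt⟩ := dim_formula k A n r p hn hr
  haveI : Algebra.EssFiniteType k p.ResidueField := essFiniteType_residueField k A p
  haveI : IsNoetherianRing A := Algebra.FiniteType.isNoetherianRing k A
  haveI : IsNoetherianRing (Localization.AtPrime p) :=
    IsLocalization.isNoetherianRing p.primeCompl (Localization.AtPrime p) inferInstance
  constructor
  · rintro ⟨hreg, hgr⟩
    obtain ⟨y, hy⟩ := exists_gens_of_regular (Localization.AtPrime p) r hr
    obtain ⟨x, hx⟩ := exists_span_D_of_isGeometricallyReduced k p.ResidueField t ht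
    choose x' hx' using fun j => IsLocalRing.residue_surjective (R := Localization.AtPrime p) (x j)
    let g : Fin n → Localization.AtPrime p := fun i =>
      if h : (i : ℕ) < r then y ⟨i, h⟩ else x' ⟨(i : ℕ) - r, by have := i.2; omega⟩
    refine ⟨g, ?_, ?_⟩
    · rw [← hy]
      congr 1
      ext z
      constructor
      · rintro ⟨i, hi, rfl⟩
        have hi' : (i : ℕ) < r := hi
        exact ⟨⟨i, hi'⟩, by simp only [g, dif_pos hi']⟩
      · rintro ⟨j, rfl⟩
        have hj : ((⟨j, by have := j.2; omega⟩ : Fin n) : ℕ) < r := j.2
        exact ⟨⟨j, by have := j.2; omega⟩, hj, by simp only [g, dif_pos hj]⟩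
    · rw [← hx]
      congr 1
      ext z
      constructor
      · rintro ⟨i, hi, rfl⟩
        have hi' : ¬ (i : ℕ) < r := not_lt.mpr hi
        exact ⟨⟨(i : ℕ) - r, by have := i.2; omega⟩, by simp only [g, dif_neg hi', hx']⟩
      · rintro ⟨j, rfl⟩
        have hj : ¬ ((⟨r + j, by have := j.2; omega⟩ : Fin n) : ℕ) < r := by
          simp only [not_lt]; omega
        refine ⟨⟨r + j, by have := j.2; omega⟩, ?_, ?_⟩
        · show r ≤ r + (j : ℕ)
          omega
        · simp only [g, dif_neg hj, hx', Nat.add_sub_cancel_left, Fin.eta]
  · rintro ⟨g, h1, h2⟩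
    constructor
    · refine regular_of_span (Localization.AtPrime p) r hr (g '' {i : Fin n | (i : ℕ) < r})
        (Set.toFinite _) ?_ h1
      refine (Set.ncard_image_le (Set.toFinite _)).trans ?_
      have hinj : Set.InjOn (fun i : Fin n => (i : ℕ)) {i : Fin n | (i : ℕ) < r} :=
        fun a _ b _ h => Fin.ext h
      rw [← hinj.ncard_image]
      have hsub : (fun i : Fin n => (i : ℕ)) '' {i : Fin n | (i : ℕ) < r} ⊆
          ((Finset.range r : Finset ℕ) : Set ℕ) := by
        rintro _ ⟨i, hi, rfl⟩
        have hi' : (i : ℕ) < r := hi
        simpa using hi'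
      refine (Set.ncard_le_ncard hsub (Finset.finite_toSet _)).trans ?_
      rw [Set.ncard_coe_finset, Finset.card_range]
    · rw [Set.image_eq_range] at h2
      refine isGeometricallyReduced_of_span_D k p.ResidueField
        (fun j : {i : Fin n | r ≤ (i : ℕ)} =>
          IsLocalRing.residue (Localization.AtPrime p) (g j)) h2 t ht ?_
      have hinj : Function.Injective (fun j : {i : Fin n | r ≤ (i : ℕ)} =>
          (⟨((j : Fin n) : ℕ) - r, by
            have h4 := (j : Fin n).2
            have h5 : r ≤ ((j : Fin n) : ℕ) := j.2
            omega⟩ : Fin t)) := by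
        intro a b hab
        have h3 := congrArg Fin.val hab
        have ha : r ≤ ((a : Fin n) : ℕ) := a.2
        have hb : r ≤ ((b : Fin n) : ℕ) := b.2
        simp only at h3
        apply Subtype.ext
        apply Fin.ext
        omega
      have := Nat.card_le_card_of_injective _ hinj
      rwa [Nat.card_fin] at this

end Groth.Agent.S5027
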