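import Groth.Statements.S5033
import Mathlib
import Groth.Agent.Lib.Helper15.Regular

set_option autoImplicit false
universe u
open CInt

namespace Groth.Agent.S5033

/-- Let A be a Noetherian local ring and J an ideal such that A/J is a regular local ring. Then A is a
regular local ring if and only if J is generated by a regular sequence of A. -/
theorem result (A : Type u) [CommRing A] [IsNoetherianRing A]
    [IsLocalRing A] (J : Ideal A) [IsRegularLocalRing (A ⧸ J)] :
    IsRegularLocalRing A ↔ CInt.IsRegularIdeal J := by
  classical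
  constructor
  · intro hA
    obtain ⟨x, c, hc, hx, hJ⟩ :=
      Groth.Agent.Lib.helper15.exists_generators_of_regular_quotient A
        (IsLocalRing.maximalIdeal A).spanFinrank rfl J
    have hw := Groth.Agent.Lib.helper15.isWeaklyRegular_ofFn A
        (IsLocalRing.maximalIdeal A).spanFinrank rfl x hx
    rw [← List.take_append_drop c (List.ofFn x),
      RingTheory.Sequence.isWeaklyRegular_append_iff] at hw
    refine ⟨(List.ofFn x).take c, ?_, ?_⟩
    · rw [IsLocalRing.isRegular_iff_isWeaklyRegular_of_subset_maximalIdeal]
      · exact hw.1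
      · intro r hr
        have hr' := List.mem_of_mem_take hr
        rw [List.mem_ofFn'] at hr'
        rw [← hx]
        exact Ideal.subset_span hr'
    · rw [hJ, Ideal.ofList]
      congr 1
      ext r
      simp only [Set.mem_ofPred_eq, Set.mem_range, List.mem_take_iff_getElem, List.length_ofFn,
        List.getElem_ofFn]
      constructor
      · rintro ⟨i, hi, rfl⟩
        have hi' : i < c := lt_of_lt_of_le hi (min_le_left _ _)
        exact ⟨⟨i, hi'⟩, rfl⟩
      · rintro ⟨i, rfl⟩
        refine ⟨i.1, lt_min i.2 (lt_of_lt_of_le i.2 hc), rfl⟩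
  · rintro ⟨rs, hreg, hrs⟩
    subst hrs
    have hdim := ringKrullDim_add_length_eq_ringKrullDim_of_isRegular rs hreg
    obtain ⟨t, htcard, ht⟩ :=
      Groth.Agent.Lib.helper15.exists_finset_maximalIdeal_eq_sup (Ideal.ofList rs)
    have h2 : ((IsLocalRing.maximalIdeal (A ⧸ Ideal.ofList rs)).spanFinrank : WithBot ℕ∞) =
        ringKrullDim (A ⧸ Ideal.ofList rs) :=
      IsRegularLocalRing.spanFinrank_maximalIdeal
    have hJ : (Ideal.ofList rs).spanFinrank ≤ rs.length := by
      have : Ideal.ofList rs = Ideal.span ((rs.toFinset : Finset A) : Set A) := by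
        rw [Ideal.ofList]; congr 1; ext r; simp
      rw [this]
      refine (Submodule.spanFinrank_span_le_ncard_of_finite (Set.toFinite _)).trans ?_
      rw [Set.ncard_coe_finset]
      exact List.toFinset_card_le rs
    have hT : (Ideal.span (t : Set A)).spanFinrank ≤ t.card := by
      refine (Submodule.spanFinrank_span_le_ncard_of_finite (Set.toFinite _)).trans ?_
      rw [Set.ncard_coe_finset]
    have hm : (IsLocalRing.maximalIdeal A).spanFinrank ≤
        rs.length + (IsLocalRing.maximalIdeal (A ⧸ Ideal.ofList rs)).spanFinrank := by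
      rw [ht]
      refine (Groth.Agent.Lib.helper15.spanFinrank_sup_le (IsNoetherian.noetherian _)
        (IsNoetherian.noetherian _)).trans ?_
      omega
    apply IsRegularLocalRing.of_spanFinrank_maximalIdeal_le
    calc ((IsLocalRing.maximalIdeal A).spanFinrank : WithBot ℕ∞)
        ≤ ((rs.length + (IsLocalRing.maximalIdeal (A ⧸ Ideal.ofList rs)).spanFinrank : ℕ) :
            WithBot ℕ∞) := by exact_mod_cast hm
      _ = ((IsLocalRing.maximalIdeal (A ⧸ Ideal.ofList rs)).spanFinrank : WithBot ℕ∞) +
            rs.length := by push_cast; rw [add_comm]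
      _ = ringKrullDim (A ⧸ Ideal.ofList rs) + rs.length := by rw [h2]
      _ = ringKrullDim A := hdim

end Groth.Agent.S5033
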