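import Groth.Statements.S5039
import Mathlib
import Groth.Agent.Lib.Helper17.HensFib2
import Groth.Agent.Lib.Helper17.HensFib3
import Groth.Agent.Lib.Helper17.HensFib4
import Groth.Agent.Lib.Helper24.CplFinAlg
import Groth.Agent.Lib.Helper24.GeomReducedFinite
import Groth.Agent.S4743
import Groth.Agent.S2657
import Groth.Agent.S0567

set_option autoImplicit false
set_option linter.style.haveILetI false
universe u
open Hensel

namespace Groth.Agent.S5039

open TensorProduct IsLocalRing in
/-- A Nagata Noetherian local ring has geometrically reduced formal fibres. -/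
theorem grff_of_isNagata (A : Type u) [CommRing A] [IsNoetherianRing A] [IsLocalRing A]
    (hA : CAlg.IsNagata A) : EGA4.HasGeomReducedFormalFibres A := by
  rw [Groth.Agent.S4743.result]
  intro B _ _ _ _ q _ _
  haveI : IsReduced (B ⊗[A] AdicCompletion (maximalIdeal A) A) :=
    Groth.Agent.Lib.Helper24.CplFinAlg.isReduced_tensor_of_isReduced A (fun p _ => hA.2 p) B
  haveI : IsReduced (B ⊗[A] EGA4.Cpl A) := this
  infer_instance

section hens

open TensorProduct IsLocalRing
open Groth.Agent.Lib.helper17.HensFib Groth.Agent.Lib.Helper24.GeomSepAlg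

variable (R S : Type u) [CommRing R] [IsLocalRing R] [IsNoetherianRing R]
    [CommRing S] [IsLocalRing S] [Algebra R S] [IsLocalHom (algebraMap R S)]
    [Hensel.IsHenselization R S]

theorem grff_up (hR : EGA4.HasGeomReducedFormalFibres R) : EGA4.HasGeomReducedFormalFibres S := by
  intro P' _
  apply Groth.Agent.Lib.Helper24.GeomReducedFinite.isGeometricallyReduced_of_forall_finite
  intro K' _ _ hK'
  have hloc : Loc (fun T _ => IsReduced T) (K' ⊗[P'.ResidueField] EGA4.formalFibre S P') := by
    refine formalFibre_transfer R S (fun T _ => IsReduced T)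
      (fun _ _ _ _ e h => ?_) P' (fun L _ _ hL => ?_) K' hK'
    · haveI := h
      exact isReduced_of_injective e.symm e.symm.injective
    · haveI := hL
      haveI : Algebra.IsGeometricallyReduced (P'.under R).ResidueField
          (EGA4.formalFibre R (P'.under R)) := hR (P'.under R)
      haveI : Algebra.IsAlgebraic (P'.under R).ResidueField L := Algebra.IsAlgebraic.of_finite _ _
      intro q _
      infer_instance
  apply isReduced_ofLocalizationMaximal
  intro J hJ
  exact hloc J

theorem grff_down (hS : EGA4.HasGeomReducedFormalFibres S) : EGA4.HasGeomReducedFormalFibres R := by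
  intro p _
  apply Groth.Agent.Lib.Helper24.GeomReducedFinite.isGeometricallyReduced_of_forall_finite
  intro L _ _ hL
  haveI := hL
  have h : ∀ (P' : Ideal S) [P'.IsPrime] (K' : Type u) [Field K'] [Algebra P'.ResidueField K'],
      Module.Finite P'.ResidueField K' →
        IsReduced (K' ⊗[P'.ResidueField] P'.Fiber (EGA4.Cpl S)) := by
    intro P' _ K' _ _ hK'
    haveI := hK'
    haveI : Algebra.IsGeometricallyReduced P'.ResidueField (EGA4.formalFibre S P') := hS P'
    haveI : Algebra.IsAlgebraic P'.ResidueField K' := Algebra.IsAlgebraic.of_finite _ _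
    have : IsReduced (K' ⊗[P'.ResidueField] EGA4.formalFibre S P') := inferInstance
    exact this
  have h1 : IsReduced (L ⊗[p.ResidueField] p.Fiber (EGA4.Cpl S)) :=
    Groth.Agent.Lib.helper17.HensFib4.isReduced_fibre_of_isHenselization R S (EGA4.Cpl S) h p L
  let e1 : p.Fiber (EGA4.Cpl R) ≃ₐ[p.ResidueField] p.Fiber (EGA4.Cpl S) :=
    Algebra.TensorProduct.congr AlgEquiv.refl (cplAlgEquiv R S)
  let e2 : L ⊗[p.ResidueField] p.Fiber (EGA4.Cpl R) ≃ₐ[L]
      L ⊗[p.ResidueField] p.Fiber (EGA4.Cpl S) :=
    Algebra.TensorProduct.congr AlgEquiv.refl e1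
  exact isReduced_of_injective e2 e2.injective

end hens

/-- Let R be a Noetherian local ring and S its henselization. Then S is universally Japanese if and only
if R is. -/
theorem result (R S : Type u) [CommRing R] [IsLocalRing R] [IsNoetherianRing R]
    [CommRing S] [IsLocalRing S] [Algebra R S] [IsLocalHom (algebraMap R S)] [Hensel.IsHenselization R S] :
    CAlg.IsUniversallyJapanese S ↔ CAlg.IsUniversallyJapanese R := by
  haveI hNS : IsNoetherianRing S :=
    Groth.Agent.Lib.helper17.HensFib.isNoetherianRing_of_isHenselization R S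
  constructor
  · intro hS
    have h1 : CAlg.IsNagata S := (Groth.Agent.S0567.result S).mpr ⟨hNS, hS⟩
    have h2 := grff_down R S (grff_of_isNagata S h1)
    exact ((Groth.Agent.S0567.result R).mp (Groth.Agent.S2657.result R h2)).2
  · intro hR
    have h1 : CAlg.IsNagata R := (Groth.Agent.S0567.result R).mpr ⟨inferInstance, hR⟩
    have h2 := grff_up R S (grff_of_isNagata R h1)
    exact ((Groth.Agent.S0567.result S).mp (Groth.Agent.S2657.result S h2)).2

end Groth.Agent.S5039
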