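import Groth.Statements.S5040
import Groth.Agent.Lib.Helper24.HensFormalCat
import Groth.Agent.Lib.Helper24.FormalCat3

set_option autoImplicit false
universe u
open Hensel

namespace Groth.Agent.S5040

/-- Let R be a Noetherian local ring with henselization S. If R is formally catenary (the completion of
R/p is equidimensional for every prime ideal p), then S is formally catenary. -/
theorem result (R S : Type u) [CommRing R] [IsLocalRing R] [IsNoetherianRing R]
    [CommRing S] [IsLocalRing S] [Algebra R S] [IsLocalHom (algebraMap R S)] [Hensel.IsHenselization R S]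
    (h : EGA4.IsFormallyCatenary R) : EGA4.IsFormallyCatenary S := by
  haveI hN : IsNoetherianRing S :=
    (Groth.Agent.Lib.Helper24.HensNoeth.isNoetherianRing_iff_of_isHenselization R S).1
      inferInstance
  haveI : Module.FaithfullyFlat R S :=
    Groth.Agent.Lib.helper24.Henselization.faithfullyFlat_of_isHenselization R S
  have hm := Groth.Agent.Lib.Helper24.HensRegular.map_maximalIdeal_of_isHenselization R S
  intro P hP
  have hIne : (P.comap (algebraMap R S)).map (algebraMap R S) ≠ ⊤ :=
    ne_top_of_le_ne_top hP.ne_top Ideal.map_comap_le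
  haveI : Nontrivial (S ⧸ (P.comap (algebraMap R S)).map (algebraMap R S)) :=
    Ideal.Quotient.nontrivial_iff.mpr hIne
  haveI : IsLocalRing (S ⧸ (P.comap (algebraMap R S)).map (algebraMap R S)) :=
    IsLocalRing.of_surjective' (Ideal.Quotient.mk _) Ideal.Quotient.mk_surjective
  have hequi : EGA4.IsEquidim (AdicCompletion
      (IsLocalRing.maximalIdeal (S ⧸ (P.comap (algebraMap R S)).map (algebraMap R S)))
      (S ⧸ (P.comap (algebraMap R S)).map (algebraMap R S))) :=
    Groth.Agent.Lib.Helper24.CplCM.isEquidim_of_ringEquiv
      (Groth.Agent.Lib.Helper24.FormalCat.cplQuotEquiv R S (P.comap (algebraMap R S)) hm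
        (Groth.Agent.Lib.Helper24.HensFormalCat.dense_of_isHenselization R S))
      (h (P.comap (algebraMap R S)))
  exact Groth.Agent.Lib.Helper24.FormalCat.isEquidim_cpl_quotient_of_mem_minimalPrimes S _ hequi P
    (Groth.Agent.Lib.Helper24.HensFormalCat.mem_minimalPrimes_map_comap R S P)

end Groth.Agent.S5040
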