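import Groth.Statements.S5048
import Mathlib.AlgebraicGeometry.Morphisms.UniversallyOpen
import Mathlib.Topology.Sober
-- import your own Groth.Agent.* helpers here

set_option autoImplicit false
open CategoryTheory AlgebraicGeometry
universe u
open Unram

namespace Groth.Agent.S5048

/-- Let Y be an irreducible scheme with generic point η and f : X ⟶ Y flat, locally of finite type and
locally quasi-finite. Then a point x of X maps to η if and only if its closure is an irreducible
component of X; thus the irreducible components of X are in canonical bijection with the fibre over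
η. -/
theorem result {X Y : Scheme.{u}} [IrreducibleSpace ↥Y] (f : X ⟶ Y)
    [Flat f] [LocallyOfFiniteType f] [LocallyQuasiFinite f] (x : X) :
    f.base x = genericPoint Y ↔ closure ({x} : Set ↥X) ∈ irreducibleComponents ↥X := by
  have hirr : IsIrreducible (closure ({x} : Set ↥X)) := isIrreducible_singleton.closure
  constructor
  · intro hx
    refine ⟨hirr, ?_⟩
    intro Z hZ hle
    -- generic point of the closure of `Z`
    obtain ⟨x', hx'⟩ := QuasiSober.sober hZ.closure isClosed_closure
    have hx'Z : closure ({x'} : Set ↥X) = closure Z := hx'
    have hspec : x' ⤳ x := by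
      rw [specializes_iff_mem_closure, hx'Z]
      exact subset_closure (hle (subset_closure rfl))
    have hfx' : f.base x' = genericPoint Y := by
      have h1 : f.base x' ⤳ f.base x := hspec.map f.base.hom.continuous
      rw [hx] at h1
      exact (h1.antisymm (genericPoint_specializes _)).eq
    -- both lie in the discrete fibre
    have hdisc := f.isDiscrete_preimage_singleton (genericPoint Y)
    rw [isDiscrete_iff_discreteTopology] at hdisc
    have hmem : x ∈ f.base ⁻¹' {genericPoint Y} := hx
    have hmem' : x' ∈ f.base ⁻¹' {genericPoint Y} := hfx'
    have h2 : (⟨x', hmem'⟩ : f.base ⁻¹' {genericPoint Y}) ⤳ ⟨x, hmem⟩ := by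
      rw [← Topology.IsInducing.subtypeVal.specializes_iff]
      exact hspec
    have h3 : (⟨x', hmem'⟩ : f.base ⁻¹' {genericPoint Y}) = ⟨x, hmem⟩ := h2.eq
    have h4 : x' = x := congrArg Subtype.val h3
    rw [← h4, hx'Z]
    exact subset_closure
  · intro hmax
    have hgen := Flat.generalizingMap f
    obtain ⟨x', hx'x, hfx'⟩ := hgen (genericPoint_specializes (f.base x))
    have h1 : closure ({x} : Set ↥X) ≤ closure ({x'} : Set ↥X) := by
      apply closure_minimal _ isClosed_closure
      rw [Set.singleton_subset_iff]
      exact hx'x.mem_closure
    have h2 := hmax.2 (isIrreducible_singleton.closure) h1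
    have h3 : x ⤳ x' := by
      rw [specializes_iff_mem_closure]
      exact h2 (subset_closure rfl)
    have h4 : x = x' := (h3.antisymm hx'x).eq
    rw [h4, hfx']


end Groth.Agent.S5048
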