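import Groth.Statements.S5050
import Mathlib

set_option autoImplicit false
universe u v
open CInt

namespace Groth.Agent.S5050

/-- Let A be a Noetherian ring, N a finitely generated A-module, E and F submodules of N and Q an ideal
of A. For every natural number k there is h > 0 with E ⊓ (F ⊔ Q^h N) ≤ (E ⊓ F) ⊔ Q^k N. -/
theorem result {A : Type u} [CommRing A] [IsNoetherianRing A] {N : Type v} [AddCommGroup N]
    [Module A N] [Module.Finite A N] (E F : Submodule A N) (Q : Ideal A) (k : ℕ) :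
    ∃ h : ℕ, 0 < h ∧ E ⊓ (F ⊔ Q ^ h • (⊤ : Submodule A N)) ≤ (E ⊓ F) ⊔ Q ^ k • (⊤ : Submodule A N) := by
  obtain ⟨c, hc⟩ := Ideal.exists_pow_inf_eq_pow_smul Q (Submodule.map F.mkQ E)
  refine ⟨k + c + 1, Nat.succ_pos _, ?_⟩
  rintro x ⟨hxE, hxFQ⟩
  have h1 : F.mkQ x ∈ Q ^ (k + c + 1) • (⊤ : Submodule A (N ⧸ F)) ⊓ Submodule.map F.mkQ E := by
    refine ⟨?_, Submodule.mem_map_of_mem hxE⟩
    obtain ⟨f, hf, q, hq, rfl⟩ := Submodule.mem_sup.mp hxFQ
    have hf0 : F.mkQ f = 0 := by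
      rw [Submodule.mkQ_apply]
      exact (Submodule.Quotient.mk_eq_zero F).mpr hf
    rw [map_add, hf0, zero_add]
    have : F.mkQ q ∈ Submodule.map F.mkQ (Q ^ (k + c + 1) • (⊤ : Submodule A N)) :=
      Submodule.mem_map_of_mem hq
    rw [Submodule.map_smul''] at this
    exact Submodule.smul_mono le_rfl le_top this
  rw [hc _ (by omega)] at h1
  have h2 : F.mkQ x ∈ Submodule.map F.mkQ (Q ^ k • E) := by
    rw [Submodule.map_smul'']
    have hkc : k + c + 1 - c = k + 1 := by omega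
    rw [hkc] at h1
    exact Submodule.smul_mono (Ideal.pow_le_pow_right (Nat.le_succ k)) inf_le_right h1
  obtain ⟨y, hy, hyx⟩ := h2
  have h3 : x - y ∈ F := by
    rw [← Submodule.Quotient.mk_eq_zero F, Submodule.Quotient.mk_sub]
    rw [Submodule.mkQ_apply, Submodule.mkQ_apply] at hyx
    rw [hyx, sub_self]
  have hyE : y ∈ E := Submodule.smul_le_right hy
  have hx : x = (x - y) + y := by abel
  rw [hx]
  refine Submodule.add_mem_sup ⟨E.sub_mem hxE hyE, h3⟩ ?_
  exact Submodule.smul_mono le_rfl le_top hy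

end Groth.Agent.S5050
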