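import Groth.Statements.S5055
import Groth.Agent.Lib.Helper24.CplUnram3
import Groth.Agent.Lib.Helper24.RegUnram3
import Groth.Agent.Lib.Helper24.RegUnram4
import Groth.Agent.Lib.Helper24.RegUnram5
import Groth.Agent.Lib.Helper15.Regular

set_option autoImplicit false
universe u
open EGA418

namespace Groth.Agent.S5055

/-- Let k be a field, A a complete Noetherian local k-algebra of Krull dimension n whose residue field
is a finite extension of k, p a prime ideal distinct from the maximal ideal and containing a minimal
prime q with dim A/q = n, and Ω̂ the completion of the module of differentials of A over k. If the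
A_p-module Ω̂_p is generated by n elements, then it is free of rank n and A_p is a geometrically
regular k-algebra. -/
theorem result (k A : Type u) [Field k] [CommRing A]
    [IsLocalRing A] [IsNoetherianRing A] [Algebra k A] [IsAdicComplete (IsLocalRing.maximalIdeal A) A]
    [Module.Finite k (IsLocalRing.ResidueField A)]
    (n : ℕ) (hn : ringKrullDim A = n) (p : Ideal A) [p.IsPrime] (hp : p ≠ IsLocalRing.maximalIdeal A)
    (hq : ∃ q ∈ minimalPrimes A, q ≤ p ∧ ringKrullDim (A ⧸ q) = n)
    (hgen : ∃ s : Fin n → (LocalizedModule p.primeCompl (AdicCompletion (IsLocalRing.maximalIdeal A) (KaehlerDifferential k A))), Submodule.span (Localization.AtPrime p) (Set.range s) = ⊤) :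
    (Module.Free (Localization.AtPrime p) (LocalizedModule p.primeCompl (AdicCompletion (IsLocalRing.maximalIdeal A) (KaehlerDifferential k A))) ∧
      Module.finrank (Localization.AtPrime p) (LocalizedModule p.primeCompl (AdicCompletion (IsLocalRing.maximalIdeal A) (KaehlerDifferential k A))) = n) ∧
      CAlg.IsGeometricallyRegular k (Localization.AtPrime p) := by
  obtain ⟨s, hs⟩ := hgen
  obtain ⟨q, hqmin, hqp, hqdim⟩ := hq
  have hq' : ∃ q ∈ minimalPrimes A, q ≤ p ∧ ringKrullDim (A ⧸ q) = ringKrullDim A :=
    ⟨q, hqmin, hqp, hqdim.trans hn.symm⟩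
  have hm := Groth.Agent.Lib.Helper24.CplUnram.finrank_fibre_le_of_span A p
    (AdicCompletion (IsLocalRing.maximalIdeal A) (KaehlerDifferential k A)) n s hs
  obtain ⟨alg, tower, hloc, hfin, hunr⟩ :=
    Groth.Agent.Lib.Helper24.CplUnram.exists_finite_unramified k A p hp hq' n hm
  letI := alg
  haveI := tower
  haveI := hfin
  haveI := hunr
  haveI := Groth.Agent.LibObs29.isRegularLocalRing_mvPowerSeries k n
  haveI : IsDomain (MvPowerSeries (Fin n) k) := NoZeroDivisors.to_isDomain _
  have hcat : CAlg.IsCatenary A :=
    Groth.Agent.Lib.Helper24.CplCatenary.isCatenary_of_complete_local A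
  have hdimP : ringKrullDim (MvPowerSeries (Fin n) k) = n :=
    le_antisymm (Groth.Agent.Lib.Helper24.PSDim.ringKrullDim_mvPowerSeries_field_le k n)
      (Groth.Agent.LibObs29.le_ringKrullDim_mvPowerSeries k n)
  have hdim : ringKrullDim (A ⧸ q) = ringKrullDim (MvPowerSeries (Fin n) k) :=
    hqdim.trans hdimP.symm
  obtain ⟨hreg, -⟩ := Groth.Agent.Lib.Helper24.RegUnram.isRegularLocalRing_atPrime
    (MvPowerSeries (Fin n) k) A p hcat q hqmin hqp hdim
  haveI := hreg
  haveI : IsDomain (Localization.AtPrime p) :=
    Groth.Agent.Lib.helper15.isDomain_of_isRegularLocalRing _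
  haveI hét : Algebra.IsEtaleAt (MvPowerSeries (Fin n) k) p :=
    Groth.Agent.Lib.Helper24.RegUnram.isEtaleAt (MvPowerSeries (Fin n) k) A p hcat q hqmin hqp hdim
  exact ⟨Groth.Agent.Lib.Helper24.RegUnram.free_localizedModule_completedKaehler k A p q hqmin hqp
    n hqdim s hs, Groth.Agent.Lib.Helper24.RegUnram.isGeometricallyRegular_atPrime k n A p⟩

end Groth.Agent.S5055
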