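import Groth.Statements.S5057
import Mathlib
-- import your own Groth.Agent.* helpers here

set_option autoImplicit false
universe u
open CategoryTheory CategoryTheory.Limits AlgebraicGeometry
open Hensel

namespace Groth.Agent.S5057

/-- Let i : S₀ ⟶ S be a closed immersion such that for every finite morphism g : S' ⟶ S every
open-closed subset of S' ×_S S₀ is the inverse image under the first projection of exactly one
open-closed subset of S'. Then for every finite morphism g : S' ⟶ S, every open subset of S'
containing the image of S' ×_S S₀ is all of S'. -/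
theorem result {S S₀ : Scheme.{u}} (i : S₀ ⟶ S) [IsClosedImmersion i]
    (ha : ∀ (S' : Scheme.{u}) (g : S' ⟶ S), IsFinite g →
      ∀ V : Set ↥(pullback g i), IsClopen V → ∃! U : Set ↥S', IsClopen U ∧ (pullback.fst g i).base ⁻¹' U = V)
    {S' : Scheme.{u}} (g : S' ⟶ S) [IsFinite g] (U : Set ↥S') (hU : IsOpen U)
    (hU₀ : Set.range (pullback.fst g i).base ⊆ U) : U = Set.univ := by
  by_contra hne
  let Zc : TopologicalSpace.Closeds S' := ⟨Uᶜ, hU.isClosed_compl⟩
  let I := Scheme.IdealSheafData.vanishingIdeal Zc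
  let j := I.subschemeι
  have hrange : Set.range j = Uᶜ := by
    rw [I.range_subschemeι, Scheme.IdealSheafData.coe_support_vanishingIdeal]
    rfl
  have hfin : IsFinite (j ≫ g) := inferInstance
  have hempty : IsEmpty ↥(pullback (j ≫ g) i) := by
    constructor
    intro z
    let φ : pullback (j ≫ g) i ⟶ pullback g i :=
      pullback.lift (pullback.fst _ _ ≫ j) (pullback.snd _ _)
        (by rw [Category.assoc, pullback.condition])
    have h1 : (pullback.fst g i) (φ z) = j ((pullback.fst (j ≫ g) i) z) := by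
      rw [← Scheme.Hom.comp_apply, pullback.lift_fst, Scheme.Hom.comp_apply]
    have h2 : (pullback.fst g i) (φ z) ∈ U := hU₀ ⟨_, rfl⟩
    have h3 : j ((pullback.fst (j ≫ g) i) z) ∈ Uᶜ := hrange ▸ Set.mem_range_self _
    rw [h1] at h2
    exact h3 h2
  obtain ⟨W, hW, huniq⟩ := ha I.subscheme (j ≫ g) hfin ∅ isClopen_empty
  have e1 := huniq ∅ ⟨isClopen_empty, by simp⟩
  have e2 := huniq Set.univ ⟨isClopen_univ, Set.eq_empty_of_isEmpty _⟩
  have hEU : (∅ : Set I.subscheme) = Set.univ := e1.trans e2.symm
  obtain ⟨x, hx⟩ : ∃ x, x ∉ U := by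
    by_contra h
    exact hne (Set.eq_univ_of_forall fun x => by
      by_contra hx
      exact h ⟨x, hx⟩)
  have hxr : x ∈ Set.range j := hrange ▸ hx
  obtain ⟨z, -⟩ := hxr
  have : z ∈ (∅ : Set I.subscheme) := hEU ▸ Set.mem_univ z
  exact this

end Groth.Agent.S5057
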