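import Groth.Statements.S5059
import Mathlib
import Groth.Agent.Lib.Helper19.NFlat1

set_option autoImplicit false
universe u
open CInt

namespace Groth.Agent.S5059

-- MARK


/-- a) iff c) in the Noetherian case: let A be a Noetherian ring, R an ideal of A, f_1, …, f_n elements
of the Jacobson radical of A whose images form a regular sequence on A/R, Q = R + (f_1, …, f_n), and
M a finitely generated A-module. Then every graded piece R^k M / R^(k+1) M is flat over A/R if and
only if, for every k, (R^k M / R^(k+1) M) ⊗ A/Q is flat over A/Q and f_1, …, f_n is a regular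
sequence on R^k M / R^(k+1) M. -/
theorem result (A : Type u) [CommRing A] [IsNoetherianRing A]
    (R : Ideal A) {n : ℕ} (f : Fin n → A) (hrad : ∀ i, f i ∈ (⊥ : Ideal A).jacobson)
    (hreg : RingTheory.Sequence.IsWeaklyRegular (A ⧸ R) (List.ofFn f))
    (M : Type u) [AddCommGroup M] [Module A M] [Module.Finite A M] :
    EGA4.IsNormallyFlat R M ↔
      ∀ k : ℕ, Module.Flat (A ⧸ (R ⊔ Ideal.span (Set.range f))) ((↥(R ^ k • (⊤ : Submodule A M)) ⧸ (R • (⊤ : Submodule A ↥(R ^ k • (⊤ : Submodule A M))))) ⧸ ((R ⊔ Ideal.span (Set.range f)) • (⊤ : Submodule A (↥(R ^ k • (⊤ : Submodule A M)) ⧸ (R • (⊤ : Submodule A ↥(R ^ k • (⊤ : Submodule A M)))))))) ∧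
        RingTheory.Sequence.IsWeaklyRegular (↥(R ^ k • (⊤ : Submodule A M)) ⧸ (R • (⊤ : Submodule A ↥(R ^ k • (⊤ : Submodule A M))))) (List.ofFn f) := by
  classical
  have hspan : Ideal.span (Set.range f) = Ideal.ofList (List.ofFn f) := by
    unfold Ideal.ofList
    congr 1
    ext z
    simp [List.mem_ofFn]
  have hjac : ∀ a ∈ List.ofFn f, a ∈ (⊥ : Ideal A).jacobson := by
    intro a ha
    rw [List.mem_ofFn] at ha
    obtain ⟨i, rfl⟩ := ha
    exact hrad i
  rw [hspan]
  unfold EGA4.IsNormallyFlat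
  refine forall_congr' fun k => ?_
  constructor
  · intro h
    haveI := h
    exact Groth.Agent.Lib.helper19.NFlat.flat_quot_of_flat R _ (List.ofFn f) hreg
  · rintro ⟨h1, h2⟩
    exact Groth.Agent.Lib.helper19.NFlat.flat_of_flat_quot R _ (List.ofFn f) hjac h1 h2

end Groth.Agent.S5059
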