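import Groth.Statements.S5061
import Mathlib
import Groth.Agent.Lib.Helper3.PurInsepRed
import Groth.Agent.Lib.Helper3.PurInsepRed2
import Groth.Agent.Lib.Helper3.PurInsepLocal

set_option autoImplicit false
open scoped TensorProduct
universe u
open EGA418

namespace Groth.Agent.S5061


open Groth.Agent.Lib.helper3

/-- a) iff c): let k be a field of characteristic p > 0, P a perfect closure of k (a perfect field
purely inseparable over k) and K an extension field of k. Then the ring K ⊗_k P is Artinian if and
only if there exists a finite purely inseparable extension k' of k such that (k' ⊗_k K) modulo its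
nilradical is geometrically reduced over k'. -/
theorem result (p : ℕ) [Fact p.Prime]
    (k K : Type u) [Field k] [CharP k p] [Field K] [Algebra k K]
    (P : Type u) [Field P] [Algebra k P] [PerfectRing P p] [IsPRadical (algebraMap k P) p] :
    IsArtinianRing (K ⊗[k] P) ↔
      ∃ (k' : Type u) (_ : Field k') (_ : Algebra k k'), Module.Finite k k' ∧ IsPurelyInseparable k k' ∧
        Algebra.IsGeometricallyReduced k' ((k' ⊗[k] K) ⧸ nilradical (k' ⊗[k] K)) := by
  have hexp : ExpChar k p := ExpChar.prime Fact.out
  have hexpP : ExpChar P p := expChar_of_injective_algebraMap (algebraMap k P).injective p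
  have hperf : PerfectField P := PerfectRing.toPerfectField P p
  have hPI : IsPurelyInseparable k P := IsPRadical.isPurelyInseparable k P p
  constructor
  · intro hart
    have hN : IsNoetherianRing (K ⊗[k] P) := inferInstance
    have hN' : IsNoetherianRing (P ⊗[k] K) :=
      isNoetherianRing_of_ringEquiv _ (Algebra.TensorProduct.comm k K P).toRingEquiv
    have hfg : (nilradical (P ⊗[k] K)).FG := IsNoetherian.noetherian _
    obtain ⟨k', _, _, _, _, hfin, h⟩ := PurInsepRed.exists_intermediateField P K hfg
    exact ⟨k', _, _, hfin, IsPurelyInseparable.tower_bot k k' P, h⟩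
  · rintro ⟨k', _, _, hfin, hpi, h⟩
    have hexp' : ExpChar k' p := expChar_of_injective_algebraMap (algebraMap k k').injective p
    let φ : k' →+* P := PerfectRing.lift (algebraMap k k') (algebraMap k P) p
    have hφ : ∀ x, φ (algebraMap k k' x) = algebraMap k P x :=
      PerfectRing.lift_comp_apply (algebraMap k k') (algebraMap k P) p
    let _ : Algebra k' P := φ.toAlgebra
    have htower : IsScalarTower k k' P :=
      IsScalarTower.of_algebraMap_eq (fun x => (hφ x).symm)
    have hB0 : IsNoetherianRing (K ⊗[k] k') := IsNoetherianRing.of_finite K (K ⊗[k] k')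
    have hB : IsNoetherianRing (k' ⊗[k] K) :=
      isNoetherianRing_of_ringEquiv _ (Algebra.TensorProduct.comm k K k').toRingEquiv
    have hmap := PurInsepRed.map_nilradical_eq k' P K h
    have hfg : (nilradical (P ⊗[k] K)).FG := by
      rw [← hmap]
      exact Ideal.FG.map (IsNoetherian.noetherian _) _
    have hnoeth : IsNoetherianRing (P ⊗[k] K) := IsNoetherianRing.of_prime fun I hI => by
      rw [PurInsepLocal.eq_nilradical_of_isPrime k P K I]
      exact hfg
    have hdim : Ring.KrullDimLE 0 (P ⊗[k] K) := Ring.KrullDimLE.mk₀ fun I hI => by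
      obtain ⟨M, hM, _⟩ := Ideal.exists_le_maximal I hI.ne_top
      have hMp : M.IsPrime := hM.isPrime
      have h1 := PurInsepLocal.eq_nilradical_of_isPrime k P K I
      have h2 := PurInsepLocal.eq_nilradical_of_isPrime k P K M
      rw [h1, ← h2]
      exact hM
    have hart : IsArtinianRing (P ⊗[k] K) :=
      isArtinianRing_iff_isNoetherianRing_krullDimLE_zero.mpr ⟨hnoeth, hdim⟩
    exact (Algebra.TensorProduct.comm k P K).toRingEquiv.isArtinianRing

end Groth.Agent.S5061
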