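import Groth.Statements.S5063
import Mathlib
import Groth.Agent.Lib.Helper18.PullbackSquare
import Groth.Agent.Lib.Helper18.StalkEtale3

set_option autoImplicit false
open CategoryTheory CategoryTheory.Limits AlgebraicGeometry
universe u
open Unram

namespace Groth.Agent.S5063

open H18Stalk Groth.Agent.Lib.Helper18.PullbackStalk

set_option backward.defeqAttrib.useBackward true in
set_option backward.isDefEq.respectTransparency false in
/-- Local structure of unramified morphisms, geometric form. -/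
theorem key {X Y : Scheme.{u}} (f : X ⟶ Y) [LocallyOfFinitePresentation f]
    [FormallyUnramified f] (x : X) :
    ∃ (Y' : Scheme.{u}) (g : Y' ⟶ Y) (U : (pullback f g).Opens), Etale g ∧
      x ∈ (pullback.fst f g).base '' (U : Set ↥(pullback f g)) ∧
      IsClosedImmersion (U.ι ≫ pullback.snd f g) := by
  obtain ⟨_, ⟨US, hUS, rfl⟩, hxU, -⟩ :=
    Y.isBasis_affineOpens.exists_subset_of_mem_open (Set.mem_univ (f x)) isOpen_univ
  obtain ⟨_, ⟨UX, hUX, rfl⟩, hxV, hXS⟩ :=
    X.isBasis_affineOpens.exists_subset_of_mem_open hxU (US.2.preimage f.continuous)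
  have hft := f.finiteType_appLE hUS hUX hXS
  have hfu : (f.appLE US UX hXS).hom.FormallyUnramified :=
    HasRingHomProperty.appLE (P := @FormallyUnramified) f inferInstance ⟨US, hUS⟩ ⟨UX, hUX⟩ hXS
  algebraize [(f.appLE US UX hXS).hom]
  let q := (hUX.primeIdealOf ⟨x, hxV⟩).asIdeal
  obtain ⟨f₀, hf₀, P, φ, hφ⟩ :=
    Algebra.IsUnramifiedAt.exists_hasStandardEtaleSurjectionOn (R := Γ(Y, US)) q
  have hxf₀ : x ∈ X.basicOpen f₀ := by
    rwa [← PrimeSpectrum.mem_basicOpen, IsAffineOpen.primeIdealOf,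
      ← hUX.fromSpec_preimage_basicOpen, Scheme.Hom.mem_preimage, ← Scheme.Hom.comp_apply,
      IsAffineOpen.isoSpec_hom, IsAffineOpen.toSpecΓ_fromSpec] at hf₀
  have hV : IsAffineOpen (X.basicOpen f₀) := hUX.basicOpen f₀
  have hVS : X.basicOpen f₀ ≤ f ⁻¹ᵁ US := (X.basicOpen_le f₀).trans hXS
  have hloc := hUX.isLocalization_basicOpen f₀
  let e := IsLocalization.algEquiv (.powers f₀) (Localization.Away f₀) Γ(X, X.basicOpen f₀)
  let ψ : P.Ring →+* Γ(X, X.basicOpen f₀) := e.toRingEquiv.toRingHom.comp φ.toRingHom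
  have hψ : Function.Surjective ψ := e.surjective.comp hφ
  have hψc : ψ.comp (algebraMap Γ(Y, US) P.Ring) = (f.appLE US (X.basicOpen f₀) hVS).hom := by
    ext a
    simp only [ψ, RingHom.comp_apply]
    show e (φ (algebraMap _ _ a)) = _
    rw [AlgHom.commutes, IsScalarTower.algebraMap_apply Γ(Y, US) Γ(X, UX) (Localization.Away f₀),
      AlgEquiv.commutes]
    simp only [RingHom.algebraMap_toAlgebra, ← ConcreteCategory.comp_apply,
      Scheme.Hom.appLE_map]
  let Y' : Scheme.{u} := Spec (CommRingCat.of P.Ring)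
  let g : Y' ⟶ Y := Spec.map (CommRingCat.ofHom (algebraMap Γ(Y, US) P.Ring)) ≫ hUS.fromSpec
  have hg1 : Etale (Spec.map (CommRingCat.ofHom (algebraMap Γ(Y, US) P.Ring))) := by
    rw [HasRingHomProperty.Spec_iff (P := @Etale)]
    exact RingHom.etale_algebraMap.mpr inferInstance
  have hg : Etale g := inferInstance
  let i : (X.basicOpen f₀).toScheme ⟶ Y' := hV.isoSpec.hom ≫ Spec.map (CommRingCat.ofHom ψ)
  have hi0 : IsClosedImmersion (Spec.map (CommRingCat.ofHom ψ)) :=
    IsClosedImmersion.spec_of_surjective _ hψ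
  have hi : IsClosedImmersion i := inferInstance
  have hcomp : (X.basicOpen f₀).ι ≫ f = i ≫ g := by
    simp only [i, g, Category.assoc]
    rw [← Category.assoc (Spec.map _), ← Spec.map_comp, ← CommRingCat.ofHom_comp, hψc,
      CommRingCat.ofHom_hom, IsAffineOpen.SpecMap_appLE_fromSpec f hUS hV,
      ← Category.assoc, IsAffineOpen.fromSpec, ← Category.assoc, Iso.hom_inv_id, Category.id_comp]
  let Γ : (X.basicOpen f₀).toScheme ⟶ pullback f g := pullback.lift (X.basicOpen f₀).ι i hcomp
  have hΓ1 : Γ ≫ pullback.fst f g = (X.basicOpen f₀).ι := pullback.lift_fst _ _ _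
  have hΓ2 : Γ ≫ pullback.snd f g = i := pullback.lift_snd _ _ _
  have : Etale (Γ ≫ pullback.fst f g) := by rw [hΓ1]; infer_instance
  have hΓe : Etale Γ := Etale.of_comp Γ (pullback.fst f g)
  have hΓm : Mono Γ := mono_of_mono_fac hΓ1
  have hΓo : IsOpenImmersion Γ := IsOpenImmersion.of_flat_of_mono Γ
  refine ⟨Y', g, Γ.opensRange, hg, ⟨Γ ⟨x, hxf₀⟩, ⟨_, rfl⟩, ?_⟩, ?_⟩
  · show (pullback.fst f g) (Γ ⟨x, hxf₀⟩) = x
    rw [← Scheme.Hom.comp_apply, hΓ1]
    rfl
  · have h2 : Γ.opensRange.ι ≫ pullback.snd f g = Γ.isoOpensRange.inv ≫ i := by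
      rw [← cancel_epi Γ.isoOpensRange.hom, ← Category.assoc, Scheme.Hom.isoOpensRange_hom_ι,
        hΓ2, Iso.hom_inv_id_assoc]
    rw [h2]
    infer_instance

/-- Let f : X ⟶ Y be locally of finite presentation. If f is unramified then there are étale morphisms
g_a : Y'_a ⟶ Y and opens U_a of the fibre products X ×_Y Y'_a whose images under the first
projections cover X, such that each U_a ⟶ Y'_a (inclusion followed by the second projection) is a
closed immersion. Conversely, the existence of such a family with the g_a only assumed flat implies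
that f is unramified. -/
theorem result {X Y : Scheme.{u}} (f : X ⟶ Y) [LocallyOfFinitePresentation f] :
    (FormallyUnramified f → ∃ (ι : Type u) (Y' : ι → Scheme.{u}) (g : ∀ a, Y' a ⟶ Y) (U : ∀ a, (pullback f (g a)).Opens),
      (∀ a, Etale (g a)) ∧ (∀ x : X, ∃ a, x ∈ (pullback.fst f (g a)).base '' (U a : Set ↥(pullback f (g a)))) ∧
        ∀ a, IsClosedImmersion ((U a).ι ≫ pullback.snd f (g a))) ∧
    ((∃ (ι : Type u) (Y' : ι → Scheme.{u}) (g : ∀ a, Y' a ⟶ Y) (U : ∀ a, (pullback f (g a)).Opens),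
      (∀ a, Flat (g a)) ∧ (∀ x : X, ∃ a, x ∈ (pullback.fst f (g a)).base '' (U a : Set ↥(pullback f (g a)))) ∧
        ∀ a, IsClosedImmersion ((U a).ι ≫ pullback.snd f (g a))) → FormallyUnramified f) := by
  constructor
  · intro hf
    choose Y' g U h1 h2 h3 using key f
    exact ⟨X, Y', g, U, h1, fun x => ⟨x, h2 x⟩, h3⟩
  · rintro ⟨ι, Y', g, U, hg, hcov, hU⟩
    have key2 : ∀ x : X, ∃ V : X.Opens, x ∈ V ∧ FormallyUnramified (V.ι ≫ f) := by
      intro x
      obtain ⟨a, z, hz, rfl⟩ := hcov x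
      have H : IsPullback (pullback.fst f (g a)) (pullback.snd f (g a)) f (g a) :=
        IsPullback.of_hasPullback f (g a)
      have := hU a
      have h2 := FormallyUnramified.stalkMap ((U a).ι ≫ pullback.snd f (g a))
        (⟨z, hz⟩ : (U a).toScheme)
      have h2' := (stalkMap_ι_comp_iff RingHom.FormallyUnramified.respectsIso _ (U a)
        ⟨z, hz⟩).mp h2
      rw [exists_unramified_nhd_iff]
      exact (unram_stalk_iff_of_isPullback H z).mp h2'
    choose V hxV hV using key2
    refine IsZariskiLocalAtSource.of_iSup_eq_top (P := @FormallyUnramified) V ?_ hV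
    exact top_le_iff.mp fun x _ => TopologicalSpace.Opens.mem_iSup.mpr ⟨x, hxV x⟩

end Groth.Agent.S5063
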