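import Groth.Statements.S5064
import Mathlib
import Groth.Agent.Lib.Helper18.PullbackSquare
import Groth.Agent.Lib.Helper18.StalkEtale3

set_option autoImplicit false
open CategoryTheory CategoryTheory.Limits AlgebraicGeometry
universe u
open Unram

namespace Groth.Agent.S5064

open H18Stalk Groth.Agent.Lib.Helper18.PullbackStalk

/-- Let f : X ⟶ Y be locally of finite presentation. If f is étale then there are étale morphisms g_a :
Y'_a ⟶ Y and opens U_a of the fibre products X ×_Y Y'_a whose images under the first projections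
cover X, such that each U_a ⟶ Y'_a (inclusion followed by the second projection) is an open
immersion. Conversely, the existence of such a family with the g_a only assumed flat implies that f
is étale. -/
theorem result {X Y : Scheme.{u}} (f : X ⟶ Y) [LocallyOfFinitePresentation f] :
    (Etale f → ∃ (ι : Type u) (Y' : ι → Scheme.{u}) (g : ∀ a, Y' a ⟶ Y) (U : ∀ a, (pullback f (g a)).Opens),
      (∀ a, Etale (g a)) ∧ (∀ x : X, ∃ a, x ∈ (pullback.fst f (g a)).base '' (U a : Set ↥(pullback f (g a)))) ∧
        ∀ a, IsOpenImmersion ((U a).ι ≫ pullback.snd f (g a))) ∧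
    ((∃ (ι : Type u) (Y' : ι → Scheme.{u}) (g : ∀ a, Y' a ⟶ Y) (U : ∀ a, (pullback f (g a)).Opens),
      (∀ a, Flat (g a)) ∧ (∀ x : X, ∃ a, x ∈ (pullback.fst f (g a)).base '' (U a : Set ↥(pullback f (g a)))) ∧
        ∀ a, IsOpenImmersion ((U a).ι ≫ pullback.snd f (g a))) → Etale f) := by
  constructor
  · intro hf
    have hΔ : IsOpenImmersion (pullback.diagonal f) := inferInstance
    refine ⟨PUnit, fun _ => X, fun _ => f, fun _ => (pullback.diagonal f).opensRange,
      fun _ => hf, ?_, ?_⟩
    · intro x
      refine ⟨⟨⟩, pullback.diagonal f x, ⟨x, rfl⟩, ?_⟩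
      show (pullback.fst f f) (pullback.diagonal f x) = x
      rw [← Scheme.Hom.comp_apply, pullback.diagonal_fst]
      rfl
    · intro _
      have h1 : (pullback.diagonal f).isoOpensRange.hom ≫
          ((pullback.diagonal f).opensRange.ι ≫ pullback.snd f f) = 𝟙 X := by
        rw [← Category.assoc, Scheme.Hom.isoOpensRange_hom_ι, pullback.diagonal_snd]
      have h2 : (pullback.diagonal f).opensRange.ι ≫ pullback.snd f f =
          (pullback.diagonal f).isoOpensRange.inv := by
        rw [← cancel_epi (pullback.diagonal f).isoOpensRange.hom, h1, Iso.hom_inv_id]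
      rw [h2]
      infer_instance
  · rintro ⟨ι, Y', g, U, hg, hcov, hU⟩
    have key : ∀ x : X, ∃ V : X.Opens, x ∈ V ∧ Etale (V.ι ≫ f) := by
      intro x
      obtain ⟨a, z, hz, rfl⟩ := hcov x
      have H : IsPullback (pullback.fst f (g a)) (pullback.snd f (g a)) f (g a) :=
        IsPullback.of_hasPullback f (g a)
      have := hg a
      have := hU a
      have hgz := Flat.stalkMap (g a) (pullback.snd f (g a) z)
      have h1 := Flat.stalkMap ((U a).ι ≫ pullback.snd f (g a)) (⟨z, hz⟩ : (U a).toScheme)
      have h2 := FormallyUnramified.stalkMap ((U a).ι ≫ pullback.snd f (g a))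
        (⟨z, hz⟩ : (U a).toScheme)
      have h1' := (stalkMap_ι_comp_iff RingHom.Flat.respectsIso _ (U a) ⟨z, hz⟩).mp h1
      have h2' := (stalkMap_ι_comp_iff RingHom.FormallyUnramified.respectsIso _ (U a)
        ⟨z, hz⟩).mp h2
      rw [exists_etale_nhd_iff_fp]
      exact ⟨flat_stalk_descent_of_isPullback H z hgz h1',
        (unram_stalk_iff_of_isPullback H z).mp h2'⟩
    choose V hxV hV using key
    refine IsZariskiLocalAtSource.of_iSup_eq_top (P := @Etale) V ?_ hV
    exact top_le_iff.mp fun x _ => TopologicalSpace.Opens.mem_iSup.mpr ⟨x, hxV x⟩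

end Groth.Agent.S5064
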