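import Groth.Statements.S5065
import Mathlib
import Groth.Agent.Lib.Helper10.IntClEt2

set_option autoImplicit false
universe u
open Unram

namespace Groth.Agent.S5065

set_option linter.style.haveILetI false
set_option linter.unusedSectionVars false

open TensorProduct Groth.Agent.Lib.helper10

theorem main (A A' L L₁ : Type u) [CommRing A] [IsDomain A]
    [IsIntegrallyClosed A] [CommRing A'] [IsDomain A'] [IsIntegrallyClosed A'] [Algebra A A']
    [Field L] [Algebra A L] [Algebra.IsAlgebraic A L] (hinj : Function.Injective (algebraMap A L))
    [Algebra.Etale A ↥(integralClosure A L)]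
    [Field L₁] [Algebra A' L₁] [Algebra L L₁] [Algebra A L₁] [IsScalarTower A A' L₁] [IsScalarTower A L L₁]
    (hinj' : Function.Injective (algebraMap A' L₁))
    (hgen : Subfield.closure (Set.range (algebraMap A' L₁) ∪ Set.range (algebraMap L L₁)) = ⊤) :
    Algebra.Etale A' ↥(integralClosure A' L₁) ∧
      integralClosure A' L₁ = Algebra.adjoin A' ((algebraMap L L₁) '' {x : L | IsIntegral A x}) := by
  obtain ⟨h1, h2⟩ := IntClEt.main A A' ↥(integralClosure A L) L L₁ hinj hinj' hgen
  refine ⟨h1, ?_⟩
  apply le_antisymm
  · have key : ∀ s : A' ⊗[A] ↥(integralClosure A L),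
        IntClEt.sigma A A' ↥(integralClosure A L) L L₁ s ∈
          Algebra.adjoin A' ((algebraMap L L₁) '' {x : L | IsIntegral A x}) := by
      intro s
      induction s using TensorProduct.induction_on with
      | zero => rw [map_zero]; exact Subalgebra.zero_mem _
      | tmul a' c =>
        rw [IntClEt.sigma_tmul, ← Algebra.smul_def]
        have hc : algebraMap L L₁ (algebraMap (↥(integralClosure A L)) L c) ∈
            (algebraMap L L₁) '' {x : L | IsIntegral A x} := ⟨(c : L), c.2, rfl⟩
        exact Subalgebra.smul_mem _ (Algebra.subset_adjoin hc) a'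
      | add a b ha hb => rw [map_add]; exact Subalgebra.add_mem _ ha hb
    intro x hx
    obtain ⟨s, rfl⟩ := (h2 x).mp hx
    exact key s
  · apply Algebra.adjoin_le
    rintro _ ⟨l, hl, rfl⟩
    have hl' : IsIntegral A l := hl
    have h3 : IsIntegral A (algebraMap L L₁ l) := hl'.map (IsScalarTower.toAlgHom A L L₁)
    exact h3.tower_top



/-- Let A ⊆ A' be integrally closed domains, L a field algebraic over the fraction field of A in which A
embeds and whose integral closure C over A is an étale A-algebra, and L₁ a field in which A' and L
both embed, compatibly over A, and which is generated as a field by the images of A' and L (a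
compositum of L with the fraction field of A'; the map A' → L₁ is injective, so that the fraction
field of A' is a subfield of L₁). Then the integral closure of A' in L₁ is an étale A'-algebra and
coincides with the A'-subalgebra generated by the image of C. -/
theorem result (A A' L L₁ : Type u) [CommRing A] [IsDomain A]
    [IsIntegrallyClosed A] [CommRing A'] [IsDomain A'] [IsIntegrallyClosed A'] [Algebra A A']
    [Field L] [Algebra A L] [Algebra.IsAlgebraic A L] (hinj : Function.Injective (algebraMap A L))
    [Algebra.Etale A ↥(integralClosure A L)]
    [Field L₁] [Algebra A' L₁] [Algebra L L₁] [Algebra A L₁] [IsScalarTower A A' L₁] [IsScalarTower A L L₁]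
    (hinj' : Function.Injective (algebraMap A' L₁))
    (hgen : Subfield.closure (Set.range (algebraMap A' L₁) ∪ Set.range (algebraMap L L₁)) = ⊤) :
    Algebra.Etale A' ↥(integralClosure A' L₁) ∧
      integralClosure A' L₁ = Algebra.adjoin A' ((algebraMap L L₁) '' {x : L | IsIntegral A x}) := by
  exact main A A' L L₁ hinj hinj' hgen

end Groth.Agent.S5065
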