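import Groth.Statements.S5068
import Mathlib
import Groth.Agent.Lib.Helper17.TransReg1
import Groth.Agent.Lib.Helper17.CINum9
import Groth.Agent.Lib.Helper17.CILocus1

set_option autoImplicit false
set_option linter.style.haveILetI false
universe u
open CInt

namespace Groth.Agent.S5068

open IsLocalRing RingTheory.Sequence TensorProduct
open Groth.Agent.Lib.helper17.TransReg Groth.Agent.Lib.helper17.CINum

section Bridge

variable (A C : Type u) [CommRing A] [CommRing C] [Algebra A C]

/-- `C/(I • ⊤) ≃ C/I`, `C`-linearly. -/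
noncomputable def quotSMulTopEquiv (I : Ideal C) :
    (C ⧸ (I • (⊤ : Submodule C C))) ≃ₗ[C] (C ⧸ I) :=
  Submodule.quotEquivOfEq _ _ (by rw [smul_eq_mul, Ideal.mul_top])

theorem flatQuots_iff (rs : List C) :
    FlatQuots A C C rs ↔ ∀ j : ℕ, j ≤ rs.length → Module.Flat A (C ⧸ Ideal.ofList (rs.take j)) := by
  refine forall_congr' fun j => forall_congr' fun _ => ?_
  constructor
  · intro h
    exact flat_of_linearEquiv_S (R := A) (quotSMulTopEquiv C (Ideal.ofList (rs.take j))).symm h
  · intro h
    exact flat_of_linearEquiv_S (R := A) (quotSMulTopEquiv C (Ideal.ofList (rs.take j))) h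

/-- weakly regular on `C ⊗ k` iff images weakly regular on the fibre ring. -/
theorem isWeaklyRegular_fibre_iff [IsLocalRing A] (rs : List C) :
    IsWeaklyRegular (C ⊗[A] (A ⧸ maximalIdeal A)) rs ↔
      IsWeaklyRegular (EGA4.FibRing A C) (rs.map (Ideal.Quotient.mk (EGA4.mB A C))) := by
  have e : (C ⊗[A] (A ⧸ maximalIdeal A)) ≃ₗ[C] (EGA4.FibRing A C) :=
    (Groth.Agent.Lib.Helper24.FlatDepth.tensorQuotEquiv A C C (maximalIdeal A)).trans
      (quotSMulTopEquiv C (EGA4.mB A C))
  rw [e.isWeaklyRegular_congr rs]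
  exact (isWeaklyRegular_map_algebraMap_iff (EGA4.FibRing A C) (EGA4.FibRing A C) rs).symm

end Bridge

section FibMap

variable (A C B : Type u) [CommRing A] [IsLocalRing A] [CommRing C] [Algebra A C]
  [CommRing B] [Algebra C B] [Algebra A B] [IsScalarTower A C B]

theorem mB_map : (EGA4.mB A C).map (algebraMap C B) = EGA4.mB A B := by
  unfold EGA4.mB
  rw [Ideal.map_map, ← IsScalarTower.algebraMap_eq]

/-- the map of fibre rings `C/mC → B/mB`. -/
noncomputable def fibMap : EGA4.FibRing A C →+* EGA4.FibRing A B :=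
  Ideal.quotientMap (EGA4.mB A B) (algebraMap C B) (by
    rw [← mB_map A C B]; exact Ideal.le_comap_map)

theorem fibMap_mk (c : C) :
    fibMap A C B (Ideal.Quotient.mk _ c) = Ideal.Quotient.mk _ (algebraMap C B c) := rfl

variable {C B} in
theorem fibMap_surjective (hsurj : Function.Surjective (algebraMap C B)) :
    Function.Surjective (fibMap A C B) :=
  Ideal.quotientMap_surjective hsurj

variable {C B} in
theorem ker_fibMap (hsurj : Function.Surjective (algebraMap C B)) :
    RingHom.ker (fibMap A C B) =
      (RingHom.ker (algebraMap C B)).map (Ideal.Quotient.mk (EGA4.mB A C)) := by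
  ext x
  obtain ⟨c, rfl⟩ := Ideal.Quotient.mk_surjective x
  rw [RingHom.mem_ker, fibMap_mk, Ideal.Quotient.eq_zero_iff_mem, ← mB_map A C B,
    ← Ideal.mem_comap, Ideal.comap_map_of_surjective _ hsurj,
    ← Ideal.mem_comap (f := Ideal.Quotient.mk (EGA4.mB A C)),
    Ideal.comap_map_of_surjective _ Ideal.Quotient.mk_surjective]
  have h1 : Ideal.comap (algebraMap C B) ⊥ = RingHom.ker (algebraMap C B) := rfl
  have h2 : Ideal.comap (Ideal.Quotient.mk (EGA4.mB A C)) ⊥ = EGA4.mB A C := by
    rw [← RingHom.ker_eq_comap_bot, Ideal.mk_ker]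
  rw [h1, h2, sup_comm]

end FibMap

theorem exists_lift_list {C D : Type u} [CommRing C] [CommRing D] (f : C →+* D)
    (hf : Function.Surjective f) (J : Ideal C) :
    ∀ l : List D, (∀ y ∈ l, y ∈ J.map f) → ∃ l' : List C, (∀ x ∈ l', x ∈ J) ∧ l'.map f = l := by
  intro l
  induction l with
  | nil => intro _; exact ⟨[], by simp, rfl⟩
  | cons y l ih =>
    intro h
    obtain ⟨l', hl', hl'm⟩ := ih (fun z hz => h z (List.mem_cons_of_mem _ hz))
    obtain ⟨x, hx, hxy⟩ := (Ideal.mem_map_iff_of_surjective f hf).mp (h y List.mem_cons_self)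
    refine ⟨x :: l', ?_, ?_⟩
    · intro z hz
      rcases List.mem_cons.mp hz with rfl | hz
      · exact hx
      · exact hl' z hz
    · rw [List.map_cons, hxy, hl'm]

theorem flat_quot_congr {A C : Type u} [CommRing A] [CommRing C] [Algebra A C] {I I' : Ideal C}
    (h : I = I') (hfl : Module.Flat A (C ⧸ I)) : Module.Flat A (C ⧸ I') := by
  subst h; exact hfl

/-- Suppose A and C are Noetherian local rings joined by a flat local homomorphism A → C whose closed
fibre C/m_A C is a regular local ring, and consider a local ring B obtained as a quotient of C by an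
ideal J (encoded as a surjective C-algebra B, with J taken to be the kernel). The ideal J admits a
generating sequence that is transversally regular relative to A (each term a non-zero-divisor modulo
the previous ones, and every partial quotient C/(f_1, …, f_j) A-flat) exactly when two things hold:
B is A-flat, and B/m_A B is a complete intersection (meaning its completion is a regular local ring
divided by a regular sequence). -/
theorem result (A C B : Type u) [CommRing A] [IsLocalRing A]
    [IsNoetherianRing A] [CommRing C] [IsLocalRing C] [IsNoetherianRing C] [Algebra A C] [IsLocalHom (algebraMap A C)]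
    [Module.Flat A C] (hreg : IsRegularLocalRing (EGA4.FibRing A C))
    [CommRing B] [IsLocalRing B] [Algebra C B] [Algebra A B] [IsScalarTower A C B] [IsLocalHom (algebraMap A B)]
    (hsurj : Function.Surjective (algebraMap C B)) :
    (∃ rs : List C, Ideal.ofList rs = RingHom.ker (algebraMap C B) ∧ RegImm.IsTransRegularSeq A C rs) ↔
      (Module.Flat A B ∧ Pi1.IsCompleteIntersection (EGA4.FibRing A B)) := by
  haveI := hreg
  set J := RingHom.ker (algebraMap C B) with hJdef
  have hψ := fibMap_surjective A hsurj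
  have hker := ker_fibMap A hsurj
  haveI : IsNoetherianRing B := isNoetherianRing_of_surjective C B (algebraMap C B) hsurj
  -- the `A`-linear iso `C/J ≃ B`
  let g : (C ⧸ J) →ₗ[A] B :=
    (Submodule.liftQ J (Algebra.linearMap C B) (le_of_eq rfl)).restrictScalars A
  have hg : Function.Bijective g := by
    constructor
    · rw [← LinearMap.ker_eq_bot]
      have : LinearMap.ker (Submodule.liftQ J (Algebra.linearMap C B) (le_of_eq rfl)) = ⊥ :=
        Submodule.ker_liftQ_eq_bot _ _ _ (le_of_eq rfl)
      ext x
      rw [LinearMap.mem_ker, Submodule.mem_bot]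
      have h2 : x ∈ LinearMap.ker (Submodule.liftQ J (Algebra.linearMap C B) (le_of_eq rfl)) ↔
          x = 0 := by rw [this, Submodule.mem_bot]
      exact h2
    · intro b
      obtain ⟨c, rfl⟩ := hsurj b
      exact ⟨Submodule.Quotient.mk c, rfl⟩
  let eg : (C ⧸ J) ≃ₗ[A] B := LinearEquiv.ofBijective g hg
  constructor
  · rintro ⟨rs, hrs, hw, hfl⟩
    refine ⟨?_, ?_⟩
    · have h1 := hfl rs.length le_rfl
      rw [List.take_length] at h1
      have h2 : Module.Flat A (C ⧸ J) := flat_quot_congr hrs h1
      exact Module.Flat.of_linearEquiv eg.symm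
    · have h1 : IsWeaklyRegular (C ⊗[A] (A ⧸ maximalIdeal A)) rs :=
        isWeaklyRegular_fibre_of_flatQuots A C rs C hw ((flatQuots_iff A C rs).mpr hfl)
      have h2 := (isWeaklyRegular_fibre_iff A C rs).mp h1
      have hof : Ideal.ofList (rs.map (Ideal.Quotient.mk (EGA4.mB A C))) =
          RingHom.ker (fibMap A C B) := by
        rw [← Ideal.map_ofList, hrs, hker]
      have hne : RingHom.ker (fibMap A C B) ≠ ⊤ := RingHom.ker_ne_top _
      have hregs : IsRegular (EGA4.FibRing A C) (rs.map (Ideal.Quotient.mk (EGA4.mB A C))) := by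
        refine ⟨h2, ?_⟩
        rw [smul_eq_mul, Ideal.mul_top, hof]
        exact hne.symm
      have hRG : IsRegGen (EGA4.FibRing A C) (RingHom.ker (fibMap A C B)) := ⟨_, hof, hregs⟩
      let e := RingHom.quotientKerEquivOfSurjective hψ
      haveI : IsLocalRing (EGA4.FibRing A C ⧸ RingHom.ker (fibMap A C B)) :=
        e.symm.isLocalRing
      have hCI := isCompleteIntersection_quotient_of_isRegGen (RingHom.ker (fibMap A C B)) hRG
      exact Groth.Agent.Lib.helper17.CILocus.ci_of_ringEquiv e hCI
  · rintro ⟨hflat, hCI⟩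
    obtain ⟨rbs, hrbs, hregb⟩ :=
      isRegGen_ker_of_isCompleteIntersection (fibMap A C B) hψ hCI
    obtain ⟨rs, hrsJ, hrsmap⟩ := exists_lift_list (Ideal.Quotient.mk (EGA4.mB A C))
      Ideal.Quotient.mk_surjective J rbs (fun y hy => by
        rw [← hker, ← hrbs]
        exact Ideal.subset_span hy)
    have h1 : IsWeaklyRegular (C ⊗[A] (A ⧸ maximalIdeal A)) rs := by
      rw [isWeaklyRegular_fibre_iff, hrsmap]
      exact hregb.toIsWeaklyRegular
    obtain ⟨hw, hfq⟩ := isWeaklyRegular_of_fibre A C rs C h1
    have hfl := (flatQuots_iff A C rs).mp hfq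
    refine ⟨rs, ?_, hw, hfl⟩
    -- `(rs) = J` by Nakayama
    have hKJ : Ideal.ofList rs ≤ J := Ideal.span_le.mpr (fun x hx => hrsJ x hx)
    have hmapeq : (Ideal.ofList rs).map (Ideal.Quotient.mk (EGA4.mB A C)) =
        J.map (Ideal.Quotient.mk (EGA4.mB A C)) := by
      rw [Ideal.map_ofList, hrsmap, hrbs, hker]
    refine le_antisymm hKJ ?_
    have hjac : EGA4.mB A C ≤ Ideal.jacobson ⊥ := by
      rw [IsLocalRing.jacobson_eq_maximalIdeal ⊥ bot_ne_top]
      exact IsLocalRing.map_maximalIdeal_le (algebraMap A C)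
    refine Submodule.le_of_le_smul_of_le_jacobson_bot (IsNoetherian.noetherian J) hjac ?_
    intro x hx
    have hx1 : Ideal.Quotient.mk (EGA4.mB A C) x ∈
        (Ideal.ofList rs).map (Ideal.Quotient.mk (EGA4.mB A C)) := by
      rw [hmapeq]; exact Ideal.mem_map_of_mem _ hx
    obtain ⟨y, hy, hyx⟩ := (Ideal.mem_map_iff_of_surjective _ Ideal.Quotient.mk_surjective).mp hx1
    have hz : x - y ∈ EGA4.mB A C := by
      rw [← Ideal.Quotient.eq, hyx]
    have hzJ : x - y ∈ J := sub_mem hx (hKJ hy)
    -- `J ∩ mC = mJ` by flatness of `B`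
    let φ : C →ₗ[A] B := (Algebra.linearMap C B).restrictScalars A
    have hφ : Function.Surjective φ := hsurj
    have hzmem : x - y ∈ LinearMap.ker φ ⊓ (maximalIdeal A) • (⊤ : Submodule A C) := by
      refine Submodule.mem_inf.mpr ⟨hzJ, ?_⟩
      have h2 := Ideal.smul_restrictScalars (maximalIdeal A) (⊤ : Submodule C C)
      rw [Submodule.restrictScalars_top] at h2
      rw [← h2]
      change x - y ∈ (maximalIdeal A).map (algebraMap A C) • (⊤ : Submodule C C)
      rw [smul_eq_mul, Ideal.mul_top]
      exact hz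
    have hz2 := Groth.Agent.Lib.Helper24.FlatNilSmooth.ker_inf_smul_top_le (maximalIdeal A) φ hφ hzmem
    have key : ∀ w ∈ (maximalIdeal A) • LinearMap.ker φ, w ∈ EGA4.mB A C • J := by
      intro w hw'
      refine Submodule.smul_induction_on (p := fun w => w ∈ EGA4.mB A C • J) hw' ?_ ?_
      · intro a ha c hc
        rw [← algebraMap_smul C a c]
        exact Submodule.smul_mem_smul (Ideal.mem_map_of_mem (algebraMap A C) ha) (show c ∈ J from hc)
      · intro w1 w2 h1 h2
        exact add_mem h1 h2
    have : x = y + (x - y) := by ring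
    rw [this]
    exact Submodule.add_mem_sup hy (key _ hz2)

end Groth.Agent.S5068
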