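import Groth.Statements.S5071
import Mathlib
import Groth.Agent.S5802
import Groth.Agent.LibQuasiBC29
import Groth.Agent.LibQuasiSeq29
import Groth.Agent.Lib.Helper17.FlatSES
import Groth.Agent.Lib.Helper26.FlatCrit5

set_option autoImplicit false
universe u
open CInt

namespace Groth.Agent.S5071

theorem flat_restrictScalars_of_flat (A B M : Type u) [CommRing A] [CommRing B] [Algebra A B]
    [AddCommGroup M] [Module B M] [Module A M] [IsScalarTower A B M] (h : Module.Flat A M) :
    Module.Flat A (RestrictScalars A B M) := by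
  let e : RestrictScalars A B M ≃ₗ[A] M :=
    { RestrictScalars.addEquiv A B M with
      map_smul' := by
        intro a x
        simp only [AddEquiv.toEquiv_eq_coe, Equiv.toFun_as_coe, EquivLike.coe_coe, RingHom.id_apply]
        rw [RestrictScalars.addEquiv_map_smul, algebraMap_smul] }
  exact Module.Flat.of_linearEquiv e

/-- Let B be an A-algebra and J an ideal of B generated by a sequence which is transversally regular
relative to A. Then for n < m the module J^n/J^m is flat over A, and for every prime q of B
containing J the localisation (J^n)_q is flat over A (modules regarded as A-modules by restriction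
of scalars). -/
theorem result (A B : Type u) [CommRing A] [CommRing B] [Algebra A B]
    (rs : List B) (hrs : RegImm.IsTransRegularSeq A B rs) (n m : ℕ) (hnm : n < m) :
    Module.Flat A (RestrictScalars A B
      (↥(Ideal.ofList rs ^ n) ⧸ (Submodule.comap (Ideal.ofList rs ^ n).subtype (Ideal.ofList rs ^ m)))) ∧
      ∀ (q : Ideal B) [q.IsPrime], Ideal.ofList rs ≤ q →
        Module.Flat A (RestrictScalars A B (LocalizedModule q.primeCompl ↥(Ideal.ofList rs ^ n))) := by
  classical
  obtain ⟨hreg, hflat⟩ := hrs
  have hJspan : Ideal.ofList rs = Ideal.span (Set.range rs.get) :=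
    Groth.Agent.LibQuasiSeq29.ofList_eq_span_range_get rs
  have hq : CAlgX.IsQuasiRegular rs.get :=
    Groth.Agent.S5802.result B rs.length rs.get (by rwa [List.ofFn_get])
  -- `B` and the quotients `B/J^k` are flat over `A`
  have hB : Module.Flat A B := by
    have h0 := hflat 0 (Nat.zero_le _)
    have he : Ideal.ofList (rs.take 0) = (⊥ : Ideal B) := by
      rw [List.take_zero, Ideal.ofList_nil]
    exact Module.Flat.of_linearEquiv
      (((Ideal.quotientEquivAlgOfEq A he).trans (AlgEquiv.quotientBot A B)).toLinearEquiv).symm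
  have hBJ : Module.Flat A (B ⧸ Ideal.span (Set.range rs.get)) := by
    have h1 := hflat rs.length le_rfl
    have he : Ideal.ofList (rs.take rs.length) = Ideal.span (Set.range rs.get) := by
      rw [List.take_length, hJspan]
    exact Module.Flat.of_linearEquiv ((Ideal.quotientEquivAlgOfEq A he).toLinearEquiv).symm
  have hpow : ∀ k : ℕ, Module.Flat A (B ⧸ Ideal.ofList rs ^ k) := by
    intro k
    have h2 := Groth.Agent.LibQuasiBC29.flat_quotient_pow (A := A) rs.get hq k
    have he : Ideal.ofList rs ^ k = Ideal.span (Set.range rs.get) ^ k := by rw [hJspan]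
    exact Module.Flat.of_linearEquiv ((Ideal.quotientEquivAlgOfEq A he).toLinearEquiv)
  have hpowIdeal : ∀ k : ℕ, Module.Flat A ↥(Ideal.ofList rs ^ k) := by
    intro k
    have := hpow k
    exact Groth.Agent.Lib.helper17.FlatSES.flat_left_of_exact
      (((Ideal.ofList rs ^ k).subtype).restrictScalars A)
      (((Ideal.ofList rs ^ k).mkQ).restrictScalars A)
      (Ideal.ofList rs ^ k).injective_subtype (Submodule.mkQ_surjective _)
      (LinearMap.exact_subtype_mkQ _)
  constructor
  · -- `J^n/J^m`
    have hle : Ideal.ofList rs ^ m ≤ Ideal.ofList rs ^ n := Ideal.pow_le_pow_right hnm.le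
    let ι₀ : (↥(Ideal.ofList rs ^ n) ⧸
        Submodule.comap (Ideal.ofList rs ^ n).subtype (Ideal.ofList rs ^ m)) →ₗ[B]
        B ⧸ Ideal.ofList rs ^ m :=
      Submodule.liftQ _ ((Ideal.ofList rs ^ m).mkQ ∘ₗ (Ideal.ofList rs ^ n).subtype) (by
        intro x hx
        rw [LinearMap.mem_ker, LinearMap.comp_apply, Submodule.mkQ_apply,
          Submodule.Quotient.mk_eq_zero]
        exact hx)
    have hι₀ : Function.Injective ι₀ := by
      rw [← LinearMap.ker_eq_bot]
      apply Submodule.ker_liftQ_eq_bot
      intro x hx
      rw [LinearMap.mem_ker, LinearMap.comp_apply, Submodule.mkQ_apply,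
        Submodule.Quotient.mk_eq_zero] at hx
      exact hx
    let π₀ : (B ⧸ Ideal.ofList rs ^ m) →ₗ[B] B ⧸ Ideal.ofList rs ^ n :=
      Submodule.mapQ (Ideal.ofList rs ^ m) (Ideal.ofList rs ^ n) LinearMap.id (by
        intro x hx
        exact hle hx)
    have hπ₀ : Function.Surjective π₀ := by
      intro y
      obtain ⟨b, rfl⟩ := Submodule.Quotient.mk_surjective _ y
      exact ⟨Submodule.Quotient.mk b, rfl⟩
    have hex₀ : Function.Exact ι₀ π₀ := by
      intro y
      obtain ⟨b, rfl⟩ := Submodule.Quotient.mk_surjective _ y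
      constructor
      · intro h
        have hb : b ∈ Ideal.ofList rs ^ n := by
          have h' : (Submodule.Quotient.mk b : B ⧸ Ideal.ofList rs ^ n) = 0 := h
          exact (Submodule.Quotient.mk_eq_zero _).mp h'
        exact ⟨Submodule.Quotient.mk ⟨b, hb⟩, rfl⟩
      · rintro ⟨x, hx⟩
        obtain ⟨⟨c, hc⟩, rfl⟩ := Submodule.Quotient.mk_surjective _ x
        have h1 : (Submodule.Quotient.mk c : B ⧸ Ideal.ofList rs ^ m) = Submodule.Quotient.mk b := hx
        rw [← h1]
        exact (Submodule.Quotient.mk_eq_zero _).mpr hc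
    have := hpow m
    have := hpow n
    have hfl : Module.Flat A (↥(Ideal.ofList rs ^ n) ⧸
        Submodule.comap (Ideal.ofList rs ^ n).subtype (Ideal.ofList rs ^ m)) :=
      Groth.Agent.Lib.helper17.FlatSES.flat_left_of_exact (ι₀.restrictScalars A)
        (π₀.restrictScalars A) hι₀ hπ₀ hex₀
    exact flat_restrictScalars_of_flat A B _ hfl
  · intro q _ _
    have := hpowIdeal n
    have hloc : Module.Flat A (LocalizedModule q.primeCompl ↥(Ideal.ofList rs ^ n)) :=
      Groth.Agent.Lib.helper26.FlatCrit.flat_localizedModule q.primeCompl _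
    exact flat_restrictScalars_of_flat A B _ hloc

end Groth.Agent.S5071
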