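import Groth.Statements.S5073
import Mathlib

set_option autoImplicit false
universe u
open EGA418

namespace Groth.Agent.S5073

/-- An element of a minimal prime is killed, up to a power, by an element outside the prime. -/
theorem exists_mul_pow_eq_zero {A : Type*} [CommRing A] {q : Ideal A} (hq : q ∈ minimalPrimes A)
    {y : A} (hy : y ∈ q) : ∃ s ∉ q, ∃ n : ℕ, s * y ^ n = 0 := by
  have hqp : q.IsPrime := hq.1.1
  have hsub := IsLocalization.subsingleton_primeSpectrum_of_mem_minimalPrimes q hq
    (Localization.AtPrime q)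
  have hnil : IsNilpotent (algebraMap A (Localization.AtPrime q) y) := by
    rw [nilpotent_iff_mem_prime]
    intro J hJ
    have hJ' : J = IsLocalRing.maximalIdeal (Localization.AtPrime q) := by
      have := hsub.elim ⟨J, hJ⟩ ⟨IsLocalRing.maximalIdeal _, inferInstance⟩
      exact congrArg PrimeSpectrum.asIdeal this
    rw [hJ']
    exact (IsLocalization.AtPrime.to_map_mem_maximal_iff (Localization.AtPrime q) q y).mpr hy
  obtain ⟨n, hn⟩ := hnil
  rw [← map_pow, IsLocalization.map_eq_zero_iff q.primeCompl] at hn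
  obtain ⟨s, hs⟩ := hn
  exact ⟨s.1, s.2, n, hs⟩

/-- Let A be a Noetherian local ring, p a prime ideal and x an element of A. Then there is an element x'
of A whose image in A_p equals that of x and which belongs to no minimal prime ideal of A not
contained in p. -/
theorem result (A : Type u) [CommRing A] [IsNoetherianRing A] [IsLocalRing A]
    (p : Ideal A) [p.IsPrime] (x : A) :
    ∃ x' : A, algebraMap A (Localization.AtPrime p) x' = algebraMap A (Localization.AtPrime p) x ∧
      ∀ q ∈ minimalPrimes A, ¬ q ≤ p → x' ∉ q := by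
  classical
  set I : Ideal A := RingHom.ker (algebraMap A (Localization.AtPrime p)) with hI
  have hfin : (minimalPrimes A).Finite := minimalPrimes.finite_of_isNoetherianRing A
  -- the ideal I is not contained in any of the bad minimal primes
  have hIq : ∀ q ∈ minimalPrimes A, ¬ q ≤ p → ¬ I ≤ q := by
    intro q hq hqp hIq
    obtain ⟨y, hyq, hyp⟩ := SetLike.not_le_iff_exists.mp hqp
    obtain ⟨s, hsq, n, hs⟩ := exists_mul_pow_eq_zero hq hyq
    refine hsq (hIq ?_)
    rw [hI, RingHom.mem_ker, IsLocalization.map_eq_zero_iff p.primeCompl]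
    exact ⟨⟨y ^ n, fun h => hyp (Ideal.IsPrime.mem_of_pow_mem inferInstance n h)⟩, by
      simpa [mul_comm] using hs⟩
  let T : Finset (Ideal A) := hfin.toFinset.filter (fun q => ¬ q ≤ p)
  have hT : ∀ q, q ∈ T ↔ q ∈ minimalPrimes A ∧ ¬ q ≤ p := by
    intro q; simp [T]
  let S : Finset (Ideal A) := T.filter (fun q => x ∈ q)
  let S' : Finset (Ideal A) := T.filter (fun q => x ∉ q)
  let J : Ideal A := I ⊓ S'.inf id
  -- find a in J avoiding all primes of S
  have hex : ∃ a ∈ J, ∀ q ∈ S, a ∉ q := by
    by_contra hcon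
    push Not at hcon
    have hsub : (J : Set A) ⊆ ⋃ q ∈ (S : Set (Ideal A)), (id q : Ideal A) := by
      intro a ha
      obtain ⟨q, hqS, haq⟩ := hcon a ha
      exact Set.mem_biUnion hqS haq
    rw [Ideal.subset_union_prime (R := A) (s := S) (f := id) ⊤ ⊤ ?_] at hsub
    · obtain ⟨q, hqS, hJq⟩ := hsub
      have hqT : q ∈ T := (Finset.mem_filter.mp hqS).1
      have hxq : x ∈ q := (Finset.mem_filter.mp hqS).2
      obtain ⟨hqmin, hqp⟩ := (hT q).mp hqT
      have hqprime : q.IsPrime := hqmin.1.1
      rcases (hqprime.inf_le).mp hJq with h | h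
      · exact hIq q hqmin hqp h
      · obtain ⟨q', hq'S', hq'q⟩ := (hqprime.inf_le').mp h
        have hq'T : q' ∈ T := (Finset.mem_filter.mp hq'S').1
        have hxq' : x ∉ q' := (Finset.mem_filter.mp hq'S').2
        obtain ⟨hq'min, -⟩ := (hT q').mp hq'T
        have : q ≤ q' := hqmin.2 ⟨hq'min.1.1, bot_le⟩ hq'q
        exact hxq' (this hxq)
    · intro q hqS _ _
      have hqT : q ∈ T := (Finset.mem_filter.mp hqS).1
      exact ((hT q).mp hqT).1.1.1
  obtain ⟨a, haJ, haS⟩ := hex
  refine ⟨x + a, ?_, ?_⟩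
  · have : a ∈ I := haJ.1
    rw [hI, RingHom.mem_ker] at this
    rw [map_add, this, add_zero]
  · intro q hqmin hqp hxa
    have hqT : q ∈ T := (hT q).mpr ⟨hqmin, hqp⟩
    by_cases hxq : x ∈ q
    · have hqS : q ∈ S := Finset.mem_filter.mpr ⟨hqT, hxq⟩
      exact haS q hqS (by simpa using q.sub_mem hxa hxq)
    · have hqS' : q ∈ S' := Finset.mem_filter.mpr ⟨hqT, hxq⟩
      have haq : a ∈ q := (Finset.inf_le hqS' : S'.inf id ≤ id q) haJ.2
      exact hxq (by simpa using q.sub_mem hxa haq)

end Groth.Agent.S5073
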