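import Groth.Statements.S5076
import Mathlib

set_option autoImplicit false
universe u
open Unram

namespace Groth.Agent.S5076


section aux

variable {A C : Type u} [CommRing A] [IsLocalRing A] [CommRing C] [Algebra A C] [Module.Finite A C]

theorem key_aux (r : Ideal C) [r.IsMaximal] (u : C)
    (hu₁ : ∀ r' : Ideal C, r'.IsMaximal → r' ≠ r → u ∈ r') (hu₂ : u ∉ r) (t : C) (ht : t ∉ r) :
    ∃ (c' : C) (s : Algebra.adjoin A ({u} : Set C)),
      s ∉ Ideal.comap (Algebra.adjoin A ({u} : Set C)).val.toRingHom r ∧ t * c' = (s : C) := by
  set B := Algebra.adjoin A ({u} : Set C) with hB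
  set n := Ideal.comap B.val.toRingHom r with hn
  haveI : Algebra.IsIntegral B C := Algebra.IsIntegral.tower_top (R := A)
  have hnmax : n.IsMaximal := Ideal.isMaximal_comap_of_isIntegral_of_isMaximal (R := B) r
  by_contra hcon
  push Not at hcon
  have hle : (Ideal.span {t}).comap (algebraMap B C) ≤ n := by
    intro s hs
    by_contra hsn
    obtain ⟨a, ha⟩ := Ideal.mem_span_singleton'.mp (Ideal.mem_comap.mp hs)
    exact hcon a s hsn (by rw [mul_comm]; exact ha)
  obtain ⟨Q, hIQ, hQp, hQn⟩ :=
    Ideal.exists_ideal_over_prime_of_isIntegral n (Ideal.span {t}) hle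
  haveI := hQp
  have hQmax : Q.IsMaximal :=
    Ideal.isMaximal_of_isIntegral_of_isMaximal_comap (R := B) Q (by rw [hQn]; exact hnmax)
  have hQr : Q = r := by
    by_contra hne
    have huQ : u ∈ Q := hu₁ Q hQmax hne
    have hub : (⟨u, Algebra.subset_adjoin (Set.mem_singleton u)⟩ : B) ∈
        Q.comap (algebraMap B C) := huQ
    rw [hQn] at hub
    exact hu₂ hub
  apply ht
  rw [← hQr]
  exact hIQ (Ideal.subset_span (Set.mem_singleton t))

theorem main_aux (r : Ideal C) [r.IsMaximal] (u : C)
    (hu₁ : ∀ r' : Ideal C, r'.IsMaximal → r' ≠ r → u ∈ r') (hu₂ : u ∉ r)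
    (hu₃ : Subalgebra.toSubmodule (Algebra.adjoin A {algebraMap C (Localization.AtPrime r) u}) ⊔
        Submodule.restrictScalars A (Ideal.map (algebraMap A (Localization.AtPrime r))
          (IsLocalRing.maximalIdeal A)) = ⊤) :
    Function.Bijective (Localization.localRingHom
      (Ideal.comap (Algebra.adjoin A ({u} : Set C)).val.toRingHom r) r
      (Algebra.adjoin A ({u} : Set C)).val.toRingHom rfl) := by
  classical
  set B := Algebra.adjoin A ({u} : Set C) with hB
  set ι : B →+* C := B.val.toRingHom with hι
  set n := Ideal.comap ι r with hn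
  set f := Localization.localRingHom n r ι rfl with hf
  have hιinj : Function.Injective ι := Subtype.val_injective
  have hK := key_aux (A := A) r u hu₁ hu₂
  have hcomp : ∀ b : B, f (algebraMap B (Localization.AtPrime n) b) =
      algebraMap C (Localization.AtPrime r) (ι b) :=
    fun b => Localization.localRingHom_to_map _ _ _ _ b
  constructor
  · rw [injective_iff_map_eq_zero]
    intro x hx
    obtain ⟨b, s, rfl⟩ := IsLocalization.exists_mk'_eq n.primeCompl x
    rw [hf, Localization.localRingHom_mk'] at hx
    obtain ⟨⟨t, ht⟩, htb⟩ := (IsLocalization.mk'_eq_zero_iff _ _).mp hx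
    obtain ⟨c', s', hs', hts'⟩ := hK t ht
    rw [IsLocalization.mk'_eq_zero_iff]
    refine ⟨⟨s', hs'⟩, ?_⟩
    apply hιinj
    rw [map_mul, map_zero]
    show (s' : C) * ι b = 0
    have htb' : t * ι b = 0 := htb
    rw [← hts', mul_comm t c', mul_assoc, htb', mul_zero]
  · letI : Algebra (Localization.AtPrime n) (Localization.AtPrime r) := f.toAlgebra
    have halgf : ∀ x, algebraMap (Localization.AtPrime n) (Localization.AtPrime r) x = f x :=
      fun _ => rfl
    haveI : IsScalarTower A (Localization.AtPrime n) (Localization.AtPrime r) := by
      refine IsScalarTower.of_algebraMap_eq fun a => ?_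
      rw [halgf, IsScalarTower.algebraMap_apply A B (Localization.AtPrime n), hcomp,
        IsScalarTower.algebraMap_apply A C (Localization.AtPrime r)]
      rfl
    -- representation of elements
    have hrepr : ∀ y : Localization.AtPrime r, ∃ (c : C) (σ : Localization.AtPrime n),
        y = f σ * algebraMap C (Localization.AtPrime r) c := by
      intro y
      obtain ⟨c, ⟨t, ht⟩, rfl⟩ := IsLocalization.exists_mk'_eq r.primeCompl y
      obtain ⟨c', s, hs, hts⟩ := hK t ht
      let sn : n.primeCompl := ⟨s, hs⟩
      refine ⟨c * c', IsLocalization.mk' (Localization.AtPrime n) (1 : B) sn, ?_⟩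
      have h1 : f (IsLocalization.mk' (Localization.AtPrime n) (1 : B) sn) *
          algebraMap C (Localization.AtPrime r) (ι s) = 1 := by
        rw [← hcomp, ← map_mul]
        have := IsLocalization.mk'_spec (Localization.AtPrime n) (1 : B) sn
        rw [this, map_one, map_one]
      have h2 : IsLocalization.mk' (Localization.AtPrime r) c ⟨t, ht⟩ *
          algebraMap C (Localization.AtPrime r) t = algebraMap C (Localization.AtPrime r) c :=
        IsLocalization.mk'_spec (Localization.AtPrime r) c ⟨t, ht⟩
      have h3 : ι s = t * c' := hts.symm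
      calc IsLocalization.mk' (Localization.AtPrime r) c ⟨t, ht⟩
          = IsLocalization.mk' (Localization.AtPrime r) c ⟨t, ht⟩ *
              (f (IsLocalization.mk' (Localization.AtPrime n) (1 : B) sn) *
                algebraMap C (Localization.AtPrime r) (ι s)) := by rw [h1, mul_one]
        _ = f (IsLocalization.mk' (Localization.AtPrime n) (1 : B) sn) *
              ((IsLocalization.mk' (Localization.AtPrime r) c ⟨t, ht⟩ *
                algebraMap C (Localization.AtPrime r) t) *
                  algebraMap C (Localization.AtPrime r) c') := by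
            rw [h3, map_mul]; ring
        _ = f (IsLocalization.mk' (Localization.AtPrime n) (1 : B) sn) *
              algebraMap C (Localization.AtPrime r) (c * c') := by
            rw [h2, map_mul]
    obtain ⟨G, hG⟩ := (Module.Finite.fg_top : (⊤ : Submodule A C).FG)
    haveI : Module.Finite (Localization.AtPrime n) (Localization.AtPrime r) := by
      refine ⟨⟨G.image (algebraMap C (Localization.AtPrime r)), ?_⟩⟩
      rw [eq_top_iff]
      intro y _
      obtain ⟨c, σ, rfl⟩ := hrepr y
      rw [← halgf, ← Algebra.smul_def]
      refine Submodule.smul_mem _ _ ?_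
      have hc : c ∈ Submodule.span A (G : Set C) := by rw [hG]; trivial
      have h1 := Submodule.apply_mem_span_image_of_mem_span
        (IsScalarTower.toAlgHom A C (Localization.AtPrime r)).toLinearMap hc
      have h2 := Submodule.span_le_restrictScalars A (Localization.AtPrime n)
        ((IsScalarTower.toAlgHom A C (Localization.AtPrime r)).toLinearMap '' (G : Set C)) h1
      rw [Finset.coe_image]
      exact h2
    let M : Submodule (Localization.AtPrime n) (Localization.AtPrime r) :=
      LinearMap.range (Algebra.linearMap (Localization.AtPrime n) (Localization.AtPrime r))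
    have hM : ⊤ ≤ M := by
      refine Submodule.le_of_le_smul_of_le_jacobson_bot
        (I := IsLocalRing.maximalIdeal (Localization.AtPrime n)) Module.Finite.fg_top ?_ ?_
      · exact (IsLocalRing.jacobson_eq_maximalIdeal ⊥ bot_ne_top).ge
      · intro y _
        have hy : y ∈ Subalgebra.toSubmodule
            (Algebra.adjoin A {algebraMap C (Localization.AtPrime r) u}) ⊔
            Submodule.restrictScalars A (Ideal.map (algebraMap A (Localization.AtPrime r))
              (IsLocalRing.maximalIdeal A)) := by rw [hu₃]; trivial
        obtain ⟨y₁, hy₁, y₂, hy₂, rfl⟩ := Submodule.mem_sup.mp hy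
        refine Submodule.add_mem _ (Submodule.mem_sup_left ?_) (Submodule.mem_sup_right ?_)
        · have hy₁' : y₁ ∈ Algebra.adjoin A {algebraMap C (Localization.AtPrime r) u} := hy₁
          rw [Algebra.adjoin_singleton_eq_range_aeval] at hy₁'
          obtain ⟨P, rfl⟩ := hy₁'
          have hPB : Polynomial.aeval u P ∈ B := by
            have h1 : Polynomial.aeval u P ∈ (Polynomial.aeval u : Polynomial A →ₐ[A] C).range :=
              ⟨P, rfl⟩
            rwa [← Algebra.adjoin_singleton_eq_range_aeval] at h1
          refine ⟨algebraMap B _ ⟨Polynomial.aeval u P, hPB⟩, ?_⟩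
          show f (algebraMap B _ ⟨_, hPB⟩) = _
          rw [hcomp]
          have h2 := Polynomial.aeval_algHom_apply
            (IsScalarTower.toAlgHom A C (Localization.AtPrime r)) u P
          exact h2.symm
        · rw [Ideal.smul_top_eq_map]
          show y₂ ∈ Ideal.map (algebraMap (Localization.AtPrime n) (Localization.AtPrime r))
            (IsLocalRing.maximalIdeal _)
          have hy₂' : y₂ ∈ Ideal.map (algebraMap A (Localization.AtPrime r))
            (IsLocalRing.maximalIdeal A) := hy₂
          have hle : Ideal.map (algebraMap A (Localization.AtPrime n))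
              (IsLocalRing.maximalIdeal A) ≤ IsLocalRing.maximalIdeal (Localization.AtPrime n) := by
            rw [Ideal.map_le_iff_le_comap]
            intro a ha
            rw [Ideal.mem_comap, IsScalarTower.algebraMap_apply A B (Localization.AtPrime n),
              IsLocalization.AtPrime.to_map_mem_maximal_iff _ n]
            show algebraMap A C a ∈ r
            have hmax : (r.comap (algebraMap A C)).IsMaximal :=
              Ideal.isMaximal_comap_of_isIntegral_of_isMaximal r
            have h1 : r.comap (algebraMap A C) = IsLocalRing.maximalIdeal A :=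
              IsLocalRing.eq_maximalIdeal hmax
            have ha' : a ∈ r.comap (algebraMap A C) := by rw [h1]; exact ha
            exact ha'
          rw [IsScalarTower.algebraMap_eq A (Localization.AtPrime n) (Localization.AtPrime r),
            ← Ideal.map_map] at hy₂'
          exact Ideal.map_mono hle hy₂'
    intro y
    obtain ⟨x, hx⟩ := hM (Submodule.mem_top : y ∈ ⊤)
    exact ⟨x, hx⟩

end aux


/-- Let A be a local ring with maximal ideal m, C a finite A-algebra, r a maximal ideal of C, and u an
element of C which lies in every maximal ideal of C other than r, does not lie in r, and whose image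
generates C_r modulo m C_r as an A-algebra. Let B = A[u] be the A-subalgebra of C generated by u and
n the inverse image of r in B. Then the canonical homomorphism B_n → C_r is bijective. -/
theorem result (A C : Type u) [CommRing A] [IsLocalRing A]
    [CommRing C] [Algebra A C] [Module.Finite A C] (r : Ideal C) [r.IsMaximal] (u : C)
    (hu₁ : ∀ r' : Ideal C, r'.IsMaximal → r' ≠ r → u ∈ r') (hu₂ : u ∉ r)
    (hu₃ : Subalgebra.toSubmodule (Algebra.adjoin A {algebraMap C (Localization.AtPrime r) u}) ⊔
        Submodule.restrictScalars A (Ideal.map (algebraMap A (Localization.AtPrime r)) (IsLocalRing.maximalIdeal A)) = ⊤) :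
    Function.Bijective (Localization.localRingHom (Ideal.comap (Algebra.adjoin A ({u} : Set C)).val.toRingHom r) r
      (Algebra.adjoin A ({u} : Set C)).val.toRingHom rfl) := by
  exact main_aux r u hu₁ hu₂ hu₃


end Groth.Agent.S5076
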