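import Groth.Statements.S5077
import Mathlib

set_option autoImplicit false
universe u
open Unram

namespace Groth.Agent.S5077


section aux
open Polynomial

variable {A B : Type u} [CommRing A] [IsLocalRing A] [CommRing B] [Algebra A B]

theorem aeval_mem_of_coeff_mem (m : Ideal A) (u : B) (R : A[X]) (hR : ∀ i, R.coeff i ∈ m) :
    aeval u R ∈ m.map (algebraMap A B) := by
  rw [aeval_eq_sum_range]
  refine Ideal.sum_mem _ fun i _ => ?_
  rw [Algebra.smul_def]
  exact Ideal.mul_mem_right _ _ (Ideal.mem_map_of_mem _ (hR i))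

theorem exists_F [Module.Finite A B] (u : B) (hu : Algebra.adjoin A ({u} : Set B) = ⊤) :
    ∃ F : A[X], F.Monic ∧ aeval u F = 0 ∧
      ∀ G : A[X], aeval u G = 0 → ∀ i, (G %ₘ F).coeff i ∈ IsLocalRing.maximalIdeal A := by
  classical
  set m := IsLocalRing.maximalIdeal A with hm
  let N : ℕ → Submodule A B := fun j => Submodule.span A (Set.range fun i : Fin j => u ^ (i : ℕ))
  let mB : Submodule A B := m • ⊤
  have hex : ∃ j, u ^ j ∈ N j ⊔ mB := by
    obtain ⟨p, hp, hpu⟩ := IsIntegral.of_finite A u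
    refine ⟨p.natDegree, Submodule.mem_sup_left ?_⟩
    have h1 : aeval u p = 0 := by rw [aeval_def]; exact hpu
    rw [hp.as_sum, map_add, map_pow, aeval_X, map_sum] at h1
    have h2 : u ^ p.natDegree =
        - ∑ i ∈ Finset.range p.natDegree, aeval u (C (p.coeff i) * X ^ i) :=
      eq_neg_of_add_eq_zero_left h1
    rw [h2]
    refine Submodule.neg_mem _ (Submodule.sum_mem _ fun i hi => ?_)
    rw [map_mul, aeval_C, map_pow, aeval_X, ← Algebra.smul_def]
    exact Submodule.smul_mem _ _ (Submodule.subset_span ⟨⟨i, Finset.mem_range.mp hi⟩, rfl⟩)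
  obtain ⟨d, hd, hmin⟩ : ∃ d, u ^ d ∈ N d ⊔ mB ∧ ∀ j < d, ¬ (u ^ j ∈ N j ⊔ mB) :=
    ⟨Nat.find hex, Nat.find_spec hex, fun j hj => Nat.find_min hex hj⟩
  have hW1 : ∀ x ∈ N d, u * x ∈ N d ⊔ mB := by
    intro x hx
    induction hx using Submodule.span_induction with
    | mem x hx =>
      obtain ⟨i, rfl⟩ := hx
      show u * u ^ (i : ℕ) ∈ _
      rw [← pow_succ']
      by_cases hi : (i : ℕ) + 1 < d
      · exact Submodule.mem_sup_left (Submodule.subset_span ⟨⟨i + 1, hi⟩, rfl⟩)
      · have hid : (i : ℕ) + 1 = d := by have := i.2; omega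
        rw [hid]; exact hd
    | zero => simp
    | add x y _ _ hx hy => rw [mul_add]; exact Submodule.add_mem _ hx hy
    | smul a x _ hx => rw [mul_smul_comm]; exact Submodule.smul_mem _ _ hx
  have hW : ∀ w ∈ N d ⊔ mB, u * w ∈ N d ⊔ mB := by
    intro w hw
    obtain ⟨x, hx, y, hy, rfl⟩ := Submodule.mem_sup.mp hw
    rw [mul_add]
    refine Submodule.add_mem _ (hW1 x hx) (Submodule.mem_sup_right ?_)
    refine Submodule.smul_induction_on hy ?_ ?_
    · intro a ha b _
      rw [mul_smul_comm]
      exact Submodule.smul_mem_smul ha trivial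
    · intro x y hx hy
      rw [mul_add]; exact Submodule.add_mem _ hx hy
  have hpow : ∀ i, u ^ i ∈ N d ⊔ mB := by
    intro i
    induction i with
    | zero =>
      by_cases h0 : 0 < d
      · exact Submodule.mem_sup_left (Submodule.subset_span ⟨⟨0, h0⟩, rfl⟩)
      · have h00 : d = 0 := by omega
        subst h00
        exact hd
    | succ i ih => rw [pow_succ']; exact hW _ ih
  have htop : N d ⊔ mB = ⊤ := by
    rw [eq_top_iff]
    intro b _
    have hb : b ∈ Algebra.adjoin A ({u} : Set B) := by rw [hu]; trivial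
    rw [Algebra.adjoin_singleton_eq_range_aeval] at hb
    obtain ⟨P, rfl⟩ := hb
    show aeval u P ∈ _
    rw [aeval_eq_sum_range]
    exact Submodule.sum_mem _ fun i _ => Submodule.smul_mem _ _ (hpow i)
  have hNd : N d = ⊤ := by
    rw [eq_top_iff]
    refine Submodule.le_of_le_smul_of_le_jacobson_bot (I := m) Module.Finite.fg_top ?_ ?_
    · exact (IsLocalRing.jacobson_eq_maximalIdeal ⊥ bot_ne_top).ge
    · exact htop.ge
  have hud : u ^ d ∈ N d := by rw [hNd]; trivial
  obtain ⟨c, hc⟩ := (Submodule.mem_span_range_iff_exists_fun A).mp hud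
  have hc' : ∑ i : Fin d, c i • u ^ (i : ℕ) = u ^ d := hc
  let S : A[X] := ∑ i : Fin d, C (c i) * X ^ (i : ℕ)
  have hSdeg : S.degree < d := degree_sum_fin_lt c
  let F : A[X] := X ^ d - S
  have hFm : F.Monic := monic_X_pow_sub hSdeg
  have hFu : aeval u F = 0 := by
    simp only [F, S, map_sub, map_pow, aeval_X, map_sum, map_mul, aeval_C]
    rw [← hc', sub_eq_zero]
    exact Finset.sum_congr rfl fun i _ => by rw [Algebra.smul_def]
  have hFdeg : F.degree = (d : WithBot ℕ) := by
    have h1 : (X ^ d : A[X]).degree = (d : WithBot ℕ) := degree_X_pow d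
    show (X ^ d - S).degree = _
    rw [degree_sub_eq_left_of_degree_lt (by rw [h1]; exact hSdeg), h1]
  refine ⟨F, hFm, hFu, ?_⟩
  intro G hG
  set R := G %ₘ F with hRdef
  have hRdeg : R.degree < (d : WithBot ℕ) := by
    have h1 := degree_modByMonic_lt G hFm
    rwa [hFdeg] at h1
  have hRu : aeval u R = 0 := by
    have h1 := modByMonic_add_div G F
    have h2 := congrArg (aeval u) h1
    rw [map_add, map_mul, hFu, zero_mul, add_zero, hG] at h2
    exact h2
  by_contra hcon
  push Not at hcon
  obtain ⟨i₀, hi₀⟩ := hcon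
  let n := R.natDegree + 1
  let T : Finset ℕ := (Finset.range n).filter fun i => R.coeff i ∉ m
  have hi₀T : i₀ ∈ T := by
    refine Finset.mem_filter.mpr ⟨Finset.mem_range.mpr ?_, hi₀⟩
    have h0 : R.coeff i₀ ≠ 0 := fun h => hi₀ (h ▸ zero_mem _)
    exact Nat.lt_succ_of_le (le_natDegree_of_ne_zero h0)
  let j := T.max' ⟨i₀, hi₀T⟩
  have hjT : j ∈ T := Finset.max'_mem _ _
  have hjm : R.coeff j ∉ m := (Finset.mem_filter.mp hjT).2
  have hjd : j < d := by
    have h0 : R.coeff j ≠ 0 := fun h => hjm (h ▸ zero_mem _)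
    have h1 : (j : WithBot ℕ) ≤ R.degree := le_degree_of_ne_zero h0
    exact_mod_cast lt_of_le_of_lt h1 hRdeg
  have hlarge : ∀ i, j < i → R.coeff i ∈ m := by
    intro i hi
    by_contra h
    by_cases hin : i < n
    · have hiT : i ∈ T := Finset.mem_filter.mpr ⟨Finset.mem_range.mpr hin, h⟩
      exact absurd (Finset.le_max' T i hiT) (not_le.mpr hi)
    · exact h (by rw [coeff_eq_zero_of_natDegree_lt (by omega)]; exact zero_mem _)
  apply hmin j hjd
  have hunit : IsUnit (R.coeff j) := by
    by_contra h; exact hjm ((IsLocalRing.mem_maximalIdeal _).mpr h)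
  obtain ⟨v, hv⟩ := hunit
  have hsum : ∑ i ∈ Finset.range n, R.coeff i • u ^ i = 0 := by
    rw [← aeval_eq_sum_range]; exact hRu
  have hjn : j ∈ Finset.range n := (Finset.mem_filter.mp hjT).1
  rw [← Finset.add_sum_erase _ _ hjn] at hsum
  have h3 : R.coeff j • u ^ j ∈ N j ⊔ mB := by
    rw [eq_neg_of_add_eq_zero_left hsum]
    refine Submodule.neg_mem _ (Submodule.sum_mem _ fun i hi => ?_)
    have hij : i ≠ j := (Finset.mem_erase.mp hi).1
    rcases lt_or_gt_of_ne hij with h | h
    · exact Submodule.mem_sup_left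
        (Submodule.smul_mem _ _ (Submodule.subset_span ⟨⟨i, h⟩, rfl⟩))
    · exact Submodule.mem_sup_right (Submodule.smul_mem_smul (hlarge i h) trivial)
  have h4 : u ^ j = (↑v⁻¹ : A) • (R.coeff j • u ^ j) := by
    rw [smul_smul, ← hv, Units.inv_mul, one_smul]
  rw [h4]
  exact Submodule.smul_mem _ _ h3

theorem unram_aux (u : B) (hu : Algebra.adjoin A ({u} : Set B) = ⊤) (n : Ideal B) [n.IsMaximal]
    (hn : Algebra.IsUnramifiedAt A n)
    (hder : ∀ G : A[X], aeval u G = 0 → aeval u (derivative G) ∈ n) : False := by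
  classical
  let φ : A[X] →ₐ[A] B := aeval u
  have hsurj : Function.Surjective φ := by
    intro b
    have hb : b ∈ Algebra.adjoin A ({u} : Set B) := by rw [hu]; trivial
    rw [Algebra.adjoin_singleton_eq_range_aeval] at hb
    exact hb
  let π : B →ₐ[A] B ⧸ n := Ideal.Quotient.mkₐ A n
  have hπ : ∀ x, π x = Ideal.Quotient.mk n x := fun _ => rfl
  let ψ : A[X] → B ⧸ n := fun P => π (φ (derivative P))
  have hψ : ∀ P Q, φ P = φ Q → ψ P = ψ Q := by
    intro P Q h
    have h1 : φ (P - Q) = 0 := by rw [map_sub, h, sub_self]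
    have h2 := hder (P - Q) h1
    rw [derivative_sub, map_sub] at h2
    show π _ = π _
    rw [hπ, hπ]
    exact Ideal.Quotient.eq.mpr h2
  let D₀ : B → B ⧸ n := fun b => ψ (Classical.choose (hsurj b))
  have hD₀ : ∀ P, D₀ (φ P) = ψ P := fun P => hψ _ _ (Classical.choose_spec (hsurj (φ P)))
  let Dl : B →ₗ[A] B ⧸ n :=
    { toFun := D₀
      map_add' := by
        intro b b'
        obtain ⟨P, rfl⟩ := hsurj b
        obtain ⟨Q, rfl⟩ := hsurj b'
        rw [← map_add, hD₀, hD₀, hD₀]
        simp only [ψ, derivative_add, map_add]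
      map_smul' := by
        intro a b
        obtain ⟨P, rfl⟩ := hsurj b
        rw [← map_smul, hD₀, hD₀]
        simp only [ψ, derivative_smul, map_smul, RingHom.id_apply] }
  let D : Derivation A B (B ⧸ n) := Derivation.mk' Dl (by
    intro a b
    obtain ⟨P, rfl⟩ := hsurj a
    obtain ⟨Q, rfl⟩ := hsurj b
    show D₀ (φ P * φ Q) = φ P • D₀ (φ Q) + φ Q • D₀ (φ P)
    rw [← map_mul, hD₀, hD₀, hD₀]
    simp only [ψ, derivative_mul, map_add, map_mul]
    rw [Algebra.smul_def, Algebra.smul_def, Ideal.Quotient.algebraMap_eq]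
    simp only [hπ]
    ring)
  have hDu : D u = 1 := by
    have hX : u = φ X := (aeval_X u).symm
    show D₀ u = 1
    rw [hX, hD₀]
    simp [ψ]
  have hsupp : (⟨n, inferInstance⟩ : PrimeSpectrum B) ∉ Module.support B Ω[B⁄A] := by
    have h1 : (⟨n, inferInstance⟩ : PrimeSpectrum B) ∈ Algebra.unramifiedLocus A B := hn
    rw [Algebra.unramifiedLocus_eq_compl_support] at h1
    exact h1
  rw [Module.notMem_support_iff'] at hsupp
  obtain ⟨r, hr, hr0⟩ := hsupp (KaehlerDifferential.D A B u)
  have h2 := congrArg D.liftKaehlerDifferential hr0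
  rw [map_smul, Derivation.liftKaehlerDifferential_comp_D, hDu, map_zero] at h2
  apply hr
  have h3 : Ideal.Quotient.mk n r = 0 := by
    rw [← h2, Algebra.smul_def, mul_one]; rfl
  exact Ideal.Quotient.eq_zero_iff_mem.mp h3

end aux


/-- Let A be a local ring and B a finite A-algebra generated by a single element u. Then there is a
monic polynomial F with coefficients in A such that F(u) = 0 and F'(u) does not belong to any
maximal ideal n of B at which B is unramified over A. -/
theorem result (A B : Type u) [CommRing A] [IsLocalRing A]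
    [CommRing B] [Algebra A B] [Module.Finite A B] (u : B) (hu : Algebra.adjoin A ({u} : Set B) = ⊤) :
    ∃ F : Polynomial A, F.Monic ∧ Polynomial.aeval u F = 0 ∧
      ∀ (n : Ideal B) [n.IsMaximal], Algebra.IsUnramifiedAt A n → Polynomial.aeval u (Polynomial.derivative F) ∉ n := by
  obtain ⟨F, hFm, hFu, hdiv⟩ := exists_F u hu
  refine ⟨F, hFm, hFu, ?_⟩
  intro n _ hn hFn
  have hmn : (IsLocalRing.maximalIdeal A).map (algebraMap A B) ≤ n := by
    rw [Ideal.map_le_iff_le_comap]
    have hmax : (n.comap (algebraMap A B)).IsMaximal :=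
      Ideal.isMaximal_comap_of_isIntegral_of_isMaximal n
    rw [IsLocalRing.eq_maximalIdeal hmax]
  apply unram_aux u hu n hn
  intro G hG
  have h1 := Polynomial.modByMonic_add_div G F
  have h2 : Polynomial.aeval u (Polynomial.derivative G) =
      Polynomial.aeval u (Polynomial.derivative (G %ₘ F)) +
        (Polynomial.aeval u (Polynomial.derivative F) * Polynomial.aeval u (G /ₘ F) +
          Polynomial.aeval u F * Polynomial.aeval u (Polynomial.derivative (G /ₘ F))) := by
    conv_lhs => rw [← h1]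
    simp only [Polynomial.derivative_add, Polynomial.derivative_mul, map_add, map_mul]
  rw [h2, hFu, zero_mul, add_zero]
  refine Ideal.add_mem _ (hmn ?_) (Ideal.mul_mem_right _ _ hFn)
  apply aeval_mem_of_coeff_mem
  intro i
  rw [Polynomial.coeff_derivative]
  exact Ideal.mul_mem_right _ _ (hdiv G hG (i+1))


end Groth.Agent.S5077
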