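import Groth.Statements.S5081
import Mathlib

set_option autoImplicit false
universe u
open Unram

namespace Groth.Agent.S5081

open Polynomial KaehlerDifferential TensorProduct

theorem aeval_surjective {A B : Type*} [CommRing A] [CommRing B] [Algebra A B] (u : B)
    (hu : Algebra.adjoin A ({u} : Set B) = ⊤) :
    Function.Surjective (Polynomial.aeval u : Polynomial A →ₐ[A] B) := by
  rw [← AlgHom.range_eq_top, ← Algebra.adjoin_singleton_eq_range_aeval, hu]

/-- `F'(u)` kills the differentials of a monogenic algebra. -/
theorem part1 {A B : Type*} [CommRing A] [CommRing B] [Algebra A B] (u : B)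
    (hu : Algebra.adjoin A ({u} : Set B) = ⊤) (F : Polynomial A) (hF : Polynomial.aeval u F = 0) :
    Polynomial.aeval u (Polynomial.derivative F) ∈ Module.annihilator B (KaehlerDifferential A B) := by
  rw [Module.mem_annihilator]
  intro ω
  have hω : ω ∈ Submodule.span B (Set.range (KaehlerDifferential.D A B)) := by
    rw [KaehlerDifferential.span_range_derivation]; trivial
  induction hω using Submodule.span_induction with
  | mem x hx =>
    obtain ⟨b, rfl⟩ := hx
    obtain ⟨p, rfl⟩ := aeval_surjective u hu b
    rw [Derivation.comp_aeval_eq, smul_comm, ← Derivation.comp_aeval_eq, hF, map_zero, smul_zero]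
  | zero => simp
  | add x y _ _ hx hy => rw [smul_add, hx, hy, add_zero]
  | smul a x _ hx => rw [smul_comm, hx, smul_zero]

/-- If the kernel of `A[T] → B` is generated by `F`, any element killing `du` is a multiple of `F'(u)`. -/
theorem part2 {A B : Type u} [CommRing A] [CommRing B] [Algebra A B] (u : B)
    (hu : Algebra.adjoin A ({u} : Set B) = ⊤) (F : Polynomial A)
    (hker : RingHom.ker (Polynomial.aeval u : Polynomial A →ₐ[A] B) = Ideal.span {F})
    (b : B) (hb : b • KaehlerDifferential.D A B u = 0) :
    b ∈ Ideal.span {Polynomial.aeval u (Polynomial.derivative F)} := by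
  let _ : Algebra A[X] B := (Polynomial.aeval u : A[X] →ₐ[A] B).toRingHom.toAlgebra
  have hsm : ∀ (p : A[X]) (x : B), p • x = Polynomial.aeval u p * x := fun p x => rfl
  have halg : ∀ p : A[X], algebraMap A[X] B p = Polynomial.aeval u p := fun p => rfl
  have : IsScalarTower A A[X] B := IsScalarTower.of_algebraMap_eq fun a => by
    rw [halg, Polynomial.algebraMap_apply, Polynomial.aeval_C]
    rfl
  have hsurj : Function.Surjective (algebraMap A[X] B) := aeval_surjective u hu
  have hF : Polynomial.aeval u F = 0 := by
    have : F ∈ RingHom.ker (Polynomial.aeval u : Polynomial A →ₐ[A] B) := by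
      rw [hker]; exact Ideal.mem_span_singleton_self F
    exact this
  -- the element b ⊗ dX lies in the kernel of the base change map
  let ω : B ⊗[A[X]] Ω[A[X]⁄A] := b ⊗ₜ KaehlerDifferential.D A A[X] X
  have hω : KaehlerDifferential.mapBaseChange A A[X] B ω = 0 := by
    simp only [ω, KaehlerDifferential.mapBaseChange_tmul, KaehlerDifferential.map_D]
    rw [halg, Polynomial.aeval_X]
    exact hb
  obtain ⟨c, hc⟩ := (KaehlerDifferential.exact_kerCotangentToTensor_mapBaseChange A A[X] B hsurj ω).mp hω
  obtain ⟨⟨g, hg⟩, rfl⟩ := Ideal.toCotangent_surjective _ c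
  rw [KaehlerDifferential.kerCotangentToTensor_toCotangent] at hc
  -- the linear map B ⊗ Ω → B
  let ψ : B ⊗[A[X]] Ω[A[X]⁄A] →ₗ[A[X]] B :=
    (TensorProduct.rid A[X] B).toLinearMap ∘ₗ
      LinearMap.lTensor B (KaehlerDifferential.polynomialEquiv A).toLinearMap
  have h1 : ψ ω = b := by
    simp [ψ, ω, KaehlerDifferential.polynomialEquiv_D]
  have h2 : ψ ((1 : B) ⊗ₜ[A[X]] KaehlerDifferential.D A A[X] g) =
      Polynomial.aeval u (Polynomial.derivative g) := by
    simp [ψ, KaehlerDifferential.polynomialEquiv_D, hsm]
  have hg' : g ∈ Ideal.span {F} := by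
    have : g ∈ RingHom.ker (algebraMap A[X] B) := hg
    rw [← hker]; exact this
  obtain ⟨G, rfl⟩ := Ideal.mem_span_singleton'.mp hg'
  rw [← h1, ← hc, h2, Polynomial.derivative_mul, map_add, map_mul, map_mul, hF, mul_zero, zero_add]
  exact Ideal.mul_mem_left _ _ (Ideal.mem_span_singleton_self _)

/-- Let B be a finite A-algebra generated by a single element u and F a polynomial with coefficients in
A such that F(u) = 0. Then the ideal generated by F'(u) is contained in the annihilator of the
module of differentials of B over A, and equals it when the kernel of the surjection A[T] → B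
sending T to u is generated by F. -/
theorem result (A B : Type u) [CommRing A] [CommRing B] [Algebra A B]
    [Module.Finite A B] (u : B) (hu : Algebra.adjoin A ({u} : Set B) = ⊤) (F : Polynomial A) (hF : Polynomial.aeval u F = 0) :
    Ideal.span {Polynomial.aeval u (Polynomial.derivative F)} ≤ Module.annihilator B (KaehlerDifferential A B) ∧
      (RingHom.ker (Polynomial.aeval u : Polynomial A →ₐ[A] B) = Ideal.span {F} →
        Module.annihilator B (KaehlerDifferential A B) = Ideal.span {Polynomial.aeval u (Polynomial.derivative F)}) := by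
  have h1 : Ideal.span {Polynomial.aeval u (Polynomial.derivative F)} ≤
      Module.annihilator B (KaehlerDifferential A B) := by
    rw [Ideal.span_singleton_le_iff_mem]
    exact part1 u hu F hF
  refine ⟨h1, fun hker => le_antisymm (fun b hb => ?_) h1⟩
  exact part2 u hu F hker b (Module.mem_annihilator.mp hb _)

end Groth.Agent.S5081
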