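import Groth.Statements.S5082
import Mathlib
import Groth.Agent.Lib.Helper18.AbsCurveDiv
import Groth.Agent.Lib.Helper18.MeroExt
import Groth.Agent.Lib.Helper24.AssDepth
import Groth.Agent.Lib.Helper19.Depth

set_option autoImplicit false
universe u
open CategoryTheory CategoryTheory.Limits AlgebraicGeometry TopologicalSpace
open Mero

namespace Groth.Agent.S5082

open Groth.Agent.Lib.Helper18 Opposite

theorem isUnit_of_nzd_abstract (A S : Type u) [CommRing A] [IsLocalRing A] [CommRing S] [Algebra A S]
    [IsLocalization.AtPrime S (IsLocalRing.maximalIdeal A)] (e : A) (he : e ≠ 0)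
    (hm : ∀ a ∈ IsLocalRing.maximalIdeal A, a * e = 0) (s : S) (hnzd : s ∈ nonZeroDivisors S) :
    IsUnit s := by
  obtain ⟨a, u, rfl⟩ := IsLocalization.exists_mk'_eq
    (IsLocalRing.maximalIdeal A).primeCompl s
  have hu : IsUnit (u : A) := by
    have : (u : A) ∉ IsLocalRing.maximalIdeal A := u.2
    exact (IsLocalRing.notMem_maximalIdeal).mp this
  have hau : IsUnit (a : A) := by
    rw [← IsLocalRing.notMem_maximalIdeal]
    intro ha
    have h1 : IsLocalization.mk' S a u * algebraMap A S ((u : A) * e) = 0 := by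
      rw [map_mul, ← mul_assoc, IsLocalization.mk'_spec, ← map_mul, hm a ha, map_zero]
    have h2 : algebraMap A S ((u : A) * e) = 0 := by
      have := (mem_nonZeroDivisors_iff.mp hnzd).1 _ h1
      exact this
    rw [IsLocalization.map_eq_zero_iff (IsLocalRing.maximalIdeal A).primeCompl] at h2
    obtain ⟨c, hc⟩ := h2
    have hcu : IsUnit (c : A) := by
      have : (c : A) ∉ IsLocalRing.maximalIdeal A := c.2
      exact (IsLocalRing.notMem_maximalIdeal).mp this
    apply he
    have h3 : (c : A) * (u : A) * e = 0 := by rw [mul_assoc]; exact hc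
    exact (hcu.mul hu).mul_right_eq_zero.mp h3
  rw [IsLocalization.mk'_eq_mul_mk'_one]
  refine (hau.map (algebraMap A S)).mul ?_
  have h4 : IsLocalization.mk' S (1 : A) u * algebraMap A S u = 1 := by
    rw [IsLocalization.mk'_spec, map_one]
  exact IsUnit.of_mul_eq_one _ h4

variable (A : Type u) [CommRing A] [IsLocalRing A]

/-- if the maximal ideal kills a nonzero element, regular germs at the closed point are units -/
theorem regStalk_le_units (e : A) (he : e ≠ 0)
    (hm : ∀ a ∈ IsLocalRing.maximalIdeal A, a * e = 0) :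
    Mero.regStalk (Spec (CommRingCat.of A)) (IsLocalRing.closedPoint A) ≤
      IsUnit.submonoid ((Spec (CommRingCat.of A)).presheaf.stalk (IsLocalRing.closedPoint A)) := by
  intro s hs
  have hnzd := Mero.regStalk_le_nonZeroDivisors _ hs
  letI : Algebra A ((Spec (CommRingCat.of A)).presheaf.stalk (IsLocalRing.closedPoint A)) :=
    StructureSheaf.stalkAlgebra (R := A) (IsLocalRing.closedPoint A)
  haveI : IsLocalization.AtPrime
      ((Spec (CommRingCat.of A)).presheaf.stalk (IsLocalRing.closedPoint A))
      (IsLocalRing.maximalIdeal A) :=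
    StructureSheaf.IsLocalization.to_stalk (R := A) (IsLocalRing.closedPoint A)
  exact isUnit_of_nzd_abstract A _ e he hm s hnzd

/-- where all regular germs are units, all germs of divisors are trivial -/
theorem germ_eq_one_of_units {X : Scheme.{u}} (z : X)
    (hunits : Mero.regStalk X z ≤ IsUnit.submonoid (X.presheaf.stalk z)) (d : Mero.Germ X z) :
    d = 1 := by
  let e : X.presheaf.stalk z ≃ₐ[X.presheaf.stalk z] Mero.KStalk X z :=
    IsLocalization.atUnits (X.presheaf.stalk z) (Mero.regStalk X z) hunits
  obtain ⟨q, hq⟩ := QuotientGroup.mk_surjective d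
  rw [← hq, QuotientGroup.eq_one_iff]
  refine ⟨Units.map (e.symm : Mero.KStalk X z →* X.presheaf.stalk z) q, ?_⟩
  apply Units.ext
  change algebraMap (X.presheaf.stalk z) (Mero.KStalk X z) (e.symm q) = q
  rw [← AlgEquiv.commutes e, Algebra.algebraMap_self, RingHom.id_apply, AlgEquiv.apply_symm_apply]

theorem backward (e : A) (he : e ≠ 0) (hm : ∀ a ∈ IsLocalRing.maximalIdeal A, a * e = 0)
    (D : Mero.Divisor (Spec (CommRingCat.of A))) : D = 1 := by
  have h0 : D.1 (IsLocalRing.closedPoint A) = 1 :=
    germ_eq_one_of_units _ (regStalk_le_units A e he hm) _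
  have hopen := AbsCurveDiv.isOpen_setOf_eq_one D
  apply Subtype.ext
  funext y
  exact (IsLocalRing.specializes_closedPoint (R := A) y).mem_open hopen h0

theorem forward (h : ∀ D : Mero.Divisor (Spec (CommRingCat.of A)), D = 1) (t : A)
    (ht : t ∈ IsLocalRing.maximalIdeal A) (hreg : IsSMulRegular A t) : False := by
  have hτ : (Scheme.ΓSpecIso (CommRingCat.of A)).inv t ∈
      nonZeroDivisors Γ(Spec (CommRingCat.of A), ⊤) := by
    rw [mem_nonZeroDivisors_iff_right]
    intro c hc
    have h1 := congrArg (Scheme.ΓSpecIso (CommRingCat.of A)).hom hc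
    rw [map_mul, map_zero] at h1
    have h2 : (Scheme.ΓSpecIso (CommRingCat.of A)).hom
        ((Scheme.ΓSpecIso (CommRingCat.of A)).inv t) = t :=
      Iso.inv_hom_id_apply (Scheme.ΓSpecIso (CommRingCat.of A)) t
    rw [h2] at h1
    have h3 : (Scheme.ΓSpecIso (CommRingCat.of A)).hom c = 0 := by
      apply hreg
      show t * _ = t * 0
      rw [mul_zero, mul_comm]
      exact h1
    have h4 := congrArg (Scheme.ΓSpecIso (CommRingCat.of A)).inv h3
    rw [map_zero] at h4
    rw [← h4]
    exact (Iso.hom_inv_id_apply (Scheme.ΓSpecIso (CommRingCat.of A)) c).symm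
  have hτr := MeroExt.mem_regSub_of_mem_nonZeroDivisors
    (isAffineOpen_top (Spec (CommRingCat.of A))) _ hτ
  have hD := h (Mero.div (AbsCurveDiv.fracUnit ⟨_, hτr⟩ (1 : regSub (Spec (CommRingCat.of A)) ⊤)))
  have h1 : (Mero.div (AbsCurveDiv.fracUnit ⟨_, hτr⟩
      (1 : regSub (Spec (CommRingCat.of A)) ⊤))).1 (IsLocalRing.closedPoint A) = 1 := by
    rw [hD]; rfl
  have h1' : germOf (AbsCurveDiv.fracUnit ⟨_, hτr⟩ (1 : regSub (Spec (CommRingCat.of A)) ⊤))
      (⟨IsLocalRing.closedPoint A, Opens.mem_top _⟩ : (⊤ : (Spec (CommRingCat.of A)).Opens)) = 1 := h1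
  rw [germOf, QuotientGroup.eq_one_iff] at h1'
  replace h1 := h1'
  obtain ⟨v, hv⟩ := h1
  have h2 := congrArg Units.val hv
  have h3 : algebraMap _ (KStalk (Spec (CommRingCat.of A)) (IsLocalRing.closedPoint A))
      (v : (Spec (CommRingCat.of A)).presheaf.stalk (IsLocalRing.closedPoint A)) =
      algebraMap _ _ ((Spec (CommRingCat.of A)).presheaf.germ ⊤ (IsLocalRing.closedPoint A) trivial
        ((Scheme.ΓSpecIso (CommRingCat.of A)).inv t)) := by
    refine Eq.trans h2 ?_
    show LocalizedModule.mk _ _ = LocalizedModule.mk _ 1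
    exact Mero.mk_congr rfl (map_one _)
  have h4 := algebraMap_KStalk_injective _ h3
  have h5 : IsUnit ((Spec (CommRingCat.of A)).presheaf.germ ⊤ (IsLocalRing.closedPoint A) trivial
      ((Scheme.ΓSpecIso (CommRingCat.of A)).inv t)) := h4 ▸ v.isUnit
  have h6 : IsLocalRing.closedPoint A ∈
      (Spec (CommRingCat.of A)).basicOpen ((Scheme.ΓSpecIso (CommRingCat.of A)).inv t) :=
    ((Spec (CommRingCat.of A)).mem_basicOpen_top _ _).mpr h5
  rw [basicOpen_eq_of_affine] at h6
  exact h6 ht

/-- Let A be a Noetherian local ring. Then the group of divisors of Spec A is trivial (every divisor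
equals the unit divisor, divisors being written multiplicatively) if and only if A has depth 0, that
is, if and only if every element of the maximal ideal of A is a zero-divisor. -/
theorem result (A : Type u) [CommRing A] [IsNoetherianRing A] [IsLocalRing A] :
    (∀ D : Mero.Divisor (Spec (CommRingCat.of A)), D = 1) ↔ LocCoh.depth A A = 0 := by
  rw [← Groth.Agent.Lib.Helper24.AssDepth.maximalIdeal_mem_associatedPrimes_iff]
  constructor
  · intro h
    rw [Groth.Agent.Lib.Helper24.AssDepth.maximalIdeal_mem_associatedPrimes_iff]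
    by_contra hd
    have hex : ∃ t ∈ IsLocalRing.maximalIdeal A, IsSMulRegular A t := by
      by_contra hno
      push Not at hno
      apply hd
      exact Groth.Agent.Lib.helper19.Depth.idealDepth_eq_zero (IsLocalRing.maximalIdeal A)
        (IsLocalRing.maximalIdeal.isMaximal A).ne_top hno
    obtain ⟨t, ht, hreg⟩ := hex
    exact forward A h t ht hreg
  · intro hass D
    rw [AssociatedPrimes.mem_iff, isAssociatedPrime_iff] at hass
    obtain ⟨-, a, ha⟩ := hass
    have ha0 : a ≠ 0 := by
      rintro rfl
      have : (1 : A) ∈ IsLocalRing.maximalIdeal A := by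
        rw [ha, Submodule.mem_colon_singleton, smul_zero]
        exact Submodule.zero_mem _
      exact (Ideal.ne_top_iff_one _).1 (IsLocalRing.maximalIdeal.isMaximal A).ne_top this
    refine backward A a ha0 ?_ D
    intro r hr
    have hr' : r ∈ Submodule.colon (⊥ : Submodule A A) {a} := ha ▸ hr
    rw [Submodule.mem_colon_singleton, Submodule.mem_bot] at hr'
    exact hr'

end Groth.Agent.S5082
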