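import Groth.Statements.S5083
import Groth.Agent.Lib.Helper26.ModOf

set_option autoImplicit false
universe u
open CategoryTheory CategoryTheory.Limits AlgebraicGeometry TopologicalSpace
open Mero

namespace Groth.Agent.S5083

open Groth.Agent.Lib.helper26

/-- The value at `x` of a global unit of `K_X`, as a unit of `K_{X,x}`. -/
noncomputable abbrev valT {X : Scheme.{u}} (c : (Γ(Mero.kmod X, ⊤))ˣ) (x : X) : (Mero.KStalk X x)ˣ :=
  Units.map (Mero.evalK X ⊤ ⟨x, Opens.mem_top x⟩).toMonoidHom c

/-- Multiplication by a unit of `K_{X,x}` as an `O_{X,x}`-linear map. -/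
noncomputable def mulUnit {X : Scheme.{u}} (x : X) (a : Mero.KStalk X x) :
    Mero.KStalk X x →ₗ[X.presheaf.stalk x] Mero.KStalk X x :=
  (LinearMap.mulLeft (X.presheaf.stalk x) a)

@[simp] theorem mulUnit_apply {X : Scheme.{u}} (x : X) (a t : Mero.KStalk X x) :
    mulUnit x a t = a * t := rfl

/-- Transport of the predicate cutting out `O_X(D)` under multiplication by a global unit. -/
theorem divLoc_transport {X : Scheme.{u}} (D D' : Mero.Divisor X) (c : (Γ(Mero.kmod X, ⊤))ˣ)
    (h : ∀ x : X, D.1 x = D'.1 x * QuotientGroup.mk (valT c x))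
    (U : X.Opens) (s : ∀ x : U, Mero.KStalk X x.1) (hs : (Mero.divLoc X D).pred s) :
    (Mero.divLoc X D').pred (fun x => mulUnit x.1 (valT c x.1 : Mero.KStalk X x.1) (s x)) := by
  refine ⟨?_, fun x => ?_⟩
  · -- the locally-a-fraction part: product of the restriction of `c` with `s`
    have hc : (Mero.kLoc X).pred
        (((Mero.kmod X).presheaf.map (homOfLE (le_top : U ≤ ⊤)).op (c : Γ(Mero.kmod X, ⊤))).1) :=
      ((Mero.kmod X).presheaf.map (homOfLE (le_top : U ≤ ⊤)).op (c : Γ(Mero.kmod X, ⊤))).2
    exact Mero.kLoc_mul X U _ s hc hs.1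
  · intro g' hg'
    have hD : D.1 x.1 = QuotientGroup.mk (g' * valT c x.1) := by
      rw [h x.1, hg', QuotientGroup.mk_mul]
    have := hs.2 x (g' * valT c x.1) hD
    change (valT c x.1 : Mero.KStalk X x.1) * s x * (g' : Mero.KStalk X x.1) ∈ _
    have e : (valT c x.1 : Mero.KStalk X x.1) * s x * (g' : Mero.KStalk X x.1) =
        s x * ((g' * valT c x.1 : (Mero.KStalk X x.1)ˣ) : Mero.KStalk X x.1) := by
      rw [Units.val_mul]; ring
    rw [e]
    exact this

theorem valT_inv {X : Scheme.{u}} (c : (Γ(Mero.kmod X, ⊤))ˣ) (x : X) :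
    valT c⁻¹ x = (valT c x)⁻¹ := map_inv _ _

/-- Let X be a scheme and D, D' divisors on X (global sections of the sheaf of units of K_X modulo units
of O_X, written multiplicatively). If D and D' are linearly equivalent, i.e. D · D'⁻¹ is the divisor
of a unit of the ring of global sections of K_X, then the O_X-modules O_X(D) and O_X(D') are
isomorphic. (The published statement is an equivalence: O_X(D) and O_X(D') are isomorphic if and
only if D and D' are linearly equivalent; this row states only that linearly equivalent divisors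
have isomorphic modules.) -/
theorem result (X : Scheme.{u}) (D D' : Mero.Divisor X) (h : Mero.LinEquiv D D') :
    Nonempty (Mero.divMod D ≅ Mero.divMod D') := by
  obtain ⟨c, hc⟩ := h
  have h1 : ∀ x : X, D.1 x = D'.1 x * QuotientGroup.mk (valT c x) := by
    intro x
    have := congrArg (fun E : Mero.Divisor X => E.1 x) hc
    have e : D.1 x * (D'.1 x)⁻¹ = QuotientGroup.mk (valT c x) := this
    rw [← e, mul_comm (D.1 x), mul_inv_cancel_left]
  have h2 : ∀ x : X, D'.1 x = D.1 x * QuotientGroup.mk (valT c⁻¹ x) := by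
    intro x
    rw [h1 x, valT_inv, QuotientGroup.mk_inv, mul_inv_cancel_right]
  refine ⟨modOfIso (Mero.divLoc X D) (Mero.divLoc X D')
    (fun x => mulUnit x (valT c x : Mero.KStalk X x))
    (fun x => mulUnit x (valT c⁻¹ x : Mero.KStalk X x))
    (divLoc_transport D D' c h1) (divLoc_transport D' D c⁻¹ h2) ?_ ?_⟩
  · intro x t
    rw [mulUnit_apply, mulUnit_apply, valT_inv, Units.inv_mul_cancel_left]
  · intro x t
    rw [mulUnit_apply, mulUnit_apply, valT_inv, Units.mul_inv_cancel_left]

end Groth.Agent.S5083
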