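import Groth.Statements.S8867
import Mathlib
import Groth.Agent.Lib.Helper18.MeroTwistExt
import Groth.Agent.Lib.Helper18.GenericOpen
import Groth.Agent.Lib.Helper5.LocFinIrr2
import Groth.Agent.Lib.Helper26.RegSections
import Groth.Agent.Lib.Helper16.FLF5

set_option autoImplicit false
universe u
open CategoryTheory CategoryTheory.Limits AlgebraicGeometry TopologicalSpace
open SDiv

namespace Groth.Agent.S8867

/-- associated points of the structure module are the points whose local ring has the maximal
ideal as an associated prime -/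
theorem isAssPoint_iff {X : Scheme.{u}} (y : X) :
    Curv2.IsAssPoint (Coh.structureModule X) y ↔
      IsAssociatedPrime (IsLocalRing.maximalIdeal (X.presheaf.stalk y)) (X.presheaf.stalk y) := by
  haveI hfree := (Groth.Agent.Lib.helper16.FLF.free_stalk_of_isFinLocFree _
    (Groth.Agent.Lib.helper16.FLF.isFinLocFree_structureModule X) y).1
  have hrk := Groth.Agent.Lib.helper16.FLF.finrank_stalk_of_isFinLocFreeOfRank _
    (Groth.Agent.Lib.helper16.FLF.isFinLocFreeOfRank_structureModule X) y
  obtain ⟨e⟩ := Module.nonempty_linearEquiv_of_finrank_eq_one hrk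
  exact (LinearEquiv.isAssociatedPrime_iff e).symm

theorem locallyFinite_of_isLocallyNoetherian (X : Scheme.{u}) [IsLocallyNoetherian X] :
    LocallyFinite (fun Z : irreducibleComponents X => (Z : Set X)) := by
  rw [Groth.Agent.Lib.helper5.IrrCover.locallyFinite_irreducibleComponents_iff]
  refine Groth.Agent.Lib.helper5.IrrCover.locFinIrr_of_affine fun x => ?_
  obtain ⟨U, hU, hxU, -⟩ := exists_isAffineOpen_mem_and_subset (x := x) (U := ⊤) trivial
  haveI : IsNoetherianRing Γ(X, U) := IsLocallyNoetherian.component_noetherian ⟨U, hU⟩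
  refine ⟨U, hU, hxU, ?_⟩
  rw [Groth.Agent.Lib.helper5.IrrCover.finite_irreducibleComponents_affine_iff hU,
    Groth.Agent.Lib.helper5.FlatMinPrimes.finite_irreducibleComponents_iff]
  exact minimalPrimes.finite_of_isNoetherianRing Γ(X, U)

theorem isAssociatedPrime_of_generic {X : Scheme.{u}} [IsLocallyNoetherian X] (ξ : X)
    (hξ : closure ({ξ} : Set X) ∈ irreducibleComponents X) :
    IsAssociatedPrime (IsLocalRing.maximalIdeal (X.presheaf.stalk ξ)) (X.presheaf.stalk ξ) := by
  have hdim := (Groth.Agent.Lib.helper5.IrrCover.stalk_dim_eq_zero_iff ξ).mpr hξ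
  haveI : Ring.KrullDimLE 0 (X.presheaf.stalk ξ) := by
    rw [Ring.krullDimLE_iff]; exact hdim.le
  obtain ⟨P, hP⟩ := associatedPrimes.nonempty (X.presheaf.stalk ξ) (X.presheaf.stalk ξ)
  have hP' : IsAssociatedPrime P (X.presheaf.stalk ξ) := hP
  haveI := hP'.isPrime
  haveI : P.IsMaximal := Ideal.IsPrime.isMaximal' (R := X.presheaf.stalk ξ) inferInstance
  rw [← IsLocalRing.eq_maximalIdeal ‹P.IsMaximal›]
  exact hP'

open Groth.Agent.Lib.Helper18 in
/-- without embedded points, an open containing the generic points is schematically dense -/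
theorem injective_res_of_generic_mem {X : Scheme.{u}} [IsLocallyNoetherian X]
    (hne : ∀ x : ↥X, Curv2.IsAssPoint (Coh.structureModule X) x →
      ∀ y : ↥X, Curv2.IsAssPoint (Coh.structureModule X) y → y ⤳ x → y = x)
    (D : X.Opens) (hD : ∀ ξ : X, closure {ξ} ∈ irreducibleComponents X → ξ ∈ D) (W : X.Opens) :
    Function.Injective ⇑(X.presheaf.map (homOfLE (inf_le_left : W ⊓ D ≤ W)).op) := by
  rw [← RingHom.coe_coe, injective_iff_map_eq_zero]
  intro c hc
  have hc' : X.presheaf.map (homOfLE (inf_le_left : W ⊓ D ≤ W)).op c = 0 := hc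
  by_contra hc0
  -- a point where the germ is nonzero
  have hex : ∃ (x : X) (hx : x ∈ W), X.presheaf.germ W x hx c ≠ 0 := by
    by_contra hcon
    push Not at hcon
    apply hc0
    apply TopCat.Presheaf.section_ext X.sheaf W
    intro x hx
    exact (hcon x hx).trans (map_zero _).symm
  obtain ⟨x, hxW, hx0⟩ := hex
  obtain ⟨W', hW', hxW', hW'W⟩ := exists_isAffineOpen_mem_and_subset (x := x) (U := W) hxW
  haveI : IsNoetherianRing Γ(X, W') := IsLocallyNoetherian.component_noetherian ⟨W', hW'⟩
  set c' : Γ(X, W') := X.presheaf.map (homOfLE hW'W).op c with hc'def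
  have hgc' : ∀ (y : X) (hy : y ∈ W'), X.presheaf.germ W' y hy c' = X.presheaf.germ W y (hW'W hy) c :=
    fun y hy => TopCat.Presheaf.germ_res_apply X.presheaf (homOfLE hW'W) y hy c
  have hc'0 : c' ≠ 0 := by
    intro h
    apply hx0
    rw [← hgc' x hxW', h, map_zero]
  obtain ⟨P, hP, hle⟩ := exists_le_isAssociatedPrime_of_isNoetherianRing Γ(X, W') c' hc'0
  haveI hPp : P.IsPrime := hP.isPrime
  set y : X := hW'.fromSpec ⟨P, hPp⟩ with hy
  have hyW' : y ∈ W' := by
    have h1 : y ∈ Set.range hW'.fromSpec := ⟨_, rfl⟩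
    rw [hW'.range_fromSpec] at h1
    exact h1
  have hprime : hW'.primeIdealOf ⟨y, hyW'⟩ = ⟨P, hPp⟩ := by
    apply hW'.fromSpec.isOpenEmbedding.injective
    rw [hW'.fromSpec_primeIdealOf]
  letI := TopCat.Presheaf.algebra_section_stalk X.presheaf (⟨y, hyW'⟩ : W')
  haveI hloc : IsLocalization.AtPrime (X.presheaf.stalk y) P := by
    have := hW'.isLocalization_stalk ⟨y, hyW'⟩
    rw [hprime] at this
    exact this
  have hass : IsAssociatedPrime (IsLocalRing.maximalIdeal (X.presheaf.stalk y)) (X.presheaf.stalk y) :=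
    Groth.Agent.Lib.helper26.isAssociatedPrime_maximalIdeal_of_localization P hP
  -- the germ of `c` at `y` is nonzero
  have hgy : X.presheaf.germ W' y hyW' c' ≠ 0 := by
    intro h0
    have h1 : algebraMap Γ(X, W') (X.presheaf.stalk y) c' = 0 := h0
    obtain ⟨m, hm⟩ := (IsLocalization.map_eq_zero_iff P.primeCompl (X.presheaf.stalk y) c').mp h1
    apply m.2
    apply hle
    rw [Submodule.mem_colon_singleton]
    exact hm
  -- `y` is a generic point
  obtain ⟨ξ, hξ, hξy⟩ := GenericOpen.exists_generic_specializes y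
  have hξy' : ξ = y := hne y ((isAssPoint_iff y).mpr hass) ξ
    ((isAssPoint_iff ξ).mpr (isAssociatedPrime_of_generic ξ hξ)) hξy
  have hyD : y ∈ D := hξy' ▸ hD ξ hξ
  apply hgy
  rw [hgc' y hyW']
  have e : X.presheaf.germ (W ⊓ D) y ⟨hW'W hyW', hyD⟩
      (X.presheaf.map (homOfLE (inf_le_left : W ⊓ D ≤ W)).op c) = X.presheaf.germ W y (hW'W hyW') c :=
    TopCat.Presheaf.germ_res_apply X.presheaf (homOfLE (inf_le_left : W ⊓ D ≤ W)) y ⟨hW'W hyW', hyD⟩ c
  rw [← e, hc', map_zero]

open Groth.Agent.Lib.Helper18 in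

/-- Let X be a locally Noetherian scheme with no embedded points, i.e. every associated point of O_X is
maximal among the associated points of O_X under specialization, and L an invertible O_X-module.
Then some meromorphic section of L is regular. -/
theorem result (X : Scheme.{u}) [IsLocallyNoetherian X]
    (hne : ∀ x : ↥X, Curv2.IsAssPoint (Coh.structureModule X) x →
      ∀ y : ↥X, Curv2.IsAssPoint (Coh.structureModule X) y → y ⤳ x → y = x)
    (L : X.Modules) (hL : PicF.IsInvertible L) : Mero.HasRegularMero L := by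
  have hLF := locallyFinite_of_isLocallyNoetherian X
  obtain ⟨D, ℓD, hGD, hℓD⟩ := GenericOpen.exists_generic_generator hLF hL
  exact MeroTwistExt.hasRegularMero_of_generator (Or.inl inferInstance) hL D
    (injective_res_of_generic_mem hne D hGD) ℓD hℓD

end Groth.Agent.S8867
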