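import Groth.Statements.S5084
import Mathlib
import Groth.Agent.S2542
import Groth.Agent.S8867
import Groth.Agent.S8863
import Groth.Agent.Lib.Helper16.QCohAss
import Groth.Agent.Lib.Helper2.ModSec
import Groth.Agent.Lib.Helper24.AssDepth
import Groth.Agent.Lib.Helper19.Depth
import Groth.Agent.Lib.Helper12.AmpleBasis

set_option autoImplicit false
universe u
open CategoryTheory CategoryTheory.Limits AlgebraicGeometry TopologicalSpace
open Mero

namespace Groth.Agent.S5084

open Opposite

variable {X : Scheme.{u}} (F : X.Modules)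

theorem mk_one_eq_zero_iff {x : X} (e : F.presheaf.stalk x) :
    (LocalizedModule.mk e 1 : MStalk F x) = 0 ↔ ∃ s : regStalk X x, s.1 • e = 0 := by
  rw [← LocalizedModule.zero_mk (1 : regStalk X x), LocalizedModule.mk_eq]
  constructor
  · rintro ⟨u, hu⟩
    refine ⟨u, ?_⟩
    rw [one_smul, one_smul, smul_zero] at hu
    exact hu
  · rintro ⟨s, hs⟩
    refine ⟨s, ?_⟩
    rw [one_smul, one_smul, smul_zero]
    exact hs

theorem mono_toMer_iff : Mono (toMer F) ↔ ∀ (U : X.Opens) (m : Γ(F, U)),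
    (∀ y : U, ∃ s : regStalk X y.1, s.1 • F.presheaf.germ U y.1 y.2 m = 0) → m = 0 := by
  rw [Groth.Agent.Lib.helper2.ModSec.mono_iff_injective_app]
  constructor
  · intro h U m hm
    apply h U
    rw [map_zero]
    apply Subtype.ext
    funext y
    show (LocalizedModule.mk (F.presheaf.germ U y.1 y.2 m) 1 : MStalk F y.1) = 0
    exact (mk_one_eq_zero_iff F _).mpr (hm y)
  · intro h U
    rw [injective_iff_map_eq_zero]
    intro m hm
    apply h U m
    intro y
    have h1 := congrArg (fun t : Γ(merMod F, U) => t.1 y) hm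
    exact (mk_one_eq_zero_iff F _).mp h1

theorem exists_regular_of_not_ass {R : Type u} [CommRing R] [IsLocalRing R] [IsNoetherianRing R]
    (h : ¬ IsAssociatedPrime (IsLocalRing.maximalIdeal R) R) :
    ∃ t ∈ IsLocalRing.maximalIdeal R, t ∈ nonZeroDivisors R := by
  by_contra hno
  push Not at hno
  apply h
  have h1 : LocCoh.depth R R = 0 :=
    Groth.Agent.Lib.helper19.Depth.idealDepth_eq_zero (IsLocalRing.maximalIdeal R)
      (IsLocalRing.maximalIdeal.isMaximal R).ne_top (fun r hr hreg => hno r hr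
        (by
          rw [mem_nonZeroDivisors_iff_right]
          intro c hc
          apply hreg
          show r * c = r * 0
          rw [mul_zero, mul_comm]
          exact hc))
  exact AssociatedPrimes.mem_iff.mp
    ((Groth.Agent.Lib.Helper24.AssDepth.maximalIdeal_mem_associatedPrimes_iff R).mpr h1)

theorem forward [IsLocallyNoetherian X] (hmono : Mono (toMer F)) (x : X)
    (hx : Curv2.IsAssPoint F x) :
    IsAssociatedPrime (IsLocalRing.maximalIdeal (X.presheaf.stalk x)) (X.presheaf.stalk x) := by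
  by_contra hna
  obtain ⟨t, ht, hreg⟩ := exists_regular_of_not_ass hna
  have htS : t ∈ regStalk X x := by
    rw [Groth.Agent.S8863.main]
    exact hreg
  obtain ⟨U₁, hxU₁, σ, hσ, rfl⟩ := htS
  obtain ⟨-, e, he⟩ := isAssociatedPrime_iff.mp hx
  obtain ⟨U₂, hxU₂, m, rfl⟩ := F.presheaf.exists_germ_eq e
  have hkill : X.presheaf.germ U₁ x hxU₁ σ • F.presheaf.germ U₂ x hxU₂ m = 0 := by
    have : X.presheaf.germ U₁ x hxU₁ σ ∈
        (⊥ : Submodule (X.presheaf.stalk x) (F.presheaf.stalk x)).colon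
          {(F.presheaf.germ U₂ x hxU₂ m : F.presheaf.stalk x)} := he ▸ ht
    rw [Submodule.mem_colon_singleton, Submodule.mem_bot] at this
    exact this
  -- spread out
  have hxU : x ∈ U₁ ⊓ U₂ := ⟨hxU₁, hxU₂⟩
  have h0 : F.presheaf.germ (U₁ ⊓ U₂) x hxU
      (X.presheaf.map (homOfLE (inf_le_left : U₁ ⊓ U₂ ≤ U₁)).op σ •
        F.presheaf.map (homOfLE (inf_le_right : U₁ ⊓ U₂ ≤ U₂)).op m) =
      F.presheaf.germ (U₁ ⊓ U₂) x hxU 0 := by
    rw [Mero.germ_smul, map_zero, TopCat.Presheaf.germ_res_apply, TopCat.Presheaf.germ_res_apply]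
    exact hkill
  obtain ⟨U₃, hxU₃, i₁, i₂, hz⟩ := TopCat.Presheaf.germ_eq F.presheaf x hxU hxU _ _ h0
  rw [map_zero] at hz
  have hle : U₃ ≤ U₁ ⊓ U₂ := i₁.le
  have hm0 : F.presheaf.map (homOfLE (hle.trans inf_le_right)).op m = 0 := by
    apply (mono_toMer_iff F).mp hmono U₃
    intro y
    refine ⟨regGerm y ⟨X.presheaf.map (homOfLE (hle.trans inf_le_left)).op σ,
      Mero.regSub_res (homOfLE (hle.trans inf_le_left)) hσ⟩, ?_⟩
    show X.presheaf.germ U₃ y.1 y.2 (X.presheaf.map (homOfLE (hle.trans inf_le_left)).op σ) •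
      F.presheaf.germ U₃ y.1 y.2 (F.presheaf.map (homOfLE (hle.trans inf_le_right)).op m) = 0
    rw [← Mero.germ_smul]
    have e1 : X.presheaf.map (homOfLE (hle.trans inf_le_left)).op σ •
        F.presheaf.map (homOfLE (hle.trans inf_le_right)).op m =
        F.presheaf.map i₁.op (X.presheaf.map (homOfLE (inf_le_left : U₁ ⊓ U₂ ≤ U₁)).op σ •
          F.presheaf.map (homOfLE (inf_le_right : U₁ ⊓ U₂ ≤ U₂)).op m) := by
      rw [Scheme.Modules.map_smul]
      congr 1
      · rw [← ConcreteCategory.comp_apply, ← Functor.map_comp]; rfl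
      · rw [← ConcreteCategory.comp_apply, ← Functor.map_comp]; rfl
    rw [e1, hz, map_zero]
  have hgerm : F.presheaf.germ U₂ x hxU₂ m = 0 := by
    have := TopCat.Presheaf.germ_res_apply F.presheaf (homOfLE (hle.trans inf_le_right)) x hxU₃ m
    rw [← this, hm0, map_zero]
  have h1 : (1 : X.presheaf.stalk x) ∈ IsLocalRing.maximalIdeal (X.presheaf.stalk x) := by
    rw [he, Submodule.mem_colon_singleton, hgerm, smul_zero]
    exact Submodule.zero_mem _
  exact (Ideal.ne_top_iff_one _).1 (IsLocalRing.maximalIdeal.isMaximal _).ne_top h1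

theorem eq_zero_of_regSub_mul {V : X.Opens} (σ : Γ(X, V)) (hσ : σ ∈ regSub X V) (z : Γ(X, V))
    (h : σ * z = 0) : z = 0 := by
  apply TopCat.Presheaf.section_ext X.sheaf V
  intro y hy
  have h1 := congrArg (X.presheaf.germ V y hy) h
  rw [map_mul, map_zero] at h1
  have h2 := (mem_nonZeroDivisors_iff.mp (hσ ⟨y, hy⟩)).1 _ h1
  exact h2.trans (map_zero (X.presheaf.germ V y hy).hom).symm

theorem backward [IsLocallyNoetherian X] [F.IsQuasicoherent]
    (h : ∀ x : X, Curv2.IsAssPoint F x →
      IsAssociatedPrime (IsLocalRing.maximalIdeal (X.presheaf.stalk x)) (X.presheaf.stalk x)) :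
    Mono (toMer F) := by
  rw [mono_toMer_iff]
  intro U m hm
  apply Groth.Agent.Lib.helper16.QCohAss.section_eq_zero_of_germ_eq_zero
  intro y hy
  by_contra hne
  obtain ⟨s, hs⟩ := hm ⟨y, hy⟩
  obtain ⟨U₁, hyU₁, σ, hσ, hσs⟩ := s.2
  have hyU : y ∈ U₁ ⊓ U := ⟨hyU₁, hy⟩
  have h0 : F.presheaf.germ (U₁ ⊓ U) y hyU
      (X.presheaf.map (homOfLE (inf_le_left : U₁ ⊓ U ≤ U₁)).op σ •
        F.presheaf.map (homOfLE (inf_le_right : U₁ ⊓ U ≤ U)).op m) =
      F.presheaf.germ (U₁ ⊓ U) y hyU 0 := by
    rw [Mero.germ_smul, map_zero, TopCat.Presheaf.germ_res_apply, TopCat.Presheaf.germ_res_apply,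
      hσs]
    exact hs
  obtain ⟨U₃, hyU₃, i₁, i₂, hz⟩ := TopCat.Presheaf.germ_eq F.presheaf y hyU hyU _ _ h0
  rw [map_zero] at hz
  obtain ⟨_, ⟨V, hV, rfl⟩, hyV, hVU₃⟩ :=
    X.isBasis_affineOpens.exists_subset_of_mem_open (show y ∈ (U₃ : Set X) from hyU₃) U₃.2
  have hVU₃' : V ≤ U₃ := hVU₃
  have hVle : V ≤ U₁ ⊓ U := hVU₃'.trans i₁.le
  have hσ' : X.presheaf.map (homOfLE (hVle.trans inf_le_left)).op σ ∈ regSub X V :=
    Mero.regSub_res (homOfLE (hVle.trans inf_le_left)) hσ
  have hkill : X.presheaf.map (homOfLE (hVle.trans inf_le_left)).op σ •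
      F.presheaf.map (homOfLE (hVle.trans inf_le_right)).op m = 0 := by
    have e1 : X.presheaf.map (homOfLE (hVle.trans inf_le_left)).op σ •
        F.presheaf.map (homOfLE (hVle.trans inf_le_right)).op m =
        F.presheaf.map (homOfLE hVU₃').op (F.presheaf.map i₁.op
          (X.presheaf.map (homOfLE (inf_le_left : U₁ ⊓ U ≤ U₁)).op σ •
          F.presheaf.map (homOfLE (inf_le_right : U₁ ⊓ U ≤ U)).op m)) := by
      rw [Scheme.Modules.map_smul, Scheme.Modules.map_smul]
      congr 1
      · rw [← ConcreteCategory.comp_apply, ← ConcreteCategory.comp_apply, ← Functor.map_comp,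
          ← Functor.map_comp]; rfl
      · rw [← ConcreteCategory.comp_apply, ← ConcreteCategory.comp_apply, ← Functor.map_comp,
          ← Functor.map_comp]; rfl
    rw [e1, hz, map_zero]
  have hm' : F.presheaf.map (homOfLE (hVle.trans inf_le_right)).op m ≠ 0 := by
    intro h0'
    apply hne
    have := TopCat.Presheaf.germ_res_apply F.presheaf (homOfLE (hVle.trans inf_le_right)) y hyV m
    rw [← this, h0', map_zero]
  haveI : IsNoetherianRing Γ(X, V) := IsLocallyNoetherian.component_noetherian ⟨V, hV⟩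
  obtain ⟨P, hP, hle⟩ := exists_le_isAssociatedPrime_of_isNoetherianRing Γ(X, V)
    (F.presheaf.map (homOfLE (hVle.trans inf_le_right)).op m) hm'
  have hσP : X.presheaf.map (homOfLE (hVle.trans inf_le_left)).op σ ∈ P := by
    apply hle
    rw [Submodule.mem_colon_singleton, Submodule.mem_bot]
    exact hkill
  haveI := hP.isPrime
  have hxV := Groth.Agent.Lib.helper16.QCohAss.fromSpec_mem hV ⟨P, hP.isPrime⟩
  have hprime := Groth.Agent.Lib.helper16.QCohAss.primeIdealOf_fromSpec hV ⟨P, hP.isPrime⟩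
  have hass : Curv2.IsAssPoint F (hV.fromSpec ⟨P, hP.isPrime⟩) := by
    rw [Groth.Agent.S2542.isAssPoint_iff_isAssociatedPrime F hV _ hxV, hprime]
    exact hP
  have h1 := h _ hass
  rw [← Groth.Agent.S8867.isAssPoint_iff] at h1
  haveI := Groth.Agent.Lib.helper12.AmpleBasis.structureModule_qcoh X
  rw [Groth.Agent.S2542.isAssPoint_iff_isAssociatedPrime (Coh.structureModule X) hV _ hxV,
    hprime] at h1
  obtain ⟨-, z, hz'⟩ := isAssociatedPrime_iff.mp h1
  have hz0 : z = 0 := by
    have h2 : X.presheaf.map (homOfLE (hVle.trans inf_le_left)).op σ ∈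
        (⊥ : Submodule Γ(X, V) Γ(Coh.structureModule X, V)).colon {z} := hz' ▸ hσP
    rw [Submodule.mem_colon_singleton, Submodule.mem_bot] at h2
    exact eq_zero_of_regSub_mul _ hσ' z h2
  have h3 : (1 : Γ(X, V)) ∈ P := by
    change (1 : Γ(X, V)) ∈ (⟨P, hP.isPrime⟩ : PrimeSpectrum Γ(X, V)).asIdeal
    rw [hz', Submodule.mem_colon_singleton, hz0, smul_zero]
    exact Submodule.zero_mem _
  exact hP.isPrime.ne_top ((Ideal.eq_top_iff_one _).mpr h3)

/-- Let X be a locally Noetherian scheme and F a quasi-coherent O_X-module. Then F is torsion-free — the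
canonical map from F to its sheaf of meromorphic sections K_X(F), m ↦ m/1, is a monomorphism, i.e.
at every point no germ of a regular function kills a nonzero element of the stalk of F — if and only
if every associated point of F is an associated point of the structure sheaf (a point x such that
the maximal ideal of O_{X,x} is an associated prime of O_{X,x}). -/
theorem result (X : Scheme.{u}) [IsLocallyNoetherian X]
    (F : X.Modules) (hF : Coh.IsQCoh F) :
    Mono (Mero.toMer F) ↔
      ∀ x : ↥X, Curv2.IsAssPoint F x →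
        IsAssociatedPrime (IsLocalRing.maximalIdeal ↑(X.presheaf.stalk x)) ↑(X.presheaf.stalk x) := by
  haveI : F.IsQuasicoherent := hF
  exact ⟨fun hm x hx => forward F hm x hx, fun h => backward F h⟩

end Groth.Agent.S5084
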