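import Groth.Statements.S5088
import Mathlib
import Groth.Agent.Lib.Helper18.MeroTwistExt
import Groth.Agent.Lib.Helper18.GenericOpen
import Groth.Agent.Lib.Helper18.MeroDivSec
import Groth.Agent.Lib.Helper18.SemiLocalGen
import Groth.Agent.Lib.Helper26.RegSections

set_option autoImplicit false
universe u
open CategoryTheory CategoryTheory.Limits AlgebraicGeometry TopologicalSpace
open Mero

namespace Groth.Agent.S5088

open Groth.Agent.Lib.Helper18 in
/-- an open containing all associated points is schematically dense -/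
theorem injective_res_of_ass_mem {X : Scheme.{u}} [IsLocallyNoetherian X]
    (D : X.Opens) (hD : ∀ y : X,
      IsAssociatedPrime (IsLocalRing.maximalIdeal (X.presheaf.stalk y)) (X.presheaf.stalk y) → y ∈ D)
    (W : X.Opens) :
    Function.Injective ⇑(X.presheaf.map (homOfLE (inf_le_left : W ⊓ D ≤ W)).op) := by
  rw [← RingHom.coe_coe, injective_iff_map_eq_zero]
  intro c hc
  have hc' : X.presheaf.map (homOfLE (inf_le_left : W ⊓ D ≤ W)).op c = 0 := hc
  by_contra hc0
  have hex : ∃ (x : X) (hx : x ∈ W), X.presheaf.germ W x hx c ≠ 0 := by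
    by_contra hcon
    push Not at hcon
    apply hc0
    apply TopCat.Presheaf.section_ext X.sheaf W
    intro x hx
    exact (hcon x hx).trans (map_zero _).symm
  obtain ⟨x, hxW, hx0⟩ := hex
  obtain ⟨W', hW', hxW', hW'W⟩ := exists_isAffineOpen_mem_and_subset (x := x) (U := W) hxW
  haveI : IsNoetherianRing Γ(X, W') := IsLocallyNoetherian.component_noetherian ⟨W', hW'⟩
  set c' : Γ(X, W') := X.presheaf.map (homOfLE hW'W).op c with hc'def
  have hgc' : ∀ (y : X) (hy : y ∈ W'), X.presheaf.germ W' y hy c' = X.presheaf.germ W y (hW'W hy) c :=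
    fun y hy => TopCat.Presheaf.germ_res_apply X.presheaf (homOfLE hW'W) y hy c
  have hc'0 : c' ≠ 0 := by
    intro h
    apply hx0
    rw [← hgc' x hxW', h, map_zero]
  obtain ⟨P, hP, hle⟩ := exists_le_isAssociatedPrime_of_isNoetherianRing Γ(X, W') c' hc'0
  haveI hPp : P.IsPrime := hP.isPrime
  set y : X := hW'.fromSpec ⟨P, hPp⟩ with hy
  have hyW' : y ∈ W' := SemiLocalGen.fromSpec_mem hW' ⟨P, hPp⟩
  have hprime : hW'.primeIdealOf ⟨y, hyW'⟩ = ⟨P, hPp⟩ := SemiLocalGen.primeIdealOf_fromSpec hW' ⟨P, hPp⟩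
  letI := TopCat.Presheaf.algebra_section_stalk X.presheaf (⟨y, hyW'⟩ : W')
  haveI hloc : IsLocalization.AtPrime (X.presheaf.stalk y) P := by
    have := hW'.isLocalization_stalk ⟨y, hyW'⟩
    rw [hprime] at this
    exact this
  have hass : IsAssociatedPrime (IsLocalRing.maximalIdeal (X.presheaf.stalk y)) (X.presheaf.stalk y) :=
    Groth.Agent.Lib.helper26.isAssociatedPrime_maximalIdeal_of_localization P hP
  have hgy : X.presheaf.germ W' y hyW' c' ≠ 0 := by
    intro h0
    have h1 : algebraMap Γ(X, W') (X.presheaf.stalk y) c' = 0 := h0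
    obtain ⟨m, hm⟩ := (IsLocalization.map_eq_zero_iff P.primeCompl (X.presheaf.stalk y) c').mp h1
    apply m.2
    apply hle
    rw [Submodule.mem_colon_singleton]
    exact hm
  have hyD : y ∈ D := hD y hass
  apply hgy
  rw [hgc' y hyW']
  have e : X.presheaf.germ (W ⊓ D) y ⟨hW'W hyW', hyD⟩
      (X.presheaf.map (homOfLE (inf_le_left : W ⊓ D ≤ W)).op c) = X.presheaf.germ W y (hW'W hyW') c :=
    TopCat.Presheaf.germ_res_apply X.presheaf (homOfLE (inf_le_left : W ⊓ D ≤ W)) y ⟨hW'W hyW', hyD⟩ c
  rw [← e, hc', map_zero]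

/-- the prime of an associated point of an affine open is an associated prime -/
theorem primeIdealOf_mem_associatedPrimes {X : Scheme.{u}} [IsLocallyNoetherian X] {W : X.Opens}
    (hW : IsAffineOpen W) (x : X) (hx : x ∈ W)
    (hass : IsAssociatedPrime (IsLocalRing.maximalIdeal (X.presheaf.stalk x)) (X.presheaf.stalk x)) :
    (hW.primeIdealOf ⟨x, hx⟩).asIdeal ∈ associatedPrimes Γ(X, W) Γ(X, W) := by
  haveI : IsNoetherianRing Γ(X, W) := IsLocallyNoetherian.component_noetherian ⟨W, hW⟩
  letI := TopCat.Presheaf.algebra_section_stalk X.presheaf (⟨x, hx⟩ : W)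
  haveI : IsLocalization.AtPrime (X.presheaf.stalk x) (hW.primeIdealOf ⟨x, hx⟩).asIdeal :=
    hW.isLocalization_stalk ⟨x, hx⟩
  have h1 := Module.associatedPrimes.preimage_comap_associatedPrimes_eq_associatedPrimes_of_isLocalizedModule
    (R := Γ(X, W)) (hW.primeIdealOf ⟨x, hx⟩).asIdeal.primeCompl (R' := X.presheaf.stalk x)
    (M := Γ(X, W)) (M' := X.presheaf.stalk x) (Algebra.linearMap Γ(X, W) (X.presheaf.stalk x))
  have h2 : IsLocalRing.maximalIdeal (X.presheaf.stalk x) ∈
      associatedPrimes (X.presheaf.stalk x) (X.presheaf.stalk x) := hass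
  rw [← h1] at h2
  have h3 : (IsLocalRing.maximalIdeal (X.presheaf.stalk x)).comap
      (algebraMap Γ(X, W) (X.presheaf.stalk x)) = (hW.primeIdealOf ⟨x, hx⟩).asIdeal :=
    IsLocalization.AtPrime.under_maximalIdeal (X.presheaf.stalk x) (hW.primeIdealOf ⟨x, hx⟩).asIdeal
  rw [← h3]
  exact h2

open Groth.Agent.Lib.Helper18 in

/-- Case a): let X be a locally Noetherian scheme such that the set of associated points of O_X (the
points x such that the maximal ideal of O_{X,x} is an associated prime of O_{X,x}) is contained in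
an affine open subset of X. Then every invertible O_X-module is isomorphic to O_X(D) for some
divisor D on X; in other words the canonical homomorphism Div(X) → Pic(X) is surjective and Pic(X)
is the group of divisors modulo linear equivalence. -/
theorem result (X : Scheme.{u}) [IsLocallyNoetherian X]
    (hX : ∃ W : X.Opens, IsAffineOpen W ∧ ∀ x : ↥X,
      IsAssociatedPrime (IsLocalRing.maximalIdeal ↑(X.presheaf.stalk x)) ↑(X.presheaf.stalk x) → x ∈ W)
    (L : X.Modules) (hL : PicF.IsInvertible L) :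
    ∃ D : Mero.Divisor X, Nonempty (L ≅ Mero.divMod D) := by
  classical
  obtain ⟨W, hW, hassW⟩ := hX
  haveI : IsNoetherianRing Γ(X, W) := IsLocallyNoetherian.component_noetherian ⟨W, hW⟩
  have hPfin : (associatedPrimes Γ(X, W) Γ(X, W)).Finite := associatedPrimes.finite _ _
  -- the maximal associated primes, as points of the spectrum
  let S : Set (PrimeSpectrum Γ(X, W)) :=
    {p | Maximal (· ∈ associatedPrimes Γ(X, W) Γ(X, W)) p.asIdeal}
  have hSfin : S.Finite := by
    have h1 : S ⊆ PrimeSpectrum.asIdeal ⁻¹' (associatedPrimes Γ(X, W) Γ(X, W)) := fun p hp => hp.1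
    exact (hPfin.preimage (fun p _ q _ h => PrimeSpectrum.ext h)).subset h1
  let T : Finset (PrimeSpectrum Γ(X, W)) := hSfin.toFinset
  have hT : ∀ p, p ∈ T ↔ Maximal (· ∈ associatedPrimes Γ(X, W) Γ(X, W)) p.asIdeal := fun p =>
    hSfin.mem_toFinset
  have hinc : ∀ p ∈ T, ∀ q ∈ T, q.asIdeal ≤ p.asIdeal → q = p := by
    intro p hp q hq hle
    have hp' := (hT p).mp hp
    have hq' := (hT q).mp hq
    exact PrimeSpectrum.ext (le_antisymm hle (hq'.2 hp'.1 hle))
  obtain ⟨D, ℓ, hℓ, hTD⟩ := SemiLocalGen.exists_isGen_of_finset hL hW T hinc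
  have hDass : ∀ y : X,
      IsAssociatedPrime (IsLocalRing.maximalIdeal (X.presheaf.stalk y)) (X.presheaf.stalk y) → y ∈ D := by
    intro y hy
    have hyW : y ∈ W := hassW y hy
    have h1 := primeIdealOf_mem_associatedPrimes hW y hyW hy
    obtain ⟨q, hle, hq⟩ := hPfin.exists_le_maximal h1
    haveI hqp : q.IsPrime := IsAssociatedPrime.isPrime hq.1
    have hqT : (⟨q, hqp⟩ : PrimeSpectrum Γ(X, W)) ∈ T := (hT _).mpr hq
    exact SemiLocalGen.mem_of_le_primeIdealOf hW y hyW q hle D (hTD _ hqT)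
  have hreg : Mero.HasRegularMero L :=
    MeroTwistExt.hasRegularMero_of_generator (Or.inl inferInstance) hL D
      (injective_res_of_ass_mem D hDass) ℓ hℓ
  exact MeroDivSec.exists_iso_divMod hL hreg

end Groth.Agent.S5088
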