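import Groth.Statements.S5089
import Mathlib
import Groth.Agent.Lib.Helper18.MeroTwistExt
import Groth.Agent.Lib.Helper18.GenericOpen
import Groth.Agent.Lib.Helper18.MeroDivSec

set_option autoImplicit false
universe u
open CategoryTheory CategoryTheory.Limits AlgebraicGeometry TopologicalSpace
open Mero

namespace Groth.Agent.S5089

theorem locallyFinite_of_meeting {X : Scheme.{u}}
    (hX : ∀ x : ↥X, ∃ W : X.Opens, x ∈ W ∧
      {Z : Set ↥X | Z ∈ irreducibleComponents ↥X ∧ (Z ∩ (W : Set ↥X)).Nonempty}.Finite) :
    LocallyFinite (fun Z : irreducibleComponents X => (Z : Set X)) := by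
  intro x
  obtain ⟨W, hxW, hfin⟩ := hX x
  refine ⟨W, W.2.mem_nhds hxW, ?_⟩
  refine Set.Finite.subset (hfin.preimage (Subtype.val_injective.injOn)) ?_
  intro Z hZ
  exact ⟨Z.2, hZ⟩

open Groth.Agent.Lib.Helper18 in

/-- Case b): let X be a reduced scheme whose set of irreducible components is locally finite (every
point has an open neighbourhood meeting only finitely many irreducible components). Then every
invertible O_X-module is isomorphic to O_X(D) for some divisor D on X; in other words the canonical
homomorphism Div(X) → Pic(X) is surjective. -/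
theorem result (X : Scheme.{u}) [IsReduced X]
    (hX : ∀ x : ↥X, ∃ W : X.Opens, x ∈ W ∧
      {Z : Set ↥X | Z ∈ irreducibleComponents ↥X ∧ (Z ∩ (W : Set ↥X)).Nonempty}.Finite)
    (L : X.Modules) (hL : PicF.IsInvertible L) :
    ∃ D : Mero.Divisor X, Nonempty (L ≅ Mero.divMod D) := by
  have hLF := locallyFinite_of_meeting hX
  obtain ⟨D, ℓD, hGD, hℓD⟩ := GenericOpen.exists_generic_generator hLF hL
  have hreg : Mero.HasRegularMero L :=
    MeroTwistExt.hasRegularMero_of_generator (Or.inr ⟨inferInstance, hX⟩) hL D
      (GenericOpen.injective_res_of_generic_mem_of_isReduced D hGD) ℓD hℓD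
  exact MeroDivSec.exists_iso_divMod hL hreg

end Groth.Agent.S5089
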