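import Groth.Statements.S5091
import Groth.Agent.Lib.Helper26.RegSections

set_option autoImplicit false
universe u
open CategoryTheory CategoryTheory.Limits AlgebraicGeometry TopologicalSpace
open Div21

namespace Groth.Agent.S5091

open Groth.Agent.Lib.helper26

theorem one_le_depth_iff (R : Type u) [CommRing R] [IsLocalRing R] [IsNoetherianRing R] :
    (1 : ℕ∞) ≤ LocCoh.depth R R ↔ ¬ IsAssociatedPrime (IsLocalRing.maximalIdeal R) R := by
  have hne : IsLocalRing.maximalIdeal R • (⊤ : Submodule R R) ≠ ⊤ := by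
    rw [smul_eq_mul, Ideal.mul_top]
    exact (IsLocalRing.maximalIdeal.isMaximal R).ne_top
  unfold LocCoh.depth LocCoh.idealDepth
  rw [if_neg hne]
  constructor
  · intro h hass
    have : (⨆ (rs : List R) (_ : RingTheory.Sequence.IsWeaklyRegular R rs ∧
        ∀ r ∈ rs, r ∈ IsLocalRing.maximalIdeal R), (rs.length : ℕ∞)) ≤ 0 := by
      refine iSup₂_le fun rs hrs => ?_
      cases rs with
      | nil => simp
      | cons r rs' =>
        exfalso
        have h1 := ((RingTheory.Sequence.isWeaklyRegular_cons_iff R r rs').mp hrs.1).1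
        have h2 : r ∈ IsLocalRing.maximalIdeal R := hrs.2 r (by simp)
        apply not_mem_nonZeroDivisors_of_mem_assPrime hass h2
        rw [mem_nonZeroDivisors_iff_right]
        intro x hx
        apply h1
        simpa [mul_comm] using hx
    have := h.trans this
    simp at this
  · intro hass
    -- find a regular element in the maximal ideal
    have : ∃ r ∈ IsLocalRing.maximalIdeal R, r ∈ nonZeroDivisors R := by
      by_contra hcon
      push Not at hcon
      have hsub : (IsLocalRing.maximalIdeal R : Set R) ⊆ ⋃ p ∈ associatedPrimes R R, (p : Set R) := by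
        rw [biUnion_associatedPrimes_eq_compl_nonZeroDivisors]
        exact fun r hr => hcon r hr
      have hfin : (associatedPrimes R R).Finite := associatedPrimes.finite R R
      rw [← hfin.coe_toFinset] at hsub
      obtain ⟨p, hp, hle⟩ := (Ideal.subset_union_prime (f := fun p : Ideal R => p) ⊤ ⊤
        (fun i hi _ _ => ((hfin.mem_toFinset.mp hi) : IsAssociatedPrime i R).isPrime)).mp hsub
      have hp' : IsAssociatedPrime p R := hfin.mem_toFinset.mp hp
      have : IsLocalRing.maximalIdeal R = p :=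
        (IsLocalRing.maximalIdeal.isMaximal R).eq_of_le hp'.isPrime.ne_top hle
      exact hass (this ▸ hp')
    obtain ⟨r, hr, hreg⟩ := this
    refine le_iSup₂_of_le [r] ⟨?_, by simpa using hr⟩ (by simp)
    rw [RingTheory.Sequence.isWeaklyRegular_singleton_iff]
    intro x y hxy
    have : r * (x - y) = 0 := by
      simp only [smul_eq_mul] at hxy
      rw [mul_sub, hxy, sub_self]
    have := (mem_nonZeroDivisors_iff_right.mp hreg) (x - y) (by rwa [mul_comm])
    exact sub_eq_zero.mp this

theorem isAssociatedPrime_primeIdealOf {X : Scheme.{u}} [IsLocallyNoetherian X] {W : X.Opens}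
    (hW : IsAffineOpen W) (x : X) (hx : x ∈ W)
    (hass : IsAssociatedPrime (IsLocalRing.maximalIdeal (X.presheaf.stalk x)) (X.presheaf.stalk x)) :
    IsAssociatedPrime (hW.primeIdealOf ⟨x, hx⟩).asIdeal Γ(X, W) := by
  have : IsNoetherianRing Γ(X, W) := IsLocallyNoetherian.component_noetherian ⟨W, hW⟩
  let := X.presheaf.algebra_section_stalk ⟨x, hx⟩
  have := hW.isLocalization_stalk ⟨x, hx⟩
  have h := Module.associatedPrimes.preimage_comap_associatedPrimes_eq_associatedPrimes_of_isLocalizedModule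
    (R := Γ(X, W)) (hW.primeIdealOf ⟨x, hx⟩).asIdeal.primeCompl (X.presheaf.stalk x)
    (M := Γ(X, W)) (M' := X.presheaf.stalk x) (Algebra.linearMap _ _)
  have hmem : IsLocalRing.maximalIdeal (X.presheaf.stalk x) ∈
      associatedPrimes (X.presheaf.stalk x) (X.presheaf.stalk x) := hass
  rw [← h] at hmem
  have h2 : (IsLocalRing.maximalIdeal (X.presheaf.stalk x)).comap
      (algebraMap Γ(X, W) (X.presheaf.stalk x)) = (hW.primeIdealOf ⟨x, hx⟩).asIdeal :=
    IsLocalization.AtPrime.under_maximalIdeal (X.presheaf.stalk x) _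
  rw [Set.mem_preimage, h2] at hmem
  exact hmem

theorem eq_zero_of_germ {X : Scheme.{u}} (V : X.Opens) (s : Γ(X, V))
    (h : ∀ x (hx : x ∈ V), X.presheaf.germ V x hx s = 0) : s = 0 := by
  refine TopCat.Presheaf.section_ext X.sheaf V s 0 fun x hx => ?_
  change X.presheaf.germ V x hx s = X.presheaf.germ V x hx 0
  rw [h, map_zero]

theorem dense_of_noAss (X : Scheme.{u}) [IsLocallyNoetherian X] (U : X.Opens)
    (h : ∀ x : X, IsAssociatedPrime (IsLocalRing.maximalIdeal (X.presheaf.stalk x)) (X.presheaf.stalk x) → x ∈ U) :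
    CInt.IsSchematicallyDense U := by
  intro V s₁ s₂ hs
  rw [← sub_eq_zero]
  set d := s₁ - s₂ with hd
  have hd0 : X.presheaf.map (homOfLE (inf_le_left : V ⊓ U ≤ V)).op d = 0 := by
    rw [hd, map_sub, hs, sub_self]
  refine eq_zero_of_germ V d fun x hx => ?_
  by_contra hne
  obtain ⟨_, ⟨W, hW, rfl⟩, hxW, hWV⟩ :=
    (X.isBasis_affineOpens).exists_subset_of_mem_open hx V.isOpen
  have hWV' : W ≤ V := hWV
  have : IsNoetherianRing Γ(X, W) := IsLocallyNoetherian.component_noetherian ⟨W, hW⟩
  set t : Γ(X, W) := X.presheaf.map (homOfLE hWV').op d with ht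
  have hgerm : ∀ (z : X) (hz : z ∈ W), X.presheaf.germ W z hz t =
      X.presheaf.germ V z (hWV' hz) d := fun z hz => by
    rw [ht, TopCat.Presheaf.germ_res_apply]
  have ht0 : t ≠ 0 := by
    intro h0
    apply hne
    rw [← hgerm x hxW, h0, map_zero]
  let N : Submodule Γ(X, W) Γ(X, W) := Submodule.span _ {t}
  have htN : t ∈ N := Submodule.mem_span_singleton_self t
  obtain ⟨P, hP, -⟩ := exists_le_isAssociatedPrime_of_isNoetherianRing Γ(X, W) (⟨t, htN⟩ : N)
    (by simpa [Subtype.ext_iff] using ht0)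
  have hPA : IsAssociatedPrime P Γ(X, W) := hP.map_of_injective N.subtype N.subtype_injective
  obtain ⟨hPp, c, hc⟩ := (isAssociatedPrime_iff).mp hP
  obtain ⟨b, hb⟩ := Submodule.mem_span_singleton.mp c.2
  let y : PrimeSpectrum Γ(X, W) := ⟨P, hPp⟩
  have hy : hW.fromSpec y ∈ W := by
    have : hW.fromSpec y ∈ Set.range hW.fromSpec := ⟨y, rfl⟩
    rw [hW.range_fromSpec] at this
    exact this
  let := X.presheaf.algebra_section_stalk ⟨hW.fromSpec y, hy⟩
  have hloc : IsLocalization.AtPrime (X.presheaf.stalk (hW.fromSpec y)) P :=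
    hW.isLocalization_stalk' y hy
  have hassy := isAssociatedPrime_maximalIdeal_of_localization (S := X.presheaf.stalk (hW.fromSpec y)) P hPA
  have hyU : hW.fromSpec y ∈ U := h _ hassy
  have hyVU : hW.fromSpec y ∈ V ⊓ U := ⟨hWV' hy, hyU⟩
  have hgt : X.presheaf.germ W _ hy t = 0 := by
    rw [hgerm, ← TopCat.Presheaf.germ_res_apply X.presheaf (homOfLE (inf_le_left : V ⊓ U ≤ V)) _ hyVU,
      hd0, map_zero]
  have hc0 : algebraMap Γ(X, W) (X.presheaf.stalk (hW.fromSpec y)) c.1 = 0 := by
    rw [← hb, smul_eq_mul, map_mul]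
    have : algebraMap Γ(X, W) (X.presheaf.stalk (hW.fromSpec y)) t = 0 := hgt
    rw [this, mul_zero]
  obtain ⟨u, hu⟩ := (IsLocalization.map_eq_zero_iff P.primeCompl _ _).mp hc0
  have huP : u.1 ∈ P := by
    have : u.1 ∈ (⊥ : Submodule Γ(X, W) N).colon {c} := by
      rw [Submodule.mem_colon_singleton, Submodule.mem_bot]
      ext
      simpa using hu
    exact hc ▸ this
  exact u.2 huP

theorem noAss_of_dense (X : Scheme.{u}) [IsLocallyNoetherian X] (U : X.Opens)
    (hdense : CInt.IsSchematicallyDense U) (x : X)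
    (hass : IsAssociatedPrime (IsLocalRing.maximalIdeal (X.presheaf.stalk x)) (X.presheaf.stalk x)) :
    x ∈ U := by
  by_contra hxU
  obtain ⟨_, ⟨W, hW, rfl⟩, hxW, -⟩ :=
    (X.isBasis_affineOpens).exists_subset_of_mem_open (Set.mem_univ x) isOpen_univ
  have : IsNoetherianRing Γ(X, W) := IsLocallyNoetherian.component_noetherian ⟨W, hW⟩
  have hq := isAssociatedPrime_primeIdealOf hW x hxW hass
  obtain ⟨hqp, a, ha⟩ := (isAssociatedPrime_iff).mp hq
  have ha0 : a ≠ 0 := by
    rintro rfl
    apply hqp.ne_top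
    rw [ha]
    simp
  apply ha0
  apply hdense W
  rw [map_zero]
  refine eq_zero_of_germ (W ⊓ U) _ fun y hy => ?_
  rw [TopCat.Presheaf.germ_res_apply]
  let := X.presheaf.algebra_section_stalk ⟨y, hy.1⟩
  have hloc := hW.isLocalization_stalk ⟨y, hy.1⟩
  -- find f ∈ q, f ∉ p_y
  have hnle : ¬ (hW.primeIdealOf ⟨x, hxW⟩).asIdeal ≤ (hW.primeIdealOf ⟨y, hy.1⟩).asIdeal := by
    intro hle
    have hsp : hW.primeIdealOf ⟨x, hxW⟩ ⤳ hW.primeIdealOf ⟨y, hy.1⟩ :=
      (PrimeSpectrum.le_iff_specializes _ _).mp hle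
    have hsp' := hsp.map hW.fromSpec.continuous
    rw [hW.fromSpec_primeIdealOf, hW.fromSpec_primeIdealOf] at hsp'
    exact hxU (hsp'.mem_open U.isOpen hy.2)
  obtain ⟨f, hfq, hfy⟩ := Set.not_subset.mp hnle
  have hfa : f * a = 0 := by
    have hfq' : f ∈ (⊥ : Submodule Γ(X, W) Γ(X, W)).colon {a} := ha ▸ hfq
    rw [Submodule.mem_colon_singleton, Submodule.mem_bot] at hfq'
    simpa using hfq'
  have hunit : IsUnit (algebraMap Γ(X, W) (X.presheaf.stalk y) f) :=
    IsLocalization.map_units (M := (hW.primeIdealOf ⟨y, hy.1⟩).asIdeal.primeCompl) _ ⟨f, hfy⟩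
  have : algebraMap Γ(X, W) (X.presheaf.stalk y) f * algebraMap Γ(X, W) (X.presheaf.stalk y) a = 0 := by
    rw [← map_mul, hfa, map_zero]
  exact (hunit.mul_right_eq_zero).mp this

/-- Let X be a locally Noetherian scheme, Y a closed subset and U = X − Y, with j : U → X the inclusion.
Then O_X → j_*O_U is injective — restriction of functions from every open V to V ∩ U is injective,
i.e. U is schematically dense in X — if and only if the local ring of X at every point of Y has
depth at least 1. -/
theorem result (X : Scheme.{u}) [IsLocallyNoetherian X] (U : X.Opens) :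
    CInt.IsSchematicallyDense U ↔
      ∀ x : ↥X, x ∉ U → (1 : ℕ∞) ≤ LocCoh.depth ↑(X.presheaf.stalk x) ↑(X.presheaf.stalk x) := by
  constructor
  · intro hdense x hxU
    rw [one_le_depth_iff]
    intro hass
    exact hxU (noAss_of_dense X U hdense x hass)
  · intro h
    apply dense_of_noAss
    intro x hass
    by_contra hxU
    exact (one_le_depth_iff _).mp (h x hxU) hass

end Groth.Agent.S5091
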