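import Groth.Statements.S5092
import Groth.Agent.Lib.Helper26.RegSections

set_option autoImplicit false
universe u
open CategoryTheory CategoryTheory.Limits AlgebraicGeometry TopologicalSpace
open Mero

namespace Groth.Agent.S5092

open Groth.Agent.Lib.helper26

/-- Suppose X and Y are schemes, both locally Noetherian, and f : X → Y is a morphism carrying each
associated point of O_X (that is, a point whose local ring has its maximal ideal among its
associated primes) to an associated point of O_Y. Then, given any open subset U of Y and any regular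
function s on U (one whose germ at each point of U is a non-zero-divisor), the function on f⁻¹(U)
obtained by pulling s back along f is again regular; as a result, every meromorphic function and
every divisor on Y admits a well-defined pullback along f. -/
theorem result {X Y : Scheme.{u}} [IsLocallyNoetherian X] [IsLocallyNoetherian Y]
    (f : X ⟶ Y)
    (hf : ∀ x : ↥X, IsAssociatedPrime (IsLocalRing.maximalIdeal ↑(X.presheaf.stalk x)) ↑(X.presheaf.stalk x) →
      IsAssociatedPrime (IsLocalRing.maximalIdeal ↑(Y.presheaf.stalk (f x))) ↑(Y.presheaf.stalk (f x))) :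
    ∀ (U : Y.Opens) (s : Γ(Y, U)), s ∈ Mero.regSub Y U → f.app U s ∈ Mero.regSub X (f ⁻¹ᵁ U) := by
  intro U s hs x
  by_contra hcon
  -- choose an affine open neighbourhood of x inside f⁻¹ U
  obtain ⟨_, ⟨W, hW, rfl⟩, hxW, hWU⟩ :=
    (X.isBasis_affineOpens).exists_subset_of_mem_open x.2 (f ⁻¹ᵁ U).isOpen
  have hWU' : W ≤ f ⁻¹ᵁ U := hWU
  set t : Γ(X, W) := X.presheaf.map (homOfLE hWU').op (f.app U s) with ht
  have hgerm : ∀ (z : X) (hz : z ∈ W), X.presheaf.germ W z hz t =
      X.presheaf.germ (f ⁻¹ᵁ U) z (hWU' hz) (f.app U s) := fun z hz => by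
    rw [ht, TopCat.Presheaf.germ_res_apply]
  have ht0 : X.presheaf.germ W x.1 hxW t ∉ nonZeroDivisors (X.presheaf.stalk x.1) := by
    rw [hgerm]; exact hcon
  obtain ⟨x', hx', hass, hmem⟩ := exists_assPoint_of_germ_zeroDivisor hW t x.1 hxW ht0
  have hfx' : f x' ∈ U := hWU' hx'
  have hassY := hf x' hass
  rw [hgerm, ← Scheme.Hom.germ_stalkMap_apply f U x' hfx'] at hmem
  -- the germ of s at f x' lies in the maximal ideal
  have hmemY : Y.presheaf.germ U (f x') hfx' s ∈
      IsLocalRing.maximalIdeal (Y.presheaf.stalk (f x')) := by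
    rw [IsLocalRing.mem_maximalIdeal, mem_nonunits_iff] at hmem ⊢
    exact fun hu => hmem (hu.map _)
  exact not_mem_nonZeroDivisors_of_mem_assPrime hassY hmemY (hs ⟨f x', hfx'⟩)

end Groth.Agent.S5092
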