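import Groth.Statements.S5093
import Groth.Agent.Lib.Helper26.MaxPoints

set_option autoImplicit false
universe u
open CategoryTheory CategoryTheory.Limits AlgebraicGeometry TopologicalSpace
open Mero

namespace Groth.Agent.S5093

open Groth.Agent.Lib.helper26

/-- Let f : X → Y be a morphism of schemes such that the set of irreducible components of Y is locally
finite, X is reduced, and every irreducible component of X dominates an irreducible component of Y
(f sends every maximal point of X, i.e. every point with no proper generization, to a maximal point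
of Y). Then for every open subset U of Y and every regular function s on U (germ a non-zero-divisor
at every point of U), the pulled-back function on f⁻¹(U) is regular; consequently the pullback along
f of every meromorphic function and of every divisor on Y is defined. -/
theorem result {X Y : Scheme.{u}} [IsReduced X] (f : X ⟶ Y)
    (hY : ∀ y : ↥Y, ∃ W : Y.Opens, y ∈ W ∧
      {Z : Set ↥Y | Z ∈ irreducibleComponents ↥Y ∧ (Z ∩ (W : Set ↥Y)).Nonempty}.Finite)
    (hf : ∀ ξ : ↥X, (∀ z : ↥X, z ⤳ ξ → z = ξ) → ∀ z : ↥Y, z ⤳ f ξ → z = f ξ) :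
    ∀ (U : Y.Opens) (s : Γ(Y, U)), s ∈ Mero.regSub Y U → f.app U s ∈ Mero.regSub X (f ⁻¹ᵁ U) := by
  intro U s hs x
  -- choose an affine open neighbourhood of x inside f⁻¹ U
  obtain ⟨_, ⟨W, hW, rfl⟩, hxW, hWU⟩ :=
    (X.isBasis_affineOpens).exists_subset_of_mem_open x.2 (f ⁻¹ᵁ U).isOpen
  have hWU' : W ≤ f ⁻¹ᵁ U := hWU
  set t : Γ(X, W) := X.presheaf.map (homOfLE hWU').op (f.app U s) with ht
  have hgerm : ∀ (z : X) (hz : z ∈ W), X.presheaf.germ W z hz t =
      X.presheaf.germ (f ⁻¹ᵁ U) z (hWU' hz) (f.app U s) := fun z hz => by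
    rw [ht, TopCat.Presheaf.germ_res_apply]
  -- t avoids all minimal primes
  have hmin : ∀ q ∈ minimalPrimes Γ(X, W), t ∉ q := by
    intro q hq
    have hqp : q.IsPrime := hq.1.1
    let y : PrimeSpectrum Γ(X, W) := ⟨q, hqp⟩
    have hyW : hW.fromSpec y ∈ W := fromSpec_mem hW y
    have hmax := isMaximalPoint_fromSpec_of_mem_minimalPrimes hW y hq
    have hmaxY := hf _ hmax
    have hfy : f (hW.fromSpec y) ∈ U := hWU' hyW
    have hunit : IsUnit (Y.presheaf.germ U (f (hW.fromSpec y)) hfy s) :=
      isUnit_of_mem_nonZeroDivisors_stalk_of_isMaximalPoint Y _ hmaxY (hs ⟨_, hfy⟩)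
    have hunit' : IsUnit (X.presheaf.germ W (hW.fromSpec y) hyW t) := by
      rw [hgerm, ← Scheme.Hom.germ_stalkMap_apply f U _ hfy]
      exact hunit.map _
    let _ := X.presheaf.algebra_section_stalk ⟨hW.fromSpec y, hyW⟩
    have : IsLocalization.AtPrime (X.presheaf.stalk (hW.fromSpec y)) q :=
      hW.isLocalization_stalk' y hyW
    exact (IsLocalization.AtPrime.isUnit_to_map_iff (X.presheaf.stalk (hW.fromSpec y)) q t).mp hunit'
  have htreg : t ∈ nonZeroDivisors Γ(X, W) := mem_nonZeroDivisors_of_forall_notMem_minimalPrimes hmin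
  let _ := X.presheaf.algebra_section_stalk ⟨x.1, hxW⟩
  have := hW.isLocalization_stalk ⟨x.1, hxW⟩
  have key : algebraMap Γ(X, W) (X.presheaf.stalk x.1) t ∈ nonZeroDivisors (X.presheaf.stalk x.1) :=
    IsLocalization.map_nonZeroDivisors_le (hW.primeIdealOf ⟨x.1, hxW⟩).asIdeal.primeCompl
      (X.presheaf.stalk x.1) (Submonoid.mem_map_of_mem _ htreg)
  have key' : X.presheaf.germ W x.1 hxW t ∈ nonZeroDivisors (X.presheaf.stalk x.1) := key
  rw [hgerm] at key'
  exact key'

end Groth.Agent.S5093
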