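import Groth.Statements.S5097
import Mathlib

set_option autoImplicit false
universe u
open CategoryTheory CategoryTheory.Limits AlgebraicGeometry TopologicalSpace
open Mero

namespace Groth.Agent.S5097

/-- The value at `y` of a unit of `Γ(U, K_X)`, as a unit of `K_{X,y}`. -/
noncomputable abbrev valU {X : Scheme.{u}} {U : X.Opens} (f : (Γ(Mero.kmod X, U))ˣ) (y : U) :
    (Mero.KStalk X y.1)ˣ :=
  Units.map (Mero.evalK X U y).toMonoidHom f

theorem valU_inv_coe {X : Scheme.{u}} {U : X.Opens} (f : (Γ(Mero.kmod X, U))ˣ) (y : U) :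
    ((↑(f⁻¹) : Γ(Mero.kmod X, U))).1 y = ((valU f y)⁻¹ : (Mero.KStalk X y.1)ˣ) := by
  rw [← map_inv]
  rfl

/-- If `D` is given by the unit `f` on `U`, then `f⁻¹` satisfies the condition defining `O_X(D)` on `U`. -/
theorem divCond_inv {X : Scheme.{u}} (D : Mero.Divisor X) {U : X.Opens} (f : (Γ(Mero.kmod X, U))ˣ)
    (hf : ∀ y : U, D.1 y.1 = Mero.germOf f y) (y : U) :
    Mero.DivCond D y.1 ((↑(f⁻¹) : Γ(Mero.kmod X, U)).1 y) := by
  intro g hg
  rw [hf y] at hg
  have hmem : (valU f y)⁻¹ * g ∈ Mero.stalkUnits X y.1 := QuotientGroup.eq.mp hg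
  obtain ⟨r, hr⟩ := hmem
  rw [valU_inv_coe]
  refine ⟨(r : X.presheaf.stalk y.1), ?_⟩
  have := congrArg (fun z : (Mero.KStalk X y.1)ˣ => (z : Mero.KStalk X y.1)) hr
  simpa using this

/-- Injectivity of the canonical homomorphism from divisors to invertible fractional ideals: let X be a
scheme and D, D' two divisors on X such that, over every open subset U, a section t of the sheaf of
meromorphic functions lies in O_X(D) (t_x · g ∈ O_{X,x} for a representative g of the germ of D at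
x, for all x in U) if and only if it lies in O_X(D'). Then D = D'. -/
theorem result (X : Scheme.{u}) (D D' : Mero.Divisor X)
    (h : ∀ (U : X.Opens) (t : Γ(Mero.kmod X, U)),
      (∀ x : ↥U, Mero.DivCond D x.1 (t.1 x)) ↔ (∀ x : ↥U, Mero.DivCond D' x.1 (t.1 x))) :
    D = D' := by
  refine Subtype.ext (funext fun x => ?_)
  obtain ⟨U, hxU, f, hf⟩ := D.2 x
  obtain ⟨U', hxU', f', hf'⟩ := D'.2 x
  -- f⁻¹ lies in O(D) on U, hence in O(D') on U
  have h1 := (h U ↑(f⁻¹)).mp (divCond_inv D f hf) ⟨x, hxU⟩ (valU f' ⟨x, hxU'⟩) (hf' ⟨x, hxU'⟩)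
  have h2 := (h U' ↑(f'⁻¹)).mpr (divCond_inv D' f' hf') ⟨x, hxU'⟩ (valU f ⟨x, hxU⟩) (hf ⟨x, hxU⟩)
  rw [valU_inv_coe] at h1 h2
  obtain ⟨r, hr⟩ := h1
  obtain ⟨r', hr'⟩ := h2
  dsimp only at hr hr'
  have hrr' : r * r' = 1 := by
    apply Mero.algebraMap_KStalk_injective x
    rw [map_mul, map_one, hr, hr']
    have e : ((valU f ⟨x, hxU⟩)⁻¹ * valU f' ⟨x, hxU'⟩) *
        ((valU f' ⟨x, hxU'⟩)⁻¹ * valU f ⟨x, hxU⟩) = 1 := by
      rw [mul_assoc, mul_inv_cancel_left, inv_mul_cancel]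
    have e' := congrArg Units.val e
    simpa only [Units.val_mul, Units.val_one] using e'
  have hru : IsUnit r := IsUnit.of_mul_eq_one _ hrr'
  rw [hf ⟨x, hxU⟩, hf' ⟨x, hxU'⟩]
  refine QuotientGroup.eq.mpr ?_
  refine ⟨hru.unit, ?_⟩
  apply Units.ext
  simpa using hr

end Groth.Agent.S5097
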