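import Groth.Statements.S5102
import Mathlib
import Groth.Agent.Lib.Helper18.GenTriv
import Groth.Agent.Lib.Helper18.InvGen
import Groth.Agent.Lib.Helper18.MeroDom
import Groth.Agent.Lib.Helper18.MeroExt
import Groth.Agent.Lib.Helper18.AbsCurveDiv
import Groth.Agent.Lib.Helper2.ModSec

set_option autoImplicit false
universe u
open CategoryTheory CategoryTheory.Limits AlgebraicGeometry TopologicalSpace
open Mero

namespace Groth.Agent.S5102

open Groth.Agent.Lib.Helper18 Opposite

variable {X : Scheme.{u}}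

theorem smul_eq_toK_mul {V : X.Opens} (r : Γ(X, V)) (k : Γ(Mero.kmod X, V)) :
    r • k = Mero.toK X V r * k := by
  apply Subtype.ext
  funext y
  show X.presheaf.germ V y.1 y.2 r • k.1 y =
    (LocalizedModule.mk (X.presheaf.germ V y.1 y.2 r) 1 : KStalk X y.1) * k.1 y
  induction k.1 y using LocalizedModule.induction_on with
  | h m s =>
    rw [LocalizedModule.smul'_mk]
    refine (Mero.mk_congr ?_ ?_).trans LocalizedModule.mk_mul_mk.symm
    · rfl
    · rw [one_mul]

theorem key {J : X.Modules} (ι : J ⟶ Mero.kmod X) {U V : X.Opens} (hV : V ≤ U) (g : Γ(J, U))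
    (r : Γ(X, V)) :
    ι.app V (r • J.presheaf.map (homOfLE hV).op g) =
      Mero.toK X V r * (Mero.kmod X).presheaf.map (homOfLE hV).op (ι.app U g) := by
  rw [Scheme.Modules.Hom.app_smul, smul_eq_toK_mul,
    Groth.Agent.Lib.helper2.ModSec.map_app_apply]

theorem toK_injective (V : X.Opens) : Function.Injective (Mero.toK X V) := by
  intro r r' h
  apply TopCat.Presheaf.section_ext X.sheaf V
  intro y hy
  have h1 := congrArg (fun t : Γ(Mero.kmod X, V) => t.1 ⟨y, hy⟩) h
  simp only [Mero.toK_apply] at h1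
  exact Mero.algebraMap_KStalk_injective y h1

theorem backward (J : X.Modules) (ι : J ⟶ Mero.kmod X) [Mono ι]
    (h : ∀ x : ↥X, ∃ (U : X.Opens) (_ : x ∈ U) (f : (Γ(Mero.kmod X, U))ˣ),
      ∀ (V : X.Opens) (hV : V ≤ U),
        Set.range ⇑(ι.val.app (Opposite.op V)) =
          {t : Γ(Mero.kmod X, V) | ∃ r : Γ(X, V),
            t = Mero.toK X V r * (Mero.kmod X).presheaf.map (homOfLE hV).op (f : Γ(Mero.kmod X, U))}) :
    PicF.IsInvertible J := by
  intro x
  obtain ⟨U, hxU, f, hf⟩ := h x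
  refine ⟨U, hxU, ?_⟩
  have hinj : ∀ V : X.Opens, Function.Injective (ι.app V) :=
    (Groth.Agent.Lib.helper2.ModSec.mono_iff_injective_app ι).mp inferInstance
  have h1 : (f : Γ(Mero.kmod X, U)) ∈ Set.range ⇑(ι.val.app (Opposite.op U)) := by
    rw [hf U le_rfl]
    refine ⟨1, ?_⟩
    rw [map_one, one_mul]
    have : (homOfLE (le_refl U)).op = 𝟙 (op U) := rfl
    rw [this, CategoryTheory.Functor.map_id]
    rfl
  obtain ⟨g, hg⟩ := h1
  have hg' : ι.app U g = (f : Γ(Mero.kmod X, U)) := hg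
  apply GenTriv.isTrivOn_of_forall_bijective J U g
  intro V hV
  have hunit : IsUnit ((Mero.kmod X).presheaf.map (homOfLE hV).op (f : Γ(Mero.kmod X, U))) := by
    exact (f.isUnit).map ((Mero.kring X).obj.map (homOfLE hV).op).hom
  constructor
  · intro r r' hrr'
    have h2 := congrArg (ι.app V) hrr'
    simp only at h2
    rw [key ι hV g r, key ι hV g r', hg'] at h2
    exact toK_injective V (hunit.mul_left_injective h2)
  · intro t
    have h3 : ι.app V t ∈ Set.range ⇑(ι.val.app (Opposite.op V)) := ⟨t, rfl⟩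
    rw [hf V hV] at h3
    obtain ⟨r, hr⟩ := h3
    refine ⟨r, hinj V ?_⟩
    simp only
    rw [key ι hV g r, hg']
    exact hr.symm

theorem forward (J : X.Modules) (ι : J ⟶ Mero.kmod X) [Mono ι] (hJ : PicF.IsInvertible J) (x : X) :
    ∃ (U : X.Opens) (_ : x ∈ U) (f : (Γ(Mero.kmod X, U))ˣ),
      ∀ (V : X.Opens) (hV : V ≤ U),
        Set.range ⇑(ι.val.app (Opposite.op V)) =
          {t : Γ(Mero.kmod X, V) | ∃ r : Γ(X, V),
            t = Mero.toK X V r * (Mero.kmod X).presheaf.map (homOfLE hV).op (f : Γ(Mero.kmod X, U))} := by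
  have hinj : ∀ V : X.Opens, Function.Injective (ι.app V) :=
    (Groth.Agent.Lib.helper2.ModSec.mono_iff_injective_app ι).mp inferInstance
  obtain ⟨W, ℓ, hW, hxW, -, hℓ⟩ := InvGen.exists_isGen hJ x ⊤ trivial
  obtain ⟨V₀, hxV₀, hV₀W, a, b, hab⟩ := MeroDom.local_frac' (ι.app W ℓ) x hxW
  obtain ⟨W', hW', hxW', hW'V₀⟩ := exists_isAffineOpen_mem_and_subset (x := x) (U := V₀) hxV₀
  have hW'W : W' ≤ W := hW'V₀.trans hV₀W
  have hb' : X.presheaf.map (homOfLE hW'V₀).op b.1 ∈ regSub X W' :=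
    Mero.regSub_res (homOfLE hW'V₀) b.2
  have hval : ∀ (y : X) (hy : y ∈ W'),
      (ι.app W' (J.presheaf.map (homOfLE hW'W).op ℓ)).1 ⟨y, hy⟩ =
        LocalizedModule.mk (X.presheaf.germ W' y hy (X.presheaf.map (homOfLE hW'V₀).op a))
          (regGerm ⟨y, hy⟩ ⟨_, hb'⟩) := by
    intro y hy
    rw [← Groth.Agent.Lib.helper2.ModSec.map_app_apply]
    show (ι.app W ℓ).1 ⟨y, _⟩ = _
    rw [hab y (hW'V₀ hy)]
    exact Mero.mk_congr (TopCat.Presheaf.germ_res_apply X.presheaf (homOfLE hW'V₀) y hy a).symm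
      (TopCat.Presheaf.germ_res_apply X.presheaf (homOfLE hW'V₀) y hy b.1).symm
  have ha' : X.presheaf.map (homOfLE hW'V₀).op a ∈ nonZeroDivisors Γ(X, W') := by
    rw [mem_nonZeroDivisors_iff_right]
    intro c hc
    have h0 : ι.app W' (c • J.presheaf.map (homOfLE hW'W).op ℓ) = 0 := by
      rw [Scheme.Modules.Hom.app_smul]
      apply Subtype.ext
      funext y
      show X.presheaf.germ W' y.1 y.2 c • (ι.app W' (J.presheaf.map (homOfLE hW'W).op ℓ)).1 y = 0
      rw [hval y.1 y.2, LocalizedModule.smul'_mk, smul_eq_mul, ← map_mul, hc, map_zero,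
        LocalizedModule.zero_mk]
    have h1 : c • J.presheaf.map (homOfLE hW'W).op ℓ = 0 := hinj W' (h0.trans (map_zero _).symm)
    exact hℓ.smul_injective hW'W c 0 (by rw [zero_smul]; exact h1)
  let f : (Γ(Mero.kmod X, W'))ˣ :=
    AbsCurveDiv.fracUnit ⟨_, MeroExt.mem_regSub_of_mem_nonZeroDivisors hW' _ ha'⟩ ⟨_, hb'⟩
  have hf : ι.app W' (J.presheaf.map (homOfLE hW'W).op ℓ) = (f : Γ(Mero.kmod X, W')) := by
    apply Subtype.ext
    funext y
    exact hval y.1 y.2
  refine ⟨W', hxW', f, fun V hV => ?_⟩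
  ext t
  constructor
  · rintro ⟨m, rfl⟩
    obtain ⟨r, hr⟩ := hℓ.exists_smul_eq (hV.trans hW'W) m
    refine ⟨r, ?_⟩
    show ι.app V m = _
    rw [← hr, ← InvGen.map_map J hW'W hV ℓ, key ι hV _ r, hf]
  · rintro ⟨r, rfl⟩
    refine ⟨r • J.presheaf.map (homOfLE hV).op (J.presheaf.map (homOfLE hW'W).op ℓ), ?_⟩
    show ι.app V _ = _
    rw [key ι hV _ r, hf]

/-- Let X be a scheme and J a fractional ideal, i.e. a sub-O_X-module of the sheaf of meromorphic
functions K_X (given by a monomorphism J → K_X). Then J is an invertible O_X-module if and only if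
every point of X has an open neighbourhood U together with a unit f of the ring Γ(U, K_X) such that
J|_U = O_U · f: over every open subset V of U, the sections of J are exactly the r · f|_V with r a
function on V. -/
theorem result (X : Scheme.{u}) (J : X.Modules)
    (ι : J ⟶ Mero.kmod X) [Mono ι] :
    PicF.IsInvertible J ↔ ∀ x : ↥X, ∃ (U : X.Opens) (_ : x ∈ U) (f : (Γ(Mero.kmod X, U))ˣ),
      ∀ (V : X.Opens) (hV : V ≤ U),
        Set.range ⇑(ι.val.app (Opposite.op V)) =
          {t : Γ(Mero.kmod X, V) | ∃ r : Γ(X, V),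
            t = Mero.toK X V r * (Mero.kmod X).presheaf.map (homOfLE hV).op (f : Γ(Mero.kmod X, U))} := by
  exact ⟨fun hJ x => forward J ι hJ x, fun h => backward J ι h⟩

end Groth.Agent.S5102
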