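import Groth.Statements.S5106
-- import your own Groth.Agent.* helpers here
import Groth.Agent.Lib.Helper9.LimSpecializes
import Mathlib.CategoryTheory.CofilteredSystem

set_option autoImplicit false
universe u
open CategoryTheory CategoryTheory.Limits AlgebraicGeometry TopologicalSpace
open Lim8

namespace Groth.Agent.S5106

open Groth.Agent.Lib.helper9

/-- Let (S_i) be a cofiltered system of schemes with affine transition morphisms and S its limit.
Suppose that every S_i has only finitely many maximal points (points with no proper generization,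
i.e. generic points of irreducible components) and that the transition morphisms send maximal points
to maximal points. Then the set of maximal points of S is the limit of the sets of maximal points of
the S_i: a point of S is maximal if and only if its image in every S_i is a maximal point of S_i. -/
theorem result {I : Type u} [SmallCategory I] [IsCofiltered I]
    (D : I ⥤ Scheme.{u}) (c : Limits.Cone D) (hc : Limits.IsLimit c)
    [∀ (i j : I) (g : i ⟶ j), IsAffineHom (D.map g)]
    (hfin : ∀ i : I, {s : ↥(D.obj i) | ∀ z : ↥(D.obj i), z ⤳ s → z = s}.Finite)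
    (hsys : ∀ (i j : I) (g : i ⟶ j) (s : ↥(D.obj i)), (∀ z : ↥(D.obj i), z ⤳ s → z = s) →
      ∀ z : ↥(D.obj j), z ⤳ D.map g s → z = D.map g s)
    (s : ↥c.pt) :
    (∀ z : ↥c.pt, z ⤳ s → z = s) ↔ ∀ (i : I) (z : ↥(D.obj i)), z ⤳ c.π.app i s → z = c.π.app i s := by
  classical
  constructor
  · intro hs i
    let G : ∀ j : I, Set ↥(D.obj j) := fun j =>
      {m | (∀ z : ↥(D.obj j), z ⤳ m → z = m) ∧ m ⤳ (c.π.app j).base s}
    have hGmap : ∀ {j j' : I} (g : j ⟶ j') (m : ↥(D.obj j)), m ∈ G j →
        (D.map g).base m ∈ G j' := by
      intro j j' g m hm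
      refine ⟨hsys j j' g m hm.1, ?_⟩
      have h1 := hm.2.map (D.map g).continuous
      have h2 : (D.map g).base ((c.π.app j).base s) = (c.π.app j').base s := by
        rw [← Scheme.Hom.comp_apply, c.w]
      rwa [h2] at h1
    let F : I ⥤ Type u :=
      { obj := fun j => ↥(G j)
        map := fun {j j'} g => TypeCat.ofHom (fun x : ↥(G j) =>
          (⟨(D.map g).base x.1, hGmap g x.1 x.2⟩ : ↥(G j')))
        map_id := fun j => by
          ext x
          show (D.map (𝟙 j)).base x.1 = x.1
          rw [D.map_id]
          rfl
        map_comp := fun {j j' j''} g g' => by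
          ext x
          show (D.map (g ≫ g')).base x.1 = (D.map g').base ((D.map g).base x.1)
          rw [D.map_comp]
          rfl }
    have hFfin : ∀ j, Finite (F.obj j) := fun j =>
      (((hfin j).subset (fun m (hm : m ∈ G j) => hm.1)).to_subtype : Finite ↥(G j))
    have hFne : ∀ j, Nonempty (F.obj j) := fun j => by
      obtain ⟨η, h1, h2⟩ := exists_maximal_generization ((c.π.app j).base s)
      exact ⟨(⟨η, h2, h1⟩ : ↥(G j))⟩
    obtain ⟨σ, hσ⟩ := nonempty_sections_of_finite_cofiltered_system F
    let τ : ∀ j : I, ↥(G j) := fun j => σ j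
    have hτ : ∀ {j j' : I} (g : j ⟶ j'), (D.map g).base (τ j).1 = (τ j').1 := fun g =>
      congrArg Subtype.val (hσ g)
    obtain ⟨m, hm⟩ := exists_point_of_compatible D c hc (fun j => (τ j).1) (fun g => hτ g)
    have hms : m ⤳ s := specializes_of_forall_π_app D c hc (fun j => by
      rw [hm j]; exact (τ j).2.2)
    have hmeq : m = s := hs m hms
    intro z hz
    have h3 : (c.π.app i).base s = (τ i).1 := by rw [← hmeq]; exact hm i
    rw [h3] at hz ⊢
    exact (τ i).2.1 z hz
  · intro h z hz
    refine eq_of_forall_π_app_eq D c hc (fun j => ?_)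
    exact h j _ (hz.map (c.π.app j).continuous)

end Groth.Agent.S5106
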