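import Groth.Statements.S5110
-- import your own Groth.Agent.* helpers here
import Groth.Agent.Lib.Helper9.MaxPoints
import Groth.Agent.S5106
import Mathlib.CategoryTheory.CofilteredSystem

set_option autoImplicit false
universe u
open CategoryTheory CategoryTheory.Limits AlgebraicGeometry TopologicalSpace
open Lim8

namespace Groth.Agent.S5110

open Groth.Agent.Lib.helper9

/-- Let (S_i) be a cofiltered system of schemes with affine transition morphisms and S its limit, such
that every S_i has finitely many maximal points and the transition morphisms send maximal points to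
maximal points; let S_{i₀} be quasi-compact and V₀ an open subset of S_{i₀}, with inverse images V_i
in the S_i over i₀ and V in S. If V₀ is dense in S_{i₀} then every V_i and V are dense. Conversely,
if V is dense in S and S has only finitely many maximal points, then V_i is dense in S_i for some i
over i₀. -/
theorem result {I : Type u} [SmallCategory I] [IsCofiltered I]
    (D : I ⥤ Scheme.{u}) (c : Limits.Cone D) (hc : Limits.IsLimit c)
    [∀ (i j : I) (g : i ⟶ j), IsAffineHom (D.map g)]
    (hfin : ∀ i : I, {s : ↥(D.obj i) | ∀ z : ↥(D.obj i), z ⤳ s → z = s}.Finite)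
    (hsys : ∀ (i j : I) (g : i ⟶ j) (s : ↥(D.obj i)), (∀ z : ↥(D.obj i), z ⤳ s → z = s) →
      ∀ z : ↥(D.obj j), z ⤳ D.map g s → z = D.map g s)
    (i₀ : I) [CompactSpace ↥(D.obj i₀)] (V₀ : (D.obj i₀).Opens) :
    (Dense (V₀ : Set ↥(D.obj i₀)) →
        (∀ (i : I) (g : i ⟶ i₀), Dense (((D.map g) ⁻¹ᵁ V₀ : (D.obj i).Opens) : Set ↥(D.obj i))) ∧
          Dense (((c.π.app i₀) ⁻¹ᵁ V₀ : c.pt.Opens) : Set ↥c.pt)) ∧
      (Dense (((c.π.app i₀) ⁻¹ᵁ V₀ : c.pt.Opens) : Set ↥c.pt) →
        {s : ↥c.pt | ∀ z : ↥c.pt, z ⤳ s → z = s}.Finite →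
          ∃ (i : I) (g : i ⟶ i₀), Dense (((D.map g) ⁻¹ᵁ V₀ : (D.obj i).Opens) : Set ↥(D.obj i))) := by
  classical
  -- maximal points of the limit map to maximal points
  have hmaxπ : ∀ s : ↥c.pt, (∀ z : ↥c.pt, z ⤳ s → z = s) →
      ∀ (i : I) (z : ↥(D.obj i)), z ⤳ (c.π.app i).base s → z = (c.π.app i).base s := fun s hs =>
    (Groth.Agent.S5106.result D c hc hfin hsys s).mp hs
  constructor
  · intro hd
    have hV₀ : ∀ η : ↥(D.obj i₀), (∀ z : ↥(D.obj i₀), z ⤳ η → z = η) → η ∈ V₀ := fun η hη =>
      maximal_mem_of_dense V₀.isOpen hd (hfin i₀) η hη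
    refine ⟨fun i g => dense_of_forall_maximal_mem fun η hη => ?_,
      dense_of_forall_maximal_mem fun η hη => ?_⟩
    · exact hV₀ _ (hsys i i₀ g η hη)
    · exact hV₀ _ (hmaxπ η hη i₀)
  · intro hd hfinS
    by_contra hcon
    push_neg at hcon
    -- the system of bad maximal points
    let G : ∀ j : Over i₀, Set ↥(D.obj j.left) := fun j =>
      {m | (∀ z : ↥(D.obj j.left), z ⤳ m → z = m) ∧ (D.map j.hom).base m ∉ V₀}
    have hGmap : ∀ {j j' : Over i₀} (g : j ⟶ j') (m : ↥(D.obj j.left)), m ∈ G j →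
        (D.map g.left).base m ∈ G j' := by
      intro j j' g m hm
      refine ⟨hsys _ _ g.left m hm.1, ?_⟩
      have h2 : (D.map j'.hom).base ((D.map g.left).base m) = (D.map j.hom).base m := by
        rw [← Scheme.Hom.comp_apply, ← D.map_comp, Over.w g]
      rw [h2]
      exact hm.2
    let F : Over i₀ ⥤ Type u :=
      { obj := fun j => ↥(G j)
        map := fun {j j'} g => TypeCat.ofHom (fun x : ↥(G j) =>
          (⟨(D.map g.left).base x.1, hGmap g x.1 x.2⟩ : ↥(G j')))
        map_id := fun j => by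
          ext x
          show (D.map (𝟙 j : j ⟶ j).left).base x.1 = x.1
          rw [Over.id_left, D.map_id]
          rfl
        map_comp := fun {j j' j''} g g' => by
          ext x
          show (D.map (g ≫ g').left).base x.1 = (D.map g'.left).base ((D.map g.left).base x.1)
          rw [Over.comp_left, D.map_comp]
          rfl }
    have hFfin : ∀ j, Finite (F.obj j) := fun j =>
      (((hfin j.left).subset (fun m (hm : m ∈ G j) => hm.1)).to_subtype : Finite ↥(G j))
    have hFne : ∀ j, Nonempty (F.obj j) := fun j => by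
      by_contra hne
      apply hcon j.left j.hom
      refine dense_of_forall_maximal_mem fun η hη => ?_
      by_contra hηV
      exact hne ⟨(⟨η, hη, hηV⟩ : ↥(G j))⟩
    obtain ⟨σ, hσ⟩ := nonempty_sections_of_finite_cofiltered_system F
    let τ : ∀ j : Over i₀, ↥(G j) := fun j => σ j
    have hτ : ∀ {j j' : Over i₀} (g : j ⟶ j'), (D.map g.left).base (τ j).1 = (τ j').1 := fun g =>
      congrArg Subtype.val (hσ g)
    -- the whiskered limit cone
    have hc' : Limits.IsLimit (c.whisker (Over.forget i₀)) :=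
      (Functor.Initial.isLimitWhiskerEquiv (Over.forget i₀) c).symm hc
    have hD' : ∀ (j j' : Over i₀) (g : j ⟶ j'), IsAffineHom ((Over.forget i₀ ⋙ D).map g) :=
      fun j j' g => (inferInstance : IsAffineHom (D.map g.left))
    obtain ⟨m, hm⟩ := exists_point_of_compatible (Over.forget i₀ ⋙ D) (c.whisker (Over.forget i₀))
      hc' (fun j => (τ j).1) (fun g => hτ g)
    have hm' : ∀ j : Over i₀, (c.π.app j.left).base m = (τ j).1 := hm
    -- `m` is a maximal point of the limit
    have hmmax : ∀ z : ↥c.pt, z ⤳ m → z = m := by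
      refine (Groth.Agent.S5106.result D c hc hfin hsys m).mpr fun i => ?_
      have h1 : (c.π.app (IsCofiltered.min i i₀) ≫ D.map (IsCofiltered.minToLeft i i₀)).base m =
          (D.map (IsCofiltered.minToLeft i i₀)).base
            (τ (Over.mk (IsCofiltered.minToRight i i₀))).1 := by
        rw [Scheme.Hom.comp_apply]
        exact congrArg _ (hm' (Over.mk (IsCofiltered.minToRight i i₀)))
      rw [c.w] at h1
      rw [h1]
      exact hsys _ _ _ _ (τ (Over.mk (IsCofiltered.minToRight i i₀))).2.1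
    have hmV : m ∈ (c.π.app i₀ ⁻¹ᵁ V₀ : c.pt.Opens) :=
      maximal_mem_of_dense (c.π.app i₀ ⁻¹ᵁ V₀).isOpen hd hfinS m hmmax
    have h2 := (τ (Over.mk (𝟙 i₀))).2.2
    apply h2
    have h3 : (c.π.app i₀).base m = (τ (Over.mk (𝟙 i₀))).1 := hm' (Over.mk (𝟙 i₀))
    show (D.map (𝟙 i₀)).base (τ (Over.mk (𝟙 i₀))).1 ∈ V₀
    rw [D.map_id, ← h3]
    exact hmV

end Groth.Agent.S5110
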