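import Groth.Statements.S5113
import Mathlib
-- import your own Groth.Agent.* helpers here

set_option autoImplicit false
universe u
open SGA1

namespace Groth.Agent.S5113

open AlgebraicGeometry CategoryTheory CategoryTheory.Limits in
/-- Let g : S' ⟶ S be submersive, i.e. surjective and making S a topological quotient of S'. Then the
sequence of sets of open subsets Ouv(S) → Ouv(S') ⇉ Ouv(S' ×_S S') (inverse images along g and along
the two projections) is exact: an open subset U' of S' whose inverse images under the two
projections of S' ×_S S' agree is the inverse image of one and only one open subset of S. -/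
theorem result {S' S : Scheme.{u}} (g : S' ⟶ S)
    (hg : Topology.IsQuotientMap g.base) (U' : S'.Opens)
    (h : (pullback.fst g g) ⁻¹ᵁ U' = (pullback.snd g g) ⁻¹ᵁ U') :
    ∃! U : S.Opens, g ⁻¹ᵁ U = U' := by
  have hsat : g.base ⁻¹' (g.base '' (U' : Set S')) = (U' : Set S') := by
    apply Set.Subset.antisymm
    · rintro s' ⟨u', hu', hgu⟩
      obtain ⟨z, hz1, hz2⟩ := Scheme.Pullback.exists_preimage_pullback (f := g) (g := g) u' s' hgu
      have hz : z ∈ (pullback.fst g g) ⁻¹ᵁ U' := by
        show (pullback.fst g g).base z ∈ U'
        rw [hz1]; exact hu'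
      rw [h] at hz
      have : (pullback.snd g g).base z ∈ U' := hz
      rw [hz2] at this
      exact this
    · exact Set.subset_preimage_image _ _
  have hopen : IsOpen (g.base '' (U' : Set S')) := by
    rw [← hg.isOpen_preimage, hsat]
    exact U'.2
  refine ⟨⟨g.base '' (U' : Set S'), hopen⟩, ?_, ?_⟩
  · ext s'
    show s' ∈ g.base ⁻¹' (g.base '' (U' : Set S')) ↔ s' ∈ (U' : Set S')
    rw [hsat]
  · intro V hV
    ext s
    obtain ⟨s', rfl⟩ := hg.surjective s
    constructor
    · intro hs
      have : s' ∈ g ⁻¹ᵁ V := hs
      rw [hV] at this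
      exact ⟨s', this, rfl⟩
    · rintro ⟨u', hu', hgu⟩
      have : u' ∈ g ⁻¹ᵁ V := by rw [hV]; exact hu'
      have h2 : g.base u' ∈ V := this
      rw [hgu] at h2
      exact h2

end Groth.Agent.S5113
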