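import Groth.Statements.S5114
import Mathlib
import Groth.Agent.Lib.Helper11.HensSplit2
import Groth.Agent.Lib.Helper2.SigmaFin
-- import your own Groth.Agent.* helpers here

set_option autoImplicit false
universe u
open SGA1

namespace Groth.Agent.S5114

open AlgebraicGeometry CategoryTheory CategoryTheory.Limits

/-- (copy of helper2's lemma) -/
theorem univSubmersive_of_finite_surjective {X Y : Scheme.{u}} (f : X ⟶ Y) [IsFinite f]
    [Surjective f] : SGA1.UnivSubmersive f := by
  intro X' Y' i₁ i₂ f' h
  haveI : IsFinite f' := MorphismProperty.of_isPullback h.flip ‹IsFinite f›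
  haveI : Surjective f' := MorphismProperty.of_isPullback h.flip ‹Surjective f›
  exact f'.isClosedMap.isQuotientMap f'.continuous f'.surjective

/-- (copy of helper9's lemma) If `h ≫ g` is universally submersive then so is `g`. -/
theorem univSubmersive_of_comp {W X Y : Scheme.{u}} (h : W ⟶ X) (g : X ⟶ Y)
    (H : SGA1.UnivSubmersive (h ≫ g)) : SGA1.UnivSubmersive g := by
  intro X' Y' i₁ i₂ g' sq
  have sq2 : IsPullback (pullback.snd h i₁) (pullback.fst h i₁) i₁ h :=
    (IsPullback.of_hasPullback h i₁).flip
  have sq3 : IsPullback (pullback.snd h i₁ ≫ g') (pullback.fst h i₁) i₂ (h ≫ g) :=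
    sq2.paste_horiz sq
  have hq := H _ _ _ sq3
  have hq' : Topology.IsQuotientMap (g' ∘ (pullback.snd h i₁)) := by
    have : ⇑(pullback.snd h i₁ ≫ g') = g' ∘ (pullback.snd h i₁) := by
      ext w
      simp
    rw [← this]
    exact hq
  exact Topology.IsQuotientMap.of_comp (pullback.snd h i₁).continuous g'.continuous hq'

/-- the morphism is locally quasi-finite -/
theorem locallyQuasiFinite_of_specializes {X Y : Scheme.{u}} (g : X ⟶ Y) [LocallyOfFiniteType g]
    (y : Y) (hfin : (g ⁻¹' {y}).Finite) (hsp : ∀ t : X, ∃ s' : X, g s' = y ∧ t ⤳ s') :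
    LocallyQuasiFinite g := by
  rw [← Scheme.Hom.quasiFiniteLocus_eq_top_iff]
  ext t
  simp only [TopologicalSpace.Opens.coe_top, Set.mem_univ, iff_true]
  obtain ⟨s', hs', hts'⟩ := hsp t
  have h1 : s' ∈ g.quasiFiniteLocus := by
    rw [Scheme.Hom.mem_quasiFiniteLocus]
    subst hs'
    have : Finite (g.fiber (g s')) := (g.fiberHomeo (g s')).finite_iff.mpr hfin
    exact Scheme.Hom.quasiFiniteAt_iff_isOpen_singleton_asFiber.mpr (isOpen_discrete _)
  exact hts'.mem_open g.quasiFiniteLocus.isOpen h1

theorem main (A : Type u) [CommRing A]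
    [IsNoetherianRing A] [IsLocalRing A] [IsAdicComplete (IsLocalRing.maximalIdeal A) A]
    {S' : Scheme.{u}} (g : S' ⟶ Spec (CommRingCat.of A)) [LocallyOfFiniteType g] [QuasiCompact g]
    [Surjective g]
    (hfin : (g.base ⁻¹' {IsLocalRing.closedPoint A}).Finite)
    (hsp : ∀ t : S', ∃ s' : S', g.base s' = IsLocalRing.closedPoint A ∧ t ⤳ s') :
    SGA1.UnivSubmersive g := by
  classical
  haveI hH : HenselianRing A (IsLocalRing.maximalIdeal A) := inferInstance
  haveI : HenselianLocalRing A :=
    { is_henselian := fun f hf a₀ h₁ h₂ =>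
        hH.is_henselian f hf a₀ h₁ (h₂.map (Ideal.Quotient.mk _)) }
  haveI : LocallyQuasiFinite g := locallyQuasiFinite_of_specializes g _ hfin hsp
  -- index type
  let κ : Type u := ↥(g.base ⁻¹' {IsLocalRing.closedPoint A})
  haveI : Finite κ := hfin
  -- affine neighbourhoods
  have hU : ∀ k : κ, ∃ U : S'.Opens, IsAffineOpen U ∧ k.1 ∈ U := fun k => by
    obtain ⟨_, ⟨U, hU, rfl⟩, hkU, -⟩ := S'.isBasis_affineOpens.exists_subset_of_mem_open
      (Set.mem_univ k.1) isOpen_univ
    exact ⟨U, hU, hkU⟩
  choose U hUaff hkU using hU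
  -- finite parts
  have hW : ∀ k : κ, ∃ W : (U k).toScheme.Opens, IsClosed (W : Set (U k).toScheme) ∧
      IsFinite (W.ι ≫ (U k).ι ≫ g) ∧
      ∀ x : (U k).toScheme, ((U k).ι ≫ g).base x = IsLocalRing.closedPoint A → x ∈ W := fun k => by
    haveI : IsAffine (U k).toScheme := hUaff k
    haveI : IsSeparated ((U k).ι ≫ g) := inferInstance
    haveI : QuasiCompact ((U k).ι ≫ g) := inferInstance
    obtain ⟨W, hW, -⟩ :=
      Groth.Agent.Lib.helper11.HensSplit.existsUnique_finite_part A ((U k).ι ≫ g)
    exact ⟨W, hW⟩
  choose W hWcl hWfin hWmem using hW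
  -- the coproduct
  let q : ∀ k : κ, (W k).toScheme ⟶ S' := fun k => (W k).ι ≫ (U k).ι
  haveI hfinite : IsFinite (Sigma.desc q ≫ g) := by
    have : Sigma.desc q ≫ g = Sigma.desc (fun k => q k ≫ g) := by
      apply Sigma.hom_ext
      intro k
      simp
    rw [this]
    exact Groth.Agent.Lib.helper2.QuotLib.isFinite_sigmaDesc κ _ _
      (fun k => by simpa [q] using hWfin k)
  haveI hsurj : Surjective (Sigma.desc q ≫ g) := by
    haveI : Surjective (Sigma.desc q) := by
      constructor
      intro t
      obtain ⟨s', hs', hts'⟩ := hsp t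
      let k : κ := ⟨s', hs'⟩
      have htU : t ∈ U k := hts'.mem_open (U k).isOpen (hkU k)
      have hsW : (⟨s', hkU k⟩ : (U k).toScheme) ∈ W k := hWmem k _ (by
        have : ((U k).ι ≫ g).base ⟨s', hkU k⟩ = g.base s' := rfl
        rw [this]
        exact hs')
      have htW : (⟨t, htU⟩ : (U k).toScheme) ∈ W k := by
        have : (⟨t, htU⟩ : (U k).toScheme) ⤳ ⟨s', hkU k⟩ := (subtype_specializes_iff _ _).mpr hts'
        exact this.mem_open (W k).isOpen hsW
      refine ⟨(Sigma.ι (fun k => (W k).toScheme) k) ⟨⟨t, htU⟩, htW⟩, ?_⟩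
      rw [← Scheme.Hom.comp_apply, Sigma.ι_desc]
      rfl
    infer_instance
  exact univSubmersive_of_comp (Sigma.desc q) g (univSubmersive_of_finite_surjective _)


open AlgebraicGeometry CategoryTheory CategoryTheory.Limits in
/-- Let A be a complete Noetherian local ring, S = Spec A, and g : S' ⟶ S a surjective morphism of
finite type whose fibre over the closed point s is finite. If every point of S' specialises to some
point of the fibre over s (equivalently: the disjoint union of the spectra of the local rings of S'
at the points over s maps onto S'), then g is universally submersive. (The published statement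
asserts an equivalence and does not mention surjectivity of g; the converse fails: for A a complete
discrete valuation ring with fraction field K, S' = S ⊔ Spec K ⟶ S has a section, hence is
universally submersive, while the isolated point Spec K specialises to no point over s. This row
states the implication the published proof establishes, with the surjectivity it uses.) -/
theorem result (A : Type u) [CommRing A]
    [IsNoetherianRing A] [IsLocalRing A] [IsAdicComplete (IsLocalRing.maximalIdeal A) A]
    {S' : Scheme.{u}} (g : S' ⟶ Spec (CommRingCat.of A)) [LocallyOfFiniteType g] [QuasiCompact g]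
    [Surjective g]
    (hfin : (g.base ⁻¹' {IsLocalRing.closedPoint A}).Finite)
    (hsp : ∀ t : S', ∃ s' : S', g.base s' = IsLocalRing.closedPoint A ∧ t ⤳ s') :
    SGA1.UnivSubmersive g := by
  exact main A g hfin hsp

end Groth.Agent.S5114
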