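import Groth.Statements.S5117
import Groth.Agent.Lib.Helper14.QuotDesc2
import Groth.Agent.Lib.Helper14.GalDesc3
import Groth.Agent.Lib.Helper3.GeomConnPt

set_option autoImplicit false
universe u
open Pi1

namespace Groth.Agent.S5117

open AlgebraicGeometry CategoryTheory CategoryTheory.Limits in
/-- (ii bis) ⇒ (i), over a field. Let k be a field with algebraic closure k̄, X a quasi-compact and
quasi-separated k-scheme such that X ×_k k̄ is connected, and X' a connected finite etale cover of
X. If the induced cover X' ×_k k̄ → X ×_k k̄ admits a section, then X' is isomorphic over X to X ×_k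
S' for some finite etale k-scheme S'. (The published statement allows the spectrum of an Artinian
local ring with residue field k as base and asks only that X be quasi-compact; this row takes a
field and X quasi-compact and quasi-separated.) -/
theorem result (k : Type u) [Field k] {X : Scheme.{u}}
    (f : X ⟶ Spec (CommRingCat.of k)) [CompactSpace X] [QuasiSeparatedSpace X]
    [ConnectedSpace ↥(pullback f (Spec.map (CommRingCat.ofHom (algebraMap k (AlgebraicClosure k)))))]
    (X' : FEt.Cat X) [ConnectedSpace X'.left]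
    (σ : pullback f (Spec.map (CommRingCat.ofHom (algebraMap k (AlgebraicClosure k)))) ⟶ X'.left)
    (hσ : σ ≫ X'.hom = pullback.fst f (Spec.map (CommRingCat.ofHom (algebraMap k (AlgebraicClosure k))))) :
    ∃ S' : FEt.Cat (Spec (CommRingCat.of k)), Nonempty ((FEt.restrict f).obj S' ≅ X') := by
  classical
  have hgc : AlgebraicGeometry.GeometricallyConnected f :=
    Groth.Agent.Lib.helper3.GeomConnPt.geometricallyConnected_of_gbar f inferInstance
  haveI : AlgebraicGeometry.Etale X'.hom := X'.prop.2
  haveI : AlgebraicGeometry.IsFinite X'.hom := X'.prop.1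
  obtain ⟨s, g₀, hg₀1, hg₀2⟩ :=
    Groth.Agent.Lib.Helper14.GalDesc.exists_finite_level k f X'.hom σ hσ
  obtain ⟨hA1, hA2⟩ := Groth.Agent.Lib.Helper14.GalDesc.etale_adjoin_of_isSeparable k
    (Groth.Agent.Lib.Helper14.GalDesc.Ks k) s
  have hs₁ : FEt.prop.{u} (Groth.Agent.Lib.helper5.FGLimit.pS k
      (Groth.Agent.Lib.Helper14.GalDesc.Ks k) (𝟙 _) s) := by
    unfold Groth.Agent.Lib.helper5.FGLimit.pS
    rw [CategoryTheory.Category.comp_id]
    refine ⟨?_, ?_⟩
    · rw [AlgebraicGeometry.IsFinite.SpecMap_iff]
      exact RingHom.finite_algebraMap.mpr hA2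
    · rw [AlgebraicGeometry.HasRingHomProperty.Spec_iff (P := @AlgebraicGeometry.Etale)]
      exact RingHom.etale_algebraMap.mpr hA1
  let S₁ : FEt.Cat (AlgebraicGeometry.Spec (CommRingCat.of k)) :=
    CategoryTheory.MorphismProperty.Over.mk ⊤ (Groth.Agent.Lib.helper5.FGLimit.pS k
      (Groth.Agent.Lib.Helper14.GalDesc.Ks k) (𝟙 _) s) hs₁
  let g₁ : CategoryTheory.Limits.pullback S₁.hom f ⟶ X'.left :=
    (CategoryTheory.Limits.pullbackSymmetry S₁.hom f).hom ≫ g₀
  have hg₁ : g₁ ≫ X'.hom = CategoryTheory.Limits.pullback.snd S₁.hom f := by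
    exact (CategoryTheory.Category.assoc _ _ _).trans ((congrArg (_ ≫ ·) hg₀1).trans
      (CategoryTheory.Limits.pullbackSymmetry_hom_comp_fst _ _))
  let g : (FEt.restrict f).obj S₁ ⟶ X' := CategoryTheory.MorphismProperty.Over.homMk g₁ hg₁ trivial
  have hgp := Groth.Agent.Lib.helper14.QuotDesc.prop_left g
  haveI : AlgebraicGeometry.IsFinite g.left := hgp.1
  haveI : AlgebraicGeometry.Etale g.left := hgp.2
  have hsurj : Function.Surjective g.left := by
    rw [← Set.range_eq_univ]
    have hclopen : IsClopen (Set.range g.left) :=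
      ⟨g.left.isClosedMap.isClosed_range, g.left.isOpenMap.isOpen_range⟩
    have hne : (Set.range g.left).Nonempty := by
      obtain ⟨x⟩ : Nonempty ↥(CategoryTheory.Limits.pullback f (AlgebraicGeometry.Spec.map
        (CommRingCat.ofHom (algebraMap k (AlgebraicClosure k))))) := inferInstance
      have h0 : g₀ = (CategoryTheory.Limits.pullbackSymmetry S₁.hom f).inv ≫ g₁ :=
        (CategoryTheory.Iso.inv_hom_id_assoc _ _).symm
      refine ⟨σ x, ?_⟩
      rw [← hg₀2, AlgebraicGeometry.Scheme.Hom.comp_apply, AlgebraicGeometry.Scheme.Hom.comp_apply,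
        h0]
      exact ⟨(CategoryTheory.Limits.pullbackSymmetry S₁.hom f).inv _, rfl⟩
    exact hclopen.eq_univ hne
  exact Groth.Agent.Lib.helper14.QuotDesc.exists_of_surjective k f S₁ X' g hsurj

end Groth.Agent.S5117
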