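import Groth.Statements.S5118
import Mathlib

set_option autoImplicit false
universe u
open SGA1t

namespace Groth.Agent.S5118

open Polynomial in
lemma one_add_eps_pow {R : Type*} [CommRing R] (k : ℕ) :
    (1 + DualNumber.eps : DualNumber R) ^ k = 1 + (k : DualNumber R) * DualNumber.eps := by
  induction k with
  | zero => simp
  | succ k ih =>
    rw [pow_succ, ih]
    have : (1 + (k : DualNumber R) * DualNumber.eps) * (1 + DualNumber.eps) =
        1 + ((k + 1 : ℕ) : DualNumber R) * DualNumber.eps +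
          (k : DualNumber R) * (DualNumber.eps * DualNumber.eps) := by
      push_cast; ring
    rw [this, DualNumber.eps_mul_eps, mul_zero, add_zero]

open Polynomial in
lemma isUnit_of_formallyUnramified (A : Type u) [CommRing A] (n : ℕ)
    [Algebra.FormallyUnramified A (AdjoinRoot ((X : A[X]) ^ n - 1))] : IsUnit ((n : ℕ) : A) := by
  have hI : (Ideal.span {(DualNumber.eps : DualNumber (A ⧸ Ideal.span {(n : A)}))}) ^ 2 = ⊥ := by
    rw [Ideal.span_singleton_pow, DualNumber.eps_pow_two, Ideal.span_singleton_eq_bot]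
  have hn0' : ((n : ℕ) : A ⧸ Ideal.span {(n : A)}) = 0 := by
    rw [← map_natCast (Ideal.Quotient.mk (Ideal.span {(n : A)})),
      Ideal.Quotient.eq_zero_iff_mem]
    exact Ideal.subset_span rfl
  have hn0 : ((n : ℕ) : DualNumber (A ⧸ Ideal.span {(n : A)})) = 0 := by
    rw [← map_natCast (algebraMap (A ⧸ Ideal.span {(n : A)})
      (DualNumber (A ⧸ Ideal.span {(n : A)}))), hn0', map_zero]
  have h1 : Polynomial.eval₂ ((Algebra.ofId A (DualNumber (A ⧸ Ideal.span {(n : A)})) :
        A →ₐ[A] _) : A →+* _)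
      (1 : DualNumber (A ⧸ Ideal.span {(n : A)})) ((X : A[X]) ^ n - 1) = 0 := by
    simp [Polynomial.eval₂_sub, Polynomial.eval₂_pow]
  have h2 : Polynomial.eval₂ ((Algebra.ofId A (DualNumber (A ⧸ Ideal.span {(n : A)})) :
        A →ₐ[A] _) : A →+* _)
      (1 + DualNumber.eps : DualNumber (A ⧸ Ideal.span {(n : A)})) ((X : A[X]) ^ n - 1) = 0 := by
    simp [Polynomial.eval₂_sub, Polynomial.eval₂_pow, one_add_eps_pow, hn0]
  have heq : (Ideal.Quotient.mkₐ A (Ideal.span
        {(DualNumber.eps : DualNumber (A ⧸ Ideal.span {(n : A)}))})).comp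
      (AdjoinRoot.liftAlgHom ((X : A[X]) ^ n - 1) (Algebra.ofId A _) 1 h1) =
      (Ideal.Quotient.mkₐ A (Ideal.span
        {(DualNumber.eps : DualNumber (A ⧸ Ideal.span {(n : A)}))})).comp
      (AdjoinRoot.liftAlgHom ((X : A[X]) ^ n - 1) (Algebra.ofId A _) (1 + DualNumber.eps) h2) := by
    apply AdjoinRoot.algHom_ext
    rw [AlgHom.comp_apply, AlgHom.comp_apply, AdjoinRoot.liftAlgHom_root,
      AdjoinRoot.liftAlgHom_root, Ideal.Quotient.mkₐ_eq_mk, Ideal.Quotient.eq]
    rw [sub_add_cancel_left]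
    exact neg_mem (Ideal.subset_span rfl)
  have h12 := Algebra.FormallyUnramified.comp_injective _ hI heq
  have h3 := congrArg (fun g => g (AdjoinRoot.root _)) h12
  simp only [AdjoinRoot.liftAlgHom_root] at h3
  have h4 : (DualNumber.eps : DualNumber (A ⧸ Ideal.span {(n : A)})) = 0 := by
    have := congrArg (fun z => z - 1) h3
    simpa using this.symm
  have h5 := congrArg TrivSqZeroExt.snd h4
  rw [DualNumber.snd_eps, TrivSqZeroExt.snd_zero] at h5
  have h6 : (1 : A) ∈ Ideal.span {(n : A)} := by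
    rw [← Ideal.Quotient.eq_zero_iff_mem, map_one]; exact h5
  rw [← Ideal.eq_top_iff_one, Ideal.span_singleton_eq_top] at h6
  exact h6



open Polynomial in
lemma etale_of_isUnit (A : Type u) [CommRing A] (n : ℕ) (hn : 1 ≤ n) (hu : IsUnit ((n : ℕ) : A)) :
    Algebra.Etale A (AdjoinRoot ((X : A[X]) ^ n - 1)) := by
  obtain ⟨u, hu⟩ := hu
  have hmonic : ((X : A[X]) ^ n - 1).Monic := by
    simpa using monic_X_pow_sub_C (1 : A) (by omega : n ≠ 0)
  have hcond : derivative ((X : A[X]) ^ n - 1) * (C (↑u⁻¹ : A) * X) +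
      ((X : A[X]) ^ n - 1) * (-1) = 1 ^ 0 := by
    obtain ⟨m, rfl⟩ : ∃ m, n = m + 1 := ⟨n - 1, by omega⟩
    have h1 : (C ((m + 1 : ℕ) : A) : A[X]) * C (↑u⁻¹ : A) = 1 := by
      rw [← C_mul, ← hu, Units.mul_inv, C_1]
    simp only [derivative_sub, derivative_X_pow, derivative_one, sub_zero, pow_zero,
      Nat.add_sub_cancel]
    calc C ((m + 1 : ℕ) : A) * X ^ m * (C (↑u⁻¹ : A) * X) + (X ^ (m + 1) - 1) * (-1)
        = (C ((m + 1 : ℕ) : A) * C (↑u⁻¹ : A)) * X ^ (m + 1) - (X ^ (m + 1) - 1) := by ring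
      _ = 1 := by rw [h1]; ring
  let P : StandardEtalePair A :=
    { f := (X : A[X]) ^ n - 1
      monic_f := hmonic
      g := 1
      cond := ⟨C (↑u⁻¹ : A) * X, -1, 0, hcond⟩ }
  have hmap : P.HasMap (AdjoinRoot.root ((X : A[X]) ^ n - 1)) := by
    refine ⟨?_, ?_⟩
    · change aeval (AdjoinRoot.root ((X : A[X]) ^ n - 1)) ((X : A[X]) ^ n - 1) = 0
      rw [AdjoinRoot.aeval_eq, AdjoinRoot.mk_self]
    · change IsUnit (aeval (AdjoinRoot.root ((X : A[X]) ^ n - 1)) (1 : A[X]))
      simp
  have hX : eval₂ ((Algebra.ofId A P.Ring : A →ₐ[A] P.Ring) : A →+* P.Ring) P.X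
      ((X : A[X]) ^ n - 1) = 0 := by
    have h := StandardEtalePair.hasMap_X (P := P)
    unfold StandardEtalePair.HasMap at h
    obtain ⟨h, -⟩ := h
    rw [aeval_def] at h
    exact h
  let e : P.Ring ≃ₐ[A] AdjoinRoot ((X : A[X]) ^ n - 1) :=
    AlgEquiv.ofAlgHom (P.lift _ hmap)
      (AdjoinRoot.liftAlgHom _ (Algebra.ofId A _) P.X hX)
      (by
        apply AdjoinRoot.algHom_ext
        rw [AlgHom.comp_apply, AdjoinRoot.liftAlgHom_root, StandardEtalePair.lift_X]
        rfl)
      (by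
        apply StandardEtalePair.hom_ext
        rw [AlgHom.comp_apply, StandardEtalePair.lift_X, AdjoinRoot.liftAlgHom_root]
        rfl)
  exact Algebra.Etale.of_equiv e

open Polynomial in
/-- The etaleness criterion for the Kummer group scheme: Let A be a commutative ring and n ≥ 1. The
group scheme μ_n over Spec A is the spectrum of A[t]/(t^n − 1), a free A-module of rank n; it is
etale over A if and only if n is a unit of A (equivalently, n is prime to the characteristic of the
residue field at every point of Spec A). -/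
theorem result (A : Type u) [CommRing A] (n : ℕ) (hn : 1 ≤ n) :
    Algebra.Etale A (AdjoinRoot ((X : A[X]) ^ n - 1)) ↔ IsUnit ((n : ℕ) : A) := by
  constructor
  · intro hE
    exact isUnit_of_formallyUnramified A n
  · intro hu
    exact etale_of_isUnit A n hn hu

end Groth.Agent.S5118
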