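import Groth.Statements.S5119
import Mathlib

set_option autoImplicit false
universe u
open scoped LaurentPolynomial
open SGA1t

namespace Groth.Agent.S5119

lemma coeff_term (A : Type*) [CommRing A] (n : ℕ) (c : A[T;T⁻¹]) (i : ℕ) (m : ℤ) :
    ((AddMonoidAlgebra.mapDomainRingHom A (AddMonoidHom.mulLeft (n : ℤ)) c : A[T;T⁻¹]) *
      LaurentPolynomial.T (i : ℤ)).coeff m
     = (Finsupp.mapDomain (fun k : ℤ => (n:ℤ) * k) c.coeff) (m - i) := by
  rw [LaurentPolynomial.T, AddMonoidAlgebra.coeff_mul_single_apply]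
  simp [sub_eq_add_neg]

lemma mul_injective (n : ℕ) (hn : 1 ≤ n) : Function.Injective (fun k : ℤ => (n:ℤ) * k) := by
  intro a b h
  have hn' : (n : ℤ) ≠ 0 := by exact_mod_cast (by omega : n ≠ 0)
  exact mul_left_cancel₀ hn' h

lemma key (A : Type*) [CommRing A] (n : ℕ) (hn : 1 ≤ n) (c : Fin n → A[T;T⁻¹]) (j : ℤ)
    (i' : Fin n) :
    (∑ i : Fin n, (AddMonoidAlgebra.mapDomainRingHom A (AddMonoidHom.mulLeft (n : ℤ)) :
        A[T;T⁻¹] →+* A[T;T⁻¹]) (c i) *
        LaurentPolynomial.T (i : ℤ)).coeff ((n : ℤ) * j + (i' : ℕ)) = (c i').coeff j := by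
  have hinj := mul_injective n hn
  rw [AddMonoidAlgebra.coeff_sum, Finsupp.finsetSum_apply]
  rw [Finset.sum_eq_single i']
  · rw [coeff_term]
    have : (n : ℤ) * j + ((i' : ℕ) : ℤ) - ((i' : ℕ) : ℤ) = (fun k : ℤ => (n:ℤ) * k) j := by
      simp
    rw [this, Finsupp.mapDomain_apply hinj]
  · intro i _ hne
    rw [coeff_term]
    apply Finsupp.mapDomain_of_notMem_range
    rintro ⟨k, hk⟩
    apply hne
    have h1 : (n : ℤ) ∣ ((i' : ℕ) : ℤ) - ((i : ℕ) : ℤ) := ⟨k - j, by simp only at hk; linarith⟩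
    have h2 : |((i' : ℕ) : ℤ) - ((i : ℕ) : ℤ)| < (n : ℤ) := by
      have := i.2; have := i'.2
      rw [abs_lt]; constructor <;> omega
    have h3 := Int.eq_zero_of_abs_lt_dvd h1 h2
    ext
    omega
  · intro h; exact absurd (Finset.mem_univ _) h


/-- The computation behind the exactness of the Kummer sequence 0 → μ_n → G_m → G_m → 0, i.e. faithful
flatness of the n-th power map u_n of G_m: Let A be a commutative ring and n ≥ 1, and let u_n be the
ring endomorphism of A[t, t⁻¹] with u_n(t) = t^n (on monomials, t^k ↦ t^{nk}). Then A[t, t⁻¹] is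
free of rank n over itself via u_n, with basis 1, t, …, t^{n−1}: every Laurent polynomial q can be
written in exactly one way as Σ_{i<n} u_n(c_i) t^i. -/
theorem result (A : Type u) [CommRing A] (n : ℕ) (hn : 1 ≤ n) (q : A[T;T⁻¹]) :
    ∃! c : Fin n → A[T;T⁻¹],
      q = ∑ i : Fin n, (AddMonoidAlgebra.mapDomainRingHom A (AddMonoidHom.mulLeft (n : ℤ)) : A[T;T⁻¹] →+* A[T;T⁻¹]) (c i) *
        LaurentPolynomial.T (i : ℤ) := by
  classical
  have hn0 : (0 : ℤ) < n := by exact_mod_cast hn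
  have hinjc : ∀ i : Fin n, Set.InjOn (fun j : ℤ => (n : ℤ) * j + ((i : ℕ) : ℤ))
      ((fun j : ℤ => (n : ℤ) * j + ((i : ℕ) : ℤ)) ⁻¹' (q.coeff.support : Set ℤ)) := by
    intro i a _ b _ h
    have : (n : ℤ) * a = (n : ℤ) * b := by simpa using h
    exact mul_injective n hn this
  refine ⟨fun i => AddMonoidAlgebra.ofCoeff
    (Finsupp.comapDomain (fun j : ℤ => (n : ℤ) * j + ((i : ℕ) : ℤ)) q.coeff (hinjc i)), ?_, ?_⟩
  · apply AddMonoidAlgebra.coeff_injective
    ext m
    have hm : m = (n : ℤ) * (m / n) + (((⟨(m % n).toNat, by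
        have h1 := Int.emod_nonneg m hn0.ne'
        have h2 := Int.emod_lt_of_pos m hn0
        omega⟩ : Fin n) : ℕ) : ℤ) := by
      have h1 := Int.emod_nonneg m hn0.ne'
      have h3 := Int.mul_ediv_add_emod m n
      simp only [Int.toNat_of_nonneg h1]
      omega
    conv_rhs => rw [hm]
    rw [key A n hn]
    simp only [Finsupp.comapDomain_apply]
    exact congrArg _ hm
  · intro c' hc'
    funext i
    apply AddMonoidAlgebra.coeff_injective
    ext j
    simp only [Finsupp.comapDomain_apply]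
    rw [hc', key A n hn]

end Groth.Agent.S5119
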