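import Groth.Statements.S5120
import Mathlib

set_option autoImplicit false
universe u
open SGA1t

namespace Groth.Agent.S5120

open Polynomial in
/-- The computation behind the exactness of the Artin-Schreier sequence 0 → Z/p → G_a → G_a → 0 in
characteristic p, i.e. faithful flatness of ℘ = id − F: Let p be a prime and A a ring of
characteristic p. Then A[t] is free of rank p over itself via the endomorphism t ↦ t − t^p, with
basis 1, t, …, t^{p−1}: every polynomial q can be written in exactly one way as Σ_{i<p} c_i(t − t^p)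
t^i. -/
theorem result (p : ℕ) [Fact p.Prime] (A : Type u) [CommRing A] [CharP A p]
    (q : A[X]) :
    ∃! c : Fin p → A[X], q = ∑ i : Fin p, aeval (X - X ^ p : A[X]) (c i) * X ^ (i : ℕ) := by
  classical
  have hp : 2 ≤ p := (Fact.out : p.Prime).two_le
  -- the polynomial `Z^p - Z + Y` over `A[Y]`
  set f : (A[X])[X] := X ^ p + (-X + C (X : A[X])) with hf
  have hdeg : degree (-X + C (X : A[X]) : (A[X])[X]) < (p : WithBot ℕ) := by
    refine lt_of_le_of_lt (degree_add_le _ _) ?_
    rw [degree_neg]
    refine max_lt ?_ ?_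
    · exact lt_of_le_of_lt degree_X_le (by exact_mod_cast hp)
    · exact lt_of_le_of_lt degree_C_le (by exact_mod_cast (by omega : 0 < p))
  have hmonic : f.Monic := monic_X_pow_add hdeg
  have : Nontrivial A := CharP.nontrivial_of_char_ne_one (v := p) (Fact.out : p.Prime).ne_one
  have hnat : f.natDegree = p := by
    rw [hf, natDegree_add_eq_left_of_degree_lt (by rwa [degree_X_pow]), natDegree_X_pow]
  -- the two ring maps
  have hφ0 : eval₂ ((aeval (X - X ^ p : A[X]) : A[X] →ₐ[A] A[X]) : A[X] →+* A[X]) (X : A[X]) f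
      = 0 := by
    simp [hf, eval₂_add, eval₂_pow, eval₂_neg]
    ring
  set φ : AdjoinRoot f →+* A[X] := AdjoinRoot.lift _ X hφ0 with hφ
  set ψ : A[X] →+* AdjoinRoot f := eval₂RingHom ((AdjoinRoot.of f).comp C) (AdjoinRoot.root f)
    with hψ
  have hroot : AdjoinRoot.of f (X : A[X]) = AdjoinRoot.root f - AdjoinRoot.root f ^ p := by
    have h0 : AdjoinRoot.mk f f = 0 := AdjoinRoot.mk_self
    rw [hf] at h0
    simp only [map_add, map_pow, map_neg, AdjoinRoot.mk_X, AdjoinRoot.mk_C] at h0
    linear_combination h0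
  have hφψ : ∀ q : A[X], φ (ψ q) = q := by
    intro q
    have : (φ.comp ψ) = RingHom.id _ := by
      apply Polynomial.ringHom_ext
      · intro a; simp [hφ, hψ]
      · simp [hφ, hψ]
    exact congrArg (fun g => g q) this
  have hψφ : ∀ c : A[X], ψ (aeval (X - X ^ p : A[X]) c) = AdjoinRoot.of f c := by
    intro c
    have : ψ.comp ((aeval (X - X ^ p : A[X]) : A[X] →ₐ[A] A[X]) : A[X] →+* A[X]) =
        AdjoinRoot.of f := by
      apply Polynomial.ringHom_ext
      · intro a; simp [hψ]
      · simp [hψ, hroot]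
    exact congrArg (fun g => g c) this
  have hψX : ψ X = AdjoinRoot.root f := by simp [hψ]
  have hφroot : φ (AdjoinRoot.root f) = X := by simp [hφ]
  have hφof : ∀ c : A[X], φ (AdjoinRoot.of f c) = aeval (X - X ^ p : A[X]) c := by
    intro c; simp [hφ]
  have hdim : (AdjoinRoot.powerBasis' hmonic).dim = p := by
    rw [AdjoinRoot.powerBasis'_dim, hnat]
  set b : Module.Basis (Fin p) A[X] (AdjoinRoot f) :=
    (AdjoinRoot.powerBasis' hmonic).basis.reindex (finCongr hdim) with hbdef
  have hb : ∀ i : Fin p, b i = AdjoinRoot.root f ^ (i : ℕ) := by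
    intro i
    simp [hbdef, PowerBasis.coe_basis]
  have hsmul : ∀ (c : A[X]) (i : Fin p), c • b i = AdjoinRoot.of f c * AdjoinRoot.root f ^ (i : ℕ) := by
    intro c i
    rw [hb, Algebra.smul_def, AdjoinRoot.algebraMap_eq]
  refine ⟨b.equivFun (ψ q), ?_, ?_⟩
  · have h1 := b.sum_equivFun (ψ q)
    have h2 := congrArg φ h1
    rw [hφψ, map_sum] at h2
    refine h2.symm.trans ?_
    refine Finset.sum_congr rfl (fun i _ => ?_)
    rw [hsmul, map_mul, map_pow, hφof, hφroot]
  · intro c' hc'
    have h1 : ψ q = b.equivFun.symm c' := by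
      rw [Module.Basis.equivFun_symm_apply, hc', map_sum]
      refine Finset.sum_congr rfl (fun i _ => ?_)
      rw [hsmul, map_mul, map_pow, hψφ, hψX]
    rw [h1, LinearEquiv.apply_symm_apply]

end Groth.Agent.S5120
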