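import Groth.Statements.S5122
import Groth.Agent.Lib.Helper4.DescEtLoc
import Groth.Agent.Lib.Helper4.DescEtale
import Groth.Agent.Lib.Helper4.DescUnivInj

set_option autoImplicit false
universe u
open SGA1

namespace Groth.Agent.S5122

open AlgebraicGeometry CategoryTheory CategoryTheory.Limits in
/-- Let g : S' ⟶ S be universally submersive, D a descent datum relative to g (functor-of-points form,
for the one-member family g) whose underlying S'-scheme is etale, separated and of finite type over
S', and p : S₁ ⟶ S faithfully flat and quasi-compact. Then D is effective in the fibred category of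
etale separated finite-type schemes (isomorphic to the canonical datum of some etale, separated,
quasi-compact S-scheme) if and only if the descent datum obtained by base change along p, relative
to S' ×_S S₁ ⟶ S₁, is effective in the same sense over S₁. -/
theorem result {S S' S₁ : Scheme.{u}} (g : S' ⟶ S) (hg : SGA1.UnivSubmersive g)
    (D : Desc.SchDDFam (fun _ : PUnit.{1} => g))
    [Etale (D.obj PUnit.unit).hom] [IsSeparated (D.obj PUnit.unit).hom] [QuasiCompact (D.obj PUnit.unit).hom]
    (p : S₁ ⟶ S) [Flat p] [Surjective p] [QuasiCompact p] :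
    (∃ U : Over S, Etale U.hom ∧ IsSeparated U.hom ∧ QuasiCompact U.hom ∧ Nonempty ((Desc.toDDFam (fun _ : PUnit.{1} => g)).obj U ≅ D)) ↔
      (∃ U : Over S₁, Etale U.hom ∧ IsSeparated U.hom ∧ QuasiCompact U.hom ∧
        Nonempty ((Desc.toDDFam (fun _ : PUnit.{1} => pullback.snd g p)).obj U ≅
          (Desc.pullDDFam (f := fun _ : PUnit.{1} => g) (f' := fun _ : PUnit.{1} => pullback.snd g p)
        (α := id) (p := p) (p' := fun _ => pullback.fst g p) (fun _ => pullback.condition)).obj D)) := by
  constructor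
  · rintro ⟨U, hUe, hUs, hUq, ⟨θ⟩⟩
    haveI := hUe; haveI := hUs; haveI := hUq
    obtain ⟨θ'⟩ := Groth.Agent.Lib.Helper4.DescEtLoc.exists_pull_iso_of_iso_etale.{0} g hg D p U θ
    refine ⟨Over.mk (pullback.fst p U.hom), ?_, ?_, ?_, ⟨θ'⟩⟩
    · show Etale (pullback.fst p U.hom); infer_instance
    · show IsSeparated (pullback.fst p U.hom); infer_instance
    · show QuasiCompact (pullback.fst p U.hom); infer_instance
  · rintro ⟨U₁, hUe, hUs, hUq, ⟨θ₁⟩⟩
    haveI := hUe; haveI := hUs; haveI := hUq
    obtain ⟨e₁, he₁⟩ := Groth.Agent.Lib.Helper4.DescEtLoc.exists_univ_push_etale.{0} g hg D p U₁ θ₁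
    have hq : Presieve.ofArrows (fun _ : PUnit.{u + 1} => S₁) (fun _ => p) ∈ Scheme.fpqcPrecoverage S :=
      Groth.Agent.Lib.Helper4.DescUnivInj.singleton_mem p
    let E : Desc.SchDDFam (fun _ : PUnit.{u + 1} => p) :=
      Groth.Agent.Lib.Helper4.DescLocEff.locDD (q := fun _ : PUnit.{u + 1} => p) (U := fun _ => U₁)
        (fun _ => e₁) (fun _ => he₁)
    let E' : Desc.SchDD p := (Desc.SchDDFam.toSchDD p).obj E
    haveI : QuasiCompact E'.obj.hom := hUq
    haveI : IsSeparated E'.obj.hom := hUs
    haveI : Etale E'.obj.hom := hUe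
    obtain ⟨Uo, hq', hs', he', ⟨κ⟩⟩ := Groth.Agent.Lib.Helper4.DescEtale.exists_iso_toDD_etale p E'
    have θ : (Desc.toDDFam (fun _ : PUnit.{u + 1} => p)).obj Uo ≅ E := (Desc.SchDDFam.ofSchDD p).mapIso κ
    obtain ⟨ε, hε⟩ := Groth.Agent.Lib.Helper4.DescLocEff.exists_isUniv (q := fun _ : PUnit.{u + 1} => p)
      (U := fun _ => U₁) (fun _ => e₁) (fun _ => he₁) hq Uo θ
    haveI := Groth.Agent.Lib.Helper4.DescGamma.isIso_of_isUniv hε
    exact ⟨Uo, he', hs', hq', ⟨asIso ε⟩⟩

end Groth.Agent.S5122
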