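import Groth.Statements.S5128
import Mathlib
-- import your own Groth.Agent.* helpers here

set_option autoImplicit false
universe u
open SGA1

namespace Groth.Agent.S5128

open AlgebraicGeometry CategoryTheory Limits in
/-- An étale, universally injective and surjective morphism is an isomorphism. -/
lemma isIso_of_etale_of_universallyInjective_of_surjective {A B : Scheme.{u}} (e : A ⟶ B)
    [Etale e] [UniversallyInjective e] [Surjective e] : IsIso e := by
  haveI : IsOpenImmersion (pullback.diagonal e) := inferInstance
  haveI : Surjective (pullback.diagonal e) := by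
    have h1 : @UniversallyInjective _ _ e := inferInstance
    rw [universallyInjective_eq_diagonal] at h1
    exact h1
  haveI : IsIso (pullback.diagonal e) :=
    (isIso_iff_isOpenImmersion_and_surjective _).mpr ⟨inferInstance, inferInstance⟩
  haveI : Mono e := (pullback.isIso_diagonal_iff e).mp inferInstance
  haveI : IsOpenImmersion e := IsOpenImmersion.of_flat_of_mono e
  exact (isIso_iff_isOpenImmersion_and_surjective _).mpr ⟨inferInstance, inferInstance⟩


open AlgebraicGeometry CategoryTheory CategoryTheory.Limits in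
/-- Let X and Y be S-schemes with Y etale over S. The map f ↦ Γ_f sending an S-morphism f : X ⟶ Y to the
subset of X ×_S Y underlying its graph is a bijection from Hom_S(X, Y) onto the set of open subsets
Γ of X ×_S Y for which the restriction Γ → X of the first projection is radicial (universally
injective) and surjective. Stated as: the graph of every S-morphism is an open immersion, and every
such open Γ is the image of the graph of exactly one S-morphism. -/
theorem result {S X Y : Scheme.{u}} (p : X ⟶ S)
    (q : Y ⟶ S) [Etale q] :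
    (∀ f : {f : X ⟶ Y // f ≫ q = p},
      IsOpenImmersion (pullback.lift (𝟙 X) f.1 ((Category.id_comp p).trans f.2.symm) : X ⟶ pullback p q)) ∧
    ∀ Γ : (pullback p q).Opens, UniversallyInjective (Γ.ι ≫ pullback.fst p q) → Surjective (Γ.ι ≫ pullback.fst p q) →
      ∃! f : {f : X ⟶ Y // f ≫ q = p},
        Set.range (pullback.lift (𝟙 X) f.1 ((Category.id_comp p).trans f.2.symm) : X ⟶ pullback p q).base =
          (Γ : Set ↥(pullback p q)) := by
  haveI : Etale (pullback.fst p q) := inferInstance
  refine ⟨fun f ↦ ?_, fun Γ hinj hsurj ↦ ?_⟩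
  · have hγ : (pullback.lift (𝟙 X) f.1 ((Category.id_comp p).trans f.2.symm) : X ⟶ pullback p q) ≫
        pullback.fst p q = 𝟙 X := pullback.lift_fst _ _ _
    haveI : Etale ((pullback.lift (𝟙 X) f.1 ((Category.id_comp p).trans f.2.symm) :
        X ⟶ pullback p q) ≫ pullback.fst p q) := by rw [hγ]; infer_instance
    haveI : Etale (pullback.lift (𝟙 X) f.1 ((Category.id_comp p).trans f.2.symm) :
        X ⟶ pullback p q) := Etale.of_comp _ (pullback.fst p q)
    haveI : IsSplitMono (pullback.lift (𝟙 X) f.1 ((Category.id_comp p).trans f.2.symm) :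
        X ⟶ pullback p q) := IsSplitMono.mk' ⟨pullback.fst p q, hγ⟩
    exact IsOpenImmersion.of_flat_of_mono _
  · obtain ⟨e, he⟩ : ∃ e : Γ.toScheme ⟶ X, e = Γ.ι ≫ pullback.fst p q := ⟨_, rfl⟩
    haveI : Etale e := by rw [he]; infer_instance
    haveI : UniversallyInjective e := by rw [he]; exact hinj
    haveI : Surjective e := by rw [he]; exact hsurj
    haveI : IsIso e := isIso_of_etale_of_universallyInjective_of_surjective e
    have hfq : (inv e ≫ Γ.ι ≫ pullback.snd p q) ≫ q = p := by
      rw [Category.assoc, Category.assoc, ← pullback.condition, ← Category.assoc Γ.ι, ← he,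
        IsIso.inv_hom_id_assoc]
    have hgr : ∀ (f : X ⟶ Y) (hf : f ≫ q = p) (k : X ⟶ Γ.toScheme), k ≫ e = 𝟙 X →
        k ≫ Γ.ι ≫ pullback.snd p q = f →
        (pullback.lift (𝟙 X) f ((Category.id_comp p).trans hf.symm) : X ⟶ pullback p q) =
          k ≫ Γ.ι := by
      intro f hf k hk1 hk2
      apply pullback.hom_ext
      · rw [pullback.lift_fst, Category.assoc, ← he, hk1]
      · rw [pullback.lift_snd, Category.assoc, hk2]
    refine ⟨⟨inv e ≫ Γ.ι ≫ pullback.snd p q, hfq⟩, ?_, ?_⟩
    · show Set.range (pullback.lift (𝟙 X) (inv e ≫ Γ.ι ≫ pullback.snd p q)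
        ((Category.id_comp p).trans hfq.symm) : X ⟶ pullback p q).base = _
      rw [hgr _ hfq (inv e) (IsIso.inv_hom_id e) rfl]
      rw [Scheme.Hom.comp_base, TopCat.coe_comp, Set.range_comp,
        Set.range_eq_univ.mpr (inv e).surjective, Set.image_univ, Scheme.Opens.range_ι]
    · rintro ⟨f₁, hf₁⟩ hr
      apply Subtype.ext
      show f₁ = inv e ≫ Γ.ι ≫ pullback.snd p q
      have hsub : Set.range (pullback.lift (𝟙 X) f₁ ((Category.id_comp p).trans hf₁.symm) :
          X ⟶ pullback p q).base ⊆ Set.range Γ.ι.base := by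
        rw [Scheme.Opens.range_ι]
        exact hr.le
      obtain ⟨k, hk⟩ : ∃ k : X ⟶ Γ.toScheme, k ≫ Γ.ι =
          (pullback.lift (𝟙 X) f₁ ((Category.id_comp p).trans hf₁.symm) : X ⟶ pullback p q) :=
        ⟨IsOpenImmersion.lift Γ.ι _ hsub, IsOpenImmersion.lift_fac _ _ _⟩
      have hke : k ≫ e = 𝟙 X := by
        rw [he, ← Category.assoc, hk, pullback.lift_fst]
      have hk' : k = inv e := by
        rw [← Category.comp_id k, ← IsIso.hom_inv_id e, ← Category.assoc, hke, Category.id_comp]
      have : f₁ = k ≫ Γ.ι ≫ pullback.snd p q := by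
        rw [← Category.assoc, hk, pullback.lift_snd]
      rw [this, hk']

end Groth.Agent.S5128
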