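import Groth.Statements.S5129
import Groth.Agent.Lib.Helper14.FEtHensel
import Groth.Agent.S0243
import Groth.Agent.S0268

set_option autoImplicit false
universe u
open Pi1

namespace Groth.Agent.S5129

open AlgebraicGeometry CategoryTheory CategoryTheory.Limits in
/-- Surjectivity of π₁(X) → π₁(Spec A), in terms of covers. Let A be a complete Noetherian local ring
with residue field k, k̄ an algebraic closure of k, ξ : Spec k̄ ⟶ Spec A the resulting geometric
point, and X a proper A-scheme with X ×_A Spec k̄ connected. Then pulling back finite etale covers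
along X ⟶ Spec A is fully faithful. -/
theorem result (A : Type u) [CommRing A]
    [IsNoetherianRing A] [IsLocalRing A] [IsAdicComplete (IsLocalRing.maximalIdeal A) A]
    {X : Scheme.{u}} (f : X ⟶ Spec (CommRingCat.of A)) [IsProper f]
    (ξ : Spec (CommRingCat.of (AlgebraicClosure (IsLocalRing.ResidueField A))) ⟶ Spec (CommRingCat.of A))
    (hξ : ξ = Spec.map (CommRingCat.ofHom ((algebraMap (IsLocalRing.ResidueField A)
      (AlgebraicClosure (IsLocalRing.ResidueField A))).comp (IsLocalRing.residue A))))
    [ConnectedSpace ↥(pullback f ξ)] :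
    (FEt.restrict f).Full ∧ (FEt.restrict f).Faithful := by
  classical
  haveI hH : HenselianLocalRing A :=
    { is_henselian := fun g hg a₀ h₁ h₂ =>
        HenselianRing.is_henselian (I := IsLocalRing.maximalIdeal A) g hg a₀ h₁
          (h₂.map (Ideal.Quotient.mk (IsLocalRing.maximalIdeal A))) }
  obtain ⟨r, hr⟩ : ∃ r : Spec (CommRingCat.of (IsLocalRing.ResidueField A)) ⟶
      Spec (CommRingCat.of A), r = Spec.map (CommRingCat.ofHom (IsLocalRing.residue A)) :=
    ⟨_, rfl⟩
  obtain ⟨j, hj⟩ : ∃ j : Spec (CommRingCat.of (AlgebraicClosure (IsLocalRing.ResidueField A))) ⟶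
      Spec (CommRingCat.of (IsLocalRing.ResidueField A)),
      j = Spec.map (CommRingCat.ofHom (algebraMap (IsLocalRing.ResidueField A)
        (AlgebraicClosure (IsLocalRing.ResidueField A)))) := ⟨_, rfl⟩
  have hξ' : ξ = j ≫ r := by
    rw [hξ, hj, hr, ← Spec.map_comp]
    rfl
  -- the range of `r` is the closed point
  have hrange : Set.range r = {IsLocalRing.closedPoint A} := by
    ext y
    constructor
    · rintro ⟨z, rfl⟩
      rw [hr]
      exact IsLocalRing.PrimeSpectrum.comap_residue A z
    · rintro rfl
      haveI : Nonempty (Spec (CommRingCat.of (IsLocalRing.ResidueField A))) :=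
        inferInstanceAs (Nonempty (PrimeSpectrum (IsLocalRing.ResidueField A)))
      obtain ⟨z⟩ := ‹Nonempty (Spec (CommRingCat.of (IsLocalRing.ResidueField A)))›
      refine ⟨z, ?_⟩
      rw [hr]
      exact IsLocalRing.PrimeSpectrum.comap_residue A z
  -- every nonempty closed subset of `Spec A` contains the closed point
  have hclosed : ∀ Z : Set (Spec (CommRingCat.of A)), IsClosed Z → Z.Nonempty →
      IsLocalRing.closedPoint A ∈ Z := by
    intro Z hZ hne
    by_contra hcon
    have h1 := (IsLocalRing.closedPoint_mem_iff (R := A) ⟨Zᶜ, hZ.isOpen_compl⟩).mp hcon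
    obtain ⟨z, hz⟩ := hne
    have h3 : (Zᶜ : Set (PrimeSpectrum A)) = Set.univ :=
      congrArg (fun U : TopologicalSpace.Opens (PrimeSpectrum A) => (U : Set (PrimeSpectrum A))) h1
    have h2 : z ∈ (Zᶜ : Set (PrimeSpectrum A)) := by
      rw [h3]; trivial
    exact h2 hz
  haveI : IsClosedImmersion r := by
    rw [hr]
    exact IsClosedImmersion.spec_of_surjective _ Ideal.Quotient.mk_surjective
  -- (a) Spec κ ⟶ Spec A
  have ha_full : (FEt.restrict r).Full :=
    Groth.Agent.Lib.Helper14.FEtHensel.full_restrict_residue_aux A r hr
  have ha_faith : (FEt.restrict r).Faithful := by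
    refine Groth.Agent.S0243.result r (fun x => ?_)
    refine ⟨IsLocalRing.closedPoint A, ?_, ?_⟩
    · have h1 : IsLocalRing.closedPoint A ∈ closure ({x} : Set (Spec (CommRingCat.of A))) :=
        specializes_iff_mem_closure.mp (IsLocalRing.specializes_closedPoint (R := A) x)
      exact (isConnected_singleton.closure.subset_connectedComponent (subset_closure rfl)) h1
    · rw [show Set.range r.base = Set.range r from rfl, hrange]
      rfl
  -- (b) the closed fibre over the residue field
  haveI : IsProper (pullback.snd f r) := inferInstance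
  haveI : CompactSpace ↥(pullback f r) :=
    (HasAffineProperty.iff_of_isAffine (P := @QuasiCompact) (f := pullback.snd f r)).mp
      inferInstance
  haveI : QuasiSeparatedSpace ↥(pullback f r) :=
    (HasAffineProperty.iff_of_isAffine (P := @QuasiSeparated) (f := pullback.snd f r)).mp
      inferInstance
  haveI : ConnectedSpace ↥(pullback (pullback.snd f r) j) := by
    have e := (pullbackLeftPullbackSndIso f r j)
    have hc : ConnectedSpace ↥(pullback f (j ≫ r)) := by
      rw [← hξ']; infer_instance
    exact e.hom.homeomorph.connectedSpace_iff.mpr hc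
  haveI : ConnectedSpace ↥(pullback (pullback.snd f r)
      (Spec.map (CommRingCat.ofHom (algebraMap (IsLocalRing.ResidueField A)
        (AlgebraicClosure (IsLocalRing.ResidueField A)))))) := by
    rw [← hj]; infer_instance
  have hb := Groth.Agent.S0268.result (IsLocalRing.ResidueField A) (pullback.snd f r)
  -- (c) the closed fibre inside X
  have hc_faith : (FEt.restrict (pullback.fst f r)).Faithful := by
    refine Groth.Agent.S0243.result (pullback.fst f r) (fun x => ?_)
    have hC : IsClosed (connectedComponent x) := isClosed_connectedComponent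
    have himg : IsClosed (f '' connectedComponent x) := f.isClosedMap _ hC
    have hmem := hclosed _ himg ⟨f x, x, mem_connectedComponent, rfl⟩
    obtain ⟨c, hcC, hcs⟩ := hmem
    refine ⟨c, hcC, ?_⟩
    rw [show Set.range (pullback.fst f r).base = Set.range (pullback.fst f r) from rfl,
      Scheme.Pullback.range_fst, hrange]
    exact hcs
  -- glue
  have E1 := MorphismProperty.Over.pullbackComp (P := FEt.prop.{u}) (Q := ⊤) (pullback.fst f r) f
  have E2 := MorphismProperty.Over.pullbackComp (P := FEt.prop.{u}) (Q := ⊤) (pullback.snd f r) r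
    (pullback.fst f r ≫ f) pullback.condition
  have E : FEt.restrict f ⋙ FEt.restrict (pullback.fst f r) ≅
      FEt.restrict r ⋙ FEt.restrict (pullback.snd f r) := E1.symm ≪≫ E2
  haveI := ha_full
  haveI := ha_faith
  haveI := hb.1
  haveI := hb.2
  haveI := hc_faith
  haveI : (FEt.restrict f ⋙ FEt.restrict (pullback.fst f r)).Full := Functor.Full.of_iso E.symm
  haveI : (FEt.restrict f ⋙ FEt.restrict (pullback.fst f r)).Faithful :=
    Functor.Faithful.of_iso E.symm
  exact ⟨Functor.Full.of_comp_faithful (FEt.restrict f) (FEt.restrict (pullback.fst f r)),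
    Functor.Faithful.of_comp (FEt.restrict f) (FEt.restrict (pullback.fst f r))⟩

end Groth.Agent.S5129
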