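import Groth.Statements.S5130
import Groth.Agent.Lib.Helper14.ClosedFibDesc1
import Groth.Agent.Lib.Helper11.Pi0C
import Groth.Agent.S0239
import Groth.Agent.S14461
import Groth.Agent.S5117

set_option autoImplicit false
universe u
open Pi1

namespace Groth.Agent.S5130

open AlgebraicGeometry CategoryTheory CategoryTheory.Limits in
/-- Exactness in the middle of e → π₁(X ⊗ k̄) → π₁(X) → π₁(Spec A) → e, in terms of covers. Let A be a
complete Noetherian local ring with residue field k, k̄ an algebraic closure of k, ξ : Spec k̄ ⟶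
Spec A the resulting geometric point, X a proper A-scheme with X ×_A Spec k̄ connected, and X' a
connected finite etale cover of X such that the induced cover of X ×_A Spec k̄ has a section. Then
X' is isomorphic over X to the pullback of some finite etale cover of Spec A. -/
theorem result (A : Type u) [CommRing A]
    [IsNoetherianRing A] [IsLocalRing A] [IsAdicComplete (IsLocalRing.maximalIdeal A) A]
    {X : Scheme.{u}} (f : X ⟶ Spec (CommRingCat.of A)) [IsProper f]
    (ξ : Spec (CommRingCat.of (AlgebraicClosure (IsLocalRing.ResidueField A))) ⟶ Spec (CommRingCat.of A))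
    (hξ : ξ = Spec.map (CommRingCat.ofHom ((algebraMap (IsLocalRing.ResidueField A)
      (AlgebraicClosure (IsLocalRing.ResidueField A))).comp (IsLocalRing.residue A))))
    [ConnectedSpace ↥(pullback f ξ)] (X' : FEt.Cat X) [ConnectedSpace X'.left]
    (σ : pullback f ξ ⟶ X'.left) (hσ : σ ≫ X'.hom = pullback.fst f ξ) :
    ∃ T : FEt.Cat (Spec (CommRingCat.of A)), Nonempty ((FEt.restrict f).obj T ≅ X') := by
  classical
  subst hξ
  -- notation
  obtain ⟨r, hrdef⟩ : ∃ r : AlgebraicGeometry.Spec (CommRingCat.of (IsLocalRing.ResidueField A)) ⟶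
      AlgebraicGeometry.Spec (CommRingCat.of A),
      r = AlgebraicGeometry.Spec.map (CommRingCat.ofHom (IsLocalRing.residue A)) := ⟨_, rfl⟩
  obtain ⟨gb, hgbdef⟩ : ∃ gb : AlgebraicGeometry.Spec (CommRingCat.of
      (AlgebraicClosure (IsLocalRing.ResidueField A))) ⟶
      AlgebraicGeometry.Spec (CommRingCat.of (IsLocalRing.ResidueField A)),
      gb = AlgebraicGeometry.Spec.map (CommRingCat.ofHom (algebraMap (IsLocalRing.ResidueField A)
        (AlgebraicClosure (IsLocalRing.ResidueField A)))) := ⟨_, rfl⟩
  have hξ' : AlgebraicGeometry.Spec.map (CommRingCat.ofHom ((algebraMap (IsLocalRing.ResidueField A)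
      (AlgebraicClosure (IsLocalRing.ResidueField A))).comp (IsLocalRing.residue A))) = gb ≫ r := by
    rw [hrdef, hgbdef, CommRingCat.ofHom_comp, AlgebraicGeometry.Spec.map_comp]
  haveI hrci : AlgebraicGeometry.IsClosedImmersion r := by
    rw [hrdef]
    exact AlgebraicGeometry.IsClosedImmersion.spec_of_surjective _ Ideal.Quotient.mk_surjective
  -- Noetherianity
  haveI : AlgebraicGeometry.IsLocallyNoetherian X :=
    AlgebraicGeometry.LocallyOfFiniteType.isLocallyNoetherian f
  haveI : CompactSpace X := AlgebraicGeometry.QuasiCompact.compactSpace_of_compactSpace f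
  haveI : AlgebraicGeometry.IsNoetherian X := AlgebraicGeometry.IsNoetherian.mk
  -- π₀ bijectivity for every cover
  have hbij : ∀ Y : FEt.Cat X, Function.Bijective
      (CategoryTheory.Limits.pullback.fst Y.hom
        (CategoryTheory.Limits.pullback.fst f r)).continuous.connectedComponentsMap := by
    intro Y
    haveI : AlgebraicGeometry.IsFinite Y.hom := Y.prop.1
    haveI : AlgebraicGeometry.IsProper (Y.hom ≫ f) := inferInstance
    have h1 : Function.Bijective (CategoryTheory.Limits.pullback.fst (Y.hom ≫ f)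
        r).continuous.connectedComponentsMap := by
      rw [hrdef]
      exact Groth.Agent.Lib.helper11.Pi0.connectedComponentsMap_bijective A
        (IsLocalRing.maximalIdeal A) (Y.hom ≫ f)
    refine Groth.Agent.Lib.helper14.ClosedFibDesc.bijective_ccMap_of_homeomorph_comp
      (CategoryTheory.Limits.pullbackRightPullbackFstIso f r Y.hom).hom.homeomorph _ _ ?_ h1
    intro a
    have := CategoryTheory.Limits.pullbackRightPullbackFstIso_hom_fst f r Y.hom
    rw [← this, AlgebraicGeometry.Scheme.Hom.comp_apply]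
    rfl
  obtain ⟨hfull, hfaith⟩ := Groth.Agent.S14461.result (CategoryTheory.Limits.pullback.fst f r) hbij
  -- the closed fibre
  obtain ⟨j, hjdef⟩ : ∃ j : CategoryTheory.Limits.pullback f r ⟶ X,
      j = CategoryTheory.Limits.pullback.fst f r := ⟨_, rfl⟩
  obtain ⟨f₀, hf₀def⟩ : ∃ f₀ : CategoryTheory.Limits.pullback f r ⟶
      AlgebraicGeometry.Spec (CommRingCat.of (IsLocalRing.ResidueField A)),
      f₀ = CategoryTheory.Limits.pullback.snd f r := ⟨_, rfl⟩
  have hsq : j ≫ f = f₀ ≫ r := by
    rw [hjdef, hf₀def]; exact CategoryTheory.Limits.pullback.condition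
  haveI : AlgebraicGeometry.IsProper f₀ := by
    rw [hf₀def]; infer_instance
  haveI : CompactSpace ↥(CategoryTheory.Limits.pullback f r) :=
    AlgebraicGeometry.QuasiCompact.compactSpace_of_compactSpace f₀
  haveI : QuasiSeparatedSpace ↥(CategoryTheory.Limits.pullback f r) :=
    (AlgebraicGeometry.HasAffineProperty.iff_of_isAffine
      (P := @AlgebraicGeometry.QuasiSeparated) (f := f₀)).1 inferInstance
  -- the restricted cover is connected
  haveI hconn' : ConnectedSpace ↥((FEt.restrict j).obj X').left := by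
    rw [hjdef]
    have hX'c : ConnectedSpace ↥X'.left := inferInstance
    exact @Groth.Agent.Lib.helper14.ClosedFibDesc.connectedSpace_of_bijective_ccMap _ ↥X'.left _ _ _
      (CategoryTheory.Limits.pullback.fst X'.hom
        (CategoryTheory.Limits.pullback.fst f r)).continuous (hbij X') hX'c
  -- the geometric closed fibre
  let e₃ : CategoryTheory.Limits.pullback f₀ gb ≅ CategoryTheory.Limits.pullback f
      (AlgebraicGeometry.Spec.map (CommRingCat.ofHom ((algebraMap (IsLocalRing.ResidueField A)
      (AlgebraicClosure (IsLocalRing.ResidueField A))).comp (IsLocalRing.residue A)))) :=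
    (CategoryTheory.Limits.pullback.congrHom hf₀def rfl) ≪≫
      CategoryTheory.Limits.pullbackLeftPullbackSndIso f r gb ≪≫
      (CategoryTheory.Limits.pullback.congrHom rfl hξ').symm
  have he₃ : e₃.hom ≫ CategoryTheory.Limits.pullback.fst f _ =
      CategoryTheory.Limits.pullback.fst f₀ gb ≫ j := by
    subst hf₀def hjdef
    simp only [e₃, CategoryTheory.Iso.trans_hom, CategoryTheory.Iso.symm_hom,
      CategoryTheory.Category.assoc, CategoryTheory.Limits.pullback.congrHom_inv,
      CategoryTheory.Limits.pullback.congrHom_hom, CategoryTheory.Limits.pullback.lift_fst,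
      CategoryTheory.Limits.pullback.lift_fst_assoc, CategoryTheory.Category.comp_id,
      CategoryTheory.Limits.pullbackLeftPullbackSndIso_hom_fst]
  haveI hconn₀ : ConnectedSpace ↥(CategoryTheory.Limits.pullback f₀ gb) :=
    (e₃.hom.homeomorph.connectedSpace_iff).2 inferInstance
  -- the section over the geometric closed fibre
  have hcondσ : (e₃.hom ≫ σ) ≫ X'.hom = CategoryTheory.Limits.pullback.fst f₀ gb ≫ j := by
    rw [CategoryTheory.Category.assoc, hσ, he₃]
  obtain ⟨σ₀, hσ₀def⟩ : ∃ σ₀ : CategoryTheory.Limits.pullback f₀ gb ⟶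
      ((FEt.restrict j).obj X').left,
      σ₀ = CategoryTheory.Limits.pullback.lift (e₃.hom ≫ σ)
        (CategoryTheory.Limits.pullback.fst f₀ gb) hcondσ := ⟨_, rfl⟩
  have hσ₀ : σ₀ ≫ ((FEt.restrict j).obj X').hom = CategoryTheory.Limits.pullback.fst f₀ gb := by
    rw [hσ₀def]
    exact CategoryTheory.Limits.pullback.lift_snd _ _ _
  subst hgbdef
  obtain ⟨S'₀, ⟨e₀⟩⟩ := Groth.Agent.S5117.result (IsLocalRing.ResidueField A) f₀
    ((FEt.restrict j).obj X') σ₀ hσ₀
  -- lift `S'₀` to `A`
  have hE : (FEt.restrict r).IsEquivalence := by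
    rw [hrdef]
    exact Groth.Agent.S0239.result A (IsLocalRing.maximalIdeal A)
  let T := (FEt.restrict r).objPreimage S'₀
  let eT : (FEt.restrict r).obj T ≅ S'₀ := (FEt.restrict r).objObjPreimageIso S'₀
  let eAll : (FEt.restrict j).obj ((FEt.restrict f).obj T) ≅ (FEt.restrict j).obj X' :=
    Groth.Agent.Lib.helper14.ClosedFibDesc.restrictSquareIso j f f₀ r hsq T ≪≫
      (FEt.restrict f₀).mapIso eT ≪≫ e₀
  subst hjdef
  exact ⟨T, ⟨(FEt.restrict (CategoryTheory.Limits.pullback.fst f r)).preimageIso eAll⟩⟩

end Groth.Agent.S5130
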