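import Groth.Statements.S5132
import Mathlib
-- import your own Groth.Agent.* helpers here

set_option autoImplicit false
open CategoryTheory AlgebraicGeometry
universe u
open SGA1

namespace Groth.Agent.S5132

/-- Quasi-compactness of a morphism descends along a surjective and quasi-compact base change; flatness
of the base change is not needed for this property. -/
theorem result :
    MorphismProperty.DescendsAlong @QuasiCompact (@Surjective ⊓ @QuasiCompact : MorphismProperty Scheme.{u}) := by
  constructor
  intro A X Y Z fst snd f g h hf hfst
  obtain ⟨hf1, hf2⟩ := hf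
  have hf1' : Surjective f := hf1
  have hf2' : QuasiCompact f := hf2
  have hfst' : QuasiCompact fst := hfst
  have hsnd : Surjective snd := MorphismProperty.of_isPullback (P := @Surjective) h hf1'
  refine ⟨fun U hU hUc => ?_⟩
  have h1 : IsCompact (f ⁻¹' U) := hf2'.isCompact_preimage U hU hUc
  have h2 : IsCompact (fst ⁻¹' (f ⁻¹' U)) :=
    hfst'.isCompact_preimage _ (hU.preimage f.continuous) h1
  have heq : g ⁻¹' U = snd '' (fst ⁻¹' (f ⁻¹' U)) := by
    ext y
    constructor
    · intro hy
      obtain ⟨a, rfl⟩ := hsnd.surj y
      refine ⟨a, ?_, rfl⟩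
      change f (fst a) ∈ U
      have : f (fst a) = g (snd a) := by
        rw [← Scheme.Hom.comp_apply, ← Scheme.Hom.comp_apply, h.w]
      rw [this]; exact hy
    · rintro ⟨a, ha, rfl⟩
      change g (snd a) ∈ U
      have : f (fst a) = g (snd a) := by
        rw [← Scheme.Hom.comp_apply, ← Scheme.Hom.comp_apply, h.w]
      rw [← this]; exact ha
  rw [heq]
  exact h2.image snd.continuous

end Groth.Agent.S5132
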