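import Groth.Statements.S5135
import Mathlib

set_option autoImplicit false
universe u
open scoped TensorProduct
open SGA1

namespace Groth.Agent.S5135

/-- The affine case, in submodule form (descent of submodules, equivalently of quotient modules): for A
⟶ A' faithfully flat, M an A-module and N' an A'-submodule of A' ⊗ M whose two extensions to (A' ⊗
A') ⊗ M, along a ↦ a ⊗ 1 and a ↦ 1 ⊗ a, generate the same submodule, N' is the base change of the
submodule of M formed by the elements m with 1 ⊗ m in N'. -/
theorem result (A A' : Type u) [CommRing A] [CommRing A'] [Algebra A A']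
    [Module.FaithfullyFlat A A'] (M : Type u) [AddCommGroup M] [Module A M] (N' : Submodule A' (A' ⊗[A] M))
    (h : Submodule.span (A' ⊗[A] A')
          ((N'.restrictScalars A).map
            ((Algebra.TensorProduct.includeLeft : A' →ₐ[A] A' ⊗[A] A').toLinearMap.rTensor M) : Set ((A' ⊗[A] A') ⊗[A] M)) =
        Submodule.span (A' ⊗[A] A')
          ((N'.restrictScalars A).map
            ((Algebra.TensorProduct.includeRight : A' →ₐ[A] A' ⊗[A] A').toLinearMap.rTensor M) : Set ((A' ⊗[A] A') ⊗[A] M))) :
    ((N'.restrictScalars A).comap (TensorProduct.mk A A' M 1)).baseChange A' = N' := by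
  set N : Submodule A M := (N'.restrictScalars A).comap (TensorProduct.mk A A' M 1) with hN
  apply le_antisymm
  · rw [Submodule.baseChange_eq_span]
    apply Submodule.span_le.mpr
    rintro _ ⟨m, hm, rfl⟩
    exact hm
  · intro x hx
    let φ : M →ₗ[A] (A' ⊗[A] M) ⧸ N' :=
      (N'.mkQ.restrictScalars A) ∘ₗ (TensorProduct.mk A A' M 1)
    have hker : LinearMap.ker φ = N := by
      ext m
      simp [φ, N, Submodule.Quotient.mk_eq_zero]
    let Ψ : (A' ⊗[A] A') ⊗[A] M →ₗ[A] A' ⊗[A] ((A' ⊗[A] M) ⧸ N') :=
      (LinearMap.lTensor A' (N'.mkQ.restrictScalars A)) ∘ₗ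
        (TensorProduct.assoc A A' A' M).toLinearMap ∘ₗ
          (LinearMap.rTensor M (TensorProduct.comm A A' A').toLinearMap)
    have hΨ1 : ∀ (c c' : A') (y : A' ⊗[A] M),
        Ψ ((c ⊗ₜ[A] c') •
          ((Algebra.TensorProduct.includeLeft : A' →ₐ[A] A' ⊗[A] A').toLinearMap.rTensor M y)) =
          c' ⊗ₜ[A] N'.mkQ (c • y) := by
      intro c c' y
      induction y using TensorProduct.induction_on with
      | zero => simp
      | tmul b m =>
        simp [Ψ, TensorProduct.smul_tmul']
      | add y1 y2 h1 h2 =>
        simp only [map_add, smul_add, h1, h2, TensorProduct.tmul_add]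
    have hΨ2 : ∀ y : A' ⊗[A] M,
        Ψ ((Algebra.TensorProduct.includeRight : A' →ₐ[A] A' ⊗[A] A').toLinearMap.rTensor M y) =
          LinearMap.lTensor A' φ y := by
      intro y
      induction y using TensorProduct.induction_on with
      | zero => simp
      | tmul b m => simp [Ψ, φ]
      | add y1 y2 h1 h2 => simp only [map_add, h1, h2]
    have hkill : ∀ w ∈ Submodule.span (A' ⊗[A] A')
          ((N'.restrictScalars A).map
            ((Algebra.TensorProduct.includeLeft : A' →ₐ[A] A' ⊗[A] A').toLinearMap.rTensor M) :
              Set ((A' ⊗[A] A') ⊗[A] M)),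
        ∀ z : A' ⊗[A] A', Ψ (z • w) = 0 := by
      intro w hw
      induction hw using Submodule.span_induction with
      | mem w hw =>
        obtain ⟨y, hy, rfl⟩ := hw
        intro z
        induction z using TensorProduct.induction_on with
        | zero => simp
        | tmul c c' =>
          rw [hΨ1]
          have : c • y ∈ N' := N'.smul_mem c hy
          rw [Submodule.mkQ_apply, (Submodule.Quotient.mk_eq_zero N').mpr this,
            TensorProduct.tmul_zero]
        | add z1 z2 h1 h2 => rw [add_smul, map_add, h1, h2, add_zero]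
      | zero => simp
      | add w1 w2 _ _ h1 h2 =>
        intro z
        rw [smul_add, map_add, h1, h2, add_zero]
      | smul z' w _ h =>
        intro z
        rw [smul_smul]
        exact h _
    have hx2 : (Algebra.TensorProduct.includeRight : A' →ₐ[A] A' ⊗[A] A').toLinearMap.rTensor M x ∈
        Submodule.span (A' ⊗[A] A')
          ((N'.restrictScalars A).map
            ((Algebra.TensorProduct.includeRight : A' →ₐ[A] A' ⊗[A] A').toLinearMap.rTensor M) :
              Set ((A' ⊗[A] A') ⊗[A] M)) :=
      Submodule.subset_span ⟨x, hx, rfl⟩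
    rw [← h] at hx2
    have h0 := hkill _ hx2 1
    rw [one_smul, hΨ2] at h0
    have hex : Function.Exact (LinearMap.lTensor A' N.subtype) (LinearMap.lTensor A' φ) :=
      Module.Flat.lTensor_exact A' (by
        rw [← hker]
        exact LinearMap.exact_subtype_ker_map φ)
    obtain ⟨t, ht⟩ := (hex x).mp h0
    refine ⟨t, ?_⟩
    rw [← ht]
    exact congrFun (LinearMap.baseChange_eq_ltensor (A := A') N.subtype) t

end Groth.Agent.S5135
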