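import Groth.Statements.S5138
import Groth.Agent.Lib.Helper5.EtaleSourceDescent

set_option autoImplicit false
open CategoryTheory AlgebraicGeometry
universe u
open SGA1

namespace Groth.Agent.S5138

/-- For X ⟶ X' ⟶ Y locally of finite type over a locally Noetherian Y and a point x of X, if X ⟶ X' and
the composite X ⟶ Y are both etale near x then X' ⟶ Y is etale near the image of x; 'etale near a
point' is membership in the etale locus, the union of the opens on which the morphism is etale. (The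
published statement takes the morphisms of finite type; quasi-compactness plays no role in this
assertion about single points, so only local finiteness is assumed.) -/
theorem result {X X' Y : Scheme.{u}} (f : X ⟶ X') (g : X' ⟶ Y)
    [IsLocallyNoetherian Y] [LocallyOfFiniteType f] [LocallyOfFiniteType g] (x : X)
    (hf : x ∈ Pi1X.etaleLocus f) (hfg : x ∈ Pi1X.etaleLocus (f ≫ g)) : f.base x ∈ Pi1X.etaleLocus g := by
  -- opens on which `f` and `f ≫ g` are étale
  unfold Pi1X.etaleLocus at hf hfg ⊢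
  rw [TopologicalSpace.Opens.mem_sSup] at hf hfg
  obtain ⟨U₁', hU₁, hx₁⟩ := hf
  obtain ⟨U₂', hU₂, hx₂⟩ := hfg
  obtain ⟨U₁, rfl⟩ : ∃ U₁ : X.Opens, U₁ = U₁' := ⟨U₁', rfl⟩
  obtain ⟨U₂, rfl⟩ : ∃ U₂ : X.Opens, U₂ = U₂' := ⟨U₂', rfl⟩
  have hU₁' : Etale (U₁.ι ≫ f) := hU₁
  have hU₂' : Etale (U₂.ι ≫ f ≫ g) := hU₂
  let U : X.Opens := U₁ ⊓ U₂
  have hxU : x ∈ U := ⟨hx₁, hx₂⟩
  have e1 : U.ι ≫ f = X.homOfLE (inf_le_left : U ≤ U₁) ≫ U₁.ι ≫ f := by
    rw [← Category.assoc, Scheme.homOfLE_ι]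
  have e2 : U.ι ≫ f ≫ g = X.homOfLE (inf_le_right : U ≤ U₂) ≫ U₂.ι ≫ f ≫ g := by
    rw [← Category.assoc (X.homOfLE _), Scheme.homOfLE_ι]
  haveI hUf : Etale (U.ι ≫ f) := by rw [e1]; infer_instance
  haveI hUfg : Etale (U.ι ≫ f ≫ g) := by rw [e2]; infer_instance
  -- the open image
  let W : X'.Opens := ⟨Set.range (U.ι ≫ f), (U.ι ≫ f).isOpenMap.isOpen_range⟩
  have hsub : Set.range (U.ι ≫ f) ⊆ Set.range W.ι := by
    rw [Scheme.Opens.range_ι]
    exact le_rfl
  let e' : (U : Scheme.{u}) ⟶ (W : Scheme.{u}) := IsOpenImmersion.lift W.ι (U.ι ≫ f) hsub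
  have hfac : e' ≫ W.ι = U.ι ≫ f := IsOpenImmersion.lift_fac _ _ _
  haveI : Etale (e' ≫ W.ι) := by rw [hfac]; infer_instance
  haveI : Etale e' :=
    MorphismProperty.of_postcomp (W := @Etale) (W' := @LocallyOfFiniteType ⊓ @FormallyUnramified)
      e' W.ι ⟨inferInstance, inferInstance⟩ inferInstance
  haveI : Surjective e' := by
    constructor
    intro v
    obtain ⟨u, hu⟩ : W.ι v ∈ Set.range (U.ι ≫ f) := by
      have : W.ι v ∈ Set.range W.ι := ⟨v, rfl⟩
      rw [Scheme.Opens.range_ι] at this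
      exact this
    refine ⟨u, ?_⟩
    apply W.ι.injective
    rw [← Scheme.Hom.comp_apply, hfac, hu]
  haveI : Etale (e' ≫ W.ι ≫ g) := by
    rw [← Category.assoc, hfac, Category.assoc]; exact hUfg
  have hW : Etale (W.ι ≫ g) := Groth.Agent.Lib.helper5.EtSrc.etale_of_etale_comp e' (W.ι ≫ g)
  rw [TopologicalSpace.Opens.mem_sSup]
  refine ⟨W, hW, ⟨⟨x, hxU⟩, ?_⟩⟩
  rw [Scheme.Hom.comp_apply]
  rfl

end Groth.Agent.S5138
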