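import Groth.Statements.S5142
import Mathlib
import Groth.Agent.FibFp
-- import your own Groth.Agent.* helpers here

set_option autoImplicit false
set_option backward.isDefEq.respectTransparency false
set_option backward.isDefEq.respectTransparency.types false
open CategoryTheory
universe u v u₂ v₂
open FibCat

namespace Groth.Agent.S5142

/-- A morphism of the fibre product 𝒳 ×_C 𝒴 of two categories over C is cartesian if and only if its two
components are cartesian (each over its image in C). The fibre product is taken as the 2-fibre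
product over C of the two structure functors, whose objects are pairs over one object of C together
with an isomorphism of C lying over an identity. -/
theorem result {C : Type u} [Category.{v} C] {𝒳 𝒴 : BasedCategory.{v₂, u₂} C}
    {x y : (FibCat.fp (FibCat.toSelf 𝒳) (FibCat.toSelf 𝒴)).obj} (φ : x ⟶ y) :
    (FibCat.fp (FibCat.toSelf 𝒳) (FibCat.toSelf 𝒴)).p.IsCartesian
        ((FibCat.fp (FibCat.toSelf 𝒳) (FibCat.toSelf 𝒴)).p.map φ) φ ↔
      𝒳.p.IsCartesian (𝒳.p.map φ.hom.fst) φ.hom.fst ∧ 𝒴.p.IsCartesian (𝒴.p.map φ.hom.snd) φ.hom.snd := by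
  have hS : ∀ {R S : C} (f : R ⟶ S) {a b : (FibCat.selfOver C).obj} (φ : a ⟶ b),
      (FibCat.selfOver C).p.IsHomLift f φ → (FibCat.selfOver C).p.IsStronglyCartesian f φ :=
    fun f _ _ φ h => Groth.Agent.FibFp.selfOver_isStronglyCartesian f φ
  have hsnd : 𝒴.p.IsHomLift (𝒳.p.map φ.hom.fst) φ.hom.snd :=
    FibCat.fp_isHomLift_snd (FibCat.toSelf 𝒳) (FibCat.toSelf 𝒴) φ
  constructor
  · intro h
    have h' : (FibCat.fp (FibCat.toSelf 𝒳) (FibCat.toSelf 𝒴)).p.IsCartesian (𝒳.p.map φ.hom.fst) φ := h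
    refine ⟨Groth.Agent.FibFp.fst_isCartesian_of_isCartesian _ _ hS _ φ h', ?_⟩
    have h2 := Groth.Agent.FibFp.snd_isCartesian_of_isCartesian _ _ hS _ φ h'
    exact Groth.Agent.FibFp.isCartesian_map_of 𝒴.p φ.hom.snd (𝒳.p.map φ.hom.fst)
  · rintro ⟨h1, h2⟩
    have h2' : 𝒴.p.IsCartesian (𝒳.p.map φ.hom.fst) φ.hom.snd :=
      Groth.Agent.FibFp.isCartesian_of_isHomLift 𝒴.p φ.hom.snd h2 _
    have h3 : (FibCat.selfOver C).p.IsCartesian (𝒳.p.map φ.hom.fst)
        ((FibCat.toSelf 𝒴).toFunctor.map φ.hom.snd) := by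
      have := hS (𝒳.p.map φ.hom.fst) ((FibCat.toSelf 𝒴).toFunctor.map φ.hom.snd) inferInstance
      infer_instance
    exact Groth.Agent.FibFp.isCartesian_of_components _ _ (𝒳.p.map φ.hom.fst) φ h1 h2' h3

end Groth.Agent.S5142
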