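import Groth.Statements.S5144
import Mathlib

set_option autoImplicit false
open CategoryTheory
universe u v u₂ v₂
open FibCat

namespace Groth.Agent.S5144

open CategoryTheory Functor Category IsHomLift Opposite

section helpers

variable {C : Type u} [Category.{v} C] {𝒳 : Type u₂} [Category.{v₂} 𝒳]

/-- In a fibered category, co-Cartesian morphisms are closed under composition. -/
lemma isCocartesian_comp (p : 𝒳 ⥤ C) [p.IsFibered] {R S T : C} (f : R ⟶ S) (g : S ⟶ T)
    {a b c : 𝒳} (φ : a ⟶ b) (ψ : b ⟶ c) [p.IsCocartesian f φ] [p.IsCocartesian g ψ] :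
    p.IsCocartesian (f ≫ g) (φ ≫ ψ) where
  universal_property {c'} θ hθ := by
    have hc' : p.obj c' = T := codomain_eq p (f ≫ g) θ
    let κ := IsPreFibered.pullbackMap hc' g
    let θ' := IsStronglyCartesian.map p g κ (f' := f ≫ g) rfl θ
    let χ₁ := IsCocartesian.map p f φ θ'
    let χ := IsCocartesian.map p g ψ (χ₁ ≫ κ)
    refine ⟨χ, ⟨inferInstance, ?_⟩, ?_⟩
    · simp [χ, χ₁, θ']
    · rintro χ' ⟨h1, h2⟩
      apply IsCocartesian.map_uniq
      have : p.IsHomLift g (ψ ≫ χ') := inferInstance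
      have hfac := IsCartesian.fac p g κ (ψ ≫ χ')
      rw [← hfac]
      congr 1
      apply IsCocartesian.map_uniq
      apply IsStronglyCartesian.map_uniq
      rw [assoc, hfac, ← assoc, h2]

lemma isHomLift_op (p : 𝒳 ⥤ C) {R S : C} {a b : 𝒳} (f : R ⟶ S) (φ : a ⟶ b) [h : p.IsHomLift f φ] :
    p.op.IsHomLift f.op φ.op := by
  obtain ⟨⟩ := h
  exact IsHomLift.map p.op φ.op

lemma isHomLift_unop (p : 𝒳 ⥤ C) {R S : Cᵒᵖ} {a b : 𝒳ᵒᵖ} (f : R ⟶ S) (φ : a ⟶ b)
    [h : p.op.IsHomLift f φ] : p.IsHomLift f.unop φ.unop := by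
  obtain ⟨⟩ := h
  exact IsHomLift.map p φ.unop

/-- L1 -/
lemma isCocartesian_unop (p : 𝒳 ⥤ C) {R S : Cᵒᵖ} {a b : 𝒳ᵒᵖ} (f : R ⟶ S) (φ : a ⟶ b)
    [h : p.op.IsCartesian f φ] : p.IsCocartesian f.unop φ.unop where
  toIsHomLift := isHomLift_unop p f φ
  universal_property {b'} φ' hφ' := by
    have : p.op.IsHomLift f φ'.op := isHomLift_op p f.unop φ'
    refine ⟨(IsCartesian.map p.op f φ φ'.op).unop, ⟨?_, ?_⟩, ?_⟩
    · exact isHomLift_unop p (𝟙 R) (IsCartesian.map p.op f φ φ'.op)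
    · rw [← unop_comp, IsCartesian.fac]; rfl
    · rintro χ ⟨h1, h2⟩
      have : p.op.IsHomLift (𝟙 R) χ.op := isHomLift_op p (𝟙 R.unop) χ
      have := IsCartesian.map_uniq p.op f φ φ'.op χ.op (by rw [← h2]; rfl)
      rw [← this]; rfl

/-- L2 -/
lemma isCartesian_op (p : 𝒳 ⥤ C) {R S : C} {a b : 𝒳} (f : R ⟶ S) (φ : a ⟶ b)
    [h : p.IsCocartesian f φ] : p.op.IsCartesian f.op φ.op where
  toIsHomLift := isHomLift_op p f φ
  universal_property {a'} φ' hφ' := by
    have : p.IsHomLift f φ'.unop := isHomLift_unop p f.op φ'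
    refine ⟨(IsCocartesian.map p f φ φ'.unop).op, ⟨?_, ?_⟩, ?_⟩
    · exact isHomLift_op p (𝟙 S) (IsCocartesian.map p f φ φ'.unop)
    · rw [← op_comp, IsCocartesian.fac]; rfl
    · rintro χ ⟨h1, h2⟩
      have : p.IsHomLift (𝟙 S) χ.unop := isHomLift_unop p (𝟙 (op S)) χ
      have := IsCocartesian.map_uniq p f φ φ'.unop χ.unop (by rw [← h2]; rfl)
      rw [← this]; rfl

/-- L3 -/
lemma isCartesian_unop (p : 𝒳 ⥤ C) {R S : Cᵒᵖ} {a b : 𝒳ᵒᵖ} (f : R ⟶ S) (φ : a ⟶ b)
    [h : p.op.IsCocartesian f φ] : p.IsCartesian f.unop φ.unop where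
  toIsHomLift := isHomLift_unop p f φ
  universal_property {b'} φ' hφ' := by
    have : p.op.IsHomLift f φ'.op := isHomLift_op p f.unop φ'
    refine ⟨(IsCocartesian.map p.op f φ φ'.op).unop, ⟨?_, ?_⟩, ?_⟩
    · exact isHomLift_unop p (𝟙 S) (IsCocartesian.map p.op f φ φ'.op)
    · rw [← unop_comp, IsCocartesian.fac]; rfl
    · rintro χ ⟨h1, h2⟩
      have : p.op.IsHomLift (𝟙 S) χ.op := isHomLift_op p (𝟙 S.unop) χ
      have := IsCocartesian.map_uniq p.op f φ φ'.op χ.op (by rw [← h2]; rfl)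
      rw [← this]; rfl

/-- L4 -/
lemma isCocartesian_op (p : 𝒳 ⥤ C) {R S : C} {a b : 𝒳} (f : R ⟶ S) (φ : a ⟶ b)
    [h : p.IsCartesian f φ] : p.op.IsCocartesian f.op φ.op where
  toIsHomLift := isHomLift_op p f φ
  universal_property {a'} φ' hφ' := by
    have : p.IsHomLift f φ'.unop := isHomLift_unop p f.op φ'
    refine ⟨(IsCartesian.map p f φ φ'.unop).op, ⟨?_, ?_⟩, ?_⟩
    · exact isHomLift_op p (𝟙 R) (IsCartesian.map p f φ φ'.unop)
    · rw [← op_comp, IsCartesian.fac]; rfl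
    · rintro χ ⟨h1, h2⟩
      have : p.IsHomLift (𝟙 R) χ.unop := isHomLift_unop p (𝟙 (op R)) χ
      have := IsCartesian.map_uniq p f φ φ'.unop χ.unop (by rw [← h2]; rfl)
      rw [← this]; rfl

end helpers


/-- If p : 𝒳 ⥤ C is both prefibred and co-prefibred (its opposite functor is prefibred), then p is
fibred if and only if it is co-fibred (its opposite functor is fibred). Prefibred and fibred are
Mathlib's notions, which are the source's. -/
theorem result {C : Type u} [Category.{v} C] {𝒳 : Type u₂} [Category.{v₂} 𝒳]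
    (p : 𝒳 ⥤ C) [p.IsPreFibered] [p.op.IsPreFibered] : p.IsFibered ↔ p.op.IsFibered := by
  constructor
  · intro hfib
    exact
      { exists_isCartesian' := fun f => IsPreFibered.exists_isCartesian' f
        comp := fun {R S T} f g {a b c} φ ψ hφ hψ => by
          have h1 : p.IsCocartesian f.unop φ.unop := isCocartesian_unop p f φ
          have h2 : p.IsCocartesian g.unop ψ.unop := isCocartesian_unop p g ψ
          have h3 : p.IsCocartesian (g.unop ≫ f.unop) (ψ.unop ≫ φ.unop) :=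
            isCocartesian_comp p _ _ _ _
          exact isCartesian_op p (g.unop ≫ f.unop) (ψ.unop ≫ φ.unop) }
  · intro hfib
    exact
      { exists_isCartesian' := fun f => IsPreFibered.exists_isCartesian' f
        comp := fun {R S T} f g {a b c} φ ψ hφ hψ => by
          have h1 : p.op.IsCocartesian f.op φ.op := isCocartesian_op p f φ
          have h2 : p.op.IsCocartesian g.op ψ.op := isCocartesian_op p g ψ
          have h3 : p.op.IsCocartesian (g.op ≫ f.op) (ψ.op ≫ φ.op) :=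
            isCocartesian_comp p.op _ _ _ _
          exact isCartesian_unop p (g.op ≫ f.op) (ψ.op ≫ φ.op) }

end Groth.Agent.S5144
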