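import Groth.Statements.S5147
import Mathlib
import Groth.Agent.Lib.Helper14.Gal1

set_option autoImplicit false
universe u v w
open CategoryTheory PreGaloisCategory
open Pi1

namespace Groth.Agent.S5147

open CategoryTheory.Limits in
/-- In the situation of the first assertion, the stabilizer U of a contains the normal subgroup
generated by the image of u (hence also its closure, U being open) if and only if H(X) is isomorphic
to a finite coproduct of copies of the final object of C'. -/
theorem result {C C' : Type u} [Category.{v} C] [Category.{v} C']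
    [GaloisCategory C] [GaloisCategory C'] (H : C ⥤ C') [PreservesFiniteLimits H] [PreservesFiniteColimits H]
    (F' : C' ⥤ FintypeCat.{w}) [FiberFunctor F'] [FiberFunctor (H ⋙ F')] (X : C) [IsConnected X]
    (a : (H ⋙ F').obj X) :
    Subgroup.normalClosure ((Pi1X.autWhisker H F').range : Set (Aut (H ⋙ F'))) ≤ MulAction.stabilizer (Aut (H ⋙ F')) a ↔
      ∃ n : ℕ, Nonempty (H.obj X ≅ ∐ fun _ : Fin n => ⊤_ C') := by
  rw [← Groth.Agent.Lib.Helper14.Gal.trivial_action_iff_split F' (H.obj X)]
  constructor
  · intro h σ x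
    let x' : (H ⋙ F').obj X := x
    obtain ⟨τ, hτ⟩ := MulAction.exists_smul_eq (Aut (H ⋙ F')) a x'
    have hmem : τ⁻¹ * Pi1X.autWhisker H F' σ * τ⁻¹⁻¹ ∈
        Subgroup.normalClosure ((Pi1X.autWhisker H F').range : Set (Aut (H ⋙ F'))) :=
      Subgroup.normalClosure_normal.conj_mem _
        (Subgroup.subset_normalClosure
          (show Pi1X.autWhisker H F' σ ∈ ((Pi1X.autWhisker H F').range : Set (Aut (H ⋙ F')))
            from ⟨σ, rfl⟩)) _
    have h2 := h hmem
    rw [MulAction.mem_stabilizer_iff, inv_inv, mul_smul, mul_smul, hτ, inv_smul_eq_iff] at h2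
    exact h2.trans hτ
  · intro h
    let K : Subgroup (Aut (H ⋙ F')) := (MulAction.toPermHom (Aut (H ⋙ F')) ((H ⋙ F').obj X)).ker
    have hK : ∀ τ : Aut (H ⋙ F'), τ ∈ K ↔ ∀ x : (H ⋙ F').obj X, τ • x = x := by
      intro τ
      rw [MonoidHom.mem_ker, Equiv.ext_iff]
      rfl
    have h1 : ((Pi1X.autWhisker H F').range : Set (Aut (H ⋙ F'))) ⊆ K := by
      rintro _ ⟨σ, rfl⟩
      rw [SetLike.mem_coe, hK]
      intro x
      exact h σ x
    refine (Subgroup.normalClosure_le_normal h1).trans ?_
    intro τ hτ
    exact (hK τ).mp hτ a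

end Groth.Agent.S5147
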