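import Groth.Statements.S5150
import Mathlib.RingTheory.Depth.Rees

set_option autoImplicit false
universe u
open CategoryTheory
open LocCoh

namespace Groth.Agent.S5150

open LinearMap RingTheory.Sequence Ideal CategoryTheory Abelian Limits Pointwise IsSMulRegular ModuleCat in
theorem key {R : Type u} [CommRing R] (I : Ideal R)
    (N : ModuleCat.{u} R) (k : ℕ) (hN : ∀ a ∈ I, a ^ k ∈ Module.annihilator R N)
    (M : ModuleCat.{u} R)
    (rs : List R) (mem : ∀ r ∈ rs, r ∈ I) (reg : IsWeaklyRegular M rs) :
    ∀ i < rs.length, Subsingleton (Ext N M i) := by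
  generalize len : rs.length = n
  induction n generalizing M rs with
  | zero => simp
  | succ n ih =>
    rintro i hi
    match rs with
    | [] => simp at len
    | a :: rs' =>
      have hk := hN a (mem a List.mem_cons_self)
      simp only [isWeaklyRegular_cons_iff] at reg
      simp only [List.mem_cons, forall_eq_or_imp] at mem
      simp only [List.length_cons, Nat.add_left_inj] at len
      match i with
      | 0 =>
        have : Subsingleton (N →ₗ[R] M) := by
          refine ⟨fun f g => LinearMap.ext fun x => ?_⟩
          apply (reg.1.pow k)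
          change a ^ k • f x = a ^ k • g x
          rw [← map_smul, ← map_smul, Module.mem_annihilator.mp hk x, map_zero, map_zero]
        exact (Ext.addEquiv₀.trans ModuleCat.homAddEquiv).subsingleton
      | i + 1 =>
        let g := (AddCommGrpCat.ofHom ((Ext.mk₀ (smulShortComplex M a).f).postcomp N
          (add_zero (i + 1))))
        have mono_g : Mono g := by
          apply (Ext.covariant_sequence_exact₁' N reg.1.smulShortComplex_shortExact i (i + 1)
            rfl).mono_g ((AddCommGrpCat.isZero_of_iff_subsingleton.mpr ?_).eq_zero_of_src _)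
          exact ih (ModuleCat.of R (QuotSMulTop a M)) rs' mem.2 reg.2 len i (by omega)
        let gk := AddCommGrpCat.ofHom ((Ext.mk₀ (M.smulShortComplex (a ^ k)).f).postcomp N
          (add_zero (i + 1)))
        have mono_gk : Mono gk := by
          simp only [smulShortComplex_f_eq_smul_id, g, gk] at mono_g ⊢
          exact (Ext.postcomp_smul_id_mono_iff (a ^ k) (i + 1)).mpr <|
            ((Ext.postcomp_smul_id_mono_iff a (i + 1)).mp mono_g).pow k
        have zero_gk : gk = 0 := Ext.postcomp_smul_id_eq_zero_of_mem_annihilator hk (i + 1)
        exact AddCommGrpCat.subsingleton_of_isZero (IsZero.of_mono_eq_zero _ zero_gk)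


/-- Let A be a commutative ring, I an ideal, M and N A-modules, and f_1, …, f_r a weakly M-regular
sequence of elements of I. If N is killed by a power of I then Ext^i_A(N, M) vanishes for all i < r.
(No Noetherian or finiteness hypothesis on A, M or N.) -/
theorem result (A : Type u) [CommRing A] (I : Ideal A) (M N : Type u) [AddCommGroup M] [Module A M] [AddCommGroup N] [Module A N] (rs : List A) (hreg : RingTheory.Sequence.IsWeaklyRegular M rs) (hI : ∀ r ∈ rs, r ∈ I) (k : ℕ) (hN : (I ^ k) • (⊤ : Submodule A N) = ⊥) (i : ℕ) (hi : i < rs.length) : Subsingleton (Abelian.Ext (ModuleCat.of A N) (ModuleCat.of A M) i) := by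
  refine key I (ModuleCat.of A N) k ?_ (ModuleCat.of A M) rs hI hreg i hi
  intro a ha
  rw [Module.mem_annihilator]
  intro n
  have h1 : a ^ k • n ∈ (I ^ k) • (⊤ : Submodule A N) :=
    Submodule.smul_mem_smul (Ideal.pow_mem_pow ha k) Submodule.mem_top
  rw [hN] at h1
  exact h1

end Groth.Agent.S5150
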