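import Groth.Statements.S5157
import Mathlib

set_option autoImplicit false
universe u
open Matlis

namespace Groth.Agent.S5157

theorem baer_torsion {A : Type u} [CommRing A] (a : Ideal A) (E : Type u) [AddCommGroup E]
    [Module A E] (hE : Module.Injective A E) :
    Module.Injective (A ⧸ a) (Submodule.torsionBySet A E (a : Set A)) := by
  apply Module.Baer.injective
  intro J φ
  let J' : Ideal A := J.comap (Ideal.Quotient.mk a)
  let φ' : J' →ₗ[A] E :=
    { toFun := fun x =>
        ((φ ⟨Ideal.Quotient.mk a x.1, x.2⟩ : Submodule.torsionBySet A E (a : Set A)) : E)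
      map_add' := fun x y => by
        have h1 : (⟨Ideal.Quotient.mk a (x + y : J').1, (x + y).2⟩ : J)
            = ⟨Ideal.Quotient.mk a x.1, x.2⟩ + ⟨Ideal.Quotient.mk a y.1, y.2⟩ := by
          apply Subtype.ext
          show Ideal.Quotient.mk a (x.1 + y.1) = Ideal.Quotient.mk a x.1 + Ideal.Quotient.mk a y.1
          rw [map_add]
        rw [h1, map_add]; rfl
      map_smul' := fun r x => by
        have h1 : (⟨Ideal.Quotient.mk a (r • x : J').1, (r • x).2⟩ : J)
            = Ideal.Quotient.mk a r • ⟨Ideal.Quotient.mk a x.1, x.2⟩ := by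
          apply Subtype.ext
          show Ideal.Quotient.mk a (r * x.1) = Ideal.Quotient.mk a r * Ideal.Quotient.mk a x.1
          rw [map_mul]
        rw [h1, map_smul]; rfl }
  have hφ' : ∀ (x : A) (hx : x ∈ J'), φ' ⟨x, hx⟩
      = ((φ ⟨Ideal.Quotient.mk a x, hx⟩ : Submodule.torsionBySet A E (a : Set A)) : E) :=
    fun x hx => rfl
  obtain ⟨ψ, hψ⟩ := Module.Baer.of_injective hE J' φ'
  have haJ : ∀ x ∈ a, x ∈ J' := by
    intro x hx
    show Ideal.Quotient.mk a x ∈ J
    rw [Ideal.Quotient.eq_zero_iff_mem.mpr hx]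
    exact J.zero_mem
  have hsm : ∀ x : A, x • ψ 1 = ψ x := by
    intro x
    rw [← map_smul, smul_eq_mul, mul_one]
  have he : ψ 1 ∈ Submodule.torsionBySet A E (a : Set A) := by
    rw [Submodule.mem_torsionBySet_iff]
    rintro ⟨x, hx⟩
    show x • ψ 1 = 0
    rw [hsm, hψ x (haJ x hx), hφ']
    have h0 : (⟨Ideal.Quotient.mk a x, haJ x hx⟩ : J) = 0 :=
      Subtype.ext (Ideal.Quotient.eq_zero_iff_mem.mpr hx)
    rw [h0, map_zero]; rfl
  refine ⟨LinearMap.toSpanSingleton (A ⧸ a) _ ⟨ψ 1, he⟩, ?_⟩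
  intro xbar hxbar
  obtain ⟨x, rfl⟩ := Ideal.Quotient.mk_surjective xbar
  apply Subtype.ext
  show x • ψ 1 = _
  rw [hsm, hψ x hxbar, hφ']



/-- Let A be a Noetherian local ring, a an ideal with A/a local (i.e. a ≠ A) and E an injective hull of
the residue field of A. Then the annihilator of a in E, E[a] = {e | a e = 0}, is an injective hull
of the residue field of A/a over A/a. -/
theorem result (A : Type u) [CommRing A] [IsLocalRing A] [IsNoetherianRing A] (a : Ideal A) [IsLocalRing (A ⧸ a)] (E : Type u) [AddCommGroup E] [Module A E] (f : IsLocalRing.ResidueField A →ₗ[A] E) (hf : InjHull.IsInjectiveHull f) : ∃ g : IsLocalRing.ResidueField (A ⧸ a) →ₗ[A ⧸ a] (LocCoh.torsionBy a E), InjHull.IsInjectiveHull g := by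
  classical
  have hane : a ≠ ⊤ := Ideal.Quotient.nontrivial_iff.mp inferInstance
  have hale : a ≤ IsLocalRing.maximalIdeal A := IsLocalRing.le_maximalIdeal hane
  obtain ⟨e₀, he₀_def⟩ : ∃ e₀, e₀ = f 1 := ⟨_, rfl⟩
  have hfres : ∀ x : A, f (IsLocalRing.residue A x) = x • e₀ := by
    intro x
    rw [he₀_def, ← map_smul]
    congr 1
    rw [Algebra.smul_def, mul_one]; rfl
  have hfzero : ∀ x ∈ IsLocalRing.maximalIdeal A, x • e₀ = 0 := by
    intro x hx
    rw [← hfres, (IsLocalRing.residue_eq_zero_iff x).mpr hx, map_zero]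
  have he₀ : e₀ ∈ LocCoh.torsionBy a E := by
    rw [Submodule.mem_torsionBySet_iff]
    rintro ⟨x, hx⟩
    exact hfzero x (hale hx)
  have hloc : ∀ y : A, Ideal.Quotient.mk a y ∈ IsLocalRing.maximalIdeal (A ⧸ a)
      ↔ y ∈ IsLocalRing.maximalIdeal A := by
    intro y
    constructor
    · intro hy
      by_contra hny
      have hu : IsUnit y := by
        by_contra h
        exact hny ((IsLocalRing.mem_maximalIdeal y).mpr h)
      exact (IsLocalRing.mem_maximalIdeal _).mp hy (hu.map (Ideal.Quotient.mk a))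
    · intro hy
      rw [IsLocalRing.mem_maximalIdeal]
      intro hu
      obtain ⟨wbar, hw⟩ := isUnit_iff_exists_inv.mp hu
      obtain ⟨w, rfl⟩ := Ideal.Quotient.mk_surjective wbar
      have h1 : y * w - 1 ∈ a := by
        rw [← Ideal.Quotient.eq_zero_iff_mem, map_sub, map_mul, hw, map_one, sub_self]
      have h2 : (1 : A) ∈ IsLocalRing.maximalIdeal A := by
        have := Ideal.sub_mem _ (Ideal.mul_mem_right w _ hy) (hale h1)
        rwa [sub_sub_cancel] at this
      exact (IsLocalRing.maximalIdeal.isMaximal A).ne_top ((Ideal.eq_top_iff_one _).mpr h2)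
  let g₀ : (A ⧸ a) →ₗ[A ⧸ a] (LocCoh.torsionBy a E) :=
    LinearMap.toSpanSingleton (A ⧸ a) _ ⟨e₀, he₀⟩
  have hg₀ : ∀ y : A, ((g₀ (Ideal.Quotient.mk a y) : LocCoh.torsionBy a E) : E) = y • e₀ :=
    fun y => rfl
  have hker : IsLocalRing.maximalIdeal (A ⧸ a) ≤ LinearMap.ker g₀ := by
    intro ybar hy
    obtain ⟨y, rfl⟩ := Ideal.Quotient.mk_surjective ybar
    rw [LinearMap.mem_ker]
    apply Subtype.ext
    rw [hg₀]
    exact hfzero y ((hloc y).mp hy)
  let g : IsLocalRing.ResidueField (A ⧸ a) →ₗ[A ⧸ a] (LocCoh.torsionBy a E) :=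
    Submodule.liftQ (IsLocalRing.maximalIdeal (A ⧸ a)) g₀ hker
  have hg : ∀ y : A, ((g (IsLocalRing.residue (A ⧸ a) (Ideal.Quotient.mk a y)) :
      LocCoh.torsionBy a E) : E) = y • e₀ := fun y => rfl
  refine ⟨g, ⟨⟨?_, ?_⟩, baer_torsion a E hf.isInjective⟩⟩
  · rw [injective_iff_map_eq_zero]
    intro z hz
    obtain ⟨ybar, rfl⟩ := IsLocalRing.residue_surjective z
    obtain ⟨y, rfl⟩ := Ideal.Quotient.mk_surjective ybar
    have h1 : y • e₀ = 0 := by rw [← hg y, hz]; rfl
    rw [← hfres] at h1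
    have h2 : IsLocalRing.residue A y = 0 := hf.injective (by rw [h1, map_zero])
    rw [IsLocalRing.residue_eq_zero_iff] at h2 ⊢
    exact (hloc y).mpr h2
  · intro N hN
    obtain ⟨x, hxN, hx0⟩ := Submodule.exists_mem_ne_zero_of_ne_bot hN
    have hx0' : (x : E) ≠ 0 := fun h => hx0 (Subtype.ext h)
    have hN' : Submodule.span A {(x : E)} ≠ ⊥ := by
      rw [Ne, Submodule.span_singleton_eq_bot]; exact hx0'
    have hess := hf.essential _ hN'
    obtain ⟨w, hw, hw0⟩ := Submodule.exists_mem_ne_zero_of_ne_bot hess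
    obtain ⟨hw1, hw2⟩ := Submodule.mem_inf.mp hw
    obtain ⟨r, hr⟩ := Submodule.mem_span_singleton.mp hw1
    obtain ⟨z, hz⟩ := hw2
    obtain ⟨s, rfl⟩ := IsLocalRing.residue_surjective z
    rw [hfres] at hz
    rw [Submodule.ne_bot_iff]
    refine ⟨Ideal.Quotient.mk a r • x, Submodule.mem_inf.mpr ⟨N.smul_mem _ hxN, ?_⟩, ?_⟩
    · refine ⟨IsLocalRing.residue (A ⧸ a) (Ideal.Quotient.mk a s), ?_⟩
      apply Subtype.ext
      rw [hg]
      show s • e₀ = r • (x : E)
      rw [hz, hr]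
    · intro h0
      apply hw0
      rw [← hr]
      have : ((Ideal.Quotient.mk a r • x : LocCoh.torsionBy a E) : E) = 0 := by rw [h0]; rfl
      exact this


end Groth.Agent.S5157
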