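import Groth.Statements.S5158
import Mathlib

set_option autoImplicit false
universe u
open scoped TensorProduct
open Matlis

namespace Groth.Agent.S5158

-- MARK
section Aux

variable {A : Type u} [CommRing A] (I : Ideal A)

/-- a module killed by a power of `I` is `I`-adically complete -/
theorem isAdicComplete_of_pow_smul_eq_zero (N : Type u) [AddCommGroup N] [Module A N] (n : ℕ)
    (hn : ∀ a ∈ I ^ n, ∀ y : N, a • y = 0) : IsAdicComplete I N := by
  have hbot : (I ^ n • ⊤ : Submodule A N) = ⊥ := by
    rw [eq_bot_iff, Submodule.smul_le]
    intro a ha y _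
    rw [hn a ha y]; exact Submodule.zero_mem _
  have h1 : IsHausdorff I N := by
    refine ⟨fun x hx => ?_⟩
    have := hx n
    rw [hbot, SModEq.bot] at this
    exact this
  have h2 : IsPrecomplete I N := by
    refine ⟨fun f hf => ⟨f n, fun k => ?_⟩⟩
    rcases le_total k n with hkn | hnk
    · exact hf hkn
    · have := hf hnk
      rw [hbot, SModEq.bot] at this
      rw [this]
  exact { toIsHausdorff := h1, toIsPrecomplete := h2 }

variable [IsNoetherianRing A]

theorem mk_bijective_of_finite_torsion (N : Type u) [AddCommGroup N] [Module A N] [Module.Finite A N]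
    (n : ℕ) (hn : ∀ a ∈ I ^ n, ∀ y : N, a • y = 0) :
    Function.Bijective (TensorProduct.mk A (AdicCompletion I A) N 1) := by
  have hc := isAdicComplete_of_pow_smul_eq_zero I N n hn
  have h1 := AdicCompletion.ofTensorProduct_bijective_of_finite_of_isNoetherian I N
  have h2 : Function.Bijective (AdicCompletion.of I N) := AdicCompletion.of_bijective I N
  have h3 : (AdicCompletion.ofTensorProduct I N) ∘ (TensorProduct.mk A (AdicCompletion I A) N 1) =
      AdicCompletion.of I N := by
    funext x
    simp [AdicCompletion.ofTensorProduct_tmul]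
  exact (Function.Bijective.of_comp_iff' h1 _).1 (h3 ▸ h2)

theorem mk_span_singleton_bijective (M : Type u) [AddCommGroup M] [Module A M] (x : M) (n : ℕ)
    (hn : ∀ a ∈ I ^ n, a • x = 0) :
    Function.Bijective (TensorProduct.mk A (AdicCompletion I A) (Submodule.span A {x}) 1) := by
  have : Module.Finite A (Submodule.span A {x}) :=
    Module.Finite.of_fg (Submodule.fg_span_singleton x)
  refine mk_bijective_of_finite_torsion I _ n ?_
  rintro a ha ⟨y, hy⟩
  obtain ⟨c, rfl⟩ := Submodule.mem_span_singleton.1 hy
  apply Subtype.ext
  change a • c • x = 0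
  rw [smul_comm, hn a ha, smul_zero]

end Aux



/-- Let A be a Noetherian local ring, Â its m-adic completion and I an m-power torsion A-module (a union
of submodules of finite length). Then x ↦ 1 ⊗ x is a bijection I → Â ⊗_A I. -/
theorem result (A : Type u) [CommRing A] [IsLocalRing A] [IsNoetherianRing A] (I : Type u) [AddCommGroup I] [Module A I] (hI : LocCoh.IsPowerTorsion (IsLocalRing.maximalIdeal A) I) : Function.Bijective (TensorProduct.mk A (AdicCompletion (IsLocalRing.maximalIdeal A) A) I 1) := by
  set m := IsLocalRing.maximalIdeal A with hm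
  constructor
  · rw [injective_iff_map_eq_zero]
    intro x hx
    obtain ⟨n, hn⟩ := hI x
    have hb := mk_span_singleton_bijective m I x n hn
    have hflat : Function.Injective ((Submodule.span A {x}).subtype.lTensor (AdicCompletion m A)) :=
      Module.Flat.lTensor_preserves_injective_linearMap _ (Submodule.injective_subtype _)
    have hz : (TensorProduct.mk A (AdicCompletion m A) (Submodule.span A {x}) 1)
        ⟨x, Submodule.subset_span rfl⟩ = 0 := by
      apply hflat
      rw [map_zero]
      exact hx
    have := hb.1 (hz.trans (map_zero _).symm)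
    exact congrArg Subtype.val this
  · intro z
    induction z using TensorProduct.induction_on with
    | zero => exact ⟨0, map_zero _⟩
    | tmul r x =>
      obtain ⟨n, hn⟩ := hI x
      have hb := mk_span_singleton_bijective m I x n hn
      obtain ⟨y, hy⟩ := hb.2 (r ⊗ₜ[A] (⟨x, Submodule.subset_span rfl⟩ : Submodule.span A {x}))
      refine ⟨(y : I), ?_⟩
      have := congrArg ((Submodule.span A {x}).subtype.lTensor (AdicCompletion m A)) hy
      simpa using this
    | add z w hz hw =>
      obtain ⟨a, ha⟩ := hz
      obtain ⟨b, hb⟩ := hw
      exact ⟨a + b, by rw [map_add, ha, hb]⟩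

end Groth.Agent.S5158
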