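import Groth.Statements.S5159
import Mathlib
import Groth.Agent.Lib.Helper19.HullTools
import Groth.Agent.Lib.Helper19.ExtLen
import Groth.Agent.Lib.Helper19.LCBridge
import Groth.Agent.S5162
import Groth.Agent.S11665
import Groth.Agent.S11175
import Groth.Agent.S0342
import Groth.Agent.S0318

set_option autoImplicit false
universe u
open CategoryTheory Opposite
open Dual

namespace Groth.Agent.S5159

-- MARK
open CategoryTheory IsLocalRing Groth.Agent.S5162 Groth.Agent.Lib.helper19.ExtLen Groth.Agent.Lib.helper19.LCBridge in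


/-- Let A be a regular local ring of dimension n and M an A-module of finite length. Then Ext^i_A(M, A)
= 0 for i ≠ n and length Ext^n_A(M, A) = length M (the functor Ext^n_A(−, A) is dualizing). -/
theorem result (A : Type u) [CommRing A] [IsRegularLocalRing A] (n : ℕ) (hn : ringKrullDim A = n) (M : Type u) [AddCommGroup M] [Module A M] (hM : IsFiniteLength A M) : (∀ i : ℕ, i ≠ n → Subsingleton (((Ext A (ModuleCat.{u} A) i).obj (op (ModuleCat.of A M))).obj (ModuleCat.of A A))) ∧ Module.length A (((Ext A (ModuleCat.{u} A) n).obj (op (ModuleCat.of A M))).obj (ModuleCat.of A A)) = Module.length A M := by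
  classical
  haveI : LocCoh.IsGorensteinLocalRing A := Groth.Agent.S0342.result A
  set m := maximalIdeal A with hm
  obtain ⟨hext1, ⟨eK⟩⟩ := Groth.Agent.S11665.ext_residue A n hn
  have hdepth := Groth.Agent.S11665.depth_eq A n hn
  have hHvan : ∀ i : ℕ, i < n →
      Subsingleton ((localCohomology m i).obj (ModuleCat.of A A) : ModuleCat.{u} A) := by
    intro i hi
    apply Groth.Agent.S0318.H_vanish_below m A i
    rw [hdepth]
    exact_mod_cast hi
  have hlowAll := partA (G := A) m n hHvan
  have hlow : ∀ (F : Type u) [AddCommGroup F] [Module A F], Module.Finite A F →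
      Tors m F → ∀ j : ℕ, j + 1 = n → E A A F j :=
    fun F _ _ hFfin hF j hj => hlowAll F hFfin hF j (by omega)
  have hk1 : Module.length A
      (Abelian.Ext.{u} (ModuleCat.of A (A ⧸ m)) (ModuleCat.of A A) n) = 1 := by
    rw [eK.length_eq]
    haveI : IsSimpleModule A (A ⧸ m) :=
      isSimpleModule_iff_quot_maximal.mpr ⟨m, inferInstance, ⟨LinearEquiv.refl _ _⟩⟩
    exact Module.length_eq_one A _
  have hk2 : E A A (A ⧸ m) (n + 1) := hext1 (n + 1) (Nat.succ_ne_self n)
  refine ⟨fun i hi => ?_, ?_⟩
  · have h1 : E A A M i := Groth.Agent.S11175.E_of_isFiniteLength i (hext1 i hi) M hM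
    haveI : Subsingleton (Abelian.Ext.{u} (ModuleCat.of A M) (ModuleCat.of A A) i) := h1
    exact (oldExtEquiv (R := A) (ModuleCat.of A M) (ModuleCat.of A A) i).injective.subsingleton
  · rw [(oldExtEquiv (R := A) (ModuleCat.of A M) (ModuleCat.of A A) n).length_eq]
    exact length_ext_eq n hlow hk1 hk2 M hM

end Groth.Agent.S5159
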