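import Groth.Statements.S5163
import Mathlib
-- import your own Groth.Agent.* helpers here

set_option autoImplicit false
universe u
open LocCoh

namespace Groth.Agent.S5163

/-- For modules over a Noetherian ring. Let P be a finite A-module and H any A-module with Supp H ⊆ Supp
P. If Hom_A(P, H) = 0 then H = 0. (The published lemma is stated over an arbitrary prescheme; its
proof uses that a nonzero module has an associated prime, so the ring is taken Noetherian here.) -/
theorem result (A : Type u) [CommRing A] [IsNoetherianRing A] (P H : Type u) [AddCommGroup P] [Module A P] [Module.Finite A P] [AddCommGroup H] [Module A H] (hsupp : Module.support A H ⊆ Module.support A P) (hhom : Subsingleton (P →ₗ[A] H)) : Subsingleton H := by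
  classical
  by_contra hH
  rw [not_subsingleton_iff_nontrivial] at hH
  obtain ⟨p, hp⟩ := associatedPrimes.nonempty A H
  obtain ⟨hpprime, x, hx⟩ := isAssociatedPrime_iff.mp hp
  let pp : PrimeSpectrum A := ⟨p, hpprime⟩
  have hpH : pp ∈ Module.support A H := by
    rw [Module.mem_support_iff_exists_annihilator]
    refine ⟨x, ?_⟩
    intro a ha
    show a ∈ p
    rw [hx, Submodule.mem_colon_singleton]
    exact (Submodule.mem_bot A).mpr ((Submodule.mem_annihilator_span_singleton x a).mp ha)
  have hpP := hsupp hpH
  rw [Module.mem_support_iff_nontrivial_residueField_tensorProduct] at hpP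
  obtain ⟨v, hv⟩ := exists_ne (0 : TensorProduct A p.ResidueField P)
  obtain ⟨ψ, hψ⟩ : ∃ ψ : Module.Dual p.ResidueField (TensorProduct A p.ResidueField P),
      ψ v ≠ 0 := by
    by_contra hcon
    push Not at hcon
    exact hv ((Module.forall_dual_apply_eq_zero_iff p.ResidueField v).mp hcon)
  let φ : P →ₗ[A] p.ResidueField :=
    (ψ.restrictScalars A).comp (TensorProduct.mk A p.ResidueField P 1)
  have hφ : φ ≠ 0 := by
    intro h0
    apply hψ
    have hall : ∀ w : TensorProduct A p.ResidueField P, ψ w = 0 := by
      intro w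
      induction w using TensorProduct.induction_on with
      | zero => simp
      | tmul c y =>
        have h1 : c ⊗ₜ[A] y = c • ((1 : p.ResidueField) ⊗ₜ[A] y) := by
          rw [TensorProduct.smul_tmul', smul_eq_mul, mul_one]
        rw [h1, map_smul]
        have h2 : ψ ((1 : p.ResidueField) ⊗ₜ[A] y) = φ y := rfl
        rw [h2, h0]
        simp
      | add a b ha hb => rw [map_add, ha, hb, add_zero]
    exact hall v
  obtain ⟨s, hs⟩ := (Module.Finite.fg_top : (⊤ : Submodule A P).FG)
  obtain ⟨b, hb⟩ := IsLocalization.exist_integer_multiples_of_finset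
    (nonZeroDivisors (A ⧸ p)) (s.image φ)
  let incl : (A ⧸ p) →ₗ[A] p.ResidueField :=
    (IsScalarTower.toAlgHom A (A ⧸ p) p.ResidueField).toLinearMap
  have hincl : Function.Injective incl := p.injective_algebraMap_quotient_residueField
  let β : p.ResidueField := algebraMap (A ⧸ p) p.ResidueField b
  have hβ : β ≠ 0 :=
    map_ne_zero_of_mem_nonZeroDivisors _ p.injective_algebraMap_quotient_residueField b.2
  let φ' : P →ₗ[A] p.ResidueField := (LinearMap.mulLeft A β).comp φ
  have hrange : LinearMap.range φ' ≤ LinearMap.range incl := by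
    rw [LinearMap.range_eq_map, ← hs, Submodule.map_span, Submodule.span_le]
    rintro _ ⟨y, hy, rfl⟩
    obtain ⟨c, hc⟩ := hb (φ y) (Finset.mem_image_of_mem φ hy)
    refine ⟨c, ?_⟩
    show algebraMap (A ⧸ p) p.ResidueField c = β * φ y
    rw [hc, Algebra.smul_def]
  have hex : ∀ y : P, ∃ c : A ⧸ p, incl c = φ' y := fun y => hrange ⟨y, rfl⟩
  -- the map to `A ⧸ p`
  let θ : P →ₗ[A] (A ⧸ p) :=
    (LinearEquiv.ofInjective incl hincl).symm.toLinearMap.comp
      (φ'.codRestrict (LinearMap.range incl) (fun y => hrange ⟨y, rfl⟩))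
  have hθ : ∀ y, incl (θ y) = φ' y := by
    intro y
    have := LinearEquiv.apply_symm_apply (LinearEquiv.ofInjective incl hincl)
      (φ'.codRestrict (LinearMap.range incl) (fun y => hrange ⟨y, rfl⟩) y)
    exact congrArg Subtype.val this
  have hθ0 : θ ≠ 0 := by
    intro h0
    apply hφ
    ext y
    have h1 := hθ y
    rw [h0, LinearMap.zero_apply, map_zero] at h1
    have h2 : β * φ y = 0 := h1.symm
    rcases mul_eq_zero.mp h2 with h3 | h3
    · exact absurd h3 hβ
    · simpa using h3
  -- the embedding `A ⧸ p → H`
  have hker : ∀ a ∈ p, LinearMap.toSpanSingleton A H x a = 0 := by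
    intro a ha
    rw [hx, Submodule.mem_colon_singleton] at ha
    simpa using ha
  let ι : (A ⧸ p) →ₗ[A] H := Submodule.liftQ p (LinearMap.toSpanSingleton A H x) hker
  have hι : Function.Injective ι := by
    rw [← LinearMap.ker_eq_bot]
    apply Submodule.ker_liftQ_eq_bot
    intro a ha
    show a ∈ p
    rw [hx, Submodule.mem_colon_singleton]
    simpa using ha
  have hcomp : ι.comp θ = 0 := Subsingleton.elim _ _
  apply hθ0
  ext y
  apply hι
  rw [LinearMap.zero_apply, map_zero]
  exact LinearMap.congr_fun hcomp y

end Groth.Agent.S5163
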