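import Groth.Statements.S5164
import Mathlib
import Groth.Agent.S5172
import Groth.Agent.Lib.Helper19.KLoc2

set_option autoImplicit false
universe u
open LocCoh

namespace Groth.Agent.S5164

-- MARK
section Aux
open Groth.Agent.Lib.helper19.QuotHeight Groth.Agent.S5172

variable {A : Type u} [CommRing A]

/-- peel off the last step of a maximal chain from `p` to `q`, with the exact height -/
theorem exists_pred' (p q : Ideal A) [hp : p.IsPrime] [hq : q.IsPrime] (hpq : p ≤ q) (c : ℕ)
    (hc : (q.map (Ideal.Quotient.mk p)).height = (c + 1 : ℕ)) :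
    ∃ p' : Ideal A, ∃ _ : p'.IsPrime, p ≤ p' ∧ p' < q ∧
      (p'.map (Ideal.Quotient.mk p)).height = c ∧
      (q.map (Ideal.Quotient.mk p')).height ≤ 1 := by
  obtain ⟨l, hlen, hhead, hlast⟩ := exists_series_of_le_height_quot p q hpq (c + 1) (le_of_eq hc.symm)
  have hne : l.length ≠ 0 := by rw [hlen]; exact Nat.succ_ne_zero c
  have hrel : l.eraseLast.last < l.last := l.eraseLast_last_rel_last hne
  set P' : PrimeSpectrum A := l.eraseLast.last with hP'
  have hpP' : p ≤ P'.asIdeal := hhead.trans ((PrimeSpectrum.asIdeal_le_asIdeal _ _).2 (LTSeries.head_le l.eraseLast (Fin.last _)))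
  have hP'q : P'.asIdeal < q := by
    have : P' < (⟨q, hq⟩ : PrimeSpectrum A) := hlast ▸ hrel
    exact (PrimeSpectrum.asIdeal_lt_asIdeal _ _).2 this
  have h1 : (c : ℕ∞) ≤ (P'.asIdeal.map (Ideal.Quotient.mk p)).height := by
    have := le_height_quot_of_series p P'.asIdeal hpP' l.eraseLast hhead le_rfl
    have hl : l.eraseLast.length = c := by
      rw [RelSeries.eraseLast_length, hlen]; rfl
    rw [hl] at this
    exact this
  have h2 := height_quot_add_le p P'.asIdeal q hpP' hP'q.le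
  have h3 := one_le_height_quot P'.asIdeal q hP'q
  rw [hc] at h2
  refine ⟨P'.asIdeal, P'.isPrime, hpP', hP'q, ?_, ?_⟩
  · apply le_antisymm _ h1
    have h4 : (P'.asIdeal.map (Ideal.Quotient.mk p)).height + 1 ≤ (c : ℕ∞) + 1 := by
      have := (add_le_add le_rfl h3).trans h2
      exact_mod_cast this
    exact (ENat.add_le_add_iff_right ENat.one_ne_top).1 h4
  · have h4 : (c : ℕ∞) + (q.map (Ideal.Quotient.mk P'.asIdeal)).height ≤ (c + 1 : ℕ) :=
      (add_le_add h1 le_rfl).trans h2
    have h5 : ((c + 1 : ℕ) : ℕ∞) = (c : ℕ∞) + 1 := by push_cast; rfl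
    rw [h5] at h4
    exact (ENat.add_le_add_iff_left (ENat.natCast_ne_top c)).1 h4

end Aux



/-- Affine form. Let A be a Noetherian ring which is a quotient of a regular ring, I an ideal, M a
finite A-module and i ≥ 0; c(p) denotes the codimension of V(p) ∩ V(I) in V(p). Then the hypothesis
of the finiteness criterion — H^{i−c(p)}_{pA_p}(M_p) = 0 for all primes p ⊉ I — is equivalent to its
codimension-one case: H^{i−1}_{pA_p}(M_p) = 0 for all primes p ⊉ I with c(p) = 1. -/
theorem result (R : Type u) [CommRing R] [IsRegularRing R] (A : Type u) [CommRing A] [IsNoetherianRing A] (π : R →+* A) (hπ : Function.Surjective π) (I : Ideal A) (M : Type u) [AddCommGroup M] [Module A M] [Module.Finite A M] (i : ℕ) : (∀ p : PrimeSpectrum A, ¬ I ≤ p.asIdeal → ∀ (c j : ℕ), SGA2.relCodim I p = c → j + c = i → Subsingleton (LocCoh.H (IsLocalRing.maximalIdeal (Localization.AtPrime p.asIdeal)) j (LocalizedModule p.asIdeal.primeCompl M))) ↔ (∀ p : PrimeSpectrum A, ¬ I ≤ p.asIdeal → SGA2.relCodim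 I p = 1 → ∀ j : ℕ, j + 1 = i → Subsingleton (LocCoh.H (IsLocalRing.maximalIdeal (Localization.AtPrime p.asIdeal)) j (LocalizedModule p.asIdeal.primeCompl M))) := by
    open Groth.Agent.S5172 in
  constructor
  · intro H p hp hc j hj
    exact H p hp 1 j (by rw [hc]; rfl) hj
  · intro H p hp c j hc hj
    have hc1 : 1 ≤ c := by
      have := one_le_relCodim I p hp
      rw [hc] at this
      exact_mod_cast this
    obtain ⟨c₀, rfl⟩ : ∃ c₀, c = c₀ + 1 := ⟨c - 1, by omega⟩
    have hne : Nonempty {q : PrimeSpectrum A // p ≤ q ∧ I ≤ q.asIdeal} := by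
      by_contra hemp
      rw [not_nonempty_iff] at hemp
      rw [relCodim_eq, iInf_of_empty] at hc
      exact ENat.top_ne_natCast _ hc
    obtain ⟨q, hq⟩ := ENat.exists_eq_iInf (fun q : {q : PrimeSpectrum A // p ≤ q ∧ I ≤ q.asIdeal} =>
      (q.1.asIdeal.map (Ideal.Quotient.mk p.asIdeal)).height)
    have hmin : SGA2.relCodim I p = (q.1.asIdeal.map (Ideal.Quotient.mk p.asIdeal)).height := by
      rw [relCodim_eq]; exact hq.symm
    have hpq' : p.asIdeal ≤ q.1.asIdeal := (PrimeSpectrum.asIdeal_le_asIdeal p q.1).2 q.2.1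
    have hc' : (q.1.asIdeal.map (Ideal.Quotient.mk p.asIdeal)).height = (c₀ + 1 : ℕ) := by
      rw [← hmin, hc]
    obtain ⟨p', hp'prime, hpp', hp'q, hht, hq1⟩ :=
      exists_pred' p.asIdeal q.1.asIdeal hpq' c₀ hc'
    have hIp' : ¬ I ≤ p' := by
      intro hI
      have := relCodim_le I p ⟨p', hp'prime⟩ ((PrimeSpectrum.asIdeal_le_asIdeal _ _).1 hpp') hI
      rw [hc] at this
      have h2 : ((c₀ + 1 : ℕ) : ℕ∞) ≤ (c₀ : ℕ∞) := this.trans (le_of_eq hht)
      have : c₀ + 1 ≤ c₀ := by exact_mod_cast h2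
      omega
    have hrc : SGA2.relCodim I ⟨p', hp'prime⟩ = 1 := by
      apply le_antisymm
      · exact (relCodim_le I ⟨p', hp'prime⟩ q.1
          ((PrimeSpectrum.asIdeal_le_asIdeal _ _).1 hp'q.le) q.2.2).trans hq1
      · exact one_le_relCodim I ⟨p', hp'prime⟩ hIp'
    have hv := H ⟨p', hp'prime⟩ hIp' hrc (j + c₀) (by omega)
    exact Groth.Agent.Lib.helper19.KLoc.keyA π hπ M p.asIdeal p' hpp' c₀ hht j hv

end Groth.Agent.S5164
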