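import Groth.Statements.S5165
import Mathlib
import Groth.Agent.S2677
import Groth.Agent.Lib.Helper26.ProjDimRegular

set_option autoImplicit false
universe u
open CategoryTheory
open LocCoh

namespace Groth.Agent.S5165

/-- Suppose A is a regular Noetherian ring and consider a finitely generated A-module M. Then some
natural number d bounds the projective dimension of M (equivalently, p ↦ proj.dim M_p stays bounded
as p ranges over Spec A, and this holds even if the Krull dimension of A is infinite). -/
theorem result (A : Type u) [CommRing A] [IsRegularRing A] (M : Type u) [AddCommGroup M] [Module A M] [Module.Finite A M] : ∃ d : ℕ, HasProjectiveDimensionLE (ModuleCat.of A M) d := by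
  classical
  let Mc : ModuleCat.{u} A := ModuleCat.of A M
  have hfinM : Module.Finite A Mc := ‹Module.Finite A M›
  -- open sets `U n`
  let U : ℕ → Set (PrimeSpectrum A) := fun n => {p : PrimeSpectrum A |
      projectiveDimension (ModuleCat.of (Localization.AtPrime p.asIdeal)
        (LocalizedModule p.asIdeal.primeCompl M)) ≤ n}
  have hUopen : ∀ n, IsOpen (U n) := fun n => Groth.Agent.S2677.result A M n
  have hUmono : Monotone U := by
    intro m n hmn p hp
    have hp' : projectiveDimension (ModuleCat.of (Localization.AtPrime p.asIdeal)
        (LocalizedModule p.asIdeal.primeCompl M)) ≤ m := hp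
    show projectiveDimension (ModuleCat.of (Localization.AtPrime p.asIdeal)
        (LocalizedModule p.asIdeal.primeCompl M)) ≤ n
    refine hp'.trans ?_
    exact_mod_cast hmn
  have hcover : (Set.univ : Set (PrimeSpectrum A)) ⊆ ⋃ n, U n := by
    intro p _
    rw [Set.mem_iUnion]
    have hreg : IsRegularLocalRing (Localization.AtPrime p.asIdeal) :=
      IsRegularRing.isRegularLocalRing_localization p.asIdeal
    have hfin : Module.Finite (Localization.AtPrime p.asIdeal)
        (LocalizedModule p.asIdeal.primeCompl M) :=
      Module.Finite.of_isLocalizedModule p.asIdeal.primeCompl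
        (LocalizedModule.mkLinearMap _ _)
    refine ⟨(IsLocalRing.maximalIdeal (Localization.AtPrime p.asIdeal)).spanFinrank, ?_⟩
    show projectiveDimension (ModuleCat.of (Localization.AtPrime p.asIdeal)
        (LocalizedModule p.asIdeal.primeCompl M)) ≤ _
    rw [projectiveDimension_le_iff]
    exact Groth.Agent.Lib.helper26.PDReg.hasProjectiveDimensionLE_of_isRegularLocalRing _
      (Localization.AtPrime p.asIdeal) rfl (LocalizedModule p.asIdeal.primeCompl M)
  obtain ⟨N, hN⟩ := isCompact_univ.elim_directed_cover U hUopen hcover
    (hUmono.directed_le)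
  refine ⟨N, ?_⟩
  rw [ModuleCat.hasProjectiveDimensionLE_iff_forall_primeSpectrum N Mc]
  intro p
  have hp : projectiveDimension (ModuleCat.of (Localization.AtPrime p.asIdeal)
        (LocalizedModule p.asIdeal.primeCompl M)) ≤ N := hN (Set.mem_univ p)
  rw [projectiveDimension_le_iff] at hp
  have e : (Mc.localizedModule p.1.primeCompl) ≃ₗ[Localization p.asIdeal.primeCompl]
      (ModuleCat.of (Localization p.asIdeal.primeCompl)
        (LocalizedModule p.asIdeal.primeCompl M)) :=
    Shrink.linearEquiv (Localization p.asIdeal.primeCompl) (LocalizedModule p.asIdeal.primeCompl M)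
  have hp' : HasProjectiveDimensionLE (ModuleCat.of (Localization p.asIdeal.primeCompl)
        (LocalizedModule p.asIdeal.primeCompl M)) N := hp
  exact ModuleCat.hasProjectiveDimensionLE_of_linearEquiv e.symm N


end Groth.Agent.S5165
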