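import Groth.Statements.S5166
import Mathlib
import Groth.Agent.Lib.Helper13.GDomain
-- import your own Groth.Agent.* helpers here

set_option autoImplicit false
universe u
open LocCoh

namespace Groth.Agent.S5166

/-- In its local form at a point y ∈ Y (A = O_{X,y}). Let A be a Noetherian local ring and I ≠ A an
ideal contained in no minimal prime of A. Then some prime p ⊉ I has dim A/p = 1. -/
theorem result (A : Type u) [CommRing A] [IsLocalRing A] [IsNoetherianRing A] (I : Ideal A) (hI : I ≠ ⊤) (hdense : ∀ q ∈ minimalPrimes A, ¬ I ≤ q) : ∃ p : PrimeSpectrum A, ¬ I ≤ p.asIdeal ∧ ringKrullDim (A ⧸ p.asIdeal) = 1 := by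
  classical
  -- the set of primes not containing `I`
  let S : Set (Ideal A) := {p | p.IsPrime ∧ ¬ I ≤ p}
  have hS : S.Nonempty := by
    obtain ⟨q, hq, -⟩ := Ideal.exists_minimalPrimes_le
      (bot_le : (⊥ : Ideal A) ≤ IsLocalRing.maximalIdeal A)
    exact ⟨q, hq.1.1, hdense q hq⟩
  obtain ⟨p, ⟨hp, hIp⟩, hmax⟩ :=
    set_has_maximal_iff_noetherian.mpr (inferInstance : IsNoetherian A A) S hS
  refine ⟨⟨p, hp⟩, hIp, ?_⟩
  show ringKrullDim (A ⧸ p) = 1
  obtain ⟨f, hfI, hfp⟩ := SetLike.not_le_iff_exists.mp hIp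
  have hdom : IsDomain (A ⧸ p) := Ideal.Quotient.isDomain p
  set π := Ideal.Quotient.mk p with hπ
  have hπs : Function.Surjective π := Ideal.Quotient.mk_surjective
  have hf0 : π f ≠ 0 := by
    rw [Ne, Ideal.Quotient.eq_zero_iff_mem]; exact hfp
  have hall : ∀ P : Ideal (A ⧸ p), P.IsPrime → P ≠ ⊥ → π f ∈ P := by
    intro P hP hP0
    have hq : (P.comap π).IsPrime := Ideal.comap_isPrime π P
    have hpq : p ≤ P.comap π := by
      intro x hx
      show π x ∈ P
      rw [Ideal.Quotient.eq_zero_iff_mem.mpr hx]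
      exact P.zero_mem
    have hne : p ≠ P.comap π := by
      intro he
      apply hP0
      rw [eq_bot_iff]
      intro y hy
      obtain ⟨x, rfl⟩ := hπs y
      have : x ∈ P.comap π := hy
      rw [← he] at this
      exact (Submodule.mem_bot _).mpr (Ideal.Quotient.eq_zero_iff_mem.mpr this)
    have hnot : ¬ (P.comap π ∈ S) := fun hmem => hmax _ hmem (lt_of_le_of_ne hpq hne)
    have hI' : I ≤ P.comap π := by
      by_contra hcon
      exact hnot ⟨hq, hcon⟩
    exact hI' hfI
  apply le_antisymm
  · rw [ringKrullDim_le_iff_height_le]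
    intro P hP
    by_cases hP0 : P = ⊥
    · rw [hP0, Ideal.height_bot]
      exact zero_le_one
    · have hmem := Groth.Agent.Lib.helper13.mem_minimalPrimes_span_of_forall_mem (π f) hf0 hall P hP0
      have := Ideal.height_le_one_of_isPrincipal_of_mem_minimalPrimes (Ideal.span {π f}) P hmem
      exact_mod_cast this
  · have hIm : I ≤ IsLocalRing.maximalIdeal A := IsLocalRing.le_maximalIdeal hI
    have hpm : p ≤ IsLocalRing.maximalIdeal A := IsLocalRing.le_maximalIdeal hp.ne_top
    have hpm' : p ≠ IsLocalRing.maximalIdeal A := fun he => hIp (he ▸ hIm)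
    have hker : RingHom.ker π = p := Ideal.mk_ker
    have hmprime : ((IsLocalRing.maximalIdeal A).map π).IsPrime :=
      Ideal.map_isPrime_of_surjective hπs (hker.trans_le hpm)
    have hmne : (IsLocalRing.maximalIdeal A).map π ≠ ⊥ := by
      intro hbot
      have h1 : IsLocalRing.maximalIdeal A ≤ RingHom.ker π := (Ideal.map_eq_bot_iff_le_ker π).mp hbot
      exact hpm' (le_antisymm hpm (h1.trans (le_of_eq hker)))
    rw [ringKrullDim, Order.one_le_krullDim_iff]
    refine ⟨⟨⊥, Ideal.isPrime_bot⟩, ⟨_, hmprime⟩, ?_⟩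
    exact lt_of_le_of_ne (by exact bot_le (a := (IsLocalRing.maximalIdeal A).map π))
      (fun he => hmne (congrArg PrimeSpectrum.asIdeal he).symm)

end Groth.Agent.S5166
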