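import Groth.Statements.S5168
import Mathlib

set_option autoImplicit false
universe u
open InjHull

namespace Groth.Agent.S5168

-- MARK


/-- Let A be a Noetherian ring, J an ideal and H a J-power torsion A-module. Then H is injective if and
only if Hom_A(−, H) is exact on finite A-modules killed by a power of J, i.e. every linear map to H
from a submodule of such a module M extends to M. -/
theorem result (A : Type u) [CommRing A] [IsNoetherianRing A] (J : Ideal A) (H : Type u) [AddCommGroup H] [Module A H] (hH : LocCoh.IsPowerTorsion J H) : Module.Injective A H ↔ ∀ (M : Type u) [AddCommGroup M] [Module A M], Module.Finite A M → (∃ k : ℕ, (J ^ k) • (⊤ : Submodule A M) = ⊥) → ∀ (N : Submodule A M) (g : N →ₗ[A] H), ∃ g' : M →ₗ[A] H, g'.comp N.subtype = g := by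
  classical
  constructor
  · intro hinj M _ _ _ _ N g
    obtain ⟨g', hg'⟩ := Module.Injective.out N.subtype N.injective_subtype g
    exact ⟨g', LinearMap.ext hg'⟩
  · intro hext
    apply Module.Baer.injective
    intro a f
    have hfg : (a : Submodule A A).FG := IsNoetherian.noetherian a
    obtain ⟨s, hs⟩ := hfg
    have hs' : Submodule.span A (s : Set A) = a := hs
    have hn : ∃ n : ℕ, ∀ y ∈ s, ∀ (hy : y ∈ a), ∀ r ∈ J ^ n, r • f ⟨y, hy⟩ = 0 := by
      clear hs hs'
      induction s using Finset.induction_on with
      | empty => exact ⟨0, fun y hy => absurd hy (Finset.notMem_empty y)⟩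
      | insert z s _ ih =>
        obtain ⟨n, hn⟩ := ih
        by_cases hz : z ∈ a
        · obtain ⟨n', hn'⟩ := hH (f ⟨z, hz⟩)
          refine ⟨n + n', ?_⟩
          intro y hy hya r hr
          rcases Finset.mem_insert.1 hy with rfl | hy
          · exact hn' r (Ideal.pow_le_pow_right (Nat.le_add_left n' n) hr)
          · exact hn y hy hya r (Ideal.pow_le_pow_right (Nat.le_add_right n n') hr)
        · refine ⟨n, ?_⟩
          intro y hy hya r hr
          rcases Finset.mem_insert.1 hy with rfl | hy
          · exact absurd hya hz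
          · exact hn y hy hya r hr
    obtain ⟨n, hn⟩ := hn
    have hA : ∀ (y : A) (hy : y ∈ a), ∀ r ∈ J ^ n, r • f ⟨y, hy⟩ = 0 := by
      intro y hy
      have hy' : y ∈ Submodule.span A (s : Set A) := by rw [hs']; exact hy
      have hgen : ∀ (z : A) (hz : z ∈ Submodule.span A (s : Set A)),
          ∀ hza : z ∈ a, ∀ r ∈ J ^ n, r • f ⟨z, hza⟩ = 0 := by
        intro z hz
        induction hz using Submodule.span_induction with
        | mem z hz => exact fun hza r hr => hn z hz hza r hr
        | zero =>
          intro hza r _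
          have : (⟨0, hza⟩ : a) = 0 := rfl
          rw [this, map_zero, smul_zero]
        | add z w hz hw ihz ihw =>
          intro hza r hr
          have hz' : z ∈ a := by rw [← hs']; exact hz
          have hw' : w ∈ a := by rw [← hs']; exact hw
          have : (⟨z + w, hza⟩ : a) = ⟨z, hz'⟩ + ⟨w, hw'⟩ := rfl
          rw [this, map_add, smul_add, ihz hz' r hr, ihw hw' r hr, add_zero]
        | smul c z hz ihz =>
          intro hza r hr
          have hz' : z ∈ a := by rw [← hs']; exact hz
          have : (⟨c • z, hza⟩ : a) = c • ⟨z, hz'⟩ := rfl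
          rw [this, map_smul, smul_comm, ihz hz' r hr, smul_zero]
      exact hgen y hy' hy
    have hkill : ∀ (y : A) (hy : y ∈ a), y ∈ J ^ n • (a : Submodule A A) → f ⟨y, hy⟩ = 0 := by
      intro y hy hmem
      revert hy
      induction hmem using Submodule.smul_induction_on' with
      | smul r hr z hz =>
        intro hy
        have : (⟨r • z, hy⟩ : a) = r • ⟨z, hz⟩ := rfl
        rw [this, map_smul]
        exact hA z hz r hr
      | add x hx y hy ihx ihy =>
        intro hxy
        have hx' : x ∈ a := Submodule.smul_le_right hx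
        have hy' : y ∈ a := Submodule.smul_le_right hy
        have : (⟨x + y, hxy⟩ : a) = ⟨x, hx'⟩ + ⟨y, hy'⟩ := rfl
        rw [this, map_add, ihx hx', ihy hy', add_zero]
    obtain ⟨k, hk⟩ := Ideal.exists_pow_inf_eq_pow_smul J (a : Submodule A A)
    have hAR : ∀ y : A, y ∈ J ^ (n + k) → y ∈ a → y ∈ J ^ n • (a : Submodule A A) := by
      intro y hym hya
      have h1 : y ∈ J ^ (n + k) • (⊤ : Submodule A A) ⊓ (a : Submodule A A) := by
        refine ⟨?_, hya⟩
        rw [smul_eq_mul, Ideal.mul_top]
        exact hym
      rw [hk (n + k) (Nat.le_add_left k n), Nat.add_sub_cancel] at h1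
      exact Submodule.smul_mono le_rfl inf_le_right h1
    -- the finite module `A ⧸ J^(n+k)` and the image of `a` in it
    let Q : Ideal A := J ^ (n + k)
    let Nsub : Submodule A (A ⧸ Q) := Submodule.map (Submodule.mkQ Q) a
    let π : a →ₗ[A] Nsub := (Submodule.mkQ Q).restrict (p := a) (q := Nsub) (fun x hx => ⟨x, hx, rfl⟩)
    have hπsurj : Function.Surjective π := by
      rintro ⟨_, ⟨x, hx, rfl⟩⟩
      exact ⟨⟨x, hx⟩, rfl⟩
    have hker : LinearMap.ker π ≤ LinearMap.ker f := by
      intro x hx
      rw [LinearMap.mem_ker] at hx ⊢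
      have h1 : (Submodule.mkQ Q) (x : A) = 0 := congrArg Subtype.val hx
      have h2 : (x : A) ∈ Q := (Submodule.Quotient.mk_eq_zero Q).1 h1
      exact hkill x x.2 (hAR x h2 x.2)
    let g : Nsub →ₗ[A] H :=
      ((LinearMap.ker π).liftQ f hker).comp (LinearMap.quotKerEquivOfSurjective π hπsurj).symm.toLinearMap
    have hg : ∀ x : a, g (π x) = f x := by
      intro x
      show ((LinearMap.ker π).liftQ f hker) ((LinearMap.quotKerEquivOfSurjective π hπsurj).symm (π x)) = f x
      have : (LinearMap.quotKerEquivOfSurjective π hπsurj).symm (π x) = Submodule.Quotient.mk x := by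
        rw [LinearEquiv.symm_apply_eq]
        rfl
      rw [this]
      rfl
    have hfin : Module.Finite A (A ⧸ Q) := inferInstance
    have hkillQ : ∃ k' : ℕ, (J ^ k') • (⊤ : Submodule A (A ⧸ Q)) = ⊥ := by
      refine ⟨n + k, ?_⟩
      rw [eq_bot_iff]
      intro x hx
      refine Submodule.smul_induction_on hx ?_ ?_
      · intro r hr z _
        obtain ⟨w, rfl⟩ := Submodule.Quotient.mk_surjective Q z
        rw [Submodule.mem_bot, ← Submodule.Quotient.mk_smul, Submodule.Quotient.mk_eq_zero]
        exact Ideal.mul_mem_right w Q hr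
      · intro x y hx hy
        exact add_mem hx hy
    obtain ⟨g', hg'⟩ := hext (A ⧸ Q) hfin hkillQ Nsub g
    refine ⟨g'.comp (Submodule.mkQ Q), fun x hx => ?_⟩
    rw [LinearMap.comp_apply, ← hg ⟨x, hx⟩, ← hg']
    rfl

end Groth.Agent.S5168
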