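import Groth.Statements.S5171
import Mathlib
import Groth.Agent.S0318
import Groth.Agent.Lib.Helper26.DepthLoc2
import Groth.Agent.Lib.Helper19.FaltB

set_option autoImplicit false
universe u
open LocCoh

namespace Groth.Agent.S5171

-- MARK
section Aux
open Groth.Agent.Lib.helper26.Depth

variable {R : Type u} [CommRing R] [IsNoetherianRing R] (I : Ideal R)
  (M : Type u) [AddCommGroup M] [Module R M] [Module.Finite R M]

theorem vanish_iff_le_idealDepth (n : ℕ) :
    (∀ i : ℕ, i < n → Subsingleton (LocCoh.H I i M)) ↔ (n : ℕ∞) ≤ LocCoh.idealDepth I M := by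
  constructor
  · intro h
    by_cases hIM : I • (⊤ : Submodule R M) = ⊤
    · rw [idealDepth_eq_top_of_smul_top_eq_top I M hIM]; exact le_top
    · have hne := idealDepth_ne_top I M hIM
      obtain ⟨k, hk⟩ := ENat.ne_top_iff_exists.mp hne
      have hk' : LocCoh.idealDepth I M = k := hk.symm
      rw [hk']
      have h2 := ((Groth.Agent.S0318.result R I M hIM k).1 hk').2
      by_contra hlt
      have hkn : k < n := by
        by_contra h3
        exact hlt (by exact_mod_cast not_lt.1 h3)
      have := h k hkn
      exact not_subsingleton _ this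
  · intro h i hi
    exact Groth.Agent.S0318.H_vanish_below I M i (lt_of_lt_of_le (by exact_mod_cast hi) h)

end Aux



/-- Let A be a Noetherian ring, J an ideal, n ≥ 0 and G a finite Cohen–Macaulay A-module (each
localization G_p is zero or Cohen–Macaulay). Then H^i_J(G) = 0 for i < n if and only if codim(V(J) ∩
Supp G, Supp G) ≥ n, i.e. dim Supp(G_p) ≥ n for every p ∈ V(J) ∩ Supp G. -/
theorem result (A : Type u) [CommRing A] [IsNoetherianRing A] (J : Ideal A) (G : Type u) [AddCommGroup G] [Module A G] [Module.Finite A G] (hCM : ∀ p : PrimeSpectrum A, Subsingleton (LocalizedModule p.asIdeal.primeCompl G) ∨ LocCoh.IsCohenMacaulayModule (Localization.AtPrime p.asIdeal) (LocalizedModule p.asIdeal.primeCompl G)) (n : ℕ) : (∀ i : ℕ, i < n → Subsingleton (LocCoh.H J i G)) ↔ ∀ p : PrimeSpectrum A, J ≤ p.asIdeal → p ∈ Module.support A G → (n : WithBot ℕ∞) ≤ Module.supportDim (Localization.AtPrime p.asIdeal) (LocalizedModule p.asIdeal.primeCompl G) := by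
  rw [vanish_iff_le_idealDepth, Groth.Agent.Lib.helper26.Depth.idealDepth_eq_iInf_depth_localization J G]
  constructor
  · intro h p hJp hp
    have h1 : (n : ℕ∞) ≤ LocCoh.depth (Localization.AtPrime p.asIdeal)
        (LocalizedModule p.asIdeal.primeCompl G) := (le_iInf₂_iff.1 h) p hJp
    rcases hCM p with hs | hcm
    · exfalso
      rw [Module.mem_support_iff] at hp
      exact not_subsingleton _ hs
    · unfold LocCoh.IsCohenMacaulayModule at hcm
      rw [hcm]
      exact_mod_cast h1
  · intro h
    refine le_iInf₂ fun p hJp => ?_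
    by_cases hp : p ∈ Module.support A G
    · rcases hCM p with hs | hcm
      · rw [Groth.Agent.Lib.helper19.FaltB.depth_eq_top_of_subsingleton]; exact le_top
      · have h1 := h p hJp hp
        unfold LocCoh.IsCohenMacaulayModule at hcm
        rw [hcm] at h1
        exact_mod_cast h1
    · rw [Module.mem_support_iff, not_nontrivial_iff_subsingleton] at hp
      rw [Groth.Agent.Lib.helper19.FaltB.depth_eq_top_of_subsingleton]; exact le_top

end Groth.Agent.S5171
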