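import Groth.Statements.S5175
import Mathlib
import Groth.Agent.S5155
import Groth.Agent.S0301

set_option autoImplicit false
universe u
open Matlis

namespace Groth.Agent.S5175

-- MARK
section Aux
open CategoryTheory

variable (k₀ : Type u) [Field k₀] (A : Type u) [CommRing A] [Algebra k₀ A]

/-- the coextension -/
noncomputable abbrev C : ModuleCat.{u} A := (ModuleCat.coextendScalars (algebraMap k₀ A)).obj (ModuleCat.of k₀ k₀)

theorem C_injective : Module.Injective A (C k₀ A) := by
  have h1 : Module.Injective k₀ k₀ := Module.injective_of_isSemisimpleRing k₀ k₀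
  have h2 : Injective (ModuleCat.of k₀ k₀) := Module.injective_object_of_injective_module k₀ k₀
  have h3 : Injective (C k₀ A) :=
    Injective.injective_of_adjoint (ModuleCat.restrictCoextendScalarsAdj (algebraMap k₀ A)) (ModuleCat.of k₀ k₀)
  exact Module.injective_module_of_injective_object A (C k₀ A)

/-- build an element of `C` from a `k₀`-linear form on `A` -/
noncomputable def toC (l : A →ₗ[k₀] k₀) : C k₀ A :=
  (ModuleCat.CoextendScalars.equiv (algebraMap k₀ A) (ModuleCat.of k₀ k₀)).symm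
    { toFun := fun x => l x
      map_add' := fun x y => l.map_add x y
      map_smul' := by
        intro c x
        change l (algebraMap k₀ A c * (show A from x)) = c • l (show A from x)
        rw [← Algebra.smul_def, l.map_smul] }

theorem toC_apply (l : A →ₗ[k₀] k₀) (x : A) : (toC k₀ A l) x = l x := rfl

theorem smul_apply (a : A) (g : C k₀ A) (x : A) : (a • g) x = g (x * a) := rfl

theorem C_map_add (g : C k₀ A) (x y : A) : g (x + y) = g x + g y :=
  (ModuleCat.CoextendScalars.equiv (algebraMap k₀ A) (ModuleCat.of k₀ k₀) g).map_add x y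

theorem C_map_smul (g : C k₀ A) (c : k₀) (x : A) : g (c • x) = c * g x := by
  have := (ModuleCat.CoextendScalars.equiv (algebraMap k₀ A) (ModuleCat.of k₀ k₀) g).map_smul c x
  rw [Algebra.smul_def]
  exact this

theorem C_ext (g g' : C k₀ A) (h : ∀ x : A, g x = g' x) : g = g' :=
  ModuleCat.CoextendScalars.ext (LinearMap.ext h)

theorem C_add_apply (g g' : C k₀ A) (x : A) : (g + g') x = g x + g' x := rfl
theorem C_zero_apply (x : A) : (0 : C k₀ A) x = 0 := rfl

/-- the underlying linear form -/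
noncomputable def ofC (g : C k₀ A) : A →ₗ[k₀] k₀ where
  toFun x := g x
  map_add' := C_map_add k₀ A g
  map_smul' c x := by simpa using C_map_smul k₀ A g c x

variable [IsLocalRing A]

/-- the torsion part -/
noncomputable abbrev E' : Submodule A (C k₀ A) :=
  ⨆ n : ℕ, Submodule.torsionBySet A (C k₀ A) ((IsLocalRing.maximalIdeal A ^ n : Ideal A) : Set A)

theorem mem_E'_of_smul (g : C k₀ A) (h : ∀ a ∈ IsLocalRing.maximalIdeal A, a • g = 0) :
    g ∈ E' k₀ A := by
  refine Submodule.mem_iSup_of_mem 1 ?_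
  rw [Submodule.mem_torsionBySet_iff]
  rintro ⟨a, ha⟩
  rw [pow_one] at ha
  exact h a ha

/-- a form on the residue field gives a map `k → E'` -/
noncomputable def Φ (l : (A ⧸ IsLocalRing.maximalIdeal A) →ₗ[k₀] k₀) :
    (A ⧸ IsLocalRing.maximalIdeal A) →ₗ[A] E' k₀ A where
  toFun y := ⟨toC k₀ A (l ∘ₗ (LinearMap.mulRight k₀ y) ∘ₗ
      (Ideal.Quotient.mkₐ k₀ (IsLocalRing.maximalIdeal A)).toLinearMap), by
    apply mem_E'_of_smul
    intro a ha
    apply C_ext
    intro x
    change l (Ideal.Quotient.mk _ (x * a) * y) = 0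
    rw [(Ideal.Quotient.mk (IsLocalRing.maximalIdeal A)).map_mul x a,
      Ideal.Quotient.eq_zero_iff_mem.2 ha, mul_zero, zero_mul, map_zero]⟩
  map_add' y z := by
    apply Subtype.ext
    apply C_ext
    intro x
    change l (Ideal.Quotient.mk _ x * (y + z)) = l (Ideal.Quotient.mk _ x * y) + l (Ideal.Quotient.mk _ x * z)
    rw [mul_add, map_add]
  map_smul' a y := by
    apply Subtype.ext
    apply C_ext
    intro x
    change l (Ideal.Quotient.mk _ x * (a • y)) = l (Ideal.Quotient.mk _ (x * a) * y)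
    rw [Algebra.smul_def, Ideal.Quotient.algebraMap_eq,
      (Ideal.Quotient.mk (IsLocalRing.maximalIdeal A)).map_mul x a, mul_assoc]

theorem Φ_apply (l : (A ⧸ IsLocalRing.maximalIdeal A) →ₗ[k₀] k₀) (y : A ⧸ IsLocalRing.maximalIdeal A)
    (x : A) : ((Φ k₀ A l y : E' k₀ A) : C k₀ A) x = l (Ideal.Quotient.mk _ x * y) := rfl

theorem apply_mk (φ : (A ⧸ IsLocalRing.maximalIdeal A) →ₗ[A] E' k₀ A) (y x : A) :
    ((φ (Ideal.Quotient.mk _ y) : E' k₀ A) : C k₀ A) x = ((φ 1 : E' k₀ A) : C k₀ A) (x * y) := by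
  have h1 : (Ideal.Quotient.mk (IsLocalRing.maximalIdeal A) y) = y • (1 : A ⧸ IsLocalRing.maximalIdeal A) := by
    rw [Algebra.smul_def, mul_one]; rfl
  rw [h1, φ.map_smul]
  rfl

theorem apply_one_of_mem (φ : (A ⧸ IsLocalRing.maximalIdeal A) →ₗ[A] E' k₀ A) (a : A)
    (ha : a ∈ IsLocalRing.maximalIdeal A) : ((φ 1 : E' k₀ A) : C k₀ A) a = 0 := by
  have h1 := apply_mk k₀ A φ a 1
  rw [one_mul] at h1
  rw [← h1, Ideal.Quotient.eq_zero_iff_mem.2 ha, map_zero]
  rfl

/-- the form on the residue field attached to `φ` -/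
noncomputable def lam (φ : (A ⧸ IsLocalRing.maximalIdeal A) →ₗ[A] E' k₀ A) :
    (A ⧸ IsLocalRing.maximalIdeal A) →ₗ[k₀] k₀ :=
  (((IsLocalRing.maximalIdeal A).restrictScalars k₀).liftQ (ofC k₀ A ((φ 1 : E' k₀ A) : C k₀ A))
    (fun a ha => apply_one_of_mem k₀ A φ a ha)) ∘ₗ
    (Submodule.Quotient.restrictScalarsEquiv k₀ (IsLocalRing.maximalIdeal A)).symm.toLinearMap

theorem lam_mk (φ : (A ⧸ IsLocalRing.maximalIdeal A) →ₗ[A] E' k₀ A) (x : A) :
    lam k₀ A φ (Ideal.Quotient.mk _ x) = ((φ 1 : E' k₀ A) : C k₀ A) x := rfl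

theorem apply_mk' (φ : (A ⧸ IsLocalRing.maximalIdeal A) →ₗ[A] E' k₀ A) (y x : A) :
    ((φ (Ideal.Quotient.mk _ y) : E' k₀ A) : C k₀ A) x = lam k₀ A φ (Ideal.Quotient.mk _ (x * y)) := by
  rw [lam_mk, apply_mk]

theorem eq_zero_of_lam_eq_zero (φ : (A ⧸ IsLocalRing.maximalIdeal A) →ₗ[A] E' k₀ A)
    (h : lam k₀ A φ = 0) : φ = 0 := by
  apply LinearMap.ext
  intro y
  obtain ⟨y, rfl⟩ := Ideal.Quotient.mk_surjective y
  apply Subtype.ext
  apply C_ext
  intro x
  rw [apply_mk', h]
  rfl

variable [Module.Finite k₀ (A ⧸ IsLocalRing.maximalIdeal A)]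

theorem isSimple : IsSimpleModule A ((A ⧸ IsLocalRing.maximalIdeal A) →ₗ[A] E' k₀ A) := by
  rw [isSimpleModule_iff_toSpanSingleton_surjective]
  let _ : Field (A ⧸ IsLocalRing.maximalIdeal A) := Ideal.Quotient.field (IsLocalRing.maximalIdeal A)
  refine ⟨?_, ?_⟩
  · obtain ⟨l, hl⟩ : ∃ l : (A ⧸ IsLocalRing.maximalIdeal A) →ₗ[k₀] k₀, l 1 = 1 := by
      have hinj : Function.Injective
          (LinearMap.toSpanSingleton k₀ (A ⧸ IsLocalRing.maximalIdeal A) 1) := by
        rw [injective_iff_map_eq_zero]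
        intro c hc
        rw [LinearMap.toSpanSingleton_apply] at hc
        rcases smul_eq_zero.1 hc with h | h
        · exact h
        · exact absurd h one_ne_zero
      obtain ⟨g, hg⟩ := LinearMap.exists_leftInverse_of_injective _ (LinearMap.ker_eq_bot.2 hinj)
      refine ⟨g, ?_⟩
      have := LinearMap.congr_fun hg 1
      simpa [LinearMap.toSpanSingleton_apply] using this
    refine ⟨⟨Φ k₀ A l, 0, ?_⟩⟩
    intro h
    have h2 : ((Φ k₀ A l 1 : E' k₀ A) : C k₀ A) (1 : A) = 0 := by
      rw [h]; rfl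
    rw [Φ_apply, map_one, mul_one, hl] at h2
    exact one_ne_zero h2
  · intro φ hφ ψ
    have hlam : lam k₀ A φ ≠ 0 := fun h => hφ (eq_zero_of_lam_eq_zero k₀ A φ h)
    let T : (A ⧸ IsLocalRing.maximalIdeal A) →ₗ[k₀] Module.Dual k₀ (A ⧸ IsLocalRing.maximalIdeal A) :=
      { toFun := fun a => lam k₀ A φ ∘ₗ LinearMap.mulRight k₀ a
        map_add' := fun a b => by
          apply LinearMap.ext; intro y
          simp [mul_add]
        map_smul' := fun c a => by
          apply LinearMap.ext; intro y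
          simp }
    have hT : ∀ a y, T a y = lam k₀ A φ (y * a) := fun a y => rfl
    have hTinj : Function.Injective T := by
      rw [injective_iff_map_eq_zero]
      intro a ha
      by_contra hne
      apply hlam
      apply LinearMap.ext; intro y
      have := LinearMap.congr_fun ha (y * a⁻¹)
      rw [hT, mul_assoc, inv_mul_cancel₀ hne, mul_one] at this
      exact this
    have hTsurj : Function.Surjective T :=
      (LinearMap.injective_iff_surjective_of_finrank_eq_finrank
        (Subspace.dual_finrank_eq (K := k₀) (V := A ⧸ IsLocalRing.maximalIdeal A)).symm).1 hTinj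
    obtain ⟨abar, ha⟩ := hTsurj (lam k₀ A ψ)
    obtain ⟨a, rfl⟩ := Ideal.Quotient.mk_surjective abar
    refine ⟨a, ?_⟩
    rw [LinearMap.toSpanSingleton_apply]
    apply LinearMap.ext; intro y
    obtain ⟨y, rfl⟩ := Ideal.Quotient.mk_surjective y
    apply Subtype.ext; apply C_ext; intro x
    rw [apply_mk' k₀ A ψ, ← ha, hT]
    change ((φ (Ideal.Quotient.mk _ y) : E' k₀ A) : C k₀ A) (x * a) = _
    rw [apply_mk' k₀ A φ, ← map_mul]
    congr 2
    ring


end Aux



/-- Let k₀ be a field and A a Noetherian local k₀-algebra with [k : k₀] finite, k the residue field.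
Then the topological dual A' = colim_n Hom_{k₀}(A/m^n, k₀), i.e. the submodule of Hom_{k₀}(A, k₀) of
forms killing some power of m (A acting through the source), is an injective hull of k (it is the
dualizing module of A). -/
theorem result (k₀ : Type u) [Field k₀] (A : Type u) [CommRing A] [IsLocalRing A] [IsNoetherianRing A] [Algebra k₀ A] [Module.Finite k₀ (A ⧸ IsLocalRing.maximalIdeal A)] : ∃ f : IsLocalRing.ResidueField A →ₗ[A] ↥(⨆ n : ℕ, Submodule.torsionBySet A ((ModuleCat.coextendScalars (algebraMap k₀ A)).obj (ModuleCat.of k₀ k₀)) ((IsLocalRing.maximalIdeal A ^ n : Ideal A) : Set A)), InjHull.IsInjectiveHull f := by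
  rw [Groth.Agent.S5155.result]
  refine ⟨?_, ?_, ?_⟩
  · exact Groth.Agent.S0301.result A (C k₀ A) (C_injective k₀ A) (IsLocalRing.maximalIdeal A)
  · intro x
    have hmono : Monotone (fun n : ℕ => Submodule.torsionBySet A (C k₀ A)
        ((IsLocalRing.maximalIdeal A ^ n : Ideal A) : Set A)) := by
      intro a b hab
      apply Submodule.torsionBySet_le_torsionBySet_of_subset
      exact Ideal.pow_le_pow_right hab
    obtain ⟨n, hn⟩ := (Submodule.mem_iSup_of_directed _ hmono.directed_le).1 x.2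
    refine ⟨n, fun a ha => ?_⟩
    apply Subtype.ext
    exact (Submodule.mem_torsionBySet_iff _ _).1 hn ⟨a, ha⟩
  · exact isSimple k₀ A

end Groth.Agent.S5175
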