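import Groth.Statements.S5178
import Mathlib
import Groth.Agent.Lib.Helper17.CINum9

set_option autoImplicit false
set_option linter.style.haveILetI false
universe u
open CInt

namespace Groth.Agent.S5178

/-- Let A be a Noetherian local ring of dimension d, and let the completion of A be presented as B/I
with B a regular local ring of dimension e and I an ideal whose minimal number of generators is q,
so that e − q is the geometric depth of A (this number does not depend on the presentation). Then e
− q ≤ d, and equality holds if and only if A is a complete intersection, i.e. its completion is a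
regular local ring modulo an ideal generated by a regular sequence. -/
theorem result (A : Type u) [CommRing A] [IsLocalRing A] [IsNoetherianRing A] (B : Type u) [CommRing B] [IsRegularLocalRing B] (I : Ideal B) (hpres : Nonempty (AdicCompletion (IsLocalRing.maximalIdeal A) A ≃+* B ⧸ I)) (d e : ℕ) (hd : ringKrullDim A = (d : WithBot ℕ∞)) (he : ringKrullDim B = (e : WithBot ℕ∞)) : (e : ℤ) - (I.spanFinrank : ℤ) ≤ (d : ℤ) ∧ ((e : ℤ) - (I.spanFinrank : ℤ) = (d : ℤ) ↔ Pi1.IsCompleteIntersection A) := by
  classical
  obtain ⟨ε⟩ := hpres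
  haveI : IsNoetherianRing (AdicCompletion (IsLocalRing.maximalIdeal A) A) :=
    Groth.Agent.Lib.Helper24.CplCM.isNoetherianRing_cpl A
  have hI : I ≠ ⊤ := by
    rintro rfl
    haveI : Subsingleton (B ⧸ (⊤ : Ideal B)) := Ideal.Quotient.subsingleton_iff.mpr rfl
    haveI : Subsingleton (AdicCompletion (IsLocalRing.maximalIdeal A) A) :=
      ε.injective.subsingleton
    exact not_subsingleton (AdicCompletion (IsLocalRing.maximalIdeal A) A) inferInstance
  have hIle : I ≤ IsLocalRing.maximalIdeal B := IsLocalRing.le_maximalIdeal hI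
  have hdimC : ringKrullDim (AdicCompletion (IsLocalRing.maximalIdeal A) A) = (d : WithBot ℕ∞) := by
    rw [Groth.Agent.Lib.Helper24.FlatLocalFibre.ringKrullDim_eq_of_flat A _
      (Groth.Agent.Lib.Helper24.CplCM.map_maximalIdeal_cpl A), hd]
  have hdimBI : ringKrullDim (B ⧸ I) = (d : WithBot ℕ∞) := by
    rw [← ringKrullDim_eq_of_ringEquiv ε, hdimC]
  have hkrull := ringKrullDim_le_ringKrullDim_quotient_add_spanFinrank I (by
    rw [IsLocalRing.ringJacobson_eq_maximalIdeal]; exact hIle)
  rw [he, hdimBI] at hkrull
  have hk : e ≤ d + I.spanFinrank := by exact_mod_cast hkrull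
  have hnum := Groth.Agent.Lib.helper17.CINum.num_iff_nat B I e d he hdimBI
  have hreg := Groth.Agent.Lib.helper17.CINum.isRegGen_iff_num B I hI
  have hCI : Groth.Agent.Lib.helper17.CINum.IsRegGen B I ↔ Pi1.IsCompleteIntersection A := by
    constructor
    · rintro ⟨rs, hrs, hregs⟩
      refine ⟨B, inferInstance, inferInstance, rs, ?_, hregs, ⟨ε.trans (Ideal.quotEquivOfEq ?_)⟩⟩
      · intro r hr
        exact hIle (hrs ▸ Ideal.subset_span hr)
      · exact hrs.symm
    · rintro ⟨B', _, hB', rs', hmem', hreg', ⟨ε'⟩⟩
      let g : B →+* AdicCompletion (IsLocalRing.maximalIdeal A) A :=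
        (ε.symm : _ →+* _).comp (Ideal.Quotient.mk I)
      let g' : B' →+* AdicCompletion (IsLocalRing.maximalIdeal A) A :=
        (ε'.symm : _ →+* _).comp (Ideal.Quotient.mk (Ideal.span {r | r ∈ rs'}))
      have hg : Function.Surjective g := ε.symm.surjective.comp Ideal.Quotient.mk_surjective
      have hg' : Function.Surjective g' := ε'.symm.surjective.comp Ideal.Quotient.mk_surjective
      have hker : RingHom.ker g = I := by
        have h1 := RingHom.ker_equiv_comp (Ideal.Quotient.mk I) ε.symm
        rw [Ideal.mk_ker] at h1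
        exact h1
      have hker' : RingHom.ker g' = Ideal.ofList rs' := by
        have h1 := RingHom.ker_equiv_comp (Ideal.Quotient.mk (Ideal.span {r | r ∈ rs'})) ε'.symm
        rw [Ideal.mk_ker] at h1
        exact h1
      have h2 := Groth.Agent.Lib.helper17.CINum.isRegGen_iff_of_surjective g g' hg hg'
      rw [hker] at h2
      rw [h2]
      exact ⟨rs', hker'.symm, hreg'⟩
  refine ⟨by omega, ?_⟩
  rw [← hCI, hreg, hnum]
  constructor
  · intro h; omega
  · intro h; omega

end Groth.Agent.S5178
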