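import Groth.Statements.S5182
import Mathlib
import Groth.Agent.Lib.Helper26.NF6

set_option autoImplicit false
universe u
open CInt

namespace Groth.Agent.S5182

/-- In the local algebraic form to which its proof reduces. Let A be a Noetherian local ring, J a proper
ideal such that A is normally flat along J, i.e. every J^k/J^{k+1} is a flat (equivalently free)
A/J-module, and f_1, …, f_r elements of A whose images form a weakly regular sequence on A/J (each
f_i a non-zero-divisor on A/J modulo the preceding ones). Then for every k ≥ 0 the f_i form a weakly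
regular sequence on the A-module J^k and on the A-module J^k/J^{k+1}; in particular (k = 0) on A
itself, so that they are regular on the Rees algebra ⊕ J^k and on the associated graded ring ⊕
J^k/J^{k+1}. -/
theorem result (A : Type u) [CommRing A] [IsLocalRing A] [IsNoetherianRing A] (J : Ideal A) (hJ : J ≠ ⊤) (hflat : ∀ k : ℕ, Module.Flat (A ⧸ J) (↥(J ^ k) ⧸ (J • (⊤ : Submodule A ↥(J ^ k))))) (fs : List A) (hreg : RingTheory.Sequence.IsWeaklyRegular (A ⧸ J) fs) (k : ℕ) : RingTheory.Sequence.IsWeaklyRegular (↥(J ^ k)) fs ∧ RingTheory.Sequence.IsWeaklyRegular (↥(J ^ k) ⧸ (J • (⊤ : Submodule A ↥(J ^ k)))) fs := by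
  have h2 : ∀ k : ℕ, RingTheory.Sequence.IsWeaklyRegular
      (↥(J ^ k) ⧸ (J • (⊤ : Submodule A ↥(J ^ k)))) fs := fun k =>
    Groth.Agent.Lib.helper26.NF.isWeaklyRegular_of_isFlatOver
      (Groth.Agent.Lib.helper26.NF.isFlatOver_iff.mpr (hflat k)) fs hreg
  refine ⟨?_, h2 k⟩
  have hJjac : J ≤ (⊥ : Ideal A).jacobson :=
    (IsLocalRing.le_maximalIdeal hJ).trans (IsLocalRing.maximalIdeal_le_jacobson ⊥)
  apply Groth.Agent.Lib.helper26.NF.isWeaklyRegular_of_gr J hJjac fs ↥(J ^ k)
  intro i
  have hmap : ∀ j : ℕ, (J ^ j • (⊤ : Submodule A ↥(J ^ k))).map (Submodule.subtype (J ^ k)) =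
      J ^ (j + k) := by
    intro j
    rw [Submodule.map_smul'', Submodule.map_top, Submodule.range_subtype, smul_eq_mul, ← pow_add]
  have e1 := Groth.Agent.Lib.helper26.NF.subQMapEquiv (Submodule.subtype (J ^ k))
    (Submodule.injective_subtype _) (J ^ i • (⊤ : Submodule A ↥(J ^ k)))
    (J ^ (i + 1) • (⊤ : Submodule A ↥(J ^ k)))
  rw [hmap, hmap] at e1
  have hJJ : J • (J ^ (i + k) : Submodule A A) = J ^ (i + 1 + k) := by
    rw [smul_eq_mul, ← pow_succ']
    congr 1
    omega
  have e2 := Groth.Agent.Lib.helper26.NF.quotSMulTopEquivSubQ J (J ^ (i + k) : Submodule A A)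
  rw [hJJ] at e2
  exact ((e2.trans e1.symm).isWeaklyRegular_congr fs).mp (h2 (i + k))

end Groth.Agent.S5182
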