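import Groth.Statements.S5186
import Mathlib
import Groth.Prelude.Def_CohBC2
import Groth.Agent.Lib.Helper8.SSRefined
import Groth.Agent.Lib.Helper27.SSGroth2
import Groth.Agent.Lib.Helper21.CohWeakSerre
import Groth.Agent.S0036

set_option autoImplicit false
universe u
open CategoryTheory AlgebraicGeometry
open Coherent

namespace Groth.Agent.S5186

/-- Let f : X → S be a proper morphism of schemes with S locally Noetherian, U an open subset of X with
inclusion g : U → X, h = f ∘ g : U → S, F an O_U-module and n ≥ 0. If the higher direct images R^i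
g_*(F) are coherent O_X-modules for all i ≤ n, then the higher direct images R^i h_*(F) are coherent
O_S-modules for all i ≤ n. (The existence of injective resolutions in the module categories is
carried as instance arguments.) -/
theorem result {X S : Scheme.{u}} (f : X ⟶ S) [IsProper f] [IsLocallyNoetherian S] (U : X.Opens) [HasInjectiveResolutions (U : Scheme.{u}).Modules] [HasInjectiveResolutions X.Modules] (F : (U : Scheme.{u}).Modules) (n : ℕ) (hg : ∀ i : ℕ, i ≤ n → Coh.IsCoh ((Coh.Rpush U.ι i).obj F)) (i : ℕ) (hi : i ≤ n) : Coh.IsCoh ((Coh.Rpush (U.ι ≫ f) i).obj F) := by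
  classical
  haveI : Limits.PreservesFiniteLimits (Scheme.Modules.pushforward f) := by
    haveI : Limits.PreservesLimitsOfSize.{0, 0} (Scheme.Modules.pushforward f) :=
      (Scheme.Modules.pullbackPushforwardAdjunction f).rightAdjoint_preservesLimits
    exact Limits.PreservesLimitsOfSize.preservesFiniteLimits.{0, 0} _
  haveI : IsLocallyNoetherian X := LocallyOfFiniteType.isLocallyNoetherian f
  have hP := Groth.Agent.Lib.helper21.CohWeakSerre.weakSerre_isCoh (X := S)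
  -- the Grothendieck spectral sequence of `g_* ⋙ f_*`
  have hT : ∀ Q : (U : Scheme.{u}).Modules, Injective Q → ∀ q : ℕ, 0 < q →
      Limits.IsZero (((Scheme.Modules.pushforward f).rightDerived q).obj
        ((Scheme.Modules.pushforward U.ι).obj Q)) := by
    intro Q hQ q hq
    haveI : Injective ((Scheme.Modules.pushforward U.ι).obj Q) :=
      Functor.PreservesInjectiveObjects.injective_obj hQ
    obtain ⟨q, rfl⟩ := Nat.exists_eq_succ_of_ne_zero hq.ne'
    exact Functor.isZero_rightDerived_obj_injective_succ _ _ _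
  obtain ⟨E, a, hfin, -, hE2⟩ := Groth.Agent.Lib.helper27.SSGroth.grothendieck_ss
    (Scheme.Modules.pushforward U.ι) (Scheme.Modules.pushforward f) hT F
  -- positions
  let 𝒜 : ℤ × ℤ → Prop := fun pq => 0 ≤ pq.1 ∧ 0 ≤ pq.2 ∧ pq.1 + pq.2 ≤ n
  let ℬ : ℤ × ℤ → Prop := fun pq => 0 ≤ pq.1 ∧ 0 ≤ pq.2 ∧ pq.2 ≤ n ∧ pq.1 + pq.2 = n + 1
  let 𝒵 : ℤ × ℤ → Prop := fun pq => pq.1 < 0 ∨ pq.2 < 0
  have hcoh : ∀ pq : ℤ × ℤ, 0 ≤ pq.1 → 0 ≤ pq.2 → pq.2 ≤ n →
      Coh.IsCoh ((E.page 2 le_rfl).X pq) := by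
    rintro ⟨p, q⟩ hp hq hqn
    obtain ⟨e⟩ := hE2 p q
    rw [if_pos ⟨hp, hq⟩] at e
    refine hP.iso e.symm ?_
    have h1 : Coh.IsCoh ((Coh.Rpush U.ι q.toNat).obj F) := hg q.toNat (by
      have : (q.toNat : ℤ) = q := Int.toNat_of_nonneg hq
      omega)
    exact Groth.Agent.S0036.result f _ h1 p.toNat
  have hz : ∀ pq, 𝒵 pq → Limits.IsZero ((E.page 2 le_rfl).X pq) := by
    rintro ⟨p, q⟩ hpq
    obtain ⟨e⟩ := hE2 p q
    rw [if_neg (by
      rintro ⟨h1, h2⟩
      rcases hpq with h | h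
      · exact absurd h1 (not_le.2 h)
      · exact absurd h2 (not_le.2 h))] at e
    exact Limits.IsZero.of_iso (Limits.isZero_zero _) e
  have ha : ∀ pq, 𝒜 pq → Coh.IsCoh ((E.page 2 le_rfl).X pq) := by
    rintro ⟨p, q⟩ ⟨hp, hq, hpq⟩
    exact hcoh (p, q) hp hq (by dsimp only at hp hq hpq ⊢; omega)
  have hb : ∀ pq, ℬ pq → Groth.Agent.Lib.helper8.SSRefined.SubP (fun M : S.Modules => Coh.IsCoh M)
      ((E.page 2 le_rfl).X pq) := by
    rintro ⟨p, q⟩ ⟨hp, hq, hqn, -⟩
    exact Groth.Agent.Lib.helper8.SSRefined.subP_of_prop (hcoh (p, q) hp hq hqn)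
  have hAp : ∀ r : ℤ, 2 ≤ r → ∀ pq, 𝒜 pq → 𝒜 (pq - (r, 1 - r)) ∨ 𝒵 (pq - (r, 1 - r)) := by
    rintro r hr ⟨p, q⟩ ⟨hp, hq, hpq⟩
    dsimp only at hp hq hpq
    by_cases h : p - r < 0
    · exact Or.inr (Or.inl h)
    · refine Or.inl ⟨?_, ?_, ?_⟩
      · show 0 ≤ p - r
        omega
      · show 0 ≤ q - (1 - r)
        omega
      · show p - r + (q - (1 - r)) ≤ n
        omega
  have hAn : ∀ r : ℤ, 2 ≤ r → ∀ pq, 𝒜 pq →
      𝒜 (pq + (r, 1 - r)) ∨ ℬ (pq + (r, 1 - r)) ∨ 𝒵 (pq + (r, 1 - r)) := by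
    rintro r hr ⟨p, q⟩ ⟨hp, hq, hpq⟩
    dsimp only at hp hq hpq
    by_cases h : q + (1 - r) < 0
    · exact Or.inr (Or.inr (Or.inr h))
    · by_cases h' : p + q + 1 ≤ n
      · refine Or.inl ⟨?_, ?_, ?_⟩
        · show 0 ≤ p + r
          omega
        · show 0 ≤ q + (1 - r)
          omega
        · show p + r + (q + (1 - r)) ≤ n
          omega
      · refine Or.inr (Or.inl ⟨?_, ?_, ?_, ?_⟩)
        · show 0 ≤ p + r
          omega
        · show 0 ≤ q + (1 - r)
          omega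
        · show q + (1 - r) ≤ n
          omega
        · show p + r + (q + (1 - r)) = n + 1
          omega
  have hBp : ∀ r : ℤ, 2 ≤ r → ∀ pq, ℬ pq → 𝒜 (pq - (r, 1 - r)) ∨ 𝒵 (pq - (r, 1 - r)) := by
    rintro r hr ⟨p, q⟩ ⟨hp, hq, hqn, hpq⟩
    dsimp only at hp hq hqn hpq
    by_cases h : p - r < 0
    · exact Or.inr (Or.inl h)
    · refine Or.inl ⟨?_, ?_, ?_⟩
      · show 0 ≤ p - r
        omega
      · show 0 ≤ q - (1 - r)
        omega
      · show p - r + (q - (1 - r)) ≤ n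
        omega
  have hn : ∀ p : ℤ, 𝒜 (p, (i : ℤ) - p) ∨ 𝒵 (p, (i : ℤ) - p) := by
    intro p
    by_cases h1 : p < 0
    · exact Or.inr (Or.inl h1)
    · by_cases h2 : (i : ℤ) - p < 0
      · exact Or.inr (Or.inr h2)
      · refine Or.inl ⟨?_, ?_, ?_⟩
        · show 0 ≤ p
          omega
        · show 0 ≤ (i : ℤ) - p
          omega
        · show p + ((i : ℤ) - p) ≤ n
          have : (i : ℤ) ≤ n := by exact_mod_cast hi
          omega
  have key := Groth.Agent.Lib.helper8.SSRefined.prop_abutment_refined hP E a (i : ℤ) (hfin _)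
    𝒜 ℬ 𝒵 hz ha hb hAp hAn hBp hn
  have key' : Coh.IsCoh (((Scheme.Modules.pushforward U.ι ⋙ Scheme.Modules.pushforward f).rightDerived
      i).obj F) := by
    have h0 : (0 : ℤ) ≤ (i : ℤ) := Int.natCast_nonneg i
    simp only [if_pos h0, Int.toNat_natCast] at key
    exact key
  exact hP.iso ((RDer.rightDerivedIso (Scheme.Modules.pushforwardComp U.ι f) i).app F) key'

end Groth.Agent.S5186
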