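import Groth.Statements.S5204
import Mathlib.CategoryTheory.Limits.Shapes.Pullback.IsPullback.Basic

set_option autoImplicit false
open CategoryTheory CategoryTheory.Limits
universe w v₁ u₁
open DescCat

namespace Groth.Agent.S5204

/-- In a category with pullbacks: if `u` and `v` are effective epimorphisms and `v` is a universal
epimorphism (all its base changes are epimorphisms), then the composite `v ≫ u` is an effective
epimorphism. -/
theorem result {C : Type u₁} [Category.{v₁} C] [HasPullbacks C]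
    {U T S : C} (v : U ⟶ T) (u : T ⟶ S) [EffectiveEpi u] [EffectiveEpi v]
    (hv : MorphismProperty.universally (MorphismProperty.epimorphisms C) v) :
    EffectiveEpi (v ≫ u) := by
  -- base changes of `v` are epi
  have hepi : ∀ {Z : C} (h : Z ⟶ T), Epi (pullback.fst h v) := fun h =>
    hv (pullback.snd h v) h (pullback.fst h v) (IsPullback.of_hasPullback h v)
  -- key: if `e` coequalizes everything `v ≫ u` does, then `desc v e` coequalizes
  -- everything `u` does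
  have key : ∀ {W : C} (e : U ⟶ W)
      (he : ∀ {Z : C} (g₁ g₂ : Z ⟶ U), g₁ ≫ v ≫ u = g₂ ≫ v ≫ u → g₁ ≫ e = g₂ ≫ e)
      (e' : T ⟶ W) (_ : v ≫ e' = e) {Z : C} (h₁ h₂ : Z ⟶ T), h₁ ≫ u = h₂ ≫ u →
      h₁ ≫ e' = h₂ ≫ e' := by
    intro W e he e' hee' Z h₁ h₂ h12
    -- first pullback
    let p₁ := pullback.fst h₁ v
    let k₁ := pullback.snd h₁ v
    have hk₁ : p₁ ≫ h₁ = k₁ ≫ v := pullback.condition
    let p₂ := pullback.fst (p₁ ≫ h₂) v
    let k₂ := pullback.snd (p₁ ≫ h₂) v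
    have hk₂ : p₂ ≫ p₁ ≫ h₂ = k₂ ≫ v := pullback.condition
    have hp₁ : Epi p₁ := hepi h₁
    have hp₂ : Epi p₂ := hepi (p₁ ≫ h₂)
    have hp : Epi (p₂ ≫ p₁) := epi_comp _ _
    rw [← cancel_epi (p₂ ≫ p₁)]
    have e1 : (p₂ ≫ p₁) ≫ h₁ = (p₂ ≫ k₁) ≫ v := by
      rw [Category.assoc, hk₁, Category.assoc]
    have e2 : (p₂ ≫ p₁) ≫ h₂ = k₂ ≫ v := by
      rw [Category.assoc, hk₂]
    have e3 : (p₂ ≫ k₁) ≫ e = k₂ ≫ e := by
      apply he
      rw [← Category.assoc, ← e1, ← Category.assoc k₂, ← e2, Category.assoc, Category.assoc,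
        Category.assoc, Category.assoc, h12]
    calc (p₂ ≫ p₁) ≫ h₁ ≫ e' = ((p₂ ≫ p₁) ≫ h₁) ≫ e' := (Category.assoc _ _ _).symm
      _ = ((p₂ ≫ k₁) ≫ v) ≫ e' := by rw [e1]
      _ = (p₂ ≫ k₁) ≫ e := by rw [Category.assoc, hee']
      _ = k₂ ≫ e := e3
      _ = (k₂ ≫ v) ≫ e' := by rw [Category.assoc, hee']
      _ = ((p₂ ≫ p₁) ≫ h₂) ≫ e' := by rw [e2]
      _ = (p₂ ≫ p₁) ≫ h₂ ≫ e' := Category.assoc _ _ _
  refine ⟨⟨{ desc := fun {W} e he => ?_, fac := ?_, uniq := ?_ }⟩⟩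
  · have he' : ∀ {Z : C} (g₁ g₂ : Z ⟶ U), g₁ ≫ v ≫ u = g₂ ≫ v ≫ u → g₁ ≫ e = g₂ ≫ e := by
      intro Z g₁ g₂ h; exact he g₁ g₂ h
    have hv1 : ∀ {Z : C} (g₁ g₂ : Z ⟶ U), g₁ ≫ v = g₂ ≫ v → g₁ ≫ e = g₂ ≫ e := by
      intro Z g₁ g₂ h
      apply he'
      rw [← Category.assoc, h, Category.assoc]
    exact EffectiveEpi.desc u (EffectiveEpi.desc v e hv1)
      (fun h₁ h₂ h12 => key e he' _ (EffectiveEpi.fac v e hv1) h₁ h₂ h12)
  · intro W e he
    simp only [Category.assoc, EffectiveEpi.fac]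
  · intro W e he m hm
    apply EffectiveEpi.uniq
    apply EffectiveEpi.uniq
    rw [← hm, Category.assoc]

end Groth.Agent.S5204
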