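import Groth.Statements.S5205
import Mathlib
-- import your own Groth.Agent.* helpers here

set_option autoImplicit false
open CategoryTheory CategoryTheory.Limits
universe w v₁ u₁
open DescCat

namespace Groth.Agent.S5205

/-- Composition of two universally effective epimorphisms is an effective epimorphism. -/
theorem effectiveEpi_comp_of_universally {C : Type u₁} [Category.{v₁} C] [HasPullbacks C]
    {U T S : C} (v : U ⟶ T) (u : T ⟶ S)
    (hu : (MorphismProperty.universally (fun (A B : C) (p : A ⟶ B) => EffectiveEpi p)) u)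
    (hv : (MorphismProperty.universally (fun (A B : C) (p : A ⟶ B) => EffectiveEpi p)) v) :
    EffectiveEpi (v ≫ u) := by
  have hu' : EffectiveEpi u := MorphismProperty.universally_le _ _ hu
  have hv' : EffectiveEpi v := MorphismProperty.universally_le _ _ hv
  -- base changes of `v` are (effective) epis
  have hbc : ∀ {Z : C} (g : Z ⟶ T), EffectiveEpi (pullback.fst g v) := fun g =>
    hv _ _ _ (IsPullback.of_hasPullback g v)
  have key : ∀ {W : C} (e : U ⟶ W)
      (h : ∀ {Z : C} (g₁ g₂ : Z ⟶ U), g₁ ≫ v ≫ u = g₂ ≫ v ≫ u → g₁ ≫ e = g₂ ≫ e),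
      ∃ m : S ⟶ W, (v ≫ u) ≫ m = e ∧ ∀ m' : S ⟶ W, (v ≫ u) ≫ m' = e → m' = m := by
    intro W e h
    have h_v : ∀ {Z : C} (g₁ g₂ : Z ⟶ U), g₁ ≫ v = g₂ ≫ v → g₁ ≫ e = g₂ ≫ e := by
      intro Z g₁ g₂ hg
      apply h
      rw [← Category.assoc, hg, Category.assoc]
    let e₁ : T ⟶ W := EffectiveEpi.desc v e h_v
    have he₁ : v ≫ e₁ = e := EffectiveEpi.fac v e h_v
    have h_u : ∀ {Z : C} (g₁ g₂ : Z ⟶ T), g₁ ≫ u = g₂ ≫ u → g₁ ≫ e₁ = g₂ ≫ e₁ := by
      intro Z g₁ g₂ hg
      have hq₁ : EffectiveEpi (pullback.fst g₁ v) := hbc g₁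
      have hq₂ : EffectiveEpi (pullback.fst (pullback.fst g₁ v ≫ g₂) v) := hbc _
      have c₁ : pullback.fst g₁ v ≫ g₁ = pullback.snd g₁ v ≫ v := pullback.condition
      have c₂ : pullback.fst (pullback.fst g₁ v ≫ g₂) v ≫ (pullback.fst g₁ v ≫ g₂) =
          pullback.snd (pullback.fst g₁ v ≫ g₂) v ≫ v := pullback.condition
      have h3 : (pullback.fst (pullback.fst g₁ v ≫ g₂) v ≫ pullback.snd g₁ v) ≫ e =
          pullback.snd (pullback.fst g₁ v ≫ g₂) v ≫ e := by
        apply h
        rw [Category.assoc, ← Category.assoc (pullback.snd g₁ v), ← c₁,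
          ← Category.assoc (pullback.snd (pullback.fst g₁ v ≫ g₂) v), ← c₂]
        simp only [Category.assoc]
        rw [hg]
      rw [← he₁] at h3
      rw [Category.assoc, ← Category.assoc (pullback.snd g₁ v), ← c₁,
        ← Category.assoc (pullback.snd (pullback.fst g₁ v ≫ g₂) v), ← c₂] at h3
      simp only [Category.assoc] at h3
      rw [cancel_epi, cancel_epi] at h3
      exact h3
    refine ⟨EffectiveEpi.desc u e₁ h_u, ?_, ?_⟩
    · rw [Category.assoc, EffectiveEpi.fac, he₁]
    · intro m' hm'
      apply EffectiveEpi.uniq u e₁ h_u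
      apply EffectiveEpi.uniq v e h_v
      rw [← Category.assoc]
      exact hm'
  refine ⟨⟨{ desc := fun e h => (key e (fun g₁ g₂ hg => h g₁ g₂ (by simpa using hg))).choose
             fac := fun e h =>
               (key e (fun g₁ g₂ hg => h g₁ g₂ (by simpa using hg))).choose_spec.1
             uniq := fun e h m hm =>
               (key e (fun g₁ g₂ hg => h g₁ g₂ (by simpa using hg))).choose_spec.2 m hm }⟩⟩


/-- First assertion: in a category with pullbacks: universal effective epimorphisms (morphisms all of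
whose base changes are effective epimorphisms) are stable under composition. -/
theorem result {C : Type u₁} [Category.{v₁} C] [HasPullbacks C]
    {U T S : C} (v : U ⟶ T) (u : T ⟶ S)
    (hu : (MorphismProperty.universally (fun (A B : C) (p : A ⟶ B) => EffectiveEpi p)) u) (hv : (MorphismProperty.universally (fun (A B : C) (p : A ⟶ B) => EffectiveEpi p)) v) :
    (MorphismProperty.universally (fun (A B : C) (p : A ⟶ B) => EffectiveEpi p)) (v ≫ u) := by
  intro X' S' i₁ i₂ f' H
  have := pullback.lift_fst _ _ (H.w.trans (Category.assoc _ _ _).symm)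
  rw [← this] at H ⊢
  apply effectiveEpi_comp_of_universally
  · exact (MorphismProperty.universally_isStableUnderBaseChange _).of_isPullback
      (IsPullback.of_hasPullback i₂ u).flip hu
  · exact (MorphismProperty.universally_isStableUnderBaseChange _).of_isPullback
      (H.of_right (pullback.lift_snd _ _ _) (IsPullback.of_hasPullback i₂ u)).flip hv

end Groth.Agent.S5205
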