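import Groth.Statements.S5206
import Mathlib.CategoryTheory.Limits.Shapes.Pullback.IsPullback.Basic

set_option autoImplicit false
open CategoryTheory CategoryTheory.Limits
universe w v₁ u₁
open DescCat

namespace Groth.Agent.S5206

/-- If `v ≫ u` is a universal effective epimorphism, then `u` is an effective epimorphism. -/
theorem effectiveEpi_of_comp {C : Type u₁} [Category.{v₁} C] [HasPullbacks C]
    {U T S : C} (v : U ⟶ T) (u : T ⟶ S)
    (h : (MorphismProperty.universally (fun (A B : C) (p : A ⟶ B) => EffectiveEpi p)) (v ≫ u)) :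
    EffectiveEpi u := by
  have hvu : EffectiveEpi (v ≫ u) := by
    have := h (𝟙 U) (𝟙 S) (v ≫ u) (IsPullback.of_vert_isIso ⟨by simp⟩)
    exact this
  -- the base change of `v ≫ u` along `u`
  let p := pullback.fst u (v ≫ u)
  let q := pullback.snd u (v ≫ u)
  have hpq : p ≫ u = q ≫ v ≫ u := pullback.condition
  have hp : EffectiveEpi p := h q u p (IsPullback.of_hasPullback u (v ≫ u))
  have hpe : Epi p := inferInstance
  have hvue : Epi (v ≫ u) := inferInstance
  refine ⟨⟨{ desc := fun {W} e he => ?_, fac := ?_, uniq := ?_ }⟩⟩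
  · exact EffectiveEpi.desc (v ≫ u) (v ≫ e) (fun g₁ g₂ hg => by
      have := he (g₁ ≫ v) (g₂ ≫ v) (by simpa using hg)
      simpa using this)
  · intro W e he
    rw [← cancel_epi p]
    have h1 : p ≫ e = (q ≫ v) ≫ e := he p (q ≫ v) (by rw [hpq, Category.assoc])
    have h2 : ∀ (hh : ∀ {Z : C} (g₁ g₂ : Z ⟶ U), g₁ ≫ v ≫ u = g₂ ≫ v ≫ u →
        g₁ ≫ v ≫ e = g₂ ≫ v ≫ e),
        p ≫ u ≫ EffectiveEpi.desc (v ≫ u) (v ≫ e) hh = p ≫ e := by
      intro hh
      calc p ≫ u ≫ EffectiveEpi.desc (v ≫ u) (v ≫ e) hh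
          = (p ≫ u) ≫ EffectiveEpi.desc (v ≫ u) (v ≫ e) hh := (Category.assoc _ _ _).symm
        _ = (q ≫ v ≫ u) ≫ EffectiveEpi.desc (v ≫ u) (v ≫ e) hh := by rw [hpq]
        _ = q ≫ ((v ≫ u) ≫ EffectiveEpi.desc (v ≫ u) (v ≫ e) hh) := Category.assoc _ _ _
        _ = q ≫ v ≫ e := by rw [EffectiveEpi.fac]
        _ = p ≫ e := by rw [h1, Category.assoc]
    exact h2 _
  · intro W e he m hm
    apply EffectiveEpi.uniq
    rw [← hm, Category.assoc]

/-- Second assertion: in a category with pullbacks: if `v ≫ u` is a universal effective epimorphism (all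
base changes are effective epimorphisms), then so is `u`; nothing is assumed about `v`. -/
theorem result {C : Type u₁} [Category.{v₁} C] [HasPullbacks C]
    {U T S : C} (v : U ⟶ T) (u : T ⟶ S)
    (h : (MorphismProperty.universally (fun (A B : C) (p : A ⟶ B) => EffectiveEpi p)) (v ≫ u)) :
    (MorphismProperty.universally (fun (A B : C) (p : A ⟶ B) => EffectiveEpi p)) u := by
  intro T' S' i₁ i₂ u' H
  let v' := pullback.fst i₁ v
  let k := pullback.snd i₁ v
  have H1 : IsPullback v' k i₁ v := IsPullback.of_hasPullback i₁ v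
  have H2 : IsPullback (v' ≫ u') k i₂ (v ≫ u) := H1.paste_horiz H
  have h' : (MorphismProperty.universally (fun (A B : C) (p : A ⟶ B) => EffectiveEpi p))
      (v' ≫ u') := MorphismProperty.of_isPullback H2.flip h
  exact effectiveEpi_of_comp v' u' h'

end Groth.Agent.S5206
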