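import Groth.Statements.S5209
import Mathlib
import Groth.Agent.S5206

set_option autoImplicit false
open CategoryTheory CategoryTheory.Limits
universe w v₁ u₁
open DescCat

namespace Groth.Agent.S5209

section aux

variable {C : Type u₁} [Category.{v₁} C] [HasPullbacks C]

abbrev UEE : MorphismProperty C :=
  MorphismProperty.universally (fun (A B : C) (p : A ⟶ B) => EffectiveEpi p)

theorem uee_fst {S' S : C} (f : S' ⟶ S) (hf : UEE f) {W : C} (h : W ⟶ S) :
    UEE (pullback.fst h f) :=
  MorphismProperty.of_isPullback (IsPullback.of_hasPullback h f).flip hf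

omit [HasPullbacks C] in
theorem uee_effectiveEpi {A B : C} (p : A ⟶ B) (hp : UEE p) : EffectiveEpi p :=
  MorphismProperty.universally_le _ _ hp

theorem map_left_fst {S' S : C} (f : S' ⟶ S) {X Y : Over S} (g : X ⟶ Y) :
    ((Over.pullback f).map g).left ≫ pullback.fst Y.hom f = pullback.fst X.hom f ≫ g.left :=
  pullback.lift_fst _ _ _

theorem map_left_snd {S' S : C} (f : S' ⟶ S) {X Y : Over S} (g : X ⟶ Y) :
    ((Over.pullback f).map g).left ≫ pullback.snd Y.hom f = pullback.snd X.hom f :=
  pullback.lift_snd _ _ _

theorem mono_left_of_mono_pullback {S' S : C} (f : S' ⟶ S) (hf : UEE f) {X Y : Over S} (g : X ⟶ Y)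
    (hm : Mono ((Over.pullback f).map g).left) : Mono g.left := by
  constructor
  intro W a b hab
  have hq : EffectiveEpi (pullback.fst (a ≫ X.hom) f) := uee_effectiveEpi _ (uee_fst f hf _)
  have hXY : g.left ≫ Y.hom = X.hom := Over.w g
  have hbX : b ≫ X.hom = a ≫ X.hom := by
    rw [← hXY, ← Category.assoc, ← hab, Category.assoc]
  let a' : pullback (a ≫ X.hom) f ⟶ pullback X.hom f :=
    pullback.lift (pullback.fst _ _ ≫ a) (pullback.snd _ _)
      (by rw [Category.assoc, pullback.condition])
  let b' : pullback (a ≫ X.hom) f ⟶ pullback X.hom f :=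
    pullback.lift (pullback.fst _ _ ≫ b) (pullback.snd _ _)
      (by rw [Category.assoc, hbX, pullback.condition])
  have hab' : a' ≫ ((Over.pullback f).map g).left = b' ≫ ((Over.pullback f).map g).left := by
    apply pullback.hom_ext
    · rw [Category.assoc, Category.assoc, map_left_fst, ← Category.assoc, ← Category.assoc]
      simp only [a', b', pullback.lift_fst]
      rw [Category.assoc, Category.assoc, hab]
    · rw [Category.assoc, Category.assoc, map_left_snd]
      simp only [a', b', pullback.lift_snd]
  have h1 : a' = b' := (cancel_mono _).1 hab'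
  have h2 : pullback.fst (a ≫ X.hom) f ≫ a = pullback.fst (a ≫ X.hom) f ≫ b := by
    have e1 : a' ≫ pullback.fst X.hom f = pullback.fst (a ≫ X.hom) f ≫ a := pullback.lift_fst _ _ _
    have e2 : b' ≫ pullback.fst X.hom f = pullback.fst (a ≫ X.hom) f ≫ b := pullback.lift_fst _ _ _
    rw [← e1, ← e2, h1]
  exact (cancel_epi _).1 h2

theorem final {S' S : C} (f : S' ⟶ S) (hf : UEE f) {X Y : Over S} (g : X ⟶ Y) :
    (IsIso g ↔ IsIso ((Over.pullback f).map g)) ∧ (Mono g ↔ Mono ((Over.pullback f).map g)) := by
  constructor
  · constructor
    · intro h; infer_instance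
    · intro h
      have hl : IsIso ((Over.pullback f).map g).left :=
        Functor.map_isIso (Over.forget S') ((Over.pullback f).map g)
      have hmono : Mono g.left := mono_left_of_mono_pullback f hf g inferInstance
      -- UEE of g.left
      have h1 : UEE (((Over.pullback f).map g).left ≫ pullback.fst Y.hom f) := by
        exact (MorphismProperty.cancel_left_of_respectsIso (P := UEE) _ _).2 (uee_fst f hf _)
      rw [map_left_fst] at h1
      have h2 : UEE g.left := Groth.Agent.S5206.result _ _ h1
      have h3 : EffectiveEpi g.left := uee_effectiveEpi _ h2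
      have h4 : IsIso g.left := isIso_of_mono_of_strongEpi _
      have h5 : IsIso ((Over.forget S).map g) := h4
      exact isIso_of_reflects_iso g (Over.forget S)
  · constructor
    · intro h; infer_instance
    · intro h
      have hl : Mono ((Over.pullback f).map g).left := inferInstance
      have := mono_left_of_mono_pullback f hf g hl
      exact Over.mono_of_mono_left g

end aux


/-- In a category with pullbacks, let `f : S' ⟶ S` be a universal effective epimorphism, that is, a
morphism all of whose base changes are effective epimorphisms. Then a morphism `g` over `S` is an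
isomorphism (resp. a monomorphism) if and only if its base change along `f` is. -/
theorem result {C : Type u₁} [Category.{v₁} C] [HasPullbacks C]
    {S' S : C} (f : S' ⟶ S) (hf : (MorphismProperty.universally (fun (A B : C) (p : A ⟶ B) => EffectiveEpi p)) f) {X Y : Over S} (g : X ⟶ Y) :
    (IsIso g ↔ IsIso ((Over.pullback f).map g)) ∧ (Mono g ↔ Mono ((Over.pullback f).map g)) := by
  exact final f hf g

end Groth.Agent.S5209
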