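import Groth.Statements.S5210
import Mathlib
import Groth.Agent.Lib.Helper28.Descent
-- import your own Groth.Agent.* helpers here

set_option autoImplicit false
open CategoryTheory CategoryTheory.Limits
universe w v₁ u₁
open DescCat

namespace Groth.Agent.S5210

/-- In a category with pullbacks, let `f : S' ⟶ S` be a universal effective epimorphism (all of its base
changes are effective epimorphisms) and `Y ⟶ S` a monomorphism. Then an object `X` over `S` admits a
morphism to `Y` over `S` if and only if it does so after base change along `f`. -/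
theorem result {C : Type u₁} [Category.{v₁} C] [HasPullbacks C]
    {S' S : C} (f : S' ⟶ S) (hf : (MorphismProperty.universally (fun (A B : C) (p : A ⟶ B) => EffectiveEpi p)) f) (X Y : Over S) [Mono Y.hom] :
    Nonempty (X ⟶ Y) ↔ Nonempty ((Over.pullback f).obj X ⟶ (Over.pullback f).obj Y) := by
  constructor
  · rintro ⟨h⟩
    exact ⟨(Over.pullback f).map h⟩
  · rintro ⟨h'⟩
    have hπ : Groth.Agent.Lib.helper28.UEE (pullback.fst X.hom f) :=
      MorphismProperty.pullback_fst _ _ hf
    haveI := hπ.effectiveEpi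
    haveI := hπ.epi
    have hw : h'.left ≫ pullback.snd Y.hom f = pullback.snd X.hom f := Over.w h'
    have hm : (h'.left ≫ pullback.fst Y.hom f) ≫ Y.hom = pullback.fst X.hom f ≫ X.hom := by
      rw [Category.assoc, pullback.condition, ← Category.assoc, hw, pullback.condition]
    have hdesc : ∀ {Z : C} (g₁ g₂ : Z ⟶ pullback X.hom f),
        g₁ ≫ pullback.fst X.hom f = g₂ ≫ pullback.fst X.hom f →
        g₁ ≫ (h'.left ≫ pullback.fst Y.hom f) = g₂ ≫ (h'.left ≫ pullback.fst Y.hom f) := by
      intro Z g₁ g₂ hg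
      rw [← cancel_mono Y.hom]
      calc (g₁ ≫ (h'.left ≫ pullback.fst Y.hom f)) ≫ Y.hom
          = g₁ ≫ ((h'.left ≫ pullback.fst Y.hom f) ≫ Y.hom) := Category.assoc _ _ _
        _ = (g₁ ≫ pullback.fst X.hom f) ≫ X.hom := by rw [hm, Category.assoc]
        _ = (g₂ ≫ pullback.fst X.hom f) ≫ X.hom := by rw [hg]
        _ = g₂ ≫ ((h'.left ≫ pullback.fst Y.hom f) ≫ Y.hom) := by rw [hm, Category.assoc]
        _ = _ := (Category.assoc _ _ _).symm
    refine ⟨Over.homMk (EffectiveEpi.desc (pullback.fst X.hom f)
      (h'.left ≫ pullback.fst Y.hom f) hdesc) ?_⟩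
    rw [← cancel_epi (pullback.fst X.hom f), ← Category.assoc, EffectiveEpi.fac, hm]

end Groth.Agent.S5210
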