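import Groth.Statements.S5211
import Mathlib
import Groth.Agent.Lib.Helper28.Descent
-- import your own Groth.Agent.* helpers here

set_option autoImplicit false
open CategoryTheory CategoryTheory.Limits
universe w v₁ u₁
open DescCat

namespace Groth.Agent.S5211

/-- In a category with pullbacks: if `f : S' ⟶ S` is a universal effective epimorphism and the canonical
map `S' ×_S S' ⟶ S' ×_T S'` induced by `g : S ⟶ T` is an isomorphism, then `g` is a monomorphism. -/
theorem result {C : Type u₁} [Category.{v₁} C] [HasPullbacks C]
    {S' S T : C} (f : S' ⟶ S) (hf : (MorphismProperty.universally (fun (A B : C) (p : A ⟶ B) => EffectiveEpi p)) f) (g : S ⟶ T)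
    [IsIso (pullback.mapDesc f f g)] : Mono g := by
  have h1 : IsKernelPair f (pullback.fst f f) (pullback.snd f f) := IsPullback.of_hasPullback f f
  have h2 : IsKernelPair (f ≫ g) (pullback.fst f f) (pullback.snd f f) := by
    refine IsPullback.of_iso_pullback ⟨?_⟩ (asIso (pullback.mapDesc f f g)) ?_ ?_
    · rw [← Category.assoc, ← Category.assoc, pullback.condition]
    · rw [asIso_hom, pullback.lift_fst, Category.comp_id]
    · rw [asIso_hom, pullback.lift_snd, Category.comp_id]
  exact Groth.Agent.Lib.helper28.mono_of_isKernelPair_comp f hf g h1 h2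

end Groth.Agent.S5211
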