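import Groth.Statements.S5212
import Mathlib.LinearAlgebra.Matrix.Charpoly.Coeff
import Mathlib.LinearAlgebra.Matrix.Charpoly.Basic
import Mathlib.RingTheory.Ideal.Maximal
import Mathlib.Tactic
-- import your own Groth.Agent.* helpers here

set_option autoImplicit false
universe u
open GrpQ

namespace Groth.Agent.S5212

/-- `algebraMap (norm a)` is a multiple of `a` (Cayley–Hamilton). -/
theorem dvd_algebraMap_norm {A A' : Type u} [CommRing A] [CommRing A'] [Algebra A A']
    [Module.Free A A'] [Module.Finite A A'] (a : A') :
    a ∣ algebraMap A A' (Algebra.norm A a) := by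
  classical
  let b := Module.Free.chooseBasis A A'
  let M := Algebra.leftMulMatrix b a
  have h1 : Algebra.norm A a = M.det := Algebra.norm_eq_matrix_det b a
  have h2 := Matrix.det_eq_sign_charpoly_coeff M
  have h3 : Polynomial.aeval a M.charpoly = 0 := by
    apply Algebra.leftMulMatrix_injective b
    rw [← Polynomial.aeval_algHom_apply, map_zero]
    exact Matrix.aeval_self_charpoly M
  have h4 := congrArg (Polynomial.aeval a) (Polynomial.divX_mul_X_add M.charpoly)
  rw [h3, map_add, map_mul, Polynomial.aeval_X, Polynomial.aeval_C] at h4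
  have h5 : algebraMap A A' (M.charpoly.coeff 0) = -(Polynomial.aeval a M.charpoly.divX) * a := by
    linear_combination h4
  rw [h1, h2, map_mul, h5]
  exact ⟨algebraMap A A' ((-1) ^ Fintype.card (Module.Free.ChooseBasisIndex A A')) *
    -(Polynomial.aeval a M.charpoly.divX), by ring⟩

/-- Coordinates of elements of `pA'` lie in `p`. -/
theorem repr_mem_of_mem_map {A A' : Type u} [CommRing A] [CommRing A'] [Algebra A A']
    {ι : Type*} (b : Module.Basis ι A A') (p : Ideal A) (z : A')
    (hz : z ∈ p.map (algebraMap A A')) (i : ι) : b.repr z i ∈ p := by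
  have hz' : z ∈ (p • (⊤ : Submodule A A')) := by
    rw [Ideal.smul_top_eq_map]
    exact hz
  refine Submodule.smul_induction_on hz' ?_ ?_
  · intro x hx m _
    rw [map_smul, Finsupp.smul_apply, smul_eq_mul]
    exact p.mul_mem_right _ hx
  · intro u v hu hv
    rw [map_add, Finsupp.add_apply]
    exact p.add_mem hu hv

/-- For `A'` finite and free as an `A`-module, a prime `p` of `A` and `a ∈ A'`, the element `a` belongs
to some prime of `A'` lying over `p` if and only if its norm belongs to `p`. (The published
statement allows `A'` projective of constant rank over `A`; this row takes `A'` free, where the norm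
is the determinant of multiplication.) -/
theorem result {A A' : Type u} [CommRing A] [CommRing A'] [Algebra A A']
    [Module.Free A A'] [Module.Finite A A'] (p : Ideal A) [p.IsPrime] (a : A') :
    (∃ q : Ideal A', q.IsPrime ∧ q.LiesOver p ∧ a ∈ q) ↔ Algebra.norm A a ∈ p := by
  classical
  constructor
  · rintro ⟨q, hq, hqp, haq⟩
    have h1 : algebraMap A A' (Algebra.norm A a) ∈ q := by
      obtain ⟨c, hc⟩ := dvd_algebraMap_norm (A := A) a
      rw [hc]
      exact q.mul_mem_right _ haq
    rw [hqp.over]
    exact h1
  · intro hN
    let b := Module.Free.chooseBasis A A'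
    let S' : Submonoid A' := Submonoid.map (algebraMap A A') p.primeCompl
    let I : Ideal A' := p.map (algebraMap A A') ⊔ Ideal.span {a}
    have hdisj : Disjoint (I : Set A') (S' : Set A') := by
      rw [Set.disjoint_left]
      rintro z hzI ⟨s₀, hs₀, rfl⟩
      obtain ⟨π, hπ, w, hw, hsum⟩ := Submodule.mem_sup.mp hzI
      obtain ⟨y, rfl⟩ := Ideal.mem_span_singleton'.mp hw
      -- norm computation
      have hya : y * a = algebraMap A A' s₀ - π := by rw [← hsum]; ring
      have h1 : Algebra.norm A (y * a) ∈ p := by
        rw [map_mul]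
        exact p.mul_mem_left _ hN
      rw [hya, Algebra.norm_eq_matrix_det b] at h1
      have h2 : (Ideal.Quotient.mk p) (Algebra.leftMulMatrix b (algebraMap A A' s₀ - π)).det =
          (Ideal.Quotient.mk p s₀) ^ Fintype.card (Module.Free.ChooseBasisIndex A A') := by
        rw [RingHom.map_det]
        have hM : (Ideal.Quotient.mk p).mapMatrix (Algebra.leftMulMatrix b (algebraMap A A' s₀ - π)) =
            (Ideal.Quotient.mk p s₀) • (1 : Matrix _ _ (A ⧸ p)) := by
          ext i j
          rw [RingHom.mapMatrix_apply, Matrix.map_apply, Algebra.leftMulMatrix_eq_repr_mul, sub_mul,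
            map_sub, Finsupp.sub_apply, map_sub]
          have e1 : (Ideal.Quotient.mk p) (b.repr (π * b j) i) = 0 := by
            rw [Ideal.Quotient.eq_zero_iff_mem]
            exact repr_mem_of_mem_map b p _ (Ideal.mul_mem_right _ _ hπ) i
          rw [e1, sub_zero, ← Algebra.smul_def, map_smul, Module.Basis.repr_self, Finsupp.smul_apply,
            Matrix.smul_apply, Matrix.one_apply, Finsupp.single_apply, smul_eq_mul, smul_eq_mul,
            map_mul]
          by_cases hij : j = i
          · subst hij; simp
          · have hji : ¬ i = j := fun h => hij h.symm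
            simp [hij, hji]
        rw [hM, Matrix.det_smul, Matrix.det_one, mul_one]
      have h3 : (Ideal.Quotient.mk p s₀) ^ Fintype.card (Module.Free.ChooseBasisIndex A A') = 0 := by
        rw [← h2, Ideal.Quotient.eq_zero_iff_mem]
        exact h1
      rw [← map_pow, Ideal.Quotient.eq_zero_iff_mem] at h3
      exact hs₀ (Ideal.IsPrime.mem_of_pow_mem inferInstance _ h3)
    obtain ⟨q, hq, hIq, hqS⟩ := Ideal.exists_le_prime_disjoint I S' hdisj
    refine ⟨q, hq, ⟨?_⟩, ?_⟩
    · apply le_antisymm
      · rw [Ideal.under_def, ← Ideal.map_le_iff_le_comap]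
        exact le_trans le_sup_left hIq
      · intro x hx
        by_contra hxp
        exact Set.disjoint_left.mp hqS hx ⟨x, hxp, rfl⟩
    · exact hIq (Ideal.mem_sup_right (Ideal.mem_span_singleton_self a))


end Groth.Agent.S5212
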