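import Groth.Statements.S5214
import Mathlib
import Groth.Agent.S5205
-- import your own Groth.Agent.* helpers here

set_option autoImplicit false
open CategoryTheory CategoryTheory.Limits
universe w v₁ u₁
open DescCat

namespace Groth.Agent.S5214

theorem isPullback_fst_prodMap_id {C : Type u₁} [Category.{v₁} C] [HasBinaryProducts C]
    {X Y : C} (u : X ⟶ Y) (X' : C) :
    IsPullback (prod.fst : X ⨯ X' ⟶ X) (prod.map u (𝟙 X')) u (prod.fst : Y ⨯ X' ⟶ Y) := by
  have hw : (prod.fst : X ⨯ X' ⟶ X) ≫ u = prod.map u (𝟙 X') ≫ prod.fst := by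
    rw [prod.map_fst]
  refine IsPullback.mk ⟨hw⟩ ⟨PullbackCone.IsLimit.mk hw
    (fun s => prod.lift s.fst (s.snd ≫ prod.snd)) ?_ ?_ ?_⟩
  · intro s
    rw [prod.lift_fst]
  · intro s
    rw [prod.lift_map]
    apply prod.hom_ext
    · rw [prod.lift_fst, s.condition]
    · rw [prod.lift_snd, Category.comp_id]
  · intro s m hm₁ hm₂
    apply prod.hom_ext
    · rw [prod.lift_fst, hm₁]
    · rw [prod.lift_snd, ← hm₂, Category.assoc, prod.map_snd, Category.comp_id]

theorem isPullback_snd_prodMap_id {C : Type u₁} [Category.{v₁} C] [HasBinaryProducts C]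
    {X' Y' : C} (u' : X' ⟶ Y') (Y : C) :
    IsPullback (prod.snd : Y ⨯ X' ⟶ X') (prod.map (𝟙 Y) u') u' (prod.snd : Y ⨯ Y' ⟶ Y') := by
  have hw : (prod.snd : Y ⨯ X' ⟶ X') ≫ u' = prod.map (𝟙 Y) u' ≫ prod.snd := by
    rw [prod.map_snd]
  refine IsPullback.mk ⟨hw⟩ ⟨PullbackCone.IsLimit.mk hw
    (fun s => prod.lift (s.snd ≫ prod.fst) s.fst) ?_ ?_ ?_⟩
  · intro s
    rw [prod.lift_snd]
  · intro s
    rw [prod.lift_map]
    apply prod.hom_ext
    · rw [prod.lift_fst, Category.comp_id]
    · rw [prod.lift_snd, s.condition]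
  · intro s m hm₁ hm₂
    apply prod.hom_ext
    · rw [prod.lift_fst, ← hm₂, Category.assoc, prod.map_fst, Category.comp_id]
    · rw [prod.lift_snd, hm₁]


/-- In a category with pullbacks and binary products: the product `u × u'` of two universal effective
epimorphisms (morphisms all of whose base changes are effective epimorphisms) is a universal
effective epimorphism. -/
theorem result {C : Type u₁} [Category.{v₁} C] [HasPullbacks C] [HasBinaryProducts C]
    {X Y X' Y' : C} (u : X ⟶ Y) (u' : X' ⟶ Y')
    (hu : (MorphismProperty.universally (fun (A B : C) (p : A ⟶ B) => EffectiveEpi p)) u) (hu' : (MorphismProperty.universally (fun (A B : C) (p : A ⟶ B) => EffectiveEpi p)) u') :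
    (MorphismProperty.universally (fun (A B : C) (p : A ⟶ B) => EffectiveEpi p)) (prod.map u u') := by
  have h1 : (MorphismProperty.universally (fun (A B : C) (p : A ⟶ B) => EffectiveEpi p))
      (prod.map u (𝟙 X')) :=
    (MorphismProperty.universally_isStableUnderBaseChange _).of_isPullback
      (isPullback_fst_prodMap_id u X') hu
  have h2 : (MorphismProperty.universally (fun (A B : C) (p : A ⟶ B) => EffectiveEpi p))
      (prod.map (𝟙 Y) u') :=
    (MorphismProperty.universally_isStableUnderBaseChange _).of_isPullback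
      (isPullback_snd_prodMap_id u' Y) hu'
  have h3 : prod.map u u' = prod.map u (𝟙 X') ≫ prod.map (𝟙 Y) u' := by
    rw [prod.map_map, Category.comp_id, Category.id_comp]
  rw [h3]
  exact Groth.Agent.S5205.result _ _ h2 h1

end Groth.Agent.S5214
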