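import Groth.Statements.S5218
import Mathlib

set_option autoImplicit false
open CategoryTheory CategoryTheory.Limits
universe w v₁ u₁
open ShfCat

namespace Groth.Agent.S5218

/-- (i) ⇒ (ii), for a single morphism: in the category of sheaves of sets on a site (with
sheafification), every epimorphism is a universal effective epimorphism. -/
theorem result {C : Type u₁} [Category.{v₁} C]
    (J : GrothendieckTopology C) [HasSheafify J (Type w)]
    {X Y : Sheaf J (Type w)} (f : X ⟶ Y) [Epi f] :
    (MorphismProperty.universally (fun (A B : Sheaf J (Type w)) (p : A ⟶ B) => EffectiveEpi p)) f := by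
  intro X' Y' i₁ i₂ f' sq
  have hf : Sheaf.IsLocallySurjective f := (Sheaf.isLocallySurjective_iff_epi f).2 inferInstance
  have hf' : Sheaf.IsLocallySurjective f' := by
    refine ⟨fun {U} s => ?_⟩
    have h1 := Presheaf.imageSieve_mem J f.hom (i₂.hom.app _ s)
    refine J.superset_covering ?_ h1
    rintro V k ⟨t, ht⟩
    have sqV := (sq.map (sheafToPresheaf J _)).map ((evaluation _ _).obj (Opposite.op V))
    obtain ⟨x', hx1, hx2⟩ := Types.exists_of_isPullback sqV (Y'.obj.map k.op s) t (by
      have := NatTrans.naturality_apply i₂.hom k.op s
      exact this.trans ht.symm)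
    exact ⟨x', hx1⟩
  have : Epi f' := inferInstance
  have : IsRegularEpi f' := IsRegularEpiCategory.regularEpiOfEpi f'
  infer_instance

end Groth.Agent.S5218
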