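import Groth.Statements.S5220
-- import your own Groth.Agent.* helpers here

set_option autoImplicit false
open CategoryTheory CategoryTheory.Limits
universe w v₁ u₁
open GrpQ

namespace Groth.Agent.S5220

/-- In a category with pullbacks: let `d₀ d₁ : X₁ ⇉ X₀` admit a common section and let `f₀ : Y₀ ⟶ X₀` be
an effective epimorphism which is also a universal epimorphism. For the inverse-image pair `Y₁ :=
(Y₀ ×_{X₀,d₁} X₁) ×_{d₀,X₀} Y₀ ⇉ Y₀`, every morphism out of `Y₀` equalized by the two projections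
descends uniquely to a morphism out of `X₀` equalized by `d₀, d₁`. (Only the common section of the
groupoid structure is used.) -/
theorem result {C : Type u₁} [Category.{v₁} C] [HasPullbacks C]
    {X₁ X₀ Y₀ : C} (d₀ d₁ : X₁ ⟶ X₀) (s : X₀ ⟶ X₁) (hs₀ : s ≫ d₀ = 𝟙 X₀) (hs₁ : s ≫ d₁ = 𝟙 X₀)
    (f₀ : Y₀ ⟶ X₀) [EffectiveEpi f₀]
    (hf : MorphismProperty.universally (MorphismProperty.epimorphisms C) f₀)
    {T : C} (g : Y₀ ⟶ T)
    (hg : (pullback.fst (pullback.snd f₀ d₁ ≫ d₀) f₀ ≫ pullback.fst f₀ d₁) ≫ g =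
      pullback.snd (pullback.snd f₀ d₁ ≫ d₀) f₀ ≫ g) :
    ∃! h : X₀ ⟶ T, d₁ ≫ h = d₀ ≫ h ∧ f₀ ≫ h = g := by
  -- `g` coequalizes the kernel pair of `f₀`
  have hker : ∀ {Z : C} (a b : Z ⟶ Y₀), a ≫ f₀ = b ≫ f₀ → a ≫ g = b ≫ g := by
    intro Z a b hab
    let l₁ : Z ⟶ pullback f₀ d₁ := pullback.lift a (a ≫ f₀ ≫ s) (by
      rw [Category.assoc, Category.assoc, hs₁, Category.comp_id])
    let l₂ : Z ⟶ pullback (pullback.snd f₀ d₁ ≫ d₀) f₀ := pullback.lift l₁ b (by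
      simp only [l₁]
      rw [pullback.lift_snd_assoc, Category.assoc, Category.assoc, hs₀, Category.comp_id, hab])
    have h1 : l₂ ≫ (pullback.fst (pullback.snd f₀ d₁ ≫ d₀) f₀ ≫ pullback.fst f₀ d₁) = a := by
      simp only [l₂, l₁]
      rw [pullback.lift_fst_assoc, pullback.lift_fst]
    have h2 : l₂ ≫ pullback.snd (pullback.snd f₀ d₁ ≫ d₀) f₀ = b := by
      simp only [l₂]
      rw [pullback.lift_snd]
    rw [← h1, ← h2, Category.assoc, hg, Category.assoc]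
  -- the projection `Y₁ ⟶ X₁` is an epimorphism
  have hepi1 : Epi (pullback.snd f₀ d₁) :=
    hf (pullback.fst f₀ d₁) d₁ (pullback.snd f₀ d₁) (IsPullback.of_hasPullback f₀ d₁).flip
  have hepi2 : Epi (pullback.fst (pullback.snd f₀ d₁ ≫ d₀) f₀) :=
    hf (pullback.snd (pullback.snd f₀ d₁ ≫ d₀) f₀) (pullback.snd f₀ d₁ ≫ d₀)
      (pullback.fst (pullback.snd f₀ d₁ ≫ d₀) f₀)
      (IsPullback.of_hasPullback (pullback.snd f₀ d₁ ≫ d₀) f₀)
  have hepi : Epi (pullback.fst (pullback.snd f₀ d₁ ≫ d₀) f₀ ≫ pullback.snd f₀ d₁) :=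
    epi_comp _ _
  refine ⟨EffectiveEpi.desc f₀ g hker, ⟨?_, EffectiveEpi.fac f₀ g hker⟩, ?_⟩
  · rw [← cancel_epi (pullback.fst (pullback.snd f₀ d₁ ≫ d₀) f₀ ≫ pullback.snd f₀ d₁)]
    have e1 : (pullback.fst (pullback.snd f₀ d₁ ≫ d₀) f₀ ≫ pullback.snd f₀ d₁) ≫ d₁ =
        (pullback.fst (pullback.snd f₀ d₁ ≫ d₀) f₀ ≫ pullback.fst f₀ d₁) ≫ f₀ := by
      rw [Category.assoc, Category.assoc, pullback.condition]
    have e2 : (pullback.fst (pullback.snd f₀ d₁ ≫ d₀) f₀ ≫ pullback.snd f₀ d₁) ≫ d₀ =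
        pullback.snd (pullback.snd f₀ d₁ ≫ d₀) f₀ ≫ f₀ := by
      rw [Category.assoc, pullback.condition]
    calc (pullback.fst (pullback.snd f₀ d₁ ≫ d₀) f₀ ≫ pullback.snd f₀ d₁) ≫ d₁ ≫
          EffectiveEpi.desc f₀ g hker
        = ((pullback.fst (pullback.snd f₀ d₁ ≫ d₀) f₀ ≫ pullback.snd f₀ d₁) ≫ d₁) ≫
          EffectiveEpi.desc f₀ g hker := by simp only [Category.assoc]
      _ = ((pullback.fst (pullback.snd f₀ d₁ ≫ d₀) f₀ ≫ pullback.fst f₀ d₁) ≫ f₀) ≫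
          EffectiveEpi.desc f₀ g hker := by rw [e1]
      _ = (pullback.fst (pullback.snd f₀ d₁ ≫ d₀) f₀ ≫ pullback.fst f₀ d₁) ≫ g := by
          rw [Category.assoc (pullback.fst (pullback.snd f₀ d₁ ≫ d₀) f₀ ≫ pullback.fst f₀ d₁),
            EffectiveEpi.fac]
      _ = pullback.snd (pullback.snd f₀ d₁ ≫ d₀) f₀ ≫ g := hg
      _ = (pullback.snd (pullback.snd f₀ d₁ ≫ d₀) f₀ ≫ f₀) ≫ EffectiveEpi.desc f₀ g hker := by
          rw [Category.assoc, EffectiveEpi.fac]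
      _ = ((pullback.fst (pullback.snd f₀ d₁ ≫ d₀) f₀ ≫ pullback.snd f₀ d₁) ≫ d₀) ≫
          EffectiveEpi.desc f₀ g hker := by rw [e2]
      _ = (pullback.fst (pullback.snd f₀ d₁ ≫ d₀) f₀ ≫ pullback.snd f₀ d₁) ≫ d₀ ≫
          EffectiveEpi.desc f₀ g hker := by simp only [Category.assoc]
  · rintro h ⟨_, hh⟩
    exact EffectiveEpi.uniq f₀ g hker h hh


end Groth.Agent.S5220
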