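import Groth.Statements.S5221
import Mathlib

set_option autoImplicit false
open CategoryTheory CategoryTheory.Limits
universe w v₁ u₁
open GrpQ

namespace Groth.Agent.S5221

section aux

variable {C : Type u₁} [Category.{v₁} C] [HasPullbacks C]
  {X₁ X₀ Y₀ : C} (d₀ d₁ : X₁ ⟶ X₀) (s : X₀ ⟶ X₁) (hs₀ : s ≫ d₀ = 𝟙 X₀) (hs₁ : s ≫ d₁ = 𝟙 X₀)
  (f₀ : Y₀ ⟶ X₀)

/-- the map `Q → X₁` -/
noncomputable def uu : pullback (pullback.snd f₀ d₁ ≫ d₀) f₀ ⟶ X₁ :=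
  pullback.fst (pullback.snd f₀ d₁ ≫ d₀) f₀ ≫ pullback.snd f₀ d₁

noncomputable def e₁ : pullback (pullback.snd f₀ d₁ ≫ d₀) f₀ ⟶ Y₀ :=
  pullback.fst (pullback.snd f₀ d₁ ≫ d₀) f₀ ≫ pullback.fst f₀ d₁

noncomputable def e₀ : pullback (pullback.snd f₀ d₁ ≫ d₀) f₀ ⟶ Y₀ :=
  pullback.snd (pullback.snd f₀ d₁ ≫ d₀) f₀

theorem uu_d₁ : uu d₀ d₁ f₀ ≫ d₁ = e₁ d₀ d₁ f₀ ≫ f₀ := by
  simp only [uu, e₁, Category.assoc, pullback.condition]

theorem uu_d₀ : uu d₀ d₁ f₀ ≫ d₀ = e₀ d₀ d₁ f₀ ≫ f₀ := by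
  simp only [uu, e₀, Category.assoc, pullback.condition]

theorem uu_epi (hf : MorphismProperty.universally (MorphismProperty.epimorphisms C) f₀) :
    Epi (uu d₀ d₁ f₀) := by
  unfold uu
  have h1 : Epi (pullback.snd f₀ d₁) :=
    MorphismProperty.of_isPullback (P := MorphismProperty.universally (MorphismProperty.epimorphisms C))
      (IsPullback.of_hasPullback f₀ d₁) hf |> MorphismProperty.universally_le _ _
  have h2 : Epi (pullback.fst (pullback.snd f₀ d₁ ≫ d₀) f₀) :=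
    MorphismProperty.of_isPullback (P := MorphismProperty.universally (MorphismProperty.epimorphisms C))
      (IsPullback.of_hasPullback (pullback.snd f₀ d₁ ≫ d₀) f₀).flip hf |> MorphismProperty.universally_le _ _
  exact epi_comp _ _

include hs₀ hs₁ in
/-- a map coequalizing `e₁, e₀` coequalizes the kernel pair of `f₀` -/
theorem kernelPair_coeq {Z : C} (g : Y₀ ⟶ Z) (hg : e₁ d₀ d₁ f₀ ≫ g = e₀ d₀ d₁ f₀ ≫ g)
    {W : C} (a b : W ⟶ Y₀) (hab : a ≫ f₀ = b ≫ f₀) : a ≫ g = b ≫ g := by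
  let w₁ : W ⟶ pullback f₀ d₁ := pullback.lift a (a ≫ f₀ ≫ s)
    (by rw [Category.assoc, Category.assoc, hs₁, Category.comp_id])
  let w : W ⟶ pullback (pullback.snd f₀ d₁ ≫ d₀) f₀ := pullback.lift w₁ b
    (by
      simp only [w₁]
      rw [← Category.assoc, pullback.lift_snd, Category.assoc, Category.assoc, hs₀, Category.comp_id, hab])
  have h1 : w ≫ e₁ d₀ d₁ f₀ = a := by
    simp only [e₁, w, w₁]
    rw [← Category.assoc, pullback.lift_fst, pullback.lift_fst]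
  have h2 : w ≫ e₀ d₀ d₁ f₀ = b := by
    simp only [e₀, w]
    rw [pullback.lift_snd]
  rw [← h1, ← h2, Category.assoc, Category.assoc, hg]

include hs₀ hs₁ in
theorem final [EffectiveEpi f₀]
    (hf : MorphismProperty.universally (MorphismProperty.epimorphisms C) f₀) :
    HasCoequalizer d₁ d₀ ↔
      HasCoequalizer (pullback.fst (pullback.snd f₀ d₁ ≫ d₀) f₀ ≫ pullback.fst f₀ d₁)
        (pullback.snd (pullback.snd f₀ d₁ ≫ d₀) f₀) := by
  show HasCoequalizer d₁ d₀ ↔ HasCoequalizer (e₁ d₀ d₁ f₀) (e₀ d₀ d₁ f₀)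
  have hu := uu_epi d₀ d₁ f₀ hf
  have hf₀epi : Epi f₀ := inferInstance
  constructor
  · intro hco
    have hcond : e₁ d₀ d₁ f₀ ≫ (f₀ ≫ coequalizer.π d₁ d₀) = e₀ d₀ d₁ f₀ ≫ (f₀ ≫ coequalizer.π d₁ d₀) := by
      rw [← Category.assoc, ← uu_d₁, ← Category.assoc, ← uu_d₀, Category.assoc, Category.assoc,
        coequalizer.condition]
    have key : ∀ c : Cofork (e₁ d₀ d₁ f₀) (e₀ d₀ d₁ f₀), ∃ m : coequalizer d₁ d₀ ⟶ c.pt,
        (f₀ ≫ coequalizer.π d₁ d₀) ≫ m = c.π ∧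
        ∀ m' : coequalizer d₁ d₀ ⟶ c.pt, (f₀ ≫ coequalizer.π d₁ d₀) ≫ m' = c.π → m' = m := by
      intro c
      have hc : e₁ d₀ d₁ f₀ ≫ c.π = e₀ d₀ d₁ f₀ ≫ c.π := c.condition
      let g' : X₀ ⟶ c.pt := EffectiveEpi.desc f₀ c.π
        (fun a b hab => kernelPair_coeq d₀ d₁ s hs₀ hs₁ f₀ c.π hc a b hab)
      have hg' : f₀ ≫ g' = c.π := EffectiveEpi.fac _ _ _
      have hd : d₁ ≫ g' = d₀ ≫ g' := by
        rw [← cancel_epi (uu d₀ d₁ f₀), ← Category.assoc, uu_d₁, ← Category.assoc, uu_d₀,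
          Category.assoc, Category.assoc, hg', hc]
      refine ⟨coequalizer.desc g' hd, ?_, ?_⟩
      · rw [Category.assoc, coequalizer.π_desc, hg']
      · intro m' hm'
        apply coequalizer.hom_ext
        rw [← cancel_epi f₀, coequalizer.π_desc, hg', ← hm', Category.assoc]
    refine HasColimit.mk ⟨Cofork.ofπ (f₀ ≫ coequalizer.π d₁ d₀) hcond, ?_⟩
    exact Cofork.IsColimit.mk _ (fun c => (key c).choose) (fun c => (key c).choose_spec.1)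
      (fun c m hm => (key c).choose_spec.2 m hm)
  · intro hco
    set ρ := coequalizer.π (e₁ d₀ d₁ f₀) (e₀ d₀ d₁ f₀) with hρ
    have hc : e₁ d₀ d₁ f₀ ≫ ρ = e₀ d₀ d₁ f₀ ≫ ρ := coequalizer.condition _ _
    let π : X₀ ⟶ coequalizer (e₁ d₀ d₁ f₀) (e₀ d₀ d₁ f₀) := EffectiveEpi.desc f₀ ρ
      (fun a b hab => kernelPair_coeq d₀ d₁ s hs₀ hs₁ f₀ ρ hc a b hab)
    have hπ : f₀ ≫ π = ρ := EffectiveEpi.fac _ _ _
    have hd : d₁ ≫ π = d₀ ≫ π := by
      rw [← cancel_epi (uu d₀ d₁ f₀), ← Category.assoc, uu_d₁, ← Category.assoc, uu_d₀,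
        Category.assoc, Category.assoc, hπ, hc]
    have key : ∀ c : Cofork d₁ d₀, ∃ m : coequalizer (e₁ d₀ d₁ f₀) (e₀ d₀ d₁ f₀) ⟶ c.pt,
        π ≫ m = c.π ∧
        ∀ m' : coequalizer (e₁ d₀ d₁ f₀) (e₀ d₀ d₁ f₀) ⟶ c.pt, π ≫ m' = c.π → m' = m := by
      intro c
      have hcc : d₁ ≫ c.π = d₀ ≫ c.π := c.condition
      have h1 : e₁ d₀ d₁ f₀ ≫ (f₀ ≫ c.π) = e₀ d₀ d₁ f₀ ≫ (f₀ ≫ c.π) := by
        rw [← Category.assoc, ← uu_d₁, ← Category.assoc, ← uu_d₀, Category.assoc, Category.assoc, hcc]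
      refine ⟨coequalizer.desc (f₀ ≫ c.π) h1, ?_, ?_⟩
      · rw [← cancel_epi f₀, ← Category.assoc, hπ, hρ, coequalizer.π_desc]
      · intro m' hm'
        apply coequalizer.hom_ext
        rw [coequalizer.π_desc, ← hm', ← Category.assoc, hπ]
    refine HasColimit.mk ⟨Cofork.ofπ π hd, ?_⟩
    exact Cofork.IsColimit.mk _ (fun c => (key c).choose) (fun c => (key c).choose_spec.1)
      (fun c m hm => (key c).choose_spec.2 m hm)

end aux


/-- Existence part: in a category with pullbacks: with `d₀ d₁ : X₁ ⇉ X₀` admitting a common section and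
`f₀ : Y₀ ⟶ X₀` an effective and universal epimorphism, the pair `(d₀, d₁)` has a coequalizer if and
only if its inverse-image pair on `Y₀` has one. -/
theorem result {C : Type u₁} [Category.{v₁} C] [HasPullbacks C]
    {X₁ X₀ Y₀ : C} (d₀ d₁ : X₁ ⟶ X₀) (s : X₀ ⟶ X₁) (hs₀ : s ≫ d₀ = 𝟙 X₀) (hs₁ : s ≫ d₁ = 𝟙 X₀)
    (f₀ : Y₀ ⟶ X₀) [EffectiveEpi f₀]
    (hf : MorphismProperty.universally (MorphismProperty.epimorphisms C) f₀) :
    HasCoequalizer d₁ d₀ ↔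
      HasCoequalizer (pullback.fst (pullback.snd f₀ d₁ ≫ d₀) f₀ ≫ pullback.fst f₀ d₁)
        (pullback.snd (pullback.snd f₀ d₁ ≫ d₀) f₀) := by
  exact final d₀ d₁ s hs₀ hs₁ f₀ hf

end Groth.Agent.S5221
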