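import Groth.Statements.S5223
import Groth.Agent.S1413
import Groth.Agent.S4366
-- import your own Groth.Agent.* helpers here

set_option autoImplicit false
open CategoryTheory CategoryTheory.Limits AlgebraicGeometry
universe u
open GrpQ

namespace Groth.Agent.S5223

lemma flat_stalkMap_congr_point {X Y : Scheme.{u}} (f : X ⟶ Y) (x x' : X) (h : x = x') :
    (f.stalkMap x).hom.Flat ↔ (f.stalkMap x').hom.Flat := by
  subst h; rfl

lemma flat_stalkMap_congr_hom {X Y : Scheme.{u}} (f g : X ⟶ Y) (h : f = g) (x : X) :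
    (f.stalkMap x).hom.Flat ↔ (g.stalkMap x).hom.Flat := by
  subst h; rfl

/-- In a cartesian square of schemes `F₂ = F₁ ×_{X₀} X₁` whose bottom map `u : X₁ ⟶ X₀` is flat, the
base-changed map `d' : F₂ ⟶ X₁` is flat at a point `x` if and only if `d : F₁ ⟶ X₀` is flat at the
image of `x` in `F₁`. -/
theorem result {F₂ F₁ X₁ X₀ : Scheme.{u}}
    {v : F₂ ⟶ F₁} {d' : F₂ ⟶ X₁} {d : F₁ ⟶ X₀} {u : X₁ ⟶ X₀}
    (h : IsPullback v d' d u) [Flat u] (x : F₂) :
    (d'.stalkMap x).hom.Flat ↔ (d.stalkMap (v.base x)).hom.Flat := by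
  have hv : Flat v := MorphismProperty.of_isPullback (P := @Flat) h.flip inferInstance
  constructor
  · intro hd'
    have hu : (u.stalkMap (d' x)).hom.Flat := (Flat.iff_flat_stalkMap u).1 inferInstance (d' x)
    have hcomp : ((d' ≫ u).stalkMap x).hom.Flat := by
      rw [Scheme.Hom.stalkMap_comp]
      exact RingHom.Flat.stableUnderComposition _ _ hu hd'
    have hcomp2 : ((v ≫ d).stalkMap x).hom.Flat :=
      (flat_stalkMap_congr_hom _ _ h.w x).2 hcomp
    rw [Scheme.Hom.stalkMap_comp] at hcomp2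
    have hvx : (v.stalkMap x).hom.Flat := (Flat.iff_flat_stalkMap v).1 hv x
    exact Groth.Agent.S1413.ringHom_flat_of_comp (d.stalkMap (v x)).hom (v.stalkMap x).hom
      hvx hcomp2
  · intro hd
    have hq : Flat (F₁.fromSpecStalk (v x) ≫ d) := by
      rw [← Scheme.SpecMap_stalkMap_fromSpecStalk d]
      have : Flat (Spec.map (d.stalkMap (v x))) :=
        (HasRingHomProperty.Spec_iff (P := @Flat)).2 hd
      have : Flat (X₀.fromSpecStalk (d (v x))) := Groth.Agent.S4366.flat_fromSpecStalk _ _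
      infer_instance
    have hpaste : IsPullback (pullback.fst v (F₁.fromSpecStalk (v x)) ≫ d')
        (pullback.snd v (F₁.fromSpecStalk (v x))) u (F₁.fromSpecStalk (v x) ≫ d) :=
      (IsPullback.of_hasPullback v (F₁.fromSpecStalk (v x))).paste_horiz h.flip
    have hfl : Flat (pullback.fst v (F₁.fromSpecStalk (v x)) ≫ d') :=
      MorphismProperty.of_isPullback (P := @Flat) hpaste.flip hq
    obtain ⟨t, ht, -⟩ := Scheme.Pullback.exists_preimage_pullback (f := v)
      (g := F₁.fromSpecStalk (v x)) x (IsLocalRing.closedPoint _)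
      (by rw [Scheme.fromSpecStalk_closedPoint])
    have h1 : ((pullback.fst v (F₁.fromSpecStalk (v x)) ≫ d').stalkMap t).hom.Flat :=
      (Flat.iff_flat_stalkMap _).1 hfl t
    rw [Scheme.Hom.stalkMap_comp] at h1
    have hiso : IsIso ((pullback.fst v (F₁.fromSpecStalk (v x))).stalkMap t) :=
      Groth.Agent.S4366.result v (v x) t
    have h2 : (d'.stalkMap (pullback.fst v (F₁.fromSpecStalk (v x)) t)).hom.Flat :=
      (RingHom.Flat.respectsIso.cancel_right_isIso _
        ((pullback.fst v (F₁.fromSpecStalk (v x))).stalkMap t)).1 h1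
    exact (flat_stalkMap_congr_point d' _ _ ht).1 h2

end Groth.Agent.S5223
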