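import Groth.Statements.S5224
import Groth.Agent.Lib.Helper14.RepSh8

set_option autoImplicit false
open CategoryTheory CategoryTheory.Limits AlgebraicGeometry
universe u
open GrpQ

namespace Groth.Agent.S5224

/-- For the fppf topology: let `s, t : R ⇉ U` be an equivalence relation of schemes over `S` with `s`
faithfully flat and locally of finite presentation. A morphism `q : U ⟶ Y` over `S` is a faithfully
flat, locally finitely presented quotient with kernel pair `R` if and only if `q` identifies `h_Y`
with the fppf quotient sheaf `U/R`. -/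
theorem result {S : Scheme.{u}} {R U Y : Over S} (s t : R ⟶ U)
    [IsEquivalenceRelation s t]
    [Flat s.left] [Surjective s.left] [LocallyOfFinitePresentation s.left]
    (q : U ⟶ Y) :
    (IsKernelPair q s t ∧ Flat q.left ∧ Surjective q.left ∧ LocallyOfFinitePresentation q.left) ↔
      QuotSh.IsQuotient Scheme.fppfPrecoverage s t q := by
  constructor
  · rintro ⟨hk, hfl, hsu, hlfp⟩
    haveI := hfl
    haveI := hsu
    haveI := hlfp
    haveI : Epi (QuotSh.repMap Scheme.fppfPrecoverage q) :=
      Groth.Agent.Lib.Helper14.RepSh.epi_repMap_fppf q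
    exact Groth.Agent.Lib.Helper14.RepSh.isQuotient_of_isKernelPair _ s t q hk
  · intro hq
    have hk : IsKernelPair q s t :=
      Groth.Agent.Lib.Helper14.RepSh.isKernelPair_of_isQuotient Scheme.fppfPrecoverage hq
    haveI : Epi (QuotSh.repMap Scheme.fppfPrecoverage q) :=
      Groth.Agent.Lib.Helper14.RepSh.epi_of_isQuotient _ hq
    haveI := Groth.Agent.Lib.helper4.FppfFamDescent.flat_descendsAlong_fppf.{u}
    refine ⟨hk, ?_, ?_, ?_⟩
    · exact Groth.Agent.Lib.Helper14.RepSh.prop_of_epi_fppf hk @Flat inferInstance
    · exact Groth.Agent.Lib.Helper14.RepSh.prop_of_epi_fppf hk @Surjective inferInstance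
    · exact Groth.Agent.Lib.Helper14.RepSh.prop_of_epi_fppf hk @LocallyOfFinitePresentation
        inferInstance

end Groth.Agent.S5224
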