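import Groth.Statements.S5225
import Groth.Agent.Lib.Helper14.RepSh9

set_option autoImplicit false
open CategoryTheory CategoryTheory.Limits AlgebraicGeometry
universe u
open GrpQ

namespace Groth.Agent.S5225

/-- For the étale topology: let `s, t : R ⇉ U` be an equivalence relation of schemes over `S` with `s`
étale and surjective. A morphism `q : U ⟶ Y` over `S` is an étale surjective quotient with kernel
pair `R` if and only if `q` identifies `h_Y` with the étale quotient sheaf `U/R`. -/
theorem result {S : Scheme.{u}} {R U Y : Over S} (s t : R ⟶ U)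
    [IsEquivalenceRelation s t] [Etale s.left] [Surjective s.left]
    (q : U ⟶ Y) :
    (IsKernelPair q s t ∧ Etale q.left ∧ Surjective q.left) ↔
      QuotSh.IsQuotient Scheme.etalePrecoverage s t q := by
  constructor
  · rintro ⟨hk, het, hsu⟩
    haveI := het
    haveI := hsu
    haveI : Epi (QuotSh.repMap Scheme.etalePrecoverage q) :=
      Groth.Agent.Lib.Helper14.RepSh.epi_repMap_etale q
    exact Groth.Agent.Lib.Helper14.RepSh.isQuotient_of_isKernelPair _ s t q hk
  · intro hq
    have hk : IsKernelPair q s t :=
      Groth.Agent.Lib.Helper14.RepSh.isKernelPair_of_isQuotient Scheme.etalePrecoverage hq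
    haveI : Epi (QuotSh.repMap Scheme.etalePrecoverage q) :=
      Groth.Agent.Lib.Helper14.RepSh.epi_of_isQuotient _ hq
    refine ⟨hk, ?_, ?_⟩
    · exact Groth.Agent.Lib.Helper14.RepSh.prop_of_epi_etale hk @Etale inferInstance
    · exact Groth.Agent.Lib.Helper14.RepSh.prop_of_epi_etale hk @Surjective inferInstance

end Groth.Agent.S5225
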