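import Groth.Statements.S5228
import Groth.Agent.Lib.Helper22.IntegralSS
import Groth.Agent.S12925

set_option autoImplicit false
universe w u
open HopfRep

namespace Groth.Agent.S5228

/-- Over an affine base, in comodule form: for a representation `V` of a diagonalizable group `D(M)`
over a commutative ring `k` (a `k[M]`-comodule), every sub-representation which is a direct summand
as a `k`-module is a direct summand as a representation. (The published statement: a short exact
sequence of quasi-coherent `D(M)`-modules that splits as a sequence of modules splits
equivariantly.) -/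
theorem result {k : Type u} [CommRing k] {M : Type u} [CommGroup M]
    (V : Type w) [AddCommGroup V] [Module k V] [HopfRep.Comod k (MonoidAlgebra k M) V]
    (W : Submodule k V) (hW : HopfRep.IsSubcomod (k := k) (A := MonoidAlgebra k M) W)
    (hsplit : ∃ W' : Submodule k V, IsCompl W W') :
    ∃ W'' : Submodule k V, HopfRep.IsSubcomod (k := k) (A := MonoidAlgebra k M) W'' ∧ IsCompl W W'' := by
  obtain ⟨W', hW'⟩ := hsplit
  have hp : (Submodule.projectionOnto W W' hW') ∘ₗ W.subtype = LinearMap.id :=
    Submodule.projectionOnto_comp_subtype hW'
  let _ : HopfRep.Comod k (MonoidAlgebra k M) k := HopfRep.Comod.trivial k (MonoidAlgebra k M) k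
  have : GLin.IsCoactAlg k (MonoidAlgebra k M) k :=
    ⟨by
      change (TensorProduct.mk k k (MonoidAlgebra k M)).flip 1 (1 : k) = 1
      simp [Algebra.TensorProduct.one_def],
     by
      intro f g
      change (TensorProduct.mk k k (MonoidAlgebra k M)).flip 1 (f * g) =
        (TensorProduct.mk k k (MonoidAlgebra k M)).flip 1 f *
          (TensorProduct.mk k k (MonoidAlgebra k M)).flip 1 g
      simp⟩
  obtain ⟨α, hα, h1⟩ := Groth.Agent.S12925.result k M k
  exact Groth.Agent.Lib.helper22.Integral.exists_isCompl_subcomod k (MonoidAlgebra k M) α hα h1 V W hW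
    _ hp


end Groth.Agent.S5228
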