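import Groth.Statements.S5229
import Mathlib
-- import your own Groth.Agent.* helpers here

set_option autoImplicit false
open CategoryTheory CategoryTheory.Limits
universe v₁ u₁
open DescCat

namespace Groth.Agent.S5229

theorem isKernelPair_prodMap {C : Type u₁} [Category.{v₁} C] [HasBinaryProducts C]
    {R X B R' X' B' : C} {p₁ p₂ : R ⟶ X} {p₁' p₂' : R' ⟶ X'} {π : X ⟶ B} {π' : X' ⟶ B'}
    (h : IsKernelPair π p₁ p₂) (h' : IsKernelPair π' p₁' p₂') :
    IsKernelPair (prod.map π π') (prod.map p₁ p₁') (prod.map p₂ p₂') := by
  have hw : prod.map p₁ p₁' ≫ prod.map π π' = prod.map p₂ p₂' ≫ prod.map π π' := by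
    rw [prod.map_map, prod.map_map, h.w, h'.w]
  have hc : ∀ s : PullbackCone (prod.map π π') (prod.map π π'),
      (s.fst ≫ prod.fst) ≫ π = (s.snd ≫ prod.fst) ≫ π := by
    intro s
    have := congrArg (fun k => k ≫ prod.fst) s.condition
    simpa using this
  have hc' : ∀ s : PullbackCone (prod.map π π') (prod.map π π'),
      (s.fst ≫ prod.snd) ≫ π' = (s.snd ≫ prod.snd) ≫ π' := by
    intro s
    have := congrArg (fun k => k ≫ prod.snd) s.condition
    simpa using this
  refine IsPullback.mk ⟨hw⟩ ⟨PullbackCone.IsLimit.mk hw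
    (fun s => prod.lift (h.lift _ _ (hc s)) (h'.lift _ _ (hc' s))) ?_ ?_ ?_⟩
  · intro s
    rw [prod.lift_map]
    apply prod.hom_ext
    · rw [prod.lift_fst, IsKernelPair.lift_fst]
    · rw [prod.lift_snd, IsKernelPair.lift_fst]
  · intro s
    rw [prod.lift_map]
    apply prod.hom_ext
    · rw [prod.lift_fst, IsKernelPair.lift_snd]
    · rw [prod.lift_snd, IsKernelPair.lift_snd]
  · intro s m hm₁ hm₂
    apply prod.hom_ext
    · rw [prod.lift_fst]
      apply h.hom_ext
      · rw [IsKernelPair.lift_fst, ← hm₁, Category.assoc, Category.assoc, prod.map_fst]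
      · rw [IsKernelPair.lift_snd, ← hm₂, Category.assoc, Category.assoc, prod.map_fst]
    · rw [prod.lift_snd]
      apply h'.hom_ext
      · rw [IsKernelPair.lift_fst, ← hm₁, Category.assoc, Category.assoc, prod.map_snd]
      · rw [IsKernelPair.lift_snd, ← hm₂, Category.assoc, Category.assoc, prod.map_snd]

/-- For universal effective epimorphisms, in a category with pullbacks and binary products: for two
universally effective equivalence relations `R ⇉ X` and `R' ⇉ X'` with quotient maps `π` and `π'`,
the product relation `R × R' ⇉ X × X'` is the kernel pair of `π × π'`. (Together with the fact that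
a product of two universal effective epimorphisms is again one, this says that `(X × X')/(R × R')`
is `(X/R) × (X'/R')`; only the kernel-pair assertion is stated here.) -/
theorem result {C : Type u₁} [Category.{v₁} C]
    [HasPullbacks C] [HasBinaryProducts C]
    {R X R' X' : C} {p₁ p₂ : R ⟶ X} {p₁' p₂' : R' ⟶ X'}
    (e : UniversallyEffectiveEquivalenceRelation p₁ p₂)
    (e' : UniversallyEffectiveEquivalenceRelation p₁' p₂') :
    IsKernelPair (prod.map e.π e'.π) (prod.map p₁ p₁') (prod.map p₂ p₂') := by
  exact isKernelPair_prodMap e.isKernelPair e'.isKernelPair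

end Groth.Agent.S5229
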