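import Groth.Statements.S5231
import Mathlib

set_option autoImplicit false
open CategoryTheory
universe w v₁ u₁
open ShfCat

namespace Groth.Agent.S5231

/-- (iii) ⇒ (i): a morphism `f` of sheaves of sets on a site is a monomorphism (resp. an epimorphism) as
soon as, for every object `S`, the morphisms `T ⟶ S` over which the restriction of `f` to the
induced site `C/T` is a monomorphism (resp. an epimorphism) form a covering sieve. No sheafification
is assumed. (The published statement also treats isomorphisms in the same way; that case is left out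
here.) -/
theorem result {C : Type u₁} [Category.{v₁} C]
    (J : GrothendieckTopology C) {F G : Sheaf J (Type w)} (f : F ⟶ G) :
    ((∀ S : C, ∃ R : Sieve S, R ∈ J S ∧ ∀ ⦃T : C⦄ (g : T ⟶ S), R g →
        Mono ((J.overPullback (Type w) T).map f)) → Mono f) ∧
    ((∀ S : C, ∃ R : Sieve S, R ∈ J S ∧ ∀ ⦃T : C⦄ (g : T ⟶ S), R g →
        Epi ((J.overPullback (Type w) T).map f)) → Epi f) := by
  constructor
  · intro H
    constructor
    intro Z h₁ h₂ hh
    ext S z
    obtain ⟨R, hR, hRf⟩ := H S.unop
    apply (((isSheaf_iff_isSheaf_of_type _ _).1 F.2).isSeparated _ hR).ext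
    intro T g hg
    have := hRf g hg
    have e : (J.overPullback (Type w) T).map h₁ = (J.overPullback (Type w) T).map h₂ := by
      rw [← cancel_mono ((J.overPullback (Type w) T).map f), ← Functor.map_comp,
        ← Functor.map_comp, hh]
    have e2 := ConcreteCategory.congr_hom
      (congr_app ((sheafToPresheaf _ _).congr_map e) (Opposite.op (Over.mk (𝟙 T))))
      (Z.obj.map g.op z)
    have n₁ := ConcreteCategory.congr_hom (h₁.hom.naturality g.op) z
    have n₂ := ConcreteCategory.congr_hom (h₂.hom.naturality g.op) z
    dsimp at n₁ n₂ e2 ⊢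
    rw [← n₁, ← n₂]
    exact e2
  · intro H
    constructor
    intro Z h₁ h₂ hh
    ext S z
    obtain ⟨R, hR, hRf⟩ := H S.unop
    apply (((isSheaf_iff_isSheaf_of_type _ _).1 Z.2).isSeparated _ hR).ext
    intro T g hg
    have := hRf g hg
    have e : (J.overPullback (Type w) T).map h₁ = (J.overPullback (Type w) T).map h₂ := by
      rw [← cancel_epi ((J.overPullback (Type w) T).map f), ← Functor.map_comp,
        ← Functor.map_comp, hh]
    have e2 := ConcreteCategory.congr_hom
      (congr_app ((sheafToPresheaf _ _).congr_map e) (Opposite.op (Over.mk (𝟙 T))))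
      (G.obj.map g.op z)
    have n₁ := ConcreteCategory.congr_hom (h₁.hom.naturality g.op) z
    have n₂ := ConcreteCategory.congr_hom (h₂.hom.naturality g.op) z
    dsimp at n₁ n₂ e2 ⊢
    rw [← n₁, ← n₂]
    exact e2

end Groth.Agent.S5231
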