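import Groth.Statements.S5233
import Groth.Agent.Lib.Helper16.IdealDescent

set_option autoImplicit false
open CategoryTheory CategoryTheory.Limits AlgebraicGeometry
universe u
open GrpQ

namespace Groth.Agent.S5233


open Groth.Agent.Lib.helper16.IdealDescent

lemma eq_mk_subschemeι {X : Scheme.{u}} (Y : Subobject X) [IsClosedImmersion Y.arrow] :
    Y = Subobject.mk Y.arrow.ker.subschemeι := by
  conv_lhs => rw [← Subobject.mk_arrow Y]
  exact Subobject.mk_eq_mk_of_comm _ _ (asIso Y.arrow.toImage) (Y.arrow.toImage_imageι)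

lemma isClosedImmersion_mk_arrow {X : Scheme.{u}} (I : X.IdealSheafData) :
    IsClosedImmersion (Subobject.mk I.subschemeι).arrow := by
  rw [← Subobject.underlyingIso_hom_comp_eq_mk]; infer_instance

lemma pullback_mk {X X' : Scheme.{u}} (π : X ⟶ X') (J : X'.IdealSheafData) :
    (Subobject.pullback π).obj (Subobject.mk J.subschemeι) =
      Subobject.mk (J.comap π).subschemeι := by
  refine Subobject.pullback_obj_mk (f' := (J.comapIso π).hom ≫ pullback.snd _ _) ?_
  refine (isPullback_of_isClosedImmersion _ _ _ _ ?_ ?_).flip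
  · rw [Category.assoc, ← pullback.condition, Scheme.IdealSheafData.comapIso_hom_fst_assoc]
  · rw [Scheme.IdealSheafData.ker_subschemeι, Scheme.IdealSheafData.ker_subschemeι]

lemma mk_subschemeι_injective {X : Scheme.{u}} {I I' : X.IdealSheafData}
    (h : Subobject.mk I.subschemeι = Subobject.mk I'.subschemeι) : I = I' := by
  have e := Subobject.ofMkLEMk_comp h.le
  have : IsIso (Subobject.ofMkLEMk I.subschemeι I'.subschemeι h.le) :=
    ⟨Subobject.ofMkLEMk _ _ h.ge, by simp, by simp⟩
  rw [← I.ker_subschemeι, ← I'.ker_subschemeι, ← e, Scheme.Hom.ker_comp_of_isIso]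

/-- For schemes, with (M) the faithfully flat quasi-compact morphisms and (N) the closed immersions: if
`π : X ⟶ X'` is flat, surjective and quasi-compact (so `X' = X/R` for its kernel pair `R ⇉ X`), then
`Y' ↦ π⁻¹(Y')` is a bijection from closed subschemes of `X'` onto the closed subschemes of `X`
stable under `R`. -/
theorem result {X X' : Scheme.{u}} (π : X ⟶ X')
    [Flat π] [Surjective π] [QuasiCompact π] :
    Set.BijOn (Subobject.pullback π).obj
      {Y' : Subobject X' | IsClosedImmersion Y'.arrow}
      {Y : Subobject X | IsClosedImmersion Y.arrow ∧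
        (Subobject.pullback (pullback.fst π π)).obj Y = (Subobject.pullback (pullback.snd π π)).obj Y} := by
  refine ⟨?_, ?_, ?_⟩
  · intro Y' (hY' : IsClosedImmersion Y'.arrow)
    refine ⟨?_, ?_⟩
    · rw [eq_mk_subschemeι Y', pullback_mk]
      exact isClosedImmersion_mk_arrow _
    · rw [← Subobject.pullback_comp, ← Subobject.pullback_comp, pullback.condition]
  · intro Y₁ (h₁ : IsClosedImmersion Y₁.arrow) Y₂ (h₂ : IsClosedImmersion Y₂.arrow) h
    rw [eq_mk_subschemeι Y₁, eq_mk_subschemeι Y₂, pullback_mk, pullback_mk] at h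
    have h' := congrArg (fun I => Scheme.IdealSheafData.map I π) (mk_subschemeι_injective h)
    simp only [map_comap_of_flat_of_surjective] at h'
    rw [eq_mk_subschemeι Y₁, eq_mk_subschemeι Y₂, h']
  · rintro Y ⟨hY, hst⟩
    rw [eq_mk_subschemeι Y, pullback_mk, pullback_mk] at hst
    have hI := mk_subschemeι_injective hst
    refine ⟨Subobject.mk (Y.arrow.ker.map π).subschemeι, isClosedImmersion_mk_arrow _, ?_⟩
    rw [pullback_mk, comap_map_of_stable π _ hI]
    exact (eq_mk_subschemeι Y).symm

end Groth.Agent.S5233
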