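import Groth.Statements.S5234
import Mathlib
import Groth.Agent.Lib.Helper4.FlatDescends
import Groth.Agent.Lib.Helper4.TrivTorsor
import Groth.Prelude.Def_ActBC

set_option autoImplicit false
open CategoryTheory CategoryTheory.Limits AlgebraicGeometry MonoidalCategory
universe u
open RedSub

namespace Groth.Agent.S5234

open CartesianMonoidalCategory SemiCartesianMonoidalCategory in
/-- (ii) ⇔ (iii), for schemes with the fppf topology: let `G` be an `S`-group scheme which is faithfully
flat and locally of finite presentation over `S`, acting on `X` so that `X` is formally principal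
homogeneous. Then `X` is a torsor (its structure map is faithfully flat and locally of finite
presentation) if and only if `X` has a point over some faithfully flat, locally finitely presented
`S' ⟶ S`. -/
theorem result {S : Scheme.{u}} {G X : Over S} [GrpObj G]
    (a : AlgGrp.Action G X)
    [Flat G.hom] [Surjective G.hom] [LocallyOfFinitePresentation G.hom]
    (hX : IsIso (lift a.act (snd G X))) :
    RedSub.IsTorsor a ↔
      ∃ S' : Over S, Surjective S'.hom ∧ Flat S'.hom ∧ LocallyOfFinitePresentation S'.hom ∧
        Nonempty (S' ⟶ X) := by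
  constructor
  · rintro ⟨h1, h2, h3, _⟩
    exact ⟨X, h1, h2, h3, ⟨𝟙 X⟩⟩
  · rintro ⟨S', hs1, hs2, hs3, ⟨σ⟩⟩
    have := hs1
    have := hs2
    have := hs3
    -- base change to `S'`
    have hps : NonAbH1.IsPseudoTorsorSch (a.bc S'.hom) := NonAbH1.isPseudoTorsorSch_bc S'.hom hX
    have hsec : NonAbH1.HasSectionOver (Red.bc S'.hom X) (𝟙 S'.left) :=
      ⟨pullback.lift σ.left (𝟙 _) (by simp), pullback.lift_snd _ _ _⟩
    obtain ⟨e⟩ := Groth.Agent.Lib.Helper4.TrivTorsor.backward _ _ (a.bc S'.hom) hps hsec
    have hw : (Red.bc S'.hom X).hom = e.iso.inv.left ≫ (Red.bc S'.hom G).hom := (Over.w e.iso.inv).symm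
    have hG : (Red.bc S'.hom G).hom = pullback.snd G.hom S'.hom := rfl
    have hXs : (Red.bc S'.hom X).hom = pullback.snd X.hom S'.hom := rfl
    haveI : IsIso e.iso.inv.left :=
      (Over.forget _).map_isIso e.iso.inv
    refine ⟨?_, ?_, ?_, hX⟩
    · apply Groth.Agent.Lib.Helper4.FlatDescends.surjective_of_pullback_snd X.hom S'.hom
      rw [← hXs, hw, hG]
      infer_instance
    · apply Groth.Agent.Lib.Helper4.FlatDescends.flat_of_pullback_snd X.hom S'.hom
      rw [← hXs, hw, hG]
      infer_instance
    · apply Groth.Agent.Lib.Helper4.FlatDescends.lfp_of_pullback_snd X.hom S'.hom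
      rw [← hXs, hw, hG]
      infer_instance

end Groth.Agent.S5234
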