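import Groth.Statements.S5235
import Mathlib

set_option autoImplicit false
open CategoryTheory CategoryTheory.Limits AlgebraicGeometry
universe u
open GrpQ

namespace Groth.Agent.S5235

lemma le_of_mk_ι_le {X : Scheme.{u}} {U V : X.Opens}
    (hle : Subobject.mk U.ι ≤ Subobject.mk V.ι) : U ≤ V := by
  have e := Subobject.ofMkLEMk_comp hle
  intro x hx
  have : x = V.ι ((Subobject.ofMkLEMk U.ι V.ι hle) ⟨x, hx⟩) := by
    rw [← Scheme.Hom.comp_apply, e]; rfl
  rw [this]
  exact ((Subobject.ofMkLEMk U.ι V.ι hle) ⟨x, hx⟩).2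

lemma mk_ι_injective {X : Scheme.{u}} {U V : X.Opens}
    (h : Subobject.mk U.ι = Subobject.mk V.ι) : U = V :=
  le_antisymm (le_of_mk_ι_le h.le) (le_of_mk_ι_le h.ge)

lemma eq_mk_opensRange {X : Scheme.{u}} (Y : Subobject X) [IsOpenImmersion Y.arrow] :
    Y = Subobject.mk Y.arrow.opensRange.ι := by
  conv_lhs => rw [← Subobject.mk_arrow Y]
  exact Subobject.mk_eq_mk_of_comm _ _ Y.arrow.isoOpensRange (Y.arrow.isoOpensRange_hom_ι)

lemma isOpenImmersion_mk_arrow {X : Scheme.{u}} (U : X.Opens) :
    IsOpenImmersion (Subobject.mk U.ι).arrow := by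
  rw [← Subobject.underlyingIso_hom_comp_eq_mk]; infer_instance

lemma pullback_mk {X X' : Scheme.{u}} (π : X ⟶ X') (U : X'.Opens) :
    (Subobject.pullback π).obj (Subobject.mk U.ι) = Subobject.mk (π ⁻¹ᵁ U).ι :=
  Subobject.pullback_obj_mk (isPullback_morphismRestrict π U)

/-- For schemes, with (M) the faithfully flat quasi-compact morphisms and (N) the open immersions: if `π
: X ⟶ X'` is flat, surjective and quasi-compact, then `Y' ↦ π⁻¹(Y')` is a bijection from open
subschemes of `X'` onto the open subschemes of `X` stable under the kernel pair of `π`. -/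
theorem result {X X' : Scheme.{u}} (π : X ⟶ X')
    [Flat π] [Surjective π] [QuasiCompact π] :
    Set.BijOn (Subobject.pullback π).obj
      {Y' : Subobject X' | IsOpenImmersion Y'.arrow}
      {Y : Subobject X | IsOpenImmersion Y.arrow ∧
        (Subobject.pullback (pullback.fst π π)).obj Y = (Subobject.pullback (pullback.snd π π)).obj Y} := by
  refine ⟨?_, ?_, ?_⟩
  · intro Y' (hY' : IsOpenImmersion Y'.arrow)
    refine ⟨?_, ?_⟩
    · rw [eq_mk_opensRange Y', pullback_mk]
      exact isOpenImmersion_mk_arrow _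
    · rw [← Subobject.pullback_comp, ← Subobject.pullback_comp, pullback.condition]
  · intro Y₁ (h₁ : IsOpenImmersion Y₁.arrow) Y₂ (h₂ : IsOpenImmersion Y₂.arrow) h
    rw [eq_mk_opensRange Y₁, eq_mk_opensRange Y₂, pullback_mk, pullback_mk] at h
    have h' := mk_ι_injective h
    have hU : Y₁.arrow.opensRange = Y₂.arrow.opensRange := by
      ext x
      obtain ⟨y, rfl⟩ := π.surjective x
      have := congrArg (fun U : X.Opens => y ∈ U) h'
      simpa using this
    rw [eq_mk_opensRange Y₁, eq_mk_opensRange Y₂, hU]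
  · rintro Y ⟨hY, hst⟩
    rw [eq_mk_opensRange Y, pullback_mk, pullback_mk] at hst
    have hW := mk_ι_injective hst
    set W : X.Opens := Y.arrow.opensRange with hWdef
    have hsat : (π : X → X') ⁻¹' ((π : X → X') '' (W : Set X)) = (W : Set X) := by
      apply subset_antisymm
      · rintro x ⟨w, hw, hwx⟩
        obtain ⟨z, hz1, hz2⟩ := Scheme.Pullback.exists_preimage_pullback (f := π) (g := π) w x hwx
        have hz : z ∈ (pullback.fst π π) ⁻¹ᵁ W := by
          show (pullback.fst π π) z ∈ W
          rw [hz1]; exact hw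
        rw [hW] at hz
        have : (pullback.snd π π) z ∈ W := hz
        rwa [hz2] at this
      · exact Set.subset_preimage_image _ _
    have hopen : IsOpen ((π : X → X') '' (W : Set X)) := by
      rw [← (Flat.isQuotientMap_of_surjective π).isOpen_preimage, hsat]
      exact W.2
    let U' : X'.Opens := ⟨_, hopen⟩
    refine ⟨Subobject.mk U'.ι, isOpenImmersion_mk_arrow _, ?_⟩
    have hU' : π ⁻¹ᵁ U' = W := by
      ext x
      exact Set.ext_iff.1 hsat x
    rw [pullback_mk, hU']
    exact (eq_mk_opensRange Y).symm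

end Groth.Agent.S5235
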