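import Groth.Statements.S5236
import Groth.Agent.Lib.Helper14.GrpQuot8
import Groth.Agent.Lib.Helper14.OverFppf

set_option autoImplicit false
open CategoryTheory CategoryTheory.Limits AlgebraicGeometry MonoidalCategory
universe u
open RedSub

namespace Groth.Agent.S5236

/-- For group schemes and the fppf topology: if `i : H ⟶ G` is a normal monomorphism of `S`-group
schemes and `q : G ⟶ Q` exhibits `Q` as the fppf quotient `G/H`, then there is exactly one
group-scheme structure on `Q` over `S` making `q` a homomorphism. -/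
theorem result {S : Scheme.{u}} {H G Q : Over S} [GrpObj H] [hG : GrpObj G]
    (i : H ⟶ G) [IsMonHom i] [Mono i] (hn : AlgGrp.IsNormalHom i)
    (q : G ⟶ Q) (hq : RedSub.IsQuotient i q) :
    ∃! s : GrpObj Q, @IsMonHom (Over S) _ _ G Q hG.toMonObj s.toMonObj q := by
  obtain ⟨h1, h2, h3, hk⟩ := hq
  have hfp : Groth.Agent.Lib.Helper14.GrpQuot.IsFppf q := ⟨h1, h2, h3⟩
  have e1 : EffectiveEpi q := hfp.effectiveEpi
  have e2 : EffectiveEpi (q ⊗ₘ q) := (hfp.tensorHom hfp).effectiveEpi
  have e3 : EffectiveEpi ((q ⊗ₘ q) ⊗ₘ q) := ((hfp.tensorHom hfp).tensorHom hfp).effectiveEpi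
  exact Groth.Agent.Lib.Helper14.GrpQuot.existsUnique_grpObj' i q hk hn

end Groth.Agent.S5236
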