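import Groth.Statements.S5237
import Groth.Agent.Lib.Helper14.GrpQuot8
import Groth.Agent.Lib.Helper14.OverFppf

set_option autoImplicit false
open CategoryTheory CategoryTheory.Limits AlgebraicGeometry MonoidalCategory
universe u
open RedSub

namespace Groth.Agent.S5237

open MonObj GrpObj CartesianMonoidalCategory in
/-- For group schemes and the fppf topology: if `q : G ⟶ Q = G/H` is the fppf quotient of `G` by a
normal subgroup `H`, with its group structure, then a homomorphism `G ⟶ K` that kills `H` factors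
uniquely through `q`, and the factorisation is a homomorphism. -/
theorem result {S : Scheme.{u}} {H G Q K : Over S}
    [GrpObj H] [GrpObj G] [GrpObj Q] [GrpObj K]
    (i : H ⟶ G) [IsMonHom i] [Mono i] (hn : AlgGrp.IsNormalHom i)
    (q : G ⟶ Q) [IsMonHom q] (hq : RedSub.IsQuotient i q)
    (f : G ⟶ K) [IsMonHom f] (hf : i ≫ f = 1) :
    ∃! g : Q ⟶ K, q ≫ g = f ∧ IsMonHom g := by
  obtain ⟨h1, h2, h3, hk⟩ := hq
  have hfp : Groth.Agent.Lib.Helper14.GrpQuot.IsFppf q := ⟨h1, h2, h3⟩
  have e1 : EffectiveEpi q := hfp.effectiveEpi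
  have e2 : EffectiveEpi (q ⊗ₘ q) := (hfp.tensorHom hfp).effectiveEpi
  exact Groth.Agent.Lib.Helper14.GrpQuot.existsUnique_hom_desc i q hk f hf

end Groth.Agent.S5237
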