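import Groth.Statements.S5240
import Mathlib
import Groth.Agent.Lib.Helper15.MultType

set_option autoImplicit false
universe u
open TensorProduct SGA3b
open SGA3b

namespace Groth.Agent.S5240

/-- Case of an affine target group: Let R be a ring, I a nilpotent ideal of R, H = Spec A an R-group of
multiplicative type, G = Spec C an affine R-group and u : H ⟶ G a homomorphism, given by the
bialgebra map φ : C → A. If the reduction of u modulo I is the unit homomorphism (φ c and ε(c)·1
have the same image in (R/I) ⊗ A for every c), then u is the unit homomorphism: φ c = ε(c)·1 for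
every c. (The published statement allows any S-group G; this row takes G affine.) (Affine group
schemes over an affine base are taken in Hopf-algebra form; base change is the tensor product; a
homomorphism of groups Spec A ⟶ Spec C is a bialgebra map C → A.) -/
theorem result (R : Type u) [CommRing R] (I : Ideal R) (hI : IsNilpotent I)
    (A : Type u) [CommRing A] [HopfAlgebra R A] (hH : IsMultType R A)
    (C : Type u) [CommRing C] [HopfAlgebra R C] (φ : C →ₐc[R] A)
    (h0 : ∀ c : C, (1 : R ⧸ I) ⊗ₜ[R] (φ c) = (1 : R ⧸ I) ⊗ₜ[R] (algebraMap R A (Coalgebra.counit c))) :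
    ∀ c : C, φ c = algebraMap R A (Coalgebra.counit c) := by
  intro c
  set ψ : C →ₐc[R] A := Groth.Agent.Lib.helper15.MultType.triv with hψ
  have hH0 : ∀ c, φ c - ψ c ∈ I • (⊤ : Submodule R A) := fun c =>
    Groth.Agent.Lib.helper15.MultType.sub_mem_of_tmul_eq I (h0 c)
  obtain ⟨s, hs, hf⟩ := hH
  rw [← sub_eq_zero]
  apply Groth.Agent.Lib.helper15.MultType.eq_zero_of_localization s hs
  intro f hfs
  obtain ⟨R', _, _, hff, M, _, ⟨e⟩⟩ := hf f hfs
  apply Module.FaithfullyFlat.tensorProduct_mk_injective (A := Localization.Away f) (B := R')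
    (Localization.Away f ⊗[R] A)
  rw [map_zero]
  change (1 : R') ⊗ₜ[Localization.Away f] ((1 : Localization.Away f) ⊗ₜ[R]
    (φ c - ψ c)) = 0
  set φ'' := Groth.Agent.Lib.helper15.MultType.bc R'
    (Groth.Agent.Lib.helper15.MultType.bc (Localization.Away f) φ) with hφ''
  set ψ'' := Groth.Agent.Lib.helper15.MultType.bc R'
    (Groth.Agent.Lib.helper15.MultType.bc (Localization.Away f) ψ) with hψ''
  have hmem : ∀ c'', φ'' c'' - ψ'' c'' ∈
      ((I.map (algebraMap R (Localization.Away f))).map (algebraMap (Localization.Away f) R')) •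
        (⊤ : Submodule R' (R' ⊗[Localization.Away f] (Localization.Away f ⊗[R] A))) :=
    Groth.Agent.Lib.helper15.MultType.bc_sub_mem R' _ _ _
      (Groth.Agent.Lib.helper15.MultType.bc_sub_mem (Localization.Away f) I φ ψ hH0)
  -- ψ'' is trivial
  have hψtriv : ∀ c'', ψ'' c'' = algebraMap R' _ (Coalgebra.counit c'') := by
    intro c''
    have h1 : Groth.Agent.Lib.helper15.MultType.bc (Localization.Away f) ψ =
        Groth.Agent.Lib.helper15.MultType.triv := by
      ext c'
      exact Groth.Agent.Lib.helper15.MultType.bc_triv (Localization.Away f) c'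
    rw [hψ'', h1]
    exact Groth.Agent.Lib.helper15.MultType.bc_triv R' c''
  have key := Groth.Agent.Lib.helper15.MultType.eq_trivial_of_diag
    ((I.map (algebraMap R (Localization.Away f))).map (algebraMap (Localization.Away f) R'))
    (Groth.Agent.Lib.helper15.MultType.isNilpotent_map
      (Groth.Agent.Lib.helper15.MultType.isNilpotent_map hI))
    ((e : _ →ₐc[R'] MonoidAlgebra R' M).comp φ'')
    (fun c'' => by
      have := Groth.Agent.Lib.helper15.MultType.equiv_sub_mem e _ (hmem c'')
      rw [map_sub, hψtriv c'', AlgHomClass.commutes] at this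
      exact this)
    ((1 : R') ⊗ₜ[Localization.Away f] ((1 : Localization.Away f) ⊗ₜ[R] c))
  have h1 : φ'' ((1 : R') ⊗ₜ[Localization.Away f] ((1 : Localization.Away f) ⊗ₜ[R] c)) =
      (1 : R') ⊗ₜ[Localization.Away f] ((1 : Localization.Away f) ⊗ₜ[R] φ c) := rfl
  have h2 : ψ'' ((1 : R') ⊗ₜ[Localization.Away f] ((1 : Localization.Away f) ⊗ₜ[R] c)) =
      (1 : R') ⊗ₜ[Localization.Away f] ((1 : Localization.Away f) ⊗ₜ[R] ψ c) := rfl
  have key' : φ'' ((1 : R') ⊗ₜ[Localization.Away f] ((1 : Localization.Away f) ⊗ₜ[R] c)) =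
      ψ'' ((1 : R') ⊗ₜ[Localization.Away f] ((1 : Localization.Away f) ⊗ₜ[R] c)) := by
    apply EquivLike.injective e
    rw [hψtriv, AlgHomClass.commutes]
    exact key
  rw [TensorProduct.tmul_sub, TensorProduct.tmul_sub, sub_eq_zero, ← h1, ← h2]
  exact key'

end Groth.Agent.S5240
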