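import Groth.Statements.S5243
import Mathlib
import Groth.Agent.Lib.Helper15.MultTypeMono

set_option autoImplicit false
universe u
open TensorProduct SGA3b
open SGA3b

namespace Groth.Agent.S5243

/-- Let G = Spec A be an R-group of multiplicative type, H = Spec C an affine R-group and u : G ⟶ H a
homomorphism of R-groups, given by the bialgebra map φ : C → A, which is a monomorphism: for every
R-algebra T the induced map on T-valued points G(T) → H(T) is injective. Then u is a closed
immersion, i.e. φ is surjective. (The published statement also asserts that the quotient of H by G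
exists and is affine over the base, and that H is a torsor over it; this row states only that u is a
closed immersion.) (Affine group schemes over an affine base are taken in Hopf-algebra form; base
change is the tensor product; a homomorphism of groups Spec A ⟶ Spec C is a bialgebra map C → A.) -/
theorem result (R : Type u) [CommRing R] (A : Type u) [CommRing A] [HopfAlgebra R A]
    (h : IsMultType R A) (C : Type u) [CommRing C] [HopfAlgebra R C] (φ : C →ₐc[R] A)
    (hmono : ∀ (T : Type u) [CommRing T] [Algebra R T],
      Function.Injective (fun x : A →ₐ[R] T => x.comp (φ : C →ₐ[R] A))) :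
    Function.Surjective φ := by
  classical
  obtain ⟨s, hs, hf⟩ := h
  refine surjective_of_isLocalized_span s hs (fun r : s => Localization.Away r.1 ⊗[R] C)
    (fun r => TensorProduct.mk R (Localization.Away r.1) C 1)
    (fun r : s => Localization.Away r.1 ⊗[R] A)
    (fun r => TensorProduct.mk R (Localization.Away r.1) A 1) (φ : C →ₗ[R] A) ?_
  rintro ⟨f, hfs⟩
  obtain ⟨R', _, _, hff, M, _, ⟨e⟩⟩ := hf f hfs
  set ψ := Groth.Agent.Lib.helper15.MultType.bc (Localization.Away f) φ with hψ
  set φ'' := Groth.Agent.Lib.helper15.MultType.bc R' ψ with hφ''
  have hmonoψ := Groth.Agent.Lib.helper15.MultTypeMono.mono_bc φ hmono (Localization.Away f)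
  have hmonoφ'' := Groth.Agent.Lib.helper15.MultTypeMono.mono_bc ψ hmonoψ R'
  have hmonoe := Groth.Agent.Lib.helper15.MultTypeMono.mono_equiv φ'' e hmonoφ''
  have hsurj1 := Groth.Agent.Lib.helper15.MultTypeMono.surjective_of_mono_diag R' M _ _ hmonoe
  have hsurj2 : Function.Surjective φ'' := by
    intro a
    obtain ⟨c, hc⟩ := hsurj1 (e a)
    exact ⟨c, EquivLike.injective e hc⟩
  have hsurj3 : Function.Surjective ψ := by
    have h1 : Function.Surjective
        ((ψ : (Localization.Away f ⊗[R] C) →ₗ[Localization.Away f] (Localization.Away f ⊗[R] A)).lTensor R') := by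
      have h2 : ∀ c, ((ψ : (Localization.Away f ⊗[R] C) →ₗ[Localization.Away f]
          (Localization.Away f ⊗[R] A)).lTensor R') c = φ'' c := by
        intro c
        induction c using TensorProduct.induction_on with
        | zero => simp
        | tmul x y => rfl
        | add x y hx hy => rw [map_add, map_add, hx, hy]
      intro a
      obtain ⟨c, hc⟩ := hsurj2 a
      exact ⟨c, (h2 c).trans hc⟩
    exact (Module.FaithfullyFlat.lTensor_surjective_iff_surjective (Localization.Away f) R'
      (ψ : (Localization.Away f ⊗[R] C) →ₗ[Localization.Away f] (Localization.Away f ⊗[R] A))).mp h1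
  have heq : IsLocalizedModule.map (Submonoid.powers f)
      (TensorProduct.mk R (Localization.Away f) C 1) (TensorProduct.mk R (Localization.Away f) A 1)
      (φ : C →ₗ[R] A) = (ψ : (Localization.Away f ⊗[R] C) →ₗ[Localization.Away f] (Localization.Away f ⊗[R] A)).restrictScalars R := by
    apply IsLocalizedModule.linearMap_ext (Submonoid.powers f)
      (TensorProduct.mk R (Localization.Away f) C 1) (TensorProduct.mk R (Localization.Away f) A 1)
    ext c
    rw [LinearMap.comp_apply, IsLocalizedModule.map_apply]
    rfl
  intro a
  obtain ⟨c, hc⟩ := hsurj3 a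
  refine ⟨c, ?_⟩
  change (IsLocalizedModule.map (Submonoid.powers f)
      (TensorProduct.mk R (Localization.Away f) C 1) (TensorProduct.mk R (Localization.Away f) A 1)
      (φ : C →ₗ[R] A)) c = a
  rw [heq]
  exact hc

end Groth.Agent.S5243
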