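import Groth.Statements.S5244
import Mathlib
import Groth.Agent.Lib.Helper15.MultQuot

set_option autoImplicit false
universe u
open TensorProduct SGA3b
open SGA3b

namespace Groth.Agent.S5244

/-- Case of a group of multiplicative type, assertion on the subgroup; G is taken of finite type, the
case the printed proof treats in full before a limit argument: Let k be a field, G = Spec A a
k-group of multiplicative type and of finite type, and H = Spec (A/J) a closed subgroup scheme of G
(J a Hopf ideal). Then H is of multiplicative type. (Affine group schemes over an affine base are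
taken in Hopf-algebra form; base change is the tensor product; a homomorphism of groups Spec A ⟶
Spec C is a bialgebra map C → A.) -/
theorem result (k : Type u) [Field k] (A : Type u) [CommRing A] [HopfAlgebra k A]
    (hft : Algebra.FiniteType k A) (h : IsMultType k A) (J : Ideal A) [J.IsHopfIdeal k] :
    IsMultType k (A ⧸ J) := by
  obtain ⟨s, hs, hcov⟩ := h
  refine ⟨s \ {0}, by rw [Ideal.span_sdiff_singleton_zero]; exact hs, ?_⟩
  intro f hf
  have hf0 : f ≠ 0 := fun h0 => hf.2 (by simp [h0])
  have hLf : IsField (Localization.Away f) := by
    have e : k ≃ₐ[k] Localization.Away f :=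
      IsLocalization.atUnits k (Submonoid.powers f) (by
        rintro _ ⟨n, rfl⟩
        exact (IsUnit.mk0 f hf0).pow n)
    exact e.symm.toMulEquiv.isField (Field.toIsField k)
  let π' : Localization.Away f ⊗[k] A →ₐc[Localization.Away f] Localization.Away f ⊗[k] (A ⧸ J) :=
    Bialgebra.TensorProduct.map (BialgHom.id _ _) (Bialgebra.Quotient.mkBialgHom J)
  have hπ't : ∀ (l : Localization.Away f) (a : A),
      π' (l ⊗ₜ[k] a) = l ⊗ₜ[k] Ideal.Quotient.mk J a := fun l a => rfl
  have hπ' : Function.Surjective π' := by
    intro y
    induction y with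
    | zero => exact ⟨0, map_zero _⟩
    | add y z hy hz =>
      obtain ⟨a, rfl⟩ := hy
      obtain ⟨b, rfl⟩ := hz
      exact ⟨a + b, map_add _ _ _⟩
    | tmul l c =>
      obtain ⟨a, rfl⟩ := Ideal.Quotient.mk_surjective c
      exact ⟨l ⊗ₜ a, hπ't l a⟩
  exact Groth.Agent.Lib.helper15.MultQuot.isMultTypeConst_of_surjective hLf π' hπ' (hcov f hf.1)

end Groth.Agent.S5244
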