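import Groth.Statements.S5252
import Groth.Agent.Lib.Helper15.DefoDiag4
import Groth.Agent.Lib.Helper15.HensGL2
import Groth.Agent.S2969

set_option autoImplicit false
universe u
open TensorProduct SGA3b
open SGA3b

namespace Groth.Agent.S5252

/-- Let A be an Artinian local ring with residue field k and H = Spec C an affine A-group with C flat
and of finite type over A, whose closed fibre Spec (k ⊗ C) is a k-group of multiplicative type. Then
H is of multiplicative type and isotrivial. (Affine group schemes over an affine base are taken in
Hopf-algebra form; base change is the tensor product; a homomorphism of groups Spec A ⟶ Spec C is a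
bialgebra map C → A.) -/
theorem result (A : Type u) [CommRing A] [IsArtinianRing A] [IsLocalRing A]
    (C : Type u) [CommRing C] [HopfAlgebra A C] [Module.Flat A C] (hft : Algebra.FiniteType A C)
    (h0 : IsMultType (IsLocalRing.ResidueField A) (IsLocalRing.ResidueField A ⊗[A] C)) :
    IsMultType A C ∧ IsIsotrivial A C := by
  classical
  have hnil : IsNilpotent (IsLocalRing.maximalIdeal A) := by
    have h1 := IsArtinianRing.isNilpotent_jacobson_bot (R := A)
    rwa [IsLocalRing.jacobson_eq_maximalIdeal ⊥ bot_ne_top] at h1
  have hft0 : Algebra.FiniteType (IsLocalRing.ResidueField A)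
      (IsLocalRing.ResidueField A ⊗[A] C) := inferInstance
  obtain ⟨k', _, _, hfin, hsep, M, _, -, ⟨E'⟩⟩ :=
    Groth.Agent.S2969.result (IsLocalRing.ResidueField A) _ hft0 h0
  have : Algebra.Etale (IsLocalRing.ResidueField A) k' := by
    have h1 := Algebra.FormallyEtale.of_isSeparable (IsLocalRing.ResidueField A) k'
    have h2 : Algebra.FinitePresentation (IsLocalRing.ResidueField A) k' :=
      Algebra.FinitePresentation.of_finiteType.mp inferInstance
    exact { formallyEtale := h1, finitePresentation := h2 }
  have hiso0 : IsIsotrivial (IsLocalRing.ResidueField A) (IsLocalRing.ResidueField A ⊗[A] C) :=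
    ⟨k', inferInstance, inferInstance, inferInstance, hfin, inferInstance,
      ⟨M, inferInstance, ⟨E'⟩⟩⟩
  have hiso : IsIsotrivial A C :=
    Groth.Agent.Lib.helper15.DefoDiag.isIsotrivial_of_mod_nilpotent
      (IsLocalRing.maximalIdeal A) hnil hiso0
  refine ⟨?_, hiso⟩
  obtain ⟨A', _, _, -, -, hff, hd⟩ := hiso
  exact Groth.Agent.Lib.helper15.HensGL.isMultType_of_const ⟨A', inferInstance, inferInstance, hff, hd⟩

end Groth.Agent.S5252
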