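import Groth.Statements.S5271
import Groth.Agent.Lib.Helper15.FormalHom1
import Groth.Agent.Lib.Helper15.FormalHom3
import Groth.Agent.Lib.Helper15.HochInt0
import Groth.Agent.Lib.Helper15.HensGL2

set_option autoImplicit false
universe u
open TensorProduct SGA3b
open SGA3b

namespace Groth.Agent.S5271

/-- Let A be a Noetherian ring, separated and complete for the I-adic topology, H = Spec B an isotrivial
A-group of multiplicative type and G = Spec C an affine A-group with C smooth over A. Then every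
homomorphism of (A/I)-groups H₀ ⟶ G₀ between the reductions modulo I, i.e. every bialgebra map φ₀ :
C₀ → B₀ over A/I, is the reduction of a homomorphism of A-groups H ⟶ G: there is a bialgebra map φ :
C → B with φ₀ (1 ⊗ c) = 1 ⊗ φ c for all c. (Affine group schemes over an affine base are taken in
Hopf-algebra form; base change is the tensor product; a homomorphism of groups Spec A ⟶ Spec C is a
bialgebra map C → A.) -/
theorem result (A : Type u) [CommRing A] [IsNoetherianRing A] (I : Ideal A) [IsAdicComplete I A]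
    (B : Type u) [CommRing B] [HopfAlgebra A B] (hH : IsIsotrivial A B)
    (C : Type u) [CommRing C] [HopfAlgebra A C] [Algebra.Smooth A C]
    (φ₀ : ((A ⧸ I) ⊗[A] C) →ₐc[A ⧸ I] ((A ⧸ I) ⊗[A] B)) :
    ∃ φ : C →ₐc[A] B, ∀ c : C, φ₀ ((1 : A ⧸ I) ⊗ₜ[A] c) = (1 : A ⧸ I) ⊗ₜ[A] (φ c) := by
  classical
  obtain ⟨R', _, _, _hEt, hFin, hFF, M, _, ⟨e⟩⟩ := hH
  have hconst : IsMultTypeConst A B := ⟨R', inferInstance, inferInstance, hFF, M, inferInstance, ⟨e⟩⟩
  have hmt : IsMultType A B := Groth.Agent.Lib.helper15.HensGL.isMultType_of_const hconst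
  obtain ⟨lam, hlam⟩ := Groth.Agent.Lib.helper15.DefoDiag.exists_integral_of_isMultType hmt
  obtain ⟨ψ, hψ0, hψ⟩ := Groth.Agent.Lib.helper15.FormalHom.exists_tower hlam I φ₀
  obtain ⟨φ, hφ⟩ := Groth.Agent.Lib.helper15.FormalHom.exists_bialgHom_of_tower e I ψ hψ
  refine ⟨φ, fun c => ?_⟩
  rw [← hψ0 c, ← hφ 0 c, Groth.Agent.Lib.helper15.FormalHom.red_one_tmul]

end Groth.Agent.S5271
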