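import Groth.Statements.S5274
import Groth.Agent.Lib.Helper14.DiagHomG5

set_option autoImplicit false
open CategoryTheory MonoidalCategory CartesianMonoidalCategory MonObj GrpObj AlgebraicGeometry
universe u
open SGA3x

namespace Groth.Agent.S5274

/-- Let u : G ⟶ H be a homomorphism of S-groups of multiplicative type and of finite type. Then the set
U of points s ∈ S such that u_s : G_s ⟶ H_s is a monomorphism is open and closed in S, and the
homomorphism G|_U ⟶ H|_U induced above U is a monomorphism. -/
theorem result {S : Scheme.{u}} (G H : Over S) [GrpObj G] [GrpObj H]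
    (hG : SGA3x.IsMultTypeFT G) (hH : SGA3x.IsMultTypeFT H) (u : G ⟶ H) [IsMonHom u] :
    ∃ U : S.Opens, IsClosed (U : Set S) ∧
      (∀ s : S, s ∈ U ↔ Mono ((Over.pullback (S.fromSpecResidueField s)).map u).left) ∧
      Mono ((Over.pullback U.ι).map u).left := by
  obtain ⟨U, hU, hiff, hPU⟩ := Groth.Agent.Lib.Helper14.DiagHomG5.main
    (MorphismProperty.monomorphisms Scheme.{u}) Groth.Agent.Lib.Helper14.DiagHomG4.hLoc_mono
    G H hG hH u
  exact ⟨U, hU, fun s => (hiff s).trans (MorphismProperty.monomorphisms.iff _),
    (MorphismProperty.monomorphisms.iff _).mp hPU⟩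

end Groth.Agent.S5274
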