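import Groth.Statements.S5278
import Mathlib
import Groth.Agent.Lib.Helper3.ClopenComp

set_option autoImplicit false
open CategoryTheory AlgebraicGeometry
universe u
open SGA3x

namespace Groth.Agent.S5278

/-- Let X be a connected scheme, f : X' ⟶ X a finite etale morphism and x a point of X. Then every
connected component of X' meets the fibre of f over x; equivalently the map from the connected
components of the fibre (or of the geometric fibre) to those of X' is surjective. -/
theorem result {X X' : Scheme.{u}} [ConnectedSpace X] (f : X' ⟶ X)
    [IsFinite f] [Etale f] (x : X) (c : X') :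
    ∃ x' : X', f.base x' = x ∧ x' ∈ connectedComponent c := by
  have hopen : IsOpenMap f.base := f.isOpenMap
  have hclosed : IsClosedMap f.base := f.isClosedMap
  have hF : (f.base ⁻¹' {x}).Finite := f.finite_preimage_singleton x
  have hmeet : ∀ U : Set X', IsClopen U → U ⊆ Set.univ → U.Nonempty →
      (U ∩ f.base ⁻¹' {x}).Nonempty := by
    intro U hU _ hne
    have h1 : IsClopen (f.base '' U) := ⟨hclosed U hU.1, hopen U hU.2⟩
    have h2 : f.base '' U = Set.univ := by
      rcases isClopen_iff.mp h1 with h | h
      · exact absurd h (hne.image _).ne_empty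
      · exact h
    have hx : x ∈ f.base '' U := h2 ▸ Set.mem_univ x
    obtain ⟨x', hx'U, hx'⟩ := hx
    exact ⟨x', hx'U, hx'⟩
  obtain ⟨-, x', hx'C, hx'F⟩ :=
    Groth.Agent.Lib.helper3.ClopenComp.isClopen_connectedComponent_of_finite_meets
      (A := Set.univ) isClopen_univ hF hmeet (y := c) (Set.mem_univ c)
  exact ⟨x', hx'F, hx'C⟩

end Groth.Agent.S5278
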