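import Groth.Statements.S5291
import Groth.Agent.Lib.Helper15.HochRel

set_option autoImplicit false
universe u
open TensorProduct SGA3b
open SGA3b

namespace Groth.Agent.S5291

/-- Let R be a ring, I a nilpotent ideal of R, u : H₁ ⟶ H₂ a homomorphism of R-groups of multiplicative
type (H₁ = Spec A₁, H₂ = Spec A₂, u given by the bialgebra map α : A₂ → A₁), G = Spec C an affine
R-group with C smooth over R, v : H₁ ⟶ G a homomorphism (bialgebra map β : C → A₁) and w₀ : H₂,₀ ⟶
G₀ a homomorphism over R/I (bialgebra map γ₀ : C₀ → A₂,₀) with w₀ ∘ u₀ = v₀ (the reduction of α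
composed with γ₀ is the reduction of β). Then there is a homomorphism w : H₂ ⟶ G (bialgebra map γ :
C → A₂) lifting w₀ with w ∘ u = v, i.e. α ∘ γ = β. (The published statement says that the map of
homomorphism functors w ↦ w ∘ u is formally smooth, for any smooth S-group G; this row states the
lifting property this means over an affine base, for G affine.) (Affine group schemes over an affine
base are taken in Hopf-algebra form; base change is the tensor product; a homomorphism of groups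
Spec A ⟶ Spec C is a bialgebra map C → A.) -/
theorem result (R : Type u) [CommRing R] (I : Ideal R) (hI : IsNilpotent I)
    (A₁ : Type u) [CommRing A₁] [HopfAlgebra R A₁] (h₁ : IsMultType R A₁)
    (A₂ : Type u) [CommRing A₂] [HopfAlgebra R A₂] (h₂ : IsMultType R A₂) (α : A₂ →ₐc[R] A₁)
    (C : Type u) [CommRing C] [HopfAlgebra R C] [Algebra.Smooth R C] (β : C →ₐc[R] A₁)
    (γ₀ : ((R ⧸ I) ⊗[R] C) →ₐc[R ⧸ I] ((R ⧸ I) ⊗[R] A₂))
    (h0 : ∀ c : C, Algebra.TensorProduct.map (AlgHom.id (R ⧸ I) (R ⧸ I)) (α : A₂ →ₐ[R] A₁) (γ₀ ((1 : R ⧸ I) ⊗ₜ[R] c)) =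
      (1 : R ⧸ I) ⊗ₜ[R] (β c)) :
    ∃ γ : C →ₐc[R] A₂, (∀ c : C, γ₀ ((1 : R ⧸ I) ⊗ₜ[R] c) = (1 : R ⧸ I) ⊗ₜ[R] (γ c)) ∧ ∀ c : C, α (γ c) = β c := by
  obtain ⟨n, hn⟩ := hI
  obtain ⟨lam₁, hlam₁⟩ := Groth.Agent.Lib.helper15.DefoDiag.exists_integral_of_isMultType h₁
  obtain ⟨lam₂, hlam₂⟩ := Groth.Agent.Lib.helper15.DefoDiag.exists_integral_of_isMultType h₂
  have hker : (RingHom.ker (algebraMap R (R ⧸ I))) ^ n = ⊥ := by
    have h1 : RingHom.ker (algebraMap R (R ⧸ I)) = I := Ideal.mk_ker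
    rw [h1, hn, Ideal.zero_eq_bot]
  have h0' : ∀ y : (R ⧸ I) ⊗[R] C,
      Groth.Agent.Lib.helper15.MultType.bc (R ⧸ I) α (γ₀ y) =
        Groth.Agent.Lib.helper15.MultType.bc (R ⧸ I) β y := by
    intro y
    induction y using TensorProduct.induction_on with
    | zero => simp
    | tmul l c =>
      have e : l ⊗ₜ[R] c = l • ((1 : R ⧸ I) ⊗ₜ[R] c) := by
        rw [TensorProduct.smul_tmul', smul_eq_mul, mul_one]
      rw [e, map_smul, map_smul, map_smul]
      congr 1
      exact h0 c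
    | add x y hx hy => rw [map_add, map_add, hx, hy, map_add]
  exact Groth.Agent.Lib.helper15.DefoDiag.exists_rel_lift_of_pow_eq_bot n (L := R ⧸ I)
    Ideal.Quotient.mk_surjective hker hlam₁ hlam₂ α β γ₀ h0'

end Groth.Agent.S5291
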