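import Groth.Statements.S5310
import Mathlib
import Groth.Agent.Lib.Helper5.MaxOpenFppf2

set_option autoImplicit false
universe u
open CategoryTheory CategoryTheory.Limits MonoidalCategory CartesianMonoidalCategory MonObj GrpObj AlgebraicGeometry
open SGA3

namespace Groth.Agent.S5310

/-- Let u : G → H be a homomorphism of S-group schemes, with G or H flat over S and G or H locally of
finite presentation over S. Let P be one of the properties 'flat and locally of finite
presentation', 'smooth', 'etale', and let V be the largest open subscheme of G on which the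
restriction of u has P. Then the image U of V in S is open and V is an open subgroup scheme of G
over U: V contains the unit point of every fibre of G that it meets, V is stable under the inversion
of G, and the product of a point of G ×_S G whose two projections lie in V lies in V. -/
theorem result (S : Scheme.{u}) (G H : Over S) [GrpObj G] [GrpObj H]
    (u : G ⟶ H) [IsMonHom u]
    (hfl : Flat G.hom ∨ Flat H.hom) (hfp : LocallyOfFinitePresentation G.hom ∨ LocallyOfFinitePresentation H.hom)
    (P : MorphismProperty Scheme.{u})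
    (hP : (∀ (X Y : Scheme.{u}) (f : X ⟶ Y), P f ↔ (Flat f ∧ LocallyOfFinitePresentation f)) ∨
      (∀ (X Y : Scheme.{u}) (f : X ⟶ Y), P f ↔ Smooth f) ∨ (∀ (X Y : Scheme.{u}) (f : X ⟶ Y), P f ↔ Etale f))
    (V : G.left.Opens) (hV : P (V.ι ≫ u.left)) (hmax : ∀ W : G.left.Opens, P (W.ι ≫ u.left) → W ≤ V) :
    IsOpen (G.hom.base '' (V : Set G.left)) ∧
    (∀ g ∈ V, ∀ p : ↥(𝟙_ (Over S)).left, (𝟙_ (Over S)).hom.base p = G.hom.base g → η[G].left.base p ∈ V) ∧
    (∀ g ∈ V, ι[G].left.base g ∈ V) ∧
    (∀ z : ↥(G ⊗ G).left, (fst G G).left.base z ∈ V → (snd G G).left.base z ∈ V → μ[G].left.base z ∈ V) := by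
  have key : ∀ (P' : MorphismProperty Scheme.{u}), P = P' → P'.RespectsIso →
      P'.IsStableUnderBaseChange →
      (∀ {X Y : Scheme.{u}} (f : X ⟶ Y), P' f → Flat f) →
      (∀ {X Y : Scheme.{u}} (f : X ⟶ Y), P' f → LocallyOfFinitePresentation f) →
      (∀ {Pb X Y Y' N₀ : Scheme.{u}} {a : Pb ⟶ X} {b : Pb ⟶ Y'} {f : X ⟶ Y} {g : Y' ⟶ Y}
        (_ : IsPullback a b f g) [Flat g] [LocallyOfFinitePresentation g] (j : N₀ ⟶ Pb)
        [IsOpenImmersion j] (_ : Function.Surjective (j ≫ a)), P' (j ≫ b) → P' f) →
      (IsOpen (G.hom.base '' (V : Set G.left)) ∧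
      (∀ g ∈ V, ∀ p : ↥(𝟙_ (Over S)).left, (𝟙_ (Over S)).hom.base p = G.hom.base g →
        η[G].left.base p ∈ V) ∧
      (∀ g ∈ V, ι[G].left.base g ∈ V) ∧
      (∀ z : ↥(G ⊗ G).left, (fst G G).left.base z ∈ V → (snd G G).left.base z ∈ V →
        μ[G].left.base z ∈ V)) := by
    intro P' hPP' h1 h2 h3 h4 h5
    subst hPP'
    exact Groth.Agent.Lib.helper5.MaxOpenFppf.core S G H u hfl hfp P h3 h4 h5 V hV hmax
  rcases hP with hP | hP | hP
  · refine key (@Flat ⊓ @LocallyOfFinitePresentation) ?_ inferInstance inferInstance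
      (fun f hf => hf.1) (fun f hf => hf.2) ?_
    · ext X Y f
      exact hP X Y f
    · intro Pb X Y Y' N₀ a b f g sq _ _ j _ hsurj h
      exact Groth.Agent.Lib.helper5.MaxOpenFppf.flat_lfp_of_isPullback_cover sq j hsurj h.1 h.2
  · refine key (@Smooth) ?_ inferInstance inferInstance
      (fun f hf => inferInstance) (fun f hf => inferInstance) ?_
    · ext X Y f
      exact hP X Y f
    · intro Pb X Y Y' N₀ a b f g sq _ _ j _ hsurj h
      exact Groth.Agent.Lib.helper5.MaxOpenFppf.smooth_of_isPullback_cover sq j hsurj h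
  · refine key (@Etale) ?_ inferInstance inferInstance
      (fun f hf => inferInstance) (fun f hf => inferInstance) ?_
    · ext X Y f
      exact hP X Y f
    · intro Pb X Y Y' N₀ a b f g sq _ _ j _ hsurj h
      exact Groth.Agent.Lib.helper5.MaxOpenFppf.etale_of_isPullback_cover sq j hsurj h

end Groth.Agent.S5310
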