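import Groth.Statements.S5311
import Mathlib
import Groth.Agent.Lib.Helper28.MaxOpenSrc
-- import your own Groth.Agent.* helpers here

set_option autoImplicit false
universe u
open CategoryTheory CategoryTheory.Limits MonoidalCategory CartesianMonoidalCategory MonObj GrpObj AlgebraicGeometry
open SGA3

namespace Groth.Agent.S5311


open MonoidalCategory CartesianMonoidalCategory MonObj
open Groth.Agent.Lib.helper28.MaxOpenSrc

/-- Let u : G → H be a homomorphism of S-group schemes with G or H universally open over S, and let V be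
the largest open subscheme of G on which the restriction of u is universally open. Then the image U
of V in S is open and V is an open subgroup scheme of G over U: V contains the unit point of every
fibre of G that it meets, V is stable under the inversion of G, and the product of a point of G ×_S
G whose two projections lie in V lies in V. -/
theorem result (S : Scheme.{u}) (G H : Over S) [GrpObj G] [GrpObj H]
    (u : G ⟶ H) [IsMonHom u] (hG : UniversallyOpen G.hom ∨ UniversallyOpen H.hom)
    (V : G.left.Opens) (hV : UniversallyOpen (V.ι ≫ u.left))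
    (hmax : ∀ W : G.left.Opens, UniversallyOpen (W.ι ≫ u.left) → W ≤ V) :
    IsOpen (G.hom.base '' (V : Set G.left)) ∧
    (∀ g ∈ V, ∀ p : ↥(𝟙_ (Over S)).left, (𝟙_ (Over S)).hom.base p = G.hom.base g → η[G].left.base p ∈ V) ∧
    (∀ g ∈ V, ι[G].left.base g ∈ V) ∧
    (∀ z : ↥(G ⊗ G).left, (fst G G).left.base z ∈ V → (snd G G).left.base z ∈ V → μ[G].left.base z ∈ V) := by
  classical
  set T : Over S := Over.mk (V.ι ≫ G.hom) with hTdef
  set g : T ⟶ G := Over.homMk V.ι rfl with hgdef
  have hgl : g.left = V.ι := rfl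
  haveI hT : UniversallyOpen T.hom := by
    show UniversallyOpen (V.ι ≫ G.hom)
    rcases hG with hG | hH
    · infer_instance
    · have : V.ι ≫ G.hom = (V.ι ≫ u.left) ≫ H.hom := by rw [Category.assoc, Over.w u]
      rw [this]
      infer_instance
  haveI hsG : UniversallyOpen (snd T G).left := by rw [Over.snd_left]; infer_instance
  haveI hsH : UniversallyOpen (snd T H).left := by rw [Over.snd_left]; infer_instance
  have hpr : IsOpenMap (snd T G).left := (snd T G).left.isOpenMap
  have hdesc : ∀ N' : (T ⊗ G).left.Opens, UniversallyOpen (N'.ι ≫ (T ◁ u).left) →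
      UniversallyOpen ((imgOpen (snd T G).left hpr N').ι ≫ u.left) := by
    intro N' hN'
    set N : G.left.Opens := imgOpen (snd T G).left hpr N' with hN
    have hrange : Set.range (N'.ι ≫ (snd T G).left) ⊆ Set.range N.ι := by
      rintro _ ⟨x, rfl⟩
      rw [Scheme.Opens.range_ι]
      exact ⟨x.1, x.2, rfl⟩
    set q : (N' : Scheme.{u}) ⟶ (N : Scheme.{u}) :=
      IsOpenImmersion.lift N.ι (N'.ι ≫ (snd T G).left) hrange with hq
    have hqι : q ≫ N.ι = N'.ι ≫ (snd T G).left := IsOpenImmersion.lift_fac _ _ _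
    haveI : Surjective q := by
      refine ⟨fun y => ?_⟩
      obtain ⟨x, hxN, hx⟩ := y.2
      refine ⟨⟨x, hxN⟩, ?_⟩
      apply Subtype.ext
      have := congrArg (fun m => m.base ⟨x, hxN⟩) hqι
      simpa using this.trans hx
    apply univOpen_of_comp_surjective q
    have e : q ≫ N.ι ≫ u.left = (N'.ι ≫ (T ◁ u).left) ≫ (snd T H).left := by
      rw [← Category.assoc, hqι, Category.assoc, Category.assoc, ← Over.comp_left, ← Over.comp_left,
        whiskerLeft_snd]
    rw [e]
    infer_instance
  have tm : ∀ (a : T ⟶ G) (w : (T ⊗ G).left), (snd T G).left w ∈ V →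
      ((fst T G ≫ a) * snd T G).left w ∈ V := fun a w hw =>
    translate_mem @UniversallyOpen u T hpr a V hV hmax hdesc w hw
  -- the unit step
  have hunit : ∀ v : T.left, (toUnit T ≫ η[G]).left v ∈ V := by
    intro v
    have hw : (snd T G).left ((lift (𝟙 T) g).left v) ∈ V := by
      have : (snd T G).left ((lift (𝟙 T) g).left v) = g.left v :=
        congrArg (fun m : T ⟶ G => m.left v) (lift_snd (𝟙 T) g)
      rw [this, hgl]
      exact v.2
    have h1 := tm g⁻¹ _ hw
    have e : lift (𝟙 T) g ≫ ((fst T G ≫ g⁻¹) * snd T G) = toUnit T ≫ η[G] := by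
      rw [MonObj.comp_mul, lift_fst_assoc, lift_snd, Category.id_comp, inv_mul_cancel, Hom.one_def]
    have h2 : ((fst T G ≫ g⁻¹) * snd T G).left ((lift (𝟙 T) g).left v) = (toUnit T ≫ η[G]).left v :=
      congrArg (fun m : T ⟶ G => m.left v) e
    rw [← h2]
    exact h1
  refine ⟨?_, ?_, ?_, ?_⟩
  · haveI hT' : UniversallyOpen (V.ι ≫ G.hom) := hT
    have h1 : IsOpen (Set.range (V.ι ≫ G.hom)) := (V.ι ≫ G.hom).isOpenMap.isOpen_range
    have h2 : Set.range (V.ι ≫ G.hom) = G.hom.base '' (V : Set G.left) := by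
      rw [Scheme.Hom.comp_base, TopCat.coe_comp, Set.range_comp]
      congr 1
      exact V.range_ι
    rw [← h2]
    exact h1
  · intro x hx p hp
    have h1 := hunit ⟨x, hx⟩
    have hpe : (toUnit T).left ⟨x, hx⟩ = p := by
      have h2 : (𝟙_ (Over S)).hom ((toUnit T).left ⟨x, hx⟩) = T.hom ⟨x, hx⟩ := by
        rw [← Scheme.Hom.comp_apply, Over.w]
      have h3 : (𝟙_ (Over S)).hom = 𝟙 S := rfl
      have h5 : T.hom ⟨x, hx⟩ = G.hom x := rfl
      have h4 := (h2.trans h5).trans hp.symm
      rw [h3] at h4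
      exact h4
    have h6 : (toUnit T ≫ η[G]).left ⟨x, hx⟩ = η[G].left ((toUnit T).left ⟨x, hx⟩) := rfl
    rw [h6, hpe] at h1
    exact h1
  · intro x hx
    set v : T.left := ⟨x, hx⟩ with hv
    have hw : (snd T G).left ((lift (𝟙 T) (toUnit T ≫ η[G])).left v) ∈ V := by
      have : (snd T G).left ((lift (𝟙 T) (toUnit T ≫ η[G])).left v) = (toUnit T ≫ η[G]).left v :=
        congrArg (fun m : T ⟶ G => m.left v) (lift_snd (𝟙 T) (toUnit T ≫ η[G]))
      rw [this]
      exact hunit v
    have h1 := tm g⁻¹ _ hw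
    have e : lift (𝟙 T) (toUnit T ≫ η[G]) ≫ ((fst T G ≫ g⁻¹) * snd T G) = g ≫ ι[G] := by
      rw [MonObj.comp_mul, lift_fst_assoc, lift_snd, Category.id_comp, ← Hom.one_def, _root_.mul_one,
        Hom.inv_def]
    have h2 : ((fst T G ≫ g⁻¹) * snd T G).left ((lift (𝟙 T) (toUnit T ≫ η[G])).left v) =
        (g ≫ ι[G]).left v := congrArg (fun m : T ⟶ G => m.left v) e
    rw [h2] at h1
    exact h1
  · intro z hz1 hz2
    set v : T.left := ⟨(fst G G).left z, hz1⟩ with hv
    have hpb := isPullback_fst_whiskerRight g G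
    obtain ⟨w₀, hw₀1, hw₀2⟩ := Scheme.Pullback.exists_preimage_pullback
      (f := (fst G G).left) (g := g.left) z v rfl
    set w : (T ⊗ G).left := hpb.isoPullback.inv w₀ with hw
    have hwz : (g ▷ G).left w = z := by
      rw [hw, ← Scheme.Hom.comp_apply, hpb.isoPullback_inv_fst]
      exact hw₀1
    have hws : (snd T G).left w ∈ V := by
      have : (snd T G).left w = (snd G G).left ((g ▷ G).left w) :=
        (congrArg (fun m : T ⊗ G ⟶ G => m.left w) (whiskerRight_snd g G)).symm
      rw [this, hwz]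
      exact hz2
    have h1 := tm g w hws
    have e : (fst T G ≫ g) * snd T G = (g ▷ G) ≫ μ[G] := by
      rw [MonObj.mul_eq_mul, MonObj.comp_mul, whiskerRight_fst, whiskerRight_snd]
    have h2 : ((fst T G ≫ g) * snd T G).left w = μ[G].left ((g ▷ G).left w) :=
      congrArg (fun m : T ⊗ G ⟶ G => m.left w) e
    rw [h2, hwz] at h1
    exact h1

end Groth.Agent.S5311
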