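import Groth.Statements.S5318
import Groth.Agent.Lib.Helper18.FiberUnram
import Groth.Agent.Lib.Helper14.UnitOpenImm1
open scoped CategoryTheory.Obj

set_option autoImplicit false
universe u
open CategoryTheory CategoryTheory.Limits MonoidalCategory CartesianMonoidalCategory MonObj GrpObj AlgebraicGeometry
open SGA3

namespace Groth.Agent.S5318

/-- (ii) ⟺ (iii) and, for G locally of finite presentation over S, (ii) ⟺ (iv): let G be an S-group
scheme. The unit section of G is an open immersion if and only if G is locally of finite
presentation over S on some open containing the unit section and every fibre G_s is unramified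
(formally unramified and locally of finite presentation) over κ(s). If G is locally of finite
presentation over S, the unit section is an open immersion if and only if G is unramified over S. -/
theorem result (S : Scheme.{u}) (G : Over S) [GrpObj G] :
    (IsOpenImmersion η[G].left ↔
      ((∃ W : G.left.Opens, (∀ p : ↥(𝟙_ (Over S)).left, η[G].left.base p ∈ W) ∧ LocallyOfFinitePresentation (W.ι ≫ G.hom)) ∧
        ∀ s : S, FormallyUnramified (G.hom.fiberToSpecResidueField s) ∧ LocallyOfFinitePresentation (G.hom.fiberToSpecResidueField s))) ∧
    (LocallyOfFinitePresentation G.hom → (IsOpenImmersion η[G].left ↔ FormallyUnramified G.hom)) := by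
  classical
  have hsec : η[G].left ≫ G.hom = 𝟙 S := Over.w η[G]
  have hπε : ∀ t : S, G.hom (η[G].left t) = t := fun t => by
    rw [← Scheme.Hom.comp_apply, hsec]; rfl
  refine ⟨⟨?_, ?_⟩, ?_⟩
  · -- unit section open immersion ⟹ ...
    intro hA
    haveI := hA
    refine ⟨⟨η[G].left.opensRange, fun p => ⟨p, rfl⟩, ?_⟩, fun s => ?_⟩
    · have h1 : η[G].left.opensRange.ι ≫ G.hom = η[G].left.isoOpensRange.inv := by
        rw [← cancel_epi η[G].left.isoOpensRange.hom, Iso.hom_inv_id, ← Category.assoc,
          Scheme.Hom.isoOpensRange_hom_ι, hsec]
        rfl
      rw [h1]; infer_instance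
    · let j := S.fromSpecResidueField s
      let K : Over (Spec (S.residueField s)) := (Over.pullback j).obj G
      have hunit : IsOpenImmersion η[K].left := by
        have sq := Groth.Agent.Lib.helper5.GrpHomLocus.isPullback_pullback_map j η[G]
        have h2 : IsOpenImmersion ((Over.pullback j).map η[G]).left :=
          MorphismProperty.of_isPullback (P := @IsOpenImmersion) sq hA
        have h3 : η[K].left = (Functor.LaxMonoidal.ε (Over.pullback j)).left ≫
            ((Over.pullback j).map η[G]).left := by
          rw [Functor.obj.η_def, Over.comp_left]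
        haveI : IsIso (Functor.LaxMonoidal.ε (Over.pullback j)).left :=
          inferInstanceAs (IsIso ((Over.forget _).map (Functor.LaxMonoidal.ε (Over.pullback j))))
        rw [h3]; infer_instance
      haveI := Groth.Agent.Lib.Helper14.UnitOpenImm.isOpenImmersion_diagonal_of_unit K hunit
      have hK : K.hom = G.hom.fiberToSpecResidueField s := rfl
      refine ⟨?_, ?_⟩
      · rw [← hK]
        exact Groth.Agent.Lib.Helper14.UnitOpenImm.formallyUnramified_of_unit K hunit
      · rw [← hK]
        exact Groth.Agent.Lib.Helper14.UnitOpenImm.lfp_of_isOpenImmersion_diagonal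
          (Field.toIsField _) K.hom
  · rintro ⟨⟨W, hW, hlfp⟩, hfib⟩
    haveI := hlfp
    let g : W.toScheme ⟶ S := W.ι ≫ G.hom
    haveI : LocallyOfFinitePresentation g := hlfp
    haveI : LocallyOfFiniteType g := inferInstance
    have hrange : Set.range η[G].left ⊆ Set.range W.ι := by
      rintro _ ⟨p, rfl⟩
      rw [Scheme.Opens.range_ι]
      exact hW p
    let eW : S ⟶ W.toScheme := IsOpenImmersion.lift W.ι η[G].left hrange
    have heW : eW ≫ W.ι = η[G].left := IsOpenImmersion.lift_fac _ _ _
    have heg : eW ≫ g = 𝟙 S := by
      rw [← Category.assoc, heW, hsec]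
    haveI : FormallyUnramified g := by
      refine Groth.Agent.Lib.Helper18.FiberUnram.formallyUnramified_of_fibers g fun s => ?_
      let j := S.fromSpecResidueField s
      have h1 : pullback.snd g j =
          (pullbackRightPullbackFstIso G.hom j W.ι).inv ≫ pullback.snd W.ι (pullback.fst G.hom j) ≫
            pullback.snd G.hom j := by
        rw [Iso.eq_inv_comp]; exact pullbackRightPullbackFstIso_hom_snd ..
      haveI : FormallyUnramified (pullback.snd G.hom j) := (hfib s).1
      show FormallyUnramified (pullback.snd g j)
      rw [h1]
      haveI : FormallyUnramified (pullback.snd W.ι (pullback.fst G.hom j)) := inferInstance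
      haveI : FormallyUnramified (pullbackRightPullbackFstIso G.hom j W.ι).inv := inferInstance
      exact MorphismProperty.comp_mem (W := @FormallyUnramified) _ _ inferInstance
        (MorphismProperty.comp_mem (W := @FormallyUnramified) _ _ inferInstance inferInstance)
    haveI := Groth.Agent.Lib.Helper18.FiberUnram.isOpenImmersion_of_section g eW heg
    rw [← heW]; infer_instance
  · intro hlfp
    haveI := hlfp
    haveI : LocallyOfFiniteType G.hom := inferInstance
    constructor
    · intro hA
      exact Groth.Agent.Lib.Helper14.UnitOpenImm.formallyUnramified_of_unit G hA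
    · intro hD
      haveI := hD
      exact Groth.Agent.Lib.Helper18.FiberUnram.isOpenImmersion_of_section G.hom η[G].left hsec

end Groth.Agent.S5318
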