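import Groth.Statements.S5321
import Groth.Agent.Lib.Helper18.FiberUnram

set_option autoImplicit false
universe u
open CategoryTheory CategoryTheory.Limits MonoidalCategory CartesianMonoidalCategory MonObj GrpObj AlgebraicGeometry
open SGA3

namespace Groth.Agent.S5321

/-- Consider a morphism π : X → S admitting a section ε, and assume the map of underlying spaces of π is
closed. Fix a point s of S, and suppose that on some open neighbourhood of ε(s) the morphism π is
locally of finite presentation, and that the fibre X_s → Spec κ(s) is an isomorphism. Under these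
assumptions one can find an open subset U of S containing s such that π restricts to an isomorphism
π⁻¹(U) → U (consequently ε restricted to U is an isomorphism onto π⁻¹(U)). -/
theorem result (X S : Scheme.{u}) (π : X ⟶ S) (ε : S ⟶ X) (hε : ε ≫ π = 𝟙 S)
    (hcl : IsClosedMap π.base) (s : S)
    (hfp : ∃ W : X.Opens, ε.base s ∈ W ∧ LocallyOfFinitePresentation (W.ι ≫ π))
    (hs : IsIso (π.fiberToSpecResidueField s)) :
    ∃ U : S.Opens, s ∈ U ∧ IsIso (π ∣_ U) := by
  classical
  obtain ⟨W, hxW, hW⟩ := hfp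
  let g : W.toScheme ⟶ S := W.ι ≫ π
  haveI : LocallyOfFinitePresentation g := hW
  haveI : LocallyOfFiniteType g := inferInstance
  let w₀ : W.toScheme := ⟨ε.base s, hxW⟩
  have hπε : ∀ t : S, π (ε t) = t := fun t => by
    rw [← Scheme.Hom.comp_apply, hε]; rfl
  have hgw : g w₀ = s := hπε s
  let j := S.fromSpecResidueField s
  have HP : IsPullback (pullback.fst g j) (pullback.snd g j) g j := IsPullback.of_hasPullback _ _
  haveI hb : IsOpenImmersion (pullback.snd g j) := by
    have e := pullbackRightPullbackFstIso π j W.ι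
    have h1 : pullback.snd g j =
        (pullbackRightPullbackFstIso π j W.ι).inv ≫ pullback.snd W.ι (pullback.fst π j) ≫
          pullback.snd π j := by
      rw [Iso.eq_inv_comp]; exact pullbackRightPullbackFstIso_hom_snd ..
    haveI : IsIso (pullback.snd π j) := hs
    rw [h1]; infer_instance
  obtain ⟨x', hx'1, -⟩ := Scheme.Pullback.exists_preimage_pullback (f := g) (g := j) w₀
    (IsLocalRing.closedPoint _) (by rw [hgw]; exact (Scheme.fromSpecResidueField_apply s _).symm)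
  have h1 := FormallyUnramified.stalkMap (pullback.snd g j) x'
  have h2 := (Groth.Agent.Lib.Helper18.PullbackStalk.unram_stalk_iff_of_isPullback HP x').mp h1
  rw [hx'1] at h2
  obtain ⟨U₁, hwU₁, hU₁⟩ := (H18Stalk.exists_unramified_nhd_iff g w₀).mpr h2
  let h : U₁.toScheme ⟶ S := U₁.ι ≫ g
  haveI : FormallyUnramified h := hU₁
  haveI : LocallyOfFiniteType h := inferInstance
  let i : U₁.toScheme ⟶ X := U₁.ι ≫ W.ι
  have hih : i ≫ π = h := by simp only [i, h, g, Category.assoc]
  let T : S.Opens := ε ⁻¹ᵁ i.opensRange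
  have hsT : s ∈ T := ⟨⟨w₀, hwU₁⟩, rfl⟩
  have hrange : Set.range (T.ι ≫ ε) ⊆ Set.range i := by
    rintro _ ⟨t, rfl⟩
    exact t.2
  let σ : T.toScheme ⟶ U₁.toScheme := IsOpenImmersion.lift i (T.ι ≫ ε) hrange
  have hσi : σ ≫ i = T.ι ≫ ε := IsOpenImmersion.lift_fac _ _ _
  have hσ : σ ≫ h = T.ι := by
    rw [← hih, ← Category.assoc, hσi, Category.assoc, hε, Category.comp_id]
  haveI : Etale (σ ≫ h) := by rw [hσ]; infer_instance
  haveI : Etale σ := Etale.of_comp σ h
  haveI : Mono σ := mono_of_mono_fac hσ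
  haveI : IsOpenImmersion σ := IsOpenImmersion.of_flat_of_mono σ
  let V : X.Opens := (σ ≫ i).opensRange
  have hV : ∀ x : X, x ∈ V ↔ ∃ t : T, ε t.1 = x := by
    intro x
    constructor
    · rintro ⟨t, rfl⟩
      refine ⟨t, ?_⟩
      rw [hσi]; rfl
    · rintro ⟨t, rfl⟩
      refine ⟨t, ?_⟩
      rw [hσi]; rfl
  have hsub : Subsingleton (π.fiber s) := by
    haveI := hs
    have e := (asIso (π.fiberToSpecResidueField s)).hom.homeomorph
    exact e.injective.subsingleton (α := π.fiber s) (β := PrimeSpectrum _)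
  have hss : Subsingleton (π ⁻¹' {s}) := (π.fiberHomeo s).symm.injective.subsingleton
  let C : Set S := π '' ((V : Set X)ᶜ)
  have hC : IsClosed C := hcl _ V.isOpen.isClosed_compl
  have hsC : s ∉ C := by
    rintro ⟨x, hxV, hxs⟩
    have h1 : x ∈ π ⁻¹' {s} := hxs
    have h2 : ε s ∈ π ⁻¹' {s} := hπε s
    have h3 : x = ε s := congr_arg Subtype.val (Subsingleton.elim (⟨x, h1⟩ : π ⁻¹' {s}) ⟨ε s, h2⟩)
    exact hxV ((hV x).mpr ⟨⟨s, hsT⟩, h3.symm⟩)
  let U : S.Opens := T ⊓ ⟨Cᶜ, hC.isOpen_compl⟩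
  have hsU : s ∈ U := ⟨hsT, hsC⟩
  refine ⟨U, hsU, ?_⟩
  have hUT : U ≤ T := inf_le_left
  have hrange2 : Set.range (U.ι ≫ ε) ⊆ Set.range (π ⁻¹ᵁ U).ι := by
    rintro _ ⟨u, rfl⟩
    rw [Scheme.Opens.range_ι]
    show π (ε u.1) ∈ U
    rw [hπε]; exact u.2
  let εU : U.toScheme ⟶ (π ⁻¹ᵁ U).toScheme := IsOpenImmersion.lift (π ⁻¹ᵁ U).ι (U.ι ≫ ε) hrange2
  have hεU : εU ≫ (π ⁻¹ᵁ U).ι = U.ι ≫ ε := IsOpenImmersion.lift_fac _ _ _
  have hfac : U.ι ≫ ε = (S.homOfLE hUT ≫ σ) ≫ i := by
    rw [Category.assoc, hσi, ← Category.assoc, Scheme.homOfLE_ι]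
  haveI : IsOpenImmersion (εU ≫ (π ⁻¹ᵁ U).ι) := by
    rw [hεU, hfac]; infer_instance
  haveI : IsOpenImmersion εU := IsOpenImmersion.of_comp εU (π ⁻¹ᵁ U).ι
  have hsurj : Surjective εU := by
    refine ⟨fun y => ?_⟩
    have hy : π y.1 ∈ U := y.2
    have hyV : y.1 ∈ V := by
      by_contra hn
      exact hy.2 ⟨y.1, hn, rfl⟩
    obtain ⟨t, ht⟩ := (hV y.1).mp hyV
    have htU : t.1 ∈ U := by
      have : π y.1 = t.1 := by rw [← ht, hπε]
      rw [← this]; exact hy
    refine ⟨⟨t.1, htU⟩, ?_⟩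
    apply (π ⁻¹ᵁ U).ι.isOpenEmbedding.injective
    rw [← Scheme.Hom.comp_apply, hεU]
    exact ht
  haveI : IsIso εU := (isIso_iff_isOpenImmersion_and_surjective εU).mpr ⟨inferInstance, hsurj⟩
  have hinv : εU ≫ (π ∣_ U) = 𝟙 _ := by
    rw [← cancel_mono U.ι, Category.assoc, morphismRestrict_ι, ← Category.assoc, hεU, Category.assoc,
      hε, Category.comp_id, Category.id_comp]
  have : π ∣_ U = inv εU := by
    rw [← cancel_epi εU, hinv, IsIso.hom_inv_id]
  rw [this]; infer_instance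

end Groth.Agent.S5321
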