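import Groth.Statements.S5325
import Groth.Agent.Lib.Helper5.GrpNeutral6

set_option autoImplicit false
universe u
open CategoryTheory CategoryTheory.Limits MonoidalCategory CartesianMonoidalCategory MonObj GrpObj AlgebraicGeometry
open SGA3

namespace Groth.Agent.S5325

/-- Let G be an S-group scheme locally of finite presentation over S, and let G⁰ denote the union of the
neutral components of the fibres G_s. Then (i) G⁰ is ind-constructible in G; (ii) if G is
quasi-separated over S and S is quasi-compact and quasi-separated, G⁰ is constructible in G; (iii)
if G is quasi-separated over S, G⁰ is locally constructible in G. -/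
theorem result (S : Scheme.{u}) (G : Over S) [GrpObj G] [LocallyOfFinitePresentation G.hom] :
    ProCons.IsIndConstructible (SGA3x.neutralSet G) ∧
    (QuasiSeparated G.hom → CompactSpace S → QuasiSeparatedSpace S → Topology.IsConstructible (SGA3x.neutralSet G)) ∧
    (QuasiSeparated G.hom → Topology.IsLocallyConstructible (SGA3x.neutralSet G)) := by
  refine ⟨Groth.Agent.Lib.helper5.GrpNeutral6.isIndConstructible_neutralSet G, ?_, ?_⟩
  · intro h1 h2 h3
    haveI := h1
    haveI := h2
    haveI := h3
    exact Groth.Agent.Lib.helper5.GrpNeutral6.isConstructible_neutralSet G
  · intro h1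
    haveI := h1
    exact Groth.Agent.Lib.helper5.GrpNeutral6.isLocallyConstructible_neutralSet G

end Groth.Agent.S5325
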