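import Groth.Statements.S5333
import Mathlib
import Groth.Agent.S2285
-- import your own Groth.Agent.* helpers here

set_option autoImplicit false
universe u
open CategoryTheory CategoryTheory.Limits MonoidalCategory CartesianMonoidalCategory MonObj GrpObj AlgebraicGeometry
open SGA3

namespace Groth.Agent.S5333

open CategoryTheory.Limits

/-- Part A, converse: the dense-open uniqueness property for reduced test schemes implies
separatedness. -/
lemma isSeparated_of_ext {X S : Scheme.{u}} (f : X ⟶ S)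
    (H : ∀ (T : Scheme.{u}) [IsReduced T] (g₁ g₂ : T ⟶ X) (U : T.Opens), g₁ ≫ f = g₂ ≫ f →
      Dense (U : Set T) → U.ι ≫ g₁ = U.ι ≫ g₂ → g₁ = g₂) : IsSeparated f := by
  let Δ := pullback.diagonal f
  let Z : TopologicalSpace.Closeds ↥(pullback f f) := ⟨closure (Set.range Δ), isClosed_closure⟩
  let I := Scheme.IdealSheafData.vanishingIdeal Z
  haveI : IsReduced I.subscheme := Groth.Agent.S2285.isReduced_subscheme_vanishingIdeal Z
  let jT := I.subschemeι
  have hrange : Set.range jT = closure (Set.range Δ) := by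
    rw [Scheme.IdealSheafData.range_subschemeι, Scheme.IdealSheafData.coe_support_vanishingIdeal]
    rfl
  have hlc : IsLocallyClosed (Set.range Δ) := (inferInstance : IsImmersion Δ).isLocallyClosed_range
  have hopen : IsOpen (jT ⁻¹' Set.range Δ) := by
    have h1 : IsOpen ((↑) ⁻¹' Set.range Δ : Set (closure (Set.range Δ))) :=
      hlc.isOpen_preimage_val_closure
    let k : I.subscheme → closure (Set.range Δ) := fun t => ⟨jT t, hrange ▸ ⟨t, rfl⟩⟩
    have hk : Continuous k := jT.continuous.subtype_mk _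
    exact h1.preimage hk
  let U : I.subscheme.Opens := ⟨jT ⁻¹' Set.range Δ, hopen⟩
  have hdense : Dense (U : Set I.subscheme) := by
    rw [jT.isEmbedding.isInducing.dense_iff]
    intro x
    have : jT '' (U : Set I.subscheme) = Set.range Δ := by
      change jT '' (jT ⁻¹' Set.range Δ) = _
      rw [Set.image_preimage_eq_inter_range, hrange]
      exact Set.inter_eq_left.mpr subset_closure
    rw [this, ← hrange]
    exact ⟨x, rfl⟩
  let g₁ := jT ≫ pullback.fst f f
  let g₂ := jT ≫ pullback.snd f f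
  have hg : g₁ ≫ f = g₂ ≫ f := by
    simp only [g₁, g₂, Category.assoc, pullback.condition]
  have hU : U.ι ≫ g₁ = U.ι ≫ g₂ := by
    have hsub : Set.range (U.ι ≫ jT) ⊆ Set.range Δ := by
      rintro _ ⟨u, rfl⟩
      rw [Scheme.Hom.comp_apply]
      exact u.2
    haveI := Groth.Agent.S2285.isIso_pullback_fst (U.ι ≫ jT) Δ hsub
    have hw : U.ι ≫ jT = (inv (pullback.fst (U.ι ≫ jT) Δ) ≫ pullback.snd (U.ι ≫ jT) Δ) ≫ Δ := by
      rw [Category.assoc, ← pullback.condition, IsIso.inv_hom_id_assoc]
    simp only [g₁, g₂]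
    rw [← Category.assoc, ← Category.assoc, hw]
    simp [Δ]
  have hgg := H I.subscheme g₁ g₂ U hg hdense hU
  have hfac : jT = g₁ ≫ Δ := by
    apply pullback.hom_ext
    · simp [g₁, Δ]
    · rw [Category.assoc, pullback.diagonal_snd, Category.comp_id, hgg]
  have hcl : IsClosed (Set.range Δ) := by
    have : closure (Set.range Δ) ⊆ Set.range Δ := by
      rw [← hrange]
      rintro _ ⟨t, rfl⟩
      rw [hfac]
      exact ⟨g₁ t, rfl⟩
    exact closure_subset_iff_isClosed.mp this
  exact ⟨IsClosedImmersion.of_isPreimmersion _ hcl⟩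

/-- Part B, converse: if any two points of a fibre lie in a common open which is separated over
`S`, then `f` is separated. -/
lemma isSeparated_of_pairs {X S : Scheme.{u}} (f : X ⟶ S)
    (H : ∀ x₁ x₂ : X, f.base x₁ = f.base x₂ →
      ∃ V : X.Opens, x₁ ∈ V ∧ x₂ ∈ V ∧ IsSeparated (V.ι ≫ f)) : IsSeparated f := by
  refine ⟨IsClosedImmersion.of_isPreimmersion _ ?_⟩
  rw [← isOpen_compl_iff, isOpen_iff_forall_mem_open]
  intro p hp
  have hx : f.base (pullback.fst f f p) = f.base (pullback.snd f f p) := by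
    have := congrArg (fun m => m p) (pullback.condition (f := f) (g := f))
    simpa using this
  obtain ⟨V, h1, h2, hV⟩ := H _ _ hx
  obtain ⟨j, hj⟩ : ∃ j : pullback (V.ι ≫ f) (V.ι ≫ f) ⟶ pullback f f,
      j = pullback.map (V.ι ≫ f) (V.ι ≫ f) f f V.ι V.ι (𝟙 S) (by simp) (by simp) := ⟨_, rfl⟩
  haveI : IsOpenImmersion j := by rw [hj]; infer_instance
  have hrj : Set.range j = pullback.fst f f ⁻¹' Set.range V.ι ∩
      pullback.snd f f ⁻¹' Set.range V.ι := by
    rw [hj]
    exact Scheme.Pullback.range_map _ _ _ _ _ _ _ _ _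
  have hfst : j ≫ pullback.fst f f = pullback.fst _ _ ≫ V.ι := by
    rw [hj]; exact pullback.lift_fst _ _ _
  have hsnd : j ≫ pullback.snd f f = pullback.snd _ _ ≫ V.ι := by
    rw [hj]; exact pullback.lift_snd _ _ _
  obtain ⟨q, rfl⟩ : p ∈ Set.range j := by
    rw [hrj]
    exact ⟨by simpa using h1, by simpa using h2⟩
  have hcomm : pullback.diagonal (V.ι ≫ f) ≫ j = V.ι ≫ pullback.diagonal f := by
    apply pullback.hom_ext
    · rw [Category.assoc, hfst, ← Category.assoc, pullback.diagonal_fst, Category.id_comp,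
        Category.assoc, pullback.diagonal_fst, Category.comp_id]
    · rw [Category.assoc, hsnd, ← Category.assoc, pullback.diagonal_snd, Category.id_comp,
        Category.assoc, pullback.diagonal_snd, Category.comp_id]
  have hq : q ∉ Set.range (pullback.diagonal (V.ι ≫ f)) := by
    rintro ⟨v, rfl⟩
    apply hp
    refine ⟨V.ι v, ?_⟩
    rw [← Scheme.Hom.comp_apply, ← hcomm, Scheme.Hom.comp_apply]
  have hclV : IsClosed (Set.range (pullback.diagonal (V.ι ≫ f))) :=
    (pullback.diagonal (V.ι ≫ f)).isClosedEmbedding.isClosed_range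
  refine ⟨j '' (Set.range (pullback.diagonal (V.ι ≫ f)))ᶜ, ?_,
    j.isOpenEmbedding.isOpenMap _ hclV.isOpen_compl, ⟨q, hq, rfl⟩⟩
  rintro _ ⟨n, hn, rfl⟩ ⟨x, hx'⟩
  apply hn
  have hxV : x = V.ι (pullback.fst (V.ι ≫ f) (V.ι ≫ f) n) := by
    have h3 := congrArg (fun z => pullback.fst f f z) hx'
    simp only [← Scheme.Hom.comp_apply, pullback.diagonal_fst, hfst] at h3
    simpa using h3
  refine ⟨pullback.fst (V.ι ≫ f) (V.ι ≫ f) n, ?_⟩
  apply j.isOpenEmbedding.injective
  rw [← Scheme.Hom.comp_apply, hcomm, Scheme.Hom.comp_apply, ← hxV, hx']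

/-- (i) ⟺ (iii) ⟺ (iv'): let f : X → S be a morphism of schemes. Then X is separated over S if and only
if for every reduced scheme T and every two morphisms T → X with the same composite to S which agree
on a dense open subscheme of T are equal; and X is separated over S if and only if every two points
of X in the same fibre over S lie in a common open subscheme of X which is separated over S. -/
theorem result (X S : Scheme.{u}) (f : X ⟶ S) :
    (IsSeparated f ↔ ∀ (T : Scheme.{u}) [IsReduced T] (g₁ g₂ : T ⟶ X) (U : T.Opens), g₁ ≫ f = g₂ ≫ f →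
      Dense (U : Set T) → U.ι ≫ g₁ = U.ι ≫ g₂ → g₁ = g₂) ∧
    (IsSeparated f ↔ ∀ x₁ x₂ : X, f.base x₁ = f.base x₂ →
      ∃ V : X.Opens, x₁ ∈ V ∧ x₂ ∈ V ∧ IsSeparated (V.ι ≫ f)) := by
  refine ⟨⟨fun hsep T _ g₁ g₂ U hg hU hUg => ?_, isSeparated_of_ext f⟩,
    ⟨fun hsep x₁ x₂ _ => ⟨⊤, trivial, trivial, inferInstance⟩, isSeparated_of_pairs f⟩⟩
  haveI : IsDominant U.ι := ⟨by
    rw [DenseRange, Scheme.Opens.range_ι]
    exact hU⟩
  exact ext_of_isDominant_of_isSeparated f hg U.ι hUg

end Groth.Agent.S5333
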