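import Groth.Statements.S5335
import Mathlib
import Groth.Agent.Lib.Helper28.UOArt
import Groth.Agent.Lib.Helper28.GrpPts
-- import your own Groth.Agent.* helpers here

set_option autoImplicit false
universe u
open CategoryTheory CategoryTheory.Limits MonoidalCategory CartesianMonoidalCategory MonObj GrpObj AlgebraicGeometry
open SGA3

namespace Groth.Agent.S5335

open Groth.Agent.Lib.helper28.GrpPts

section
variable {S : Scheme.{u}}

lemma range_whiskerLeft (X : Over S) {Y Y' : Over S} (g : Y' ⟶ Y) :
    (snd X Y).left ⁻¹' (Set.range g.left) ⊆ Set.range (X ◁ g).left := by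
  rintro p ⟨y', hy'⟩
  obtain ⟨Z, z, π, π', e, hπ, -⟩ := refine_pt (snd X Y) g p y' hy'.symm
  refine ⟨(lift (π ≫ fst X Y) π').left z, ?_⟩
  have e1 : lift (π ≫ fst X Y) π' ≫ (X ◁ g) = π := by
    rw [lift_whiskerLeft, ← e, ← comp_lift, lift_fst_snd, Category.comp_id]
  rw [← Scheme.Hom.comp_apply, ← Over.comp_left, e1, hπ]

lemma range_whiskerRight {X X' : Over S} (f : X' ⟶ X) (Y : Over S) :
    (fst X Y).left ⁻¹' (Set.range f.left) ⊆ Set.range (f ▷ Y).left := by
  rintro p ⟨x', hx'⟩
  obtain ⟨Z, z, π, π', e, hπ, -⟩ := refine_pt (fst X Y) f p x' hx'.symm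
  refine ⟨(lift π' (π ≫ snd X Y)).left z, ?_⟩
  have e1 : lift π' (π ≫ snd X Y) ≫ (f ▷ Y) = π := by
    rw [lift_whiskerRight, ← e, ← comp_lift, lift_fst_snd, Category.comp_id]
  rw [← Scheme.Hom.comp_apply, ← Over.comp_left, e1, hπ]

end

/-- Let A be a local artinian ring and f : X' → X, g : Y' → Y two quasi-compact dominant morphisms of
schemes over A. Then the product morphism f ×_A g : X' ×_A Y' → X ×_A Y is dominant (and
quasi-compact). -/
theorem result (A : Type u) [CommRing A] [IsArtinianRing A] [IsLocalRing A] (X X' Y Y' : Over (Spec (CommRingCat.of A)))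
    (f : X' ⟶ X) (g : Y' ⟶ Y) [QuasiCompact f.left] [QuasiCompact g.left]
    (hf : DenseRange f.left.base) (hg : DenseRange g.left.base) :
    DenseRange (f ⊗ₘ g).left.base ∧ QuasiCompact (f ⊗ₘ g).left := by
  have hS : ∀ (T : Scheme.{u}) (t : T ⟶ Spec (CommRingCat.of A)), UniversallyOpen t :=
    fun T t => Groth.Agent.Lib.helper28.UOArt.universallyOpen_of_artinian_local A t
  constructor
  · have h1 : DenseRange (X ◁ g).left := by
      have ho : UniversallyOpen (snd X Y).left := by
        rw [Over.snd_left]
        have := hS _ X.hom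
        infer_instance
      have hd : Dense ((snd X Y).left ⁻¹' (Set.range g.left)) :=
        Dense.preimage hg (snd X Y).left.isOpenMap
      exact hd.mono (range_whiskerLeft X g)
    have h2 : DenseRange (f ▷ Y').left := by
      have ho : UniversallyOpen (fst X Y').left := by
        rw [Over.fst_left]
        have := hS _ Y'.hom
        infer_instance
      have hd : Dense ((fst X Y').left ⁻¹' (Set.range f.left)) :=
        Dense.preimage hf (fst X Y').left.isOpenMap
      exact hd.mono (range_whiskerRight f Y')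
    have h3 := DenseRange.comp h1 h2 (Scheme.Hom.continuous (X ◁ g).left)
    have e : (f ⊗ₘ g).left = (f ▷ Y').left ≫ (X ◁ g).left := by
      rw [← Over.comp_left, ← MonoidalCategory.tensorHom_def]
    show DenseRange ⇑(f ⊗ₘ g).left
    rw [e]
    exact h3
  · rw [Over.tensorHom_left]
    exact MorphismProperty.pullbackMap (P := @QuasiCompact) inferInstance inferInstance
      (Over.w f).symm (Over.w g).symm

end Groth.Agent.S5335
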