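import Groth.Statements.S5337
import Groth.Agent.Lib.Helper5.GrpHomog3
import Groth.Agent.Lib.Helper5.FppfImage5

set_option autoImplicit false
universe u
open CategoryTheory CategoryTheory.Limits MonoidalCategory CartesianMonoidalCategory MonObj GrpObj AlgebraicGeometry
open SGA3

namespace Groth.Agent.S5337

/-- Quasi-finite, unramified, smooth and etale cases: let A be a local artinian ring, G an A-group
scheme which is flat and locally of finite type over A, and u : G → H a homomorphism of A-group
schemes. If u is locally quasi-finite (resp. unramified, that is formally unramified and locally of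
finite presentation, resp. smooth, resp. etale) on some nonempty open subscheme of G, then u is
locally quasi-finite (resp. unramified, resp. smooth, resp. etale). (Here u is automatically locally
of finite type.) -/
theorem result (A : Type u) [CommRing A] [IsArtinianRing A] [IsLocalRing A] (G H : Over (Spec (CommRingCat.of A))) [GrpObj G] [GrpObj H]
    [Flat G.hom] [LocallyOfFiniteType G.hom] (u : G ⟶ H) [IsMonHom u] (W : G.left.Opens) (hW : (W : Set G.left).Nonempty) :
    (LocallyQuasiFinite (W.ι ≫ u.left) → LocallyQuasiFinite u.left) ∧
    (FormallyUnramified (W.ι ≫ u.left) → LocallyOfFinitePresentation (W.ι ≫ u.left) →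
      FormallyUnramified u.left ∧ LocallyOfFinitePresentation u.left) ∧
    (Smooth (W.ι ≫ u.left) → Smooth u.left) ∧ (Etale (W.ι ≫ u.left) → Etale u.left) := by
  open Groth.Agent.Lib.helper5.GrpHomog3 in
  haveI : LocallyOfFinitePresentation G.hom :=
    Groth.Agent.Lib.helper5.FppfImage.lfp_of_lft_noeth G.hom
  haveI : LocallyOfFiniteType u.left := by
    haveI : LocallyOfFiniteType (u.left ≫ H.hom) := by rw [Over.w u]; infer_instance
    exact locallyOfFiniteType_of_comp u.left H.hom
  refine ⟨fun h => ?_, fun h1 h2 => ?_, fun h => ?_, fun h => ?_⟩
  · exact hom_locallyQuasiFinite_of_nonempty_open u W hW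
  · exact ⟨hom_formallyUnramified_of_nonempty_open u W hW, hom_lfp_of_nonempty_open u W hW⟩
  · exact hom_smooth_of_nonempty_open u W hW
  · exact hom_etale_of_nonempty_open u W hW

end Groth.Agent.S5337
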