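import Groth.Statements.S5338
import Mathlib

set_option autoImplicit false
open CategoryTheory CategoryTheory.Limits MonoidalCategory CartesianMonoidalCategory MonObj GrpObj AlgebraicGeometry
universe u
open SGA3

namespace Groth.Agent.S5338

section general
variable {A : Type*} [CommRing A]

/-- Nakayama's lemma for a nilpotent ideal (no finiteness hypothesis). -/
lemma le_of_le_sup_smul {M : Type*} [AddCommGroup M] [Module A M] (n : Ideal A)
    (hn : IsNilpotent n) (N N' : Submodule A M) (h : N' ≤ N ⊔ n • N') : N' ≤ N := by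
  obtain ⟨k, hk⟩ := hn
  have key : ∀ j : ℕ, N' ≤ N ⊔ n ^ j • N' := by
    intro j
    induction j with
    | zero => simp
    | succ j ih =>
      calc N' ≤ N ⊔ n • N' := h
        _ ≤ N ⊔ n • (N ⊔ n ^ j • N') := sup_le_sup_left (Submodule.smul_mono le_rfl ih) _
        _ = N ⊔ (n • N ⊔ n • (n ^ j • N')) := by rw [Submodule.smul_sup]
        _ ≤ N ⊔ n ^ (j + 1) • N' := by
            rw [← Submodule.mul_smul, ← pow_succ']
            exact sup_le le_sup_left
              (sup_le (le_sup_of_le_left Submodule.smul_le_right) le_sup_right)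
  have := key k
  rw [hk, Ideal.zero_eq_bot, Submodule.bot_smul, sup_bot_eq] at this
  exact this

/-- If `C` is flat and `f : P → C` is surjective, then `ker f ∩ n P = n (ker f)`. -/
lemma mem_smul_ker_of_flat {P C : Type*} [AddCommGroup P] [Module A P] [AddCommGroup C]
    [Module A C] [Module.Flat A C] (f : P →ₗ[A] C) (hf : Function.Surjective f) (n : Ideal A)
    (x : P) (hx : x ∈ n • (⊤ : Submodule A P)) (hfx : f x = 0) :
    x ∈ n • LinearMap.ker f := by
  classical
  have hx' : x ∈ n • Submodule.span A (Set.range (id : P → P)) := by simpa using hx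
  obtain ⟨a, ha, rfl⟩ := (Submodule.mem_ideal_smul_span_iff_exists_sum n id x).mp hx'
  have hrel : ∑ i : a.support, a i • f i = 0 := by
    rw [Finsupp.sum, map_sum] at hfx
    simp only [map_smul, id] at hfx
    rw [← Finset.sum_coe_sort] at hfx
    exact hfx
  obtain ⟨k, b, y, hy, hb⟩ := Module.Flat.isTrivialRelation_of_sum_smul_eq_zero hrel
  choose q hq using fun j => hf (y j)
  have hκ : ∀ i : a.support, (i : P) - ∑ j, b i j • q j ∈ LinearMap.ker f := by
    intro i
    rw [LinearMap.mem_ker, map_sub, map_sum]
    simp only [map_smul, hq]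
    have hyi : f (i : P) = ∑ j, b i j • y j := hy i
    rw [hyi, sub_self]
  have e : a.sum (fun i c => c • id i) =
      ∑ i : a.support, a i • ((i : P) - ∑ j, b i j • q j) := by
    rw [Finsupp.sum, ← Finset.sum_coe_sort]
    simp only [id, smul_sub, Finset.sum_sub_distrib]
    have : ∑ i : a.support, a i • ∑ j, b i j • q j = 0 := by
      simp only [Finset.smul_sum, smul_smul]
      rw [Finset.sum_comm]
      refine Finset.sum_eq_zero fun j _ => ?_
      have hbj : ∑ i : a.support, a i * b i j = 0 := hb j
      rw [← Finset.sum_smul, hbj, zero_smul]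
    rw [this, sub_zero]
  rw [e]
  exact Submodule.sum_mem _ fun i _ => Submodule.smul_mem_smul (ha i) (hκ i)

end general

section main
variable (A B C : Type u) [CommRing A] [CommRing B] [CommRing C]
    [Algebra A B] [Algebra B C] [Algebra A C] [IsScalarTower A B C] (n : Ideal A)

lemma isNilpotent_map (hn : IsNilpotent n) : IsNilpotent (n.map (algebraMap A B)) := by
  obtain ⟨k, hk⟩ := hn
  refine ⟨k, ?_⟩
  rw [← Ideal.map_pow, hk, Ideal.zero_eq_bot, Ideal.map_bot]
  rfl

variable {A B C}

/-- A `B`-algebra map from a polynomial ring which is surjective modulo `n C` is surjective. -/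
lemma surj_of_surj_mod (hn : IsNilpotent n) (m : ℕ) (g : MvPolynomial (Fin m) B →ₐ[B] C)
    (h : Function.Surjective
      ((Ideal.Quotient.mkₐ B ((n.map (algebraMap A B)).map (algebraMap B C))).comp g)) :
    Function.Surjective g := by
  have hI : IsNilpotent (n.map (algebraMap A B)) := isNilpotent_map A B n hn
  have hle : (⊤ : Submodule B C) ≤ LinearMap.range g.toLinearMap ⊔
      (n.map (algebraMap A B)) • (⊤ : Submodule B C) := by
    intro c _
    obtain ⟨p, hp⟩ := h (Ideal.Quotient.mk _ c)
    have hmem : c - g p ∈ (n.map (algebraMap A B)).map (algebraMap B C) := by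
      rw [← Ideal.Quotient.eq]
      exact hp.symm
    have hc : c = g p + (c - g p) := by ring
    rw [hc]
    refine Submodule.add_mem_sup (LinearMap.mem_range_self _ p) ?_
    rw [Ideal.smul_top_eq_map]
    exact hmem
  have := le_of_le_sup_smul _ hI _ _ hle
  intro c
  exact this Submodule.mem_top

theorem part1 (hn : IsNilpotent n)
    (h : Algebra.FiniteType (B ⧸ n.map (algebraMap A B))
      (C ⧸ (n.map (algebraMap A B)).map (algebraMap B C))) :
    Algebra.FiniteType B C := by
  have h' : Algebra.FiniteType B (C ⧸ (n.map (algebraMap A B)).map (algebraMap B C)) :=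
    Algebra.FiniteType.trans
      (inferInstance : Algebra.FiniteType B (B ⧸ n.map (algebraMap A B))) h
  obtain ⟨m, f, hf⟩ := Algebra.FiniteType.iff_quotient_mvPolynomial''.mp h'
  choose c hc using fun i : Fin m => Ideal.Quotient.mk_surjective (f (MvPolynomial.X i))
  let g : MvPolynomial (Fin m) B →ₐ[B] C := MvPolynomial.aeval c
  have hg : (Ideal.Quotient.mkₐ B ((n.map (algebraMap A B)).map (algebraMap B C))).comp g = f := by
    apply MvPolynomial.algHom_ext
    intro i
    simp [g, hc]
  exact Algebra.FiniteType.of_surjective g (surj_of_surj_mod n hn m g (hg ▸ hf))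

theorem part2 (hn : IsNilpotent n) [Module.Flat A C]
    (h : Algebra.FinitePresentation (B ⧸ n.map (algebraMap A B))
      (C ⧸ (n.map (algebraMap A B)).map (algebraMap B C))) :
    Algebra.FinitePresentation B C := by
  classical
  have hft : Algebra.FiniteType B C := part1 n hn inferInstance
  obtain ⟨m, g, hg⟩ := Algebra.FiniteType.iff_quotient_mvPolynomial''.mp hft
  -- the reduction map `ρ : B[X] → (B/I)[X]`
  obtain ⟨ρ, hρdef⟩ : ∃ ρ : MvPolynomial (Fin m) B →+*
      MvPolynomial (Fin m) (B ⧸ n.map (algebraMap A B)),
      ρ = MvPolynomial.map (Ideal.Quotient.mk (n.map (algebraMap A B))) := ⟨_, rfl⟩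
  have hρ : Function.Surjective ρ := by
    rw [hρdef]; exact MvPolynomial.map_surjective _ Ideal.Quotient.mk_surjective
  have hkerρ : RingHom.ker ρ = (n.map (algebraMap A B)).map
      (MvPolynomial.C : B →+* MvPolynomial (Fin m) B) := by
    rw [hρdef, MvPolynomial.ker_map, Ideal.mk_ker]
  -- the induced map `gb : (B/I)[X] → C/J`
  obtain ⟨gb, hgbdef⟩ : ∃ gb : MvPolynomial (Fin m) (B ⧸ n.map (algebraMap A B))
      →ₐ[B ⧸ n.map (algebraMap A B)] (C ⧸ (n.map (algebraMap A B)).map (algebraMap B C)),
      gb = MvPolynomial.aeval (fun i => Ideal.Quotient.mk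
        ((n.map (algebraMap A B)).map (algebraMap B C)) (g (MvPolynomial.X i))) := ⟨_, rfl⟩
  have hcompat : ∀ p : MvPolynomial (Fin m) B, gb (ρ p) =
      Ideal.Quotient.mk ((n.map (algebraMap A B)).map (algebraMap B C)) (g p) := by
    intro p
    have : (gb : MvPolynomial (Fin m) (B ⧸ n.map (algebraMap A B)) →+*
        (C ⧸ (n.map (algebraMap A B)).map (algebraMap B C))).comp ρ =
        (Ideal.Quotient.mk ((n.map (algebraMap A B)).map (algebraMap B C))).comp
          (g : MvPolynomial (Fin m) B →+* C) := by
      apply MvPolynomial.ringHom_ext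
      · intro b
        rw [hρdef, hgbdef]
        simp only [RingHom.coe_comp, RingHom.coe_coe, Function.comp_apply, MvPolynomial.map_C,
          MvPolynomial.aeval_C, Ideal.Quotient.algebraMap_quotient_map_quotient]
        congr 1
        exact (g.commutes b).symm
      · intro i
        rw [hρdef, hgbdef]
        simp
    exact congrArg (fun φ => φ p) this
  have hgb : Function.Surjective gb := by
    intro c
    obtain ⟨c, rfl⟩ := Ideal.Quotient.mk_surjective c
    obtain ⟨p, rfl⟩ := hg c
    exact ⟨ρ p, hcompat p⟩
  have hKb : (RingHom.ker gb.toRingHom).FG :=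
    Algebra.FinitePresentation.ker_fG_of_surjective gb hgb
  -- `J = (I P) C`
  have hJ : (n.map (algebraMap A B)).map (algebraMap B C) =
      ((n.map (algebraMap A B)).map
        (MvPolynomial.C : B →+* MvPolynomial (Fin m) B)).map
        (g : MvPolynomial (Fin m) B →+* C) := by
    have e : algebraMap B C = (g : MvPolynomial (Fin m) B →+* C).comp MvPolynomial.C := by
      ext b
      simp
    conv_rhs => rw [Ideal.map_map, ← e]
  have hKmap : (RingHom.ker g.toRingHom).map ρ = RingHom.ker gb.toRingHom := by
    apply le_antisymm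
    · rw [Ideal.map_le_iff_le_comap]
      intro k hk
      rw [Ideal.mem_comap, RingHom.mem_ker]
      change gb (ρ k) = 0
      rw [hcompat]
      have : g k = 0 := hk
      rw [this, map_zero]
    · intro kb hkb
      obtain ⟨p, rfl⟩ := hρ kb
      have h0 : gb (ρ p) = 0 := hkb
      rw [hcompat, Ideal.Quotient.eq_zero_iff_mem, hJ] at h0
      obtain ⟨p', hp', hpp'⟩ := (Ideal.mem_map_iff_of_surjective
        (g : MvPolynomial (Fin m) B →+* C) hg).mp h0
      have hp'ρ : ρ p' = 0 := by
        rw [← RingHom.mem_ker, hkerρ]; exact hp'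
      have : ρ p = ρ (p - p') := by rw [map_sub, hp'ρ, sub_zero]
      rw [this]
      refine Ideal.mem_map_of_mem ρ ?_
      change g (p - p') = 0
      rw [map_sub, sub_eq_zero]
      exact hpp'.symm
  -- choose a finitely generated `K' ≤ K` with the same image
  rw [← hKmap] at hKb
  obtain ⟨r, s, hs⟩ := Submodule.fg_iff_exists_fin_generating_family.mp hKb
  have hsmem : ∀ i : Fin r, s i ∈ (RingHom.ker g.toRingHom).map ρ := by
    intro i
    have : s i ∈ Submodule.span (MvPolynomial (Fin m) (B ⧸ n.map (algebraMap A B)))
        (Set.range s) := Submodule.subset_span ⟨i, rfl⟩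
    rw [hs] at this
    exact this
  choose t ht htρ using fun i => (Ideal.mem_map_iff_of_surjective ρ hρ).mp (hsmem i)
  have hK'le : Ideal.span (Set.range t) ≤ RingHom.ker g.toRingHom :=
    Ideal.span_le.mpr (by rintro _ ⟨i, rfl⟩; exact ht i)
  have hK'map : (Ideal.span (Set.range t)).map ρ = (RingHom.ker g.toRingHom).map ρ := by
    rw [Ideal.map_span, ← Set.range_comp]
    have : (⇑ρ ∘ t) = s := funext htρ
    rw [this]
    exact hs
  -- Nakayama over `A`
  have hnak : (RingHom.ker g.toRingHom).restrictScalars A ≤
      (Ideal.span (Set.range t)).restrictScalars A ⊔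
        n • (RingHom.ker g.toRingHom).restrictScalars A := by
    intro k hk
    have hk' : k ∈ RingHom.ker g.toRingHom := hk
    have : ρ k ∈ (Ideal.span (Set.range t)).map ρ := by
      rw [hK'map]; exact Ideal.mem_map_of_mem ρ hk'
    obtain ⟨k', hk'mem, hk'ρ⟩ := (Ideal.mem_map_iff_of_surjective ρ hρ).mp this
    have hd : k - k' ∈ RingHom.ker ρ := by
      rw [RingHom.mem_ker, map_sub, hk'ρ, sub_self]
    have hdK : k - k' ∈ RingHom.ker g.toRingHom :=
      (RingHom.ker g.toRingHom).sub_mem hk' (hK'le hk'mem)
    have hd' : k - k' ∈ n • (⊤ : Submodule A (MvPolynomial (Fin m) B)) := by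
      rw [Ideal.smul_top_eq_map]
      change k - k' ∈ n.map (algebraMap A (MvPolynomial (Fin m) B))
      rw [hkerρ, Ideal.map_map] at hd
      have e : algebraMap A (MvPolynomial (Fin m) B) = MvPolynomial.C.comp (algebraMap A B) := by
        ext a
        simp [MvPolynomial.algebraMap_apply]
      rw [e]
      exact hd
    have hflat := mem_smul_ker_of_flat (g.toLinearMap.restrictScalars A)
      (by exact hg) n (k - k') hd' (by exact hdK)
    have hkeq : k = k' + (k - k') := by ring
    rw [hkeq]
    refine Submodule.add_mem_sup hk'mem ?_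
    refine Submodule.smul_mono le_rfl ?_ hflat
    intro z hz
    exact hz
  have hKle : RingHom.ker g.toRingHom ≤ Ideal.span (Set.range t) :=
    le_of_le_sup_smul n hn _ _ hnak
  have hKfg : (RingHom.ker g.toRingHom).FG := by
    have : RingHom.ker g.toRingHom = Ideal.span (Set.range t) := le_antisymm hKle hK'le
    rw [this]
    exact ⟨(Finset.univ.image t), by simp⟩
  exact Algebra.FinitePresentation.of_surjective hg hKfg

end main

/-- Let A → B → C be homomorphisms of commutative rings and n a nilpotent ideal of A; write nB and nC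
for the extended ideals. (i) If C/nC is a (B/nB)-algebra of finite type, then C is a B-algebra of
finite type. (ii) If moreover C is flat over A and C/nC is a (B/nB)-algebra of finite presentation,
then C is a B-algebra of finite presentation. -/
theorem result (A B C : Type u) [CommRing A] [CommRing B] [CommRing C]
    [Algebra A B] [Algebra B C] [Algebra A C] [IsScalarTower A B C] (n : Ideal A) (hn : IsNilpotent n) :
    (Algebra.FiniteType (B ⧸ n.map (algebraMap A B)) (C ⧸ (n.map (algebraMap A B)).map (algebraMap B C)) →
      Algebra.FiniteType B C) ∧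
    (Module.Flat A C →
      Algebra.FinitePresentation (B ⧸ n.map (algebraMap A B)) (C ⧸ (n.map (algebraMap A B)).map (algebraMap B C)) →
      Algebra.FinitePresentation B C) := by
  exact ⟨fun h => part1 n hn h, fun hflat h => part2 n hn h⟩

end Groth.Agent.S5338
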