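import Groth.Statements.S5339
import Groth.Agent.Lib.Helper5.GrpHomog2
import Groth.Agent.Lib.Helper5.FppfImage5

set_option autoImplicit false
universe u
open CategoryTheory CategoryTheory.Limits MonoidalCategory CartesianMonoidalCategory MonObj GrpObj AlgebraicGeometry
open SGA3

namespace Groth.Agent.S5339

/-- Let A be a local artinian ring and G a flat A-group scheme (not assumed locally of finite type). If
G is locally quasi-finite and locally of finite type (resp. unramified, resp. smooth, resp. etale)
over A on some nonempty open subscheme, then G is locally quasi-finite and locally of finite type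
(resp. unramified, resp. smooth, resp. etale) over A. -/
theorem result (A : Type u) [CommRing A] [IsArtinianRing A] [IsLocalRing A] (G : Over (Spec (CommRingCat.of A))) [GrpObj G] [Flat G.hom]
    (W : G.left.Opens) (hW : (W : Set G.left).Nonempty) :
    (LocallyQuasiFinite (W.ι ≫ G.hom) → LocallyOfFiniteType (W.ι ≫ G.hom) → LocallyQuasiFinite G.hom ∧ LocallyOfFiniteType G.hom) ∧
    (FormallyUnramified (W.ι ≫ G.hom) → LocallyOfFinitePresentation (W.ι ≫ G.hom) →
      FormallyUnramified G.hom ∧ LocallyOfFinitePresentation G.hom) ∧
    (Smooth (W.ι ≫ G.hom) → Smooth G.hom) ∧ (Etale (W.ι ≫ G.hom) → Etale G.hom) := by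
  open Groth.Agent.Lib.helper5.GrpHomog1 Groth.Agent.Lib.helper5.GrpHomog2 in
  have lft : LocallyOfFiniteType (W.ι ≫ G.hom) → LocallyOfFiniteType G.hom := fun h =>
    locallyOfFiniteType_of_nonempty_open_artinian A G W hW
  have lfp : LocallyOfFiniteType G.hom → LocallyOfFinitePresentation G.hom := fun h =>
    Groth.Agent.Lib.helper5.FppfImage.lfp_of_lft_noeth G.hom
  have unr : FormallyUnramified (W.ι ≫ G.hom) → LocallyOfFinitePresentation (W.ι ≫ G.hom) →
      FormallyUnramified G.hom ∧ LocallyOfFinitePresentation G.hom := by
    intro h1 h2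
    haveI : LocallyOfFiniteType G.hom := lft inferInstance
    exact ⟨formallyUnramified_of_nonempty_open G W hW, lfp inferInstance⟩
  refine ⟨fun h1 h2 => ?_, unr, fun h => ?_, fun h => ?_⟩
  · haveI : LocallyOfFiniteType G.hom := lft h2
    exact ⟨locallyQuasiFinite_of_nonempty_open G W hW, inferInstance⟩
  · haveI : LocallyOfFiniteType G.hom := lft inferInstance
    haveI : LocallyOfFinitePresentation G.hom := lfp inferInstance
    exact smooth_of_nonempty_open G W hW
  · obtain ⟨h1, h2⟩ := unr inferInstance inferInstance
    exact Etale.of_formallyUnramified_of_flat G.hom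

end Groth.Agent.S5339
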