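import Groth.Statements.S5341
import Groth.Agent.Lib.Helper5.GrpHomog

set_option autoImplicit false
universe u
open CategoryTheory CategoryTheory.Limits MonoidalCategory CartesianMonoidalCategory MonObj GrpObj AlgebraicGeometry
open SGA3

namespace Groth.Agent.S5341

/-- Let G be a group scheme locally of finite type over a field k. Then (i) every irreducible component
of G has the same dimension as G; (ii) for every point g of G the local dimension of G at g (the
infimum of the dimensions of the open neighbourhoods of g) equals dim G. -/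
theorem result (k : Type u) [Field k] (G : Over (Spec (CommRingCat.of k))) [GrpObj G]
    [LocallyOfFiniteType G.hom] :
    (∀ Z ∈ irreducibleComponents ↥G.left, topologicalKrullDim ↥Z = topologicalKrullDim ↥G.left) ∧
    (∀ g : G.left, FlatMor.localDim ↥G.left g = topologicalKrullDim ↥G.left) := by
  have h2 : ∀ g : G.left, FlatMor.localDim ↥G.left g = topologicalKrullDim ↥G.left :=
    fun g => Groth.Agent.Lib.helper5.GrpHomog.localDim_eq_dim k G g
  refine ⟨?_, h2⟩
  intro Z hZ
  letI : G.left.Over (Spec (CommRingCat.of k)) := ⟨G.hom⟩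
  haveI : LocallyOfFiniteType (G.left ↘ Spec (CommRingCat.of k)) :=
    inferInstanceAs (LocallyOfFiniteType G.hom)
  obtain ⟨z, -⟩ := hZ.1.nonempty
  obtain ⟨a, b, -, -, hab⟩ :=
    Groth.Agent.Lib.helper3.IrredDim.localDim_eq_trdeg_add_stalk k G.left z
  have h3 : ∀ g : G.left, FlatMor.localDim ↥G.left g = ((a + b : ℕ) : WithBot ℕ∞) := by
    intro g
    rw [Groth.Agent.Lib.helper5.GrpHomog.localDim_eq_localDim k G g z, hab]
  rw [Groth.Agent.Lib.helper3.RelDim.dim_eq_of_forall_localDim k G.left (a + b) h3 Z hZ,
    ← h2 z, hab]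

end Groth.Agent.S5341
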