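import Groth.Statements.S5343
import Mathlib

set_option autoImplicit false
open CategoryTheory CategoryTheory.Limits MonoidalCategory CartesianMonoidalCategory MonObj GrpObj AlgebraicGeometry
universe u
open SGA3

namespace Groth.Agent.S5343

section
variable (R B : Type u) [CommRing R] [CommRing B] [Algebra R B]

/-- The trace ideal of `B` as an `R`-module. -/
def trIdeal : Ideal R := Ideal.span {r | ∃ (f : B →ₗ[R] R) (b : B), f b = r}

variable {R B}

lemma mem_trIdeal (f : B →ₗ[R] R) (b : B) : f b ∈ trIdeal R B :=
  Ideal.subset_span ⟨f, b, rfl⟩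

/-- A linear functional maps `p • ⊤` into `p`. -/
lemma map_mem_of_mem_smul_top (p : Ideal R) (f : B →ₗ[R] R) (x : B)
    (hx : x ∈ p • (⊤ : Submodule R B)) : f x ∈ p := by
  refine Submodule.smul_induction_on hx ?_ ?_
  · intro r hr n _
    rw [map_smul, smul_eq_mul]; exact p.mul_mem_right _ hr
  · intro x y hx hy
    rw [map_add]; exact p.add_mem hx hy

/-- For projective `B`, `1 ∈ τ • ⊤`, witnessed by finitely many elements of `τ`. -/
lemma exists_finset_one_mem [Module.Projective R B] :
    ∃ T : Finset R, (↑T : Set R) ⊆ trIdeal R B ∧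
      (1 : B) ∈ (Ideal.span (↑T : Set R)) • (⊤ : Submodule R B) := by
  classical
  obtain ⟨s, hs⟩ := (Module.projective_def' (R := R) (P := B)).mp inferInstance
  have h1 : Finsupp.linearCombination R id (s 1) = (1 : B) := by
    have := congrArg (fun g => g (1 : B)) hs
    simpa using this
  refine ⟨(s 1).support.image (fun c => s 1 c), ?_, ?_⟩
  · intro r hr
    simp only [Finset.coe_image, Set.mem_image, Finset.mem_coe] at hr
    obtain ⟨c, _, rfl⟩ := hr
    exact mem_trIdeal ((Finsupp.lapply c).comp s) 1
  · have : Finsupp.linearCombination R id (s 1) ∈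
        (Ideal.span (↑((s 1).support.image (fun c => s 1 c)) : Set R)) • (⊤ : Submodule R B) := by
      rw [Finsupp.linearCombination_apply, Finsupp.sum]
      refine Submodule.sum_mem _ fun c hc => ?_
      refine Submodule.smul_mem_smul (Ideal.subset_span ?_) Submodule.mem_top
      simp only [Finset.coe_image, Set.mem_image, Finset.mem_coe]
      exact ⟨c, hc, rfl⟩
    rwa [h1] at this

lemma trIdeal_fg_idem [Module.Projective R B] :
    (trIdeal R B).FG ∧ IsIdempotentElem (trIdeal R B) ∧
      (1 : B) ∈ (trIdeal R B) • (⊤ : Submodule R B) := by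
  obtain ⟨T, hT, h1⟩ := exists_finset_one_mem (R := R) (B := B)
  have hTle : Ideal.span (↑T : Set R) ≤ trIdeal R B := Ideal.span_le.mpr hT
  -- every generator `f b` lies in `span T * τ`
  have key : ∀ (f : B →ₗ[R] R) (b x : B), x ∈ (Ideal.span (↑T : Set R)) • (⊤ : Submodule R B) →
      f (b * x) ∈ Ideal.span (↑T : Set R) * trIdeal R B := by
    intro f b x hx
    refine Submodule.smul_induction_on hx ?_ ?_
    · intro r hr n _
      rw [mul_smul_comm, map_smul, smul_eq_mul]
      exact Ideal.mul_mem_mul hr (mem_trIdeal f _)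
    · intro x y hx hy
      rw [mul_add, map_add]; exact Ideal.add_mem _ hx hy
  have hle : trIdeal R B ≤ Ideal.span (↑T : Set R) * trIdeal R B := by
    refine Ideal.span_le.mpr ?_
    rintro r ⟨f, b, rfl⟩
    have := key f b 1 h1
    rwa [_root_.mul_one] at this
  have heq : trIdeal R B = Ideal.span (↑T : Set R) :=
    le_antisymm (hle.trans Ideal.mul_le_left) hTle
  refine ⟨⟨T, heq.symm⟩, ?_, ?_⟩
  · refine le_antisymm Ideal.mul_le_right ?_
    exact hle.trans (Ideal.mul_mono_left hTle)
  · rw [heq]; exact h1

end

/-- Let R be a commutative ring and B a commutative R-algebra which is projective as an R-module. Then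
the image of Spec B → Spec R is an open and closed subset of Spec R. (The published statement
concerns a quasi-coherent algebra on any scheme which is a direct summand of a free module; this row
is the affine case.) -/
theorem result (R B : Type u) [CommRing R] [CommRing B] [Algebra R B] [Module.Projective R B] :
    IsClopen (Set.range (PrimeSpectrum.comap (algebraMap R B))) := by
  obtain ⟨hfg, hidem, h1⟩ := trIdeal_fg_idem (R := R) (B := B)
  obtain ⟨e, he, heq⟩ := (Ideal.isIdempotentElem_iff_of_fg _ hfg).mp hidem
  rw [PrimeSpectrum.isClopen_iff]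
  refine ⟨e, he, ?_⟩
  ext p
  rw [PrimeSpectrum.mem_range_comap_iff]
  simp only [SetLike.mem_coe, PrimeSpectrum.mem_basicOpen]
  constructor
  · intro hp he'
    -- `τ ≤ p`, so `1 ∈ p B`, contradiction
    have hτ : trIdeal R B ≤ p.asIdeal := by
      rw [heq]; exact (Ideal.span_singleton_le_iff_mem _).mpr he'
    have h1' : (1 : B) ∈ p.asIdeal • (⊤ : Submodule R B) :=
      Submodule.smul_mono_left hτ h1
    rw [Ideal.smul_top_eq_map] at h1'
    have h1'' : (algebraMap R B) 1 ∈ p.asIdeal.map (algebraMap R B) := by
      rw [map_one]; exact h1'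
    have : (1 : R) ∈ p.asIdeal := by
      rw [← hp]; exact h1''
    exact p.2.ne_top ((Ideal.eq_top_iff_one _).mpr this)
  · intro he'
    -- some generator `f b ∉ p`
    have hτ : ¬ trIdeal R B ≤ p.asIdeal := by
      rw [heq]; intro h; exact he' ((Ideal.span_singleton_le_iff_mem _).mp h)
    have : ∃ (f : B →ₗ[R] R) (b : B), f b ∉ p.asIdeal := by
      by_contra hcon
      push Not at hcon
      apply hτ
      refine Ideal.span_le.mpr ?_
      rintro r ⟨f, b, rfl⟩
      exact hcon f b
    obtain ⟨f, b, hfb⟩ := this
    refine le_antisymm ?_ Ideal.le_comap_map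
    intro r hr
    rw [Ideal.mem_comap] at hr
    -- `r • b = b * algebraMap r ∈ p • ⊤`
    have hrb : r • b ∈ p.asIdeal • (⊤ : Submodule R B) := by
      have e1 : r • b = b * algebraMap R B r := by rw [Algebra.smul_def, mul_comm]
      rw [e1, Ideal.smul_top_eq_map]
      exact Ideal.mul_mem_left _ _ hr
    have := map_mem_of_mem_smul_top p.asIdeal f _ hrb
    rw [map_smul, smul_eq_mul] at this
    exact (p.2.mem_or_mem this).resolve_right hfb

end Groth.Agent.S5343
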