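import Groth.Statements.S5346
import Groth.Agent.Lib.Helper5.ArtinNil

set_option autoImplicit false
universe u
open CategoryTheory CategoryTheory.Limits MonoidalCategory CartesianMonoidalCategory MonObj GrpObj AlgebraicGeometry
open SGA3

namespace Groth.Agent.S5346

/-- Let A be a local artinian ring with residue field k and i : Spec k → Spec A the closed point. (i) If
X is an A-scheme whose base change X ⊗_A k is locally of finite type (resp. of finite type) over k,
then X is locally of finite type (resp. of finite type) over A. (ii) If u : X → Y is a morphism of
A-schemes whose base change u ⊗_A k is an immersion (resp. a closed immersion), then u is an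
immersion (resp. a closed immersion). -/
theorem result (A : Type u) [CommRing A] [IsArtinianRing A] [IsLocalRing A] (X Y : Over (Spec (CommRingCat.of A))) (u : X ⟶ Y) :
    letI i : Spec (CommRingCat.of (IsLocalRing.ResidueField A)) ⟶ (Spec (CommRingCat.of A)) := Spec.map (CommRingCat.ofHom (IsLocalRing.residue A))
    (LocallyOfFiniteType (pullback.snd X.hom i) → LocallyOfFiniteType X.hom) ∧
    (LocallyOfFiniteType (pullback.snd X.hom i) → QuasiCompact (pullback.snd X.hom i) → QuasiCompact X.hom) ∧
    (IsImmersion ((Over.pullback i).map u).left → IsImmersion u.left) ∧
    (IsClosedImmersion ((Over.pullback i).map u).left → IsClosedImmersion u.left) := by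
  open Groth.Agent.Lib.helper5.ArtinNil Groth.Agent.Lib.helper5.GrpMonoClosed in
  refine ⟨fun h => ?_, fun h h' => ?_, fun h => ?_, fun h => ?_⟩
  · haveI : LocallyOfFiniteType (pullback.snd X.hom (resMap A)) := h
    exact locallyOfFiniteType_of_special A X.hom
  · haveI : QuasiCompact (pullback.snd X.hom (resMap A)) := h'
    exact quasiCompact_of_special A X.hom
  · haveI : IsImmersion ((Over.pullback (resMap A)).map u).left := h
    exact isImmersion_of_special A u
  · haveI : IsClosedImmersion ((Over.pullback (resMap A)).map u).left := h
    exact isClosedImmersion_of_special A u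

end Groth.Agent.S5346
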