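import Groth.Statements.S5357
import Groth.Agent.Lib.Helper14.FixLocus4
import Groth.Agent.Lib.Helper14.SepGrpField2

set_option autoImplicit false
universe u
open CategoryTheory CategoryTheory.Limits MonoidalCategory CartesianMonoidalCategory MonObj GrpObj AlgebraicGeometry
open SGA3

namespace Groth.Agent.S5357

/-- Let G be a group scheme over a field k, X a k-scheme and u, v : X → G two morphisms of k-schemes.
Then the transporter of u into v, the subfunctor of G whose points with values in S' are the g such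
that g u(x) g⁻¹ = v(x) for every S'' → S' and every point x of X with values in S'', is represented
by a closed subscheme of G. (For u = v this says that the centralizer of u is represented by a
closed subscheme of G; that it is a subgroup scheme is not stated here.) -/
theorem result (k : Type u) [Field k] (G X : Over (Spec (CommRingCat.of k))) [GrpObj G]
    (u v : X ⟶ G) :
    ∃ (T : Over (Spec (CommRingCat.of k))) (t : T ⟶ G), IsClosedImmersion t.left ∧
      ∀ (S' : Over (Spec (CommRingCat.of k))) (g : S' ⟶ G), (∃ z : S' ⟶ T, z ≫ t = g) ↔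
        ∀ (S'' : Over (Spec (CommRingCat.of k))) (s : S'' ⟶ S') (x : S'' ⟶ X), (s ≫ g) * (x ≫ u) * (s ≫ g)⁻¹ = x ≫ v := by
  haveI : IsSeparated G.hom := Groth.Agent.Lib.Helper14.SepGrpField2.isSeparated_of_grpObj' G
  let a : X ⊗ G ⟶ G := (fst X G ≫ v)⁻¹ * snd X G * (fst X G ≫ u)
  have lift_a : ∀ {T : Over (Spec (CommRingCat.of k))} (h : T ⟶ X) (x : T ⟶ G),
      lift h x ≫ a = (h ≫ v)⁻¹ * x * (h ≫ u) := by
    intro T h x
    change lift h x ≫ ((fst X G ≫ v)⁻¹ * snd X G * (fst X G ≫ u)) = _
    rw [MonObj.comp_mul, MonObj.comp_mul, GrpObj.comp_inv, ← Category.assoc, lift_fst,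
      lift_snd, ← Category.assoc, lift_fst]
  obtain ⟨Z, j, hj, hfix, huniv⟩ :=
    Groth.Agent.Lib.Helper14.FixLocus.exists_fixedLocus_of_isSeparated a
  have key : ∀ (T : Over (Spec (CommRingCat.of k))) (g : T ⟶ G),
      ((X ◁ g) ≫ a = snd X T ≫ g) ↔
        ∀ (T' : Over (Spec (CommRingCat.of k))) (t : T' ⟶ T) (x : T' ⟶ X),
          (t ≫ g) * (x ≫ u) * (t ≫ g)⁻¹ = x ≫ v := by
    intro T g
    rw [← Groth.Agent.Lib.Helper14.FixLocus.pointwise_iff_over]
    refine forall_congr' fun T' => forall_congr' fun t => forall_congr' fun x => ?_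
    rw [lift_a, mul_inv_eq_iff_eq_mul, _root_.mul_assoc, inv_mul_eq_iff_eq_mul]
  refine ⟨Z, j, hj, fun T g => ?_⟩
  rw [← key]
  constructor
  · rintro ⟨z, rfl⟩
    rw [MonoidalCategory.whiskerLeft_comp, Category.assoc, hfix, ← Category.assoc,
      whiskerLeft_snd, Category.assoc]
  · intro h
    exact huniv T g h

end Groth.Agent.S5357
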