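import Groth.Statements.S5358
import Groth.Agent.Lib.Helper14.WeilField2
import Groth.Agent.S0351

set_option autoImplicit false
universe u
open CategoryTheory CategoryTheory.Limits MonoidalCategory CartesianMonoidalCategory MonObj GrpObj AlgebraicGeometry
open SGA3

namespace Groth.Agent.S5358

/-- Let G be a group scheme over a field k, y' : Y' → G an immersion and y : Y → G a closed immersion.
(ii) The transporter of Y' into Y, whose points with values in S' are the g such that conjugation by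
g carries every point of Y' (after any base change S'' → S') into Y, is represented by a closed
subscheme of G; if y' is also a closed immersion, so is the strict transporter (g Y' g⁻¹ = Y
functorially). (iii) For every subgroup scheme h : H → G (a homomorphism which is an immersion), the
normalizer of H in G is represented by a closed subscheme of G. -/
theorem result (k : Type u) [Field k] (G Y Y' : Over (Spec (CommRingCat.of k))) [GrpObj G]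
    (y : Y ⟶ G) [IsClosedImmersion y.left] (y' : Y' ⟶ G) [IsImmersion y'.left] :
    (∃ (T : Over (Spec (CommRingCat.of k))) (t : T ⟶ G), IsClosedImmersion t.left ∧
      ∀ (S' : Over (Spec (CommRingCat.of k))) (g : S' ⟶ G), (∃ z : S' ⟶ T, z ≫ t = g) ↔
        ∀ (S'' : Over (Spec (CommRingCat.of k))) (s : S'' ⟶ S') (x : S'' ⟶ Y'),
          ∃ x' : S'' ⟶ Y, (s ≫ g) * (x ≫ y') * (s ≫ g)⁻¹ = x' ≫ y) ∧
    (IsClosedImmersion y'.left →
      ∃ (T : Over (Spec (CommRingCat.of k))) (t : T ⟶ G), IsClosedImmersion t.left ∧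
      ∀ (S' : Over (Spec (CommRingCat.of k))) (g : S' ⟶ G), (∃ z : S' ⟶ T, z ≫ t = g) ↔
        ((∀ (S'' : Over (Spec (CommRingCat.of k))) (s : S'' ⟶ S') (x : S'' ⟶ Y'),
          ∃ x' : S'' ⟶ Y, (s ≫ g) * (x ≫ y') * (s ≫ g)⁻¹ = x' ≫ y) ∧
        (∀ (S'' : Over (Spec (CommRingCat.of k))) (s : S'' ⟶ S') (x' : S'' ⟶ Y),
          ∃ x : S'' ⟶ Y', (s ≫ g)⁻¹ * (x' ≫ y) * (s ≫ g) = x ≫ y'))) ∧
    (∀ (H : Over (Spec (CommRingCat.of k))) [GrpObj H] (h : H ⟶ G) [IsMonHom h] [IsImmersion h.left],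
      ∃ (N : Over (Spec (CommRingCat.of k))) (_ : GrpObj N) (n : N ⟶ G), IsClosedImmersion n.left ∧
        Red.IsNormalizerOf h n) := by
  have transp : ∀ {X P Q : Over (Spec (CommRingCat.of k))} (w : X ⟶ G) (p : P ⟶ G) (q : Q ⟶ G),
      IsClosedImmersion q.left →
      ∃ (C : Over (Spec (CommRingCat.of k))) (c : C ⟶ X), IsClosedImmersion c.left ∧
        ∀ (T : Over (Spec (CommRingCat.of k))) (x : T ⟶ X), (∃ z : T ⟶ C, z ≫ c = x) ↔
          ∀ (T' : Over (Spec (CommRingCat.of k))) (t : T' ⟶ T) (a : T' ⟶ P), ∃ e : T' ⟶ Q,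
            (t ≫ x ≫ w) * (a ≫ p) * (t ≫ x ≫ w)⁻¹ = e ≫ q := by
    intro X P Q w p q hq
    haveI := hq
    let φ : P ⊗ X ⟶ G := (snd P X ≫ w) * (fst P X ≫ p) * (snd P X ≫ w)⁻¹
    have lift_φ : ∀ {T : Over (Spec (CommRingCat.of k))} (a : T ⟶ P) (x : T ⟶ X),
        lift a x ≫ φ = (x ≫ w) * (a ≫ p) * (x ≫ w)⁻¹ := by
      intro T a x
      change lift a x ≫ ((snd P X ≫ w) * (fst P X ≫ p) * (snd P X ≫ w)⁻¹) = _
      rw [MonObj.comp_mul, MonObj.comp_mul, GrpObj.comp_inv, lift_snd_assoc, lift_fst_assoc]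
    obtain ⟨C, c, hc, hC⟩ := Groth.Agent.Lib.Helper14.WeilField.exists_closed_factors φ q
    refine ⟨C, c, hc, fun T x => ?_⟩
    rw [hC]
    refine forall_congr' fun T' => forall_congr' fun t => forall_congr' fun a => ?_
    rw [lift_φ, Category.assoc]
    exact ⟨fun ⟨e, he⟩ => ⟨e, he.symm⟩, fun ⟨e, he⟩ => ⟨e, he.symm⟩⟩
  have strict : ∀ {P Q : Over (Spec (CommRingCat.of k))} (p : P ⟶ G) (q : Q ⟶ G),
      IsClosedImmersion p.left → IsClosedImmersion q.left →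
      ∃ (T : Over (Spec (CommRingCat.of k))) (t : T ⟶ G), IsClosedImmersion t.left ∧
        ∀ (S' : Over (Spec (CommRingCat.of k))) (g : S' ⟶ G), (∃ z : S' ⟶ T, z ≫ t = g) ↔
          ((∀ (S'' : Over (Spec (CommRingCat.of k))) (s : S'' ⟶ S') (x : S'' ⟶ P),
            ∃ x' : S'' ⟶ Q, (s ≫ g) * (x ≫ p) * (s ≫ g)⁻¹ = x' ≫ q) ∧
          (∀ (S'' : Over (Spec (CommRingCat.of k))) (s : S'' ⟶ S') (x' : S'' ⟶ Q),
            ∃ x : S'' ⟶ P, (s ≫ g)⁻¹ * (x' ≫ q) * (s ≫ g) = x ≫ p)) := by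
    intro P Q p q hp hq
    obtain ⟨C₁, c₁, hc₁, hC₁⟩ := transp (𝟙 G) p q hq
    obtain ⟨C₂, c₂, hc₂, hC₂⟩ := transp (c₁⁻¹) q p hp
    haveI := hc₁
    haveI := hc₂
    have inv_eq : ∀ {T' T : Over (Spec (CommRingCat.of k))} (t : T' ⟶ T) (x : T ⟶ C₁),
        t ≫ x ≫ c₁⁻¹ = (t ≫ x ≫ c₁)⁻¹ := by
      intro T' T t x
      rw [GrpObj.comp_inv, GrpObj.comp_inv]
    refine ⟨C₂, c₂ ≫ c₁, ?_, fun S' g => ?_⟩
    · rw [Over.comp_left]
      infer_instance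
    · constructor
      · rintro ⟨z, rfl⟩
        refine ⟨?_, ?_⟩
        · have h1 := (hC₁ S' ((z ≫ c₂) ≫ c₁)).mp ⟨z ≫ c₂, rfl⟩
          intro S'' s x
          obtain ⟨e, he⟩ := h1 S'' s x
          refine ⟨e, ?_⟩
          simpa only [Category.comp_id, Category.assoc] using he
        · have h2 := (hC₂ S' (z ≫ c₂)).mp ⟨z, rfl⟩
          intro S'' s x'
          obtain ⟨e, he⟩ := h2 S'' s x'
          refine ⟨e, ?_⟩
          rw [inv_eq, _root_.inv_inv] at he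
          simpa only [Category.assoc] using he
      · rintro ⟨h1, h2⟩
        obtain ⟨z₁, hz₁⟩ := (hC₁ S' g).mpr (fun S'' s x => by
          obtain ⟨e, he⟩ := h1 S'' s x
          exact ⟨e, by simpa only [Category.comp_id] using he⟩)
        obtain ⟨z₂, hz₂⟩ := (hC₂ S' z₁).mpr (fun S'' s x' => by
          obtain ⟨e, he⟩ := h2 S'' s x'
          refine ⟨e, ?_⟩
          rw [inv_eq, _root_.inv_inv, hz₁]
          exact he)
        exact ⟨z₂, by rw [← Category.assoc, hz₂, hz₁]⟩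
  refine ⟨?_, ?_, ?_⟩
  · obtain ⟨C, c, hc, hC⟩ := transp (𝟙 G) y' y inferInstance
    refine ⟨C, c, hc, fun S' g => ?_⟩
    rw [hC]
    simp only [Category.comp_id]
  · intro hy'
    exact strict y' y hy' inferInstance
  · intro H instH h instMon instImm
    have hcl : IsClosedImmersion h.left := Groth.Agent.S0351.result k H G h
    obtain ⟨N, n, hn, hN⟩ := strict h h hcl hcl
    haveI := hn
    haveI : Mono n := (Over.forget _).mono_of_mono_map (inferInstanceAs (Mono n.left))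
    have hN' : ∀ (X : Over (Spec (CommRingCat.of k))) (g : X ⟶ G), (∃ z : X ⟶ N, z ≫ n = g) ↔
        ∀ (X' : Over (Spec (CommRingCat.of k))) (x : X' ⟶ X) (h' : X' ⟶ H),
          (∃ h'' : X' ⟶ H, (x ≫ g) * (h' ≫ h) * (x ≫ g)⁻¹ = h'' ≫ h) ∧
          (∃ h'' : X' ⟶ H, (x ≫ g)⁻¹ * (h' ≫ h) * (x ≫ g) = h'' ≫ h) := by
      intro X g
      rw [hN]
      constructor
      · rintro ⟨h1, h2⟩ X' x h'
        exact ⟨h1 X' x h', h2 X' x h'⟩
      · intro hh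
        exact ⟨fun X' x h' => (hh X' x h').1, fun X' x h' => (hh X' x h').2⟩
    have hone : ∀ (X' : Over (Spec (CommRingCat.of k)))
        (x : X' ⟶ 𝟙_ (Over (Spec (CommRingCat.of k)))) (h' : X' ⟶ H),
        (∃ h'' : X' ⟶ H, (x ≫ η[G]) * (h' ≫ h) * (x ≫ η[G])⁻¹ = h'' ≫ h) ∧
        (∃ h'' : X' ⟶ H, (x ≫ η[G])⁻¹ * (h' ≫ h) * (x ≫ η[G]) = h'' ≫ h) := by
      intro X' x h'
      have ht : x ≫ η[G] = 1 := by
        rw [toUnit_unique x (toUnit X'), ← Hom.one_def]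
      rw [ht]
      exact ⟨⟨h', by group⟩, ⟨h', by group⟩⟩
    have hdiv : ∀ (T : Over (Spec (CommRingCat.of k))) (x y : T ⟶ G),
        (∀ (X' : Over (Spec (CommRingCat.of k))) (t : X' ⟶ T) (h' : X' ⟶ H),
          (∃ h'' : X' ⟶ H, (t ≫ x) * (h' ≫ h) * (t ≫ x)⁻¹ = h'' ≫ h) ∧
          (∃ h'' : X' ⟶ H, (t ≫ x)⁻¹ * (h' ≫ h) * (t ≫ x) = h'' ≫ h)) →
        (∀ (X' : Over (Spec (CommRingCat.of k))) (t : X' ⟶ T) (h' : X' ⟶ H),
          (∃ h'' : X' ⟶ H, (t ≫ y) * (h' ≫ h) * (t ≫ y)⁻¹ = h'' ≫ h) ∧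
          (∃ h'' : X' ⟶ H, (t ≫ y)⁻¹ * (h' ≫ h) * (t ≫ y) = h'' ≫ h)) →
        ∀ (X' : Over (Spec (CommRingCat.of k))) (t : X' ⟶ T) (h' : X' ⟶ H),
          (∃ h'' : X' ⟶ H, (t ≫ (x⁻¹ * y)) * (h' ≫ h) * (t ≫ (x⁻¹ * y))⁻¹ = h'' ≫ h) ∧
          (∃ h'' : X' ⟶ H, (t ≫ (x⁻¹ * y))⁻¹ * (h' ≫ h) * (t ≫ (x⁻¹ * y)) = h'' ≫ h) := by
      intro T x y hx hy X' t h'
      rw [MonObj.comp_mul, GrpObj.comp_inv]
      obtain ⟨⟨h₁, e₁⟩, -⟩ := hy X' t h'
      obtain ⟨-, ⟨h₂, e₂⟩⟩ := hx X' t h₁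
      obtain ⟨⟨h₃, e₃⟩, -⟩ := hx X' t h'
      obtain ⟨-, ⟨h₄, e₄⟩⟩ := hy X' t h₃
      refine ⟨⟨h₂, ?_⟩, ⟨h₄, ?_⟩⟩
      · rw [← e₂, ← e₁]
        group
      · rw [← e₄, ← e₃]
        group
    obtain ⟨str, hmon⟩ := Groth.Agent.Lib.Helper14.WeilField.exists_grpObj_of_pred n
      (fun X g => ∀ (X' : Over (Spec (CommRingCat.of k))) (x : X' ⟶ X) (h' : X' ⟶ H),
        (∃ h'' : X' ⟶ H, (x ≫ g) * (h' ≫ h) * (x ≫ g)⁻¹ = h'' ≫ h) ∧
        (∃ h'' : X' ⟶ H, (x ≫ g)⁻¹ * (h' ≫ h) * (x ≫ g) = h'' ≫ h)) hN' hone hdiv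
    exact ⟨N, str, n, hn, hmon, inferInstance, hN'⟩

end Groth.Agent.S5358
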