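import Groth.Statements.S5362
import Groth.Agent.Lib.Helper14.HomImage4
import Groth.Agent.Lib.Helper14.KPtsDense
import Groth.Agent.Lib.Helper12.Chow1

set_option autoImplicit false
universe u
open CategoryTheory CategoryTheory.Limits MonoidalCategory CartesianMonoidalCategory MonObj GrpObj AlgebraicGeometry
open SGA3

namespace Groth.Agent.S5362

/-- Let G be a group scheme locally of finite type over a field k, and a : A → G, b : B → G two closed
subgroup schemes which are smooth and of finite type over k, such that B normalizes A (conjugating a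
point of A by a point of B gives a point of A). Let i : Γ → G be the smallest closed subgroup scheme
of G through which both a and b factor. Then Γ is reduced and its underlying set is A·B, the image
of A ×_k B under (x, y) ↦ a(x) b(y). -/
theorem result (k : Type u) [Field k] (G A B : Over (Spec (CommRingCat.of k))) [GrpObj G] [GrpObj A] [GrpObj B]
    [LocallyOfFiniteType G.hom] (a : A ⟶ G) [IsMonHom a] [IsClosedImmersion a.left] (b : B ⟶ G) [IsMonHom b]
    [IsClosedImmersion b.left] [Smooth A.hom] [QuasiCompact A.hom] [Smooth B.hom] [QuasiCompact B.hom]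
    (hN : ∀ (T : Over (Spec (CommRingCat.of k))) (y : T ⟶ B) (x : T ⟶ A), ∃ x' : T ⟶ A, (y ≫ b) * (x ≫ a) * (y ≫ b)⁻¹ = x' ≫ a)
    (Γ : Over (Spec (CommRingCat.of k))) [GrpObj Γ] (i : Γ ⟶ G) [IsMonHom i] [IsClosedImmersion i.left]
    (ha : ∃ a' : A ⟶ Γ, a' ≫ i = a) (hb : ∃ b' : B ⟶ Γ, b' ≫ i = b)
    (hmin : ∀ (Γ' : Over (Spec (CommRingCat.of k))) (_ : GrpObj Γ') (i' : Γ' ⟶ G), IsMonHom i' → IsClosedImmersion i'.left →
        (∃ a'' : A ⟶ Γ', a'' ≫ i' = a) → (∃ b'' : B ⟶ Γ', b'' ≫ i' = b) → ∃ j : Γ ⟶ Γ', j ≫ i' = i) :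
    IsReduced Γ.left ∧ Set.range i.left.base = Set.range ((a ⊗ₘ b) ≫ μ[G]).left.base := by
  classical
  -- the multiplication morphism
  obtain ⟨φ, hφ⟩ : ∃ φ : A ⊗ B ⟶ G, φ = (fst A B ≫ a) * (snd A B ≫ b) := ⟨_, rfl⟩
  have hφμ : (a ⊗ₘ b) ≫ μ[G] = φ := by
    rw [hφ, MonObj.mul_eq_mul, MonObj.comp_mul, tensorHom_fst, tensorHom_snd]
  have φ_comp : ∀ {T : Over (Spec (CommRingCat.of k))} (p : T ⟶ A ⊗ B),
      p ≫ φ = ((p ≫ fst A B) ≫ a) * ((p ≫ snd A B) ≫ b) := by
    intro T p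
    rw [hφ, MonObj.comp_mul, Category.assoc, Category.assoc]
  have lift_φ : ∀ {T : Over (Spec (CommRingCat.of k))} (x : T ⟶ A) (y : T ⟶ B),
      lift x y ≫ φ = (x ≫ a) * (y ≫ b) := by
    intro T x y
    rw [φ_comp, lift_fst, lift_snd]
  have P1 : ∀ {T : Over (Spec (CommRingCat.of k))} (p q : T ⟶ A ⊗ B),
      ∃ z : T ⟶ A ⊗ B, z ≫ φ = (p ≫ φ)⁻¹ * (q ≫ φ) := by
    intro T p q
    obtain ⟨x'', hx''⟩ := hN T ((p ≫ snd A B)⁻¹) ((p ≫ fst A B)⁻¹ * (q ≫ fst A B))
    refine ⟨lift x'' ((p ≫ snd A B)⁻¹ * (q ≫ snd A B)), ?_⟩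
    rw [lift_φ, ← hx'', φ_comp p, φ_comp q]
    simp only [MonObj.mul_comp, GrpObj.inv_comp]
    group
  have P2 : ∀ {T : Over (Spec (CommRingCat.of k))} (p q : T ⟶ A ⊗ B),
      ∃ z : T ⟶ A ⊗ B, z ≫ φ = (p ≫ φ) * (q ≫ φ) := by
    intro T p q
    obtain ⟨x'', hx''⟩ := hN T (p ≫ snd A B) (q ≫ fst A B)
    refine ⟨lift ((p ≫ fst A B) * x'') ((p ≫ snd A B) * (q ≫ snd A B)), ?_⟩
    rw [lift_φ, MonObj.mul_comp, MonObj.mul_comp, ← hx'', φ_comp p, φ_comp q]
    group
  obtain ⟨dH, hdH⟩ := P1 (fst (A ⊗ B) (A ⊗ B)) (snd (A ⊗ B) (A ⊗ B))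
  obtain ⟨mH, hmH⟩ := P2 (fst (A ⊗ B) (A ⊗ B)) (snd (A ⊗ B) (A ⊗ B))
  -- finiteness
  haveI : Smooth (A ⊗ B).hom := Groth.Agent.Lib.Helper14.KPtsDense.smooth_tensor A B
  haveI : IsReduced (A ⊗ B).left := Groth.Agent.H1.SmoothReduced.isReduced_of_smooth (A ⊗ B).hom
  haveI : QuasiCompact (A ⊗ B).hom := by
    have h1 : (A ⊗ B).hom = (snd A B).left ≫ B.hom := (Over.w (snd A B)).symm
    haveI : QuasiCompact (snd A B).left := by
      change QuasiCompact (pullback.snd A.hom B.hom)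
      infer_instance
    rw [h1]
    infer_instance
  haveI : CompactSpace (A ⊗ B).left :=
    (HasAffineProperty.iff_of_isAffine (P := @QuasiCompact) (f := (A ⊗ B).hom)).mp inferInstance
  haveI : IsLocallyNoetherian G.left := LocallyOfFiniteType.isLocallyNoetherian G.hom
  haveI : QuasiSeparatedSpace G.left := inferInstance
  haveI : QuasiCompact φ.left := inferInstance
  -- the schematic image
  let K : Over (Spec (CommRingCat.of k)) := Over.mk (φ.left.imageι ≫ G.hom)
  let iK : K ⟶ G := Over.homMk φ.left.imageι rfl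
  let g : A ⊗ B ⟶ K := Over.homMk φ.left.toImage (by
    show φ.left.toImage ≫ φ.left.imageι ≫ G.hom = (A ⊗ B).hom
    rw [← Category.assoc, φ.left.toImage_imageι, Over.w φ])
  have hgi : g ≫ iK = φ := by
    apply Over.OverMorphism.ext
    exact φ.left.toImage_imageι
  haveI : IsClosedImmersion iK.left := inferInstanceAs (IsClosedImmersion φ.left.imageι)
  haveI : QuasiCompact g.left := inferInstanceAs (QuasiCompact φ.left.toImage)
  haveI : IsSchemeTheoreticallyDominant g.left :=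
    ⟨Groth.Agent.Lib.helper12.Chow1.ker_toImage φ.left⟩
  haveI : Mono iK.left := inferInstance
  haveI : Mono iK := Over.mono_of_mono_left iK
  obtain ⟨d, hd⟩ := Groth.Agent.Lib.Helper14.HomImage.exists_div' φ dH hdH iK g hgi
  have he : (lift η[A] η[B] ≫ g) ≫ iK = η[G] := by
    rw [Category.assoc, hgi, lift_φ, IsMonHom.one_hom, IsMonHom.one_hom, MonObj.one_eq_one,
      _root_.mul_one]
  obtain ⟨str, hstr⟩ := Groth.Agent.Lib.Helper14.HomImage.exists_grpObj_of_div iK
    (lift η[A] η[B] ≫ g) he d hd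
  letI := str
  haveI : IsMonHom iK := hstr
  -- `a` and `b` factor through `K`
  have haK : ∃ a'' : A ⟶ K, a'' ≫ iK = a := by
    refine ⟨lift (𝟙 A) (toUnit A ≫ η[B]) ≫ g, ?_⟩
    rw [Category.assoc, hgi, lift_φ, Category.id_comp, Category.assoc, IsMonHom.one_hom,
      ← Hom.one_def, _root_.mul_one]
  have hbK : ∃ b'' : B ⟶ K, b'' ≫ iK = b := by
    refine ⟨lift (toUnit B ≫ η[A]) (𝟙 B) ≫ g, ?_⟩
    rw [Category.assoc, hgi, lift_φ, Category.id_comp, Category.assoc, IsMonHom.one_hom,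
      ← Hom.one_def, _root_.one_mul]
  obtain ⟨j, hj⟩ := hmin K str iK hstr inferInstance haK hbK
  -- `g` is surjective
  have hmH' : mH ≫ g = (fst (A ⊗ B) (A ⊗ B) ≫ g) * (snd (A ⊗ B) (A ⊗ B) ≫ g) := by
    rw [← cancel_mono iK, Category.assoc, hgi, hmH, MonObj.mul_comp, Category.assoc,
      Category.assoc, hgi]
  haveI : LocallyOfFiniteType K.hom := by
    rw [← Over.w iK]
    infer_instance
  haveI : IsLocallyNoetherian K.left := LocallyOfFiniteType.isLocallyNoetherian K.hom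
  haveI : LocallyOfFiniteType (g.left ≫ K.hom) := by
    rw [Over.w g]
    infer_instance
  haveI : LocallyOfFiniteType g.left := locallyOfFiniteType_of_comp g.left K.hom
  haveI : LocallyOfFinitePresentation g.left :=
    LocallyOfFinitePresentation.iff_locallyOfFiniteType.mpr inferInstance
  have hgs : Surjective g.left :=
    Groth.Agent.Lib.Helper14.HomImage.surjective_of_dominant' g mH hmH'
  -- `K` is reduced
  haveI : IsReduced K.left := by
    refine ⟨fun U => ?_⟩
    exact isReduced_of_injective (g.left.app U).hom (g.left.app_injective U)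
  -- `j` is surjective
  obtain ⟨a₀, ha₀⟩ := ha
  obtain ⟨b₀, hb₀⟩ := hb
  obtain ⟨ψ, hψ⟩ : ∃ ψ : A ⊗ B ⟶ Γ, ψ = (fst A B ≫ a₀) * (snd A B ≫ b₀) := ⟨_, rfl⟩
  have hψi : ψ ≫ i = φ := by
    rw [hψ, MonObj.mul_comp, Category.assoc, Category.assoc, ha₀, hb₀, hφ]
  have hφl : φ.left = g.left ≫ iK.left := by rw [← Over.comp_left, hgi]
  have hφl' : φ.left = ψ.left ≫ i.left := by rw [← Over.comp_left, hψi]
  have hil : i.left = j.left ≫ iK.left := by rw [← Over.comp_left, hj]
  have hinj : Function.Injective iK.left.base := iK.left.isEmbedding.injective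
  have hjs : Function.Surjective j.left.base := by
    intro y
    obtain ⟨z, rfl⟩ := hgs.surj y
    refine ⟨ψ.left.base z, hinj ?_⟩
    have e1 : iK.left.base (j.left.base (ψ.left.base z)) = φ.left.base z := by
      rw [hφl', hil]
      rfl
    have e2 : iK.left.base (g.left.base z) = φ.left.base z := by
      rw [hφl]
      rfl
    rw [e1, e2]
  haveI : IsClosedImmersion (j.left ≫ iK.left) := by
    rw [← hil]
    infer_instance
  haveI : IsClosedImmersion j.left := IsClosedImmersion.of_comp j.left iK.left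
  haveI : Surjective j.left := ⟨hjs⟩
  haveI : IsIso j.left := isIso_of_isClosedImmersion_of_surjective j.left
  refine ⟨isReduced_of_isOpenImmersion j.left, ?_⟩
  rw [hφμ]
  ext x
  constructor
  · rintro ⟨y, rfl⟩
    obtain ⟨z, hz⟩ := hgs.surj (j.left.base y)
    refine ⟨z, ?_⟩
    have e2 : φ.left.base z = iK.left.base (g.left.base z) := by
      rw [hφl]
      rfl
    have e3 : i.left.base y = iK.left.base (j.left.base y) := by
      rw [hil]
      rfl
    rw [e2, e3]
    exact congrArg _ hz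
  · rintro ⟨z, rfl⟩
    refine ⟨ψ.left.base z, ?_⟩
    rw [hφl']
    rfl

end Groth.Agent.S5362
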