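import Groth.Statements.S5363
import Groth.Agent.Lib.Helper14.FixCentralizer
import Groth.Agent.Lib.Helper14.WeilField2

set_option autoImplicit false
universe u
open CategoryTheory CategoryTheory.Limits MonoidalCategory CartesianMonoidalCategory MonObj GrpObj AlgebraicGeometry
open SGA3

namespace Groth.Agent.S5363

/-- Let G be a group scheme over a field k and g a k-rational point of G. Then the smallest closed
subgroup scheme Γ of G through which g factors (the closed subgroup generated by g) is commutative. -/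
theorem result (k : Type u) [Field k] (G : Over (Spec (CommRingCat.of k))) [GrpObj G]
    (g : 𝟙_ (Over (Spec (CommRingCat.of k))) ⟶ G) (Γ : Over (Spec (CommRingCat.of k))) [GrpObj Γ] (i : Γ ⟶ G) [IsMonHom i] [IsClosedImmersion i.left]
    (hf : ∃ f' : 𝟙_ (Over (Spec (CommRingCat.of k))) ⟶ Γ, f' ≫ i = g)
    (hmin : ∀ (Γ' : Over (Spec (CommRingCat.of k))) (_ : GrpObj Γ') (i' : Γ' ⟶ G), IsMonHom i' → IsClosedImmersion i'.left →
        (∃ f'' : 𝟙_ (Over (Spec (CommRingCat.of k))) ⟶ Γ', f'' ≫ i' = g) → ∃ j : Γ ⟶ Γ', j ≫ i' = i) :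
    IsCommMonObj Γ := by
  have key : ∀ {H : Over (Spec (CommRingCat.of k))} (u : H ⟶ G),
      ∃ (Z : Over (Spec (CommRingCat.of k))) (_ : GrpObj Z) (incl : Z ⟶ G), IsMonHom incl ∧
        IsClosedImmersion incl.left ∧
        ∀ (T : Over (Spec (CommRingCat.of k))) (x : T ⟶ G), (∃ z : T ⟶ Z, z ≫ incl = x) ↔
          ∀ (T' : Over (Spec (CommRingCat.of k))) (t : T' ⟶ T) (h : T' ⟶ H),
            (t ≫ x) * (h ≫ u) = (h ≫ u) * (t ≫ x) := by
    intro H u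
    obtain ⟨Z, incl, hcl, hZ⟩ := Groth.Agent.Lib.Helper14.FixCentralizer.exists_centralizer u
    haveI : IsClosedImmersion incl.left := hcl
    haveI : Mono incl := (Over.forget _).mono_of_mono_map (inferInstanceAs (Mono incl.left))
    have hone : ∀ (T' : Over (Spec (CommRingCat.of k))) (t : T' ⟶ 𝟙_ (Over (Spec (CommRingCat.of k))))
        (h : T' ⟶ H), (t ≫ η[G]) * (h ≫ u) = (h ≫ u) * (t ≫ η[G]) := by
      intro T' t h
      have ht : t ≫ η[G] = 1 := by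
        rw [toUnit_unique t (toUnit T'), ← Hom.one_def]
      rw [ht, _root_.one_mul, _root_.mul_one]
    have hdiv : ∀ (T : Over (Spec (CommRingCat.of k))) (x y : T ⟶ G),
        (∀ (T' : Over (Spec (CommRingCat.of k))) (t : T' ⟶ T) (h : T' ⟶ H),
          (t ≫ x) * (h ≫ u) = (h ≫ u) * (t ≫ x)) →
        (∀ (T' : Over (Spec (CommRingCat.of k))) (t : T' ⟶ T) (h : T' ⟶ H),
          (t ≫ y) * (h ≫ u) = (h ≫ u) * (t ≫ y)) →
        ∀ (T' : Over (Spec (CommRingCat.of k))) (t : T' ⟶ T) (h : T' ⟶ H),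
          (t ≫ (x⁻¹ * y)) * (h ≫ u) = (h ≫ u) * (t ≫ (x⁻¹ * y)) := by
      intro T x y hx hy T' t h
      rw [MonObj.comp_mul, GrpObj.comp_inv]
      have c1 : Commute (t ≫ x) (h ≫ u) := hx T' t h
      have c2 : Commute (t ≫ y) (h ≫ u) := hy T' t h
      exact c1.inv_left.mul_left c2
    obtain ⟨str, hstr⟩ := Groth.Agent.Lib.Helper14.WeilField.exists_grpObj_of_pred incl
      (fun T x => ∀ (T' : Over (Spec (CommRingCat.of k))) (t : T' ⟶ T) (h : T' ⟶ H),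
        (t ≫ x) * (h ≫ u) = (h ≫ u) * (t ≫ x)) hZ hone hdiv
    exact ⟨Z, str, incl, hstr, hcl, hZ⟩
  obtain ⟨Z₁, str₁, n₁, hmon₁, hcl₁, hZ₁⟩ := key g
  obtain ⟨j₁, hj₁⟩ := hmin Z₁ str₁ n₁ hmon₁ hcl₁ ((hZ₁ _ g).mpr (fun T' t h => by
    have : t = h := toUnit_unique _ _
    rw [this]))
  have hcomm₁ := (hZ₁ Γ i).mp ⟨j₁, hj₁⟩
  obtain ⟨Z₂, str₂, n₂, hmon₂, hcl₂, hZ₂⟩ := key i
  obtain ⟨j₂, hj₂⟩ := hmin Z₂ str₂ n₂ hmon₂ hcl₂
    ((hZ₂ _ g).mpr (fun T' t h => (hcomm₁ T' h t).symm))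
  have hcomm₂ := (hZ₂ Γ i).mp ⟨j₂, hj₂⟩
  have h3 := hcomm₂ (Γ ⊗ Γ) (fst Γ Γ) (snd Γ Γ)
  haveI : Mono i := (Over.forget _).mono_of_mono_map (inferInstanceAs (Mono i.left))
  refine ⟨?_⟩
  rw [← cancel_mono i, Category.assoc, IsMonHom.mul_hom]
  have e1 : (i ⊗ₘ i) ≫ μ[G] = (fst Γ Γ ≫ i) * (snd Γ Γ ≫ i) := by
    rw [MonObj.mul_eq_mul, MonObj.comp_mul, tensorHom_fst, tensorHom_snd]
  have e2 : (β_ Γ Γ).hom ≫ (i ⊗ₘ i) ≫ μ[G] = (snd Γ Γ ≫ i) * (fst Γ Γ ≫ i) := by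
    rw [e1, MonObj.comp_mul, braiding_hom_fst_assoc, braiding_hom_snd_assoc]
  rw [e2, e1]
  exact h3.symm

end Groth.Agent.S5363
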