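import Groth.Statements.S5364
import Groth.Agent.Lib.Helper14.WeilField2

set_option autoImplicit false
universe u
open CategoryTheory CategoryTheory.Limits MonoidalCategory CartesianMonoidalCategory MonObj GrpObj AlgebraicGeometry
open SGA3

namespace Groth.Agent.S5364

/-- Let G be a group scheme over a field k and a : A → G, b : B → G two closed subgroup schemes which
are geometrically reduced over k and normal in G. Let i : Γ → G be the commutator subgroup scheme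
(A, B): the smallest closed subgroup scheme of G through which the morphism A ×_k B → G, (x, y) ↦
a(x) b(y) a(x)⁻¹ b(y)⁻¹, factors. Then Γ is normal in G. (The published statement also covers
characteristic subgroups; this row states the case of normal subgroups only.) -/
theorem result (k : Type u) [Field k] (G A B : Over (Spec (CommRingCat.of k))) [GrpObj G] [GrpObj A] [GrpObj B]
    (a : A ⟶ G) [IsMonHom a] [IsClosedImmersion a.left] (b : B ⟶ G) [IsMonHom b] [IsClosedImmersion b.left]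
    [GeometricallyReduced A.hom] [GeometricallyReduced B.hom] (hA : AlgGrp.IsNormalHom a) (hB : AlgGrp.IsNormalHom b)
    (Γ : Over (Spec (CommRingCat.of k))) [GrpObj Γ] (i : Γ ⟶ G) [IsMonHom i] [IsClosedImmersion i.left]
    (hf : ∃ f' : A ⊗ B ⟶ Γ, f' ≫ i = (((fst A B) ≫ a) * ((snd A B) ≫ b) * ((fst A B) ≫ a)⁻¹ * ((snd A B) ≫ b)⁻¹))
    (hmin : ∀ (Γ' : Over (Spec (CommRingCat.of k))) (_ : GrpObj Γ') (i' : Γ' ⟶ G), IsMonHom i' → IsClosedImmersion i'.left →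
        (∃ f'' : A ⊗ B ⟶ Γ', f'' ≫ i' = (((fst A B) ≫ a) * ((snd A B) ≫ b) * ((fst A B) ≫ a)⁻¹ * ((snd A B) ≫ b)⁻¹)) → ∃ j : Γ ⟶ Γ', j ≫ i' = i) :
    AlgGrp.IsNormalHom i := by
  let conj : G ⊗ G ⟶ G := fst G G * snd G G * (fst G G)⁻¹
  have lift_conj : ∀ {T : Over (Spec (CommRingCat.of k))} (g x : T ⟶ G),
      lift g x ≫ conj = g * x * g⁻¹ := by
    intro T g x
    change lift g x ≫ (fst G G * snd G G * (fst G G)⁻¹) = _
    rw [MonObj.comp_mul, MonObj.comp_mul, GrpObj.comp_inv, lift_fst, lift_snd]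
  obtain ⟨N, n, hcl, hN⟩ := Groth.Agent.Lib.Helper14.WeilField.exists_closed_factors conj i
  have hN' : ∀ (T : Over (Spec (CommRingCat.of k))) (x : T ⟶ G), (∃ z : T ⟶ N, z ≫ n = x) ↔
      ∀ (T' : Over (Spec (CommRingCat.of k))) (t : T' ⟶ T) (g : T' ⟶ G),
        ∃ e : T' ⟶ Γ, e ≫ i = g * (t ≫ x) * g⁻¹ := by
    intro T x
    rw [hN]
    refine forall_congr' fun T' => forall_congr' fun t => forall_congr' fun g => ?_
    rw [lift_conj]
  haveI : IsClosedImmersion n.left := hcl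
  haveI : Mono n := (Over.forget _).mono_of_mono_map (inferInstanceAs (Mono n.left))
  have hone : ∀ (T' : Over (Spec (CommRingCat.of k)))
      (t : T' ⟶ 𝟙_ (Over (Spec (CommRingCat.of k)))) (g : T' ⟶ G),
      ∃ e : T' ⟶ Γ, e ≫ i = g * (t ≫ η[G]) * g⁻¹ := by
    intro T' t g
    refine ⟨1, ?_⟩
    have ht : t ≫ η[G] = 1 := by
      rw [toUnit_unique t (toUnit T'), ← Hom.one_def]
    rw [ht, _root_.mul_one, mul_inv_cancel, MonObj.one_comp]
  have hdiv : ∀ (T : Over (Spec (CommRingCat.of k))) (x y : T ⟶ G),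
      (∀ (T' : Over (Spec (CommRingCat.of k))) (t : T' ⟶ T) (g : T' ⟶ G),
        ∃ e : T' ⟶ Γ, e ≫ i = g * (t ≫ x) * g⁻¹) →
      (∀ (T' : Over (Spec (CommRingCat.of k))) (t : T' ⟶ T) (g : T' ⟶ G),
        ∃ e : T' ⟶ Γ, e ≫ i = g * (t ≫ y) * g⁻¹) →
      ∀ (T' : Over (Spec (CommRingCat.of k))) (t : T' ⟶ T) (g : T' ⟶ G),
        ∃ e : T' ⟶ Γ, e ≫ i = g * (t ≫ (x⁻¹ * y)) * g⁻¹ := by
    intro T x y hx hy T' t g
    obtain ⟨e₁, he₁⟩ := hx T' t g
    obtain ⟨e₂, he₂⟩ := hy T' t g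
    refine ⟨e₁⁻¹ * e₂, ?_⟩
    rw [MonObj.mul_comp, GrpObj.inv_comp, he₁, he₂, MonObj.comp_mul, GrpObj.comp_inv]
    group
  obtain ⟨strN, hmonN⟩ := Groth.Agent.Lib.Helper14.WeilField.exists_grpObj_of_pred n
    (fun T x => ∀ (T' : Over (Spec (CommRingCat.of k))) (t : T' ⟶ T) (g : T' ⟶ G),
      ∃ e : T' ⟶ Γ, e ≫ i = g * (t ≫ x) * g⁻¹) hN' hone hdiv
  obtain ⟨f', hf'⟩ := hf
  have hfac : ∃ f'' : A ⊗ B ⟶ N, f'' ≫ n =
      (((fst A B) ≫ a) * ((snd A B) ≫ b) * ((fst A B) ≫ a)⁻¹ * ((snd A B) ≫ b)⁻¹) := by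
    refine (hN' _ _).mpr ?_
    intro T' t g
    obtain ⟨a'', ha''⟩ := hA T' g (t ≫ fst A B)
    obtain ⟨b'', hb''⟩ := hB T' g (t ≫ snd A B)
    refine ⟨lift a'' b'' ≫ f', ?_⟩
    rw [Category.assoc, hf']
    simp only [MonObj.comp_mul, GrpObj.comp_inv, lift_fst_assoc, lift_snd_assoc]
    rw [← ha'', ← hb'']
    simp only [Category.assoc]
    group
  obtain ⟨j, hj⟩ := hmin N strN n hmonN hcl hfac
  intro T g x
  obtain ⟨e, he⟩ := (hN' T (x ≫ i)).mp ⟨x ≫ j, by rw [Category.assoc, hj]⟩ T (𝟙 T) g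
  exact ⟨e, by rw [he, Category.id_comp]⟩

end Groth.Agent.S5364
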