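import Groth.Statements.S5365
import Groth.Agent.Lib.Helper14.WeilField2
import Groth.Agent.Lib.Helper14.HomImage2
import Groth.Agent.S5344
import Groth.Agent.S5345
import Groth.Agent.S5342

set_option autoImplicit false
universe u
open CategoryTheory CategoryTheory.Limits MonoidalCategory CartesianMonoidalCategory MonObj GrpObj AlgebraicGeometry
open SGA3

namespace Groth.Agent.S5365

/-- Let G be a group scheme locally of finite type over a field k, a : A → G and b : B → G two closed
subgroup schemes which are geometrically reduced over k, and i : Γ → G the commutator subgroup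
scheme (A, B), the smallest closed subgroup scheme through which (x, y) ↦ a(x) b(y) a(x)⁻¹ b(y)⁻¹
factors. Suppose either (a) A and B are normal in G and of finite type over k, or (b) A is connected
and B is of finite type over k. Then Γ is of finite type over k, and in case (b) Γ is connected.
(The published statement also asserts that this subgroup represents the fppf sheaf generated by
commutators and describes its neutral component; this row states only the finiteness and
connectedness assertions.) -/
theorem result (k : Type u) [Field k] (G A B : Over (Spec (CommRingCat.of k))) [GrpObj G] [GrpObj A] [GrpObj B]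
    [LocallyOfFiniteType G.hom]
    (a : A ⟶ G) [IsMonHom a] [IsClosedImmersion a.left] (b : B ⟶ G) [IsMonHom b] [IsClosedImmersion b.left]
    [GeometricallyReduced A.hom] [GeometricallyReduced B.hom] [QuasiCompact B.hom]
    (hcase : (AlgGrp.IsNormalHom a ∧ AlgGrp.IsNormalHom b ∧ QuasiCompact A.hom) ∨ ConnectedSpace A.left)
    (Γ : Over (Spec (CommRingCat.of k))) [GrpObj Γ] (i : Γ ⟶ G) [IsMonHom i] [IsClosedImmersion i.left]
    (hf : ∃ f' : A ⊗ B ⟶ Γ, f' ≫ i = (((fst A B) ≫ a) * ((snd A B) ≫ b) * ((fst A B) ≫ a)⁻¹ * ((snd A B) ≫ b)⁻¹))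
    (hmin : ∀ (Γ' : Over (Spec (CommRingCat.of k))) (_ : GrpObj Γ') (i' : Γ' ⟶ G), IsMonHom i' → IsClosedImmersion i'.left →
        (∃ f'' : A ⊗ B ⟶ Γ', f'' ≫ i' = (((fst A B) ≫ a) * ((snd A B) ≫ b) * ((fst A B) ≫ a)⁻¹ * ((snd A B) ≫ b)⁻¹)) → ∃ j : Γ ⟶ Γ', j ≫ i' = i) :
    QuasiCompact Γ.hom ∧ (ConnectedSpace A.left → ConnectedSpace Γ.left) := by
  classical
  obtain ⟨f', hf'⟩ := hf
  haveI : Mono i := (Over.forget _).mono_of_mono_map (inferInstanceAs (Mono i.left))
  haveI : LocallyOfFiniteType Γ.hom := by
    rw [← Over.w i]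
    infer_instance
  haveI : Unique ↥(Spec (CommRingCat.of k)) := inferInstanceAs (Unique (PrimeSpectrum k))
  haveI : Subsingleton ↥(𝟙_ (Over (Spec (CommRingCat.of k)))).left :=
    inferInstanceAs (Subsingleton (PrimeSpectrum k))
  -- Part 1: connectedness
  have hconn : ConnectedSpace A.left → ConnectedSpace Γ.left := by
    intro hA'
    haveI := hA'
    obtain ⟨pt, hpt⟩ : ∃ pt : ↥(𝟙_ (Over (Spec (CommRingCat.of k)))).left,
        pt = (default : ↥(Spec (CommRingCat.of k))) := ⟨_, rfl⟩
    obtain ⟨e, he⟩ : ∃ e : Γ.left, e = η[Γ].left.base pt := ⟨_, rfl⟩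
    obtain ⟨hopen, hsub, -⟩ := Groth.Agent.S5344.result k Γ pt
    rw [← he] at hopen hsub
    have hrange : ∀ z : (A ⊗ B).left, f'.left.base z ∈ connectedComponent e := by
      intro z
      obtain ⟨y, hy⟩ : ∃ y : B.left, y = (snd A B).left.base z := ⟨_, rfl⟩
      let Ty : Over (Spec (CommRingCat.of k)) := Over.mk (B.left.fromSpecResidueField y ≫ B.hom)
      let yb : Ty ⟶ B := Over.homMk (B.left.fromSpecResidueField y) rfl
      haveI : ConnectedSpace Ty.left :=
        inferInstanceAs (ConnectedSpace ↥(Spec (B.left.residueField y)))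
      haveI : ConnectedSpace (A ⊗ Ty).left :=
        Groth.Agent.S5342.result k A.left Ty.left A.hom Ty.hom η[A].left (Over.w η[A])
      have sq : IsPullback (A ◁ yb).left (snd A Ty).left (snd A B).left yb.left := by
        have h := (Groth.Agent.Lib.Helper14.HomImage.isPullback_whiskerLeft' A yb).map
          (Over.forget _)
        simpa using h
      obtain ⟨t₀, ht₀⟩ : ∃ t₀ : Ty.left, yb.left.base t₀ = y := by
        have h1 : y ∈ Set.range (B.left.fromSpecResidueField y).base := by
          rw [Scheme.range_fromSpecResidueField]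
          rfl
        exact h1
      obtain ⟨w, hw1, -⟩ := AlgebraicGeometry.Scheme.exists_preimage_of_isPullback sq z t₀
        (by rw [ht₀, hy])
      obtain ⟨s₀, hs₀⟩ : ∃ s₀ : Ty ⟶ A ⊗ Ty, s₀ = lift (toUnit Ty ≫ η[A]) (𝟙 Ty) := ⟨_, rfl⟩
      have hs₀' : s₀ ≫ (A ◁ yb) ≫ f' = toUnit Ty ≫ η[Γ] := by
        rw [← cancel_mono i]
        simp only [Category.assoc]
        rw [hf', IsMonHom.one_hom]
        have h2 : s₀ ≫ (A ◁ yb) = lift (toUnit Ty ≫ η[A]) yb := by
          rw [hs₀, lift_whiskerLeft, Category.id_comp]
        rw [← Category.assoc, h2]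
        simp only [MonObj.comp_mul, GrpObj.comp_inv, lift_fst_assoc, lift_snd_assoc]
        have h3 : (toUnit Ty ≫ η[A]) ≫ a = 1 := by
          rw [Category.assoc, IsMonHom.one_hom, ← Hom.one_def]
        rw [h3, ← Hom.one_def]
        group
      have hpre : _root_.IsPreconnected (Set.range ((A ◁ yb) ≫ f').left.base) :=
        isPreconnected_range ((A ◁ yb) ≫ f').left.base.hom.continuous
      refine hpre.subset_connectedComponent ?_ ⟨w, ?_⟩
      · refine ⟨s₀.left.base t₀, ?_⟩
        have h4 := congrArg (fun φ : Ty ⟶ Γ => φ.left.base t₀) hs₀'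
        have h5 : (toUnit Ty).left.base t₀ = pt := Subsingleton.elim _ _
        rw [he, ← h5]
        exact h4
      · rw [← hw1]
        rfl
    -- the neutral component as an open and closed subgroup
    let U : Γ.left.Opens := ⟨connectedComponent e, hopen⟩
    let Γ0 : Over (Spec (CommRingCat.of k)) := Over.mk (U.ι ≫ Γ.hom)
    let u : Γ0 ⟶ Γ := Over.homMk U.ι rfl
    haveI : IsOpenImmersion u.left := inferInstanceAs (IsOpenImmersion U.ι)
    have hUrange : Set.range u.left.base = connectedComponent e := by
      change Set.range U.ι.base = _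
      rw [Scheme.Opens.range_ι]
      rfl
    haveI : IsClosedImmersion u.left := IsClosedImmersion.of_isPreimmersion _ (by
      rw [hUrange]
      exact isClosed_connectedComponent)
    haveI : Mono u := (Over.forget _).mono_of_mono_map (inferInstanceAs (Mono u.left))
    have hpts : ∀ (T : Over (Spec (CommRingCat.of k))) (x : T ⟶ Γ),
        (∃ z : T ⟶ Γ0, z ≫ u = x) ↔ Set.range x.left.base ⊆ connectedComponent e := by
      intro T x
      constructor
      · rintro ⟨z, rfl⟩
        rintro _ ⟨t, rfl⟩
        rw [← hUrange]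
        exact ⟨z.left.base t, rfl⟩
      · intro h
        have hr : Set.range x.left.base ⊆ Set.range U.ι.base := by
          rw [Scheme.Opens.range_ι]
          exact h
        refine ⟨Over.homMk (IsOpenImmersion.lift U.ι x.left hr) ?_, ?_⟩
        · change IsOpenImmersion.lift U.ι x.left hr ≫ U.ι ≫ Γ.hom = T.hom
          rw [← Category.assoc, IsOpenImmersion.lift_fac, Over.w x]
        · ext1
          exact IsOpenImmersion.lift_fac _ _ _
    have hone' : ∀ T : Over (Spec (CommRingCat.of k)),
        Set.range (1 : T ⟶ Γ).left.base ⊆ connectedComponent e := by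
      intro T
      rintro _ ⟨t, rfl⟩
      have h5 : (toUnit T).left.base t = pt := Subsingleton.elim _ _
      have h6 : (1 : T ⟶ Γ).left.base t = η[Γ].left.base ((toUnit T).left.base t) := rfl
      rw [h6, h5, ← he]
      exact mem_connectedComponent
    have hone : Set.range (η[Γ]).left.base ⊆ connectedComponent e := by
      rintro _ ⟨t, rfl⟩
      have h5 : t = pt := Subsingleton.elim _ _
      rw [h5, ← he]
      exact mem_connectedComponent
    have hdiv : ∀ (T : Over (Spec (CommRingCat.of k))) (x y : T ⟶ Γ),
        Set.range x.left.base ⊆ connectedComponent e →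
        Set.range y.left.base ⊆ connectedComponent e →
        Set.range (x⁻¹ * y).left.base ⊆ connectedComponent e := by
      intro T x y hx hy
      have hinv : ∀ z : T ⟶ Γ, Set.range z.left.base ⊆ connectedComponent e →
          Set.range (z⁻¹).left.base ⊆ connectedComponent e := by
        intro z hz
        have := hsub T 1 z (hone' T) hz
        rwa [_root_.one_mul] at this
      have := hsub T x⁻¹ y⁻¹ (hinv x hx) (hinv y hy)
      rwa [_root_.inv_inv] at this
    obtain ⟨str0, hmon0⟩ := Groth.Agent.Lib.Helper14.WeilField.exists_grpObj_of_pred u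
      (fun T x => Set.range x.left.base ⊆ connectedComponent e) hpts hone hdiv
    have hmon0' : @IsMonHom _ _ _ _ _ str0.toMonObj _ (u ≫ i) := by
      letI := str0
      haveI := hmon0
      infer_instance
    haveI : IsClosedImmersion (u ≫ i).left :=
      inferInstanceAs (IsClosedImmersion (u.left ≫ i.left))
    obtain ⟨f₀, hf₀⟩ := (hpts _ f').mpr (by
      rintro _ ⟨z, rfl⟩
      exact hrange z)
    obtain ⟨j, hj⟩ := hmin Γ0 str0 (u ≫ i) hmon0' inferInstance
      ⟨f₀, by rw [← Category.assoc, hf₀, hf']⟩
    have hju : j ≫ u = 𝟙 Γ := by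
      rw [← cancel_mono i, Category.assoc, hj, Category.id_comp]
    have huniv : connectedComponent e = Set.univ := by
      refine Set.eq_univ_of_forall fun x => ?_
      rw [← hUrange]
      refine ⟨j.left.base x, ?_⟩
      have := congrArg (fun φ : Γ ⟶ Γ => φ.left.base x) hju
      exact this
    exact connectedSpace_iff_connectedComponent.mpr ⟨e, huniv⟩
  refine ⟨?_, hconn⟩
  rcases hcase with ⟨hAn, -, hAqc⟩ | hAc
  · haveI := hAqc
    have hfacA : ∃ f'' : A ⊗ B ⟶ A, f'' ≫ a =
        (((fst A B) ≫ a) * ((snd A B) ≫ b) * ((fst A B) ≫ a)⁻¹ * ((snd A B) ≫ b)⁻¹) := by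
      obtain ⟨n', hn'⟩ := hAn (A ⊗ B) (snd A B ≫ b) ((fst A B)⁻¹)
      refine ⟨fst A B * n', ?_⟩
      rw [MonObj.mul_comp, ← hn', GrpObj.inv_comp]
      group
    obtain ⟨j, hj⟩ := hmin A inferInstance a inferInstance inferInstance hfacA
    haveI : IsClosedImmersion (j.left ≫ a.left) := by
      rw [← Over.comp_left, hj]
      infer_instance
    haveI : IsClosedImmersion j.left := IsClosedImmersion.of_comp j.left a.left
    rw [← Over.w j]
    infer_instance
  · haveI := hconn hAc
    have hcomp := Groth.Agent.S5345.result k Γ (η[Γ].left.base (default : ↥(Spec (CommRingCat.of k))))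
    rw [PreconnectedSpace.connectedComponent_eq_univ] at hcomp
    haveI : CompactSpace Γ.left := ⟨hcomp⟩
    exact (HasAffineProperty.iff_of_isAffine (P := @QuasiCompact) (f := Γ.hom)).mpr inferInstance

end Groth.Agent.S5365
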