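import Groth.Statements.S5366
import Groth.Agent.Lib.Helper14.GrpLaws2
import Groth.Agent.Lib.Helper14.KPtsDense
import Groth.Agent.Lib.Helper14.SepGrpField2

set_option autoImplicit false
universe u
open CategoryTheory CategoryTheory.Limits MonoidalCategory CartesianMonoidalCategory MonObj GrpObj AlgebraicGeometry
open SGA3

namespace Groth.Agent.S5366

/-- (i) ⟺ (iii): let G be a smooth group scheme of finite type over a field k, Ω an algebraically closed
extension field of k and n a natural number. Then G is solvable of class n (the n-th term of the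
derived series of the group G(T) is trivial for every k-scheme T) if and only if the n-th term of
the derived series of the group of Ω-points G(Ω) is trivial; and G is nilpotent of class n (the n-th
term of the lower central series of G(T) is trivial for every T) if and only if the n-th term of the
lower central series of G(Ω) is trivial. -/
theorem result (k : Type u) [Field k] (G : Over (Spec (CommRingCat.of k))) [GrpObj G]
    [Smooth G.hom] [QuasiCompact G.hom] (Ω : Type u) [Field Ω] [Algebra k Ω] [IsAlgClosed Ω] (n : ℕ) :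
    ((∀ T : Over (Spec (CommRingCat.of k)), derivedSeries (T ⟶ G) n = ⊥) ↔ derivedSeries ((Over.mk (Spec.map (CommRingCat.ofHom (algebraMap k Ω))) : Over (Spec (CommRingCat.of k))) ⟶ G) n = ⊥) ∧
    ((∀ T : Over (Spec (CommRingCat.of k)), Subgroup.lowerCentralSeries (⊤ : Subgroup (T ⟶ G)) n = ⊥) ↔ Subgroup.lowerCentralSeries (⊤ : Subgroup (((Over.mk (Spec.map (CommRingCat.ofHom (algebraMap k Ω))) : Over (Spec (CommRingCat.of k))) ⟶ G))) n = ⊥) := by
  haveI : IsSeparated G.hom := Groth.Agent.Lib.Helper14.SepGrpField2.isSeparated_of_grpObj' G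
  have key : ∀ (W : Over (Spec (CommRingCat.of k))) (δ : W ⟶ G), Smooth W.hom →
      (∀ w : Groth.Agent.Lib.Helper14.KPtsDense.ptK (k := k) Ω ⟶ W, w ≫ δ = 1) → δ = 1 := by
    intro W δ hW h
    haveI := hW
    haveI : IsReduced W.left := Groth.Agent.H1.SmoothReduced.isReduced_of_smooth W.hom
    haveI : LocallyOfFiniteType W.hom := inferInstance
    refine Groth.Agent.Lib.Helper14.KPtsDense.eq_of_kpts
      (Groth.Agent.Lib.Helper14.KPtsDense.denseKPts_of_locallyOfFiniteType Ω W) δ 1 (fun w => ?_)
    rw [h w, MonObj.comp_one]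
  have hsm : ∀ W W' : Over (Spec (CommRingCat.of k)), Smooth W.hom → Smooth W'.hom →
      Smooth (W ⊗ W').hom := by
    intro W W' h h'
    haveI := h
    haveI := h'
    exact Groth.Agent.Lib.Helper14.KPtsDense.smooth_tensor W W'
  constructor
  · constructor
    · intro h
      exact h _
    · intro h T
      rw [Groth.Agent.Lib.Helper14.GrpLaws.derivedSeries_eq_bot_iff] at h ⊢
      obtain ⟨W, δ, hW, hδ⟩ := Groth.Agent.Lib.Helper14.GrpLaws.exists_dword (G := G)
        (fun W => Smooth W.hom) inferInstance hsm n
      have hδ1 : δ = 1 := key W δ hW (fun w => by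
        have h1 : w ≫ δ ∈ Groth.Agent.Lib.Helper14.GrpLaws.dset
            (Groth.Agent.Lib.Helper14.KPtsDense.ptK (k := k) Ω ⟶ G) n := by
          rw [hδ]
          exact ⟨w, rfl⟩
        exact Set.mem_singleton_iff.mp (h h1))
      rw [hδ T, hδ1]
      rintro _ ⟨w, rfl⟩
      exact MonObj.comp_one w
  · constructor
    · intro h
      exact h _
    · intro h T
      rw [Groth.Agent.Lib.Helper14.GrpLaws.lowerCentralSeries_eq_bot_iff] at h ⊢
      obtain ⟨W, δ, hW, hδ⟩ := Groth.Agent.Lib.Helper14.GrpLaws.exists_lword (G := G)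
        (fun W => Smooth W.hom) inferInstance hsm n
      have hδ1 : δ = 1 := key W δ hW (fun w => by
        have h1 : w ≫ δ ∈ Groth.Agent.Lib.Helper14.GrpLaws.lset
            (Groth.Agent.Lib.Helper14.KPtsDense.ptK (k := k) Ω ⟶ G) n := by
          rw [hδ]
          exact ⟨w, rfl⟩
        exact Set.mem_singleton_iff.mp (h h1))
      rw [hδ T, hδ1]
      rintro _ ⟨w, rfl⟩
      exact MonObj.comp_one w

end Groth.Agent.S5366
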