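import Groth.Statements.S5375
import Mathlib
import Groth.Agent.Lib.Helper15.HopfSub

set_option autoImplicit false
universe u
open CategoryTheory CategoryTheory.Limits MonoidalCategory CartesianMonoidalCategory MonObj GrpObj AlgebraicGeometry
open SGA3

namespace Groth.Agent.S5375

/-- Let A be a commutative Hopf algebra over a field k (an affine k-group, not necessarily of finite
type) and x an element of A. Then there is a subalgebra B of A of finite type over k containing x
which is a sub-Hopf-algebra: the comultiplication sends B into B ⊗ B and the antipode preserves B. -/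
theorem result (k : Type u) [Field k] (A : Type u) [CommRing A] [HopfAlgebra k A] (x : A) :
    ∃ B : Subalgebra k A, x ∈ B ∧ B.FG ∧ SGA3.IsHopfSubalgebra k A B := by
  classical
  obtain ⟨U, hUfg, hxU, hU⟩ := Groth.Agent.Lib.helper15.HopfSub.exists_fg_subcoalgebra (k := k) x
  set S : A →ₗ[k] A := HopfAlgebra.antipode k with hS
  set U' : Submodule k A := U ⊔ U.map S with hU'
  have hU'fg : U'.FG := hUfg.sup (hUfg.map S)
  have hSU' : ∀ u ∈ U', S u ∈ U' := by
    suffices h : U' ≤ U'.comap S from fun u hu => h hu
    refine sup_le ?_ ?_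
    · intro u hu
      exact Submodule.mem_sup_right (Submodule.mem_map_of_mem hu)
    · rintro _ ⟨u, hu, rfl⟩
      simp only [Submodule.mem_comap]
      rw [hS, Groth.Agent.Lib.helper15.HopfSub.antipode_antipode]
      exact Submodule.mem_sup_left hu
  have hΔU' : ∀ u ∈ U', Coalgebra.comul (R := k) u ∈ Groth.Agent.Lib.helper15.HopfSub.T U' U' := by
    suffices h : U' ≤ (Groth.Agent.Lib.helper15.HopfSub.T U' U').comap (Coalgebra.comul (R := k)) from
      fun u hu => h hu
    refine sup_le ?_ ?_
    · intro u hu
      exact Groth.Agent.Lib.helper15.HopfSub.T_mono le_sup_left le_sup_left (hU u hu)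
    · rintro _ ⟨u, hu, rfl⟩
      simp only [Submodule.mem_comap]
      rw [hS, Groth.Agent.Lib.helper15.HopfSub.comul_antipode]
      suffices h : Groth.Agent.Lib.helper15.HopfSub.T U U ≤
          (Groth.Agent.Lib.helper15.HopfSub.T U' U').comap
            (TensorProduct.map S S ∘ₗ (TensorProduct.comm k A A).toLinearMap) from h (hU u hu)
      refine Groth.Agent.Lib.helper15.HopfSub.T_le fun a ha b hb => ?_
      simp only [Submodule.mem_comap, LinearMap.comp_apply, LinearEquiv.coe_coe,
        TensorProduct.comm_tmul, TensorProduct.map_tmul]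
      exact Groth.Agent.Lib.helper15.HopfSub.tmul_mem_T
        (Submodule.mem_sup_right (Submodule.mem_map_of_mem hb))
        (Submodule.mem_sup_right (Submodule.mem_map_of_mem ha))
  obtain ⟨F, hF⟩ := hU'fg
  refine ⟨Algebra.adjoin k (U' : Set A), ?_, ?_, ?_, ?_⟩
  · exact Algebra.subset_adjoin (Submodule.mem_sup_left hxU)
  · rw [← hF, Algebra.adjoin_span]
    exact Subalgebra.fg_adjoin_finset F
  · intro b hb
    set B := Algebra.adjoin k (U' : Set A) with hB
    have hle : B ≤ (Algebra.TensorProduct.map B.val B.val).range.comap (Bialgebra.comulAlgHom k A) := by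
      refine Algebra.adjoin_le fun u hu => ?_
      have h1 := hΔU' u hu
      have h2 : Groth.Agent.Lib.helper15.HopfSub.T U' U' ≤
          LinearMap.range (TensorProduct.map B.val.toLinearMap B.val.toLinearMap) := by
        refine Groth.Agent.Lib.helper15.HopfSub.T_le fun a ha b hb => ?_
        exact ⟨(⟨a, Algebra.subset_adjoin ha⟩ : B) ⊗ₜ[k] (⟨b, Algebra.subset_adjoin hb⟩ : B), by simp⟩
      obtain ⟨t, ht⟩ := h2 h1
      exact ⟨t, ht⟩
    obtain ⟨t, ht⟩ := hle hb
    exact ⟨t, ht⟩
  · intro b hb
    have hle : Algebra.adjoin k (U' : Set A) ≤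
        (Algebra.adjoin k (U' : Set A)).comap (HopfAlgebra.antipodeAlgHom k A) :=
      Algebra.adjoin_le fun u hu => Algebra.subset_adjoin (hSU' u hu)
    exact hle hb

end Groth.Agent.S5375
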