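import Groth.Statements.S5376
import Mathlib
import Groth.Agent.Lib.Helper15.ComodFin

set_option autoImplicit false
universe u
open CategoryTheory CategoryTheory.Limits MonoidalCategory CartesianMonoidalCategory MonObj GrpObj AlgebraicGeometry
open SGA3

namespace Groth.Agent.S5376

/-- Let k be an algebraically closed field, A a finitely generated commutative Hopf algebra over k which
is reduced (a reduced affine algebraic k-group G), V a finite-dimensional A-comodule and v a vector
of V. Let E be the k-subspace of V spanned by the vectors g·v for g running over the k-points of G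
(algebra maps A → k). Then E is a subcomodule of V containing v, and it is the smallest one. -/
theorem result (k : Type u) [Field k] [IsAlgClosed k] (A : Type u) [CommRing A] [HopfAlgebra k A]
    [Algebra.FiniteType k A] [IsReduced A] (V : Type u) [AddCommGroup V] [Module k V] [HopfRep.Comod k A V]
    [Module.Finite k V] (v : V) :
    letI E : Submodule k V := Submodule.span k (Set.range fun g : A →ₐ[k] k => HopfRep.Comod.act k A V g v)
    HopfRep.IsSubcomod (k := k) (A := A) E ∧ v ∈ E ∧
      ∀ W : Submodule k V, HopfRep.IsSubcomod (k := k) (A := A) W → v ∈ W → E ≤ W := by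
  classical
  set E : Submodule k V := Submodule.span k (Set.range fun g : A →ₐ[k] k => HopfRep.Comod.act k A V g v) with hEdef
  have hact : ∀ g : A →ₐ[k] k, HopfRep.Comod.act k A V g v =
      Groth.Agent.Lib.helper15.ComodFin.slV g.toLinearMap
        (HopfRep.Comod.coact (k := k) (A := A) v) := fun g => rfl
  have hEle : E ≤ Groth.Agent.Lib.helper15.ComodFin.RCV (k := k) (A := A) v := by
    refine Submodule.span_le.mpr ?_
    rintro _ ⟨g, rfl⟩
    exact Submodule.subset_span ⟨g.toLinearMap, (hact g).symm⟩
  -- the key duality identity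
  have hdual : ∀ (φ : V →ₗ[k] k) (f : Module.Dual k A) (t : TensorProduct k V A),
      φ (Groth.Agent.Lib.helper15.ComodFin.slV f t) =
        f ((TensorProduct.lid k A) (φ.rTensor A t)) := by
    intro φ f t
    induction t with
    | zero => simp
    | tmul w a => simp [mul_comm]
    | add x y hx hy => simp only [map_add, hx, hy]
  have hle : Groth.Agent.Lib.helper15.ComodFin.RCV (k := k) (A := A) v ≤ E := by
    by_contra hnot
    obtain ⟨w, hw, hwE⟩ := SetLike.not_le_iff_exists.mp hnot
    obtain ⟨φ, hφw, hφE⟩ := Submodule.exists_le_ker_of_notMem hwE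
    set a : A := (TensorProduct.lid k A) (φ.rTensor A (HopfRep.Comod.coact (k := k) (A := A) v)) with ha
    have ha0 : a = 0 := by
      refine Groth.Agent.Lib.helper15.ComodFin.eq_zero_of_forall_point k A a fun g => ?_
      have h1 := hdual φ g.toLinearMap (HopfRep.Comod.coact (k := k) (A := A) v)
      have h2 : φ (HopfRep.Comod.act k A V g v) = 0 :=
        hφE (Submodule.subset_span ⟨g, rfl⟩)
      rw [hact g] at h2
      rw [h2] at h1
      exact h1.symm
    have hRC : Groth.Agent.Lib.helper15.ComodFin.RCV (k := k) (A := A) v ≤ LinearMap.ker φ := by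
      refine Submodule.span_le.mpr ?_
      rintro _ ⟨f, rfl⟩
      simp only [SetLike.mem_coe, LinearMap.mem_ker]
      rw [hdual, ← ha, ha0, map_zero]
    exact hφw (hRC hw)
  have hE : E = Groth.Agent.Lib.helper15.ComodFin.RCV (k := k) (A := A) v := le_antisymm hEle hle
  refine ⟨?_, ?_, ?_⟩
  · rw [hE]; exact Groth.Agent.Lib.helper15.ComodFin.RCV_isSubcomod v
  · rw [hE]; exact Groth.Agent.Lib.helper15.ComodFin.mem_RCV v
  · intro W hW hv
    rw [hE]; exact Groth.Agent.Lib.helper15.ComodFin.RCV_le v W hW hv

end Groth.Agent.S5376
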