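import Groth.Statements.S5377
import Mathlib

set_option autoImplicit false
universe u
open CategoryTheory CategoryTheory.Limits MonoidalCategory CartesianMonoidalCategory MonObj GrpObj AlgebraicGeometry
open SGA3

namespace Groth.Agent.S5377

theorem ringHom_flat_iff {R S : Type*} [CommRing R] [CommRing S] (f : R →+* S) :
    f.Flat ↔ ∀ (l : ℕ) (c : Fin l → R) (x : Fin l → S), ∑ i, f (c i) * x i = 0 →
      ∃ (k : ℕ) (a : Fin l → Fin k → R) (y : Fin k → S),
        (∀ i, x i = ∑ j, f (a i j) * y j) ∧ ∀ j, ∑ i, c i * a i j = 0 := by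
  letI := f.toAlgebra
  show Module.Flat R S ↔ _
  rw [Module.Flat.iff_forall_isTrivialRelation]
  constructor
  · intro h l c x hx
    exact @h l c x hx
  · intro h l c x hx
    exact h l c x hx

theorem eq_top_of_map_eq_top {R S : Type*} [CommRing R] [CommRing S] (f : R →+* S)
    (hf : f.FaithfullyFlat) (I : Ideal R) (h : Ideal.map f I = ⊤) : I = ⊤ := by
  letI := f.toAlgebra
  haveI : Module.FaithfullyFlat R S := hf
  have h1 := Ideal.comap_map_eq_self_of_faithfullyFlat (A := R) (B := S) I
  have h2 : algebraMap R S = f := RingHom.algebraMap_toAlgebra f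
  rw [h2, h, Ideal.comap_top] at h1
  exact h1.symm

theorem faithfullyFlat_of {R S : Type*} [CommRing R] [CommRing S] (f : R →+* S)
    (hflat : f.Flat) (h : ∀ m : Ideal R, m.IsMaximal → Ideal.map f m ≠ ⊤) :
    f.FaithfullyFlat := by
  letI := f.toAlgebra
  show Module.FaithfullyFlat R S
  haveI : Module.Flat R S := hflat
  refine ⟨fun m hm htop => h m hm ?_⟩
  rw [Ideal.smul_top_eq_map] at htop
  have h2 : algebraMap R S = f := RingHom.algebraMap_toAlgebra f
  rw [h2] at htop
  rw [Ideal.eq_top_iff_one]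
  have h1 : (1 : S) ∈ Submodule.restrictScalars R (Ideal.map f m) := by
    rw [htop]
    exact Submodule.mem_top
  exact h1

theorem exists_rep {J : Type u} [SmallCategory J] [IsFiltered J] (F : J ⥤ CommRingCat.{u})
    (x : (colimit F : CommRingCat)) :
    ∃ (j : J) (y : F.obj j), (colimit.ι F j).hom y = x :=
  Concrete.colimit_exists_rep F x

theorem rep_eq {J : Type u} [SmallCategory J] [IsFiltered J] (F : J ⥤ CommRingCat.{u})
    {i j : J} (x : F.obj i) (y : F.obj j)
    (h : (colimit.ι F i).hom x = (colimit.ι F j).hom y) :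
    ∃ (k : J) (f : i ⟶ k) (g : j ⟶ k), (F.map f).hom x = (F.map g).hom y :=
  (Concrete.colimit_rep_eq_iff_exists F x y).mp h

theorem exists_common_rep {J : Type u} [SmallCategory J] [IsFiltered J]
    (F : J ⥤ CommRingCat.{u}) (j0 : J) {l : ℕ} (x : Fin l → (colimit F : CommRingCat)) :
    ∃ (j : J) (_ : j0 ⟶ j) (y : Fin l → F.obj j), ∀ i, (colimit.ι F j).hom (y i) = x i := by
  classical
  choose js ys hys using fun i => exists_rep F (x i)
  obtain ⟨S, hS⟩ := IsFiltered.sup_objs_exists (insert j0 (Finset.univ.image js))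
  have t0 : Nonempty (j0 ⟶ S) := hS (Finset.mem_insert_self _ _)
  have ts : ∀ i, Nonempty (js i ⟶ S) := fun i =>
    hS (Finset.mem_insert_of_mem (Finset.mem_image_of_mem js (Finset.mem_univ i)))
  refine ⟨S, t0.some, fun i => (F.map (ts i).some).hom (ys i), fun i => ?_⟩
  rw [← hys i]
  have h1 : (F.map (ts i).some ≫ colimit.ι F S).hom (ys i) =
      (colimit.ι F (js i)).hom (ys i) := by rw [colimit.w]
  rw [CommRingCat.hom_comp, RingHom.comp_apply] at h1
  exact h1


/-- Let (C_i → A_i)_i be a filtered direct system of homomorphisms of commutative rings, each of which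
is faithfully flat. Then the induced homomorphism colim C_i → colim A_i is faithfully flat. -/
theorem result (J : Type u) [SmallCategory J] [IsFiltered J]
    (C A : J ⥤ CommRingCat.{u}) (φ : C ⟶ A) (h : ∀ j : J, (φ.app j).hom.FaithfullyFlat) :
    (colimMap φ).hom.FaithfullyFlat := by
  classical
  obtain ⟨Φ, hΦ⟩ : ∃ Φ : (colimit C : CommRingCat) →+* (colimit A : CommRingCat),
      Φ = (colimMap φ).hom := ⟨_, rfl⟩
  rw [← hΦ]
  have h1 : ∀ (j : J) (x : C.obj j),
      Φ ((colimit.ι C j).hom x) = (colimit.ι A j).hom ((φ.app j).hom x) := by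
    intro j x
    rw [hΦ]
    have h2 : (colimit.ι C j ≫ colimMap φ).hom x = (φ.app j ≫ colimit.ι A j).hom x := by
      rw [ι_colimMap]
    rw [CommRingCat.hom_comp, CommRingCat.hom_comp, RingHom.comp_apply,
      RingHom.comp_apply] at h2
    exact h2
  have hwA : ∀ {i j : J} (t : i ⟶ j) (x : A.obj i),
      (colimit.ι A j).hom ((A.map t).hom x) = (colimit.ι A i).hom x := by
    intro i j t x
    have h2 : (A.map t ≫ colimit.ι A j).hom x = (colimit.ι A i).hom x := by rw [colimit.w]
    rw [CommRingCat.hom_comp, RingHom.comp_apply] at h2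
    exact h2
  have hwC : ∀ {i j : J} (t : i ⟶ j) (x : C.obj i),
      (colimit.ι C j).hom ((C.map t).hom x) = (colimit.ι C i).hom x := by
    intro i j t x
    have h2 : (C.map t ≫ colimit.ι C j).hom x = (colimit.ι C i).hom x := by rw [colimit.w]
    rw [CommRingCat.hom_comp, RingHom.comp_apply] at h2
    exact h2
  have hnat : ∀ {i j : J} (t : i ⟶ j) (x : C.obj i),
      (φ.app j).hom ((C.map t).hom x) = (A.map t).hom ((φ.app i).hom x) := by
    intro i j t x
    have h2 : (C.map t ≫ φ.app j).hom x = (φ.app i ≫ A.map t).hom x := by rw [φ.naturality]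
    rw [CommRingCat.hom_comp, CommRingCat.hom_comp, RingHom.comp_apply,
      RingHom.comp_apply] at h2
    exact h2
  have hflat : Φ.Flat := by
    rw [ringHom_flat_iff]
    intro l c x hx
    obtain ⟨j1, _, c', hc'⟩ := exists_common_rep C (IsFiltered.nonempty (C := J)).some c
    obtain ⟨j2, t12, x', hx'⟩ := exists_common_rep A j1 x
    obtain ⟨c2, hc2def⟩ : ∃ c2 : Fin l → C.obj j2, c2 = fun i => (C.map t12).hom (c' i) :=
      ⟨_, rfl⟩
    have hc2 : ∀ i, (colimit.ι C j2).hom (c2 i) = c i := by
      intro i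
      rw [hc2def]
      show (colimit.ι C j2).hom ((C.map t12).hom (c' i)) = c i
      rw [hwC t12, hc' i]
    have hrel : (colimit.ι A j2).hom (∑ i, (φ.app j2).hom (c2 i) * x' i) =
        (colimit.ι A j2).hom 0 := by
      rw [map_sum, map_zero]
      refine Eq.trans ?_ hx
      apply Finset.sum_congr rfl
      intro i _
      rw [map_mul, ← h1, hc2 i, hx' i]
    obtain ⟨k, f, g, hk⟩ := rep_eq A _ _ hrel
    rw [map_zero, map_sum] at hk
    obtain ⟨c3, hc3def⟩ : ∃ c3 : Fin l → C.obj k, c3 = fun i => (C.map f).hom (c2 i) :=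
      ⟨_, rfl⟩
    obtain ⟨x3, hx3def⟩ : ∃ x3 : Fin l → A.obj k, x3 = fun i => (A.map f).hom (x' i) :=
      ⟨_, rfl⟩
    have hc3 : ∀ i, (colimit.ι C k).hom (c3 i) = c i := by
      intro i
      rw [hc3def]
      show (colimit.ι C k).hom ((C.map f).hom (c2 i)) = c i
      rw [hwC f, hc2 i]
    have hrel3 : ∑ i, (φ.app k).hom (c3 i) * x3 i = 0 := by
      refine Eq.trans ?_ hk
      apply Finset.sum_congr rfl
      intro i _
      rw [hc3def, hx3def, map_mul]
      show (φ.app k).hom ((C.map f).hom (c2 i)) * (A.map f).hom (x' i) = _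
      rw [hnat f]
    obtain ⟨m, a, y, hxy, hca⟩ :=
      (ringHom_flat_iff (φ.app k).hom).mp (h k).flat l c3 x3 hrel3
    refine ⟨m, fun i j => (colimit.ι C k).hom (a i j), fun j => (colimit.ι A k).hom (y j),
      ?_, ?_⟩
    · intro i
      beta_reduce
      rw [← hx' i, ← hwA f (x' i)]
      have h5 : (A.map f).hom (x' i) = x3 i := by rw [hx3def]
      rw [h5, hxy i, map_sum]
      apply Finset.sum_congr rfl
      intro j _
      rw [map_mul, h1]
    · intro j
      beta_reduce
      have h5 := congrArg (colimit.ι C k).hom (hca j)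
      rw [map_sum, map_zero] at h5
      refine Eq.trans ?_ h5
      apply Finset.sum_congr rfl
      intro i _
      rw [map_mul, hc3 i]
  have hmax : ∀ m : Ideal (colimit C : CommRingCat), m.IsMaximal → Ideal.map Φ m ≠ ⊤ := by
    intro m hm htop
    obtain ⟨mj, hmj⟩ : ∃ mj : ∀ j, Ideal (C.obj j),
        ∀ j, mj j = Ideal.comap (colimit.ι C j).hom m := ⟨_, fun _ => rfl⟩
    have hmj_ne : ∀ j, mj j ≠ ⊤ := by
      intro j
      rw [hmj]
      exact Ideal.comap_ne_top _ hm.ne_top
    have htrans : ∀ {i k : J} (t : i ⟶ k) (x : A.obj i),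
        x ∈ Ideal.map (φ.app i).hom (mj i) →
        (A.map t).hom x ∈ Ideal.map (φ.app k).hom (mj k) := by
      intro i k t x hx
      have h2 : Ideal.map (A.map t).hom (Ideal.map (φ.app i).hom (mj i)) ≤
          Ideal.map (φ.app k).hom (mj k) := by
        rw [Ideal.map_map]
        have h3 : (A.map t).hom.comp (φ.app i).hom = (φ.app k).hom.comp (C.map t).hom := by
          ext z
          exact (hnat t z).symm
        rw [h3, ← Ideal.map_map]
        apply Ideal.map_mono
        rw [Ideal.map_le_iff_le_comap, hmj i, hmj k, Ideal.comap_comap]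
        intro z hz
        rw [Ideal.mem_comap] at hz ⊢
        rw [RingHom.comp_apply, hwC t]
        exact hz
      exact h2 (Ideal.mem_map_of_mem _ hx)
    have hP : ∀ x ∈ Ideal.map Φ m, ∃ (j : J) (x' : A.obj j),
        x' ∈ Ideal.map (φ.app j).hom (mj j) ∧ (colimit.ι A j).hom x' = x := by
      intro x hx
      refine Submodule.span_induction ?_ ?_ ?_ ?_ hx
      · rintro _ ⟨c, hc, rfl⟩
        obtain ⟨j, c', rfl⟩ := exists_rep C c
        refine ⟨j, (φ.app j).hom c', Ideal.mem_map_of_mem _ ?_, (h1 j c').symm⟩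
        rw [hmj]
        exact hc
      · exact ⟨(IsFiltered.nonempty (C := J)).some, 0, Ideal.zero_mem _, map_zero _⟩
      · rintro x y _ _ ⟨i, x', hx', rfl⟩ ⟨j, y', hy', rfl⟩
        refine ⟨IsFiltered.max i j, (A.map (IsFiltered.leftToMax i j)).hom x' +
          (A.map (IsFiltered.rightToMax i j)).hom y',
          Ideal.add_mem _ (htrans _ _ hx') (htrans _ _ hy'), ?_⟩
        rw [map_add, hwA, hwA]
      · rintro a x _ ⟨j, x', hx', rfl⟩
        obtain ⟨i, a', rfl⟩ := exists_rep A a
        refine ⟨IsFiltered.max i j, (A.map (IsFiltered.leftToMax i j)).hom a' *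
          (A.map (IsFiltered.rightToMax i j)).hom x',
          Ideal.mul_mem_left _ _ (htrans _ _ hx'), ?_⟩
        rw [smul_eq_mul, map_mul, hwA, hwA]
    have h1top : (1 : (colimit A : CommRingCat)) ∈ Ideal.map Φ m := by
      rw [htop]
      exact Submodule.mem_top
    obtain ⟨j, x', hx', hx1⟩ := hP 1 h1top
    have hx1' : (colimit.ι A j).hom x' = (colimit.ι A j).hom 1 := by rw [hx1, map_one]
    obtain ⟨k, f, g, hk⟩ := rep_eq A _ _ hx1'
    rw [map_one] at hk
    have hk1 : (1 : A.obj k) ∈ Ideal.map (φ.app k).hom (mj k) := by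
      rw [← hk]
      exact htrans f x' hx'
    have hktop : Ideal.map (φ.app k).hom (mj k) = ⊤ := (Ideal.eq_top_iff_one _).mpr hk1
    exact hmj_ne k (eq_top_of_map_eq_top _ (h k) _ hktop)
  exact faithfullyFlat_of Φ hflat hmax


end Groth.Agent.S5377
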