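import Groth.Statements.S5380
import Mathlib
import Groth.Agent.S0399
import Groth.Agent.Lib.Helper8.LocalFlat

set_option autoImplicit false
universe u
open CategoryTheory CategoryTheory.Limits MonoidalCategory CartesianMonoidalCategory MonObj GrpObj AlgebraicGeometry
open SGA3

namespace Groth.Agent.S5380

open TensorProduct Function Groth.Agent.Lib.helper8.LocalFlat


/-- Let R be a discrete valuation ring with uniformizer π, A a flat commutative R-algebra and M an
A-module which is flat over R. Suppose that M/πM is a flat module over A/πA and that M ⊗_R K is a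
flat module over A ⊗_R K, K the fraction field of R (equivalently, M[1/π] is flat over A[1/π], the
form used here). Then M is a flat A-module. -/
theorem result (R : Type u) [CommRing R] [IsDomain R] [IsDiscreteValuationRing R]
    (π : R) (hπ : Irreducible π) (A : Type u) [CommRing A] [Algebra R A] [Module.Flat R A]
    (M : Type u) [AddCommGroup M] [Module A M] [Module R M] [IsScalarTower R A M] [Module.Flat R M]
    (h1 : Module.Flat (A ⧸ Ideal.span {algebraMap R A π}) (M ⧸ (Ideal.span {algebraMap R A π} • (⊤ : Submodule A M))))
    (h2 : Module.Flat (Localization.Away (algebraMap R A π)) (LocalizedModule (Submonoid.powers (algebraMap R A π)) M)) :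
    Module.Flat A M := by
  have hπ0 : π ∈ nonZeroDivisors R := mem_nonZeroDivisors_of_ne_zero hπ.ne_zero
  have hA : algebraMap R A π ∈ nonZeroDivisors A := by
    have := Module.Flat.isSMulRegular_of_nonZeroDivisors (M := A) hπ0
    rw [mem_nonZeroDivisors_iff_right]
    intro a ha
    apply this
    simp only [smul_zero]
    rw [Algebra.smul_def, mul_comm]; exact ha
  have hM : IsSMulRegular M (algebraMap R A π) := by
    have := Module.Flat.isSMulRegular_of_nonZeroDivisors (M := M) hπ0
    intro x y hxy
    apply this
    simpa [algebraMap_smul] using hxy
  haveI : Module.Flat (A ⧸ Ideal.span {algebraMap R A π}) ((A ⧸ Ideal.span {algebraMap R A π}) ⊗[A] M) :=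
    flat_of_linearEquiv_of_surjective (R := A) (R₁ := A ⧸ Ideal.span {algebraMap R A π})
      (R₂ := A ⧸ Ideal.span {algebraMap R A π}) Ideal.Quotient.mk_surjective
      Ideal.Quotient.mk_surjective le_rfl
      (TensorProduct.quotTensorEquivQuotSMul M (Ideal.span {algebraMap R A π})).symm
  exact Groth.Agent.S0399.result (algebraMap R A π) hA hM

end Groth.Agent.S5380
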