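import Groth.Statements.S5381
import Mathlib
-- import your own Groth.Agent.* helpers here

set_option autoImplicit false
universe u
open CategoryTheory CategoryTheory.Limits MonoidalCategory CartesianMonoidalCategory MonObj GrpObj AlgebraicGeometry
open SGA3

namespace Groth.Agent.S5381

open AlgebraicGeometry CategoryTheory in
theorem main (R : Type u) [CommRing R] [IsDedekindDomain R]
    (X : Scheme.{u}) (f : X ⟶ Spec (CommRingCat.of R)) [Flat f] :
    letI := ((Scheme.ΓSpecIso (CommRingCat.of R)).inv ≫ f.appTop).hom.toAlgebra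
    Module.Flat R Γ(X, ⊤) := by
  let alg := ((Scheme.ΓSpecIso (CommRingCat.of R)).inv ≫ f.appTop).hom.toAlgebra
  rw [IsDedekindDomain.flat_iff_torsion_eq_bot, eq_bot_iff]
  rintro s ⟨⟨a, ha⟩, has⟩
  rw [Submodule.mem_bot]
  have has' : ((Scheme.ΓSpecIso (CommRingCat.of R)).inv ≫ f.appTop).hom a * s = 0 := has
  refine X.sheaf.eq_of_locally_eq' (fun U : X.affineOpens => U.1) ⊤ (fun U => homOfLE le_top) ?_ s 0 ?_
  · exact (iSup_affineOpens_eq_top X).ge
  · intro U
    rw [map_zero]
    have hfl : (f.appLE ⊤ U.1 le_top).hom.Flat :=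
      HasRingHomProperty.appLE @Flat f ‹_› ⟨⊤, isAffineOpen_top _⟩ U _
    have hiso : ((Scheme.ΓSpecIso (CommRingCat.of R)).inv).hom.Flat :=
      RingHom.Flat.of_bijective (ConcreteCategory.bijective_of_isIso (Scheme.ΓSpecIso (CommRingCat.of R)).inv)
    have hψ := RingHom.Flat.comp hiso hfl
    let algU := ((f.appLE ⊤ U.1 le_top).hom.comp ((Scheme.ΓSpecIso (CommRingCat.of R)).inv).hom).toAlgebra
    have hflat : Module.Flat R Γ(X, U.1) := hψ
    have hreg : IsSMulRegular Γ(X, U.1) a := Module.Flat.isSMulRegular_of_nonZeroDivisors ha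
    apply hreg
    change a • _ = a • (0 : Γ(X, U.1))
    rw [smul_zero]
    have h2 := congrArg (X.presheaf.map (homOfLE (le_top : U.1 ≤ ⊤)).op).hom has'
    rw [map_mul, map_zero] at h2
    exact h2

/-- For S the spectrum of a Dedekind domain R: let X be a scheme which is flat, quasi-compact and
quasi-separated over R. Then the ring of global sections Γ(X, O_X) is a flat R-module. (The
published remark takes S locally noetherian and regular of dimension 1 and also observes, when S is
local with closed point s and uniformizer π, that Γ(X, O_X)/πΓ(X, O_X) → Γ(X_s, O_{X_s}) is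
injective; this row takes S the spectrum of a Dedekind domain and omits the injectivity.) -/
theorem result (R : Type u) [CommRing R] [IsDedekindDomain R]
    (X : Scheme.{u}) (f : X ⟶ Spec (CommRingCat.of R)) [Flat f] [QuasiCompact f] [QuasiSeparated f] :
    letI := ((Scheme.ΓSpecIso (CommRingCat.of R)).inv ≫ f.appTop).hom.toAlgebra
    Module.Flat R Γ(X, ⊤) := by
  exact main R X f

end Groth.Agent.S5381
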