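import Groth.Statements.S5387
import Mathlib
import Groth.Agent.S15596
-- import your own Groth.Agent.* helpers here

set_option autoImplicit false
universe u
open CategoryTheory CategoryTheory.Limits MonoidalCategory CartesianMonoidalCategory MonObj GrpObj AlgebraicGeometry
open SGA3

namespace Groth.Agent.S5387

/-- Let k be an algebraically closed field, G a group scheme locally of finite type over k and x a
closed point of G. Then the local ring of G at x is isomorphic to the local ring of G at the unit
point (an isomorphism is induced by a translation; this row asserts the existence of an isomorphism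
of rings). -/
theorem result (k : Type u) [Field k] [IsAlgClosed k] (G : Over (Spec (CommRingCat.of k))) [GrpObj G]
    [LocallyOfFiniteType G.hom] (pt : ↥(𝟙_ (Over (Spec (CommRingCat.of k)))).left) (x : G.left) (hx : IsClosed ({x} : Set G.left)) :
    Nonempty (G.left.presheaf.stalk (η[G].left.base pt) ≅ G.left.presheaf.stalk x) := by
  classical
  set p : Spec (CommRingCat.of k) ⟶ G.left := pointOfClosedPoint G.hom x hx with hp
  let u : 𝟙_ (Over (Spec (CommRingCat.of k))) ⟶ G :=
    Over.homMk p (by rw [hp, pointOfClosedPoint_comp]; rfl)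
  have hu : ∀ a, u.left.base a = x := fun a => pointOfClosedPoint_apply G.hom x hx a
  set L : G ⟶ G := Groth.Agent.S15596.ltr G u with hL
  have h1 : L ≫ Groth.Agent.S15596.ltr G u⁻¹ = 𝟙 G := by
    rw [hL, Groth.Agent.S15596.ltr_comp_ltr, inv_mul_cancel, Groth.Agent.S15596.ltr_one]
  have h2 : Groth.Agent.S15596.ltr G u⁻¹ ≫ L = 𝟙 G := by
    rw [hL, Groth.Agent.S15596.ltr_comp_ltr, mul_inv_cancel, Groth.Agent.S15596.ltr_one]
  haveI : IsIso L := ⟨⟨_, h1, h2⟩⟩
  haveI : IsIso L.left := (Over.forget _).map_isIso L
  have hη : (η[G] : 𝟙_ (Over (Spec (CommRingCat.of k))) ⟶ G) ≫ L = u := by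
    rw [hL, Groth.Agent.S15596.comp_ltr]
    have : (η[G] : 𝟙_ (Over (Spec (CommRingCat.of k))) ⟶ G) = 1 := by
      rw [Hom.one_def]
      have : toUnit (𝟙_ (Over (Spec (CommRingCat.of k)))) = 𝟙 _ := toUnit_unique _ _
      rw [this, Category.id_comp]
    rw [this, _root_.mul_one]
  have hpt : L.left.base (η[G].left.base pt) = x := by
    have := congrArg (fun f => f.left.base pt) hη
    simpa [hu] using this
  rw [← hpt]
  exact ⟨(asIso (L.left.stalkMap (η[G].left.base pt))).symm⟩

end Groth.Agent.S5387
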