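import Groth.Statements.S5389
import Mathlib
import Groth.Prelude.Def_ChGrp
import Groth.Agent.Lib.Helper28.EquivStable
-- import your own Groth.Agent.* helpers here

set_option autoImplicit false
universe u
open CategoryTheory CategoryTheory.Limits MonoidalCategory CartesianMonoidalCategory MonObj GrpObj AlgebraicGeometry
open SGA3

namespace Groth.Agent.S5389


open MonoidalCategory CartesianMonoidalCategory MonObj AlgGrp
open Groth.Agent.Lib.helper28.EquivStable

/-- Let P be a property of morphisms of schemes which is local on the target for the fpqc topology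
(stable under base change, Zariski-local on the target, and descending along flat surjective
quasi-compact morphisms). Let u : G → H be a homomorphism of S-group schemes with G flat and
universally open over S, W the largest open subscheme of H over which the restriction of u has P,
and V = u⁻¹(W). Then the image U of V in S is open and V is an open subgroup scheme of G over U: V
contains the unit point of every fibre of G that it meets, V is stable under the inversion of G, and
the product of a point of G ×_S G whose two projections lie in V lies in V. -/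
theorem result (P : MorphismProperty Scheme.{u}) [P.IsStableUnderBaseChange] [IsZariskiLocalAtTarget P]
    [P.DescendsAlong (@Flat ⊓ @Surjective ⊓ @QuasiCompact)]
    (S : Scheme.{u}) (G H : Over S) [GrpObj G] [GrpObj H] (u : G ⟶ H) [IsMonHom u] [Flat G.hom] [UniversallyOpen G.hom]
    (W : H.left.Opens) (hW : P (u.left ∣_ W)) (hmax : ∀ W' : H.left.Opens, P (u.left ∣_ W') → W' ≤ W) :
    letI V : G.left.Opens := u.left ⁻¹ᵁ W
    IsOpen (G.hom.base '' (V : Set G.left)) ∧
    (∀ g ∈ V, ∀ p : ↥(𝟙_ (Over S)).left, (𝟙_ (Over S)).hom.base p = G.hom.base g → η[G].left.base p ∈ V) ∧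
    (∀ g ∈ V, ι[G].left.base g ∈ V) ∧
    (∀ z : ↥(G ⊗ G).left, (fst G G).left.base z ∈ V → (snd G G).left.base z ∈ V → μ[G].left.base z ∈ V) := by
  set V : G.left.Opens := u.left ⁻¹ᵁ W with hVdef
  set aX : AlgGrp.Action G G := leftMul G with haX
  set aY : AlgGrp.Action G H := (leftMul H).restrict u with haY
  have hactY : aY.act = (u ▷ H) ≫ μ[H] := rfl
  have hf : (G ◁ u) ≫ aY.act = aX.act ≫ u := by
    rw [hactY]
    show (G ◁ u) ≫ (u ▷ H) ≫ μ[H] = μ[G] ≫ u
    rw [IsMonHom.mul_hom, tensorHom_def', Category.assoc]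
  have key := stable_qc G G H aX aY u hf P W hW hmax
  have key' : ∀ z : ↥(G ⊗ H).left, (snd G H).left z ∈ W → aY.act.left z ∈ W := fun z hz => key hz
  -- the auxiliary morphisms
  have hm₁s : lift ι[G] u ≫ snd G H = u := lift_snd _ _
  have hm₁a : lift ι[G] u ≫ aY.act = toUnit G ≫ η[H] := by
    rw [hactY, lift_whiskerRight_assoc, ← Hom.mul_def, ← Hom.one_def]
    have : ι[G] ≫ u = (u : G ⟶ H)⁻¹ := by
      have h1 : ι[G] = (𝟙 G : G ⟶ G)⁻¹ := by rw [Hom.inv_def, Category.id_comp]
      rw [h1, GrpObj.inv_comp, Category.id_comp]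
    rw [this, inv_mul_cancel]
  have hm₂s : lift ι[G] (toUnit G ≫ η[H]) ≫ snd G H = toUnit G ≫ η[H] := lift_snd _ _
  have hm₂a : lift ι[G] (toUnit G ≫ η[H]) ≫ aY.act = ι[G] ≫ u := by
    rw [hactY, lift_whiskerRight_assoc, ← Hom.mul_def, ← Hom.one_def, _root_.mul_one]
  have hunit : ∀ g : G.left, u.left g ∈ W → (toUnit G ≫ η[H]).left g ∈ W := by
    intro g hg
    have h1 := key' ((lift ι[G] u).left g) (by
      rw [← Scheme.Hom.comp_apply, ← Over.comp_left, hm₁s]; exact hg)
    rwa [← Scheme.Hom.comp_apply, ← Over.comp_left, hm₁a] at h1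
  refine ⟨G.hom.isOpenMap _ V.isOpen, ?_, ?_, ?_⟩
  · intro g hg p hp
    have h1 := hunit g hg
    show u.left (η[G].left p) ∈ W
    rw [← Scheme.Hom.comp_apply, ← Over.comp_left, IsMonHom.one_hom]
    rw [Over.comp_left, Scheme.Hom.comp_apply] at h1
    have hpe : (toUnit G).left g = p := by
      have h2 : (𝟙_ (Over S)).hom ((toUnit G).left g) = G.hom g := by
        rw [← Scheme.Hom.comp_apply, Over.w]
      have h3 : (𝟙_ (Over S)).hom = 𝟙 S := rfl
      have h4 := h2.trans hp.symm
      rw [h3] at h4
      exact h4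
    rw [← hpe]
    exact h1
  · intro g hg
    have h0 := hunit g hg
    have h1 := key' ((lift ι[G] (toUnit G ≫ η[H])).left g) (by
      rw [← Scheme.Hom.comp_apply, ← Over.comp_left, hm₂s]; exact h0)
    rw [← Scheme.Hom.comp_apply, ← Over.comp_left, hm₂a, Over.comp_left, Scheme.Hom.comp_apply] at h1
    exact h1
  · intro z _ hz2
    have h1 := key' ((G ◁ u).left z) (by
      rw [← Scheme.Hom.comp_apply, ← Over.comp_left, whiskerLeft_snd, Over.comp_left,
        Scheme.Hom.comp_apply]
      exact hz2)
    rw [← Scheme.Hom.comp_apply, ← Over.comp_left, hf, Over.comp_left, Scheme.Hom.comp_apply] at h1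
    exact h1

end Groth.Agent.S5389
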