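import Groth.Statements.S5390
import Mathlib
import Groth.Agent.Lib.Helper28.LargestOpenQC
-- import your own Groth.Agent.* helpers here

set_option autoImplicit false
universe u
open CategoryTheory CategoryTheory.Limits MonoidalCategory CartesianMonoidalCategory MonObj GrpObj AlgebraicGeometry
open SGA3

namespace Groth.Agent.S5390


open Groth.Agent.Lib.helper28.GrpdLocal Groth.Agent.Lib.helper28.LargestOpenQC

/-- Let P be a property of morphisms of schemes which is local on the target for the fpqc topology
(stable under base change, Zariski-local on the target, descending along flat surjective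
quasi-compact morphisms). Let f : X → Y be a morphism, g : Y' → Y a flat morphism whose underlying
map is open, and f' : X ×_Y Y' → Y' the base change. If W is the largest open of Y over which f has
P and W₁' the largest open of Y' over which f' has P, then W₁' = g⁻¹(W). -/
theorem result (P : MorphismProperty Scheme.{u}) [P.IsStableUnderBaseChange] [IsZariskiLocalAtTarget P]
    [P.DescendsAlong (@Flat ⊓ @Surjective ⊓ @QuasiCompact)]
    (X Y Y' : Scheme.{u}) (f : X ⟶ Y) (g : Y' ⟶ Y) [Flat g] (hg : IsOpenMap g.base)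
    (W : Y.Opens) (hW : P (f ∣_ W)) (hmax : ∀ W₀ : Y.Opens, P (f ∣_ W₀) → W₀ ≤ W)
    (W₁ : Y'.Opens) (hW₁ : P (pullback.snd f g ∣_ W₁)) (hmax₁ : ∀ W₀ : Y'.Opens, P (pullback.snd f g ∣_ W₀) → W₀ ≤ W₁) :
    W₁ = g ⁻¹ᵁ W := by
  have hpb : IsPullback (pullback.fst f g) (pullback.snd f g) f g := IsPullback.of_hasPullback f g
  apply le_antisymm
  · have h1 := of_image_of_flat_open f (pullback.snd f g) g (pullback.fst f g) hpb hg P W₁ hW₁
    have h2 := hmax _ h1
    intro x hx
    exact h2 ⟨x, hx, rfl⟩
  · apply hmax₁
    set V : Y'.Opens := g ⁻¹ᵁ W with hV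
    have hb : IsPullback (pullback.snd f g ⁻¹ᵁ V).ι (pullback.snd f g ∣_ V) (pullback.snd f g) V.ι :=
      (isPullback_morphismRestrict _ V).flip
    have sq1 : IsPullback ((pullback.snd f g ⁻¹ᵁ V).ι ≫ pullback.fst f g) (pullback.snd f g ∣_ V) f
        ((g ∣_ W) ≫ W.ι) := by
      rw [morphismRestrict_ι]
      exact hb.paste_horiz hpb
    obtain ⟨A, hA⟩ := restrict_pullback f W (g ∣_ W) _ _ sq1
    exact P.of_isPullback hA hW

end Groth.Agent.S5390
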