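import Groth.Statements.S5395
import Groth.Agent.Lib.Helper5.IndConsPt
import Groth.Agent.Lib.Helper3.ConsNhds
import Groth.Agent.S15543

set_option autoImplicit false
universe u
open CategoryTheory CategoryTheory.Limits MonoidalCategory CartesianMonoidalCategory MonObj GrpObj AlgebraicGeometry
open SGA3

namespace Groth.Agent.S5395

/-- Let k be an algebraically closed field, G a group scheme locally of finite type over k, and A, B two
ind-constructible subsets of G. Let A·B be the image under the multiplication of the set of points
of G ×_k G whose two projections lie in A and B. Then every closed point z of G lying in A·B is the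
product of a closed point of G ×_k G whose two projections lie in A and B (and are then closed
points): the rational points of A·B are the products of rational points of A and of B. -/
theorem result (k : Type u) [Field k] [IsAlgClosed k] (G : Over (Spec (CommRingCat.of k))) [GrpObj G]
    [LocallyOfFiniteType G.hom] (A B : Set G.left) (hA : ProCons.IsIndConstructible A) (hB : ProCons.IsIndConstructible B)
    (z : G.left) (hz : IsClosed ({z} : Set G.left))
    (hzAB : z ∈ μ[G].left.base '' {w : ↥(G ⊗ G).left | (fst G G).left.base w ∈ A ∧ (snd G G).left.base w ∈ B}) :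
    ∃ w : ↥(G ⊗ G).left, IsClosed ({w} : Set ↥(G ⊗ G).left) ∧ (fst G G).left.base w ∈ A ∧ (snd G G).left.base w ∈ B ∧
      μ[G].left.base w = z := by
  obtain ⟨w₀, ⟨hA₀, hB₀⟩, hμ⟩ := hzAB
  haveI : LocallyOfFiniteType (G ⊗ G).hom := by
    rw [Over.tensorObj_hom]; infer_instance
  haveI : JacobsonSpace ↥(Spec (CommRingCat.of k)) :=
    inferInstanceAs (JacobsonSpace (PrimeSpectrum k))
  haveI : JacobsonSpace ↥(G ⊗ G).left := LocallyOfFiniteType.jacobsonSpace (G ⊗ G).hom
  haveI : IsLocallyNoetherian (Spec (CommRingCat.of k)) := inferInstance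
  haveI : IsLocallyNoetherian (G ⊗ G).left := LocallyOfFiniteType.isLocallyNoetherian (G ⊗ G).hom
  have h₁ := Groth.Agent.S15543.result (fst G G).left A hA
  have h₂ := Groth.Agent.S15543.result (snd G G).left B hB
  have hF : Topology.IsLocallyConstructible (μ[G].left.base ⁻¹' {z}) :=
    Groth.Agent.Lib.helper3.ConsNhds.isLocallyConstructible_of_isClosed
      (hz.preimage (Scheme.Hom.continuous _))
  obtain ⟨y, hy, hyA, hyB, hyz⟩ :=
    Groth.Agent.Lib.helper5.IndConsPt.exists_closedPoint_of_indConstructible h₁ h₂ hF w₀ hA₀ hB₀ hμ
  exact ⟨y, hy, hyA, hyB, hyz⟩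

end Groth.Agent.S5395
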