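import Groth.Statements.S5401
import Groth.Agent.Lib.Helper5.GrpNeutral6
import Groth.Agent.Lib.Helper5.ConsApprox5

set_option autoImplicit false
universe u
open CategoryTheory CategoryTheory.Limits MonoidalCategory CartesianMonoidalCategory MonObj GrpObj AlgebraicGeometry
open SGA3

namespace Groth.Agent.S5401

/-- Let S₀ be a scheme, (S_i) a cofiltered system of quasi-compact quasi-separated S₀-schemes with
affine transition morphisms and S its limit, and G an S₀-group scheme locally of finite presentation
over S₀. Write G⁰(T), for an S₀-scheme T, for the set of S₀-morphisms T → G whose image lies in the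
union of the neutral components of the fibres of G. Then the canonical map colim G⁰(S_i) → G⁰(S) is
surjective: every element of G⁰(S) is the restriction of an element of G⁰(S_i) for some i. (The
published statement asserts that this map is bijective; its injectivity holds for S₀-morphisms to
any scheme locally of finite type over S₀ and is not stated here. The published setting takes S₀
quasi-compact and quasi-separated and the S_i affine over S₀; this row allows any cofiltered system
of quasi-compact quasi-separated S₀-schemes with affine transition morphisms.) -/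
theorem result {I : Type u} [SmallCategory I] [IsCofiltered I]
    (D : I ⥤ Scheme.{u}) (c : Limits.Cone D) (hc : Limits.IsLimit c)
    [∀ (i i' : I) (f : i ⟶ i'), IsAffineHom (D.map f)] [∀ i, CompactSpace (D.obj i)] [∀ i, QuasiSeparatedSpace (D.obj i)]
    (S₀ : Scheme.{u}) (q : ∀ i, D.obj i ⟶ S₀) (hq : ∀ (i i' : I) (f : i ⟶ i'), D.map f ≫ q i' = q i)
    (qlim : c.pt ⟶ S₀) (hqlim : ∀ i, c.π.app i ≫ q i = qlim)
    (G : Over S₀) [GrpObj G] [LocallyOfFinitePresentation G.hom] :
    ∀ u : c.pt ⟶ G.left, u ≫ G.hom = qlim → Set.range u.base ⊆ SGA3x.neutralSet G →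
      ∃ (i : I) (ui : D.obj i ⟶ G.left), ui ≫ G.hom = q i ∧ Set.range ui.base ⊆ SGA3x.neutralSet G ∧ c.π.app i ≫ ui = u := by
  intro u hu hu0
  -- the diagram over `S₀`
  let t : D ⟶ (Functor.const I).obj S₀ :=
    { app := fun i => q i
      naturality := fun i i' f => by
        simp only [Functor.const_obj_obj, Functor.const_obj_map, Category.comp_id]
        exact hq i i' f }
  have ha : c.π ≫ t = (Functor.const I).map (u ≫ G.hom) := by
    ext i
    simp only [NatTrans.comp_app, Functor.const_map_app]
    show c.π.app i ≫ q i = u ≫ G.hom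
    rw [hqlim, hu]
  obtain ⟨i₀, g₀, hg₀, hg₀'⟩ :=
    Scheme.exists_π_app_comp_eq_of_locallyOfFinitePresentation D t G.hom c hc u ha
  have hg₀q : g₀ ≫ G.hom = q i₀ := hg₀'
  have hInd := Groth.Agent.Lib.helper5.GrpNeutral6.isIndConstructible_neutralSet G
  let F : ∀ a : Over i₀, Set (D.obj a.left) := fun a => (D.map a.hom ≫ g₀).base ⁻¹' SGA3x.neutralSet G
  have hF : ∀ a, ProCons.IsIndConstructible (F a) := fun a =>
    Groth.Agent.S15543.result (D.map a.hom ≫ g₀) _ hInd
  have hFm : ∀ (a b : Over i₀) (m : a ⟶ b), ⇑(D.map m.left) ⁻¹' F b ⊆ F a := by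
    intro a b m x hx
    show (D.map a.hom ≫ g₀) x ∈ SGA3x.neutralSet G
    have h1 : D.map a.hom = D.map m.left ≫ D.map b.hom := by
      rw [← D.map_comp, Over.w m]
    rw [h1, Category.assoc, Scheme.Hom.comp_apply]
    exact hx
  have key := (Groth.Agent.Lib.helper5.ConsApprox.univ_subset_iff_eventually D c hc i₀ F hF hFm).mp (by
    intro x _
    refine Set.mem_iUnion.mpr ⟨Over.mk (𝟙 i₀), ?_⟩
    show (D.map (𝟙 i₀) ≫ g₀) (c.π.app i₀ x) ∈ SGA3x.neutralSet G
    rw [D.map_id, Category.id_comp, ← Scheme.Hom.comp_apply, hg₀]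
    exact hu0 ⟨x, rfl⟩)
  obtain ⟨a, haF⟩ := key
  refine ⟨a.left, D.map a.hom ≫ g₀, ?_, ?_, ?_⟩
  · rw [Category.assoc, hg₀q]
    exact hq _ _ a.hom
  · rintro _ ⟨x, rfl⟩
    have : x ∈ F a := by rw [haF]; trivial
    exact this
  · rw [← Category.assoc, c.w a.hom, hg₀]

end Groth.Agent.S5401
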