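import Groth.Statements.S5421
import Groth.Agent.Lib.Helper14.CharDich

set_option autoImplicit false
universe u
open CategoryTheory MonoidalCategory CartesianMonoidalCategory MonObj GrpObj AlgebraicGeometry CategoryTheory.Limits
open Red

namespace Groth.Agent.S5421

/-- Let T be an S-torus and α : T → G_{m,S} a character. The following are equivalent: (i) for every
point s of S the character induced on the geometric fibre at s is not the trivial character; (ii)
for every morphism S' → S with S' non-empty the base change of α is not the trivial character; (iii)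
α is faithfully flat (flat and surjective). -/
theorem result (S : Scheme.{u}) (T : Over S) [GrpObj T] (hT : Red.IsTorus T) (α : T ⟶ Red.Gm S) [IsMonHom α] :
    ((∀ s : S, (Over.pullback (Red.geomPt s)).map α ≠ 1) ↔
      (∀ (S' : Scheme.{u}) (g : S' ⟶ S), Nonempty ↥S' → (Over.pullback g).map α ≠ 1)) ∧
    ((∀ s : S, (Over.pullback (Red.geomPt s)).map α ≠ 1) ↔ (Flat α.left ∧ Surjective α.left)) := by
  classical
  obtain ⟨S', f, hfl, hsurj, hcov, hloc⟩ := hT
  haveI := hfl
  haveI := hsurj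
  have key : ∀ t : S', ∃ O : S'.Opens, t ∈ O ∧
      (Groth.Agent.Lib.Helper14.TrivLoc.PT α (O.ι ≫ f) ∨
        Groth.Agent.Lib.Helper14.DiagHomG1.PAt
          (@Flat ⊓ @Surjective : MorphismProperty Scheme.{u}) α (O.ι ≫ f)) := by
    intro t
    obtain ⟨U, ht, r, ⟨eG₀⟩⟩ := hloc t
    exact Groth.Agent.Lib.Helper14.CharDich.local_step_dich f α t U ht (Fin r → ℤ) eG₀
      (Groth.Agent.Lib.Helper14.BCGrp.DSbcIso (U.ι ≫ f) ℤ)
  have geo : ∀ {X : Scheme.{u}} (g : X ⟶ S) (x : X), Groth.Agent.Lib.Helper14.TrivLoc.PT α g →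
      (Over.pullback (Red.geomPt (g x))).map α = 1 := by
    intro X g x h
    have h1 : Groth.Agent.Lib.Helper14.TrivLoc.PT α (X.fromSpecResidueField x ≫ g) :=
      Groth.Agent.Lib.Helper14.TrivLoc.PT.comp _ _ h
    have h2 : Groth.Agent.Lib.Helper14.TrivLoc.PT α (S.fromSpecResidueField (g x)) :=
      (Groth.Agent.Lib.Helper14.AbsMain.fibre_iff
        (fun {X} g => Groth.Agent.Lib.Helper14.TrivLoc.PT α g)
        (fun g k h => Groth.Agent.Lib.Helper14.TrivLoc.PT.comp g k h)
        (fun g k hk h => Groth.Agent.Lib.Helper14.TrivLoc.PT.desc g k hk h) g x).mp h1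
    exact (Groth.Agent.Lib.Helper14.TrivLoc.PT_iff_map_eq_one _).mp
      (Groth.Agent.Lib.Helper14.TrivLoc.PT.comp _ _ h2)
  have h12 : (∀ s : S, (Over.pullback (Red.geomPt s)).map α ≠ 1) →
      ∀ (S'' : Scheme.{u}) (g : S'' ⟶ S), Nonempty ↥S'' → (Over.pullback g).map α ≠ 1 := by
    intro h1 S'' g ⟨x⟩ hg
    exact h1 (g x) (geo g x ((Groth.Agent.Lib.Helper14.TrivLoc.PT_iff_map_eq_one g).mpr hg))
  have h21 : (∀ (S'' : Scheme.{u}) (g : S'' ⟶ S), Nonempty ↥S'' → (Over.pullback g).map α ≠ 1) →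
      ∀ s : S, (Over.pullback (Red.geomPt s)).map α ≠ 1 := by
    intro h2 s
    exact h2 _ (Red.geomPt s)
      (inferInstanceAs (Nonempty (PrimeSpectrum (AlgebraicClosure (S.residueField s)))))
  have h13 : (∀ s : S, (Over.pullback (Red.geomPt s)).map α ≠ 1) →
      (Flat α.left ∧ Surjective α.left) := by
    intro h1
    have h2 : Groth.Agent.Lib.Helper14.DiagHomG1.PAt
        (@Flat ⊓ @Surjective : MorphismProperty Scheme.{u}) α (𝟙 S) := by
      apply Groth.Agent.Lib.Helper14.MTProps.PAt_id_of_cover _ f hcov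
      intro t
      obtain ⟨O, hO, hd⟩ := key t
      refine ⟨O, hO, ?_⟩
      rcases hd with hd | hd
      · exfalso
        exact h1 _ (geo (O.ι ≫ f) ⟨t, hO⟩ hd)
      · exact hd
    exact (Groth.Agent.Lib.Helper14.CharDich.PAt_id_iff _ α).mp h2
  have h31 : (Flat α.left ∧ Surjective α.left) →
      ∀ s : S, (Over.pullback (Red.geomPt s)).map α ≠ 1 := by
    intro h3 s h1
    have h4 : Groth.Agent.Lib.Helper14.DiagHomG1.PAt
        (@Flat ⊓ @Surjective : MorphismProperty Scheme.{u}) α (Red.geomPt s) :=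
      Groth.Agent.Lib.Helper14.CharDich.PAt_of_left _ α ⟨h3.1, h3.2⟩ (Red.geomPt s)
    haveI : Flat ((Over.pullback (Red.geomPt s)).map α).left := h4.1
    haveI : Surjective ((Over.pullback (Red.geomPt s)).map α).left := h4.2
    haveI : Epi ((Over.pullback (Red.geomPt s)).map α).left :=
      Flat.epi_of_flat_of_surjective _
    haveI : Epi ((Over.pullback (Red.geomPt s)).map α) := Over.epi_of_epi_left _
    have h5 : (𝟙 (Red.bc (Red.geomPt s) (Red.Gm S))) = 1 := by
      rw [← cancel_epi ((Over.pullback (Red.geomPt s)).map α), Category.comp_id, MonObj.comp_one]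
      exact h1
    let e := Groth.Agent.Lib.Helper14.BCGrp.DSbcIso (Red.geomPt s) ℤ
    have h6 : 𝟙 (Red.DS (Spec (CommRingCat.of (AlgebraicClosure (S.residueField s)))) ℤ) = 1 := by
      have h7 : Groth.Agent.Lib.Helper14.MultNilAff.ei e ≫ 𝟙 _ ≫
          Groth.Agent.Lib.Helper14.MultNilAff.eh e = 𝟙 _ := by
        rw [Category.id_comp, Groth.Agent.Lib.Helper14.MultNilAff.ei_eh]
      have h8 : (1 : Red.bc (Red.geomPt s) (Red.Gm S) ⟶ Red.bc (Red.geomPt s) (Red.Gm S)) ≫
          Groth.Agent.Lib.Helper14.MultNilAff.eh e = 1 := MonObj.one_comp _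
      rw [← h7, h5, h8, MonObj.comp_one]
    have h9 : AddMonoidHom.id ℤ = 0 := by
      apply Groth.Agent.Lib.Helper14.DiagHom3.DSmap_injective
        (R := AlgebraicClosure (S.residueField s))
      rw [Groth.Agent.Lib.Helper14.DiagHom3.DSmap_id, Groth.Agent.Lib.Helper14.TrivLoc.DSmap_zero]
      exact h6
    have h10 := DFunLike.congr_fun h9 (1 : ℤ)
    simp at h10
  exact ⟨⟨h12, h21⟩, ⟨h13, h31⟩⟩

end Groth.Agent.S5421
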