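import Groth.Statements.S5423
import Mathlib
import Groth.Agent.S7975
import Groth.Agent.Lib.Helper15.ComodOps

set_option autoImplicit false
universe u
open TensorProduct
open SGA3t2b

namespace Groth.Agent.S5423


open Groth.Agent.Lib.helper15.ComodFin Groth.Agent.Lib.helper15.ComodOps in
/-- an element of `V ⊗ A` killed by all points is zero (`A` reduced f.g. over alg. closed `k`). -/
theorem eq_zero_of_forall_slV (k : Type u) [Field k] [IsAlgClosed k] (A : Type u) [CommRing A]
    [Algebra k A] [Algebra.FiniteType k A] [IsReduced A]
    (V : Type u) [AddCommGroup V] [Module k V] [Module.Finite k V]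
    (t : V ⊗[k] A) (h : ∀ g : A →ₐ[k] k, slV g.toLinearMap t = 0) : t = 0 := by
  classical
  let b := Module.finBasis k V
  apply (TensorProduct.equivFinsuppOfBasisLeft (N := A) b).injective
  rw [map_zero]
  ext i
  rw [Finsupp.zero_apply]
  apply eq_zero_of_forall_point k A
  intro g
  have key : ∀ s : V ⊗[k] A, g (TensorProduct.equivFinsuppOfBasisLeft (N := A) b s i) =
      b.coord i (slV g.toLinearMap s) := by
    intro s
    induction s with
    | zero => simp
    | tmul v a =>
      rw [TensorProduct.equivFinsuppOfBasisLeft_apply_tmul_apply, slV_tmul, map_smul, map_smul,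
        Module.Basis.coord_apply, smul_eq_mul, smul_eq_mul, AlgHom.toLinearMap_apply, mul_comm]
    | add x y hx hy => simp only [map_add, Finsupp.add_apply, hx, hy]
  rw [key, h g, map_zero]

/-- Let k be an algebraically closed field and A a reduced finitely generated commutative Hopf algebra
over k (a smooth affine algebraic k-group G). Then G is unipotent (every non-zero finite-dimensional
representation has a non-zero fixed vector) if and only if every element of G(k) is unipotent, i.e.
every k-point g : A → k acts on every finite-dimensional comodule V by an endomorphism g_V with g_V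
− 1 nilpotent. -/
theorem result (k : Type u) [Field k] [IsAlgClosed k] (A : Type u) [CommRing A] [HopfAlgebra k A] [Algebra.FiniteType k A]
    [IsReduced A] :
    HopfRep.IsUnipotent k A ↔
      ∀ (g : A →ₐ[k] k) (V : Type u) [AddCommGroup V] [Module k V] [HopfRep.Comod k A V],
        Module.Finite k V → IsNilpotent (HopfRep.Comod.act k A V g - LinearMap.id) := by
  classical
  constructor
  · intro hU g V _ _ _ hfin
    have := hfin
    exact Groth.Agent.Lib.helper15.ComodOps.isNilpotent_TV_sub_one hU g _ V rfl
  · intro H V _ _ _ hfin hnt
    have := hfin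
    have := hnt
    let ρ : Representation k (WithConv (A →ₐ[k] k)) V :=
      { toFun := fun g => Groth.Agent.Lib.helper15.ComodOps.TV g.ofConv
        map_one' := Groth.Agent.Lib.helper15.ComodOps.TV_one
        map_mul' := Groth.Agent.Lib.helper15.ComodOps.TV_mul }
    have hρ : ∀ g, IsNilpotent (ρ g - 1) := fun g => H g.ofConv V hfin
    obtain ⟨v, hv, hfix⟩ := Groth.Agent.S7975.result k (WithConv (A →ₐ[k] k)) V ρ hρ
    have hmem : v ∈ HopfRep.fixedPts k A V := by
      change HopfRep.Comod.coact (k := k) (A := A) v = v ⊗ₜ[k] (1 : A)
      rw [← sub_eq_zero]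
      apply eq_zero_of_forall_slV k A V
      intro g
      rw [map_sub, Groth.Agent.Lib.helper15.ComodFin.slV_tmul, AlgHom.toLinearMap_apply, map_one,
        one_smul, sub_eq_zero]
      exact hfix (WithConv.toConv g)
    intro hbot
    rw [hbot] at hmem
    exact hv ((Submodule.mem_bot k).mp hmem)

end Groth.Agent.S5423
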