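import Groth.Statements.S5427
import Mathlib
import Groth.Agent.Lib.Helper15.DSMap

set_option autoImplicit false
universe u
open CategoryTheory MonoidalCategory CartesianMonoidalCategory MonObj GrpObj AlgebraicGeometry CategoryTheory.Limits
open Red

namespace Groth.Agent.S5427

/-- Let S be a scheme and G = D_S(M) a diagonalizable S-group of finite type, M a non-trivial finitely
generated commutative group. Then there are a prime number r and a closed subgroup of G isomorphic
to (μ_r)_S: a homomorphism of S-groups D_S(ℤ/r) → D_S(M) which is a closed immersion. -/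
theorem result (S : Scheme.{u}) (M : Type) [AddCommGroup M] [AddGroup.FG M] [Nontrivial M] :
    ∃ (r : ℕ) (_ : r.Prime) (j : Red.DS S (ZMod r) ⟶ Red.DS S M), IsMonHom j ∧ IsClosedImmersion j.left := by
  obtain ⟨r, hr, φ, hφ⟩ := Groth.Agent.Lib.helper15.DSMap.exists_surjective_zmod M
  exact ⟨r, hr, Red.DSmap S φ, Groth.Agent.Lib.helper15.DSMap.isMonHom_DSmap S φ,
    Groth.Agent.Lib.helper15.DSMap.isClosedImmersion_DSmap_of_surjective S φ hφ⟩

end Groth.Agent.S5427
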