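import Groth.Statements.S5433
import Mathlib
import Groth.Agent.Lib.Helper15.UnipProd

set_option autoImplicit false
universe u
open TensorProduct
open SGA3

namespace Groth.Agent.S5433

/-- Let k be a perfect field and A a finitely generated commutative and cocommutative Hopf algebra over
k (a commutative affine algebraic group G). Let J be the Hopf ideal of the largest subgroup of
multiplicative type M (A/J is of multiplicative type and J lies in every Hopf ideal whose quotient
is of multiplicative type). Then there is exactly one Hopf ideal I of A (a unipotent subgroup U)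
such that A/I is unipotent in the fixed-vector sense and the map A → (A/J) ⊗ (A/I), a ↦ Σ ā₁ ⊗ ā₂
(the comorphism of the multiplication M × U → G), is bijective. -/
theorem result (k : Type u) [Field k] [PerfectField k] (A : Type u) [CommRing A] [HopfAlgebra k A] [Algebra.FiniteType k A]
    [Coalgebra.IsCocomm k A] (J : Ideal A) [J.IsHopfIdeal k] (hJ : SGA3b.IsMultTypeConst k (A ⧸ J))
    (hJmax : ∀ (I : Ideal A) [I.IsHopfIdeal k], SGA3b.IsMultTypeConst k (A ⧸ I) → J ≤ I) :
    ∃! I : Ideal A, ∃ (_ : I.IsHopfIdeal k), HopfRep.IsUnipotent k (A ⧸ I) ∧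
      Function.Bijective ((Algebra.TensorProduct.map (Ideal.Quotient.mkₐ k J) (Ideal.Quotient.mkₐ k I)).comp
        (Bialgebra.comulAlgHom k A)) := by
  obtain ⟨τ, hτ1, hτ2, hτ3⟩ := Groth.Agent.Lib.helper15.UnipDescent.exists_tau k A
  have hJeq := Groth.Agent.Lib.helper15.UnipProd.J_eq J hJ hJmax
  have hbij0 := Groth.Agent.Lib.helper15.UnipProd.bijective_of_tau τ hτ1 hτ2
  have hU : HopfRep.IsUnipotent k (A ⧸ Groth.Agent.Lib.helper15.HopfImage.kerIdeal τ) := by
    apply Groth.Agent.Lib.helper15.Conilp.isUnipotent_of_Pfilt_top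
    rw [eq_top_iff]
    rintro c -
    obtain ⟨a, rfl⟩ := Ideal.Quotient.mk_surjective c
    obtain ⟨n, hn⟩ := hτ1 a
    have h1 := Groth.Agent.Lib.helper15.PfiltInj.mem_Pfilt_of_map_mem
      (Groth.Agent.Lib.helper15.HopfImage.imHom τ)
      (Groth.Agent.Lib.helper15.HopfImage.imHom_injective τ) n
      (Ideal.Quotient.mk (Groth.Agent.Lib.helper15.HopfImage.kerIdeal τ) a) hn
    exact Submodule.mem_iSup_of_mem n h1
  refine ⟨Groth.Agent.Lib.helper15.HopfImage.kerIdeal τ, ⟨inferInstance, hU, ?_⟩, ?_⟩
  · subst hJeq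
    exact hbij0
  · rintro I' ⟨hI', hU', hb'⟩
    haveI := hI'
    have hle := Groth.Agent.Lib.helper15.UnipProd.ker_le_of_unipotent (AlgebraicClosure k) τ hτ3 I' hU'
    have hbij : Function.Bijective ((Algebra.TensorProduct.map (Ideal.Quotient.mkₐ k J)
        (Ideal.Quotient.mkₐ k (Groth.Agent.Lib.helper15.HopfImage.kerIdeal τ))).comp
        (Bialgebra.comulAlgHom k A)) := by
      subst hJeq
      exact hbij0
    exact le_antisymm
      (Groth.Agent.Lib.helper15.UnipProd.le_of_bijective J _ I' hle hbij hb') hle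

end Groth.Agent.S5433
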