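import Groth.Statements.S5434
import Mathlib
import Groth.Agent.S2879

set_option autoImplicit false
universe u
open CategoryTheory MonoidalCategory CartesianMonoidalCategory MonObj GrpObj AlgebraicGeometry CategoryTheory.Limits
open SGA3x

namespace Groth.Agent.S5434

section Helpers

open Groth.Agent.S2879

/-- schematic density transfers along an isomorphism -/
lemma isSchematicallyDense_of_iso {P X : Scheme.{u}} (φ : P ⟶ X) [IsIso φ] (U : X.Opens)
    (hU : CInt.IsSchematicallyDense (φ ⁻¹ᵁ U)) : CInt.IsSchematicallyDense U := by
  intro V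
  rw [injective_iff_map_eq_zero]
  intro s hs
  have hinj : Function.Injective (φ.app V).hom :=
    (ConcreteCategory.bijective_of_isIso (φ.app V)).1
  apply hinj
  rw [map_zero]
  apply hU (φ ⁻¹ᵁ V)
  rw [map_zero]
  have hnat := φ.naturality (homOfLE (inf_le_left : V ⊓ U ≤ V)).op
  have h1 : (φ.app (V ⊓ U)).hom ((X.presheaf.map (homOfLE (inf_le_left : V ⊓ U ≤ V)).op).hom s) = 0 := by
    rw [hs, map_zero]
  rw [← CommRingCat.comp_apply, hnat] at h1
  exact h1

/-- If an immersion is surjective and a schematically dense open factors through it, it is an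
isomorphism. -/
lemma isIso_of_immersion_of_surjective {E X : Scheme.{u}} (e : E ⟶ X) [IsImmersion e]
    (hsurj : Function.Surjective e) (U : X.Opens) (hU : CInt.IsSchematicallyDense U)
    (j : (U : Scheme.{u}) ⟶ E) (hj : j ≫ e = U.ι) : IsIso e := by
  have hcl : IsClosedImmersion e :=
    IsClosedImmersion.of_isPreimmersion e (by rw [hsurj.range_eq]; exact isClosed_univ)
  have hker : e.ker = ⊥ := by
    have := Scheme.Hom.le_ker_comp j e
    rw [hj, ker_ι_eq_bot_of_isSchematicallyDense U hU] at this
    exact le_bot_iff.1 this
  exact IsClosedImmersion.isIso_iff_ker_eq_bot.2 hker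

end Helpers

/-- Let X be an S-scheme and U an open subscheme of X which is schematically dense in X relative to S:
for every S′ → S the preimage of U in X ×_S S′ is schematically dense (restriction of functions to
it is injective on every open). Let Y be an S-scheme whose fibres Y_s are separated (over κ(s)). If
two S-morphisms f, g : X → Y agree on U, then f = g. -/
theorem result (S : Scheme.{u}) (X Y : Over S) (U : X.left.Opens) (hU : (∀ (S' : Scheme.{u}) (g : S' ⟶ S), CInt.IsSchematicallyDense ((pullback.fst X.hom g) ⁻¹ᵁ U)))
    (hY : ∀ s : S, IsSeparated (pullback.snd Y.hom (S.fromSpecResidueField s)))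
    (f g : X ⟶ Y) (h : U.ι ≫ f.left = U.ι ≫ g.left) : f = g := by
  ext1
  -- the equalizer of the two morphisms
  let e := equalizer.ι f.left g.left
  have hUX : CInt.IsSchematicallyDense U := by
    have h0 := hU S (𝟙 S)
    have : IsIso (pullback.fst X.hom (𝟙 S)) := inferInstance
    exact isSchematicallyDense_of_iso (pullback.fst X.hom (𝟙 S)) U h0
  have hsurj : Function.Surjective e := by
    intro x
    set s : S := X.hom x with hs
    -- the fibre over `s`
    let pr : pullback X.hom (S.fromSpecResidueField s) ⟶ X.left := pullback.fst _ _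
    let q : pullback X.hom (S.fromSpecResidueField s) ⟶ Spec (S.residueField s) := pullback.snd _ _
    have hcond : pr ≫ X.hom = q ≫ S.fromSpecResidueField s := pullback.condition
    have hfw : f.left ≫ Y.hom = X.hom := Over.w f
    have hgw : g.left ≫ Y.hom = X.hom := Over.w g
    let a : pullback X.hom (S.fromSpecResidueField s) ⟶ pullback Y.hom (S.fromSpecResidueField s) :=
      pullback.lift (pr ≫ f.left) q (by rw [Category.assoc, hfw, hcond])
    let b : pullback X.hom (S.fromSpecResidueField s) ⟶ pullback Y.hom (S.fromSpecResidueField s) :=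
      pullback.lift (pr ≫ g.left) q (by rw [Category.assoc, hgw, hcond])
    have := hY s
    have hab : a = b := by
      refine Groth.Agent.S2879.eq_of_isSchematicallyDense (pullback.snd Y.hom (S.fromSpecResidueField s)) a b ?_
        (pr ⁻¹ᵁ U) (hU _ (S.fromSpecResidueField s)) ?_
      · simp only [a, b, pullback.lift_snd]
      · apply pullback.hom_ext
        · simp only [a, b, Category.assoc, pullback.lift_fst]
          have h1 : (pr ⁻¹ᵁ U).ι ≫ pr = (pr ∣_ U) ≫ U.ι := (morphismRestrict_ι pr U).symm
          rw [reassoc_of% h1, reassoc_of% h1, h]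
        · simp only [a, b, Category.assoc, pullback.lift_snd]
    have hprfg : pr ≫ f.left = pr ≫ g.left := by
      have h1 : a ≫ pullback.fst _ _ = pr ≫ f.left := pullback.lift_fst _ _ _
      have h2 : b ≫ pullback.fst _ _ = pr ≫ g.left := pullback.lift_fst _ _ _
      rw [← h1, ← h2, hab]
    -- `x` is in the range of `pr`
    obtain ⟨z, hz1, -⟩ := Scheme.Pullback.exists_preimage_pullback (f := X.hom)
      (g := S.fromSpecResidueField s) x (IsLocalRing.closedPoint _) (by
        rw [Scheme.fromSpecResidueField_apply])
    refine ⟨equalizer.lift pr hprfg z, ?_⟩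
    rw [← Scheme.Hom.comp_apply, equalizer.lift_ι]
    exact hz1
  have hiso : IsIso e :=
    isIso_of_immersion_of_surjective e hsurj U hUX (equalizer.lift U.ι h) (equalizer.lift_ι _ _)
  exact (cancel_epi e).1 (equalizer.condition f.left g.left)

end Groth.Agent.S5434
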