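import Groth.Statements.S5446
import Groth.Agent.Lib.Helper3.RootD
import Groth.Agent.S5445
import Groth.Agent.S5456
import Groth.Agent.S5449
import Groth.Agent.S5450

set_option autoImplicit false
open RootD

namespace Groth.Agent.S5446

open Groth.Agent.Lib.helper3.RootDLib

/-- If the roots indexed by Δ are indivisible and linearly independent and every root is, up to sign, a
non-negative rational combination of them (some positive multiple is a non-negative integer
combination), then Δ is a system of simple roots: every root is, up to sign, a non-negative integer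
combination of Δ. -/
theorem result {ι M N : Type*} [AddCommGroup M] [AddCommGroup N]
    (P : RootPairing ι ℤ M N) [Finite ι] (Δ : Set ι)
    (hind : ∀ i ∈ Δ, RootD.IsIndiv P i) (hli : LinearIndepOn ℤ P.root Δ)
    (hcone : ∀ k : ι, ∃ n : ℕ, 0 < n ∧
      (n • P.root k ∈ RootD.natSpan P Δ ∨ n • (-P.root k) ∈ RootD.natSpan P Δ)) :
    RootD.IsSimpleSys P Δ := by
  classical
  have : Module.IsReflexive ℤ M := isReflexive_left P
  have hrefl0 : ∀ (t : ℤ) (i : ι), t • P.root i = 0 → t = 0 := by
    intro t i h
    rcases smul_eq_zero.mp h with h | h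
    · exact h
    · exact absurd h (P.ne_zero i)
  set S : Set ι := {k | ∃ n : ℕ, 0 < n ∧ n • P.root k ∈ natSpan P Δ} with hSdef
  have hΔS : Δ ⊆ S := fun i hi => ⟨1, Nat.one_pos, by rw [one_smul]; exact root_mem_natSpan P hi⟩
  have hS : IsPosSys P S := by
    rw [Groth.Agent.S5456.result P S]
    refine ⟨?_, ?_, ?_⟩
    · rintro k ⟨n, hn, hk⟩ ⟨m, hm, hk'⟩
      rw [root_neg] at hk'
      obtain ⟨c, hc, hc0, hck⟩ := exists_finsupp_of_mem_natSpan P hk
      obtain ⟨c', hc', hc'0, hc'k⟩ := exists_finsupp_of_mem_natSpan P hk'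
      have h0 : (m : ℤ) • c + (n : ℤ) • c' = 0 := by
        have := finsupp_eq_of_linearCombination_eq P hli
          (c := (m : ℤ) • c + (n : ℤ) • c') (d := 0)
          (Submodule.add_mem _ (Submodule.smul_mem _ _ hc) (Submodule.smul_mem _ _ hc'))
          (Submodule.zero_mem _)
          (by
            rw [map_add, map_smul, map_smul, hck, hc'k, map_zero, natCast_zsmul, natCast_zsmul,
              smul_neg, smul_neg, smul_comm m n, add_neg_cancel])
        exact this
      have h1 : (m : ℤ) • c = 0 := by
        apply eq_zero_of_add_eq_zero (c := (m : ℤ) • c) (d := (n : ℤ) • c') _ _ h0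
        · intro j
          simp only [Finsupp.coe_smul, Pi.smul_apply, smul_eq_mul]
          exact mul_nonneg (by positivity) (hc0 j)
        · intro j
          simp only [Finsupp.coe_smul, Pi.smul_apply, smul_eq_mul]
          exact mul_nonneg (by positivity) (hc'0 j)
      have hc00 : c = 0 := by
        rcases smul_eq_zero.mp h1 with h | h
        · exfalso
          have : (0 : ℤ) < m := by exact_mod_cast hm
          omega
        · exact h
      rw [hc00, map_zero, ← natCast_zsmul] at hck
      have := hrefl0 _ _ hck.symm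
      have : (0 : ℤ) < n := by exact_mod_cast hn
      omega
    · intro k
      obtain ⟨n, hn, h | h⟩ := hcone k
      · exact Or.inl ⟨n, hn, h⟩
      · exact Or.inr ⟨n, hn, by rw [root_neg]; exact h⟩
    · rintro i j k ⟨n, hn, hi⟩ ⟨m, hm, hj⟩ hk
      refine ⟨n * m, Nat.mul_pos hn hm, ?_⟩
      rw [hk, smul_add]
      apply add_mem
      · rw [mul_comm, mul_smul]
        exact AddSubmonoid.nsmul_mem _ hi _
      · rw [mul_smul]
        exact AddSubmonoid.nsmul_mem _ hj _
  obtain ⟨Δ₀, ⟨hΔ₀, hΔ₀S⟩, _⟩ := Groth.Agent.S5445.result P S hS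
  have hSeq : S = posOf P Δ₀ := ((Groth.Agent.S5449.result P Δ₀ hΔ₀ S hS).2).mp hΔ₀S
  -- proportionality analysis
  have hprop : ∀ i ∈ Δ, ∀ (k : ι) (n : ℕ) (a : ℤ), 0 < n → 0 ≤ a →
      n • P.root k = a • P.root i → (n : ℤ) ≤ a := by
    intro i hi k n a hn ha hka
    have hn' : (0 : ℤ) < n := by exact_mod_cast hn
    have hnli : ¬ LinearIndependent ℤ ![P.root i, P.root k] := by
      intro hli'
      rw [LinearIndependent.pair_iff] at hli'
      have := hli' a (-(n : ℤ)) (by rw [neg_smul, natCast_zsmul, hka]; abel)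
      omega
    rw [← natCast_zsmul] at hka
    rcases proportional_cases P i k hnli with h | h | h | h | h | h
    · rw [h, ← sub_eq_zero, ← sub_smul] at hka
      have := hrefl0 _ _ hka
      omega
    · rw [h, smul_neg, ← neg_smul, ← sub_eq_zero, ← sub_smul] at hka
      have := hrefl0 _ _ hka
      omega
    · rw [h, smul_smul, ← sub_eq_zero, ← sub_smul] at hka
      have := hrefl0 _ _ hka
      omega
    · rw [h, smul_neg, smul_smul, ← neg_smul, ← sub_eq_zero, ← sub_smul] at hka
      have := hrefl0 _ _ hka
      omega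
    · exact absurd h.symm (hind i hi k)
    · exfalso
      apply hind i hi (P.reflectionPerm k k)
      rw [root_neg, h, smul_neg]
  have hsub1 : Δ ⊆ Δ₀ := by
    intro i hi
    have hiS : i ∈ posOf P Δ₀ := hSeq ▸ hΔS hi
    rw [Groth.Agent.S5450.result P Δ₀ hΔ₀ i hiS]
    rintro ⟨k, l, hk, hl, hikl⟩
    rw [← hSeq] at hk hl
    obtain ⟨n, hn, hk⟩ := hk
    obtain ⟨m, hm, hl⟩ := hl
    obtain ⟨c, hc, hc0, hck⟩ := exists_finsupp_of_mem_natSpan P hk
    obtain ⟨d, hd, hd0, hdl⟩ := exists_finsupp_of_mem_natSpan P hl
    have heq : ((n * m : ℕ) : ℤ) • Finsupp.single i (1 : ℤ) = (m : ℤ) • c + (n : ℤ) • d := by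
      apply finsupp_eq_of_linearCombination_eq P hli
      · exact Submodule.smul_mem _ _ (Finsupp.single_mem_supported ℤ 1 hi)
      · exact Submodule.add_mem _ (Submodule.smul_mem _ _ hc) (Submodule.smul_mem _ _ hd)
      · rw [map_add, map_smul, map_smul, map_smul, hck, hdl, Finsupp.linearCombination_single,
          one_smul, hikl, natCast_zsmul, natCast_zsmul, natCast_zsmul, smul_add, mul_smul,
          mul_comm, mul_smul, smul_comm n m (P.root k), smul_comm m n (P.root l)]
    have hoff : ∀ j, j ≠ i → c j = 0 ∧ d j = 0 := by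
      intro j hj
      have h1 := DFunLike.congr_fun heq j
      simp only [Finsupp.coe_smul, Finsupp.coe_add, Pi.smul_apply, Pi.add_apply, smul_eq_mul,
        Finsupp.single_eq_of_ne hj, mul_zero] at h1
      have hn' : (0 : ℤ) < n := by exact_mod_cast hn
      have hm' : (0 : ℤ) < m := by exact_mod_cast hm
      have h2 := mul_nonneg hm'.le (hc0 j)
      have h3 := mul_nonneg hn'.le (hd0 j)
      have h4 : (m : ℤ) * c j = 0 := by omega
      have h5 : (n : ℤ) * d j = 0 := by omega
      rcases mul_eq_zero.mp h4 with h | h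
      · omega
      · rcases mul_eq_zero.mp h5 with h' | h'
        · omega
        · exact ⟨h, h'⟩
    have hc_eq : c = Finsupp.single i (c i) := by
      ext j
      by_cases hj : j = i
      · subst hj; simp
      · rw [Finsupp.single_eq_of_ne hj, (hoff j hj).1]
    have hd_eq : d = Finsupp.single i (d i) := by
      ext j
      by_cases hj : j = i
      · subst hj; simp
      · rw [Finsupp.single_eq_of_ne hj, (hoff j hj).2]
    rw [hc_eq, Finsupp.linearCombination_single] at hck
    rw [hd_eq, Finsupp.linearCombination_single] at hdl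
    have h1 := hprop i hi k n (c i) hn (hc0 i) hck.symm
    have h2 := hprop i hi l m (d i) hm (hd0 i) hdl.symm
    have h3 := DFunLike.congr_fun heq i
    simp only [Finsupp.coe_smul, Finsupp.coe_add, Pi.smul_apply, Pi.add_apply, smul_eq_mul,
      Finsupp.single_eq_same, mul_one] at h3
    have hn' : (0 : ℤ) < n := by exact_mod_cast hn
    have hm' : (0 : ℤ) < m := by exact_mod_cast hm
    push_cast at h3
    nlinarith
  have hsub2 : Δ₀ ⊆ Δ := by
    intro β hβ
    obtain ⟨n, hn, hk⟩ := hΔ₀S hβ
    obtain ⟨c, hc, hc0, hck⟩ := exists_finsupp_of_mem_natSpan P hk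
    have heq : (n : ℤ) • Finsupp.single β (1 : ℤ) = c := by
      apply finsupp_eq_of_linearCombination_eq P hΔ₀.linInd
      · exact Submodule.smul_mem _ _ (Finsupp.single_mem_supported ℤ 1 hβ)
      · exact Finsupp.supported_mono hsub1 hc
      · rw [map_smul, Finsupp.linearCombination_single, one_smul, hck, natCast_zsmul]
    have h1 := DFunLike.congr_fun heq β
    simp only [Finsupp.coe_smul, Pi.smul_apply, smul_eq_mul, Finsupp.single_eq_same, mul_one] at h1
    have hne : c β ≠ 0 := by
      have hn' : (0 : ℤ) < n := by exact_mod_cast hn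
      omega
    exact hc (Finsupp.mem_support_iff.mpr hne)
  have : Δ = Δ₀ := Set.Subset.antisymm hsub1 hsub2
  rw [this]
  exact hΔ₀

end Groth.Agent.S5446
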