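import Groth.Statements.S5447
import Groth.Agent.Lib.Helper3.RootD
import Groth.Agent.S5445

set_option autoImplicit false
open RootD

namespace Groth.Agent.S5447

open Groth.Agent.Lib.helper3.RootDLib

/-- If every root can be written in exactly one way as an integer combination of the roots indexed by Δ
with coefficients all of the same sign, then these roots are linearly independent (so Δ is a system
of simple roots) and indivisible. -/
theorem result {ι M N : Type*} [AddCommGroup M] [AddCommGroup N]
    (P : RootPairing ι ℤ M N) [Finite ι] (Δ : Set ι)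
    (h : ∀ k : ι, ∃! c : ι →₀ ℤ, (↑c.support ⊆ Δ ∧ ((∀ j, 0 ≤ c j) ∨ (∀ j, c j ≤ 0)) ∧
      Finsupp.linearCombination ℤ P.root c = P.root k)) :
    RootD.IsSimpleSys P Δ ∧ ∀ i ∈ Δ, RootD.IsIndiv P i := by
  classical
  have : Module.IsReflexive ℤ M := isReflexive_left P
  have : Fintype ι := Fintype.ofFinite ι
  have hsingle_supp : ∀ i ∈ Δ, ((Finsupp.single i (1 : ℤ)).support : Set ι) ⊆ Δ := by
    intro i hi
    exact (Finsupp.mem_supported ℤ _).mp (Finsupp.single_mem_supported ℤ 1 hi)
  have hsingle0 : ∀ (i j : ι), 0 ≤ (Finsupp.single i (1 : ℤ)) j := by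
    intro i j
    rw [Finsupp.single_apply]; split_ifs <;> norm_num
  have hsingle_lc : ∀ i : ι, Finsupp.linearCombination ℤ P.root (Finsupp.single i (1 : ℤ)) =
      P.root i := by
    intro i
    rw [Finsupp.linearCombination_single, one_smul]
  -- the positive system
  have hcl : IsClosedSub P (posOf P Δ) := by
    intro i j k hi hj hk
    change P.root k ∈ natSpan P Δ
    rw [hk]
    exact add_mem hi hj
  have hP1 : ∀ i ∈ posOf P Δ, P.reflectionPerm i i ∉ posOf P Δ := by
    intro k hk hnk
    change P.root _ ∈ natSpan P Δ at hnk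
    rw [root_neg] at hnk
    obtain ⟨c, hc, hc0, hck⟩ := exists_finsupp_of_mem_natSpan P hk
    obtain ⟨c', hc', hc'0, hc'k⟩ := exists_finsupp_of_mem_natSpan P hnk
    have e := (h k).unique ⟨(Finsupp.mem_supported ℤ c).mp hc, Or.inl hc0, hck⟩
      ⟨(Finsupp.mem_supported ℤ (-c')).mp (Submodule.neg_mem _ hc'),
        Or.inr (fun j => by simpa using hc'0 j), by rw [map_neg, hc'k, neg_neg]⟩
    have hc00 : c = 0 := by
      ext j
      have h1 := hc0 j
      have h2 := hc'0 j
      have h3 := DFunLike.congr_fun e j
      simp only [Finsupp.coe_neg, Pi.neg_apply] at h3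
      simp only [Finsupp.coe_zero, Pi.zero_apply]
      omega
    rw [hc00, map_zero] at hck
    exact P.ne_zero k hck.symm
  have hobt : ∀ i ∈ Δ, ∀ j ∈ Δ, i ≠ j → P.pairing i j ≤ 0 := by
    intro i hi j hj hij
    by_contra hpos
    push Not at hpos
    have hpos' : 0 < P.pairingIn ℤ i j := by rw [pairingIn_eq]; exact hpos
    obtain ⟨k, hk⟩ := P.root_sub_root_mem_of_pairingIn_pos hpos' hij
    obtain ⟨c, ⟨hcs, hsign, hck⟩, _⟩ := h k
    rcases hsign with hc0 | hc0
    · have e := (h i).unique
        ⟨(Finsupp.mem_supported ℤ (c + Finsupp.single j 1)).mp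
          (Submodule.add_mem _ ((Finsupp.mem_supported ℤ c).mpr hcs)
            (Finsupp.single_mem_supported ℤ 1 hj)),
          Or.inl (fun l => add_nonneg (hc0 l) (hsingle0 j l)),
          by rw [map_add, hck, hsingle_lc, hk]; abel⟩
        ⟨hsingle_supp i hi, Or.inl (hsingle0 i), hsingle_lc i⟩
      have h3 := DFunLike.congr_fun e j
      simp only [Finsupp.coe_add, Pi.add_apply, Finsupp.single_eq_same] at h3
      rw [Finsupp.single_eq_of_ne hij.symm] at h3
      have := hc0 j
      omega
    · have e := (h j).unique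
        ⟨(Finsupp.mem_supported ℤ (Finsupp.single i 1 - c)).mp
          (Submodule.sub_mem _ (Finsupp.single_mem_supported ℤ 1 hi)
            ((Finsupp.mem_supported ℤ c).mpr hcs)),
          Or.inl (fun l => sub_nonneg.mpr (le_trans (hc0 l) (hsingle0 i l))),
          by rw [map_sub, hck, hsingle_lc, hk]; abel⟩
        ⟨hsingle_supp j hj, Or.inl (hsingle0 j), hsingle_lc j⟩
      have h3 := DFunLike.congr_fun e i
      simp only [Finsupp.coe_sub, Pi.sub_apply, Finsupp.single_eq_same] at h3
      rw [Finsupp.single_eq_of_ne hij] at h3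
      have := hc0 i
      omega
  refine ⟨⟨Groth.Agent.S5445.linInd_of_obtuse P hcl hP1 (subset_posOf P Δ) hobt, ?_⟩, ?_⟩
  · intro k
    obtain ⟨c, ⟨hcs, hsign, hck⟩, _⟩ := h k
    rcases hsign with hc0 | hc0
    · left
      rw [← hck]
      exact linearCombination_mem_natSpan P c ((Finsupp.mem_supported ℤ c).mpr hcs) hc0
    · right
      rw [← hck, ← map_neg]
      exact linearCombination_mem_natSpan P (-c)
        (Submodule.neg_mem _ ((Finsupp.mem_supported ℤ c).mpr hcs))
        (fun j => by simpa using hc0 j)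
  · intro i hi j hj
    obtain ⟨c, ⟨hcs, hsign, hck⟩, _⟩ := h j
    have e := (h i).unique
      ⟨(Finsupp.mem_supported ℤ ((2 : ℤ) • c)).mp
        (Submodule.smul_mem _ _ ((Finsupp.mem_supported ℤ c).mpr hcs)),
        (by
          rcases hsign with hc0 | hc0
          · left; intro l
            have := hc0 l
            simp only [Finsupp.coe_smul, Pi.smul_apply, smul_eq_mul]; omega
          · right; intro l
            have := hc0 l
            simp only [Finsupp.coe_smul, Pi.smul_apply, smul_eq_mul]; omega),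
        by rw [map_smul, hck, hj]⟩
      ⟨hsingle_supp i hi, Or.inl (hsingle0 i), hsingle_lc i⟩
    have h3 := DFunLike.congr_fun e i
    simp only [Finsupp.coe_smul, Pi.smul_apply, smul_eq_mul, Finsupp.single_eq_same] at h3
    omega

end Groth.Agent.S5447
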