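import Groth.Statements.S5451
import Groth.Agent.Lib.Helper3.RootD6
import Groth.Agent.S5445

set_option autoImplicit false
open RootD

namespace Groth.Agent.S5451

open Groth.Agent.Lib.helper3.RootDLib

/-- If a root is a positive integer combination of roots α_i, then it can be reached from 0 by
successively adding roots taken among the α_i in such a way that every partial sum is a root. -/
theorem result {ι M N : Type*} [AddCommGroup M] [AddCommGroup N]
    (P : RootPairing ι ℤ M N) [Finite ι] {n : ℕ} (a : Fin n → ι) (m : Fin n → ℕ)
    (hm : ∀ i, 0 < m i) (k : ι) (hk : P.root k = ∑ i, m i • P.root (a i)) :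
    ∃ (l : ℕ) (b : Fin l → Fin n), 0 < l ∧
      (∀ p : Fin l, ∃ j : ι, P.root j = ∑ q ∈ Finset.univ.filter (fun q : Fin l => q.val ≤ p.val), P.root (a (b q))) ∧
      P.root k = ∑ q, P.root (a (b q)) := by
  classical
  have : Module.IsReflexive ℤ M := isReflexive_left P
  have : Fintype ι := Fintype.ofFinite ι
  clear hm
  have main : ∀ (N : ℕ) (m : Fin n → ℕ) (k : ι), ∑ i, m i = N →
      P.root k = ∑ i, m i • P.root (a i) →
      ∃ (l : ℕ) (b : Fin l → Fin n), 0 < l ∧
      (∀ p : Fin l, ∃ j : ι, P.root j =
        ∑ q ∈ Finset.univ.filter (fun q : Fin l => q.val ≤ p.val), P.root (a (b q))) ∧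
      P.root k = ∑ q, P.root (a (b q)) := by
    intro N
    induction N with
    | zero =>
      intro m k hsum hk
      exfalso
      have hm0 : ∀ i, m i = 0 := by
        intro i
        have := (Finset.sum_eq_zero_iff.mp hsum) i (Finset.mem_univ i)
        exact this
      apply P.ne_zero k
      rw [hk]
      apply Finset.sum_eq_zero
      intro i _
      rw [hm0 i, zero_smul]
    | succ N ih =>
      intro m k hsum hk
      have hpos : 0 < P.RootForm (P.root k) (P.root k) := rootForm_root_pos P k
      have hexp : P.RootForm (P.root k) (P.root k) =
          ∑ i, (m i : ℤ) * P.RootForm (P.root k) (P.root (a i)) := by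
        conv_lhs => rw [hk]
        rw [map_sum]
        apply Finset.sum_congr rfl
        intro i _
        rw [← natCast_zsmul, map_smul, smul_eq_mul, ← hk]
      rw [hexp] at hpos
      obtain ⟨i, _, hi⟩ := Finset.exists_lt_of_sum_lt (s := Finset.univ) (f := fun _ => (0 : ℤ))
        (g := fun i => (m i : ℤ) * P.RootForm (P.root k) (P.root (a i))) (by simpa using hpos)
      have hi' : 0 < (m i : ℤ) * P.RootForm (P.root k) (P.root (a i)) := hi
      have hmi : 0 < m i := by
        by_contra h
        have : m i = 0 := by omega
        rw [this] at hi'
        simp at hi'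
      have hform : 0 < P.RootForm (P.root k) (P.root (a i)) := by
        by_contra hcon
        push Not at hcon
        have h3 := mul_nonpos_of_nonneg_of_nonpos (Int.natCast_nonneg (m i)) hcon
        omega
      have hpair : 0 < P.pairing k (a i) := by
        by_contra hcon
        push Not at hcon
        have := Groth.Agent.S5445.rootForm_root_root_nonpos P k (a i) hcon
        omega
      by_cases hka : k = a i
      · refine ⟨1, fun _ => i, Nat.one_pos, ?_, ?_⟩
        · intro p
          refine ⟨k, ?_⟩
          have hp : p = 0 := Subsingleton.elim _ _
          subst hp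
          have : (Finset.univ.filter (fun q : Fin 1 => q.val ≤ (0 : Fin 1).val)) = {0} := by
            ext q
            have hq : q = 0 := Subsingleton.elim _ _
            subst hq
            simp
          rw [this, Finset.sum_singleton, hka]
        · rw [Fin.sum_univ_one, hka]
      · have hpair' : 0 < P.pairingIn ℤ k (a i) := by rw [pairingIn_eq]; exact hpair
        obtain ⟨k', hk'⟩ := P.root_sub_root_mem_of_pairingIn_pos hpair' hka
        set m' : Fin n → ℕ := fun j => if j = i then m i - 1 else m j with hm'
        have hmm' : ∀ j, m j = m' j + (if j = i then 1 else 0) := by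
          intro j
          rw [hm']
          by_cases hj : j = i
          · subst hj; simp; omega
          · simp [hj]
        have hsum' : ∑ j, m' j = N := by
          have h1 : ∑ j, m j = ∑ j, m' j + 1 := by
            rw [Finset.sum_congr rfl (fun j _ => hmm' j), Finset.sum_add_distrib]
            simp
          omega
        have hk'sum : P.root k' = ∑ j, m' j • P.root (a j) := by
          have h1 : ∑ j, m j • P.root (a j) = ∑ j, m' j • P.root (a j) + P.root (a i) := by
            rw [Finset.sum_congr rfl (fun j _ => by rw [hmm' j, add_smul]),
              Finset.sum_add_distrib]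
            congr 1
            rw [Finset.sum_eq_single i]
            · simp
            · intro j _ hj; simp [hj]
            · intro h; exact absurd (Finset.mem_univ i) h
          rw [hk', hk, h1]
          abel
        obtain ⟨l', b', _, hpart, htot⟩ := ih m' k' hsum' hk'sum
        refine ⟨l' + 1, Fin.snoc b' i, Nat.succ_pos _, ?_, ?_⟩
        · intro p
          refine Fin.lastCases ?_ (fun p' => ?_) p
          · refine ⟨k, ?_⟩
            have : (Finset.univ.filter (fun q : Fin (l' + 1) => q.val ≤ (Fin.last l').val)) =
                Finset.univ := by
              ext q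
              simp only [Finset.mem_filter, Finset.mem_univ, true_and, Fin.val_last, iff_true]
              exact Nat.le_of_lt_succ q.isLt
            rw [this, Fin.sum_univ_castSucc]
            simp only [Fin.snoc_castSucc, Fin.snoc_last]
            rw [← htot, hk']
            abel
          · obtain ⟨j, hj⟩ := hpart p'
            refine ⟨j, ?_⟩
            rw [hj, Finset.sum_filter, Finset.sum_filter, Fin.sum_univ_castSucc]
            simp only [Fin.snoc_castSucc, Fin.val_castSucc, Fin.val_last]
            rw [if_neg (by have := p'.isLt; omega), add_zero]
        · rw [Fin.sum_univ_castSucc]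
          simp only [Fin.snoc_castSucc, Fin.snoc_last]
          rw [← htot, hk']
          abel
  exact main _ m k rfl hk

end Groth.Agent.S5451
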