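import Groth.Statements.S5453
import Groth.Agent.Lib.Helper3.RootD5
import Groth.Agent.S5449

set_option autoImplicit false
open RootPairing
open scoped Pointwise
open RootD

namespace Groth.Agent.S5453

open Groth.Agent.Lib.helper3.RootDLib

/-- If S is a system of positive roots and P' is a closed set of roots containing each root or its
opposite, then w(S) ⊆ P' for some w in the Weyl group. -/
theorem result {ι M N : Type*} [AddCommGroup M] [AddCommGroup N]
    (P : RootPairing ι ℤ M N) [Finite ι] (S : Set ι) (hS : RootD.IsPosSys P S)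
    (P' : Set ι) (hP2 : ∀ i : ι, i ∈ P' ∨ P.reflectionPerm i i ∈ P') (hcl : RootD.IsClosedSub P P') :
    ∃ g : P.Aut, g ∈ P.weylGroup ∧ (fun i : ι => g • i) '' S ⊆ P' := by
  classical
  obtain ⟨Δ, ⟨hΔ, hΔS⟩, _⟩ := Groth.Agent.S5445.result P S hS
  have hSeq : S = posOf P Δ := ((Groth.Agent.S5449.result P Δ hΔ S hS).2).mp hΔS
  have main : ∀ (n : ℕ) (g : P.Aut), g ∈ P.weylGroup →
      (posOf P ((fun i : ι => g • i) '' Δ) \ P').ncard = n →
      ∃ w : P.Aut, w ∈ P.weylGroup ∧ (fun i : ι => w • i) '' S ⊆ P' := by
    intro n
    induction n using Nat.strong_induction_on with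
    | _ n ih =>
      intro g hg hn
      have hΔg : IsSimpleSys P ((fun i : ι => g • i) '' Δ) := isSimpleSys_image P g hΔ
      by_cases hsub : (fun i : ι => g • i) '' Δ ⊆ P'
      · refine ⟨g, hg, ?_⟩
        rw [hSeq, ← posOf_image]
        exact posOf_subset_of_closed P hΔg hcl hsub
      · obtain ⟨i, hiΔg, hiP'⟩ := Set.not_subset.mp hsub
        have hnegi : P.reflectionPerm i i ∈ P' := (hP2 i).resolve_left hiP'
        have h1 : ∀ k, P.root k = -P.root i → k ∈ P' := by
          intro k hk
          have : k = P.reflectionPerm i i := P.root.injective (by rw [root_neg, hk])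
          rw [this]; exact hnegi
        have h2 : ∀ k, P.root k = -((2 : ℤ) • P.root i) → k ∈ P' := by
          intro k hk
          apply hcl hnegi hnegi
          rw [root_neg, hk, two_smul, neg_add]
        have hss := posOf_reflection_image_sdiff_ssubset P hΔg hiΔg P' hiP' h1 h2
        have himage : (fun j : ι => Equiv.reflection P i • j) '' ((fun i : ι => g • i) '' Δ) =
            (fun j : ι => (Equiv.reflection P i * g) • j) '' Δ := by
          rw [Set.image_image]; simp only [mul_smul]
        rw [himage] at hss
        have hlt := Set.ncard_lt_ncard hss (Set.toFinite _)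
        rw [hn] at hlt
        exact ih _ hlt (Equiv.reflection P i * g)
          (mul_mem (P.reflection_mem_weylGroup i) hg) rfl
  exact main _ 1 (one_mem _) rfl

end Groth.Agent.S5453
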