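import Groth.Statements.S5458
import Groth.Agent.Lib.Helper3.RootD5
import Groth.Agent.S5449

set_option autoImplicit false
open RootD

namespace Groth.Agent.S5458

open Groth.Agent.Lib.helper3.RootDLib

/-- Let S be a system of positive roots with simple system Δ ⊆ S and let P' ⊇ S be a closed set of
roots; with Δ' the set of simple roots whose opposite lies in P', the set P' is the union of S and
of the roots that are non-positive integer combinations of Δ'. -/
theorem result {ι M N : Type*} [AddCommGroup M] [AddCommGroup N]
    (P : RootPairing ι ℤ M N) [Finite ι] (S : Set ι) (hS : RootD.IsPosSys P S) (Δ : Set ι)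
    (hΔ : RootD.IsSimpleSys P Δ) (hΔS : Δ ⊆ S) (P' : Set ι) (hcl : RootD.IsClosedSub P P')
    (hSP : S ⊆ P') :
    P' = S ∪ {k : ι | -P.root k ∈ RootD.natSpan P {i : ι | i ∈ Δ ∧ P.reflectionPerm i i ∈ P'}} := by
  classical
  have hSeq : S = posOf P Δ := ((Groth.Agent.S5449.result P Δ hΔ S hS).2).mp hΔS
  set Δ' : Set ι := {i : ι | i ∈ Δ ∧ P.reflectionPerm i i ∈ P'} with hΔ'
  have hΔ'Δ : Δ' ⊆ Δ := fun i hi => hi.1
  have hnegneg : ∀ k : ι, P.reflectionPerm (P.reflectionPerm k k) (P.reflectionPerm k k) = k := by
    intro k
    apply P.root.injective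
    rw [root_neg, root_neg, neg_neg]
  have hΔP' : Δ ⊆ P' := fun i hi => hSP (hΔS hi)
  -- claim A
  have hA : ∀ j ∈ posOf P Δ, P.reflectionPerm j j ∈ P' → P.root j ∈ natSpan P Δ' := by
    apply posOf_induction P hΔ
    · intro i hi hneg
      exact root_mem_natSpan P ⟨hi, hneg⟩
    · intro k' hk' i hi k hk ih hneg
      have hnegk' : P.reflectionPerm k' k' ∈ P' := by
        apply hcl hneg (hΔP' hi)
        rw [root_neg, root_neg, hk]; abel
      have hnegi : P.reflectionPerm i i ∈ P' := by
        apply hcl hneg (hSP (hSeq ▸ hk'))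
        rw [root_neg, root_neg, hk]; abel
      rw [hk]
      exact add_mem (ih hnegk') (root_mem_natSpan P ⟨hi, hnegi⟩)
  -- claim B
  have hB : ∀ j ∈ posOf P Δ, P.root j ∈ natSpan P Δ' → P.reflectionPerm j j ∈ P' := by
    apply posOf_induction P hΔ
    · intro i hi hmem
      obtain ⟨c, hc, hc0, hck⟩ := exists_finsupp_of_mem_natSpan P hmem
      have heq : Finsupp.single i (1 : ℤ) = c := by
        apply finsupp_eq_of_linearCombination_eq P hΔ.linInd
          (Finsupp.single_mem_supported ℤ 1 hi) (Finsupp.supported_mono hΔ'Δ hc)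
        rw [Finsupp.linearCombination_single, one_smul, hck]
      have hne : c i ≠ 0 := by rw [← heq]; simp
      exact (hc (Finsupp.mem_support_iff.mpr hne)).2
    · intro k' hk' i hi k hk ih hmem
      obtain ⟨c, hc, hc0, hck⟩ := exists_finsupp_of_mem_natSpan P hmem
      obtain ⟨d, hd, hd0, hdk⟩ := exists_finsupp_of_mem_natSpan P hk'
      have heq : c = d + Finsupp.single i (1 : ℤ) := by
        apply finsupp_eq_of_linearCombination_eq P hΔ.linInd (Finsupp.supported_mono hΔ'Δ hc)
          (Submodule.add_mem _ hd (Finsupp.single_mem_supported ℤ 1 hi))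
        rw [map_add, Finsupp.linearCombination_single, one_smul, hck, hdk, hk]
      have hoff : ∀ j, j ∉ Δ' → d j = 0 ∧ (Finsupp.single i (1 : ℤ)) j = 0 := by
        intro j hj
        have hcj : c j = 0 := by
          by_contra h
          exact hj (hc (Finsupp.mem_support_iff.mpr h))
        have h1 := DFunLike.congr_fun heq j
        simp only [Finsupp.coe_add, Pi.add_apply] at h1
        have h2 := hd0 j
        have h3 : 0 ≤ (Finsupp.single i (1 : ℤ)) j := by
          rw [Finsupp.single_apply]; split_ifs <;> norm_num
        constructor <;> omega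
      have hiΔ' : i ∈ Δ' := by
        by_contra hni
        have := (hoff i hni).2
        simp at this
      have hdΔ' : d ∈ Finsupp.supported ℤ ℤ Δ' := by
        rw [Finsupp.mem_supported]
        intro j hj
        by_contra hjn
        exact (Finsupp.mem_support_iff.mp hj) (hoff j hjn).1
      have hk'mem : P.root k' ∈ natSpan P Δ' := by
        rw [← hdk]
        exact linearCombination_mem_natSpan P d hdΔ' hd0
      apply hcl (ih hk'mem) hiΔ'.2
      rw [root_neg, root_neg, root_neg, hk]; abel
  ext k
  constructor
  · intro hk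
    by_cases hkS : k ∈ S
    · exact Or.inl hkS
    · right
      have hneg : P.reflectionPerm k k ∈ S := (hS.cover k).resolve_left hkS
      have h1 := hA _ (hSeq ▸ hneg) (by rw [hnegneg]; exact hk)
      rw [root_neg] at h1
      exact h1
  · rintro (hk | hk)
    · exact hSP hk
    · have hk' : -P.root k ∈ natSpan P Δ' := hk
      have hpos : P.reflectionPerm k k ∈ posOf P Δ := by
        change P.root _ ∈ natSpan P Δ
        rw [root_neg]
        exact natSpan_mono P hΔ'Δ hk'
      have h1 := hB _ hpos (by rw [root_neg]; exact hk')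
      rw [hnegneg] at h1
      exact h1

end Groth.Agent.S5458
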