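import Groth.Statements.S5459
import Groth.Agent.Lib.Helper3.RootD5
import Groth.Agent.S5449
import Groth.Agent.S5453
import Groth.Agent.S5458

set_option autoImplicit false
open RootD

namespace Groth.Agent.S5459

open Groth.Agent.Lib.helper3.RootDLib

/-- A closed set of roots containing each root or its opposite is, for a suitable system of simple roots
Δ and a subset Δ' ⊆ Δ, the set of roots lying in ℕΔ ∪ (-ℕΔ'). -/
theorem result {ι M N : Type*} [AddCommGroup M] [AddCommGroup N]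
    (P : RootPairing ι ℤ M N) [Finite ι] (P' : Set ι)
    (hP2 : ∀ i : ι, i ∈ P' ∨ P.reflectionPerm i i ∈ P') (hcl : RootD.IsClosedSub P P') :
    ∃ Δ Δ' : Set ι, RootD.IsSimpleSys P Δ ∧ Δ' ⊆ Δ ∧
      P' = RootD.posOf P Δ ∪ {k : ι | -P.root k ∈ RootD.natSpan P Δ'} := by
  obtain ⟨S₀, hS₀⟩ := exists_isPosSys P
  obtain ⟨g, hg, hgS⟩ := Groth.Agent.S5453.result P S₀ hS₀ P' hP2 hcl
  obtain ⟨Δ₀, ⟨hΔ₀, hΔ₀S⟩, _⟩ := Groth.Agent.S5445.result P S₀ hS₀
  have hSeq : S₀ = posOf P Δ₀ := ((Groth.Agent.S5449.result P Δ₀ hΔ₀ S₀ hS₀).2).mp hΔ₀S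
  have hΔ : IsSimpleSys P ((fun i : ι => g • i) '' Δ₀) := isSimpleSys_image P g hΔ₀
  have hsub : posOf P ((fun i : ι => g • i) '' Δ₀) ⊆ P' := by
    rw [posOf_image, ← hSeq]
    exact hgS
  refine ⟨(fun i : ι => g • i) '' Δ₀,
    {i : ι | i ∈ (fun i : ι => g • i) '' Δ₀ ∧ P.reflectionPerm i i ∈ P'}, hΔ, fun i hi => hi.1, ?_⟩
  exact Groth.Agent.S5458.result P _ (isPosSys_posOf P hΔ) _ hΔ (subset_posOf P _) P' hcl hsub

end Groth.Agent.S5459
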