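import Groth.Statements.S5461
import Groth.Agent.Lib.Helper3.RootD10
import Groth.Agent.S5450

set_option autoImplicit false
open RootD

namespace Groth.Agent.S5461

open Groth.Agent.Lib.helper3.RootDLib

/-- If R' is the trace of a vector subspace on the roots, every system of simple roots Δ' of the root
datum with roots R' is contained in a system of simple roots Δ of the whole datum, and R' is the set
of roots in the span of Δ'. -/
theorem result {ι M N : Type*} [AddCommGroup M] [AddCommGroup N]
    (P : RootPairing ι ℤ M N) [Finite ι] (R' : Set ι)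
    (hsat : ∀ k : ι, (∃ n : ℕ, 0 < n ∧ n • P.root k ∈ Submodule.span ℤ (P.root '' R')) → k ∈ R')
    (Δ' : Set ι) (hΔ'R : Δ' ⊆ R') (hli : LinearIndepOn ℤ P.root Δ')
    (hgen : ∀ k ∈ R', P.root k ∈ RootD.natSpan P Δ' ∨ -P.root k ∈ RootD.natSpan P Δ') :
    ∃ Δ : Set ι, RootD.IsSimpleSys P Δ ∧ Δ' ⊆ Δ ∧ R' = RootD.inSpan P Δ' := by
  classical
  obtain ⟨n, φ, hφ⟩ := exists_hom_vanishing P R' hsat
  -- basic facts on natSpan Δ'
  have hzero : ∀ x : M, x ∈ natSpan P Δ' → -x ∈ natSpan P Δ' → x = 0 := by
    intro x hx hnx
    obtain ⟨c, hc, hc0, hcx⟩ := exists_finsupp_of_mem_natSpan P hx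
    obtain ⟨d, hd, hd0, hdx⟩ := exists_finsupp_of_mem_natSpan P hnx
    have h1 : c + d = 0 := by
      apply finsupp_eq_of_linearCombination_eq P hli (Submodule.add_mem _ hc hd) (Submodule.zero_mem _)
      rw [map_add, hcx, hdx, map_zero, add_neg_cancel]
    have h2 := eq_zero_of_add_eq_zero hc0 hd0 h1
    rw [← hcx, h2, map_zero]
  have hRneg : ∀ k, k ∈ R' → P.reflectionPerm k k ∈ R' := by
    intro k hk
    rw [← hφ, root_neg, map_neg, (hφ k).mpr hk, neg_zero]
  set S : Set ι := {k | 0 < φ (P.root k)} ∪ {k | k ∈ R' ∧ P.root k ∈ natSpan P Δ'} with hSdef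
  have hSnn : ∀ k ∈ S, 0 ≤ φ (P.root k) := by
    rintro k (hk | ⟨hk, _⟩)
    · exact le_of_lt hk
    · exact le_of_eq ((hφ k).mpr hk).symm
  have hS2 : ∀ k ∈ S, φ (P.root k) = 0 → k ∈ R' ∧ P.root k ∈ natSpan P Δ' := by
    rintro k (hk | hk) h0
    · exact absurd h0 (ne_of_gt hk)
    · exact hk
  have hS : IsPosSys P S := by
    rw [Groth.Agent.S5456.result P S]
    refine ⟨?_, ?_, ?_⟩
    · intro i hi hni
      have h1 := hSnn i hi
      have h2 := hSnn _ hni
      rw [root_neg, map_neg] at h2
      have h0 : φ (P.root i) = 0 := le_antisymm (neg_nonneg.mp h2) h1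
      have h3 := hS2 i hi h0
      have h4 := hS2 _ hni (by rw [root_neg, map_neg, h0, neg_zero])
      rw [root_neg] at h4
      exact P.ne_zero i (hzero _ h3.2 h4.2)
    · intro i
      rcases lt_trichotomy (φ (P.root i)) 0 with h | h | h
      · right
        left
        change 0 < φ (P.root (P.reflectionPerm i i))
        rw [root_neg, map_neg]
        exact neg_pos.mpr h
      · have hi : i ∈ R' := (hφ i).mp h
        rcases hgen i hi with h1 | h1
        · left
          right
          exact ⟨hi, h1⟩
        · right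
          right
          refine ⟨hRneg i hi, ?_⟩
          rw [root_neg]
          exact h1
      · left
        left
        exact h
    · intro i j k hi hj hk
      have h1 := hSnn i hi
      have h2 := hSnn j hj
      have h3 : φ (P.root k) = φ (P.root i) + φ (P.root j) := by rw [hk, map_add]
      by_cases h0 : φ (P.root k) = 0
      · have hi0 : φ (P.root i) = 0 := by
          apply le_antisymm _ h1
          rw [h0] at h3
          calc φ (P.root i) ≤ φ (P.root i) + φ (P.root j) := le_add_of_nonneg_right h2
            _ = 0 := h3.symm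
        have hj0 : φ (P.root j) = 0 := by
          rw [h0, hi0, zero_add] at h3
          exact h3.symm
        right
        refine ⟨(hφ k).mp h0, ?_⟩
        rw [hk]
        exact AddSubmonoid.add_mem _ (hS2 i hi hi0).2 (hS2 j hj hj0).2
      · left
        change 0 < φ (P.root k)
        rw [h3] at h0 ⊢
        exact lt_of_le_of_ne (add_nonneg h1 h2) (Ne.symm h0)
  obtain ⟨Δ, ⟨hΔ, hΔS⟩, _⟩ := Groth.Agent.S5445.result P S hS
  have hSeq : S = posOf P Δ := ((Groth.Agent.S5449.result P Δ hΔ S hS).2).mp hΔS
  refine ⟨Δ, hΔ, ?_, ?_⟩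
  · intro j hj
    have hjS : j ∈ S := Or.inr ⟨hΔ'R hj, AddSubmonoid.subset_closure ⟨j, hj, rfl⟩⟩
    rw [Groth.Agent.S5450.result P Δ hΔ j (hSeq ▸ hjS)]
    rintro ⟨a, b, ha, hb, hab⟩
    rw [← hSeq] at ha hb
    have h1 := hSnn a ha
    have h2 := hSnn b hb
    have h0 : φ (P.root j) = 0 := (hφ j).mpr (hΔ'R hj)
    have h3 : φ (P.root a) + φ (P.root b) = 0 := by rw [← map_add, ← hab, h0]
    have ha0 : φ (P.root a) = 0 := by
      apply le_antisymm _ h1
      calc φ (P.root a) ≤ φ (P.root a) + φ (P.root b) := le_add_of_nonneg_right h2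
        _ = 0 := h3
    have hb0 : φ (P.root b) = 0 := by
      rw [ha0, zero_add] at h3
      exact h3
    obtain ⟨c, hc, hc0, hcx⟩ := exists_finsupp_of_mem_natSpan P (hS2 a ha ha0).2
    obtain ⟨d, hd, hd0, hdx⟩ := exists_finsupp_of_mem_natSpan P (hS2 b hb hb0).2
    have h4 : Finsupp.single j (1 : ℤ) = c + d := by
      apply finsupp_eq_of_linearCombination_eq P hli (Finsupp.single_mem_supported ℤ 1 hj)
        (Submodule.add_mem _ hc hd)
      rw [map_add, hcx, hdx, ← hab]
      simp
    have h5 : ∀ i, (Finsupp.single j (1 : ℤ)) i = c i + d i := by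
      intro i
      rw [h4]
      rfl
    have h6 := h5 j
    rw [Finsupp.single_eq_same] at h6
    have hcj := hc0 j
    have hdj := hd0 j
    have hcase : c j = 0 ∨ d j = 0 := by omega
    rcases hcase with hz | hz
    · have : c = 0 := by
        ext i
        by_cases hij : i = j
        · rw [hij, hz]; rfl
        · have h7 := h5 i
          rw [Finsupp.single_eq_of_ne hij] at h7
          have := hc0 i
          have := hd0 i
          simp only [Finsupp.coe_zero, Pi.zero_apply]
          omega
      apply P.ne_zero a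
      rw [← hcx, this, map_zero]
    · have : d = 0 := by
        ext i
        by_cases hij : i = j
        · rw [hij, hz]; rfl
        · have h7 := h5 i
          rw [Finsupp.single_eq_of_ne hij] at h7
          have := hc0 i
          have := hd0 i
          simp only [Finsupp.coe_zero, Pi.zero_apply]
          omega
      apply P.ne_zero b
      rw [← hdx, this, map_zero]
  · ext k
    constructor
    · intro hk
      change P.root k ∈ Submodule.span ℤ (P.root '' Δ')
      rcases hgen k hk with h | h
      · exact mem_span_of_mem_natSpan P h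
      · rw [← neg_neg (P.root k)]
        exact Submodule.neg_mem _ (mem_span_of_mem_natSpan P h)
    · intro hk
      apply hsat
      refine ⟨1, one_pos, ?_⟩
      rw [one_smul]
      exact Submodule.span_mono (Set.image_mono hΔ'R) hk

end Groth.Agent.S5461
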