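import Groth.Statements.S5460
import Groth.Agent.Lib.Helper3.RootD11
import Groth.Agent.S5461

set_option autoImplicit false
open RootD

namespace Groth.Agent.S5460

open Groth.Agent.Lib.helper3.RootDLib

/-- A set of roots R' is the trace on R of a vector subspace (every root with a positive multiple in the
span of R' lies in R') if and only if R' is the set of roots in the span of a subset Δ' of some
system of simple roots Δ. -/
theorem result {ι M N : Type*} [AddCommGroup M] [AddCommGroup N]
    (P : RootPairing ι ℤ M N) [Finite ι] (R' : Set ι) :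
    (∀ k : ι, (∃ n : ℕ, 0 < n ∧ n • P.root k ∈ Submodule.span ℤ (P.root '' R')) → k ∈ R') ↔
      ∃ Δ Δ' : Set ι, RootD.IsSimpleSys P Δ ∧ Δ' ⊆ Δ ∧ R' = RootD.inSpan P Δ' := by
  classical
  constructor
  · intro hsat
    have hR' := reflectionPerm_mem_of_hsat P R' hsat
    obtain ⟨Δ'', hΔ''⟩ := exists_isSimpleSys (subPairing P R' hR')
    obtain ⟨h1, h2, h3⟩ := subPairing_simple P R' hR' Δ'' hΔ''
    obtain ⟨Δ, hΔ, hsub, heq⟩ := Groth.Agent.S5461.result P R' hsat (Subtype.val '' Δ'') h1 h2 h3
    exact ⟨Δ, Subtype.val '' Δ'', hΔ, hsub, heq⟩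
  · rintro ⟨Δ, Δ', hΔ, hsub, rfl⟩ k ⟨n, hn, hk⟩
    have hle : Submodule.span ℤ (P.root '' inSpan P Δ') ≤ Submodule.span ℤ (P.root '' Δ') := by
      rw [Submodule.span_le]
      rintro _ ⟨j, hj, rfl⟩
      exact hj
    have hk' := hle hk
    rw [Finsupp.mem_span_image_iff_linearCombination] at hk'
    obtain ⟨c, hc, hck⟩ := hk'
    have hk2 := root_mem_span_of_isSimpleSys P hΔ k
    rw [Finsupp.mem_span_image_iff_linearCombination] at hk2
    obtain ⟨d, hd, hdk⟩ := hk2
    have hcΔ : c ∈ Finsupp.supported ℤ ℤ Δ := Finsupp.supported_mono hsub hc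
    have h1 : (n : ℤ) • d = c := by
      apply finsupp_eq_of_linearCombination_eq P hΔ.linInd (Submodule.smul_mem _ _ hd) hcΔ
      rw [map_smul, hdk, hck, natCast_zsmul]
    have hd' : d ∈ Finsupp.supported ℤ ℤ Δ' := by
      rw [Finsupp.mem_supported]
      intro j hj
      by_contra hjΔ'
      have h2 : c j = 0 := by
        by_contra hne
        exact hjΔ' (hc (Finsupp.mem_support_iff.mpr hne))
      have h3 : (n : ℤ) * d j = c j := by
        rw [← h1]
        rfl
      rw [h2] at h3
      have h4 : d j ≠ 0 := Finsupp.mem_support_iff.mp hj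
      have h5 : (n : ℤ) ≠ 0 := by exact_mod_cast hn.ne'
      exact (mul_ne_zero h5 h4) h3
    change P.root k ∈ Submodule.span ℤ (P.root '' Δ')
    rw [Finsupp.mem_span_image_iff_linearCombination]
    exact ⟨d, hd', hdk⟩

end Groth.Agent.S5460
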