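import Groth.Statements.S5462
import Groth.Agent.Lib.Helper3.RootD
import Groth.Agent.S5466
import Groth.Agent.S5448

set_option autoImplicit false
open RootPairing
open scoped Pointwise
open RootD

namespace Groth.Agent.S5462

open Groth.Agent.Lib.helper3.RootDLib

/-- For Δ' contained in a system of simple roots Δ, the subgroup of the Weyl group generated by the
reflections in Δ' preserves the set of positive roots not lying in the span of Δ'. -/
theorem result {ι M N : Type*} [AddCommGroup M] [AddCommGroup N]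
    (P : RootPairing ι ℤ M N) [Finite ι] (Δ Δ' : Set ι) (hΔ : RootD.IsSimpleSys P Δ) (hsub : Δ' ⊆ Δ)
    (g : P.Aut) (hg : g ∈ Subgroup.closure ((fun i : ι => Equiv.reflection P i) '' Δ'))
    (k : ι) (hk : k ∈ RootD.posOf P Δ) (hk' : k ∉ RootD.inSpan P Δ') :
    g • k ∈ RootD.posOf P Δ ∧ g • k ∉ RootD.inSpan P Δ' := by
  -- the set of positive roots outside the span of Δ'
  let X : Set ι := {k | k ∈ RootD.posOf P Δ ∧ k ∉ RootD.inSpan P Δ'}
  have hgen : ∀ i ∈ Δ', ∀ k ∈ X, P.reflectionPerm i k ∈ X := by
    intro i hi k ⟨hkp, hks⟩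
    have hiΔ : i ∈ Δ := hsub hi
    have hri : P.root i ∈ Submodule.span ℤ (P.root '' Δ') := Submodule.subset_span ⟨i, hi, rfl⟩
    have hli : LinearIndependent ℤ ![P.root k, P.root i] := by
      by_contra hnli
      rcases proportional_cases P k i hnli with h | h | h | h | h | h
      · exact hks (show P.root k ∈ _ from h ▸ hri)
      · have : P.root k = -P.root i := by rw [h, neg_neg]
        exact hks (show P.root k ∈ _ from this ▸ Submodule.neg_mem _ hri)
      · exact Groth.Agent.S5448.result P Δ hΔ i hiΔ k h.symm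
      · apply Groth.Agent.S5448.result P Δ hΔ i hiΔ (P.reflectionPerm k k)
        rw [root_neg, h, smul_neg]
      · exact hks (show P.root k ∈ _ from h ▸ Submodule.smul_mem _ _ hri)
      · exact hks (show P.root k ∈ _ from
          h ▸ Submodule.neg_mem _ (Submodule.smul_mem _ _ hri))
    refine ⟨Groth.Agent.S5466.result P Δ hΔ k i hkp hiΔ hli, ?_⟩
    intro hmem
    apply hks
    change P.root _ ∈ Submodule.span ℤ (P.root '' Δ') at hmem
    rw [P.root_reflectionPerm, P.reflection_apply_root] at hmem
    have := Submodule.add_mem _ hmem (Submodule.smul_mem _ (P.pairing k i) hri)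
    rwa [sub_add_cancel] at this
  have main : (∀ k ∈ X, g • k ∈ X) ∧ (∀ k ∈ X, g⁻¹ • k ∈ X) := by
    induction hg using Subgroup.closure_induction with
    | mem x hx =>
      obtain ⟨i, hi, rfl⟩ := hx
      refine ⟨fun k hk => hgen i hi k hk, fun k hk => ?_⟩
      rw [RootPairing.Equiv.reflection_inv]
      exact hgen i hi k hk
    | one => simp
    | mul x y _ _ hx hy =>
      refine ⟨fun k hk => ?_, fun k hk => ?_⟩
      · rw [mul_smul]; exact hx.1 _ (hy.1 k hk)
      · rw [mul_inv_rev, mul_smul]; exact hy.2 _ (hx.2 k hk)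
    | inv x _ hx =>
      refine ⟨hx.2, ?_⟩
      rw [inv_inv]; exact hx.1
  exact main.1 k ⟨hk, hk'⟩

end Groth.Agent.S5462
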