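import Groth.Statements.S5463
import Groth.Agent.Lib.Helper3.RootD3

set_option autoImplicit false
open RootPairing
open scoped Pointwise
open RootD

namespace Groth.Agent.S5463

open Groth.Agent.Lib.helper3.RootDLib

/-- An element w of the Weyl group belongs to the subgroup generated by the reflections in Δ' ⊆ Δ (Δ a
system of simple roots) if and only if w(α) - α lies in the rational span of Δ' for every root α. -/
theorem result {ι M N : Type*} [AddCommGroup M] [AddCommGroup N]
    (P : RootPairing ι ℤ M N) [Finite ι] (Δ Δ' : Set ι) (hΔ : RootD.IsSimpleSys P Δ)
    (hsub : Δ' ⊆ Δ) (g : P.Aut) (hg : g ∈ P.weylGroup) :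
    g ∈ Subgroup.closure ((fun i : ι => Equiv.reflection P i) '' Δ') ↔
      ∀ k : ι, ∃ n : ℕ, 0 < n ∧ n • (P.root (g • k) - P.root k) ∈ Submodule.span ℤ (P.root '' Δ') := by
  classical
  set A : Submodule ℤ M := Submodule.span ℤ (P.root '' Δ') with hA
  have hrefl : ∀ i ∈ Δ', ∀ x : M, Equiv.reflection P i • x - x ∈ A := by
    intro i hi x
    rw [RootPairing.Equiv.reflection_smul, P.reflection_apply, sub_sub_cancel_left]
    exact A.neg_mem (A.smul_mem _ (Submodule.subset_span ⟨i, hi, rfl⟩))
  constructor
  · intro hgc k
    refine ⟨1, Nat.one_pos, ?_⟩
    rw [one_smul, root_smul]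
    have key : ∀ x : M, g • x - x ∈ A := by
      clear hg
      induction hgc using Subgroup.closure_induction with
      | mem y hy =>
        obtain ⟨i, hi, rfl⟩ := hy
        exact hrefl i hi
      | one => intro x; simp
      | mul a b _ _ ha hb =>
        intro x
        have h1 := A.add_mem (ha (b • x)) (hb x)
        rw [mul_smul]
        convert h1 using 1
        abel
      | inv a _ ha =>
        intro x
        have h1 := A.neg_mem (ha (a⁻¹ • x))
        rw [smul_inv_smul] at h1
        convert h1 using 1
        abel
    exact key _
  · intro hyp
    rw [← (Groth.Agent.S5508.result P Δ hΔ).1] at hg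
    obtain ⟨L, hL, rfl⟩ := exists_list_of_mem_closure P g hg
    have main : ∀ (n : ℕ) (L : List ι), L.length = n → (∀ a ∈ L, a ∈ Δ) →
        (∀ k : ι, ∃ n : ℕ, 0 < n ∧ n • (P.root (prodRefl P L • k) - P.root k) ∈ A) →
        prodRefl P L ∈ Subgroup.closure ((fun i : ι => Equiv.reflection P i) '' Δ') := by
      intro n
      induction n using Nat.strong_induction_on with
      | _ n ih =>
        intro L hlen hL hyp
        by_cases hone : prodRefl P L = 1
        · rw [hone]; exact one_mem _
        · have hex : ∃ i ∈ Δ, prodRefl P L • i ∉ posOf P Δ := by
            by_contra hcon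
            push Not at hcon
            exact hone (prodRefl_eq_one_of_pos P hΔ _ L rfl hL hcon)
          obtain ⟨i, hiΔ, hneg⟩ := hex
          obtain ⟨L', hL', hlen', hprod⟩ := exchange P hΔ i hiΔ L hL hneg
          have hiΔ' : i ∈ Δ' := by
            by_contra hni
            obtain ⟨m, hm, hmem⟩ := hyp i
            have hnegmem : -P.root (prodRefl P L • i) ∈ natSpan P Δ := by
              rcases hΔ.mem_or_neg_mem (prodRefl P L • i) with h | h
              · exact absurd h hneg
              · exact h
            obtain ⟨c, hc, hc0, hck⟩ := exists_finsupp_of_mem_natSpan P hnegmem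
            obtain ⟨d, hd, hdk⟩ := (Finsupp.mem_span_image_iff_linearCombination ℤ).mp hmem
            have heq : (m : ℤ) • (-c - Finsupp.single i 1) = d := by
              apply finsupp_eq_of_linearCombination_eq P hΔ.linInd
              · apply Submodule.smul_mem
                exact Submodule.sub_mem _ (Submodule.neg_mem _ hc)
                  (Finsupp.single_mem_supported ℤ 1 hiΔ)
              · exact Finsupp.supported_mono hsub hd
              · rw [hdk, map_smul, map_sub, map_neg, hck, Finsupp.linearCombination_single,
                  one_smul, neg_neg, natCast_zsmul]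
            have h1 := DFunLike.congr_fun heq i
            have hdi : d i = 0 := by
              by_contra h
              exact hni (hd (Finsupp.mem_support_iff.mpr h))
            rw [hdi] at h1
            simp only [Finsupp.coe_smul, Finsupp.coe_sub, Finsupp.coe_neg, Pi.smul_apply,
              Pi.sub_apply, Pi.neg_apply, Finsupp.single_eq_same, smul_eq_mul] at h1
            have h2 := hc0 i
            have hm' : (0 : ℤ) < m := by exact_mod_cast hm
            rcases mul_eq_zero.mp h1 with h | h
            · omega
            · omega
          have hsi : prodRefl P L' = prodRefl P L * Equiv.reflection P i := by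
            rw [hprod, mul_assoc, reflection_mul_self, mul_one]
          have hyp' : ∀ k : ι, ∃ n : ℕ, 0 < n ∧
              n • (P.root (prodRefl P L' • k) - P.root k) ∈ A := by
            intro k
            obtain ⟨m, hm, hmem⟩ := hyp (Equiv.reflection P i • k)
            refine ⟨m, hm, ?_⟩
            have e : P.root (prodRefl P L' • k) - P.root k =
                (P.root (prodRefl P L • (Equiv.reflection P i • k)) -
                  P.root (Equiv.reflection P i • k)) +
                (P.root (Equiv.reflection P i • k) - P.root k) := by
              rw [hsi, mul_smul]; abel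
            rw [e, smul_add]
            apply A.add_mem hmem
            apply A.smul_of_tower_mem
            rw [root_smul]
            exact hrefl i hiΔ' _
          have h1 := ih L'.length (by omega) L' rfl hL' hyp'
          rw [hprod]
          exact mul_mem h1 (Subgroup.subset_closure ⟨i, hiΔ', rfl⟩)
    exact main _ L rfl hL hyp

end Groth.Agent.S5463
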