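import Groth.Statements.S5464
import Groth.Agent.Lib.Helper3.RootD11
import Groth.Agent.S5461

set_option autoImplicit false
open RootD

namespace Groth.Agent.S5464

open Groth.Agent.Lib.helper3.RootDLib

lemma neg_neg_idx {ι M N : Type*} [AddCommGroup M] [AddCommGroup N]
    (P : RootPairing ι ℤ M N) (i : ι) :
    P.reflectionPerm (P.reflectionPerm i i) (P.reflectionPerm i i) = i := by
  apply P.root.injective
  rw [root_neg, root_neg, neg_neg]

/-- If `-γ` is a non-negative combination of two simple roots `α, β`, then `γ` is a non-negative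
combination of `α` and another simple root of the simple system `-s_α(Δ)`. -/
lemma flip_sign {ι M N : Type*} [AddCommGroup M] [AddCommGroup N]
    (P : RootPairing ι ℤ M N) [Finite ι] (Δ : Set ι) (hΔ : IsSimpleSys P Δ) (i j k : ι)
    (hi : i ∈ Δ) (hj : j ∈ Δ) (hij : j ≠ i) (a b : ℕ) (hb : 0 < b)
    (hk : -P.root k = a • P.root i + b • P.root j) :
    ∃ Δ₂ : Set ι, IsSimpleSys P Δ₂ ∧ i ∈ Δ₂ ∧
      ∃ j₂ ∈ Δ₂, ∃ a' b' : ℕ, P.root k = a' • P.root i + b' • P.root j₂ := by
  classical
  set g : P.Aut := RootPairing.Equiv.reflection P i with hg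
  set Δ₂ : Set ι := (fun x => P.reflectionPerm x x) '' ((fun x : ι => g • x) '' Δ) with hΔ₂def
  have hΔ₂ : IsSimpleSys P Δ₂ := isSimpleSys_neg P (isSimpleSys_image P g hΔ)
  have hgi : g • i = P.reflectionPerm i i := rfl
  have hiΔ₂ : i ∈ Δ₂ := ⟨g • i, ⟨i, hi, rfl⟩, by rw [hgi]; exact neg_neg_idx P i⟩
  set j₂ : ι := P.reflectionPerm (g • j) (g • j) with hj₂
  have hj₂Δ₂ : j₂ ∈ Δ₂ := ⟨g • j, ⟨j, hj, rfl⟩, rfl⟩
  have hne : j₂ ≠ i := by
    intro h
    have h1 : P.root (g • j) = P.root (g • i) := by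
      have h2 : P.root j₂ = P.root i := by rw [h]
      rw [hj₂, root_neg] at h2
      rw [hgi, root_neg, ← h2, neg_neg]
    have h3 : g • j = g • i := P.root.injective h1
    exact hij (smul_left_cancel g h3)
  set c : ℤ := P.pairing j i with hc
  have hrj₂ : P.root j₂ = -P.root j + c • P.root i := by
    rw [hj₂, root_neg, root_smul, hg, RootPairing.Equiv.reflection_smul, P.reflection_apply_root]
    abel
  set z : ℤ := -(a : ℤ) - b * c with hz
  have hkz : P.root k = z • P.root i + (b : ℤ) • P.root j₂ := by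
    have h1 : P.root k = -((a : ℤ) • P.root i + (b : ℤ) • P.root j) := by
      rw [natCast_zsmul, natCast_zsmul, ← hk, neg_neg]
    rw [h1, hrj₂, hz]
    module
  -- the coefficient vector
  set c₀ : ι →₀ ℤ := z • Finsupp.single i 1 + (b : ℤ) • Finsupp.single j₂ 1 with hc₀
  have hc₀s : c₀ ∈ Finsupp.supported ℤ ℤ Δ₂ :=
    Submodule.add_mem _ (Submodule.smul_mem _ _ (Finsupp.single_mem_supported ℤ 1 hiΔ₂))
      (Submodule.smul_mem _ _ (Finsupp.single_mem_supported ℤ 1 hj₂Δ₂))
  have hc₀k : Finsupp.linearCombination ℤ P.root c₀ = P.root k := by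
    rw [hc₀, map_add, map_smul, map_smul, Finsupp.linearCombination_single,
      Finsupp.linearCombination_single, one_smul, one_smul, hkz]
  have hc₀i : c₀ i = z := by
    simp [hc₀, Finsupp.single_eq_of_ne (Ne.symm hne)]
  have hc₀j : c₀ j₂ = b := by
    simp [hc₀, Finsupp.single_eq_of_ne hne]
  refine ⟨Δ₂, hΔ₂, hiΔ₂, j₂, hj₂Δ₂, ?_⟩
  rcases hΔ₂.mem_or_neg_mem k with h | h
  · obtain ⟨d, hd, hd0, hdk⟩ := exists_finsupp_of_mem_natSpan P h
    have h1 : d = c₀ := finsupp_eq_of_linearCombination_eq P hΔ₂.linInd hd hc₀s (by rw [hdk, hc₀k])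
    have hz0 : 0 ≤ z := by
      rw [← hc₀i, ← h1]
      exact hd0 i
    refine ⟨z.toNat, b, ?_⟩
    rw [hkz, ← natCast_zsmul (P.root i) z.toNat, Int.toNat_of_nonneg hz0, natCast_zsmul]
  · exfalso
    obtain ⟨d, hd, hd0, hdk⟩ := exists_finsupp_of_mem_natSpan P h
    have h1 : d = -c₀ := finsupp_eq_of_linearCombination_eq P hΔ₂.linInd hd
      (Submodule.neg_mem _ hc₀s) (by rw [hdk, map_neg, hc₀k])
    have h2 := hd0 j₂
    rw [h1] at h2
    simp only [Finsupp.coe_neg, Pi.neg_apply, hc₀j] at h2
    have : (0 : ℤ) < b := by exact_mod_cast hb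
    omega

/-- Given an indivisible root α and a root γ not proportional to it, there is a system of simple roots
containing α and a simple root β of it with γ = aα + bβ, a, b ∈ ℕ. -/
theorem result {ι M N : Type*} [AddCommGroup M] [AddCommGroup N]
    (P : RootPairing ι ℤ M N) [Finite ι] (i k : ι) (hα : RootD.IsIndiv P i)
    (hli : LinearIndependent ℤ ![P.root i, P.root k]) :
    ∃ Δ : Set ι, RootD.IsSimpleSys P Δ ∧ i ∈ Δ ∧
      ∃ j ∈ Δ, ∃ a b : ℕ, P.root k = a • P.root i + b • P.root j := by
  classical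
  haveI : Module.IsReflexive ℤ M := isReflexive_left P
  set L : Submodule ℤ M := Submodule.span ℤ {P.root i, P.root k} with hL
  set R' : Set ι := {j | P.root j ∈ satSub L} with hR'def
  have hsat := hsat_of_satSub P L
  have hR' := reflectionPerm_mem_of_hsat P R' hsat
  have hiR' : i ∈ R' := le_satSub L (Submodule.subset_span (by simp))
  have hkR' : k ∈ R' := le_satSub L (Submodule.subset_span (by simp))
  have hindiv : IsIndiv (subPairing P R' hR') ⟨i, hiR'⟩ := fun j => hα j
  obtain ⟨Δ'', hΔ'', hi''⟩ := exists_isSimpleSys_mem (subPairing P R' hR') ⟨i, hiR'⟩ hindiv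
  obtain ⟨h1, h2, h3⟩ := subPairing_simple P R' hR' Δ'' hΔ''
  set Δ' : Set ι := Subtype.val '' Δ'' with hΔ'
  have hiΔ' : i ∈ Δ' := ⟨⟨i, hiR'⟩, hi'', rfl⟩
  obtain ⟨Δ, hΔ, hsub, _⟩ := Groth.Agent.S5461.result P R' hsat Δ' h1 h2 h3
  have hpair := LinearIndependent.pair_iff.mp hli
  have key : ∀ (x : M) (σ : ℤ), (σ = 1 ∨ σ = -1) → x = σ • P.root k → x ∈ natSpan P Δ' →
      ∃ j ∈ Δ', j ≠ i ∧ ∃ a b : ℕ, 0 < b ∧ x = a • P.root i + b • P.root j := by
    intro x σ hσ hx hxn
    obtain ⟨d, hd, hd0, hdx⟩ := exists_finsupp_of_mem_natSpan P hxn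
    have hσσ : σ * σ = 1 := by rcases hσ with h | h <;> rw [h] <;> norm_num
    have hσ0 : σ ≠ 0 := by rcases hσ with h | h <;> rw [h] <;> norm_num
    have hkx : P.root k = σ • x := by rw [hx, smul_smul, hσσ, one_smul]
    by_cases hex : ∃ j ∈ d.support, j ≠ i
    · obtain ⟨j, hjs, hji⟩ := hex
      have hjΔ' : j ∈ Δ' := hd hjs
      obtain ⟨n, hn, hnj⟩ := (h1 hjΔ' : P.root j ∈ satSub L)
      rw [hL, Submodule.mem_span_pair] at hnj
      obtain ⟨s, t, hst⟩ := hnj
      have hrel : (n : ℤ) • Finsupp.single j (1 : ℤ) =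
          s • Finsupp.single i (1 : ℤ) + (t * σ) • d := by
        apply finsupp_eq_of_linearCombination_eq P h2
          (Submodule.smul_mem _ _ (Finsupp.single_mem_supported ℤ 1 hjΔ'))
          (Submodule.add_mem _ (Submodule.smul_mem _ _ (Finsupp.single_mem_supported ℤ 1 hiΔ'))
            (Submodule.smul_mem _ _ hd))
        rw [map_smul, map_add, map_smul, map_smul, Finsupp.linearCombination_single,
          Finsupp.linearCombination_single, one_smul, one_smul, hdx, natCast_zsmul, ← hst, hkx,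
          smul_smul]
      have hev : ∀ j', (n : ℤ) * (Finsupp.single j (1 : ℤ) j') =
          s * (Finsupp.single i (1 : ℤ) j') + (t * σ) * d j' := by
        intro j'
        have := DFunLike.congr_fun hrel j'
        simpa only [Finsupp.coe_add, Finsupp.coe_smul, Pi.add_apply, Pi.smul_apply, smul_eq_mul]
          using this
      have ht : t ≠ 0 := by
        intro ht0
        have e := hev j
        rw [Finsupp.single_eq_same, Finsupp.single_eq_of_ne hji, ht0] at e
        have : (n : ℤ) ≠ 0 := by exact_mod_cast hn.ne'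
        apply this
        linarith
      have hd_other : ∀ j', j' ≠ i → j' ≠ j → d j' = 0 := by
        intro j' h1' h2'
        have e := hev j'
        rw [Finsupp.single_eq_of_ne h2', Finsupp.single_eq_of_ne h1'] at e
        have : t * σ * d j' = 0 := by linarith
        rcases mul_eq_zero.mp this with h | h
        · exact absurd h (mul_ne_zero ht hσ0)
        · exact h
      have hdeq : d = d i • Finsupp.single i (1 : ℤ) + d j • Finsupp.single j (1 : ℤ) := by
        ext j'
        simp only [Finsupp.coe_add, Finsupp.coe_smul, Pi.add_apply, Pi.smul_apply, smul_eq_mul]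
        by_cases e1 : j' = i
        · rw [e1, Finsupp.single_eq_same, Finsupp.single_eq_of_ne (Ne.symm hji)]
          ring
        · by_cases e2 : j' = j
          · rw [e2, Finsupp.single_eq_same, Finsupp.single_eq_of_ne hji]
            ring
          · rw [Finsupp.single_eq_of_ne e1, Finsupp.single_eq_of_ne e2, hd_other j' e1 e2]
            ring
      have hdj : 0 < d j := by
        have h4 : d j ≠ 0 := Finsupp.mem_support_iff.mp hjs
        have h5 := hd0 j
        omega
      refine ⟨j, hjΔ', hji, (d i).toNat, (d j).toNat, ?_, ?_⟩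
      · omega
      · rw [← natCast_zsmul (P.root i), ← natCast_zsmul (P.root j), Int.toNat_of_nonneg (hd0 i),
          Int.toNat_of_nonneg (hd0 j), ← hdx]
        conv_lhs => rw [hdeq]
        rw [map_add, map_smul, map_smul, Finsupp.linearCombination_single,
          Finsupp.linearCombination_single, one_smul, one_smul]
    · exfalso
      simp only [not_exists, not_and, not_not] at hex
      have hdeq : d = d i • Finsupp.single i (1 : ℤ) := by
        ext j'
        simp only [Finsupp.coe_smul, Pi.smul_apply, smul_eq_mul]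
        by_cases e1 : j' = i
        · rw [e1, Finsupp.single_eq_same]
          ring
        · rw [Finsupp.single_eq_of_ne e1, mul_zero]
          by_contra hne
          exact e1 (hex j' (Finsupp.mem_support_iff.mpr hne))
      have hxi : x = d i • P.root i := by
        rw [← hdx]
        conv_lhs => rw [hdeq]
        rw [map_smul, Finsupp.linearCombination_single, one_smul]
      have h0 := hpair (d i) (-σ) (by rw [neg_smul, ← hx, hxi, add_neg_cancel])
      exact hσ0 (neg_eq_zero.mp h0.2)
  rcases h3 k hkR' with hpos | hneg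
  · obtain ⟨j, hjΔ', hji, a, b, hb, hx⟩ := key (P.root k) 1 (Or.inl rfl) (by rw [one_smul]) hpos
    exact ⟨Δ, hΔ, hsub hiΔ', j, hsub hjΔ', a, b, hx⟩
  · obtain ⟨j, hjΔ', hji, a, b, hb, hx⟩ :=
      key (-P.root k) (-1) (Or.inr rfl) (by rw [neg_one_smul]) hneg
    exact flip_sign P Δ hΔ i j k (hsub hiΔ') (hsub hjΔ') hji a b hb hx

end Groth.Agent.S5464
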