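import Groth.Statements.S5465
import Groth.Agent.Lib.Helper3.RootD5

set_option autoImplicit false
open RootD

namespace Groth.Agent.S5465

open Groth.Agent.Lib.helper3.RootDLib

/-- A map from the roots to an abelian group that is odd and additive on pairs of roots whose sum is a
root extends uniquely to a homomorphism on the lattice generated by the roots. -/
theorem result {ι M N : Type*} [AddCommGroup M] [AddCommGroup N]
    (P : RootPairing ι ℤ M N) [Finite ι] {G : Type*} [AddCommGroup G] (f : ι → G)
    (hneg : ∀ i : ι, f (P.reflectionPerm i i) = -f i)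
    (hadd : ∀ i j k : ι, P.root k = P.root i + P.root j → f k = f i + f j) :
    ∃! φ : Submodule.span ℤ (Set.range P.root) →+ G,
      ∀ i : ι, φ ⟨P.root i, Submodule.subset_span (Set.mem_range_self i)⟩ = f i := by
  classical
  obtain ⟨Δ, hΔ⟩ := exists_isSimpleSys P
  have hli : LinearIndependent ℤ (fun i : Δ => P.root i) := hΔ.linInd
  have hspan : Submodule.span ℤ (Set.range P.root) =
      Submodule.span ℤ (Set.range (fun i : Δ => P.root i)) := by
    apply le_antisymm
    · rw [Submodule.span_le]
      rintro _ ⟨k, rfl⟩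
      have h1 := root_mem_span_of_isSimpleSys P hΔ k
      have h2 : P.root '' Δ = Set.range (fun i : Δ => P.root i) := by
        ext x
        constructor
        · rintro ⟨i, hi, rfl⟩; exact ⟨⟨i, hi⟩, rfl⟩
        · rintro ⟨⟨i, hi⟩, rfl⟩; exact ⟨i, hi, rfl⟩
      rw [h2] at h1
      exact h1
    · apply Submodule.span_mono
      rintro _ ⟨i, rfl⟩
      exact ⟨i, rfl⟩
  let φl : ↥(Submodule.span ℤ (Set.range P.root)) →ₗ[ℤ] G :=
    (Finsupp.linearCombination ℤ (fun i : Δ => f i)).comp
      (hli.repr.comp (LinearEquiv.ofEq _ _ hspan).toLinearMap)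
  have hφΔ : ∀ i (hi : i ∈ Δ),
      φl ⟨P.root i, Submodule.subset_span (Set.mem_range_self i)⟩ = f i := by
    intro i hi
    have h1 : hli.repr ((LinearEquiv.ofEq _ _ hspan)
        ⟨P.root i, Submodule.subset_span (Set.mem_range_self i)⟩) =
        Finsupp.single (⟨i, hi⟩ : Δ) 1 := hli.repr_eq_single ⟨i, hi⟩ _ rfl
    change Finsupp.linearCombination ℤ (fun i : Δ => f i) (hli.repr ((LinearEquiv.ofEq _ _ hspan)
        ⟨P.root i, Submodule.subset_span (Set.mem_range_self i)⟩)) = f i
    rw [h1, Finsupp.linearCombination_single, one_smul]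
  have hφpos : ∀ k ∈ posOf P Δ,
      φl ⟨P.root k, Submodule.subset_span (Set.mem_range_self k)⟩ = f k := by
    apply posOf_induction P hΔ
    · exact hφΔ
    · intro k' _ i hi k hk ih
      have e : (⟨P.root k, Submodule.subset_span (Set.mem_range_self k)⟩ :
          ↥(Submodule.span ℤ (Set.range P.root))) =
          ⟨P.root k', Submodule.subset_span (Set.mem_range_self k')⟩ +
          ⟨P.root i, Submodule.subset_span (Set.mem_range_self i)⟩ := Subtype.ext hk
      rw [e, map_add, ih, hφΔ i hi, hadd k' i k hk]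
  have hφ : ∀ k : ι, φl ⟨P.root k, Submodule.subset_span (Set.mem_range_self k)⟩ = f k := by
    intro k
    rcases hΔ.mem_or_neg_mem k with hk | hk
    · exact hφpos k hk
    · have hk' : P.reflectionPerm k k ∈ posOf P Δ := by
        change P.root _ ∈ natSpan P Δ
        rw [root_neg]; exact hk
      have h1 := hφpos _ hk'
      have e : (⟨P.root (P.reflectionPerm k k), Submodule.subset_span (Set.mem_range_self _)⟩ :
          ↥(Submodule.span ℤ (Set.range P.root))) =
          -⟨P.root k, Submodule.subset_span (Set.mem_range_self k)⟩ :=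
        Subtype.ext (root_neg P k)
      rw [e, map_neg, hneg] at h1
      exact neg_injective h1
  refine ⟨φl.toAddMonoidHom, hφ, ?_⟩
  intro ψ hψ
  ext ⟨x, hx⟩
  induction hx using Submodule.span_induction with
  | mem x hx =>
    obtain ⟨i, rfl⟩ := hx
    rw [hψ i]
    exact (hφ i).symm
  | zero =>
    have e : (⟨0, Submodule.zero_mem _⟩ : ↥(Submodule.span ℤ (Set.range P.root))) = 0 := rfl
    rw [e, map_zero, map_zero]
  | add x y hx hy ihx ihy =>
    have e : (⟨x + y, Submodule.add_mem _ hx hy⟩ : ↥(Submodule.span ℤ (Set.range P.root))) =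
        ⟨x, hx⟩ + ⟨y, hy⟩ := rfl
    rw [e, map_add, map_add, ihx, ihy]
  | smul a x hx ih =>
    have e : (⟨a • x, Submodule.smul_mem _ a hx⟩ : ↥(Submodule.span ℤ (Set.range P.root))) =
        a • ⟨x, hx⟩ := rfl
    rw [e, map_zsmul, map_zsmul, ih]

end Groth.Agent.S5465
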