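import Groth.Statements.S5468
import Mathlib.LinearAlgebra.RootSystem.Reduced

set_option autoImplicit false
open RootD

namespace Groth.Agent.S5468

lemma refl_eq_of_smul {ι M N : Type*} [AddCommGroup M] [AddCommGroup N]
    (P : RootPairing ι ℤ M N) [Finite ι] (i j : ι) (t : ℤ) (h : P.root j = t • P.root i) :
    P.reflection i = P.reflection j := by
  have : Module.IsReflexive ℤ N := .of_isPerfPair P.flip.toLinearMap
  have : IsAddTorsionFree N := .of_isTorsionFree ℤ N
  have hco := RootPairing.smul_coroot_eq_of_root_eq_smul (P := P) i j t h
  ext x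
  rw [P.reflection_apply, P.reflection_apply]
  congr 1
  change (P.toLinearMap x (P.coroot i)) • P.root i = (P.toLinearMap x (P.coroot j)) • P.root j
  rw [← hco, map_smul, h, smul_smul, smul_eq_mul, mul_comm]

/-- Two roots whose reflections are distinct and commute are orthogonal. -/
theorem result {ι M N : Type*} [AddCommGroup M] [AddCommGroup N]
    (P : RootPairing ι ℤ M N) [Finite ι] (i j : ι)
    (hne : P.reflection i ≠ P.reflection j) (hc : Commute (P.reflection i) (P.reflection j)) :
    P.IsOrthogonal i j := by
  have : Module.IsReflexive ℤ M := .of_isPerfPair P.toLinearMap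
  rw [RootPairing.isOrthogonal_iff_pairing_eq_zero]
  by_contra hq
  have hp : P.pairing j i ≠ 0 := fun h0 => hq (RootPairing.pairing_eq_zero_iff.mp h0)
  set p := P.pairing j i with hpdef
  set q := P.pairing i j with hqdef
  -- evaluate the commutation relation on the root j
  have h1 := LinearEquiv.congr_fun hc.eq (P.root j)
  simp only [LinearEquiv.mul_apply] at h1
  rw [P.reflection_apply_self, map_neg, P.reflection_apply_root, map_sub, map_smul,
    P.reflection_apply_self, P.reflection_apply_root, ← hpdef, ← hqdef] at h1
  -- h1 : -(root j - p • root i) = -root j - p • (root i - q • root j)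
  have h2 : p • ((2 : ℤ) • P.root i - q • P.root j) = 0 := by
    have : p • ((2 : ℤ) • P.root i - q • P.root j)
        = (-(P.root j - p • P.root i)) - (-P.root j - p • (P.root i - q • P.root j)) := by
      rw [smul_sub, smul_sub, two_smul, smul_add]
      abel
    rw [this, h1, sub_self]
  have h3 : (2 : ℤ) • P.root i = q • P.root j := by
    rcases smul_eq_zero.mp h2 with h0 | h0
    · exact absurd h0 hp
    · exact sub_eq_zero.mp h0
  -- the two roots are proportional, so the reflections agree
  apply hne
  rcases Int.even_or_odd' q with ⟨q', hq' | hq'⟩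
  · -- root i = q' • root j
    symm
    apply refl_eq_of_smul P j i q'
    have : (2 : ℤ) • P.root i = (2 : ℤ) • (q' • P.root j) := by
      rw [h3, hq', mul_smul]
    exact (smul_right_inj (by norm_num : (2 : ℤ) ≠ 0)).mp this
  · -- q odd: q * p = 4 forces q = 1 or q = -1
    have h4 : q * p = 4 := by
      have := congrArg (fun x => P.toLinearMap x (P.coroot i)) h3
      simp only [map_smul, LinearMap.smul_apply, P.root_coroot_eq_pairing, P.pairing_same,
        smul_eq_mul] at this
      rw [← hpdef] at this
      linarith
    have hdvd : q ∣ 4 := ⟨p, h4.symm⟩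
    have hle : q ≤ 4 := Int.le_of_dvd (by norm_num) hdvd
    have hge : -4 ≤ q := by
      have : -q ≤ 4 := Int.le_of_dvd (by norm_num) ((neg_dvd).mpr hdvd)
      linarith
    have hq1 : q = 1 ∨ q = -1 := by
      interval_cases q <;> omega
    rcases hq1 with h5 | h5
    · apply refl_eq_of_smul P i j 2
      rw [h3, h5, one_smul]
    · apply refl_eq_of_smul P i j (-2)
      rw [neg_smul, h3, h5, neg_smul, one_smul, neg_neg]

end Groth.Agent.S5468
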