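import Groth.Statements.S5469
import Groth.Agent.Lib.Helper3.RootD
import Mathlib.LinearAlgebra.RootSystem.Finite.CanonicalBilinear
import Mathlib.LinearAlgebra.RootSystem.WeylGroup

set_option autoImplicit false
open RootPairing
open scoped Pointwise
open RootD

namespace Groth.Agent.S5469

open Groth.Agent.Lib.helper3.RootDLib

/-- Two non-orthogonal roots of equal length (for the canonical form ℓ(x) = Σ_{u ∈ R^v} (u, x)²) are
conjugate under the Weyl group. -/
theorem result {ι M N : Type*} [AddCommGroup M] [AddCommGroup N]
    (P : RootPairing ι ℤ M N) [Finite ι] [Fintype ι] (i j : ι) (hno : ¬ P.IsOrthogonal i j)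
    (hl : P.RootForm (P.root i) (P.root i) = P.RootForm (P.root j) (P.root j)) :
    ∃ g : P.Aut, g ∈ P.weylGroup ∧ g • i = j := by
  have : Module.IsReflexive ℤ M := isReflexive_left P
  have hpij : P.pairing i j ≠ 0 := by
    intro h0
    exact hno ⟨h0, RootPairing.pairing_eq_zero_iff.mp h0⟩
  have hroot : ∀ (g : P.Aut) (k : ι), P.root (g • k) = g • P.root k :=
    fun g k => RootPairing.Equiv.root_indexEquiv_eq_smul P k g
  by_cases hij : i = j
  · exact ⟨1, one_mem _, by rw [one_smul, hij]⟩
  by_cases hneg : P.root i = -P.root j
  · refine ⟨Equiv.reflection P i, P.reflection_mem_weylGroup i, ?_⟩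
    apply P.root.injective
    rw [hroot, RootPairing.Equiv.reflection_smul, P.reflection_apply_self, hneg, neg_neg]
  have hlen : (P.posRootForm ℤ).toInvariantForm.form (P.root i) (P.root i) =
      (P.posRootForm ℤ).toInvariantForm.form (P.root j) (P.root j) := hl
  have hmem := P.pairingIn_pairingIn_mem_set_of_length_eq_of_ne hlen hij hneg
  rw [pairingIn_eq, pairingIn_eq] at hmem
  simp only [Set.mem_insert_iff, Set.mem_singleton_iff, Prod.mk.injEq] at hmem
  rcases hmem with ⟨h1, h2⟩ | ⟨h1, h2⟩ | ⟨h1, h2⟩
  · exact absurd h1 hpij
  · have e1 : P.reflection j (P.root i) = P.root i - P.root j := by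
      rw [P.reflection_apply_root, h1, one_smul]
    have e2 : P.reflection i (P.root j) = P.root j - P.root i := by
      rw [P.reflection_apply_root, h2, one_smul]
    refine ⟨Equiv.reflection P j * Equiv.reflection P i * Equiv.reflection P j,
      mul_mem (mul_mem (P.reflection_mem_weylGroup j) (P.reflection_mem_weylGroup i))
        (P.reflection_mem_weylGroup j), ?_⟩
    apply P.root.injective
    rw [hroot, mul_smul, mul_smul, RootPairing.Equiv.reflection_smul,
      RootPairing.Equiv.reflection_smul, RootPairing.Equiv.reflection_smul]
    simp only [e1, e2, map_sub, map_neg, P.reflection_apply_self]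
    abel
  · have e1 : P.reflection j (P.root i) = P.root i + P.root j := by
      rw [P.reflection_apply_root, h1]; simp
    have e2 : P.reflection i (P.root j) = P.root j + P.root i := by
      rw [P.reflection_apply_root, h2]; simp
    refine ⟨Equiv.reflection P i * Equiv.reflection P j,
      mul_mem (P.reflection_mem_weylGroup i) (P.reflection_mem_weylGroup j), ?_⟩
    apply P.root.injective
    rw [hroot, mul_smul, RootPairing.Equiv.reflection_smul,
      RootPairing.Equiv.reflection_smul]
    simp only [e1, e2, map_add, P.reflection_apply_self]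
    abel

end Groth.Agent.S5469
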