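import Groth.Statements.S5470
import Groth.Agent.Lib.Helper3.RootD
import Groth.Agent.S5506
import Groth.Agent.S5469

set_option autoImplicit false
open RootPairing
open scoped Pointwise
open RootD

namespace Groth.Agent.S5470

open Groth.Agent.Lib.helper3.RootDLib

/-- In an irreducible root datum the Weyl group acts transitively on the roots of any given length. -/
theorem result {ι M N : Type*} [AddCommGroup M] [AddCommGroup N]
    (P : RootPairing ι ℤ M N) [Finite ι] [Fintype ι] [Nonempty ι]
    (hirr : ∀ R' : Set ι, RootD.IsClosedSub P R' → RootD.IsSymmSub P R' → RootD.IsClosedSub P R'ᶜ →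
      RootD.IsSymmSub P R'ᶜ → R' = ∅ ∨ R' = Set.univ)
    (i j : ι) (hl : P.RootForm (P.root i) (P.root i) = P.RootForm (P.root j) (P.root j)) :
    ∃ g : P.Aut, g ∈ P.weylGroup ∧ g • i = j := by
  have : Module.IsReflexive ℤ M := isReflexive_left P
  -- all roots are chain-connected
  have hchain : ∀ i j : ι, Relation.ReflTransGen (fun a b : ι => ¬ P.IsOrthogonal a b) i j := by
    intro i j
    obtain ⟨hc, hs, hc', hs'⟩ := Groth.Agent.S5506.result P i
    rcases hirr _ hc hs hc' hs' with h | h
    · exfalso
      have : i ∈ {j : ι | Relation.ReflTransGen (fun a b : ι => ¬ P.IsOrthogonal a b) i j} :=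
        Relation.ReflTransGen.refl
      rw [h] at this
      exact this
    · have : j ∈ {j : ι | Relation.ReflTransGen (fun a b : ι => ¬ P.IsOrthogonal a b) i j} := by
        rw [h]; trivial
      exact this
  -- W-invariance of the canonical form
  have hinv : ∀ g : P.Aut, g ∈ P.weylGroup → ∀ x y : M, P.RootForm (g • x) (g • y) = P.RootForm x y := by
    intro g hg
    induction hg using RootPairing.weylGroup.induction with
    | mem k =>
      intro x y
      rw [RootPairing.Equiv.reflection_smul, RootPairing.Equiv.reflection_smul]
      exact P.rootForm_reflection_reflection_apply k x y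
    | one => intro x y; rw [one_smul, one_smul]
    | mul a b _ _ iha ihb =>
      intro x y
      rw [mul_smul, mul_smul, iha, ihb]
  -- some W-conjugate of i is non-orthogonal to k
  have hkey : ∀ k : ι, ∃ g : P.Aut, g ∈ P.weylGroup ∧ P.pairing (g • i) k ≠ 0 := by
    intro k
    have := hchain i k
    induction this with
    | refl => exact ⟨1, one_mem _, by rw [one_smul, P.pairing_same]; norm_num⟩
    | @tail b c _ hbc ih =>
      obtain ⟨g, hg, hgb⟩ := ih
      have hbc' : P.pairing b c ≠ 0 := by
        intro h0
        exact hbc ⟨h0, RootPairing.pairing_eq_zero_iff.mp h0⟩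
      by_cases hoc : P.pairing (g • i) c = 0
      · refine ⟨Equiv.reflection P b * g, mul_mem (P.reflection_mem_weylGroup b) hg, ?_⟩
        have hr : P.root ((Equiv.reflection P b * g) • i) =
            P.root (g • i) - P.pairing (g • i) b • P.root b := by
          rw [mul_smul, root_smul, RootPairing.Equiv.reflection_smul, P.reflection_apply_root]
        have hp : P.pairing ((Equiv.reflection P b * g) • i) c =
            P.pairing (g • i) c - P.pairing (g • i) b * P.pairing b c := by
          have h1 := P.root_coroot'_eq_pairing c ((Equiv.reflection P b * g) • i)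
          rw [hr, map_sub, (P.coroot' c).map_smul, P.root_coroot'_eq_pairing,
            P.root_coroot'_eq_pairing, smul_eq_mul] at h1
          exact h1.symm
        rw [hp, hoc, zero_sub, neg_ne_zero]
        exact mul_ne_zero hgb hbc'
      · exact ⟨g, hg, hoc⟩
  obtain ⟨g, hg, hgj⟩ := hkey j
  have hno : ¬ P.IsOrthogonal (g • i) j := fun h => hgj h.1
  have hl' : P.RootForm (P.root (g • i)) (P.root (g • i)) = P.RootForm (P.root j) (P.root j) := by
    rw [root_smul, hinv g hg, hl]
  obtain ⟨g', hg', hg'j⟩ := Groth.Agent.S5469.result P (g • i) j hno hl'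
  exact ⟨g' * g, mul_mem hg' hg, by rw [mul_smul, hg'j]⟩

end Groth.Agent.S5470
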