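import Groth.Statements.S5471
import Groth.Agent.Lib.Helper3.RootD6

set_option autoImplicit false
open RootPairing
open scoped Pointwise
open RootD

namespace Groth.Agent.S5471

open Groth.Agent.Lib.helper3.RootDLib

/-- In a reduced irreducible root datum the ratios of squared root lengths to the minimal one form one
of the sets {1}, {1, 2}, {1, 3}. -/
theorem result {ι M N : Type*} [AddCommGroup M] [AddCommGroup N]
    (P : RootPairing ι ℤ M N) [Finite ι] [Fintype ι] [Nonempty ι] [P.IsReduced]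
    (hirr : ∀ R' : Set ι, RootD.IsClosedSub P R' → RootD.IsSymmSub P R' → RootD.IsClosedSub P R'ᶜ →
      RootD.IsSymmSub P R'ᶜ → R' = ∅ ∨ R' = Set.univ)
    (i₀ : ι) (hmin : ∀ i : ι, P.RootForm (P.root i₀) (P.root i₀) ≤ P.RootForm (P.root i) (P.root i)) :
    (∀ i : ι, P.RootForm (P.root i) (P.root i) = P.RootForm (P.root i₀) (P.root i₀) ∨
        P.RootForm (P.root i) (P.root i) = 2 * P.RootForm (P.root i₀) (P.root i₀) ∨
        P.RootForm (P.root i) (P.root i) = 3 * P.RootForm (P.root i₀) (P.root i₀)) ∧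
      ¬ ((∃ i : ι, P.RootForm (P.root i) (P.root i) = 2 * P.RootForm (P.root i₀) (P.root i₀)) ∧
          ∃ j : ι, P.RootForm (P.root j) (P.root j) = 3 * P.RootForm (P.root i₀) (P.root i₀)) := by
  classical
  have : Module.IsReflexive ℤ M := isReflexive_left P
  have hpos : ∀ k, 0 < P.RootForm (P.root k) (P.root k) := rootForm_root_pos P
  have hratio : ∀ i j, P.pairing i j ≠ 0 →
      P.RootForm (P.root i) (P.root i) = P.RootForm (P.root j) (P.root j) ∨
      2 * P.RootForm (P.root i) (P.root i) = P.RootForm (P.root j) (P.root j) ∨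
      P.RootForm (P.root i) (P.root i) = 2 * P.RootForm (P.root j) (P.root j) ∨
      3 * P.RootForm (P.root i) (P.root i) = P.RootForm (P.root j) (P.root j) ∨
      P.RootForm (P.root i) (P.root i) = 3 * P.RootForm (P.root j) (P.root j) := by
    intro i j hij
    have hmem := P.pairingIn_pairingIn_mem_set_of_isCrystal_of_isRed i j
    rw [pairingIn_eq, pairingIn_eq] at hmem
    have hsw := pairing_mul_rootForm_swap P i j
    have hi := hpos i
    have hj := hpos j
    simp only [Set.mem_insert_iff, Set.mem_singleton_iff, Prod.mk.injEq] at hmem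
    rcases hmem with ⟨h1, h2⟩ | ⟨h1, h2⟩ | ⟨h1, h2⟩ | ⟨h1, h2⟩ | ⟨h1, h2⟩ | ⟨h1, h2⟩ |
      ⟨h1, h2⟩ | ⟨h1, h2⟩ | ⟨h1, h2⟩ | ⟨h1, h2⟩ | ⟨h1, h2⟩ | ⟨h1, h2⟩ | ⟨h1, h2⟩ <;>
    first
    | exact absurd h1 hij
    | (rw [h1, h2] at hsw; omega)
  have hconj : ∀ i k : ι, ∃ i' : ι, P.pairing i' k ≠ 0 ∧
      P.RootForm (P.root i') (P.root i') = P.RootForm (P.root i) (P.root i) := by
    intro i k
    obtain ⟨g, hg, hgk⟩ := exists_weyl_smul_pairing_ne_zero P hirr i k
    exact ⟨g • i, hgk, by rw [root_smul, rootForm_weyl_smul P g hg]⟩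
  refine ⟨?_, ?_⟩
  · intro i
    obtain ⟨i', hne, hl⟩ := hconj i i₀
    have h1 := hratio i' i₀ hne
    have h2 := hmin i
    have h3 := hpos i₀
    rw [hl] at h1
    omega
  · rintro ⟨⟨i, hi⟩, ⟨j, hj⟩⟩
    obtain ⟨i', hne, hl⟩ := hconj i j
    have h1 := hratio i' j hne
    have h3 := hpos i₀
    rw [hl] at h1
    omega

end Groth.Agent.S5471
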