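import Groth.Statements.S5472
import Groth.Agent.Lib.Helper3.RootD12

set_option autoImplicit false
open RootPairing
open scoped Pointwise
open RootD

namespace Groth.Agent.S5472

open Groth.Agent.Lib.helper3.RootDLib

/-- Let Δ be a system of simple roots (root-only sense), γ a positive root and α, β simple roots with
(γ, α^v) > 0 and (γ, β^v) ≥ 0 (equivalently: the order of s_α(γ) along Δ is smaller than that of γ,
and the order of s_β(γ) is at most that of γ). Then for every w in the group generated by s_α and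
s_β the order of w(γ) along Δ is at most that of γ, and strictly smaller unless w ∈ {1, s_β}. The
order is the sum of the coefficients along Δ; the conclusion is stated for the coefficient vector c
of γ - w(γ) along Δ: its coefficient sum is ≥ 0, and > 0 unless w = 1 or w = s_β. -/
theorem result {ι M N : Type*} [AddCommGroup M] [AddCommGroup N]
    (P : RootPairing ι ℤ M N) [Finite ι] (Δ : Set ι) (hΔ : RootD.IsSimpleSys P Δ)
    (k i j : ι) (hk : k ∈ RootD.posOf P Δ) (hi : i ∈ Δ) (hj : j ∈ Δ)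
    (hα : 0 < P.pairing k i) (hβ : 0 ≤ P.pairing k j)
    (g : P.Aut) (hg : g ∈ Subgroup.closure {Equiv.reflection P i, Equiv.reflection P j})
    (c : ι →₀ ℤ) (hc : ↑c.support ⊆ Δ)
    (hck : Finsupp.linearCombination ℤ P.root c = P.root k - P.root (g • k)) :
    0 ≤ c.sum (fun _ a => a) ∧ (g ≠ 1 → g ≠ Equiv.reflection P j → 0 < c.sum (fun _ a => a)) := by
  classical
  haveI : Module.IsReflexive ℤ M := isReflexive_left P
  set Δ' : Set ι := {i, j} with hΔ'
  have hsub : Δ' ⊆ Δ := by
    rintro x (rfl | rfl)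
    · exact hi
    · exact hj
  have hR₂ := inSpan_reflectionPerm_mem P Δ'
  have hΔ₂ : IsSimpleSys (subPairing P (inSpan P Δ') hR₂) (Subtype.val ⁻¹' Δ') :=
    isSimpleSys_subPairing_inSpan P hΔ hsub
  have himg : Subtype.val '' (Subtype.val ⁻¹' Δ' : Set ↥(inSpan P Δ')) = Δ' := by
    rw [Subtype.image_preimage_coe]
    exact Set.inter_eq_right.mpr (subset_inSpan P Δ')
  have hg' : g ∈ Subgroup.closure ((fun i : ι => Equiv.reflection P i) ''
      (Subtype.val '' (Subtype.val ⁻¹' Δ' : Set ↥(inSpan P Δ')))) := by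
    rw [himg, hΔ', Set.image_pair]
    exact hg
  obtain ⟨g', hg'mem, hact⟩ := exists_subPairing_aut P (inSpan P Δ') hR₂ _ g hg'
  obtain ⟨L, hL, hLg⟩ := exists_list_of_mem_closure (subPairing P (inSpan P Δ') hR₂) g' hg'mem
  have hdom : ∀ b ∈ (Subtype.val ⁻¹' Δ' : Set ↥(inSpan P Δ')),
      0 ≤ (subPairing P (inSpan P Δ') hR₂).coroot' b (P.root k) := by
    rintro ⟨b, hb⟩ hbΔ
    change 0 ≤ P.toLinearMap (P.root k) (P.coroot b)
    have hb2 : b = i ∨ b = j := hbΔ
    rcases hb2 with rfl | rfl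
    · exact le_of_lt hα
    · exact hβ
  have hY1 := sub_prodRefl_smul_mem_natSpan (subPairing P (inSpan P Δ') hR₂) hΔ₂ (P.root k) hdom
    _ L rfl hL
  rw [hLg, hact, ← root_smul, natSpan_subPairing, himg] at hY1
  have hY1Δ : P.root k - P.root (g • k) ∈ natSpan P Δ := natSpan_mono P hsub hY1
  obtain ⟨e, he, he0, hek⟩ := exists_finsupp_of_mem_natSpan P hY1Δ
  have hce : c = e := finsupp_eq_of_linearCombination_eq P hΔ.linInd hc he (by rw [hck, hek])
  have hc0 : ∀ a, 0 ≤ c a := hce ▸ he0
  have hsum : 0 ≤ c.sum (fun _ a => a) := Finset.sum_nonneg (fun a _ => hc0 a)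
  refine ⟨hsum, ?_⟩
  intro hg1 hgj
  by_contra hlt
  have hs0 : c.sum (fun _ a => a) = 0 := le_antisymm (not_lt.mp hlt) hsum
  have hczero := eq_zero_of_sum_eq_zero hc0 hs0
  have hfixP : P.root (g • k) = P.root k := by
    rw [hczero, map_zero] at hck
    exact (sub_eq_zero.mp hck.symm).symm
  have hfix : prodRefl (subPairing P (inSpan P Δ') hR₂) L • P.root k = P.root k := by
    rw [hLg, hact, ← root_smul, hfixP]
  have hY2 := prodRefl_mem_closure_of_smul_eq (subPairing P (inSpan P Δ') hR₂) hΔ₂ (P.root k) hdom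
    _ L rfl hL hfix
  rw [hLg] at hY2
  have hjR : j ∈ inSpan P Δ' := subset_inSpan P Δ' (by simp [hΔ'])
  have hgen : ((fun r : ↥(inSpan P Δ') => Equiv.reflection (subPairing P (inSpan P Δ') hR₂) r) ''
      {b | b ∈ (Subtype.val ⁻¹' Δ' : Set ↥(inSpan P Δ')) ∧
        (subPairing P (inSpan P Δ') hR₂).coroot' b (P.root k) = 0}) ⊆
      {Equiv.reflection (subPairing P (inSpan P Δ') hR₂) ⟨j, hjR⟩} := by
    rintro _ ⟨⟨b, hb⟩, ⟨hbΔ, hb0⟩, rfl⟩
    have hb2 : b = i ∨ b = j := hbΔ
    rcases hb2 with rfl | rfl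
    · exfalso
      change P.toLinearMap (P.root k) (P.coroot b) = 0 at hb0
      exact (ne_of_gt hα) hb0
    · rfl
  have hg'mem2 := Subgroup.closure_mono hgen hY2
  rw [Subgroup.mem_closure_singleton] at hg'mem2
  obtain ⟨z, hz⟩ := hg'mem2
  have hsq : Equiv.reflection (subPairing P (inSpan P Δ') hR₂) ⟨j, hjR⟩ *
      Equiv.reflection (subPairing P (inSpan P Δ') hR₂) ⟨j, hjR⟩ = 1 := reflection_mul_self _ _
  have hcases : g' = 1 ∨ g' = Equiv.reflection (subPairing P (inSpan P Δ') hR₂) ⟨j, hjR⟩ := by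
    rcases Int.even_or_odd z with ⟨t, ht⟩ | ⟨t, ht⟩
    · left
      rw [← hz, ht, ← two_mul, zpow_mul, zpow_two, hsq, one_zpow]
    · right
      rw [← hz, ht, zpow_add, zpow_mul, zpow_two, hsq, one_zpow, one_mul, zpow_one]
  have hgW : g ∈ P.weylGroup := by
    have hle : Subgroup.closure ({Equiv.reflection P i, Equiv.reflection P j} : Set P.Aut) ≤
        P.weylGroup := by
      rw [Subgroup.closure_le]
      rintro _ (rfl | rfl)
      · exact P.reflection_mem_weylGroup i
      · exact P.reflection_mem_weylGroup j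
    exact hle hg
  rcases hcases with h | h
  · apply hg1
    apply eq_of_smul_eq P g 1 hgW (one_mem _)
    intro m
    rw [← hact, h, one_smul, one_smul]
  · apply hgj
    apply eq_of_smul_eq P g (Equiv.reflection P j) hgW (P.reflection_mem_weylGroup j)
    intro m
    rw [← hact, h, RootPairing.Equiv.reflection_smul, RootPairing.Equiv.reflection_smul,
      RootPairing.reflection_apply, RootPairing.reflection_apply]
    rfl

end Groth.Agent.S5472
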