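import Groth.Statements.S5473
import Groth.Agent.Lib.Helper3.RootD

set_option autoImplicit false
open RootD

namespace Groth.Agent.S5473

open Groth.Agent.Lib.helper3.RootDLib

/-- If a linear map f and its transpose g induce bijections from the roots of R' onto the roots of R and
from the coroots of R onto the coroots of R' respectively (a morphism of root data in the
two-bijection sense), then the two bijections correspond: the coroot of α' is g applied to the
coroot of f(α'). -/
theorem result {ι M N ι' M' N' : Type*} [AddCommGroup M] [AddCommGroup N] [AddCommGroup M'] [AddCommGroup N']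
    (P : RootPairing ι ℤ M N) (P' : RootPairing ι' ℤ M' N') [Finite ι] [Finite ι']
    (f : M' →ₗ[ℤ] M) (g : N →ₗ[ℤ] N') (hfg : ∀ (m' : M') (n : N), P.toLinearMap (f m') n = P'.toLinearMap m' (g n))
    (e : ι' ≃ ι) (he : ∀ i' : ι', f (P'.root i') = P.root (e i'))
    (e' : ι ≃ ι') (he' : ∀ i : ι, g (P.coroot i) = P'.coroot (e' i)) :
    ∀ i' : ι', g (P.coroot (e i')) = P'.coroot i' := by
  intro i'
  classical
  haveI : Module.IsReflexive ℤ M := isReflexive_left P
  haveI : Module.IsTorsionFree ℤ M := inferInstance
  haveI : IsAddTorsionFree M := .of_isTorsionFree ℤ M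
  set δ := e'.symm i' with hδ
  have h1 : g (P.coroot δ) = P'.coroot i' := by rw [he', hδ, Equiv.apply_symm_apply]
  have key : P.coroot δ = P.coroot (e i') := by
    apply P.injOn_dualMap_subtype_span_root_coroot (Set.mem_range_self _) (Set.mem_range_self _)
    simp only [LinearMap.coe_comp, Function.comp_apply]
    apply Module.Dual.eq_of_preReflection_mapsTo' (Set.finite_range P.root)
    · exact Submodule.subset_span (Set.mem_range_self (e i'))
    · change P.toLinearMap (P.root (e i')) (P.coroot δ) = 2
      rw [← he, hfg, h1]
      exact P'.root_coroot_two i'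
    · rintro _ ⟨k, rfl⟩
      obtain ⟨k', rfl⟩ := e.surjective k
      refine ⟨e (P'.reflectionPerm i' k'), ?_⟩
      rw [← he, P'.root_reflectionPerm, P'.reflection_apply, Module.preReflection_apply]
      change _ = P.root (e k') - (P.toLinearMap (P.root (e k')) (P.coroot δ)) • P.root (e i')
      rw [← he k', hfg, h1, ← he i', map_sub, map_smul]
      rfl
    · exact P.coroot_root_two (e i')
    · exact P.mapsTo_reflection_root (e i')
  rw [← key, h1]

end Groth.Agent.S5473
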