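import Groth.Statements.S5474
import Groth.Agent.Lib.Helper3.RootD
import Mathlib.LinearAlgebra.FreeModule.Finite.Quotient

set_option autoImplicit false
open RootD

namespace Groth.Agent.S5474

open Groth.Agent.Lib.helper3.RootDLib

/-- Every morphism between semisimple root data is an isogeny (injective on weight lattices with finite
cokernel). -/
theorem result {ι M N ι' M' N' : Type*} [AddCommGroup M] [AddCommGroup N] [AddCommGroup M'] [AddCommGroup N']
    (P : RootPairing ι ℤ M N) (P' : RootPairing ι' ℤ M' N') [Finite ι] [Finite ι']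
    [Module.Finite ℤ M] [Module.Finite ℤ N] [Module.Finite ℤ M'] [Module.Finite ℤ N']
    (hss : Module.finrank ℤ (Submodule.span ℤ (Set.range P.root)) = Module.finrank ℤ M)
    (hss' : Module.finrank ℤ (Submodule.span ℤ (Set.range P'.root)) = Module.finrank ℤ M')
    (f : RootPairing.Hom P' P) :
    Function.Injective f.weightMap ∧ Finite (M ⧸ LinearMap.range f.weightMap) := by
  classical
  haveI : Fintype ι := Fintype.ofFinite ι
  haveI : Fintype ι' := Fintype.ofFinite ι'
  haveI : Module.IsReflexive ℤ M := isReflexive_left P
  haveI : Module.IsReflexive ℤ M' := isReflexive_left P'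
  have h1 : (P'.rootSpan ℤ).map f.weightMap = P.rootSpan ℤ := by
    rw [RootPairing.rootSpan, Submodule.map_span, ← Set.range_comp, f.root_weightMap, Set.range_comp,
      Equiv.range_eq_univ, Set.image_univ]
  have h2 : (P.corootSpan ℤ).map f.coweightMap = P'.corootSpan ℤ := by
    rw [RootPairing.corootSpan, Submodule.map_span, ← Set.range_comp, f.coroot_coweightMap, Set.range_comp,
      Equiv.range_eq_univ, Set.image_univ]
  have r1 : Module.finrank ℤ (P.rootSpan ℤ) ≤ Module.finrank ℤ (P'.rootSpan ℤ) := by
    rw [← h1]; exact Submodule.finrank_map_le _ _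
  have r2 : Module.finrank ℤ (P'.corootSpan ℤ) ≤ Module.finrank ℤ (P.corootSpan ℤ) := by
    rw [← h2]; exact Submodule.finrank_map_le _ _
  have e1 := P.finrank_corootSpan_eq'
  have e2 := P'.finrank_corootSpan_eq'
  have hMM : Module.finrank ℤ M = Module.finrank ℤ M' := by
    change Module.finrank ℤ (P.rootSpan ℤ) = Module.finrank ℤ M at hss
    change Module.finrank ℤ (P'.rootSpan ℤ) = Module.finrank ℤ M' at hss'
    omega
  have hrange : Module.finrank ℤ (LinearMap.range f.weightMap) = Module.finrank ℤ M := by
    apply le_antisymm (Submodule.finrank_le _)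
    rw [← hss]
    apply Submodule.finrank_mono
    change P.rootSpan ℤ ≤ _
    rw [← h1]
    exact LinearMap.map_le_range
  constructor
  · have := Submodule.disjoint_ker_of_finrank_le (L := ⊤) f.weightMap (by
      rw [finrank_top, Submodule.map_top, hrange, hMM])
    rw [← LinearMap.ker_eq_bot]
    simpa using this
  · haveI : Module.Free ℤ M := inferInstance
    exact Submodule.finiteQuotientOfFreeOfRankEq _ hrange

end Groth.Agent.S5474
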