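import Groth.Statements.S5475
import Groth.Agent.Lib.Helper3.RootD4

set_option autoImplicit false
open RootD

namespace Groth.Agent.S5475

open Groth.Agent.Lib.helper3.RootDLib

/-- In an adjoint root datum every indivisible root is an indivisible element of the weight lattice. -/
theorem result {ι M N : Type*} [AddCommGroup M] [AddCommGroup N]
    (P : RootPairing ι ℤ M N) [Finite ι] (had : Submodule.span ℤ (Set.range P.root) = ⊤)
    (i : ι) (hind : RootD.IsIndiv P i) (m : M) (n : ℤ) (h : n • m = P.root i) : n = 1 ∨ n = -1 := by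
  obtain ⟨Δ, hΔ, hiΔ⟩ := exists_isSimpleSys_mem P i hind
  have hspan : Submodule.span ℤ (P.root '' Δ) = ⊤ := by
    rw [eq_top_iff, ← had, Submodule.span_le]
    rintro _ ⟨k, rfl⟩
    exact root_mem_span_of_isSimpleSys P hΔ k
  have hm : m ∈ Submodule.span ℤ (P.root '' Δ) := by rw [hspan]; trivial
  obtain ⟨c, hc, hcm⟩ := (Finsupp.mem_span_image_iff_linearCombination ℤ).mp hm
  have heq : n • c = Finsupp.single i 1 := by
    apply finsupp_eq_of_linearCombination_eq P hΔ.linInd (Submodule.smul_mem _ _ hc)
      (Finsupp.single_mem_supported ℤ 1 hiΔ)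
    rw [map_smul, hcm, h, Finsupp.linearCombination_single, one_smul]
  have h1 := DFunLike.congr_fun heq i
  simp only [Finsupp.coe_smul, Pi.smul_apply, smul_eq_mul, Finsupp.single_eq_same] at h1
  exact Int.eq_one_or_neg_one_of_mul_eq_one h1

end Groth.Agent.S5475
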