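import Groth.Statements.S5476
import Groth.Agent.Lib.Helper3.RootD

set_option autoImplicit false
open RootD

namespace Groth.Agent.S5476

open Groth.Agent.Lib.helper3.RootDLib

lemma ker_polarization_eq {ι M N : Type*} [AddCommGroup M] [AddCommGroup N]
    (P : RootPairing ι ℤ M N) [Fintype ι] :
    LinearMap.ker P.Polarization = (⨅ i : ι, LinearMap.ker (P.coroot' i) : Submodule ℤ M) := by
  ext x
  simp only [LinearMap.mem_ker, Submodule.mem_iInf]
  constructor
  · intro hx
    have h0 : P.RootForm x x = 0 := by
      rw [← P.toLinearMap_apply_apply_Polarization, hx, map_zero]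
    rw [P.rootForm_apply_apply] at h0
    have h1 := (Finset.sum_eq_zero_iff_of_nonneg (fun i _ => mul_self_nonneg (P.coroot' i x))).mp h0
    intro i
    exact mul_self_eq_zero.mp (h1 i (Finset.mem_univ i))
  · intro hx
    rw [P.Polarization_apply]
    apply Finset.sum_eq_zero
    intro i _
    rw [hx i, zero_smul]

lemma finrank_range_polarization {ι M N : Type*} [AddCommGroup M] [AddCommGroup N]
    (P : RootPairing ι ℤ M N) [Fintype ι] [Module.Finite ℤ M] [Module.Finite ℤ N] :
    Module.finrank ℤ (LinearMap.range P.Polarization) = Module.finrank ℤ (P.rootSpan ℤ) := by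
  rw [← P.finrank_corootSpan_eq']
  apply le_antisymm
  · apply Submodule.finrank_mono
    rintro _ ⟨x, rfl⟩
    rw [P.Polarization_apply]
    apply Submodule.sum_mem
    intro i _
    exact Submodule.smul_mem _ _ (Submodule.subset_span (Set.mem_range_self i))
  · rw [← P.finrank_rootSpan_map_polarization_eq_finrank_corootSpan]
    apply Submodule.finrank_mono
    exact LinearMap.map_le_range

lemma finrank_coradical {ι M N : Type*} [AddCommGroup M] [AddCommGroup N]
    (P : RootPairing ι ℤ M N) [Fintype ι] [Module.Finite ℤ M] [Module.Finite ℤ N] :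
    Module.finrank ℤ (⨅ i : ι, LinearMap.ker (P.coroot' i) : Submodule ℤ M) +
        Module.finrank ℤ (P.rootSpan ℤ) = Module.finrank ℤ M := by
  rw [← ker_polarization_eq, ← finrank_range_polarization,
    ← LinearEquiv.finrank_eq P.Polarization.quotKerEquivRange, add_comm]
  exact (LinearMap.ker P.Polarization).finrank_quotient_add_finrank

/-- The lattice of the coradical (weights killed by every coroot) and the lattice of the radical
(coweights killed by every root) both have rank rgred - rgss, the rank of the weight lattice minus
the rank of the lattice generated by the roots; and the datum is semisimple (the roots span a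
sublattice of full rank) if and only if the coradical lattice vanishes, if and only if the radical
lattice vanishes. -/
theorem result {ι M N : Type*} [AddCommGroup M] [AddCommGroup N]
    (P : RootPairing ι ℤ M N) [Finite ι] [Module.Finite ℤ M] [Module.Finite ℤ N] :
    (Module.finrank ℤ (⨅ i : ι, LinearMap.ker (P.coroot' i) : Submodule ℤ M) +
        Module.finrank ℤ (Submodule.span ℤ (Set.range P.root)) = Module.finrank ℤ M) ∧
      (Module.finrank ℤ (⨅ i : ι, LinearMap.ker (P.root' i) : Submodule ℤ N) +
        Module.finrank ℤ (Submodule.span ℤ (Set.range P.root)) = Module.finrank ℤ M) ∧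
      (Module.finrank ℤ (Submodule.span ℤ (Set.range P.root)) = Module.finrank ℤ M ↔
        (⨅ i : ι, LinearMap.ker (P.coroot' i) : Submodule ℤ M) = ⊥) ∧
      (Module.finrank ℤ (Submodule.span ℤ (Set.range P.root)) = Module.finrank ℤ M ↔
        (⨅ i : ι, LinearMap.ker (P.root' i) : Submodule ℤ N) = ⊥) := by
  classical
  haveI : Fintype ι := Fintype.ofFinite ι
  haveI : Module.IsReflexive ℤ M := isReflexive_left P
  haveI : Module.IsReflexive ℤ N := isReflexive_right P
  have hA := finrank_coradical P
  have hB := finrank_coradical P.flip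
  have hMN : Module.finrank ℤ M = Module.finrank ℤ N := Module.finrank_of_isPerfPair P.toLinearMap
  have hcr : Module.finrank ℤ (P.corootSpan ℤ) = Module.finrank ℤ (P.rootSpan ℤ) := P.finrank_corootSpan_eq'
  have hB' : Module.finrank ℤ (⨅ i : ι, LinearMap.ker (P.root' i) : Submodule ℤ N) +
        Module.finrank ℤ (P.rootSpan ℤ) = Module.finrank ℤ M := by
    rw [hMN, ← hcr]
    exact hB
  refine ⟨hA, hB', ?_, ?_⟩
  · rw [← Submodule.finrank_eq_zero (R := ℤ)]
    change Module.finrank ℤ (P.rootSpan ℤ) = _ ↔ _
    omega
  · rw [← Submodule.finrank_eq_zero (R := ℤ)]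
    change Module.finrank ℤ (P.rootSpan ℤ) = _ ↔ _
    omega

end Groth.Agent.S5476
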