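import Groth.Statements.S5478
import Groth.Agent.Lib.Helper3.RootD
import Groth.Agent.S5477

set_option autoImplicit false
open RootPairing
open scoped Pointwise
open RootD

namespace Groth.Agent.S5478

open Groth.Agent.Lib.helper3.RootDLib

/-- The group of automorphisms of a root datum that act trivially on the radical is finite. -/
theorem result {ι M N : Type*} [AddCommGroup M] [AddCommGroup N]
    (P : RootPairing ι ℤ M N) [Finite ι] :
    Set.Finite {u : P.Aut | ∀ m : M, ∃ n : ℕ, 0 < n ∧ n • (u • m - m) ∈ Submodule.span ℤ (Set.range P.root)} := by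
  classical
  set Q : Submodule ℤ M := Submodule.span ℤ (Set.range P.root) with hQ
  have hroot : ∀ (g : P.Aut) (k : ι), P.root (g • k) = g • P.root k :=
    fun g k => RootPairing.Equiv.root_indexEquiv_eq_smul P k g
  have hstab : ∀ (g : P.Aut) (x : M), x ∈ Q → g • x ∈ Q := by
    intro g x hx
    induction hx using Submodule.span_induction with
    | mem x hx =>
      obtain ⟨i, rfl⟩ := hx
      rw [← hroot]
      exact Submodule.subset_span ⟨_, rfl⟩
    | zero => rw [smul_zero]; exact Q.zero_mem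
    | add x y _ _ hx hy => rw [smul_add]; exact Q.add_mem hx hy
    | smul a x _ hx => rw [smul_comm]; exact Q.smul_mem a hx
  set S : Set P.Aut := {u : P.Aut | ∀ m : M, ∃ n : ℕ, 0 < n ∧ n • (u • m - m) ∈ Q} with hS
  have hmul : ∀ u v : P.Aut, u ∈ S → v ∈ S → u * v ∈ S := by
    intro u v hu hv m
    obtain ⟨n₁, hn₁, h₁⟩ := hv m
    obtain ⟨n₂, hn₂, h₂⟩ := hu m
    refine ⟨n₁ * n₂, Nat.mul_pos hn₁ hn₂, ?_⟩
    have : (n₁ * n₂) • ((u * v) • m - m) = n₂ • (u • (n₁ • (v • m - m))) + n₁ • (n₂ • (u • m - m)) := by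
      rw [mul_smul u v, smul_comm u n₁, smul_sub u]
      generalize u • v • m = a
      generalize u • m = b
      module
    rw [this]
    exact Q.add_mem (Q.smul_of_tower_mem n₂ (hstab u _ h₁)) (Q.smul_of_tower_mem n₁ h₂)
  have hinv : ∀ u : P.Aut, u ∈ S → u⁻¹ ∈ S := by
    intro u hu m
    obtain ⟨n, hn, h⟩ := hu m
    refine ⟨n, hn, ?_⟩
    have : n • (u⁻¹ • m - m) = -(u⁻¹ • (n • (u • m - m))) := by
      rw [smul_comm u⁻¹ n, smul_sub u⁻¹, inv_smul_smul, ← smul_neg, neg_sub]
    rw [this]
    exact Q.neg_mem (hstab u⁻¹ _ h)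
  have hinj : Set.InjOn (fun (u : P.Aut) (i : ι) => u • i) S := by
    intro u hu v hv huv
    have hw : v⁻¹ * u ∈ S := hmul _ _ (hinv v hv) hu
    have hfix : ∀ i : ι, (v⁻¹ * u) • i = i := by
      intro i
      rw [mul_smul]
      have := congrFun huv i
      simp only at this
      rw [this, inv_smul_smul]
    have := Groth.Agent.S5477.result P (v⁻¹ * u) hw hfix
    rw [inv_mul_eq_one] at this
    exact this.symm
  exact Set.Finite.of_injOn (t := Set.univ) (fun _ _ => Set.mem_univ _) hinj Set.finite_univ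

end Groth.Agent.S5478
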