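import Groth.Statements.S5479
import Groth.Agent.Lib.Helper3.RootD3
import Groth.Agent.S5455

set_option autoImplicit false
open RootPairing
open scoped Pointwise
open RootD

namespace Groth.Agent.S5479

open Groth.Agent.Lib.helper3.RootDLib

/-- Aut(R) is the semidirect product of the Weyl group by the stabiliser E_Δ of a system of simple
roots: every automorphism is uniquely w · e with w ∈ W and e(Δ) = Δ. -/
theorem result {ι M N : Type*} [AddCommGroup M] [AddCommGroup N]
    (P : RootPairing ι ℤ M N) [Finite ι] (Δ : Set ι) (hΔ : RootD.IsSimpleSys P Δ) (u : P.Aut) :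
    ∃! w : P.weylGroup, (fun i : ι => ((w : P.Aut)⁻¹ * u) • i) '' Δ = Δ := by
  have hΔu : IsSimpleSys P ((fun i : ι => u • i) '' Δ) := isSimpleSys_image P u hΔ
  obtain ⟨g, hg, hgΔ⟩ := Groth.Agent.S5455.result P Δ _ hΔ hΔu
  have hcomp : ∀ a b : P.Aut, (fun i : ι => (a * b) • i) '' Δ =
      (fun i : ι => a • i) '' ((fun i : ι => b • i) '' Δ) := by
    intro a b
    rw [Set.image_image]
    simp only [mul_smul]
  refine ⟨⟨g, hg⟩, ?_, ?_⟩
  · change (fun i : ι => (g⁻¹ * u) • i) '' Δ = Δ
    rw [hcomp, ← hgΔ, image_inv_smul_image]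
  · rintro ⟨w, hw⟩ hwΔ
    change (fun i : ι => (w⁻¹ * u) • i) '' Δ = Δ at hwΔ
    have h1 : (fun i : ι => w • i) '' Δ = (fun i : ι => u • i) '' Δ := by
      have := congrArg (fun T : Set ι => (fun i : ι => w • i) '' T) hwΔ
      beta_reduce at this
      rw [← this, ← hcomp, mul_inv_cancel_left]
    have h2 : ∀ i ∈ Δ, (g⁻¹ * w) • i ∈ posOf P Δ := by
      intro i hi
      have hmem : w • i ∈ (fun i : ι => g • i) '' Δ := by
        rw [hgΔ, ← h1]; exact ⟨i, hi, rfl⟩
      obtain ⟨j, hj, hji⟩ := hmem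
      change g • j = w • i at hji
      rw [mul_smul, ← hji, inv_smul_smul]
      exact subset_posOf P Δ hj
    have h3 := eq_one_of_smul_mem_posOf P hΔ (g⁻¹ * w) (mul_mem (inv_mem hg) hw) h2
    have h4 : w = g := by
      rw [inv_mul_eq_one] at h3
      exact h3.symm
    exact Subtype.ext h4

end Groth.Agent.S5479
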