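import Groth.Statements.S5480
import Groth.Agent.Lib.Helper3.RootD6
import Groth.Agent.S5452

set_option autoImplicit false
open RootD

namespace Groth.Agent.S5480

open Groth.Agent.Lib.helper3.RootDLib

/-- For a p-morphism of reduced root data with root bijection u and radicial exponents q: (a) for all
roots α, β one has q(s_α(β)) = q(β) and u(s_α(β)) = s_{u(α)}(u(β)); (b) the exponents are invariant
under the Weyl group, q(w(α)) = q(α); (c) there is an isomorphism ū from the Weyl group of the first
datum to that of the second with ū(s_α) = s_{u(α)} and u(w(α)) = ū(w)(u(α)) for every Weyl group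
element w and every root α. -/
theorem result {ι M N ι' M' N' : Type*} [AddCommGroup M] [AddCommGroup N] [AddCommGroup M'] [AddCommGroup N']
    (P : RootPairing ι ℤ M N) (P' : RootPairing ι' ℤ M' N') [Finite ι] [Finite ι'] [P.IsReduced] [P'.IsReduced]
    (p : ℕ) (hp : 0 < p) (f : M' →ₗ[ℤ] M) (g : N →ₗ[ℤ] N')
    (hfg : ∀ (m' : M') (n : N), P.toLinearMap (f m') n = P'.toLinearMap m' (g n))
    (u : ι ≃ ι') (q : ι → ℕ) (hq : ∀ i, ∃ e : ℕ, q i = p ^ e)
    (hroot : ∀ i : ι, f (P'.root (u i)) = (q i : ℤ) • P.root i)
    (hcoroot : ∀ i : ι, g (P.coroot i) = (q i : ℤ) • P'.coroot (u i)) :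
    (∀ i j : ι, q (P.reflectionPerm i j) = q j ∧ u (P.reflectionPerm i j) = P'.reflectionPerm (u i) (u j)) ∧
      (∀ w ∈ P.weylGroup, ∀ i : ι, q (w • i) = q i) ∧
      ∃ ubar : P.weylGroup ≃* P'.weylGroup,
        (∀ i : ι, ubar (RootPairing.weylGroup.ofIdx P i) = RootPairing.weylGroup.ofIdx P' (u i)) ∧
        ∀ (w : P.weylGroup) (i : ι), u ((w : P.Aut) • i) = ((ubar w : P'.weylGroup) : P'.Aut) • u i := by
  classical
  have : Module.IsReflexive ℤ M := isReflexive_left P
  have hqpos : ∀ i, 0 < q i := by
    intro i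
    obtain ⟨e, he⟩ := hq i
    rw [he]; exact pow_pos hp e
  have hpair : ∀ a b : ι, (q a : ℤ) * P.pairing a b = (q b : ℤ) * P'.pairing (u a) (u b) := by
    intro a b
    have h1 := hfg (P'.root (u a)) (P.coroot b)
    rw [hroot a, hcoroot b, map_smul, LinearMap.smul_apply, map_smul] at h1
    exact h1
  have hrefl0 : ∀ (t : ℤ) (i : ι), t • P.root i = 0 → t = 0 := by
    intro t i h
    rcases smul_eq_zero.mp h with h | h
    · exact h
    · exact absurd h (P.ne_zero i)
  -- (a)
  have ha : ∀ i j : ι, q (P.reflectionPerm i j) = q j ∧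
      u (P.reflectionPerm i j) = P'.reflectionPerm (u i) (u j) := by
    intro i j
    set k' := P'.reflectionPerm (u i) (u j) with hk'
    set k := u.symm k' with hk
    have huk : u k = k' := u.apply_symm_apply k'
    have h1 : f (P'.root k') = (q j : ℤ) • P.root (P.reflectionPerm i j) := by
      rw [hk', P'.root_reflectionPerm, P'.reflection_apply_root, map_sub, map_smul, hroot j,
        hroot i, P.root_reflectionPerm, P.reflection_apply_root, smul_sub, smul_smul, smul_smul,
        mul_comm (P'.pairing (u j) (u i)), ← hpair j i]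
    have h2 : f (P'.root k') = (q k : ℤ) • P.root k := by rw [← huk, hroot k]
    have h3 : (q k : ℤ) • P.root k = (q j : ℤ) • P.root (P.reflectionPerm i j) := by
      rw [← h2, h1]
    have hnli : ¬ LinearIndependent ℤ ![P.root k, P.root (P.reflectionPerm i j)] := by
      intro hli
      rw [LinearIndependent.pair_iff] at hli
      have := hli (q k) (-(q j : ℤ)) (by rw [neg_smul, h3]; abel)
      have := hqpos k
      omega
    have hkq := hqpos k
    have hjq := hqpos j
    rcases RootPairing.IsReduced.eq_or_eq_neg (P := P) k (P.reflectionPerm i j) hnli with h | h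
    · have hkeq : k = P.reflectionPerm i j := P.root.injective h
      rw [h, ← sub_eq_zero, ← sub_smul] at h3
      have h4 := hrefl0 _ _ h3
      refine ⟨?_, ?_⟩
      · rw [← hkeq]; omega
      · rw [← hkeq, huk]
    · exfalso
      rw [h, smul_neg, ← neg_smul, ← sub_eq_zero, ← sub_smul] at h3
      have h4 := hrefl0 _ _ h3
      omega
  -- (b)
  have hb : ∀ w ∈ P.weylGroup, ∀ i : ι, q (w • i) = q i := by
    intro w hw
    induction hw using RootPairing.weylGroup.induction with
    | mem k => intro i; exact (ha k i).1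
    | one => intro i; rw [one_smul]
    | mul a b _ _ iha ihb => intro i; rw [mul_smul, iha, ihb]
  refine ⟨ha, hb, ?_⟩
  -- (c)
  have hρ : Function.Injective P.weylGroupToPerm := Groth.Agent.S5452.result P
  have hρ' : Function.Injective P'.weylGroupToPerm := Groth.Agent.S5452.result P'
  let ψ : P.weylGroup →* Equiv.Perm ι' :=
    (u.permCongrHom : Equiv.Perm ι →* Equiv.Perm ι').comp P.weylGroupToPerm
  have hψ : Function.Injective ψ := u.permCongrHom.injective.comp hρ
  have hconj : ∀ i : ι, u.permCongrHom (P.reflectionPerm i) = P'.reflectionPerm (u i) := by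
    intro i
    ext x
    change u (P.reflectionPerm i (u.symm x)) = P'.reflectionPerm (u i) x
    rw [(ha i (u.symm x)).2, u.apply_symm_apply]
  have hrange : ψ.range = P'.weylGroupToPerm.range := by
    rw [MonoidHom.range_comp, P.range_weylGroupToPerm, P'.range_weylGroupToPerm,
      MonoidHom.map_closure]
    congr 1
    ext σ
    constructor
    · rintro ⟨_, ⟨i, rfl⟩, rfl⟩
      exact ⟨u i, (hconj i).symm⟩
    · rintro ⟨i', rfl⟩
      refine ⟨P.reflectionPerm (u.symm i'), ⟨u.symm i', rfl⟩, ?_⟩
      change u.permCongrHom (P.reflectionPerm (u.symm i')) = _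
      rw [hconj, u.apply_symm_apply]
  let ubar : P.weylGroup ≃* P'.weylGroup :=
    ((MonoidHom.ofInjective hψ).trans (MulEquiv.subgroupCongr hrange)).trans
      (MonoidHom.ofInjective hρ').symm
  have hubar : ∀ w : P.weylGroup, P'.weylGroupToPerm (ubar w) = ψ w := by
    intro w
    change P'.weylGroupToPerm ((MonoidHom.ofInjective hρ').symm
      (MulEquiv.subgroupCongr hrange (MonoidHom.ofInjective hψ w))) = ψ w
    rw [MonoidHom.apply_ofInjective_symm]
    rfl
  refine ⟨ubar, ?_, ?_⟩
  · intro i
    apply hρ'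
    rw [hubar]
    change u.permCongrHom (P.weylGroupToPerm (RootPairing.weylGroup.ofIdx P i)) =
      P'.weylGroupToPerm (RootPairing.weylGroup.ofIdx P' (u i))
    have e1 : P.weylGroupToPerm (RootPairing.weylGroup.ofIdx P i) = P.reflectionPerm i := rfl
    have e2 : P'.weylGroupToPerm (RootPairing.weylGroup.ofIdx P' (u i)) =
        P'.reflectionPerm (u i) := rfl
    rw [e1, e2, hconj]
  · intro w i
    have h1 : ((ubar w : P'.weylGroup) : P'.Aut) • u i = P'.weylGroupToPerm (ubar w) (u i) := rfl
    rw [h1, hubar]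
    change u (w • i) = u (P.weylGroupToPerm w (u.symm (u i)))
    rw [u.symm_apply_apply]
    rfl

end Groth.Agent.S5480
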