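import Groth.Statements.S5481
import Groth.Agent.Lib.Helper3.RootD8
import Groth.Agent.Lib.Helper3.RootD7
import Groth.Agent.S5480
import Groth.Agent.S5454
import Groth.Agent.S5455
import Groth.Agent.S5456
import Groth.Agent.S5449

set_option autoImplicit false
open RootD

namespace Groth.Agent.S5481

open Groth.Agent.Lib.helper3.RootDLib

/-- The root bijection u of a p-morphism of reduced root data carries systems of simple roots onto
systems of simple roots and systems of positive roots onto systems of positive roots, bijectively. -/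
theorem result {ι M N ι' M' N' : Type*} [AddCommGroup M] [AddCommGroup N] [AddCommGroup M'] [AddCommGroup N']
    (P : RootPairing ι ℤ M N) (P' : RootPairing ι' ℤ M' N') [Finite ι] [Finite ι'] [P.IsReduced] [P'.IsReduced]
    (p : ℕ) (hp : 0 < p) (f : M' →ₗ[ℤ] M) (g : N →ₗ[ℤ] N')
    (hfg : ∀ (m' : M') (n : N), P.toLinearMap (f m') n = P'.toLinearMap m' (g n))
    (u : ι ≃ ι') (q : ι → ℕ) (hq : ∀ i, ∃ e : ℕ, q i = p ^ e)
    (hroot : ∀ i : ι, f (P'.root (u i)) = (q i : ℤ) • P.root i)
    (hcoroot : ∀ i : ι, g (P.coroot i) = (q i : ℤ) • P'.coroot (u i)) (Δ : Set ι) :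
    (RootD.IsSimpleSys P Δ ↔ RootD.IsSimpleSys P' (u '' Δ)) ∧
      (RootD.IsPosSys P Δ ↔ RootD.IsPosSys P' (u '' Δ)) := by
  classical
  have : Module.IsReflexive ℤ M := isReflexive_left P
  have : Module.IsReflexive ℤ M' := isReflexive_left P'
  have : IsAddTorsionFree M := .of_isTorsionFree ℤ M
  obtain ⟨ha, hb, ubar, hubar1, hubar2⟩ :=
    Groth.Agent.S5480.result P P' p hp f g hfg u q hq hroot hcoroot
  have hqpos : ∀ i, 0 < q i := by
    intro i
    obtain ⟨e, he⟩ := hq i
    rw [he]; exact pow_pos hp e
  have hpair : ∀ a b : ι, (q a : ℤ) * P.pairing a b = (q b : ℤ) * P'.pairing (u a) (u b) := by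
    intro a b
    have h1 := hfg (P'.root (u a)) (P.coroot b)
    rw [hroot a, hcoroot b, map_smul, LinearMap.smul_apply, map_smul] at h1
    exact h1
  have hnegu : ∀ i, u (P.reflectionPerm i i) = P'.reflectionPerm (u i) (u i) := fun i => (ha i i).2
  have hindiv : ∀ k : ι, IsIndiv P k := by
    intro k j hj
    apply P.nsmul_notMem_range_root (n := 2) (i := j)
    exact ⟨k, by rw [← hj, two_smul, two_smul]⟩
  -- image of a set under a Weyl group element
  have himage : ∀ (w : P.weylGroup) (T : Set ι),
      u '' ((fun i : ι => (w : P.Aut) • i) '' T) =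
      (fun i' : ι' => ((ubar w : P'.weylGroup) : P'.Aut) • i') '' (u '' T) := by
    intro w T
    rw [Set.image_image, Set.image_image]
    apply Set.image_congr
    intro i _
    exact hubar2 w i
  -- simple systems, forward direction
  have hsimple_fwd : ∀ Δ : Set ι, IsSimpleSys P Δ → IsSimpleSys P' (u '' Δ) := by
    intro Δ hΔ
    refine ⟨?_, ?_⟩
    · -- linear independence through f
      rw [linearIndepOn_iff]
      intro l hl hl0
      have h1 := congrArg f hl0
      rw [map_zero, Finsupp.linearCombination_apply, Finsupp.sum, map_sum] at h1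
      -- transport to a combination of roots of P
      set l₁ : ι →₀ ℤ := l.comapDomain u u.injective.injOn with hl₁
      have hl₁app : ∀ i, l₁ i = l (u i) := fun i => rfl
      set l₂ : ι →₀ ℤ := ∑ i ∈ l₁.support, Finsupp.single i ((q i : ℤ) * l₁ i) with hl₂
      have hl₂supp : l₂ ∈ Finsupp.supported ℤ ℤ Δ := by
        rw [hl₂]
        apply Submodule.sum_mem
        intro i hi
        apply Finsupp.single_mem_supported
        have : l (u i) ≠ 0 := by rw [← hl₁app]; exact Finsupp.mem_support_iff.mp hi
        obtain ⟨i₀, hi₀, hi₀u⟩ := hl (Finsupp.mem_support_iff.mpr this)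
        exact (u.injective hi₀u) ▸ hi₀
      have hl₂lc : Finsupp.linearCombination ℤ P.root l₂ = 0 := by
        rw [hl₂, map_sum, ← h1]
        simp only [Finsupp.linearCombination_single]
        rw [← Finset.sum_equiv u (s := l₁.support) (t := l.support)
          (f := fun i => ((q i : ℤ) * l₁ i) • P.root i)
          (g := fun i' => f (l i' • P'.root i'))]
        · intro i
          rw [Finsupp.mem_support_iff, Finsupp.mem_support_iff, hl₁app]
        · intro i _
          rw [map_smul, hroot i, smul_smul, hl₁app, mul_comm]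
      have hl₂0 : l₂ = 0 :=
        finsupp_eq_of_linearCombination_eq P hΔ.linInd hl₂supp (Submodule.zero_mem _)
          (by rw [hl₂lc, map_zero])
      ext i'
      obtain ⟨i, rfl⟩ := u.surjective i'
      have h2 := DFunLike.congr_fun hl₂0 i
      rw [hl₂, Finsupp.finsetSum_apply] at h2
      by_cases his : i ∈ l₁.support
      · rw [Finset.sum_eq_single i] at h2
        · simp only [Finsupp.single_eq_same, Finsupp.coe_zero, Pi.zero_apply] at h2
          rcases mul_eq_zero.mp h2 with h | h
          · have := hqpos i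
            omega
          · rw [← hl₁app]; exact h
        · intro j _ hj; rw [Finsupp.single_eq_of_ne hj.symm]
        · intro h; exact absurd his h
      · rw [← hl₁app]
        simpa using his
    · -- every root of P' is up to sign in the cone of u(Δ)
      have hposroot : ∀ k ∈ posOf P Δ, P'.root (u k) ∈ natSpan P' (u '' Δ) := by
        intro k hk
        refine posOf_induction_reflect P hΔ (fun k => P'.root (u k) ∈ natSpan P' (u '' Δ))
          ?_ ?_ k hk (hindiv k)
        · intro i hi
          exact root_mem_natSpan P' ⟨i, hi, rfl⟩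
        · intro k₁ _ i hi hneg hk₁
          rw [(ha i k₁).2, P'.root_reflectionPerm, P'.reflection_apply_root, sub_eq_add_neg,
            ← neg_smul]
          apply add_mem hk₁
          apply zsmul_mem_of_nonneg
          · have h1 := hpair k₁ i
            have h2 : (0 : ℤ) < q k₁ := by exact_mod_cast hqpos k₁
            have h3 : (0 : ℤ) < q i := by exact_mod_cast hqpos i
            have h4 : (q k₁ : ℤ) * P.pairing k₁ i < 0 := mul_neg_of_pos_of_neg h2 hneg
            rw [h1] at h4
            have h5 : P'.pairing (u k₁) (u i) < 0 := by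
              by_contra hcon
              push Not at hcon
              have := mul_nonneg h3.le hcon
              omega
            omega
          · exact root_mem_natSpan P' ⟨i, hi, rfl⟩
      intro k'
      obtain ⟨k, rfl⟩ := u.surjective k'
      rcases hΔ.mem_or_neg_mem k with hk | hk
      · exact Or.inl (hposroot k hk)
      · right
        have hk' : P.reflectionPerm k k ∈ posOf P Δ := by
          change P.root _ ∈ natSpan P Δ
          rw [root_neg]; exact hk
        have h1 := hposroot _ hk'
        rw [hnegu, root_neg] at h1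
        exact h1
  -- positive systems, forward direction
  have hpos_fwd : ∀ S : Set ι, IsPosSys P S → IsPosSys P' (u '' S) := by
    intro S hS
    rw [Groth.Agent.S5456.result P' (u '' S)]
    refine ⟨?_, ?_, ?_⟩
    · rintro _ ⟨i, hi, rfl⟩ ⟨j, hj, hji⟩
      rw [← hnegu] at hji
      have := u.injective hji
      exact hS.disjoint hi (this ▸ hj)
    · intro i'
      obtain ⟨i, rfl⟩ := u.surjective i'
      rcases hS.cover i with h | h
      · exact Or.inl ⟨i, h, rfl⟩
      · exact Or.inr ⟨_, h, hnegu i⟩
    · rintro _ _ k' ⟨a, haS, rfl⟩ ⟨b, hbS, rfl⟩ hk'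
      obtain ⟨k, rfl⟩ := u.surjective k'
      refine ⟨k, ?_, rfl⟩
      have h1 := congrArg f hk'
      rw [map_add, hroot, hroot, hroot, natCast_zsmul, natCast_zsmul, natCast_zsmul] at h1
      apply hS.sat (q k) (hqpos k)
      rw [h1]
      exact add_mem (AddSubmonoid.nsmul_mem _ (root_mem_natSpan P haS) _)
        (AddSubmonoid.nsmul_mem _ (root_mem_natSpan P hbS) _)
  refine ⟨⟨hsimple_fwd Δ, ?_⟩, ⟨hpos_fwd Δ, ?_⟩⟩
  · intro hΔ'
    obtain ⟨Δ₀, hΔ₀⟩ := exists_isSimpleSys P
    have hΔ₀' := hsimple_fwd Δ₀ hΔ₀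
    obtain ⟨w', hw', hw'Δ⟩ := Groth.Agent.S5455.result P' (u '' Δ₀) (u '' Δ) hΔ₀' hΔ'
    obtain ⟨w, hw⟩ := ubar.surjective ⟨w', hw'⟩
    have h1 := himage w Δ₀
    rw [hw] at h1
    change _ = (fun i' : ι' => w' • i') '' (u '' Δ₀) at h1
    rw [hw'Δ] at h1
    have h2 : (fun i : ι => (w : P.Aut) • i) '' Δ₀ = Δ := by
      apply Set.image_injective.mpr u.injective
      exact h1
    rw [← h2]
    exact isSimpleSys_image P (w : P.Aut) hΔ₀
  · intro hS'
    obtain ⟨S₀, hS₀⟩ := exists_isPosSys P
    have hS₀' := hpos_fwd S₀ hS₀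
    obtain ⟨w', hw', hw'S⟩ := Groth.Agent.S5454.result P' (u '' S₀) (u '' Δ) hS₀' hS'
    obtain ⟨w, hw⟩ := ubar.surjective ⟨w', hw'⟩
    have h1 := himage w S₀
    rw [hw] at h1
    change _ = (fun i' : ι' => w' • i') '' (u '' S₀) at h1
    rw [hw'S] at h1
    have h2 : (fun i : ι => (w : P.Aut) • i) '' S₀ = Δ := by
      apply Set.image_injective.mpr u.injective
      exact h1
    rw [← h2]
    obtain ⟨Δ₀, ⟨hΔ₀, hΔ₀S⟩, _⟩ := Groth.Agent.S5445.result P S₀ hS₀
    have hSeq : S₀ = posOf P Δ₀ := ((Groth.Agent.S5449.result P Δ₀ hΔ₀ S₀ hS₀).2).mp hΔ₀S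
    rw [hSeq, ← posOf_image]
    exact isPosSys_posOf P (isSimpleSys_image P (w : P.Aut) hΔ₀)

end Groth.Agent.S5481
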