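import Groth.Statements.S5483
import Groth.Agent.Lib.Helper3.RootD
import Groth.Agent.S5508

set_option autoImplicit false
open RootD

namespace Groth.Agent.S5483

open Groth.Agent.Lib.helper3.RootDLib

/-- If a system of simple roots Δ is the disjoint union of two mutually orthogonal subsets Δ', Δ'', then
R_{Δ'} and R_{Δ''} partition the set of roots. -/
theorem result {ι M N : Type*} [AddCommGroup M] [AddCommGroup N]
    (P : RootPairing ι ℤ M N) [Finite ι] (Δ Δ' : Set ι) (hΔ : RootD.IsSimpleSys P Δ)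
    (hsub : Δ' ⊆ Δ) (horth : ∀ i ∈ Δ', ∀ j ∈ Δ \ Δ', P.IsOrthogonal i j) (k : ι) :
    (k ∈ RootD.inSpan P Δ' ∨ k ∈ RootD.inSpan P (Δ \ Δ')) ∧
      ¬ (k ∈ RootD.inSpan P Δ' ∧ k ∈ RootD.inSpan P (Δ \ Δ')) := by
  classical
  have : Module.IsReflexive ℤ M := isReflexive_left P
  set A : Submodule ℤ M := Submodule.span ℤ (P.root '' Δ') with hA
  set B : Submodule ℤ M := Submodule.span ℤ (P.root '' (Δ \ Δ')) with hB
  -- stability of A and B under simple reflections
  have hstabA : ∀ j ∈ Δ, ∀ x ∈ A, P.reflection j x ∈ A := by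
    intro j hj x hx
    induction hx using Submodule.span_induction with
    | mem x hx =>
      obtain ⟨l, hl, rfl⟩ := hx
      rw [P.reflection_apply_root]
      by_cases hjΔ' : j ∈ Δ'
      · exact A.sub_mem (Submodule.subset_span ⟨l, hl, rfl⟩)
          (A.smul_mem _ (Submodule.subset_span ⟨j, hjΔ', rfl⟩))
      · rw [(horth l hl j ⟨hj, hjΔ'⟩).1, zero_smul, sub_zero]
        exact Submodule.subset_span ⟨l, hl, rfl⟩
    | zero => rw [map_zero]; exact A.zero_mem
    | add x y _ _ hx hy => rw [map_add]; exact A.add_mem hx hy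
    | smul a x _ hx => rw [map_smul]; exact A.smul_mem a hx
  have hstabB : ∀ j ∈ Δ, ∀ x ∈ B, P.reflection j x ∈ B := by
    intro j hj x hx
    induction hx using Submodule.span_induction with
    | mem x hx =>
      obtain ⟨l, hl, rfl⟩ := hx
      rw [P.reflection_apply_root]
      by_cases hjΔ' : j ∈ Δ'
      · rw [(horth j hjΔ' l hl).2, zero_smul, sub_zero]
        exact Submodule.subset_span ⟨l, hl, rfl⟩
      · exact B.sub_mem (Submodule.subset_span ⟨l, hl, rfl⟩)
          (B.smul_mem _ (Submodule.subset_span ⟨j, ⟨hj, hjΔ'⟩, rfl⟩))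
    | zero => rw [map_zero]; exact B.zero_mem
    | add x y _ _ hx hy => rw [map_add]; exact B.add_mem hx hy
    | smul a x _ hx => rw [map_smul]; exact B.smul_mem a hx
  obtain ⟨hgen, hconj⟩ := Groth.Agent.S5508.result P Δ hΔ
  -- indivisible roots lie in A or B
  have hind : ∀ k : ι, RootD.IsIndiv P k → P.root k ∈ A ∨ P.root k ∈ B := by
    intro k hk
    obtain ⟨g, hg, i, hi, hgi⟩ := hconj k hk
    rw [← hgen] at hg
    rw [← hgi, root_smul]
    by_cases hiΔ' : i ∈ Δ'
    · left
      exact smul_mem_of_mem_closure P A hstabA g hg _ (Submodule.subset_span ⟨i, hiΔ', rfl⟩)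
    · right
      exact smul_mem_of_mem_closure P B hstabB g hg _ (Submodule.subset_span ⟨i, ⟨hi, hiΔ'⟩, rfl⟩)
  refine ⟨?_, ?_⟩
  · by_cases hk : RootD.IsIndiv P k
    · exact hind k hk
    · obtain ⟨j, hj, hjk⟩ := exists_indiv_of_not_indiv P k hk
      rcases hind j hj with h | h
      · left
        change P.root k ∈ A
        rw [← hjk]; exact A.smul_mem _ h
      · right
        change P.root k ∈ B
        rw [← hjk]; exact B.smul_mem _ h
  · rintro ⟨hkA, hkB⟩
    change P.root k ∈ A at hkA
    change P.root k ∈ B at hkB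
    rw [hA, Finsupp.mem_span_image_iff_linearCombination] at hkA
    rw [hB, Finsupp.mem_span_image_iff_linearCombination] at hkB
    obtain ⟨a, ha, hak⟩ := hkA
    obtain ⟨b, hb, hbk⟩ := hkB
    have ha' : a ∈ Finsupp.supported ℤ ℤ Δ := Finsupp.supported_mono hsub ha
    have hb' : b ∈ Finsupp.supported ℤ ℤ Δ := Finsupp.supported_mono Set.sdiff_subset hb
    have hab : a = b := finsupp_eq_of_linearCombination_eq P hΔ.linInd ha' hb' (by rw [hak, hbk])
    have ha0 : a = 0 := by
      ext l
      simp only [Finsupp.coe_zero, Pi.zero_apply]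
      by_contra hl
      have h1 : l ∈ Δ' := ha (Finsupp.mem_support_iff.mpr hl)
      have h2 : l ∈ Δ \ Δ' := hb (Finsupp.mem_support_iff.mpr (hab ▸ hl))
      exact h2.2 h1
    rw [ha0, map_zero] at hak
    exact P.ne_zero k hak.symm

end Groth.Agent.S5483
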