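import Groth.Statements.S5505
import Groth.Agent.Lib.Helper3.RootD
import Groth.Agent.S5497

set_option autoImplicit false
open RootD

namespace Groth.Agent.S5505

open Groth.Agent.Lib.helper3.RootDLib

/-- A subset of roots which, together with its complement, is closed and symmetric contains with any
root every root not orthogonal to it; so it is a union of irreducible components. -/
theorem result {ι M N : Type*} [AddCommGroup M] [AddCommGroup N]
    (P : RootPairing ι ℤ M N) [Finite ι] (R' : Set ι) (hc : RootD.IsClosedSub P R')
    (hs : RootD.IsSymmSub P R') (hc' : RootD.IsClosedSub P R'ᶜ) (hs' : RootD.IsSymmSub P R'ᶜ)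
    (i j : ι) (hi : i ∈ R') (hij : ¬ P.IsOrthogonal i j) : j ∈ R' := by
  have : Module.IsReflexive ℤ M := isReflexive_left P
  rw [RootPairing.isOrthogonal_iff_pairing_eq_zero] at hij
  by_contra hj
  rcases lt_or_gt_of_ne hij with hneg | hpos
  · -- pairing negative: the sum is a root unless root i = - root j
    by_cases hnegj : P.root i = -P.root j
    · have : j = P.reflectionPerm i i := by
        rw [← RootPairing.root_eq_neg_iff, hnegj, neg_neg]
      exact hj (this ▸ hs hi)
    · have hneg' : P.pairingIn ℤ i j < 0 := by rw [pairingIn_eq]; exact hneg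
      obtain ⟨k, hk⟩ := P.root_add_root_mem_of_pairingIn_neg hneg' hnegj
      rcases Groth.Agent.S5497.result P R' hc hs hc' hs' i j k hk with h | h
      · exact hj h.2.1
      · exact h.1 hi
  · have hne : i ≠ j := fun h => hj (h ▸ hi)
    have hpos' : 0 < P.pairingIn ℤ i j := by rw [pairingIn_eq]; exact hpos
    obtain ⟨k, hk⟩ := P.root_sub_root_mem_of_pairingIn_pos hpos' hne
    have hk' : P.root i = P.root k + P.root j := by rw [hk]; abel
    rcases Groth.Agent.S5497.result P R' hc hs hc' hs' k j i hk' with h | h
    · exact hj h.2.1
    · exact h.2.2 hi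

end Groth.Agent.S5505
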