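import Groth.Statements.S5482
import Groth.Agent.Lib.Helper3.RootD
import Groth.Agent.S5508
import Groth.Agent.S5505
import Groth.Agent.S5483

set_option autoImplicit false
open RootD

namespace Groth.Agent.S5482

open Groth.Agent.Lib.helper3.RootDLib

/-- A closed symmetric set with closed symmetric complement is stable under all reflections. -/
lemma stab {ι M N : Type*} [AddCommGroup M] [AddCommGroup N]
    (P : RootPairing ι ℤ M N) [Finite ι] (R : Set ι) (hc : RootD.IsClosedSub P R)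
    (hs : RootD.IsSymmSub P R) (hc' : RootD.IsClosedSub P Rᶜ) (hs' : RootD.IsSymmSub P Rᶜ)
    (j k : ι) (hk : k ∈ R) : P.reflectionPerm j k ∈ R := by
  by_cases h0 : P.pairing k j = 0
  · rw [P.reflectionPerm_eq_of_pairing_eq_zero h0]; exact hk
  · have hj : j ∈ R := Groth.Agent.S5505.result P R hc hs hc' hs' k j hk (fun ho => h0 ho.1)
    apply Groth.Agent.S5505.result P R hc hs hc' hs' j _ hj
    intro ho
    have h1 := ho.2
    rw [← P.root_coroot'_eq_pairing, P.root_reflectionPerm, P.reflection_apply_root, map_sub,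
      map_smul, P.root_coroot'_eq_pairing, P.root_coroot'_eq_pairing, P.pairing_same] at h1
    simp only [smul_eq_mul] at h1
    apply h0
    linarith

lemma stabW {ι M N : Type*} [AddCommGroup M] [AddCommGroup N]
    (P : RootPairing ι ℤ M N) [Finite ι] (R : Set ι) (hc : RootD.IsClosedSub P R)
    (hs : RootD.IsSymmSub P R) (hc' : RootD.IsClosedSub P Rᶜ) (hs' : RootD.IsSymmSub P Rᶜ)
    (g : P.Aut) (hg : g ∈ P.weylGroup) : ∀ k ∈ R, g • k ∈ R := by
  induction hg using RootPairing.weylGroup.induction with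
  | mem i => exact fun k hk => stab P R hc hs hc' hs' i k hk
  | one => exact fun k hk => by rwa [one_smul]
  | mul x y _ _ hx hy => exact fun k hk => by rw [mul_smul]; exact hx _ (hy k hk)

lemma half {ι M N : Type*} [AddCommGroup M] [AddCommGroup N]
    (P : RootPairing ι ℤ M N) [Finite ι] (Δ : Set ι) (hΔ : RootD.IsSimpleSys P Δ) (R : Set ι)
    (hc : RootD.IsClosedSub P R) (hs : RootD.IsSymmSub P R) (hc' : RootD.IsClosedSub P Rᶜ)
    (hs' : RootD.IsSymmSub P Rᶜ) : R ⊆ RootD.inSpan P (Δ ∩ R) := by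
  have horth : ∀ i ∈ Δ ∩ R, ∀ j ∈ Δ \ (Δ ∩ R), P.IsOrthogonal i j := by
    intro i hi j hj
    by_contra hno
    exact hj.2 ⟨hj.1, Groth.Agent.S5505.result P R hc hs hc' hs' i j hi.2 hno⟩
  have hpart := Groth.Agent.S5483.result P Δ (Δ ∩ R) hΔ Set.inter_subset_left horth
  set R₁ := RootD.inSpan P (Δ ∩ R) with hR₁
  -- R₁ is closed and symmetric, and so is its complement
  have hspan_closed : ∀ T : Set ι, RootD.IsClosedSub P (RootD.inSpan P T) := by
    intro T i j k hi hj hk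
    change P.root k ∈ Submodule.span ℤ (P.root '' T)
    rw [hk]; exact Submodule.add_mem _ hi hj
  have hspan_symm : ∀ T : Set ι, RootD.IsSymmSub P (RootD.inSpan P T) := by
    intro T i hi
    change P.root _ ∈ Submodule.span ℤ (P.root '' T)
    rw [root_neg]; exact Submodule.neg_mem _ hi
  have hcompl : R₁ᶜ = RootD.inSpan P (Δ \ (Δ ∩ R)) := by
    ext k
    constructor
    · intro hk
      exact (hpart k).1.resolve_left hk
    · intro hk hk1
      exact (hpart k).2 ⟨hk1, hk⟩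
  have hR₁c : RootD.IsClosedSub P R₁ := hspan_closed _
  have hR₁s : RootD.IsSymmSub P R₁ := hspan_symm _
  have hR₁c' : RootD.IsClosedSub P R₁ᶜ := hcompl ▸ hspan_closed _
  have hR₁s' : RootD.IsSymmSub P R₁ᶜ := hcompl ▸ hspan_symm _
  obtain ⟨-, hconj⟩ := Groth.Agent.S5508.result P Δ hΔ
  have hind : ∀ k ∈ R, RootD.IsIndiv P k → k ∈ R₁ := by
    intro k hk hki
    obtain ⟨g, hg, i, hi, hgi⟩ := hconj k hki
    have hiR : i ∈ R := by
      have := stabW P R hc hs hc' hs' g⁻¹ (inv_mem hg) k hk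
      rwa [← hgi, inv_smul_smul] at this
    have hiR₁ : i ∈ R₁ := Submodule.subset_span ⟨i, ⟨hi, hiR⟩, rfl⟩
    rw [← hgi]
    exact stabW P R₁ hR₁c hR₁s hR₁c' hR₁s' g hg i hiR₁
  intro k hk
  by_cases hki : RootD.IsIndiv P k
  · exact hind k hk hki
  · obtain ⟨j, hj, hjk⟩ := exists_indiv_of_not_indiv P k hki
    have hjR : j ∈ R := by
      apply Groth.Agent.S5505.result P R hc hs hc' hs' k j hk
      intro ho
      have h1 := ho.2
      have h2 : P.pairing k k = 2 * P.pairing j k := by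
        rw [← P.root_coroot'_eq_pairing, ← hjk, map_smul, P.root_coroot'_eq_pairing]
        simp
      rw [P.pairing_same, h1] at h2
      norm_num at h2
    have := hind j hjR hj
    change P.root k ∈ Submodule.span ℤ (P.root '' (Δ ∩ R))
    rw [← hjk]
    exact Submodule.smul_mem _ _ this

/-- If the roots are partitioned into two closed symmetric subsets R', R'', then with Δ' = Δ ∩ R', Δ'' =
Δ ∩ R'' for a system of simple roots Δ one has R' = R_{Δ'}, R'' = R_{Δ''}, and Δ' is orthogonal to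
Δ''. -/
theorem result {ι M N : Type*} [AddCommGroup M] [AddCommGroup N]
    (P : RootPairing ι ℤ M N) [Finite ι] (Δ : Set ι) (hΔ : RootD.IsSimpleSys P Δ) (R' : Set ι)
    (hc : RootD.IsClosedSub P R') (hs : RootD.IsSymmSub P R') (hc' : RootD.IsClosedSub P R'ᶜ)
    (hs' : RootD.IsSymmSub P R'ᶜ) :
    R' = RootD.inSpan P (Δ ∩ R') ∧ R'ᶜ = RootD.inSpan P (Δ \ R') ∧
      ∀ i ∈ Δ ∩ R', ∀ j ∈ Δ \ R', P.IsOrthogonal i j := by
  have h1 := half P Δ hΔ R' hc hs hc' hs'
  have h2 := half P Δ hΔ R'ᶜ hc' hs' (by rwa [compl_compl]) (by rwa [compl_compl])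
  have hdiff : Δ ∩ R'ᶜ = Δ \ R' := rfl
  rw [hdiff] at h2
  have horth : ∀ i ∈ Δ ∩ R', ∀ j ∈ Δ \ R', P.IsOrthogonal i j := by
    intro i hi j hj
    by_contra hno
    exact hj.2 (Groth.Agent.S5505.result P R' hc hs hc' hs' i j hi.2 hno)
  have horth' : ∀ i ∈ Δ ∩ R', ∀ j ∈ Δ \ (Δ ∩ R'), P.IsOrthogonal i j := by
    intro i hi j hj
    exact horth i hi j ⟨hj.1, fun h => hj.2 ⟨hj.1, h⟩⟩
  have hpart := Groth.Agent.S5483.result P Δ (Δ ∩ R') hΔ Set.inter_subset_left horth'
  have hdiff' : Δ \ (Δ ∩ R') = Δ \ R' := by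
    ext x; constructor
    · rintro ⟨hx, hx'⟩; exact ⟨hx, fun h => hx' ⟨hx, h⟩⟩
    · rintro ⟨hx, hx'⟩; exact ⟨hx, fun h => hx' h.2⟩
  rw [hdiff'] at hpart
  refine ⟨Set.Subset.antisymm h1 ?_, Set.Subset.antisymm h2 ?_, horth⟩
  · intro k hk
    by_contra hkR
    exact (hpart k).2 ⟨hk, h2 hkR⟩
  · intro k hk hkR
    exact (hpart k).2 ⟨h1 hkR, hk⟩

end Groth.Agent.S5482
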