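import Groth.Statements.S5484
import Groth.Agent.Lib.Helper3.RootD6
import Mathlib.Analysis.Matrix.PosDef
import Mathlib.LinearAlgebra.Matrix.ToLinearEquiv
import Mathlib.Algebra.Order.Star.Real

set_option autoImplicit false
open RootD

namespace Groth.Agent.S5484

open Groth.Agent.Lib.helper3.RootDLib

section aux

variable {ι M N : Type*} [AddCommGroup M] [AddCommGroup N] (P : RootPairing ι ℤ M N)

lemma entry_eq [Fintype ι] (a b : ι) : P.RootForm (P.root a) (P.root a) * P.pairing b a =
    2 * P.RootForm (P.root b) (P.root a) := by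
  have : Module.IsReflexive ℤ M := isReflexive_left P
  have h1 := (P.posRootForm ℤ).toInvariantForm.two_mul_apply_root_root b a
  simp only [RootPairing.RootPositiveForm.toInvariantForm_form] at h1
  change 2 * P.RootForm (P.root b) (P.root a) =
    P.pairing b a * P.RootForm (P.root a) (P.root a) at h1
  rw [h1, mul_comm]

lemma rootForm_comm [Fintype ι] (x y : M) : P.RootForm x y = P.RootForm y x := by
  rw [P.rootForm_apply_apply, P.rootForm_apply_apply]
  exact Finset.sum_congr rfl (fun i _ => mul_comm _ _)

lemma posDef_of_li [Fintype ι] (Δ' : Finset ι)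
    (hli : LinearIndependent ℤ (fun i : ↥Δ' => P.root (i : ι))) :
    (Matrix.of fun (a b : ↥Δ') =>
      P.RootForm (P.root a) (P.root a) * P.pairing (b : ι) (a : ι)).PosDef := by
  classical
  have : Module.IsReflexive ℤ M := isReflexive_left P
  refine ⟨?_, ?_⟩
  · ext a b
    simp only [Matrix.conjTranspose_apply, Matrix.of_apply, star_trivial]
    rw [entry_eq, entry_eq, rootForm_comm]
  · intro x hx
    set v := Finsupp.linearCombination ℤ (fun i : ↥Δ' => P.root (i : ι)) x with hv_def
    have hv : v ≠ 0 := by
      intro h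
      apply hx
      exact (linearIndependent_iff.mp hli) x h
    have hvspan : v ∈ P.rootSpan ℤ := by
      change _ ∈ Submodule.span ℤ (Set.range P.root)
      rw [hv_def, Finsupp.linearCombination_apply]
      apply Submodule.sum_mem
      intro i _
      exact Submodule.smul_mem _ _ (Submodule.subset_span (Set.mem_range_self _))
    have hpos := P.rootForm_pos_of_ne_zero hvspan hv
    have hsum : (x.sum fun i xi => x.sum fun j xj =>
        star xi * (Matrix.of fun (a b : ↥Δ') =>
          P.RootForm (P.root a) (P.root a) * P.pairing (b : ι) (a : ι)) i j * xj) =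
        2 * P.RootForm v v := by
      simp only [Matrix.of_apply, star_trivial, entry_eq]
      rw [hv_def, Finsupp.linearCombination_apply]
      simp only [Finsupp.sum, map_sum, LinearMap.sum_apply, map_smul, LinearMap.smul_apply,
        smul_eq_mul, Finset.mul_sum]
      apply Finset.sum_congr rfl
      intro i _
      apply Finset.sum_congr rfl
      intro j _
      rw [rootForm_comm P (P.root (j : ι)) (P.root (i : ι))]
      ring
    rw [hsum]
    omega

end aux

open Classical in
/-- Every principal minor of the Cartan matrix (a_{α,β} = (α^v, β), α, β simple) is strictly positive. -/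
theorem result {ι M N : Type*} [AddCommGroup M] [AddCommGroup N]
    (P : RootPairing ι ℤ M N) [Finite ι] (Δ : Finset ι) (hΔ : RootD.IsSimpleSys P (↑Δ : Set ι))
    (Δ' : Finset ι) (hsub : Δ' ⊆ Δ) :
    0 < Matrix.det (Matrix.of fun (a b : ↥Δ') => P.pairing (b : ι) (a : ι)) := by
  classical
  have : Module.IsReflexive ℤ M := isReflexive_left P
  have : Fintype ι := Fintype.ofFinite ι
  have hli : LinearIndependent ℤ (fun i : ↥Δ' => P.root (i : ι)) := by
    have h1 : LinearIndepOn ℤ P.root (↑Δ' : Set ι) :=
      hΔ.linInd.mono (by exact_mod_cast hsub)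
    exact h1
  set A : Matrix ↥Δ' ↥Δ' ℤ := Matrix.of fun (a b : ↥Δ') =>
    P.RootForm (P.root a) (P.root a) * P.pairing (b : ι) (a : ι) with hA
  set C : Matrix ↥Δ' ↥Δ' ℤ := Matrix.of fun (a b : ↥Δ') => P.pairing (b : ι) (a : ι) with hC
  have hpd : A.PosDef := posDef_of_li P Δ' hli
  -- det A ≠ 0
  have hdet_ne : A.det ≠ 0 := by
    intro h0
    obtain ⟨v, hv, hAv⟩ := Matrix.exists_mulVec_eq_zero_iff.mpr h0
    have := hpd.dotProduct_mulVec_pos hv
    rw [hAv, dotProduct_zero] at this
    exact lt_irrefl _ this
  -- det A ≥ 0 through the reals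
  have hdet_nonneg : 0 ≤ A.det := by
    set Q : Matrix ↥Δ' ι ℝ := Matrix.of fun (a : ↥Δ') (k : ι) => ((P.pairing (a : ι) k : ℤ) : ℝ)
      with hQ
    have hAQ : (Int.castRingHom ℝ).mapMatrix A = (2 : ℝ) • (Q * Q.conjTranspose) := by
      ext a b
      simp only [RingHom.mapMatrix_apply, Matrix.map_apply, Matrix.smul_apply, Matrix.mul_apply,
        Matrix.conjTranspose_apply, hA, hQ, Matrix.of_apply, star_trivial, smul_eq_mul,
        Int.coe_castRingHom]
      rw [entry_eq, P.rootForm_apply_apply]
      push_cast
      congr 1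
      apply Finset.sum_congr rfl
      intro k _
      rw [mul_comm]
      rfl
    have h1 : ((A.det : ℤ) : ℝ) = ((Int.castRingHom ℝ).mapMatrix A).det :=
      RingHom.map_det (Int.castRingHom ℝ) A
    have h2 : 0 ≤ ((Int.castRingHom ℝ).mapMatrix A).det := by
      rw [hAQ, Matrix.det_smul]
      exact mul_nonneg (by positivity)
        (Matrix.posSemidef_self_mul_conjTranspose Q).det_nonneg
    rw [← h1] at h2
    exact_mod_cast h2
  have hdet_pos : 0 < A.det := lt_of_le_of_ne hdet_nonneg (Ne.symm hdet_ne)
  have hAC : A = Matrix.diagonal (fun a : ↥Δ' => P.RootForm (P.root a) (P.root a)) * C := by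
    ext a b
    rw [Matrix.diagonal_mul]
    rfl
  rw [hAC, Matrix.det_mul, Matrix.det_diagonal] at hdet_pos
  have hprod : 0 < ∏ a : ↥Δ', P.RootForm (P.root a) (P.root a) :=
    Finset.prod_pos (fun a _ => rootForm_root_pos P a)
  exact (mul_pos_iff_of_pos_left hprod).mp hdet_pos

end Groth.Agent.S5484
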