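import Groth.Statements.S5485
import Groth.Agent.Lib.Helper3.RootD6
import Groth.Agent.S5446
import Groth.Agent.S5445
import Groth.Agent.S5492

set_option autoImplicit false
open RootD

namespace Groth.Agent.S5485

open Groth.Agent.Lib.helper3.RootDLib

/-- If Δ is a system of simple roots then ind(Δ^v), the set of coroots of Δ with each divisible coroot
replaced by its half, is a system of simple coroots (a system of simple roots of the dual datum). -/
theorem result {ι M N : Type*} [AddCommGroup M] [AddCommGroup N]
    (P : RootPairing ι ℤ M N) [Finite ι] (Δ : Set ι) (hΔ : RootD.IsSimpleSys P Δ) :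
    RootD.IsSimpleSys P.flip {j : ι | ∃ i ∈ Δ, (j = i ∧ RootD.IsIndiv P.flip i) ∨ (2 : ℤ) • P.coroot j = P.coroot i} := by
  classical
  have : Module.IsReflexive ℤ M := isReflexive_left P
  have : Module.IsReflexive ℤ N := isReflexive_right P
  have : Fintype ι := Fintype.ofFinite ι
  have : IsAddTorsionFree M := .of_isTorsionFree ℤ M
  have : IsAddTorsionFree N := .of_isTorsionFree ℤ N
  set Δv : Set ι := {j : ι | ∃ i ∈ Δ, (j = i ∧ IsIndiv P.flip i) ∨
    (2 : ℤ) • P.coroot j = P.coroot i} with hΔv
  have hS : IsPosSys P (posOf P Δ) := isPosSys_posOf P hΔ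
  have hℓ : ∀ k, 0 < P.RootForm (P.root k) (P.root k) := rootForm_root_pos P
  have hℓv : ∀ k, 0 < P.CorootForm (P.coroot k) (P.coroot k) := rootForm_root_pos P.flip
  -- root of a half coroot
  have hhalf : ∀ i j : ι, (2 : ℤ) • P.coroot j = P.coroot i → P.root j = (2 : ℤ) • P.root i := by
    intro i j h
    have := RootPairing.smul_coroot_eq_of_root_eq_smul (P := P.flip) j i 2 h.symm
    exact this.symm
  have hnat : ∀ (Q : AddSubmonoid N) (t : ℤ) (x : N), 0 ≤ t → x ∈ Q → t • x ∈ Q := by
    intro Q t x ht hx
    obtain ⟨n, rfl⟩ := Int.eq_ofNat_of_zero_le ht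
    rw [natCast_zsmul]
    exact AddSubmonoid.nsmul_mem _ hx n
  have hnatM : ∀ (Q : AddSubmonoid M) (t : ℤ) (x : M), 0 ≤ t → x ∈ Q → t • x ∈ Q := by
    intro Q t x ht hx
    obtain ⟨n, rfl⟩ := Int.eq_ofNat_of_zero_le ht
    rw [natCast_zsmul]
    exact AddSubmonoid.nsmul_mem _ hx n
  -- F2
  have hF2 : ∀ i ∈ Δ, ∃ j ∈ Δv, ∃ t : ℤ, 0 ≤ t ∧ P.coroot i = t • P.coroot j := by
    intro i hi
    by_cases hind : IsIndiv P.flip i
    · exact ⟨i, ⟨i, hi, Or.inl ⟨rfl, hind⟩⟩, 1, by norm_num, by rw [one_smul]⟩
    · unfold IsIndiv at hind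
      push Not at hind
      obtain ⟨l, hl⟩ := hind
      exact ⟨l, ⟨i, hi, Or.inr hl⟩, 2, by norm_num, hl.symm⟩
  apply Groth.Agent.S5446.result P.flip Δv
  · -- indivisibility
    rintro j ⟨i, hi, ⟨rfl, hind⟩ | h2⟩
    · exact hind
    · intro l hl
      have h4 : P.flip.root i = (4 : ℤ) • P.flip.root l := by
        change P.coroot i = (4 : ℤ) • P.coroot l
        change (2 : ℤ) • P.coroot l = P.coroot j at hl
        rw [← h2, ← hl, smul_smul]
        norm_num
      have := smul_cases_of_root_eq_smul P.flip l i 4 h4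
      omega
  · -- linear independence
    apply Groth.Agent.S5445.linInd_of_obtuse P.flip (S := posOf P Δ)
    · intro i j k hi hj hk
      change P.coroot k = P.coroot i + P.coroot j at hk
      have h1 : (P.CorootForm (P.coroot k) (P.coroot k)) • P.root k =
          (P.CorootForm (P.coroot i) (P.coroot i)) • P.root i +
          (P.CorootForm (P.coroot j) (P.coroot j)) • P.root j := by
        rw [P.corootForm_self_smul_root k, P.corootForm_self_smul_root i,
          P.corootForm_self_smul_root j, hk, map_add, smul_add]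
      have hmem : (P.CorootForm (P.coroot k) (P.coroot k)) • P.root k ∈
          natSpan P (posOf P Δ) := by
        rw [h1]
        exact add_mem (hnatM _ _ _ (hℓv i).le (root_mem_natSpan P hi))
          (hnatM _ _ _ (hℓv j).le (root_mem_natSpan P hj))
      obtain ⟨n, hn⟩ := Int.eq_ofNat_of_zero_le (hℓv k).le
      rw [hn, natCast_zsmul] at hmem
      apply hS.sat n _ hmem
      have := hℓv k
      omega
    · intro i hi
      exact hS.disjoint hi
    · rintro j ⟨i, hi, ⟨rfl, _⟩ | h2⟩
      · exact subset_posOf P Δ hi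
      · change P.root j ∈ natSpan P Δ
        rw [hhalf i j h2]
        exact hnatM _ _ _ (by norm_num) (root_mem_natSpan P hi)
    · intro j hj j' hj' hjj'
      change P.pairing j' j ≤ 0
      obtain ⟨i, hi, hcase⟩ := hj
      obtain ⟨i', hi', hcase'⟩ := hj'
      -- data: coroot i = t • coroot j, root j' = t' • root i'
      have hdata : ∃ t : ℤ, 0 < t ∧ P.coroot i = t • P.coroot j := by
        rcases hcase with ⟨rfl, _⟩ | h2
        · exact ⟨1, by norm_num, by rw [one_smul]⟩
        · exact ⟨2, by norm_num, h2.symm⟩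
      have hdata' : ∃ t' : ℤ, 0 < t' ∧ P.root j' = t' • P.root i' := by
        rcases hcase' with ⟨rfl, _⟩ | h2
        · exact ⟨1, by norm_num, by rw [one_smul]⟩
        · exact ⟨2, by norm_num, hhalf i' j' h2⟩
      have hii' : i ≠ i' := by
        rintro rfl
        apply hjj'
        rcases hcase with ⟨rfl, hind⟩ | h2
        · rcases hcase' with ⟨rfl, _⟩ | h2'
          · rfl
          · exact absurd h2' (hind j')
        · rcases hcase' with ⟨rfl, hind⟩ | h2'
          · exact absurd h2 (hind j)
          · apply P.coroot.injective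
            have h3 : (2 : ℤ) • P.coroot j = (2 : ℤ) • P.coroot j' := by rw [h2, h2']
            exact (smul_right_inj (by norm_num : (2 : ℤ) ≠ 0)).mp h3
      obtain ⟨t, ht, hti⟩ := hdata
      obtain ⟨t', ht', ht'i⟩ := hdata'
      have e1 : P.pairing j' i = t * P.pairing j' j := by
        change P.toLinearMap (P.root j') (P.coroot i) = t * P.toLinearMap (P.root j') (P.coroot j)
        rw [hti, map_smul, smul_eq_mul]
      have e2 : P.pairing j' i = t' * P.pairing i' i := by
        change P.toLinearMap (P.root j') (P.coroot i) = t' * P.toLinearMap (P.root i') (P.coroot i)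
        rw [ht'i, map_smul, LinearMap.smul_apply, smul_eq_mul]
      have h3 : P.pairing i' i ≤ 0 := Groth.Agent.S5492.result P Δ hΔ i i' hi hi' hii'
      have h4 : t * P.pairing j' j ≤ 0 := by
        rw [← e1, e2]
        exact mul_nonpos_of_nonneg_of_nonpos ht'.le h3
      by_contra hcon
      push Not at hcon
      have := mul_pos ht hcon
      omega
  · -- cone condition
    have hΦ : ∀ x ∈ natSpan P Δ, 2 • P.Polarization x ∈ natSpan P.flip Δv := by
      intro x hx
      unfold natSpan at hx
      induction hx using AddSubmonoid.closure_induction with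
      | mem x hx =>
        obtain ⟨i, hi, rfl⟩ := hx
        obtain ⟨j, hj, t, ht, hij⟩ := hF2 i hi
        have h1 := P.rootForm_self_smul_coroot i
        rw [← h1, hij, smul_smul]
        apply hnat
        · exact mul_nonneg (hℓ i).le ht
        · exact root_mem_natSpan P.flip hj
      | zero => rw [map_zero, smul_zero]; exact zero_mem _
      | add x y _ _ hx hy => rw [map_add, smul_add]; exact add_mem hx hy
    intro k
    obtain ⟨n, hn⟩ := Int.eq_ofNat_of_zero_le (hℓ k).le
    refine ⟨n, by have := hℓ k; omega, ?_⟩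
    have h1 := P.rootForm_self_smul_coroot k
    rw [hn, natCast_zsmul] at h1
    change n • P.coroot k ∈ natSpan P.flip Δv ∨ n • -P.coroot k ∈ natSpan P.flip Δv
    rcases hΔ.mem_or_neg_mem k with hk | hk
    · left
      rw [h1]
      exact hΦ _ hk
    · right
      rw [smul_neg, h1]
      have := hΦ _ hk
      rw [map_neg, smul_neg] at this
      exact this

end Groth.Agent.S5485
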