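import Groth.Statements.S5486
-- import your own Groth.Agent.* helpers here

set_option autoImplicit false
open RootD

namespace Groth.Agent.S5486

/-- For orthogonal roots α, β, the sum α + β is a root if and only if the difference α - β is. -/
theorem result {ι M N : Type*} [AddCommGroup M] [AddCommGroup N]
    (P : RootPairing ι ℤ M N) [Finite ι] (i j : ι) (h : P.IsOrthogonal i j) :
    P.root i + P.root j ∈ Set.range P.root ↔ P.root i - P.root j ∈ Set.range P.root := by
  have key : ∀ k : ι, P.root k = P.root i + P.root j →
      P.root (P.reflectionPerm j k) = P.root i - P.root j := by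
    intro k hk
    rw [P.root_reflectionPerm, hk, P.reflection_apply, map_add, P.root_coroot'_eq_pairing,
      P.root_coroot'_eq_pairing, h.1, P.pairing_same]
    simp only [zero_add]
    rw [two_smul]
    abel
  have key' : ∀ k : ι, P.root k = P.root i - P.root j →
      P.root (P.reflectionPerm j k) = P.root i + P.root j := by
    intro k hk
    rw [P.root_reflectionPerm, hk, P.reflection_apply, map_sub, P.root_coroot'_eq_pairing,
      P.root_coroot'_eq_pairing, h.1, P.pairing_same]
    simp only [zero_sub]
    rw [neg_smul, two_smul]
    abel
  constructor
  · rintro ⟨k, hk⟩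
    exact ⟨_, key k hk⟩
  · rintro ⟨k, hk⟩
    exact ⟨_, key' k hk⟩

end Groth.Agent.S5486
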