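import Groth.Statements.S5489
import Groth.Agent.Lib.Helper3.RootD

set_option autoImplicit false
open RootD

namespace Groth.Agent.S5489

open Groth.Agent.Lib.helper3.RootDLib

/-- If a root α, distinct from roots α_1, ..., α_n, is a non-negative rational combination of them, then
some α_l with non-zero coefficient has (α^v, α_l) > 0 and α - α_l a root. -/
theorem result {ι M N : Type*} [AddCommGroup M] [AddCommGroup N]
    (P : RootPairing ι ℤ M N) [Finite ι] {n : ℕ} (a : Fin n → ι) (m : Fin n → ℕ)
    (k : ι) (hne : ∀ l, a l ≠ k) (c : ℕ) (hc : 0 < c) (hk : c • P.root k = ∑ l, m l • P.root (a l)) :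
    ∃ l : Fin n, m l ≠ 0 ∧ 0 < P.pairing (a l) k ∧ P.root k - P.root (a l) ∈ Set.range P.root := by
  have hsum : ((2 * c : ℕ) : ℤ) = ∑ l, (m l : ℤ) * P.pairing (a l) k := by
    have := congrArg (P.coroot' k) hk
    rw [map_nsmul, map_sum, P.root_coroot'_eq_pairing, P.pairing_same] at this
    simp only [map_nsmul, P.root_coroot'_eq_pairing, nsmul_eq_mul] at this
    rw [← this]
    push_cast
    ring
  have hex : ∃ l, 0 < (m l : ℤ) * P.pairing (a l) k := by
    by_contra hcon
    push Not at hcon
    have : ∑ l, (m l : ℤ) * P.pairing (a l) k ≤ 0 := Finset.sum_nonpos (fun l _ => hcon l)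
    rw [← hsum] at this
    have : (0 : ℤ) < ((2 * c : ℕ) : ℤ) := by exact_mod_cast (by omega : 0 < 2 * c)
    omega
  obtain ⟨l, hl⟩ := hex
  have hm : m l ≠ 0 := by
    rintro h0
    rw [h0] at hl
    simp at hl
  have hp : 0 < P.pairing (a l) k := by
    have hm' : (0 : ℤ) < (m l : ℤ) := by exact_mod_cast Nat.pos_of_ne_zero hm
    exact (mul_pos_iff_of_pos_left hm').mp hl
  refine ⟨l, hm, hp, ?_⟩
  have hp' : 0 < P.pairingIn ℤ (a l) k := by rw [pairingIn_eq]; exact hp
  have := P.root_sub_root_mem_of_pairingIn_pos hp' (hne l)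
  rw [← P.neg_mem_range_root_iff]
  simpa using this

end Groth.Agent.S5489
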