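import Groth.Statements.S5493
import Groth.Agent.Lib.Helper3.RootD12
import Groth.Agent.S5508

set_option autoImplicit false
open RootD

namespace Groth.Agent.S5493

open Groth.Agent.Lib.helper3.RootDLib

lemma isIndiv_of_isReduced {ι M N : Type*} [AddCommGroup M] [AddCommGroup N]
    (P : RootPairing ι ℤ M N) [P.IsReduced] (k : ι) : IsIndiv P k := by
  haveI : Module.IsReflexive ℤ M := isReflexive_left P
  haveI : IsAddTorsionFree M := .of_isTorsionFree ℤ M
  intro j h
  have h1 : (2 : ℕ) • P.root j ∉ Set.range P.root := P.nsmul_notMem_range_root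
  apply h1
  refine ⟨k, ?_⟩
  rw [← h, ← natCast_zsmul]
  rfl

/-- A linear map sending simple roots to simple roots compatibly with the Cartan integers sends roots
to roots. -/
lemma maps_roots {ι M N ι' M' N' : Type*} [AddCommGroup M] [AddCommGroup N] [AddCommGroup M']
    [AddCommGroup N'] (P : RootPairing ι ℤ M N) (P' : RootPairing ι' ℤ M' N') [Finite ι]
    [P.IsReduced] (Δ : Set ι) (hΔ : IsSimpleSys P Δ) (v : (j : ι) → j ∈ Δ → ι')
    (hv : ∀ (i : ι) (hi : i ∈ Δ) (j : ι) (hj : j ∈ Δ), P.pairing i j = P'.pairing (v i hi) (v j hj))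
    (hspan : Submodule.span ℤ (P.root '' Δ) = ⊤)
    (φ : M →ₗ[ℤ] M') (hφ : ∀ (j : ι) (hj : j ∈ Δ), φ (P.root j) = P'.root (v j hj)) :
    ∀ k : ι, ∃ k' : ι', P'.root k' = φ (P.root k) := by
  have step3 : ∀ (i : ι) (hi : i ∈ Δ) (x : M),
      φ (P.reflection i x) = P'.reflection (v i hi) (φ x) := by
    intro i hi
    have : φ ∘ₗ (P.reflection i).toLinearMap = (P'.reflection (v i hi)).toLinearMap ∘ₗ φ := by
      apply LinearMap.ext_on hspan
      rintro _ ⟨j, hj, rfl⟩
      simp only [LinearMap.comp_apply, LinearEquiv.coe_coe]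
      rw [hφ j hj, P.reflection_apply_root, P'.reflection_apply_root, map_sub, map_smul, hφ j hj,
        hφ i hi, hv j hj i hi]
    intro x
    exact LinearMap.congr_fun this x
  have step4 : ∀ L : List ι, (∀ a ∈ L, a ∈ Δ) → ∃ g' : P'.Aut, ∀ x : M,
      φ (prodRefl P L • x) = g' • φ x := by
    intro L
    induction L with
    | nil => intro _; exact ⟨1, fun x => by simp⟩
    | cons a L ih =>
      intro hL
      obtain ⟨g', hg'⟩ := ih (fun b hb => hL b (by simp [hb]))
      refine ⟨RootPairing.Equiv.reflection P' (v a (hL a (by simp))) * g', fun x => ?_⟩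
      rw [prodRefl_cons, mul_smul, RootPairing.Equiv.reflection_smul, step3 a (hL a (by simp)),
        hg', mul_smul, RootPairing.Equiv.reflection_smul]
  intro k
  obtain ⟨g, hg, a, ha, hga⟩ := (Groth.Agent.S5508.result P Δ hΔ).2 k (isIndiv_of_isReduced P k)
  rw [← (Groth.Agent.S5508.result P Δ hΔ).1] at hg
  obtain ⟨L, hL, rfl⟩ := exists_list_of_mem_closure P g hg
  obtain ⟨g', hg'⟩ := step4 L hL
  refine ⟨g' • v a ha, ?_⟩
  rw [root_smul, ← hφ a ha, ← hg', ← root_smul, hga]

/-- The coroots correspond under the transpose of a linear equivalence that matches the roots. -/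
lemma coroot_eq_of_root_map {ι M N ι' M' N' : Type*} [AddCommGroup M] [AddCommGroup N]
    [AddCommGroup M'] [AddCommGroup N'] (P : RootPairing ι ℤ M N) (P' : RootPairing ι' ℤ M' N')
    [Finite ι] (hspan : Submodule.span ℤ (Set.range P.root) = ⊤)
    (φ : M ≃ₗ[ℤ] M') (σ : ι ≃ ι') (hσ : ∀ k, P'.root (σ k) = φ (P.root k)) (k : ι) :
    P.flip.toPerfPair.symm (φ.toLinearMap.dualMap (P'.flip.toPerfPair (P'.coroot (σ k)))) =
      P.coroot k := by
  haveI : Module.IsReflexive ℤ M := isReflexive_left P
  rw [LinearEquiv.symm_apply_eq]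
  apply Module.Dual.eq_of_preReflection_mapsTo (Set.finite_range P.root) hspan (x := P.root k)
  · change P'.toLinearMap (φ (P.root k)) (P'.coroot (σ k)) = 2
    rw [← hσ]
    exact P'.root_coroot_two (σ k)
  · rintro _ ⟨l, rfl⟩
    refine ⟨σ.symm (P'.reflectionPerm (σ k) (σ l)), ?_⟩
    apply φ.injective
    have e : ((φ : M →ₗ[ℤ] M').dualMap (P'.flip.toPerfPair (P'.coroot (σ k)))) (P.root l) =
        P'.pairing (σ l) (σ k) := by
      change P'.toLinearMap (φ (P.root l)) (P'.coroot (σ k)) = _
      rw [← hσ]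
      rfl
    rw [← hσ, Equiv.apply_symm_apply, P'.root_reflectionPerm, P'.reflection_apply_root,
      Module.preReflection_apply, map_sub, map_smul, ← hσ, ← hσ, e]
  · exact P.coroot_root_two k
  · exact P.mapsTo_reflection_root k

/-- An equivalence of root pairings is determined by its map on weights. -/
lemma equiv_ext_of_weightMap {ι M N ι' M' N' : Type*} [AddCommGroup M] [AddCommGroup N]
    [AddCommGroup M'] [AddCommGroup N'] (P : RootPairing ι ℤ M N) (P' : RootPairing ι' ℤ M' N')
    (e₁ e₂ : RootPairing.Equiv P P') (h : e₁.weightMap = e₂.weightMap) : e₁ = e₂ := by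
  apply RootPairing.Equiv.ext
  · exact h
  · apply LinearMap.ext
    intro n'
    apply P.flip.toPerfPair.injective
    have h1 := RootPairing.Hom.weight_coweight_transpose_apply P P' n' e₁.toHom
    have h2 := RootPairing.Hom.weight_coweight_transpose_apply P P' n' e₂.toHom
    rw [← h1, ← h2, h]
  · ext k
    apply P'.root.injective
    have h1 := RootPairing.Hom.root_weightMap_apply P P' k e₁.toHom
    have h2 := RootPairing.Hom.root_weightMap_apply P P' k e₂.toHom
    rw [← h1, ← h2, h]

/-- Adjoint case; the simply connected case is dual: two reduced adjoint root data with systems of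
simple roots Δ, Δ' and a bijection u : Δ → Δ' respecting the Cartan matrices are isomorphic through
a unique isomorphism inducing u on Δ. -/
theorem result {ι M N ι' M' N' : Type*} [AddCommGroup M] [AddCommGroup N] [AddCommGroup M'] [AddCommGroup N']
    (P : RootPairing ι ℤ M N) (P' : RootPairing ι' ℤ M' N') [Finite ι] [Finite ι'] [P.IsReduced] [P'.IsReduced]
    (had : Submodule.span ℤ (Set.range P.root) = ⊤) (had' : Submodule.span ℤ (Set.range P'.root) = ⊤)
    (b : P.Base) (b' : P'.Base) (u : ↥b.support ≃ ↥b'.support)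
    (hu : ∀ i j : ↥b.support, P.pairing (i : ι) (j : ι) = P'.pairing (u i : ι') (u j : ι')) :
    ∃! e : RootPairing.Equiv P P', ∀ i : ↥b.support, e.indexEquiv (i : ι) = (u i : ι') := by
  classical
  haveI : Module.IsReflexive ℤ M := isReflexive_left P
  haveI : Module.IsReflexive ℤ M' := isReflexive_left P'
  have hΔ : IsSimpleSys P (↑b.support : Set ι) := ⟨b.linearIndepOn_root, b.root_mem_or_neg_mem⟩
  have hΔ' : IsSimpleSys P' (↑b'.support : Set ι') :=
    ⟨b'.linearIndepOn_root, b'.root_mem_or_neg_mem⟩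
  have hspanΔ : Submodule.span ℤ (P.root '' (↑b.support : Set ι)) = ⊤ := by
    rw [b.span_int_root_support, had]
  have hspanΔ' : Submodule.span ℤ (P'.root '' (↑b'.support : Set ι')) = ⊤ := by
    rw [b'.span_int_root_support, had']
  -- bases
  have hli : LinearIndependent ℤ (fun j : ↥b.support => P.root j) := b.linearIndepOn_root
  have hli' : LinearIndependent ℤ (fun j : ↥b'.support => P'.root j) := b'.linearIndepOn_root
  have hsp : ⊤ ≤ Submodule.span ℤ (Set.range (fun j : ↥b.support => P.root j)) := by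
    rw [← hspanΔ]
    apply Submodule.span_mono
    rintro _ ⟨j, hj, rfl⟩
    exact ⟨⟨j, hj⟩, rfl⟩
  have hsp' : ⊤ ≤ Submodule.span ℤ (Set.range (fun j : ↥b'.support => P'.root j)) := by
    rw [← hspanΔ']
    apply Submodule.span_mono
    rintro _ ⟨j, hj, rfl⟩
    exact ⟨⟨j, hj⟩, rfl⟩
  let B : Module.Basis ↥b.support ℤ M := Module.Basis.mk hli hsp
  let B' : Module.Basis ↥b'.support ℤ M' := Module.Basis.mk hli' hsp'
  let φ : M ≃ₗ[ℤ] M' := B.equiv B' u
  have hφ : ∀ j : ↥b.support, φ (P.root j) = P'.root (u j) := by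
    intro j
    have h1 : B j = P.root j := Module.Basis.mk_apply hli hsp j
    have h2 : B' (u j) = P'.root (u j) := Module.Basis.mk_apply hli' hsp' (u j)
    rw [← h1, ← h2]
    exact Module.Basis.equiv_apply B j B' u
  have hφs : ∀ j : ↥b'.support, φ.symm (P'.root j) = P.root (u.symm j) := by
    intro j
    rw [LinearEquiv.symm_apply_eq, hφ, Equiv.apply_symm_apply]
  -- roots to roots
  have hex : ∀ k : ι, ∃ k' : ι', P'.root k' = φ (P.root k) :=
    maps_roots P P' _ hΔ (fun j hj => (u ⟨j, hj⟩ : ι'))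
      (fun i hi j hj => hu ⟨i, hi⟩ ⟨j, hj⟩) hspanΔ φ.toLinearMap (fun j hj => hφ ⟨j, hj⟩)
  have hex' : ∀ k' : ι', ∃ k : ι, P.root k = φ.symm (P'.root k') :=
    maps_roots P' P _ hΔ' (fun j hj => (u.symm ⟨j, hj⟩ : ι))
      (fun i hi j hj => by
        have := hu (u.symm ⟨i, hi⟩) (u.symm ⟨j, hj⟩)
        rw [Equiv.apply_symm_apply, Equiv.apply_symm_apply] at this
        exact this.symm) hspanΔ' φ.symm.toLinearMap (fun j hj => hφs ⟨j, hj⟩)
  let σ₀ : ι → ι' := fun k => (hex k).choose
  have hσ₀ : ∀ k, P'.root (σ₀ k) = φ (P.root k) := fun k => (hex k).choose_spec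
  have hbij : Function.Bijective σ₀ := by
    constructor
    · intro k₁ k₂ h
      apply P.root.injective
      apply φ.injective
      rw [← hσ₀, ← hσ₀, h]
    · intro k'
      obtain ⟨k, hk⟩ := hex' k'
      refine ⟨k, ?_⟩
      apply P'.root.injective
      rw [hσ₀, hk, LinearEquiv.apply_symm_apply]
  let σ : ι ≃ ι' := Equiv.ofBijective σ₀ hbij
  have hσ : ∀ k, P'.root (σ k) = φ (P.root k) := hσ₀
  let ψ : N' →ₗ[ℤ] N := P.flip.toPerfPair.symm.toLinearMap ∘ₗ φ.toLinearMap.dualMap ∘ₗ
    P'.flip.toPerfPair.toLinearMap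
  have hψ : ∀ n', ψ n' = P.flip.toPerfPair.symm (φ.toLinearMap.dualMap (P'.flip.toPerfPair n')) :=
    fun n' => rfl
  let e : RootPairing.Equiv P P' :=
    { weightMap := φ.toLinearMap
      coweightMap := ψ
      indexEquiv := σ
      weight_coweight_transpose := by
        apply LinearMap.ext
        intro n'
        simp only [LinearMap.comp_apply, LinearEquiv.coe_coe]
        rw [hψ, LinearEquiv.apply_symm_apply]
      root_weightMap := by
        funext k
        exact (hσ k).symm
      coroot_coweightMap := by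
        funext k'
        have := coroot_eq_of_root_map P P' had φ σ hσ (σ.symm k')
        rw [Equiv.apply_symm_apply] at this
        exact this
      bijective_weightMap := φ.bijective
      bijective_coweightMap := by
        have h1 : Function.Bijective (φ.dualMap) := φ.dualMap.bijective
        exact (P.flip.toPerfPair.symm.bijective.comp h1).comp P'.flip.toPerfPair.bijective }
  refine ⟨e, ?_, ?_⟩
  · intro i
    apply P'.root.injective
    change P'.root (σ i) = _
    rw [hσ, hφ]
  · intro e₁ he₁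
    apply equiv_ext_of_weightMap
    apply LinearMap.ext_on hspanΔ
    rintro _ ⟨j, hj, rfl⟩
    have h1 := RootPairing.Hom.root_weightMap_apply P P' j e₁.toHom
    rw [h1, he₁ ⟨j, hj⟩]
    exact (hφ ⟨j, hj⟩).symm

end Groth.Agent.S5493
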