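import Groth.Statements.S5494
import Groth.Agent.Lib.Helper3.RootD
import Groth.Agent.S5506
import Groth.Agent.S5482

set_option autoImplicit false
open RootD

namespace Groth.Agent.S5494

open Groth.Agent.Lib.helper3.RootDLib

/-- If a system of simple roots has no partition into two non-empty orthogonal subsets, then any two
roots are linked by a chain of roots with consecutive members non-orthogonal. -/
theorem result {ι M N : Type*} [AddCommGroup M] [AddCommGroup N]
    (P : RootPairing ι ℤ M N) [Finite ι] (Δ : Set ι) (hΔ : RootD.IsSimpleSys P Δ)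
    (hconn : ∀ Δ' : Set ι, Δ' ⊆ Δ → (∀ i ∈ Δ', ∀ j ∈ Δ \ Δ', P.IsOrthogonal i j) → Δ' = ∅ ∨ Δ' = Δ)
    (i j : ι) : Relation.ReflTransGen (fun a b : ι => ¬ P.IsOrthogonal a b) i j := by
  have : Module.IsReflexive ℤ M := isReflexive_left P
  set C : Set ι := {j : ι | Relation.ReflTransGen (fun a b : ι => ¬ P.IsOrthogonal a b) i j} with hC
  obtain ⟨hc, hs, hc', hs'⟩ := Groth.Agent.S5506.result P i
  obtain ⟨h1, h2, horth⟩ := Groth.Agent.S5482.result P Δ hΔ C hc hs hc' hs'
  have hempty : RootD.inSpan P (∅ : Set ι) = ∅ := by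
    ext k
    simp only [RootD.inSpan, Set.image_empty, Submodule.span_empty, Submodule.mem_bot,
      Set.mem_ofPred_eq, Set.mem_empty_iff_false, iff_false]
    exact P.ne_zero k
  have hdiff : Δ \ (Δ ∩ C) = Δ \ C := by
    ext x; constructor
    · rintro ⟨hx, hx'⟩; exact ⟨hx, fun h => hx' ⟨hx, h⟩⟩
    · rintro ⟨hx, hx'⟩; exact ⟨hx, fun h => hx' h.2⟩
  have hiC : i ∈ C := Relation.ReflTransGen.refl
  rcases hconn (Δ ∩ C) Set.inter_subset_left (by rw [hdiff]; exact horth) with h | h
  · exfalso
    rw [h, hempty] at h1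
    rw [h1] at hiC
    exact hiC
  · have hd : Δ \ C = ∅ := by
      ext x
      simp only [Set.mem_sdiff, Set.mem_empty_iff_false, iff_false, not_and, not_not]
      intro hx
      have : x ∈ Δ ∩ C := by rw [h]; exact hx
      exact this.2
    rw [hd, hempty] at h2
    by_contra hj
    have : j ∈ Cᶜ := hj
    rw [h2] at this
    exact this

end Groth.Agent.S5494
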