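import Groth.Statements.S5495
import Mathlib.LinearAlgebra.RootSystem.Reduced

set_option autoImplicit false
open RootD

namespace Groth.Agent.S5495

/-- If α is an indivisible root and kα is a root for a rational k, then k is an integer. -/
theorem result {ι M N : Type*} [AddCommGroup M] [AddCommGroup N]
    (P : RootPairing ι ℤ M N) [Finite ι] (i j : ι) (hind : RootD.IsIndiv P i) (a b : ℤ) (hb : b ≠ 0)
    (h : b • P.root j = a • P.root i) : b ∣ a := by
  have : Module.IsReflexive ℤ M := .of_isPerfPair P.toLinearMap
  have hnli : ¬ LinearIndependent ℤ ![P.root i, P.root j] := by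
    intro hli
    rw [LinearIndependent.pair_iff] at hli
    have := hli a (-b) (by rw [neg_smul, ← h]; abel)
    exact hb (by simpa using this.2)
  have h2 := P.pairing_smul_root_eq_of_not_linearIndependent hnli
  have h4 : P.coxeterWeight i j = 4 := P.coxeterWeight_eq_four_iff_not_linearIndependent.mpr hnli
  rw [RootPairing.coxeterWeight] at h4
  set p := P.pairing j i with hp
  set q := P.pairing i j with hq
  -- b * p = 2 * a
  have hne : P.root i ≠ 0 := P.ne_zero i
  have hbp : b * p = 2 * a := by
    have h3 : (b * p - 2 * a) • P.root i = 0 := by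
      rw [sub_smul, mul_smul, h2, mul_smul, ← h, smul_comm]
      exact sub_self _
    rcases smul_eq_zero.mp h3 with h0 | h0
    · linarith
    · exact absurd h0 hne
  have hdvd : p ∣ 4 := ⟨q, by rw [← h4]; ring⟩
  have hle : p ≤ 4 := Int.le_of_dvd (by norm_num) hdvd
  have hge : -4 ≤ p := by
    have : -p ≤ 4 := Int.le_of_dvd (by norm_num) ((neg_dvd).mpr hdvd)
    linarith
  have hcases : p = 1 ∨ p = -1 ∨ 2 ∣ p := by
    interval_cases p <;> omega
  rcases hcases with h1 | h1 | ⟨p', hp'⟩
  · exfalso
    rw [h1, one_smul] at h2
    exact hind j h2.symm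
  · exfalso
    rw [h1, neg_smul, one_smul] at h2
    apply hind (P.reflectionPerm j j)
    have : P.root (P.reflectionPerm j j) = -P.root j := by simp
    rw [this, smul_neg, ← h2, neg_neg]
  · refine ⟨p', ?_⟩
    rw [hp'] at hbp
    linarith

end Groth.Agent.S5495
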