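import Groth.Statements.S5496
import Groth.Agent.Lib.Helper3.RootD12
import Mathlib.GroupTheory.Index
import Mathlib.GroupTheory.OrderOfElement

set_option autoImplicit false
open RootPairing
open scoped Pointwise
open RootD

namespace Groth.Agent.S5496

open Groth.Agent.Lib.helper3.RootDLib

lemma fix_of_mem_closure {ι M N : Type*} [AddCommGroup M] [AddCommGroup N]
    (P : RootPairing ι ℤ M N) (i j : ι) (x : M) (hxi : P.coroot' i x = 0) (hxj : P.coroot' j x = 0)
    (g : P.Aut)
    (hg : g ∈ Subgroup.closure ({RootPairing.Equiv.reflection P i,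
      RootPairing.Equiv.reflection P j} : Set P.Aut)) : g • x = x ∧ g⁻¹ • x = x := by
  induction hg using Subgroup.closure_induction with
  | mem y hy =>
    have h1 : y • x = x := by
      rcases hy with rfl | rfl
      · rw [RootPairing.Equiv.reflection_smul, P.reflection_apply]
        change x - (P.coroot' i x) • P.root i = x
        rw [hxi, zero_smul, sub_zero]
      · rw [RootPairing.Equiv.reflection_smul, P.reflection_apply]
        change x - (P.coroot' j x) • P.root j = x
        rw [hxj, zero_smul, sub_zero]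
    exact ⟨h1, by rw [inv_smul_eq_iff, h1]⟩
  | one => exact ⟨one_smul _ _, by rw [inv_one, one_smul]⟩
  | mul a b _ _ iha ihb =>
    refine ⟨by rw [mul_smul, ihb.1, iha.1], ?_⟩
    rw [mul_inv_rev, mul_smul, iha.2, ihb.2]
  | inv a _ iha => exact ⟨iha.2, by rw [inv_inv]; exact iha.1⟩

lemma closure_pair_le_weylGroup {ι M N : Type*} [AddCommGroup M] [AddCommGroup N]
    (P : RootPairing ι ℤ M N) (i j : ι) :
    Subgroup.closure ({RootPairing.Equiv.reflection P i,
        RootPairing.Equiv.reflection P j} : Set P.Aut) ≤ P.weylGroup := by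
  rw [Subgroup.closure_le]
  rintro _ (rfl | rfl)
  · exact P.reflection_mem_weylGroup i
  · exact P.reflection_mem_weylGroup j

/-- An element of the group generated by two reflections `s_i, s_j` (with independent roots) that
fixes both roots is trivial. -/
lemma eq_one_of_fix {ι M N : Type*} [AddCommGroup M] [AddCommGroup N]
    (P : RootPairing ι ℤ M N) [Finite ι] (i j : ι)
    (hli : LinearIndependent ℤ ![P.root i, P.root j]) (g : P.Aut)
    (hg : g ∈ Subgroup.closure ({RootPairing.Equiv.reflection P i,
      RootPairing.Equiv.reflection P j} : Set P.Aut))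
    (hgi : g • i = i) (hgj : g • j = j) : g = 1 := by
  haveI : Module.IsReflexive ℤ M := isReflexive_left P
  haveI : IsAddTorsionFree M := .of_isTorsionFree ℤ M
  have hgW : g ∈ P.weylGroup := closure_pair_le_weylGroup P i j hg
  apply eq_of_smul_eq P g 1 hgW (one_mem _)
  intro m
  rw [one_smul]
  have hD : P.pairing i j * P.pairing j i ≠ 4 := P.coxeterWeight_ne_four_of_linearIndependent hli
  set a : ℤ := P.coroot' i m with ha
  set b : ℤ := P.coroot' j m with hb
  set cji : ℤ := P.pairing j i with hcji
  set cij : ℤ := P.pairing i j with hcij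
  set D : ℤ := 4 - cij * cji with hDdef
  set p : ℤ := 2 * a - cji * b with hp
  set q : ℤ := 2 * b - cij * a with hq
  set m' : M := D • m - p • P.root i - q • P.root j with hm'
  have h1 : P.coroot' i m' = 0 := by
    rw [hm', map_sub, map_sub, map_smul, map_smul, map_smul]
    have e1 : P.coroot' i (P.root i) = 2 := P.root_coroot_two i
    have e2 : P.coroot' i (P.root j) = cji := rfl
    rw [e1, e2, ← ha]
    simp only [smul_eq_mul]
    rw [hDdef, hp, hq]
    ring
  have h2 : P.coroot' j m' = 0 := by
    rw [hm', map_sub, map_sub, map_smul, map_smul, map_smul]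
    have e1 : P.coroot' j (P.root j) = 2 := P.root_coroot_two j
    have e2 : P.coroot' j (P.root i) = cij := rfl
    rw [e1, e2, ← hb]
    simp only [smul_eq_mul]
    rw [hDdef, hp, hq]
    ring
  have h3 := (fix_of_mem_closure P i j m' h1 h2 g hg).1
  have hri : g • P.root i = P.root i := by rw [← root_smul, hgi]
  have hrj : g • P.root j = P.root j := by rw [← root_smul, hgj]
  have h4 : D • m = m' + p • P.root i + q • P.root j := by rw [hm']; abel
  have h5 : g • (D • m) = D • m := by
    rw [h4, smul_add, smul_add, h3, smul_comm g p, smul_comm g q, hri, hrj]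
  rw [smul_comm g D] at h5
  have hD0 : D ≠ 0 := by
    rw [hDdef]
    intro h
    apply hD
    linarith
  exact smul_right_injective M hD0 h5


lemma conj_mem_zpowers {G : Type*} [Group G] (a b : G) (ha : a * a = 1) (hb : b * b = 1) (h : G)
    (hh : h ∈ Subgroup.zpowers (a * b)) : a * h * a ∈ Subgroup.zpowers (a * b) := by
  have hainv : a⁻¹ = a := inv_eq_of_mul_eq_one_right ha
  have hbinv : b⁻¹ = b := inv_eq_of_mul_eq_one_right hb
  obtain ⟨k, rfl⟩ := Subgroup.mem_zpowers_iff.mp hh
  have h1 : a * (a * b) ^ k * a = (a * (a * b) * a⁻¹) ^ k := by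
    rw [conj_zpow, hainv]
  rw [h1]
  have h2 : a * (a * b) * a⁻¹ = (a * b)⁻¹ := by
    rw [mul_inv_rev, hainv, hbinv, ← mul_assoc, ha, one_mul]
  rw [h2, inv_zpow]
  exact inv_mem (Subgroup.zpow_mem_zpowers _ k)

lemma mem_or_mul_mem_zpowers {G : Type*} [Group G] (a b : G) (ha : a * a = 1) (hb : b * b = 1)
    (g : G) (hg : g ∈ Subgroup.closure ({a, b} : Set G)) :
    g ∈ Subgroup.zpowers (a * b) ∨ g * a ∈ Subgroup.zpowers (a * b) := by
  have hainv : a⁻¹ = a := inv_eq_of_mul_eq_one_right ha
  have hbinv : b⁻¹ = b := inv_eq_of_mul_eq_one_right hb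
  induction hg using Subgroup.closure_induction with
  | mem y hy =>
    rcases hy with rfl | rfl
    · right
      rw [ha]
      exact one_mem _
    · right
      have : y * a = (a * y)⁻¹ := by rw [mul_inv_rev, hainv, hbinv]
      rw [this]
      exact inv_mem (Subgroup.mem_zpowers _)
  | one => left; exact one_mem _
  | mul x y _ _ hx hy =>
    rcases hx with hx | hx <;> rcases hy with hy | hy
    · left; exact mul_mem hx hy
    · right
      rw [mul_assoc]
      exact mul_mem hx hy
    · right
      have : x * y * a = (x * a) * (a * y * a) := by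
        rw [mul_assoc x a, ← mul_assoc a (a * y), ← mul_assoc a a, ha, one_mul, mul_assoc]
      rw [this]
      exact mul_mem hx (conj_mem_zpowers a b ha hb y hy)
    · left
      have : x * y = (x * a) * (a * (y * a) * a) := by
        calc x * y = x * (a * a) * y * (a * a) := by rw [ha, mul_one, mul_one]
          _ = (x * a) * (a * (y * a) * a) := by simp only [mul_assoc]
      rw [this]
      exact mul_mem hx (conj_mem_zpowers a b ha hb _ hy)
  | inv x _ hx =>
    rcases hx with hx | hx
    · left; exact inv_mem hx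
    · right
      have : x⁻¹ * a = a * (x * a)⁻¹ * a := by
        rw [mul_inv_rev, hainv, ← mul_assoc a a, ha, one_mul]
      rw [this]
      exact conj_mem_zpowers a b ha hb _ (inv_mem hx)

lemma not_mem_zpowers {G : Type*} [Group G] (a b : G) (ha : a * a = 1) (hb : b * b = 1)
    (ha1 : a ≠ 1) (hb1 : b ≠ 1) : a ∉ Subgroup.zpowers (a * b) := by
  have hainv : a⁻¹ = a := inv_eq_of_mul_eq_one_right ha
  have hbinv : b⁻¹ = b := inv_eq_of_mul_eq_one_right hb
  intro h
  obtain ⟨k, hk⟩ := Subgroup.mem_zpowers_iff.mp h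
  have hcomm : Commute ((a * b) ^ k) (a * b) := (Commute.refl (a * b)).zpow_left k
  rw [hk] at hcomm
  -- a * (a*b) = (a*b) * a  ⇒ b = a * b * a
  have h1 : a * (a * b) = a * b * a := hcomm.eq
  rw [← mul_assoc, ha, one_mul] at h1
  -- h1 : b = a * b * a
  have hsq : (a * b) * (a * b) = 1 := by
    calc (a * b) * (a * b) = (a * b * a) * b := by rw [mul_assoc, mul_assoc, mul_assoc]
      _ = b * b := by rw [← h1]
      _ = 1 := hb
  rcases Int.even_or_odd k with ⟨t, ht⟩ | ⟨t, ht⟩
  · apply ha1
    rw [← hk, ht, ← two_mul, zpow_mul, zpow_two, hsq, one_zpow]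
  · apply hb1
    have e : (a * b) ^ k = a * b := by
      rw [ht, zpow_add, zpow_mul, zpow_two, hsq, one_zpow, one_mul, zpow_one]
    have : a = a * b := hk.symm.trans e
    have h2 : a * 1 = a * b := by rw [mul_one]; exact this
    exact (mul_left_cancel h2).symm

lemma card_closure_pair {G : Type*} [Group G] (a b : G) (ha : a * a = 1) (hb : b * b = 1)
    (ha1 : a ≠ 1) (hb1 : b ≠ 1) :
    Nat.card (Subgroup.closure ({a, b} : Set G)) = 2 * orderOf (a * b) := by
  set K := Subgroup.closure ({a, b} : Set G) with hK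
  have haK : a ∈ K := Subgroup.subset_closure (by simp)
  have hbK : b ∈ K := Subgroup.subset_closure (by simp)
  set r' : K := ⟨a, haK⟩ * ⟨b, hbK⟩ with hr'
  have hmem : ∀ x : K, x ∈ Subgroup.zpowers r' ↔ (x : G) ∈ Subgroup.zpowers (a * b) := by
    intro x
    rw [Subgroup.mem_zpowers_iff, Subgroup.mem_zpowers_iff]
    constructor
    · rintro ⟨k, hk⟩
      refine ⟨k, ?_⟩
      rw [← hk]
      simp [hr']
    · rintro ⟨k, hk⟩
      refine ⟨k, ?_⟩
      apply Subtype.ext
      rw [← hk]
      simp [hr']
  have hidx : (Subgroup.zpowers r').index = 2 := by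
    rw [Subgroup.index_eq_two_iff]
    refine ⟨⟨a, haK⟩, ?_⟩
    intro x
    have h1 := mem_or_mul_mem_zpowers a b ha hb x.1 x.2
    have h2 : ¬ ((x : G) ∈ Subgroup.zpowers (a * b) ∧ (x : G) * a ∈ Subgroup.zpowers (a * b)) := by
      rintro ⟨hx, hxa⟩
      apply not_mem_zpowers a b ha hb ha1 hb1
      have hmem2 : (x : G)⁻¹ * ((x : G) * a) ∈ Subgroup.zpowers (a * b) :=
        mul_mem (inv_mem hx) hxa
      rwa [inv_mul_cancel_left] at hmem2
    rw [hmem, hmem]
    change Xor ((x : G) * a ∈ _) _
    unfold Xor
    tauto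
  have hcard := Subgroup.card_mul_index (Subgroup.zpowers r')
  rw [hidx, Nat.card_zpowers] at hcard
  have hord : orderOf r' = orderOf (a * b) := by
    rw [← Subgroup.orderOf_coe]
    rfl
  rw [← hcard, hord, mul_comm]

lemma reflection_ne_one {ι M N : Type*} [AddCommGroup M] [AddCommGroup N]
    (P : RootPairing ι ℤ M N) (i : ι) : RootPairing.Equiv.reflection P i ≠ 1 := by
  haveI : Module.IsReflexive ℤ M := isReflexive_left P
  intro h
  have h1 : RootPairing.Equiv.reflection P i • P.root i = P.root i := by rw [h, one_smul]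
  rw [RootPairing.Equiv.reflection_smul, P.reflection_apply_self] at h1
  have h2 : (2 : ℤ) • P.root i = 0 := by
    rw [two_smul]
    nth_rewrite 1 [← h1]
    exact neg_add_cancel _
  rcases smul_eq_zero.mp h2 with h3 | h3
  · norm_num at h3
  · exact P.ne_zero i h3

/-- For non-proportional roots α, β let n be the least integer n > 0 with (s_α s_β)^n(α) = α and (s_α
s_β)^n(β) = β. Then the subgroup W_{α,β} generated by s_α and s_β is presented by s_α² = s_β² = (s_α
s_β)^n = 1; equivalently it has exactly 2n elements. -/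
theorem result {ι M N : Type*} [AddCommGroup M] [AddCommGroup N]
    (P : RootPairing ι ℤ M N) [Finite ι] (i j : ι) (hli : LinearIndependent ℤ ![P.root i, P.root j])
    (n : ℕ) (hn : IsLeast {m : ℕ | 0 < m ∧ ((Equiv.reflection P i * Equiv.reflection P j) ^ m) • i = i ∧
      ((Equiv.reflection P i * Equiv.reflection P j) ^ m) • j = j} n) :
    Nat.card (Subgroup.closure ({Equiv.reflection P i, Equiv.reflection P j} : Set P.Aut)) = 2 * n := by
  classical
  have ha : Equiv.reflection P i * Equiv.reflection P i = 1 := reflection_mul_self P i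
  have hb : Equiv.reflection P j * Equiv.reflection P j = 1 := reflection_mul_self P j
  rw [card_closure_pair _ _ ha hb (reflection_ne_one P i) (reflection_ne_one P j)]
  congr 1
  obtain ⟨⟨hn0, hni, hnj⟩, hmin⟩ := hn
  rw [orderOf_eq_iff hn0]
  have hpow : ∀ m : ℕ, (Equiv.reflection P i * Equiv.reflection P j) ^ m ∈
      Subgroup.closure ({Equiv.reflection P i, Equiv.reflection P j} : Set P.Aut) := fun m =>
    pow_mem (mul_mem (Subgroup.subset_closure (by simp)) (Subgroup.subset_closure (by simp))) m
  refine ⟨eq_one_of_fix P i j hli _ (hpow n) hni hnj, ?_⟩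
  intro m hm hm0 h1
  have hmem : m ∈ {m : ℕ | 0 < m ∧ ((Equiv.reflection P i * Equiv.reflection P j) ^ m) • i = i ∧
      ((Equiv.reflection P i * Equiv.reflection P j) ^ m) • j = j} :=
    ⟨hm0, by rw [h1, one_smul], by rw [h1, one_smul]⟩
  exact absurd (hmin hmem) (not_le.mpr hm)

end Groth.Agent.S5496
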