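import Groth.Statements.S5499
import Groth.Agent.Lib.Helper3.RootD6
import Groth.Agent.S5465

set_option autoImplicit false
open RootD

namespace Groth.Agent.S5499

open Groth.Agent.Lib.helper3.RootDLib

/-- For an irreducible datum, where long(α) = ℓ(α)/ℓ(α₀) with ℓ(α₀) minimal: there is a unique
homomorphism u : Γ_0(R) → M^v with u(α) = long(α) α^v for every root α. -/
theorem result {ι M N : Type*} [AddCommGroup M] [AddCommGroup N]
    (P : RootPairing ι ℤ M N) [Finite ι] [Fintype ι]
    (hirr : ∀ R' : Set ι, RootD.IsClosedSub P R' → RootD.IsSymmSub P R' → RootD.IsClosedSub P R'ᶜ →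
      RootD.IsSymmSub P R'ᶜ → R' = ∅ ∨ R' = Set.univ)
    (i₀ : ι) (hmin : ∀ i : ι, P.RootForm (P.root i₀) (P.root i₀) ≤ P.RootForm (P.root i) (P.root i)) :
    ∃! u : Submodule.span ℤ (Set.range P.root) →+ N, ∀ i : ι,
      u ⟨P.root i, Submodule.subset_span (Set.mem_range_self i)⟩ =
        (P.RootForm (P.root i) (P.root i) / P.RootForm (P.root i₀) (P.root i₀)) • P.coroot i := by
  classical
  have : Module.IsReflexive ℤ M := isReflexive_left P
  have : Module.IsReflexive ℤ N := isReflexive_right P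
  have hℓ : ∀ k, 0 < P.RootForm (P.root k) (P.root k) := rootForm_root_pos P
  -- divisibility of lengths by the minimal one
  have hdvd : ∀ i : ι, P.RootForm (P.root i₀) (P.root i₀) ∣ P.RootForm (P.root i) (P.root i) := by
    intro i
    obtain ⟨g, hg, hgk⟩ := exists_weyl_smul_pairing_ne_zero P hirr i i₀
    have hl : P.RootForm (P.root (g • i)) (P.root (g • i)) = P.RootForm (P.root i) (P.root i) := by
      rw [root_smul, rootForm_weyl_smul P g hg]
    have hmem := P.pairingIn_pairingIn_mem_set_of_isCrystallographic (g • i) i₀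
    rw [pairingIn_eq, pairingIn_eq] at hmem
    have hsw := pairing_mul_rootForm_swap P (g • i) i₀
    rw [hl] at hsw
    have h0 := hℓ i₀
    have hm := hmin i
    simp only [Set.mem_insert_iff, Set.mem_singleton_iff, Prod.mk.injEq] at hmem
    have key : P.RootForm (P.root i) (P.root i) = P.RootForm (P.root i₀) (P.root i₀) ∨
        P.RootForm (P.root i) (P.root i) = 2 * P.RootForm (P.root i₀) (P.root i₀) ∨
        P.RootForm (P.root i) (P.root i) = 3 * P.RootForm (P.root i₀) (P.root i₀) ∨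
        P.RootForm (P.root i) (P.root i) = 4 * P.RootForm (P.root i₀) (P.root i₀) := by
      rcases hmem with ⟨h1, h2⟩ | ⟨h1, h2⟩ | ⟨h1, h2⟩ | ⟨h1, h2⟩ | ⟨h1, h2⟩ | ⟨h1, h2⟩ |
        ⟨h1, h2⟩ | ⟨h1, h2⟩ | ⟨h1, h2⟩ | ⟨h1, h2⟩ | ⟨h1, h2⟩ | ⟨h1, h2⟩ | ⟨h1, h2⟩ |
        ⟨h1, h2⟩ | ⟨h1, h2⟩ | ⟨h1, h2⟩ | ⟨h1, h2⟩ <;>
      first
      | exact absurd h1 hgk
      | (rw [h1, h2] at hsw; omega)
    rcases key with h | h | h | h
    · exact ⟨1, by rw [h]; ring⟩
    · exact ⟨2, by rw [h]; ring⟩
    · exact ⟨3, by rw [h]; ring⟩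
    · exact ⟨4, by rw [h]; ring⟩
  have hq : ∀ i : ι, (P.RootForm (P.root i) (P.root i) / P.RootForm (P.root i₀) (P.root i₀)) *
      P.RootForm (P.root i₀) (P.root i₀) = P.RootForm (P.root i) (P.root i) :=
    fun i => Int.ediv_mul_cancel (hdvd i)
  apply Groth.Agent.S5465.result P
    (fun i => (P.RootForm (P.root i) (P.root i) / P.RootForm (P.root i₀) (P.root i₀)) • P.coroot i)
  · intro i
    have h1 : P.root (P.reflectionPerm i i) = -P.root i := root_neg P i
    have h2 : P.coroot (P.reflectionPerm i i) = -P.coroot i := root_neg P.flip i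
    have h3 : P.RootForm (-P.root i) (-P.root i) = P.RootForm (P.root i) (P.root i) := by
      simp
    rw [h1, h2, h3, smul_neg]
  · intro i j k hk
    have h1 : (P.RootForm (P.root k) (P.root k)) • P.coroot k =
        (P.RootForm (P.root i) (P.root i)) • P.coroot i +
        (P.RootForm (P.root j) (P.root j)) • P.coroot j := by
      rw [P.rootForm_self_smul_coroot k, P.rootForm_self_smul_coroot i,
        P.rootForm_self_smul_coroot j, hk, map_add, smul_add]
    rw [← hq k, ← hq i, ← hq j, mul_comm _ (P.RootForm (P.root i₀) (P.root i₀)),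
      mul_comm _ (P.RootForm (P.root i₀) (P.root i₀)),
      mul_comm _ (P.RootForm (P.root i₀) (P.root i₀)), mul_smul, mul_smul, mul_smul,
      ← smul_add] at h1
    exact (smul_right_inj (ne_of_gt (hℓ i₀))).mp h1

end Groth.Agent.S5499
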