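import Groth.Statements.S5500
import Groth.Agent.Lib.Helper3.RootD6

set_option autoImplicit false
open RootD

namespace Groth.Agent.S5500

open Groth.Agent.Lib.helper3.RootDLib

/-- For a p-morphism between irreducible reduced root data there is a rational constant k with k ·
long(u(α)) = q(α)² · long(α) for every root α; stated as the proportionality q(α)² ℓ(α) ℓ'(u β) =
q(β)² ℓ(β) ℓ'(u α) of the canonical quadratic forms. -/
theorem result {ι M N ι' M' N' : Type*} [AddCommGroup M] [AddCommGroup N] [AddCommGroup M'] [AddCommGroup N']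
    (P : RootPairing ι ℤ M N) (P' : RootPairing ι' ℤ M' N') [Finite ι] [Finite ι'] [Fintype ι] [Fintype ι'] [P.IsReduced] [P'.IsReduced]
    (hirr : ∀ R₁ : Set ι, RootD.IsClosedSub P R₁ → RootD.IsSymmSub P R₁ → RootD.IsClosedSub P R₁ᶜ →
      RootD.IsSymmSub P R₁ᶜ → R₁ = ∅ ∨ R₁ = Set.univ)
    (hirr' : ∀ R₁ : Set ι', RootD.IsClosedSub P' R₁ → RootD.IsSymmSub P' R₁ → RootD.IsClosedSub P' R₁ᶜ →
      RootD.IsSymmSub P' R₁ᶜ → R₁ = ∅ ∨ R₁ = Set.univ)
    (p : ℕ) (hp : 0 < p) (f : M' →ₗ[ℤ] M) (g : N →ₗ[ℤ] N')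
    (hfg : ∀ (m' : M') (n : N), P.toLinearMap (f m') n = P'.toLinearMap m' (g n))
    (u : ι ≃ ι') (q : ι → ℕ) (hq : ∀ i, ∃ e : ℕ, q i = p ^ e)
    (hroot : ∀ i : ι, f (P'.root (u i)) = (q i : ℤ) • P.root i)
    (hcoroot : ∀ i : ι, g (P.coroot i) = (q i : ℤ) • P'.coroot (u i)) (i j : ι) :
    ((q i : ℤ) ^ 2 * P.RootForm (P.root i) (P.root i)) * P'.RootForm (P'.root (u j)) (P'.root (u j)) =
      ((q j : ℤ) ^ 2 * P.RootForm (P.root j) (P.root j)) * P'.RootForm (P'.root (u i)) (P'.root (u i)) := by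
  classical
  have : Module.IsReflexive ℤ M := isReflexive_left P
  have hℓ : ∀ k, 0 < P.RootForm (P.root k) (P.root k) := rootForm_root_pos P
  have hℓ' : ∀ k, 0 < P'.RootForm (P'.root k) (P'.root k) := rootForm_root_pos P'
  -- relation between the pairings
  have hpair : ∀ a b : ι, (q a : ℤ) * P.pairing a b = (q b : ℤ) * P'.pairing (u a) (u b) := by
    intro a b
    have h1 := hfg (P'.root (u a)) (P.coroot b)
    rw [hroot a, hcoroot b, map_smul, LinearMap.smul_apply, map_smul] at h1
    exact h1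
  -- the relation for non-orthogonal pairs
  have hstep : ∀ a b : ι, ¬ P.IsOrthogonal a b →
      ((q a : ℤ) ^ 2 * P.RootForm (P.root a) (P.root a)) * P'.RootForm (P'.root (u b)) (P'.root (u b)) =
      ((q b : ℤ) ^ 2 * P.RootForm (P.root b) (P.root b)) * P'.RootForm (P'.root (u a)) (P'.root (u a)) := by
    intro a b hab
    have hp : P.pairing a b ≠ 0 := by
      intro h0
      exact hab ⟨h0, RootPairing.pairing_eq_zero_iff.mp h0⟩
    have e1 := hpair a b
    have e2 := hpair b a
    have e3 := pairing_mul_rootForm_swap P a b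
    have e4 := pairing_mul_rootForm_swap P' (u a) (u b)
    apply mul_left_cancel₀ hp
    linear_combination
      ((q a : ℤ) * P.RootForm (P.root a) (P.root a) * P'.RootForm (P'.root (u b)) (P'.root (u b))) * e1
      - ((q a : ℤ) * (q b : ℤ) * P.RootForm (P.root a) (P.root a)) * e4
      - ((q b : ℤ) * P.RootForm (P.root a) (P.root a) * P'.RootForm (P'.root (u a)) (P'.root (u a))) * e2
      + ((q b : ℤ) ^ 2 * P'.RootForm (P'.root (u a)) (P'.root (u a))) * e3
  have hch := chain_of_irreducible P hirr i j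
  induction hch with
  | refl => rfl
  | @tail b c _ hbc ih =>
    have h1 := hstep b c hbc
    have hb := hℓ b
    have hb' := hℓ' (u b)
    have hqb : (0 : ℤ) < (q b : ℤ) ^ 2 * P.RootForm (P.root b) (P.root b) := by
      obtain ⟨e, he⟩ := hq b
      have : 0 < q b := by rw [he]; exact pow_pos hp e
      positivity
    apply mul_left_cancel₀ (ne_of_gt (mul_pos hqb hb'))
    linear_combination
      ((q b : ℤ) ^ 2 * P.RootForm (P.root b) (P.root b) *
        P'.RootForm (P'.root (u c)) (P'.root (u c))) * ih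
      + ((q b : ℤ) ^ 2 * P.RootForm (P.root b) (P.root b) *
        P'.RootForm (P'.root (u i)) (P'.root (u i))) * h1

end Groth.Agent.S5500
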