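import Groth.Statements.S5501
import Groth.Agent.Lib.Helper3.RootD
import Mathlib.LinearAlgebra.FreeModule.Finite.Quotient
import Mathlib.LinearAlgebra.FreeModule.Finite.Matrix

set_option autoImplicit false
universe u v w
open RootD

namespace Groth.Agent.S5501

open Groth.Agent.Lib.helper3.RootDLib

/-- The adjoint cover: the root datum on the root lattice and its dual. -/
noncomputable def adjCover {ι : Type u} {M : Type v} {N : Type w} [AddCommGroup M] [AddCommGroup N]
    (P : RootPairing ι ℤ M N) [Finite ι] [Module.Finite ℤ M] [Module.IsReflexive ℤ M] :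
    RootPairing ι ℤ ↥(Submodule.span ℤ (Set.range P.root))
      (Module.Dual ℤ ↥(Submodule.span ℤ (Set.range P.root))) :=
  haveI : IsAddTorsionFree M := .of_isTorsionFree ℤ M
  RootPairing.mk' (Module.Dual.eval ℤ ↥(Submodule.span ℤ (Set.range P.root)))
    ⟨fun i => ⟨P.root i, Submodule.subset_span (Set.mem_range_self i)⟩, fun i j h =>
      P.root.injective (Subtype.ext_iff.mp h)⟩
    ⟨fun i => (Submodule.span ℤ (Set.range P.root)).subtype.dualMap (P.toLinearMap.flip (P.coroot i)),
      fun i j h => P.coroot.injective
        (P.injOn_dualMap_subtype_span_root_coroot (Set.mem_range_self i) (Set.mem_range_self j) h)⟩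
    (fun i => P.root_coroot_two i)
    (by
      rintro i _ ⟨j, rfl⟩
      refine ⟨P.reflectionPerm i j, ?_⟩
      apply Subtype.ext
      simp only [Function.Embedding.coeFn_mk, Module.preReflection_apply]
      rw [P.root_reflectionPerm, P.reflection_apply]
      rfl)
    (by
      rintro i _ ⟨j, rfl⟩
      refine ⟨P.reflectionPerm i j, ?_⟩
      simp only [Function.Embedding.coeFn_mk, Module.preReflection_apply]
      rw [P.coroot_reflectionPerm, P.coreflection_apply, map_sub, map_sub, map_smul, map_smul]
      rfl)

/-- Adjoint case; the simply connected case is dual: a semisimple root datum R is adjoint if and only if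
every isogeny R' → R is an isomorphism. -/
theorem result {ι : Type u} {M : Type v} {N : Type w} [AddCommGroup M] [AddCommGroup N]
    (P : RootPairing ι ℤ M N) [Finite ι] [Module.Finite ℤ M] [Module.Finite ℤ N]
    (hss : Module.finrank ℤ (Submodule.span ℤ (Set.range P.root)) = Module.finrank ℤ M) :
    Submodule.span ℤ (Set.range P.root) = ⊤ ↔
      ∀ (ι' : Type u) (M' N' : Type v) [AddCommGroup M'] [AddCommGroup N'] [Finite ι']
        [Module.Finite ℤ M'] [Module.Finite ℤ N'] (P' : RootPairing ι' ℤ M' N') (f : RootPairing.Hom P' P),
        Function.Injective f.weightMap → Finite (M ⧸ LinearMap.range f.weightMap) →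
          Function.Bijective f.weightMap := by
  classical
  haveI : Module.IsReflexive ℤ M := isReflexive_left P
  constructor
  · intro had ι' M' N' _ _ _ _ _ P' f hinj _
    refine ⟨hinj, ?_⟩
    rw [← LinearMap.range_eq_top, eq_top_iff, ← had]
    apply Submodule.span_le.mpr
    rintro _ ⟨i, rfl⟩
    refine ⟨P'.root (f.indexEquiv.symm i), ?_⟩
    have := congrFun f.root_weightMap (f.indexEquiv.symm i)
    simp only [Function.comp_apply, Equiv.apply_symm_apply] at this
    exact this
  · intro h
    let Γ : Submodule ℤ M := Submodule.span ℤ (Set.range P.root)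
    let f : RootPairing.Hom (adjCover P) P :=
      { weightMap := Γ.subtype
        coweightMap := Γ.subtype.dualMap ∘ₗ P.toLinearMap.flip
        indexEquiv := Equiv.refl ι
        weight_coweight_transpose := by
          ext n x
          rfl
        root_weightMap := by
          funext i
          rfl
        coroot_coweightMap := by
          funext i
          rfl }
    have hfin : Finite (M ⧸ LinearMap.range f.weightMap) := by
      have e : LinearMap.range f.weightMap = Γ := Submodule.range_subtype Γ
      rw [e]
      exact Submodule.finiteQuotientOfFreeOfRankEq Γ hss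
    have hb := h ι ↥Γ (Module.Dual ℤ ↥Γ) (adjCover P) f Subtype.val_injective hfin
    rw [eq_top_iff]
    intro x _
    obtain ⟨y, rfl⟩ := hb.2 x
    exact y.2

end Groth.Agent.S5501
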