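import Groth.Statements.S5502
import Groth.Agent.Lib.Helper3.RootD7
import Groth.Agent.S5485

set_option autoImplicit false
open RootD

namespace Groth.Agent.S5502

open Groth.Agent.Lib.helper3.RootDLib

/-- If β = Σ_{α ∈ Δ} a_α α along a system of simple roots Δ, then ℓ(β) divides 2 a_α ℓ(α), and 2ℓ(β)
divides it when α^v is indivisible (ℓ the canonical quadratic form). -/
theorem result {ι M N : Type*} [AddCommGroup M] [AddCommGroup N]
    (P : RootPairing ι ℤ M N) [Finite ι] [Fintype ι] (Δ : Set ι) (hΔ : RootD.IsSimpleSys P Δ)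
    (k : ι) (c : ι →₀ ℤ) (hc : ↑c.support ⊆ Δ) (hck : Finsupp.linearCombination ℤ P.root c = P.root k)
    (i : ι) (hi : i ∈ Δ) :
    P.RootForm (P.root k) (P.root k) ∣ 2 * c i * P.RootForm (P.root i) (P.root i) ∧
      (RootD.IsIndiv P.flip i → 2 * P.RootForm (P.root k) (P.root k) ∣ 2 * c i * P.RootForm (P.root i) (P.root i)) := by
  classical
  have : Module.IsReflexive ℤ M := isReflexive_left P
  have : Module.IsReflexive ℤ N := isReflexive_right P
  have hΔv := Groth.Agent.S5485.result P Δ hΔ
  set Δv : Set ι := {j : ι | ∃ i ∈ Δ, (j = i ∧ IsIndiv P.flip i) ∨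
    (2 : ℤ) • P.coroot j = P.coroot i} with hΔv_def
  have hliv : LinearIndepOn ℤ P.flip.root Δ := linearIndepOn_coroot P hΔ
  -- (2)
  have hE : ∀ y ∈ natSpan P.flip Δv, ∃ e : ι →₀ ℤ, e ∈ Finsupp.supported ℤ ℤ Δ ∧
      (2 : ℤ) • y = Finsupp.linearCombination ℤ P.coroot e ∧
      ∀ i', IsIndiv P.flip i' → Even (e i') := by
    intro y hy
    unfold natSpan at hy
    induction hy using AddSubmonoid.closure_induction with
    | mem y hy =>
      obtain ⟨j, ⟨i₁, hi₁, hcase⟩, rfl⟩ := hy
      change ∃ e : ι →₀ ℤ, e ∈ Finsupp.supported ℤ ℤ Δ ∧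
        (2 : ℤ) • P.coroot j = Finsupp.linearCombination ℤ P.coroot e ∧
        ∀ i', IsIndiv P.flip i' → Even (e i')
      rcases hcase with ⟨rfl, hind⟩ | h2
      · refine ⟨Finsupp.single j 2, Finsupp.single_mem_supported ℤ 2 hi₁, ?_, ?_⟩
        · rw [Finsupp.linearCombination_single]
        · intro i' _
          rw [Finsupp.single_apply]
          split_ifs
          · exact even_two
          · exact Even.zero
      · refine ⟨Finsupp.single i₁ 1, Finsupp.single_mem_supported ℤ 1 hi₁, ?_, ?_⟩
        · rw [Finsupp.linearCombination_single, one_smul, h2]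
        · intro i' hind'
          rw [Finsupp.single_apply]
          split_ifs with h
          · subst h
            exact absurd h2 (hind' j)
          · exact Even.zero
    | zero => exact ⟨0, Submodule.zero_mem _, by simp, fun _ _ => by simp⟩
    | add x y _ _ hx hy =>
      obtain ⟨e₁, h₁, h₁', h₁''⟩ := hx
      obtain ⟨e₂, h₂, h₂', h₂''⟩ := hy
      refine ⟨e₁ + e₂, Submodule.add_mem _ h₁ h₂, by rw [smul_add, map_add, h₁', h₂'], ?_⟩
      intro i' hi'
      exact Even.add (h₁'' i' hi') (h₂'' i' hi')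
  obtain ⟨e, he, hek, heven⟩ : ∃ e : ι →₀ ℤ, e ∈ Finsupp.supported ℤ ℤ Δ ∧
      (2 : ℤ) • P.coroot k = Finsupp.linearCombination ℤ P.coroot e ∧
      ∀ i', IsIndiv P.flip i' → Even (e i') := by
    rcases hΔv.mem_or_neg_mem k with hk | hk
    · exact hE _ hk
    · obtain ⟨e, he, hek, heven⟩ := hE _ hk
      refine ⟨-e, Submodule.neg_mem _ he, ?_, fun i' hi' => ?_⟩
      · change (2 : ℤ) • -P.coroot k = _ at hek
        rw [map_neg, ← hek, smul_neg, neg_neg]
      · simpa using (heven i' hi').neg
  -- (3)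
  set c' : ι →₀ ℤ := ∑ j ∈ c.support, Finsupp.single j (P.RootForm (P.root j) (P.root j) * c j)
    with hc'
  have hc'supp : c' ∈ Finsupp.supported ℤ ℤ Δ := by
    rw [hc']
    apply Submodule.sum_mem
    intro j hj
    exact Finsupp.single_mem_supported ℤ _ (hc hj)
  have hc'i : c' i = P.RootForm (P.root i) (P.root i) * c i := by
    rw [hc', Finsupp.finsetSum_apply]
    by_cases his : i ∈ c.support
    · rw [Finset.sum_eq_single i]
      · simp
      · intro j _ hj; rw [Finsupp.single_eq_of_ne hj.symm]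
      · intro h; exact absurd his h
    · have : c i = 0 := by simpa using his
      rw [this, mul_zero]
      apply Finset.sum_eq_zero
      intro j hj
      have hji : i ≠ j := fun h => his (h ▸ hj)
      rw [Finsupp.single_eq_of_ne hji]
  have hc'lc : Finsupp.linearCombination ℤ P.coroot c' =
      (P.RootForm (P.root k) (P.root k)) • P.coroot k := by
    rw [P.rootForm_self_smul_coroot k, ← hck, hc', map_sum, Finsupp.linearCombination_apply,
      Finsupp.sum, map_sum, Finset.smul_sum]
    apply Finset.sum_congr rfl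
    intro j _
    rw [Finsupp.linearCombination_single, map_smul, mul_comm, mul_smul,
      P.rootForm_self_smul_coroot j, smul_comm]
  -- (4)
  have heq : (P.RootForm (P.root k) (P.root k)) • e = (2 : ℤ) • c' := by
    apply finsupp_eq_of_linearCombination_eq P.flip hliv (Submodule.smul_mem _ _ he)
      (Submodule.smul_mem _ _ hc'supp)
    change Finsupp.linearCombination ℤ P.coroot _ = Finsupp.linearCombination ℤ P.coroot _
    rw [map_smul, map_smul, ← hek, hc'lc, smul_comm]
  have h1 := DFunLike.congr_fun heq i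
  simp only [Finsupp.coe_smul, Pi.smul_apply, smul_eq_mul, hc'i] at h1
  refine ⟨⟨e i, by rw [h1]; ring⟩, ?_⟩
  intro hind
  obtain ⟨r, hr⟩ := heven i hind
  refine ⟨r, ?_⟩
  rw [hr] at h1
  linear_combination -h1

end Groth.Agent.S5502
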