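import Groth.Statements.S5504
import Groth.Agent.Lib.Helper3.RootD3

set_option autoImplicit false
open RootPairing
open scoped Pointwise
open RootD

namespace Groth.Agent.S5504

open Groth.Agent.Lib.helper3.RootDLib

/-- Stated for the group generated by the simple reflections (rather than for the abstractly presented
group): if w = s_{α_1} ⋯ s_{α_m} is a word of minimal length in the simple reflections, then w(α_m)
is a negative root. -/
theorem result {ι M N : Type*} [AddCommGroup M] [AddCommGroup N]
    (P : RootPairing ι ℤ M N) [Finite ι] (Δ : Set ι) (hΔ : RootD.IsSimpleSys P Δ)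
    (l : List ι) (hl : ∀ a ∈ l, a ∈ Δ) (hne : l ≠ [])
    (hmin : ∀ l' : List ι, (∀ a ∈ l', a ∈ Δ) →
      (l'.map fun a => Equiv.reflection P a).prod = (l.map fun a => Equiv.reflection P a).prod → l.length ≤ l'.length) :
    -P.root ((l.map fun a => Equiv.reflection P a).prod • l.getLast hne) ∈ RootD.natSpan P Δ := by
  by_contra hcon
  have hpos : (l.map fun a => Equiv.reflection P a).prod • l.getLast hne ∈ posOf P Δ := by
    rcases hΔ.mem_or_neg_mem ((l.map fun a => Equiv.reflection P a).prod • l.getLast hne) with h | h
    · exact h
    · exact absurd h hcon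
  set i := l.getLast hne with hi
  have hl_eq : l = l.dropLast ++ [i] := (List.dropLast_append_getLast hne).symm
  have hiΔ : i ∈ Δ := hl i (List.getLast_mem hne)
  have hL₀ : ∀ a ∈ l.dropLast, a ∈ Δ := fun a ha => hl a (List.mem_of_mem_dropLast ha)
  have hw : (l.map fun a => Equiv.reflection P a).prod =
      prodRefl P l.dropLast * Equiv.reflection P i := by
    change prodRefl P l = _
    conv_lhs => rw [hl_eq]
    rw [prodRefl_append]
    simp
  have hneg : prodRefl P l.dropLast • i ∉ posOf P Δ := by
    intro h
    rw [hw, mul_smul] at hpos
    have e : Equiv.reflection P i • i = P.reflectionPerm i i := rfl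
    rw [e, smul_reflectionPerm_self] at hpos
    exact (isPosSys_posOf P hΔ).disjoint h hpos
  obtain ⟨L', hL', hlen', hprod⟩ := exchange P hΔ i hiΔ l.dropLast hL₀ hneg
  have hw' : (L'.map fun a => Equiv.reflection P a).prod =
      (l.map fun a => Equiv.reflection P a).prod := by
    rw [hw, hprod, mul_assoc, reflection_mul_self, mul_one]
    rfl
  have h1 := hmin L' hL' hw'
  have h2 : l.dropLast.length + 1 = l.length := by
    rw [List.length_dropLast]
    have : 0 < l.length := List.length_pos_of_ne_nil hne
    omega
  omega

end Groth.Agent.S5504
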