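import Groth.Statements.S5507
import Groth.Agent.Lib.Helper3.RootD6

set_option autoImplicit false
open RootD

namespace Groth.Agent.S5507

open Groth.Agent.Lib.helper3.RootDLib

/-- For a system of simple roots Δ there are positive integers m_α (the lengths) such that the matrix
(m_α a_{α,β}) with a_{α,β} = (α^v, β) is symmetric and positive definite. -/
theorem result {ι M N : Type*} [AddCommGroup M] [AddCommGroup N]
    (P : RootPairing ι ℤ M N) [Finite ι] (Δ : Finset ι) (hΔ : RootD.IsSimpleSys P (↑Δ : Set ι)) :
    ∃ m : ↥Δ → ℤ, (∀ a, 0 < m a) ∧
      (Matrix.of fun (a b : ↥Δ) => m a * P.pairing (b : ι) (a : ι)).IsSymm ∧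
      (Matrix.of fun (a b : ↥Δ) => m a * P.pairing (b : ι) (a : ι)).PosDef := by
  classical
  have : Module.IsReflexive ℤ M := isReflexive_left P
  have : Fintype ι := Fintype.ofFinite ι
  have hentry : ∀ a b : ι, P.RootForm (P.root a) (P.root a) * P.pairing b a =
      2 * P.RootForm (P.root b) (P.root a) := by
    intro a b
    have h1 := (P.posRootForm ℤ).toInvariantForm.two_mul_apply_root_root b a
    simp only [RootPairing.RootPositiveForm.toInvariantForm_form] at h1
    change 2 * P.RootForm (P.root b) (P.root a) =
      P.pairing b a * P.RootForm (P.root a) (P.root a) at h1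
    rw [h1, mul_comm]
  have hsymm : ∀ x y : M, P.RootForm x y = P.RootForm y x :=
    fun x y => by
      rw [P.rootForm_apply_apply, P.rootForm_apply_apply]
      exact Finset.sum_congr rfl (fun i _ => mul_comm _ _)
  refine ⟨fun a => P.RootForm (P.root a) (P.root a), fun a => rootForm_root_pos P a, ?_, ?_⟩
  · ext a b
    simp only [Matrix.transpose_apply, Matrix.of_apply]
    rw [hentry, hentry, hsymm]
  · refine ⟨?_, ?_⟩
    · ext a b
      simp only [Matrix.conjTranspose_apply, Matrix.of_apply, star_trivial]
      rw [hentry, hentry, hsymm]
    · intro x hx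
      set v := Finsupp.linearCombination ℤ (fun i : ↥Δ => P.root (i : ι)) x with hv_def
      have hv : v ≠ 0 := by
        intro h
        apply hx
        have hli : LinearIndependent ℤ (fun i : ↥Δ => P.root (i : ι)) := hΔ.linInd
        exact (linearIndependent_iff.mp hli) x h
      have hvspan : v ∈ P.rootSpan ℤ := by
        change _ ∈ Submodule.span ℤ (Set.range P.root)
        rw [hv_def, Finsupp.linearCombination_apply]
        apply Submodule.sum_mem
        intro i _
        exact Submodule.smul_mem _ _ (Submodule.subset_span (Set.mem_range_self _))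
      have hpos := P.rootForm_pos_of_ne_zero hvspan hv
      have hsum : (x.sum fun i xi => x.sum fun j xj =>
          star xi * (Matrix.of fun (a b : ↥Δ) =>
            P.RootForm (P.root a) (P.root a) * P.pairing (b : ι) (a : ι)) i j * xj) =
          2 * P.RootForm v v := by
        simp only [Matrix.of_apply, star_trivial, hentry]
        rw [hv_def, Finsupp.linearCombination_apply]
        simp only [Finsupp.sum, map_sum, LinearMap.sum_apply, map_smul, LinearMap.smul_apply,
          smul_eq_mul, Finset.mul_sum]
        apply Finset.sum_congr rfl
        intro i _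
        apply Finset.sum_congr rfl
        intro j _
        rw [hsymm (P.root (j : ι)) (P.root (i : ι))]
        ring
      rw [hsum]
      omega

end Groth.Agent.S5507
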