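import Groth.Statements.S5582
import Groth.Agent.Lib.Helper14.ToposFP5

set_option autoImplicit false
open CategoryTheory CategoryTheory.Limits Opposite
universe u
open ToposFin

namespace Groth.Agent.S5582

/-- Equivalence of (i), (ii bis) and (iii), for the topos of sheaves of sets on a small site admitting a
generating family of coherent objects: the coequalizer of every pair of arrows between coherent
objects is coherent if and only if every object X for which Hom(X, -) commutes with small filtered
colimits is coherent; and every object is a small filtered colimit of coherent objects if and only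
if that same condition holds. -/
theorem result {C : Type u} [SmallCategory C]
    {J : GrothendieckTopology C} (hE : ToposFin.HasCoherentGenerators J) :
    ((∀ (X₀ X₁ : ToposFin.Sh J) (a b : X₁ ⟶ X₀), ToposFin.IsCoherent X₀ → ToposFin.IsCoherent X₁ →
        ToposFin.IsCoherent (coequalizer a b)) ↔
      (∀ X : ToposFin.Sh J, ToposFin.IsFP X → ToposFin.IsCoherent X)) ∧
    ((∀ X : ToposFin.Sh J, ∃ (I : Type u) (_ : SmallCategory I) (_ : IsFiltered I) (D : I ⥤ ToposFin.Sh J),
        (∀ i, ToposFin.IsCoherent (D.obj i)) ∧ Nonempty (X ≅ colimit D)) ↔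
      (∀ X : ToposFin.Sh J, ToposFin.IsFP X → ToposFin.IsCoherent X)) := by
  have hretr : (∀ (X₀ X₁ : ToposFin.Sh J) (a b : X₁ ⟶ X₀), ToposFin.IsCoherent X₀ →
      ToposFin.IsCoherent X₁ → ToposFin.IsCoherent (coequalizer a b)) →
      ∀ X : ToposFin.Sh J, ToposFin.IsFP X → ToposFin.IsCoherent X := by
    intro h X hX
    obtain ⟨X₀, X₁, a, b, i, p, h0, h1, hip⟩ :=
      Groth.Agent.Lib.Helper14.Topos.exists_retract_of_isFP hE hX
    exact Groth.Agent.Lib.Helper14.Topos.isCoherent_of_retract (h X₀ X₁ a b h0 h1) i p hip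
  refine ⟨⟨hretr, ?_⟩, ⟨?_, ?_⟩⟩
  · intro h X₀ X₁ a b h0 h1
    exact h _ (Groth.Agent.Lib.Helper14.Topos.isFP_coequalizer a b
      (Groth.Agent.Lib.Helper14.Topos.isFP_of_isCoherent hE h1)
      (Groth.Agent.Lib.Helper14.Topos.isFP_of_isCoherent hE h0))
  · intro h X hX
    obtain ⟨I, hI, hIf, D, hD, ⟨e⟩⟩ := h X
    obtain ⟨i, σ, hσ⟩ := Groth.Agent.Lib.Helper14.Topos.IsFP.exists_factor hX
      (colimit.isColimit D) e.hom
    refine Groth.Agent.Lib.Helper14.Topos.isCoherent_of_retract (hD i) σ
      (colimit.ι D i ≫ e.inv) ?_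
    rw [← Category.assoc]
    have : σ ≫ colimit.ι D i = e.hom := hσ
    rw [this, e.hom_inv_id]
  · intro h X
    obtain ⟨I, hI, hIf, D, hD, he⟩ :=
      Groth.Agent.Lib.Helper14.Topos.exists_filtered_colimit_isFP hE X
    exact ⟨I, hI, hIf, D, fun i => h _ (hD i), he⟩

end Groth.Agent.S5582
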