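import Groth.Statements.S5585
import Groth.Agent.Lib.Helper14.Topos5

set_option autoImplicit false
open CategoryTheory CategoryTheory.Limits Opposite
universe u
open ToposFin

namespace Groth.Agent.S5585

/-- For an algebraic topos of sheaves of sets on a small site and a morphism f : X -> Y: if Y is
quasi-separated (resp. coherent), then X is quasi-separated (resp. coherent) if and only if f is a
quasi-separated (resp. coherent) morphism. -/
theorem result {C : Type u} [SmallCategory C] {J : GrothendieckTopology C}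
    (hE : ToposFin.IsAlgebraic J) {X Y : ToposFin.Sh J} (f : X ⟶ Y) :
    (ToposFin.IsQS Y → (ToposFin.IsQS X ↔ ToposFin.IsQSHom f)) ∧
    (ToposFin.IsCoherent Y → (ToposFin.IsCoherent X ↔ ToposFin.IsCohHom f)) := by
  obtain ⟨S, hqc, hgen, hpb, heq⟩ := hE
  have hqs : ∀ {X Y : ToposFin.Sh J} (f : X ⟶ Y), ToposFin.IsQS X → ToposFin.IsQSHom f :=
    fun f hX => Groth.Agent.Lib.Helper14.Topos.isQSHom_of_isQS_source hqc hgen heq f hX
  constructor
  · intro hY
    exact ⟨fun hX => hqs f hX,
      fun hf => Groth.Agent.Lib.helper23.QCHom.isQS_of_isQSHom f hf hY⟩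
  · intro hY
    constructor
    · intro hX
      exact ⟨fun Y' t hY' => hY.2 _ _ f t hX.1 hY', hqs f hX.2⟩
    · intro hf
      exact ⟨Groth.Agent.Lib.helper23.QCHom.isQC_of_isPullback hf.1 IsPullback.of_id_fst hY.1,
        Groth.Agent.Lib.helper23.QCHom.isQS_of_isQSHom f hf.2 hY.2⟩

end Groth.Agent.S5585
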