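import Groth.Statements.S5586
import Groth.Agent.Lib.Helper14.Topos5

set_option autoImplicit false
open CategoryTheory CategoryTheory.Limits Opposite
universe u
open ToposFin

namespace Groth.Agent.S5586

/-- Quasi-separated and coherent cases: for an algebraic topos of sheaves of sets on a small site: let f
: X -> Y be a morphism and (Y_i -> Y) a jointly epimorphic family. If the Y_i are quasi-separated
(resp. coherent), then f is quasi-separated (resp. coherent) if and only if every X x_Y Y_i is a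
quasi-separated (resp. coherent) object. -/
theorem result {C : Type u} [SmallCategory C]
    {J : GrothendieckTopology C} (hE : ToposFin.IsAlgebraic J) {X Y : ToposFin.Sh J} (f : X ⟶ Y)
    {ι : Type u} (Yi : ι → ToposFin.Sh J) (g : ∀ i, Yi i ⟶ Y)
    (hg : ∀ (Z : ToposFin.Sh J) (a b : Y ⟶ Z), (∀ i, g i ≫ a = g i ≫ b) → a = b) :
    ((∀ i, ToposFin.IsQS (Yi i)) → (ToposFin.IsQSHom f ↔ ∀ i, ToposFin.IsQS (pullback f (g i)))) ∧
    ((∀ i, ToposFin.IsCoherent (Yi i)) →
      (ToposFin.IsCohHom f ↔ ∀ i, ToposFin.IsCoherent (pullback f (g i)))) := by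
  obtain ⟨S, hqc, hgen, hpb, heq⟩ := hE
  have hE' := Groth.Agent.Lib.Helper14.Topos.hasQCGenerators_of_isGenerating hqc hgen
  have hg' : Groth.Agent.Lib.Helper14.Topos.JSurj g :=
    Groth.Agent.Lib.Helper14.Topos.jsurj_iff_jepi.2 hg
  have hbc : ToposFin.IsQSHom f → ∀ i, ToposFin.IsQSHom (pullback.snd f (g i)) := fun hf i =>
    Groth.Agent.Lib.Helper14.Topos.isQSHom_of_isPullback (IsPullback.of_hasPullback f (g i)) hf
  have hloc : (∀ i, ToposFin.IsQS (pullback f (g i))) → ToposFin.IsQSHom f := fun h =>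
    Groth.Agent.Lib.Helper14.Topos.isQSHom_of_jsurj_target hE' f Yi g hg' (fun i =>
      Groth.Agent.Lib.Helper14.Topos.isQSHom_of_isQS_source hqc hgen heq _ (h i))
  constructor
  · intro hY
    exact ⟨fun hf i => Groth.Agent.Lib.helper23.QCHom.isQS_of_isQSHom _ (hbc hf i) (hY i), hloc⟩
  · intro hY
    constructor
    · intro hf i
      exact ⟨hf.1 _ (g i) (hY i).1,
        Groth.Agent.Lib.helper23.QCHom.isQS_of_isQSHom _ (hbc hf.2 i) (hY i).2⟩
    · intro h
      exact ⟨Groth.Agent.Lib.Helper14.Topos.isQCHom_of_cover_pullbacks_qc hE' f Yi g hg'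
        (fun i => (hY i).2) (fun i => (h i).1), hloc (fun i => (h i).2)⟩

end Groth.Agent.S5586
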