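import Groth.Statements.S5594
import Groth.Agent.Lib.Helper1.StrictLocSpec

set_option autoImplicit false
open CategoryTheory CategoryTheory.Limits AlgebraicGeometry Opposite
universe u
open EtDesc

namespace Groth.Agent.S5594

open Groth.Agent.H1.StrictLocSpec IsLocalRing

theorem main (X : Scheme.{u}) (x x' : X)
    (R : Type u) [CommRing R] [IsLocalRing R] [Algebra (X.presheaf.stalk x) R]
    [IsLocalHom (algebraMap (X.presheaf.stalk x) R)] [Hensel.IsStrictHenselization (X.presheaf.stalk x) R]
    (R' : Type u) [CommRing R'] [IsLocalRing R'] [Algebra (X.presheaf.stalk x') R']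
    [IsLocalHom (algebraMap (X.presheaf.stalk x') R')] [Hensel.IsStrictHenselization (X.presheaf.stalk x') R'] :
    (∀ g₁ g₂ : Spec (CommRingCat.of R') ⟶ Spec (CommRingCat.of R),
      g₁ ≫ Hens2.specOf X x R = Hens2.specOf X x' R' → g₂ ≫ Hens2.specOf X x R = Hens2.specOf X x' R' →
      Spec.map (CommRingCat.ofHom (IsLocalRing.residue R')) ≫ g₁ =
        Spec.map (CommRingCat.ofHom (IsLocalRing.residue R')) ≫ g₂ → g₁ = g₂) ∧
    (∀ h : Spec (CommRingCat.of (IsLocalRing.ResidueField R')) ⟶ Spec (CommRingCat.of R),
      h ≫ Hens2.specOf X x R = Hens2.geomPt X x' R' →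
      ∃ g : Spec (CommRingCat.of R') ⟶ Spec (CommRingCat.of R),
        g ≫ Hens2.specOf X x R = Hens2.specOf X x' R' ∧
        Spec.map (CommRingCat.ofHom (IsLocalRing.residue R')) ≫ g = h) := by
  haveI : HenselianLocalRing R' := Hensel.IsStrictHenselization.henselian (X.presheaf.stalk x')
  have hInd : EtPBC.IsIndEtale (X.presheaf.stalk x) R := Groth.Agent.S12237.result _ R
  have hcl : Spec.map (CommRingCat.ofHom (algebraMap (X.presheaf.stalk x') R'))
      (closedPoint R') = closedPoint (X.presheaf.stalk x') :=
    IsLocalRing.comap_closedPoint _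
  constructor
  · intro g₁ g₂ h₁ h₂ hres
    obtain ⟨h, φ₁, rfl⟩ := exists_algHom_of_over X x x' R g₁ h₁ (closedPoint R') hcl
    obtain ⟨h', φ₂, rfl⟩ := exists_algHom_of_over X x x' R g₂ h₂ (closedPoint R') hcl
    letI := algOfSpec X x x' R' h
    let v : R' →ₐ[X.presheaf.stalk x] ResidueField R' := IsScalarTower.toAlgHom _ _ _
    have hv : Function.Surjective v := IsLocalRing.residue_surjective
    have hker : RingHom.ker v ≤ maximalIdeal R' := by
      intro z hz
      exact (IsLocalRing.residue_eq_zero_iff z).1 hz
    have huniq := Groth.Agent.Lib.Helper24.IndEtaleProps.existsUnique_algHom_of_isIndEtale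
      R hInd R' (ResidueField R') v hv hker (v.comp φ₁)
    have h12 : v.comp φ₂ = v.comp φ₁ := by
      rw [← Spec.map_comp, ← Spec.map_comp] at hres
      have := Spec.map_injective hres
      ext a
      exact (ConcreteCategory.congr_hom this a).symm
    have := huniq.unique rfl h12
    rw [this]
  · intro h hh
    have halg : algebraMap (X.presheaf.stalk x') (ResidueField R') =
        (residue R').comp (algebraMap (X.presheaf.stalk x') R') :=
      IsScalarTower.algebraMap_eq _ _ _
    have hh' : h ≫ Hens2.specOf X x R = Hens2.specOf X x' (ResidueField R') := by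
      rw [hh]
      show Spec.map (CommRingCat.ofHom (residue R')) ≫
        Spec.map (CommRingCat.ofHom (algebraMap (X.presheaf.stalk x') R')) ≫ X.fromSpecStalk x' =
        Spec.map (CommRingCat.ofHom (algebraMap (X.presheaf.stalk x') (ResidueField R'))) ≫
          X.fromSpecStalk x'
      rw [← Category.assoc, ← Spec.map_comp, halg]
      rfl
    have hcl' : Spec.map (CommRingCat.ofHom (algebraMap (X.presheaf.stalk x') (ResidueField R')))
        (closedPoint (ResidueField R')) = closedPoint (X.presheaf.stalk x') := by
      haveI : IsLocalHom (algebraMap (X.presheaf.stalk x') (ResidueField R')) := by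
        rw [halg]
        exact RingHom.isLocalHom_comp _ _
      exact IsLocalRing.comap_closedPoint _
    obtain ⟨hs, φ, rfl⟩ := exists_algHom_of_over X x x' R h hh' (closedPoint _) hcl'
    letI i1 := algOfSpec X x x' R' hs
    letI i2 := algOfSpec X x x' (ResidueField R') hs
    let v : R' →ₐ[X.presheaf.stalk x] ResidueField R' :=
      { residue R' with
        commutes' := fun a => by
          show residue R' (algebraMap (X.presheaf.stalk x') R' _) =
            algebraMap (X.presheaf.stalk x') (ResidueField R') _
          rw [halg]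
          rfl }
    have hv : Function.Surjective v := IsLocalRing.residue_surjective
    have hker : RingHom.ker v ≤ maximalIdeal R' := by
      intro z hz
      exact (IsLocalRing.residue_eq_zero_iff z).1 hz
    obtain ⟨g, hg, -⟩ := Groth.Agent.Lib.Helper24.IndEtaleProps.existsUnique_algHom_of_isIndEtale
      R hInd R' (ResidueField R') v hv hker φ
    refine ⟨Spec.map (CommRingCat.ofHom g.toRingHom), ?_, ?_⟩
    · show Spec.map (CommRingCat.ofHom g.toRingHom) ≫
        Spec.map (CommRingCat.ofHom (algebraMap (X.presheaf.stalk x) R)) ≫ X.fromSpecStalk x =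
        Spec.map (CommRingCat.ofHom (algebraMap (X.presheaf.stalk x') R')) ≫ X.fromSpecStalk x'
      rw [← Category.assoc, ← Spec.map_comp, ← Scheme.SpecMap_stalkSpecializes_fromSpecStalk hs,
        ← Category.assoc, ← Spec.map_comp]
      congr 2
      ext a
      exact g.commutes a
    · rw [← Spec.map_comp]
      congr 1
      ext a
      exact congrArg (fun k : R →ₐ[X.presheaf.stalk x] ResidueField R' => k a) hg

/-- Let X be a scheme, x, x' points of X with strict localisations Spec R -> X and Spec R' -> X, and ξ'
: Spec κ(R') -> Spec R' the closed point, a geometric point of X over x'. Then restricting along ξ'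
is a bijection from the X-morphisms Spec R' -> Spec R (specialization arrows) onto the X-morphisms
from the geometric point Spec κ(R') to Spec R: injectivity and surjectivity are stated separately. -/
theorem result (X : Scheme.{u}) (x x' : X)
    (R : Type u) [CommRing R] [IsLocalRing R] [Algebra (X.presheaf.stalk x) R]
    [IsLocalHom (algebraMap (X.presheaf.stalk x) R)] [Hensel.IsStrictHenselization (X.presheaf.stalk x) R]
    (R' : Type u) [CommRing R'] [IsLocalRing R'] [Algebra (X.presheaf.stalk x') R']
    [IsLocalHom (algebraMap (X.presheaf.stalk x') R')] [Hensel.IsStrictHenselization (X.presheaf.stalk x') R'] :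
    (∀ g₁ g₂ : Spec (CommRingCat.of R') ⟶ Spec (CommRingCat.of R),
      g₁ ≫ Hens2.specOf X x R = Hens2.specOf X x' R' → g₂ ≫ Hens2.specOf X x R = Hens2.specOf X x' R' →
      Spec.map (CommRingCat.ofHom (IsLocalRing.residue R')) ≫ g₁ =
        Spec.map (CommRingCat.ofHom (IsLocalRing.residue R')) ≫ g₂ → g₁ = g₂) ∧
    (∀ h : Spec (CommRingCat.of (IsLocalRing.ResidueField R')) ⟶ Spec (CommRingCat.of R),
      h ≫ Hens2.specOf X x R = Hens2.geomPt X x' R' →
      ∃ g : Spec (CommRingCat.of R') ⟶ Spec (CommRingCat.of R),
        g ≫ Hens2.specOf X x R = Hens2.specOf X x' R' ∧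
        Spec.map (CommRingCat.ofHom (IsLocalRing.residue R')) ≫ g = h) := by
  exact main X x x' R R'

end Groth.Agent.S5594
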