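import Groth.Statements.S5593
import Groth.Agent.Lib.Helper1.StrictLocSpec2
import Groth.Agent.S5594

set_option autoImplicit false
open CategoryTheory CategoryTheory.Limits AlgebraicGeometry Opposite
universe u
open EtDesc

namespace Groth.Agent.S5593

open Groth.Agent.H1.StrictLocSpec IsLocalRing

theorem main (X : Scheme.{u}) (x x' : X)
    (R : Type u) [CommRing R] [IsLocalRing R] [Algebra (X.presheaf.stalk x) R]
    [IsLocalHom (algebraMap (X.presheaf.stalk x) R)] [Hensel.IsStrictHenselization (X.presheaf.stalk x) R]
    (R' : Type u) [CommRing R'] [IsLocalRing R'] [Algebra (X.presheaf.stalk x') R']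
    [IsLocalHom (algebraMap (X.presheaf.stalk x') R')] [Hensel.IsStrictHenselization (X.presheaf.stalk x') R'] :
    (∃ g : Spec (CommRingCat.of R') ⟶ Spec (CommRingCat.of R), g ≫ Hens2.specOf X x R = Hens2.specOf X x' R') ↔
      x' ⤳ x := by
  have hcl : Spec.map (CommRingCat.ofHom (algebraMap (X.presheaf.stalk x') R'))
      (closedPoint R') = closedPoint (X.presheaf.stalk x') :=
    IsLocalRing.comap_closedPoint _
  constructor
  · rintro ⟨g, hg⟩
    obtain ⟨h, -⟩ := exists_algHom_of_over X x x' R g hg (closedPoint R') hcl
    exact h
  · intro hs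
    have hInd : EtPBC.IsIndEtale (X.presheaf.stalk x) R := Groth.Agent.S12237.result _ R
    haveI : Module.FaithfullyFlat (X.presheaf.stalk x) R :=
      Groth.Agent.Lib.Helper24.StrictHens.faithfullyFlat_of_isStrictHenselization _ R
    haveI : IsSepClosed (ResidueField R') :=
      (Hensel.IsStrictHenselization.isSepClosure (R := X.presheaf.stalk x') (S := R')).sep_closed
    letI i2 := algOfSpec X x x' (ResidueField R') hs
    obtain ⟨u⟩ := exists_algHom_of_sepClosed (X.presheaf.stalk x) R (ResidueField R') hInd
    have halg : algebraMap (X.presheaf.stalk x') (ResidueField R') =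
        (residue R').comp (algebraMap (X.presheaf.stalk x') R') :=
      IsScalarTower.algebraMap_eq _ _ _
    have hu : Spec.map (CommRingCat.ofHom u.toRingHom) ≫ Hens2.specOf X x R =
        Hens2.geomPt X x' R' := by
      show Spec.map (CommRingCat.ofHom u.toRingHom) ≫
        Spec.map (CommRingCat.ofHom (algebraMap (X.presheaf.stalk x) R)) ≫ X.fromSpecStalk x =
        Spec.map (CommRingCat.ofHom (residue R')) ≫
        Spec.map (CommRingCat.ofHom (algebraMap (X.presheaf.stalk x') R')) ≫ X.fromSpecStalk x'
      rw [← Category.assoc, ← Spec.map_comp, ← Category.assoc (Spec.map _) (Spec.map _),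
        ← Spec.map_comp, ← Scheme.SpecMap_stalkSpecializes_fromSpecStalk hs, ← Category.assoc,
        ← Spec.map_comp]
      congr 2
      ext a
      refine (u.commutes a).trans ?_
      show algebraMap (X.presheaf.stalk x') (ResidueField R') _ = _
      rw [halg]
      rfl
    obtain ⟨g, hg, -⟩ := (Groth.Agent.S5594.main X x x' R R').2 _ hu
    exact ⟨g, hg⟩

/-- Let X be a scheme, x, x' points of X with strict localisations Spec R -> X and Spec R' -> X (R, R'
strict henselisations of the local rings at x and x'). There is an X-morphism Spec R' -> Spec R,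
i.e. the geometric point over x is a specialization of the one over x', if and only if x lies in the
closure of x'. -/
theorem result (X : Scheme.{u}) (x x' : X)
    (R : Type u) [CommRing R] [IsLocalRing R] [Algebra (X.presheaf.stalk x) R]
    [IsLocalHom (algebraMap (X.presheaf.stalk x) R)] [Hensel.IsStrictHenselization (X.presheaf.stalk x) R]
    (R' : Type u) [CommRing R'] [IsLocalRing R'] [Algebra (X.presheaf.stalk x') R']
    [IsLocalHom (algebraMap (X.presheaf.stalk x') R')] [Hensel.IsStrictHenselization (X.presheaf.stalk x') R'] :
    (∃ g : Spec (CommRingCat.of R') ⟶ Spec (CommRingCat.of R), g ≫ Hens2.specOf X x R = Hens2.specOf X x' R') ↔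
      x' ⤳ x := by
  exact main X x x' R R'

end Groth.Agent.S5593
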