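import Groth.Statements.S5596
import Groth.Agent.Lib.Helper1.EtStalk

set_option autoImplicit false
open CategoryTheory CategoryTheory.Limits AlgebraicGeometry Opposite
universe u
open EtDesc

namespace Groth.Agent.S5596

open Groth.Agent.H1.EtStalk GrothendieckTopology

instance pfcT : PreservesFilteredColimitsOfSize.{u, u} (forget (Type (u + 1))) := by
  change PreservesFilteredColimitsOfSize.{u, u} (𝟭 (Type (u + 1)))
  infer_instance

noncomputable instance ab5T : AB5OfSize.{u, u} (Type (u + 1)) :=
  AB5OfSize_of_univLE.{u, u, u + 1, u + 1} (Type (u + 1))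

theorem main {X : Scheme.{u}} {F G : EtDesc.Sh X} (v : F ⟶ G) :
    (Mono v ↔ ∀ (Ω : Type u) [Field Ω] [IsSepClosed Ω] (ξ : Spec (CommRingCat.of Ω) ⟶ X),
      Function.Injective (((Scheme.pointSmallEtale ξ).sheafFiber (A := Type (u + 1))).map v)) ∧
    (Epi v ↔ ∀ (Ω : Type u) [Field Ω] [IsSepClosed Ω] (ξ : Spec (CommRingCat.of Ω) ⟶ X),
      Function.Surjective (((Scheme.pointSmallEtale ξ).sheafFiber (A := Type (u + 1))).map v)) := by
  constructor
  · constructor
    · intro hv Ω _ _ ξ
      have : Mono (((Scheme.pointSmallEtale ξ).sheafFiber (A := Type (u + 1))).map v) :=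
        inferInstance
      exact (mono_iff_injective _).mp this
    · intro h
      have : Presheaf.IsLocallyInjective X.smallEtaleTopology v.hom := by
        refine isLocallyInjective_of_fiber (sieveCrit_stdPts X) v.hom ?_
        rintro ⟨Φ, ⟨s⟩⟩
        exact h _ (geomPt X s)
      exact Sheaf.mono_of_isLocallyInjective v
  · constructor
    · intro hv Ω _ _ ξ
      have : Epi (((Scheme.pointSmallEtale ξ).sheafFiber (A := Type (u + 1))).map v) :=
        inferInstance
      exact (epi_iff_surjective _).mp this
    · intro h
      have : Presheaf.IsLocallySurjective X.smallEtaleTopology v.hom := by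
        refine isLocallySurjective_of_fiber (sieveCrit_stdPts X) v.hom ?_
        rintro ⟨Φ, ⟨s⟩⟩
        exact h _ (geomPt X s)
      exact (Sheaf.isLocallySurjective_iff_epi' (φ := v)).mp this

/-- A morphism v : F -> G of etale sheaves of sets on a scheme X is a monomorphism (resp. an
epimorphism) if and only if for every geometric point ξ of X (a morphism from the spectrum of a
separably closed field) the map of stalks F_ξ -> G_ξ is injective (resp. surjective). -/
theorem result {X : Scheme.{u}} {F G : EtDesc.Sh X} (v : F ⟶ G) :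
    (Mono v ↔ ∀ (Ω : Type u) [Field Ω] [IsSepClosed Ω] (ξ : Spec (CommRingCat.of Ω) ⟶ X),
      Function.Injective (((Scheme.pointSmallEtale ξ).sheafFiber (A := Type (u + 1))).map v)) ∧
    (Epi v ↔ ∀ (Ω : Type u) [Field Ω] [IsSepClosed Ω] (ξ : Spec (CommRingCat.of Ω) ⟶ X),
      Function.Surjective (((Scheme.pointSmallEtale ξ).sheafFiber (A := Type (u + 1))).map v)) := by
  exact main v

end Groth.Agent.S5596
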