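import Groth.Statements.S5609
import Mathlib
-- import your own Groth.Agent.* helpers here

set_option autoImplicit false
universe w v u
open CategoryTheory CategoryTheory.Limits
open PCoh

namespace Groth.Agent.S5609

open CategoryTheory.Pretriangulated in
/-- Punctual site: stability of perfect complexes under cones: let C be an abelian category and C₀ a
strictly full additive subcategory which is liftable (every epimorphism onto an object of C₀ splits)
and stable under kernels of epimorphisms. If E ⟶ F ⟶ G ⟶ E⟦1⟧ is a distinguished triangle of D(C)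
with E and F perfect relative to C₀ (isomorphic to bounded complexes with terms in C₀), then G is
perfect relative to C₀. -/
theorem result {C : Type u} [Category.{v} C] [Abelian C] [HasDerivedCategory.{w} C]
    (P : ObjectProperty C) [P.IsClosedUnderIsomorphisms] [P.ContainsZero] (hsum : ∀ X Y : C, P X → P Y → P (X ⨯ Y))
    (hlift : ∀ (E F : C) (u : E ⟶ F), Epi u → P F → IsSplitEpi u)
    (hst : ∀ (E F : C) (u : E ⟶ F), Epi u → P E → P F → P (kernel u))
    (T : Triangle (DerivedCategory C)) (hT : T ∈ distinguishedTriangles)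
    (h₁ : (∃ (E : CochainComplex C ℤ) (a b : ℤ), (∀ i : ℤ, i < a ∨ b < i → IsZero (E.X i)) ∧ (∀ i : ℤ, P (E.X i)) ∧ Nonempty (DerivedCategory.Q.obj E ≅ T.obj₁)))
    (h₂ : (∃ (E : CochainComplex C ℤ) (a b : ℤ), (∀ i : ℤ, i < a ∨ b < i → IsZero (E.X i)) ∧ (∀ i : ℤ, P (E.X i)) ∧ Nonempty (DerivedCategory.Q.obj E ≅ T.obj₂))) :
    (∃ (E : CochainComplex C ℤ) (a b : ℤ), (∀ i : ℤ, i < a ∨ b < i → IsZero (E.X i)) ∧ (∀ i : ℤ, P (E.X i)) ∧ Nonempty (DerivedCategory.Q.obj E ≅ T.obj₃)) := by
  obtain ⟨E₁, a₁, b₁, hz₁, hP₁, ⟨e₁⟩⟩ := h₁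
  obtain ⟨E₂, a₂, b₂, hz₂, hP₂, ⟨e₂⟩⟩ := h₂
  -- objects of `P` are projective
  have hproj : ∀ F : C, P F → Projective F := by
    intro F hF
    refine ⟨fun {A B} f p hp => ?_⟩
    haveI := hp
    -- pull back `p` along `f`
    haveI : Epi (pullback.snd p f) := inferInstance
    haveI := hlift _ _ (pullback.snd p f) inferInstance hF
    refine ⟨section_ (pullback.snd p f) ≫ pullback.fst p f, ?_⟩
    rw [Category.assoc, pullback.condition, ← Category.assoc, IsSplitEpi.id, Category.id_comp]
  haveI : E₁.IsStrictlyLE b₁ :=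
    (CochainComplex.isStrictlyLE_iff _ _).2 (fun i hi => hz₁ i (Or.inr hi))
  haveI : ∀ n, Projective (E₁.X n) := fun n => hproj _ (hP₁ n)
  haveI : E₁.IsKProjective := CochainComplex.isKProjective_of_projective E₁ b₁
  obtain ⟨φ, hφ⟩ := (CochainComplex.IsKProjective.Qh_map_bijective E₁
    ((HomotopyCategory.quotient _ _).obj E₂)).2 (e₁.hom ≫ T.mor₁ ≫ e₂.inv)
  obtain ⟨f, rfl⟩ := (HomotopyCategory.quotient _ _).map_surjective φ
  have hf : DerivedCategory.Q.map f = e₁.hom ≫ T.mor₁ ≫ e₂.inv := hφ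
  have hT₂ := DerivedCategory.mappingCone_triangle_distinguished f
  have iso := Pretriangulated.isoTriangleOfIso₁₂ _ _ hT₂ hT e₁ e₂ (by
    show DerivedCategory.Q.map f ≫ e₂.hom = e₁.hom ≫ T.mor₁
    rw [hf, Category.assoc, Category.assoc, Iso.inv_hom_id, Category.comp_id])
  refine ⟨CochainComplex.mappingCone f, min (a₁ - 1) a₂, max (b₁ - 1) b₂, ?_, ?_,
    ⟨Pretriangulated.Triangle.π₃.mapIso iso⟩⟩
  · intro i hi
    refine HomologicalComplex.homotopyCofiber.isZero_X f i ?_ ?_
    · refine hz₂ i ?_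
      rcases hi with hi | hi
      · exact Or.inl (lt_of_lt_of_le hi (min_le_right _ _))
      · exact Or.inr (lt_of_le_of_lt (le_max_right _ _) hi)
    · intro j hj
      simp only [ComplexShape.up_Rel] at hj
      refine hz₁ j ?_
      rcases hi with hi | hi
      · exact Or.inl (by have := min_le_left (a₁ - 1) a₂; omega)
      · exact Or.inr (by have := le_max_left (b₁ - 1) b₂; omega)
  · intro i
    have e := HomologicalComplex.homotopyCofiber.XIsoBiprod f i (i + 1) (by simp)
    exact (P.prop_iff_of_iso (e ≪≫ biprod.isoProd _ _)).2 (hsum _ _ (hP₁ (i + 1)) (hP₂ i))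

end Groth.Agent.S5609
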