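import Groth.Statements.S5610
import Mathlib
-- import your own Groth.Agent.* helpers here

set_option autoImplicit false
universe w v u
open CategoryTheory CategoryTheory.Limits
open PCoh

namespace Groth.Agent.S5610


theorem aux {C : Type u} [Category.{v} C] [Abelian C] [HasDerivedCategory.{w} C]
    (P : ObjectProperty C) [P.IsClosedUnderIsomorphisms] [P.ContainsZero]
    (hst : ∀ (E F : C) (u : E ⟶ F), Epi u → P E → P F → P (kernel u))
    (a b : ℤ) (hab : a ≤ b) (k : ℕ) :
    ∀ (F : CochainComplex C ℤ) (c : ℤ), c = b + k → (∀ i : ℤ, P (F.X i)) →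
      (∀ i : ℤ, i < a ∨ c < i → IsZero (F.X i)) → (∀ i : ℤ, b < i → IsZero (F.homology i)) →
      ∃ F' : CochainComplex C ℤ, (∀ i : ℤ, P (F'.X i)) ∧ (∀ i : ℤ, i < a ∨ b < i → IsZero (F'.X i)) ∧
        Nonempty (DerivedCategory.Q.obj F' ≅ DerivedCategory.Q.obj F) := by
  induction k with
  | zero =>
    intro F c hc hP hvan _
    refine ⟨F, hP, ?_, ⟨Iso.refl _⟩⟩
    intro i hi
    exact hvan i (by rcases hi with hi | hi; exacts [Or.inl hi, Or.inr (by omega)])
  | succ k ih =>
    intro F c hc hP hvan hcoh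
    -- the top differential is an epimorphism
    have hz1 : IsZero (F.X (c + 1)) := hvan (c + 1) (Or.inr (by omega))
    have hex : (F.sc' (c - 1) c (c + 1)).Exact :=
      (F.exactAt_iff' (c - 1) c (c + 1) (by simp) (by simp)).1
        ((F.exactAt_iff_isZero_homology c).2 (hcoh c (by omega)))
    have hepi : Epi (F.d (c - 1) c) :=
      ((F.sc' (c - 1) c (c + 1)).exact_iff_epi (hz1.eq_of_tgt _ _)).1 hex
    have hker : P (kernel (F.d (c - 1) c)) := hst _ _ _ hepi (hP _) (hP _)
    have hcyc : P (F.cycles (c - 1)) := by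
      have e : F.cycles (c - 1) ≅ kernel (F.d (c - 1) c) :=
        IsLimit.conePointUniqueUpToIso (F.cyclesIsKernel (c - 1) c (by simp)) (limit.isLimit _)
      exact (P.prop_iff_of_iso e).2 hker
    haveI : F.IsLE (c - 1) := (CochainComplex.isLE_iff F (c - 1)).2 (fun i hi =>
      (F.exactAt_iff_isZero_homology i).2 (hcoh i (by omega)))
    haveI : QuasiIso (CochainComplex.ιTruncLE F (c - 1)) :=
      (CochainComplex.quasiIso_ιTruncLE_iff F (c - 1)).2 inferInstance
    let F₁ := CochainComplex.truncLE F (c - 1)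
    have hP₁ : ∀ i : ℤ, P (F₁.X i) := by
      intro i
      rcases lt_trichotomy i (c - 1) with h | h | h
      · exact (P.prop_iff_of_iso (CochainComplex.truncLEXIso F (c - 1) i h)).2 (hP i)
      · subst h
        exact (P.prop_iff_of_iso (CochainComplex.truncLEXIsoCycles F (c - 1))).2 hcyc
      · exact P.prop_of_isZero (CochainComplex.isZero_of_isStrictlyLE F₁ (c - 1) i h)
    have hvan₁ : ∀ i : ℤ, i < a ∨ c - 1 < i → IsZero (F₁.X i) := by
      intro i hi
      rcases hi with hi | hi
      · exact (hvan i (Or.inl hi)).of_iso (CochainComplex.truncLEXIso F (c - 1) i (by omega))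
      · exact CochainComplex.isZero_of_isStrictlyLE F₁ (c - 1) i hi
    have hcoh₁ : ∀ i : ℤ, b < i → IsZero (F₁.homology i) := by
      intro i hi
      have : IsIso (HomologicalComplex.homologyMap (CochainComplex.ιTruncLE F (c - 1)) i) :=
        inferInstance
      exact (hcoh i hi).of_iso (asIso (HomologicalComplex.homologyMap
        (CochainComplex.ιTruncLE F (c - 1)) i))
    obtain ⟨F', h1, h2, ⟨e⟩⟩ := ih F₁ (c - 1) (by push_cast at hc; omega) hP₁ hvan₁ hcoh₁
    haveI : IsIso (DerivedCategory.Q.map (CochainComplex.ιTruncLE F (c - 1))) := by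
      rw [DerivedCategory.isIso_Q_map_iff_quasiIso]
      infer_instance
    exact ⟨F', h1, h2, ⟨e ≪≫ asIso (DerivedCategory.Q.map (CochainComplex.ιTruncLE F (c - 1)))⟩⟩

/-- Let C be an abelian category and C₀ a strictly full additive subcategory, liftable and stable under
kernels of epimorphisms. Let a ≤ b, a ≤ c, and let F be a strictly perfect complex (terms in C₀)
vanishing outside [a, c] with H^i(F) = 0 for i > b. Then F has perfect amplitude in [a, min b c]: it
is isomorphic in D(C) to a strictly perfect complex vanishing outside that interval. -/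
theorem result {C : Type u} [Category.{v} C] [Abelian C] [HasDerivedCategory.{w} C]
    (P : ObjectProperty C) [P.IsClosedUnderIsomorphisms] [P.ContainsZero] (hsum : ∀ X Y : C, P X → P Y → P (X ⨯ Y))
    (hlift : ∀ (E F : C) (u : E ⟶ F), Epi u → P F → IsSplitEpi u)
    (hst : ∀ (E F : C) (u : E ⟶ F), Epi u → P E → P F → P (kernel u))
    (a b c : ℤ) (hab : a ≤ b) (hac : a ≤ c) (F : CochainComplex C ℤ)
    (hP : ∀ i : ℤ, P (F.X i)) (hvan : ∀ i : ℤ, i < a ∨ c < i → IsZero (F.X i))
    (hcoh : ∀ i : ℤ, b < i → IsZero (F.homology i)) :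
    ∃ F' : CochainComplex C ℤ, (∀ i : ℤ, P (F'.X i)) ∧ (∀ i : ℤ, i < a ∨ min b c < i → IsZero (F'.X i)) ∧
      Nonempty (DerivedCategory.Q.obj F' ≅ DerivedCategory.Q.obj F) := by
  by_cases hcb : c ≤ b
  · refine ⟨F, hP, ?_, ⟨Iso.refl _⟩⟩
    intro i hi
    rw [min_eq_right hcb] at hi
    exact hvan i hi
  · have hbc : b < c := not_le.1 hcb
    obtain ⟨F', h1, h2, h3⟩ := aux P hst a b hab (c - b).toNat F c
      (by rw [Int.toNat_of_nonneg (by omega)]; ring) hP hvan hcoh
    refine ⟨F', h1, ?_, h3⟩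
    intro i hi
    rw [min_eq_left hbc.le] at hi
    exact h2 i hi

end Groth.Agent.S5610
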