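import Groth.Statements.S5612
import Mathlib
import Groth.Agent.Lib.Helper23.TA10
import Groth.Agent.Lib.Helper23.TA6
-- import your own Groth.Agent.* helpers here

set_option autoImplicit false
universe u
open CategoryTheory CategoryTheory.Limits
attribute [local instance] HasDerivedCategory.standard
open DRing

namespace Groth.Agent.S5612

/-- Let A be a commutative ring all of whose modules have finite tor dimension (for instance A of finite
global dimension) and K ∈ D(A). (i) K has finite tor dimension if and only if K has bounded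
cohomology. (ii) K is perfect if and only if K has bounded cohomology and is pseudo-coherent. -/
theorem result {A : Type u} [CommRing A]
    (hA : ∀ (M : Type u) [AddCommGroup M] [Module A M], DRing.HasFiniteTorDim A M) (K : Dual.D A) :
    (DRing.HasFiniteTorDimCx A K ↔ ∃ a b : ℤ, ∀ i : ℤ, i < a ∨ b < i → Subsingleton (Dual.HD A K i)) ∧
      (DRing.IsPerfect A K ↔
        (∃ a b : ℤ, ∀ i : ℤ, i < a ∨ b < i → Subsingleton (Dual.HD A K i)) ∧ DRing.IsPseudoCoherent' A K) := by
  have hbdd : (∃ a b : ℤ, ∀ i : ℤ, i < a ∨ b < i → Subsingleton (Dual.HD A K i)) →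
      DRing.HasFiniteTorDimCx A K := by
    rintro ⟨a, b, hab⟩
    choose n hn using fun i : ℤ => hA (Dual.HD A K i)
    refine ⟨a - ((Finset.Icc a b).sup n : ℕ), b, ?_⟩
    refine Groth.Agent.Lib.helper23.TA.hasTorAmplitudeIn_of_homology _ b K a b
      (fun i hi => ?_) (fun i => ?_)
    · haveI := hab i hi
      exact ModuleCat.isZero_of_subsingleton _
    · by_cases hi : i < a ∨ b < i
      · haveI := hab i hi
        exact Groth.Agent.Lib.helper23.TA.hasTorAmplitudeIn_of_isZero _ _
          ((DerivedCategory.singleFunctor (ModuleCat.{u} A) 0).map_isZero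
            (ModuleCat.isZero_of_subsingleton _))
      · have hmem : i ∈ Finset.Icc a b := Finset.mem_Icc.2 ⟨by omega, by omega⟩
        have hle : n i ≤ (Finset.Icc a b).sup n := Finset.le_sup hmem
        have h1 := (Groth.Agent.Lib.helper23.TA.torVan_iff_hasTorAmplitudeIn (n i) _).1
          ((Groth.Agent.Lib.helper23.TA.hasTorDimLE_iff_torVan (n i) _).1 (hn i))
        exact Groth.Agent.Lib.helper23.TA.hasTorAmplitudeIn_mono h1 (by omega) (by omega)
  have hvan : ∀ a b : ℤ, DRing.HasTorAmplitudeIn A a b K →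
      ∀ i : ℤ, i < a ∨ b < i → Subsingleton (Dual.HD A K i) := fun a b h i hi =>
    ModuleCat.subsingleton_of_isZero
      (Groth.Agent.Lib.helper23.TA.isZero_homology_of_hasTorAmplitudeIn h i hi)
  refine ⟨⟨fun ⟨a, b, h⟩ => ⟨a, b, hvan a b h⟩, hbdd⟩, ?_, ?_⟩
  · rintro ⟨E, a, b, hz, hP, ⟨e⟩⟩
    refine ⟨⟨a, b, hvan a b ⟨E, hz, fun i => ?_, ⟨e⟩⟩⟩, ?_⟩
    · haveI := (hP i).2
      infer_instance
    · rw [Groth.Agent.Lib.helper23.DRingPC.isPseudoCoherent'_iff_npc]
      intro m
      exact (Groth.Agent.Lib.helper23.DRingPC.npc_of_termwiseFiniteProjective A E b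
        (fun i hi => hz i (Or.inr hi)) hP m).of_iso e
  · rintro ⟨hb, hPC⟩
    obtain ⟨a, b, hTA⟩ := hbdd hb
    rw [Groth.Agent.Lib.helper23.DRingPC.isPseudoCoherent'_iff_npc] at hPC
    obtain ⟨E, hP, hz, he⟩ :=
      Groth.Agent.Lib.helper23.TA.amp_FP_of_npc_of_hasTorAmplitudeIn K a b (hPC (a - 1)) hTA
    exact ⟨E, a, b, hz, hP, he⟩

end Groth.Agent.S5612
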