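import Groth.Statements.S5616
import Mathlib
import Groth.Agent.Lib.Helper25.ExtEfface

set_option autoImplicit false
universe w w' v v' u u'
open CategoryTheory CategoryTheory.Limits
open CohDer

namespace Groth.Agent.S5616

open Abelian Groth.Agent.Lib.helper25.ExtEfface

section

variable {A : Type u} [Category.{v} A] [Abelian A] [HasExt.{w} A]
  {B : Type u'} [Category.{v'} B] [Abelian B] [HasExt.{w'} B]
  (φ : A ⥤ B) [φ.Additive] [PreservesFiniteLimits φ] [PreservesFiniteColimits φ]

omit [HasExt.{w} A] [HasExt.{w'} B] in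
lemma map_kerSC_shortExact {L' L : A} (p : L' ⟶ L) [Epi p] :
    (ShortComplex.mk (φ.map (kernel.ι p)) (φ.map p)
      (by rw [← φ.map_comp, kernel.condition, φ.map_zero])).ShortExact :=
  (kerSC_shortExact p).map_of_exact φ

lemma map_extClass_comp {L' L M : A} (p : L' ⟶ L) [Epi p] {n : ℕ}
    (z : Ext.{w} (kernel p) M n) :
    Ext.mapExactFunctor φ ((kerSC_shortExact p).extClass.comp z (add_comm 1 n)) =
      (map_kerSC_shortExact φ p).extClass.comp (Ext.mapExactFunctor φ z) (add_comm 1 n) := by
  rw [Ext.mapExactFunctor_comp, Ext.mapExactFunctor_extClass φ (kerSC_shortExact p)]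
  rfl

/-- (ii) ⟹ (i), by dimension shifting. -/
theorem bijective_of_effaceable (M : A)
    (h0 : ∀ L : A, Function.Bijective (fun f : L ⟶ M => φ.map f))
    (heff : ∀ (L : A) (n : ℕ), 1 ≤ n → ∀ x : Ext.{w'} (φ.obj L) (φ.obj M) n,
      ∃ (L' : A) (p : L' ⟶ L), Epi p ∧ (Ext.mk₀ (φ.map p)).comp x (zero_add n) = 0)
    (n : ℕ) : ∀ L : A,
      Function.Bijective (fun f : Ext.{w} L M n => Ext.mapExactFunctor φ f) := by
  induction n with
  | zero =>
    intro L
    have : (fun f : Ext.{w} L M 0 => Ext.mapExactFunctor φ f) =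
        Ext.homEquiv₀.symm ∘ (fun f : L ⟶ M => φ.map f) ∘ Ext.homEquiv₀ :=
      Ext.mapExactFunctor₀ φ L M
    rw [this]
    exact (Ext.homEquiv₀.symm.bijective.comp (h0 L)).comp Ext.homEquiv₀.bijective
  | succ n ih =>
    intro L
    constructor
    · -- injectivity
      intro y₁ y₂ hy
      have hy' : Ext.mapExactFunctor φ (y₁ - y₂) = 0 := by
        have := (φ.mapExtAddHom L M (n + 1)).map_sub y₁ y₂
        simp only [Functor.mapExtAddHom_apply] at this
        rw [this]
        exact sub_eq_zero.2 hy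
      suffices y₁ - y₂ = 0 from sub_eq_zero.1 this
      generalize y₁ - y₂ = y at hy'
      obtain ⟨L', p, hp, z, hz⟩ := exists_epi_extClass_comp y
      have hS := kerSC_shortExact p
      have hS' := map_kerSC_shortExact φ p
      have e1 : (hS'.extClass).comp (Ext.mapExactFunctor φ z) (add_comm 1 n) = 0 := by
        rw [← map_extClass_comp, hz, hy']
      obtain ⟨w, hw⟩ := Ext.contravariant_sequence_exact₁ hS' (φ.obj M)
        (Ext.mapExactFunctor φ z) (add_comm 1 n) e1
      obtain ⟨w', rfl⟩ := (ih L').2 w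
      have e2 : Ext.mapExactFunctor φ ((Ext.mk₀ (kernel.ι p)).comp w' (zero_add n)) =
          Ext.mapExactFunctor φ z := by
        rw [Ext.mapExactFunctor_comp, Ext.mapExactFunctor_mk₀]
        exact hw
      have e3 : (Ext.mk₀ (kernel.ι p)).comp w' (zero_add n) = z := (ih (kernel p)).1 e2
      rw [← hz, ← e3]
      exact hS.extClass_comp_assoc w'
    · -- surjectivity
      intro x
      obtain ⟨L', p, hp, hx⟩ := heff L (n + 1) (Nat.succ_le_succ (Nat.zero_le n)) x
      have hS := kerSC_shortExact p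
      have hS' := map_kerSC_shortExact φ p
      obtain ⟨z, hz⟩ := Ext.contravariant_sequence_exact₃ hS' (φ.obj M) x hx (add_comm 1 n)
      obtain ⟨z', rfl⟩ := (ih (kernel p)).2 z
      refine ⟨hS.extClass.comp z' (add_comm 1 n), ?_⟩
      dsimp only
      rw [map_extClass_comp]
      exact hz

end

/-- Let φ : A ⥤ B be an exact functor of abelian categories and M an object of A. The following are
equivalent: (i) for every L in A and every n, the map Ext^n_A(L, M) → Ext^n_B(φ L, φ M) induced by φ
is bijective; (ii) for every L the map Hom_A(L, M) → Hom_B(φ L, φ M) is bijective, and for every L,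
every n ≥ 1 and every x ∈ Ext^n_B(φ L, φ M) there is an epimorphism L' ⟶ L of A such that x
precomposed with its image under φ vanishes. -/
theorem result
    {A : Type u} [Category.{v} A] [Abelian A] [HasExt.{w} A]
    {B : Type u'} [Category.{v'} B] [Abelian B] [HasExt.{w'} B]
    (φ : A ⥤ B) [φ.Additive] [PreservesFiniteLimits φ] [PreservesFiniteColimits φ] (M : A) :
    (∀ (L : A) (n : ℕ), Function.Bijective (fun f : Abelian.Ext.{w} L M n => Abelian.Ext.mapExactFunctor φ f)) ↔
      ((∀ L : A, Function.Bijective (fun f : L ⟶ M => φ.map f)) ∧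
        ∀ (L : A) (n : ℕ), 1 ≤ n → ∀ x : Abelian.Ext.{w'} (φ.obj L) (φ.obj M) n,
          ∃ (L' : A) (p : L' ⟶ L), Epi p ∧ (Abelian.Ext.mk₀ (φ.map p)).comp x (zero_add n) = 0) := by
  constructor
  · intro h
    refine ⟨fun L => ?_, fun L n hn x => ?_⟩
    · have h0 := h L 0
      have e : (fun f : Ext.{w} L M 0 => Ext.mapExactFunctor φ f) =
          Ext.homEquiv₀.symm ∘ (fun f : L ⟶ M => φ.map f) ∘ Ext.homEquiv₀ :=
        Ext.mapExactFunctor₀ φ L M
      rw [e] at h0
      have h1 := (Ext.homEquiv₀.bijective.comp h0).comp Ext.homEquiv₀.symm.bijective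
      have e2 : (fun f : L ⟶ M => φ.map f) =
          (Ext.homEquiv₀ ∘ Ext.homEquiv₀.symm ∘ (fun f : L ⟶ M => φ.map f) ∘ Ext.homEquiv₀) ∘
            Ext.homEquiv₀.symm := by
        ext f
        simp only [Function.comp, Equiv.apply_symm_apply]
      rw [e2]
      exact h1
    · obtain ⟨y, rfl⟩ := (h L n).2 x
      obtain ⟨L', p, hp, hy⟩ :=
        Groth.Agent.Lib.helper25.ExtEfface.exists_epi_comp_eq_zero hn y
      refine ⟨L', p, hp, ?_⟩
      dsimp only
      rw [← Abelian.Ext.mapExactFunctor_mk₀, ← Abelian.Ext.mapExactFunctor_comp, hy,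
        Abelian.Ext.mapExactFunctor_zero]
  · rintro ⟨h0, heff⟩ L n
    exact bijective_of_effaceable φ M h0 heff n L

end Groth.Agent.S5616
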