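import Groth.Statements.S5621
import Mathlib
import Groth.Agent.Lib.Helper23.PCohLib
-- import your own Groth.Agent.* helpers here

set_option autoImplicit false
universe w v u
open CategoryTheory CategoryTheory.Limits
open PCoh

namespace Groth.Agent.S5621

/-- Let C be an abelian category and C₀ a strictly full additive subcategory, liftable and stable under
kernels of epimorphisms. Let a ≤ b and let F be a complex with F^i = 0 for i outside [a, b], of
perfect amplitude in [a, b] (isomorphic in D(C) to a strictly perfect complex vanishing outside [a,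
b]), and with F^i in C₀ for i > a. Then F^a lies in C₀. -/
theorem result {C : Type u} [Category.{v} C] [Abelian C] [HasDerivedCategory.{w} C]
    (P : ObjectProperty C) [P.IsClosedUnderIsomorphisms] [P.ContainsZero] (hsum : ∀ X Y : C, P X → P Y → P (X ⨯ Y))
    (hlift : ∀ (E F : C) (u : E ⟶ F), Epi u → P F → IsSplitEpi u)
    (hst : ∀ (E F : C) (u : E ⟶ F), Epi u → P E → P F → P (kernel u))
    (a b : ℤ) (hab : a ≤ b) (F : CochainComplex C ℤ)
    (hvan : ∀ i : ℤ, i < a ∨ b < i → IsZero (F.X i)) (hP : ∀ i : ℤ, a < i → P (F.X i))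
    (hamp : (∃ E : CochainComplex C ℤ, (∀ i : ℤ, P (E.X i)) ∧ (∀ i : ℤ, i < a ∨ b < i → IsZero (E.X i)) ∧ Nonempty (DerivedCategory.Q.obj E ≅ DerivedCategory.Q.obj F))) :
    P (F.X a) := by
  obtain ⟨E, hPE, hzE, ⟨e⟩⟩ := hamp
  have hproj := Groth.Agent.Lib.helper23.PCohLib.projective_of_lift P hlift
  haveI : E.IsStrictlyLE b :=
    (CochainComplex.isStrictlyLE_iff _ _).2 (fun i hi => hzE i (Or.inr hi))
  haveI : ∀ n, Projective (E.X n) := fun n => hproj _ (hPE n)
  haveI : E.IsKProjective := CochainComplex.isKProjective_of_projective E b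
  obtain ⟨φ, hφ⟩ := (CochainComplex.IsKProjective.Qh_map_bijective E
    ((HomotopyCategory.quotient _ _).obj F)).2 e.hom
  obtain ⟨f, rfl⟩ := (HomotopyCategory.quotient _ _).map_surjective φ
  have hf : DerivedCategory.Q.map f = e.hom := hφ
  have hiso : IsIso (DerivedCategory.Q.map f) := by rw [hf]; infer_instance
  -- the mapping cone
  obtain ⟨A, hA⟩ : ∃ A : CochainComplex C ℤ, A = CochainComplex.mappingCone f := ⟨_, rfl⟩
  have hAc : ∀ i, A.ExactAt i := by
    subst hA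
    exact Groth.Agent.Lib.helper23.PCohLib.exactAt_mappingCone f hiso
  have hAX : ∀ i : ℤ, Nonempty (A.X i ≅ E.X (i + 1) ⊞ F.X i) := by
    subst hA
    exact fun i => ⟨HomologicalComplex.homotopyCofiber.XIsoBiprod f i (i + 1) (by simp)⟩
  have hAP : ∀ i : ℤ, P (F.X i) → P (A.X i) := by
    intro i hi
    obtain ⟨e'⟩ := hAX i
    exact (P.prop_iff_of_iso (e' ≪≫ biprod.isoProd _ _)).2 (hsum _ _ (hPE (i + 1)) hi)
  have hAz : ∀ i : ℤ, i < a - 1 ∨ b < i → IsZero (A.X i) := by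
    intro i hi
    obtain ⟨e'⟩ := hAX i
    refine IsZero.of_iso ?_ e'
    rw [biprod_isZero_iff]
    refine ⟨hzE _ ?_, hvan _ ?_⟩
    · rcases hi with hi | hi
      · exact Or.inl (by omega)
      · exact Or.inr (by omega)
    · rcases hi with hi | hi
      · exact Or.inl (by omega)
      · exact Or.inr (by omega)
  -- cocycles above `a`
  have hZ := Groth.Agent.Lib.helper23.PCohLib.kernel_d_mem P hst A hAc a b
    (fun i hi => hAz i (Or.inr hi)) (fun i hi => hAP i (hP i hi))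
  have hZ1 : P (kernel (A.d (a + 1) (a + 1 + 1))) := hZ (a + 1) (by omega)
  -- `Z^a ≅ A^{a-1}`
  have hAm : P (A.X (a - 1)) := hAP (a - 1) (P.prop_of_isZero (hvan _ (Or.inl (by omega))))
  have hS1 : (A.sc' (a - 1) a (a + 1)).Exact :=
    (A.exactAt_iff' (a - 1) a (a + 1) (by simp) (by simp)).1 (hAc a)
  have hS0 : (A.sc' (a - 1 - 1) (a - 1) a).Exact :=
    (A.exactAt_iff' (a - 1 - 1) (a - 1) a (by simp) (by simp)).1 (hAc (a - 1))
  haveI : Mono (A.d (a - 1) a) :=
    ((A.sc' (a - 1 - 1) (a - 1) a).exact_iff_mono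
      ((hAz (a - 1 - 1) (Or.inl (by omega))).eq_of_src _ _)).1 hS0
  haveI : Epi (kernel.lift (A.d a (a + 1)) (A.d (a - 1) a) (A.d_comp_d _ _ _)) :=
    (A.sc' (a - 1) a (a + 1)).exact_iff_epi_kernel_lift.1 hS1
  haveI : Mono (kernel.lift (A.d a (a + 1)) (A.d (a - 1) a) (A.d_comp_d _ _ _)) :=
    mono_of_mono_fac (kernel.lift_ι _ _ _)
  haveI : IsIso (kernel.lift (A.d a (a + 1)) (A.d (a - 1) a) (A.d_comp_d _ _ _)) :=
    isIso_of_mono_of_epi _
  have hZ0 : P (kernel (A.d a (a + 1))) :=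
    (P.prop_iff_of_iso (asIso (kernel.lift (A.d a (a + 1)) (A.d (a - 1) a)
      (A.d_comp_d _ _ _)))).1 hAm
  -- `A^a` is in `P`
  have hS2 : (A.sc' a (a + 1) (a + 1 + 1)).Exact :=
    (A.exactAt_iff' a (a + 1) (a + 1 + 1) (by simp) (by simp)).1 (hAc (a + 1))
  haveI : Epi (kernel.lift (A.d (a + 1) (a + 1 + 1)) (A.d a (a + 1)) (A.d_comp_d _ _ _)) :=
    (A.sc' a (a + 1) (a + 1 + 1)).exact_iff_epi_kernel_lift.1 hS2
  haveI := hlift _ _ (kernel.lift (A.d (a + 1) (a + 1 + 1)) (A.d a (a + 1)) (A.d_comp_d _ _ _))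
    inferInstance hZ1
  have hk : P (kernel (kernel.lift (A.d (a + 1) (a + 1 + 1)) (A.d a (a + 1))
      (A.d_comp_d _ _ _))) :=
    (P.prop_iff_of_iso ((kernelCompMono (kernel.lift (A.d (a + 1) (a + 1 + 1)) (A.d a (a + 1))
      (A.d_comp_d _ _ _)) (kernel.ι _)).symm ≪≫ kernelIsoOfEq (kernel.lift_ι _ _ _))).2 hZ0
  have hAa : P (A.X a) := Groth.Agent.Lib.helper23.PCohLib.mem_of_isSplitEpi P hsum _ hk hZ1
  obtain ⟨e'⟩ := hAX a
  exact Groth.Agent.Lib.helper23.PCohLib.mem_of_biprod P hst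
    ((P.prop_iff_of_iso e').1 hAa) (hPE (a + 1))

end Groth.Agent.S5621
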