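import Groth.Statements.S5625
import Groth.Agent.Lib.Helper7.QCohPushQC
import Groth.Agent.Lib.Helper16.QCohPullback

set_option autoImplicit false
universe u
open CategoryTheory AlgebraicGeometry
open QCohCat

namespace Groth.Agent.S5625

/-- Let f : X ⟶ Y be a morphism of quasi-compact quasi-separated schemes and Q_X, Q_Y coherators (right
adjoints of the inclusions QCoh ⥤ Mod) on X and Y. Then Q_Y ∘ f_* and f_* ∘ Q_X agree: the two
composite functors Mod(O_X) ⥤ Mod(O_Y) are naturally isomorphic (existence of a natural isomorphism;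
the source's isomorphism is the canonical one between two right adjoints of the same functor). -/
theorem result {X Y : Scheme.{u}} [CompactSpace X] [QuasiSeparatedSpace X]
    [CompactSpace Y] [QuasiSeparatedSpace Y] (f : X ⟶ Y)
    (QX : X.Modules ⥤ QCohCat.QCoh X) (adjX : (QCohCat.isQCoh X).ι ⊣ QX)
    (QY : Y.Modules ⥤ QCohCat.QCoh Y) (adjY : (QCohCat.isQCoh Y).ι ⊣ QY) :
    Nonempty ((QX ⋙ (QCohCat.isQCoh X).ι ⋙ Scheme.Modules.pushforward f) ≅
      (Scheme.Modules.pushforward f ⋙ QY ⋙ (QCohCat.isQCoh Y).ι)) := by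
  have hqc : QuasiCompact f := (quasiCompact_iff_compactSpace f).mpr inferInstance
  have hqs : QuasiSeparated f := (quasiSeparated_iff_quasiSeparatedSpace f).mpr inferInstance
  let push := Scheme.Modules.pushforward f
  let pull := Scheme.Modules.pullback f
  let pushQC : QCoh X ⥤ QCoh Y := (isQCoh Y).lift ((isQCoh X).ι ⋙ push) (fun M => by
    have : M.obj.IsQuasicoherent := M.property
    exact Groth.Agent.Lib.helper7.QCohPushQC.isQuasicoherent_pushforward f M.obj)
  let pullQC : QCoh Y ⥤ QCoh X := (isQCoh X).lift ((isQCoh Y).ι ⋙ pull) (fun M => by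
    have : M.obj.IsQuasicoherent := M.property
    exact Groth.Agent.Lib.helper16.QCohPullback.isQuasicoherent_pullback f M.obj)
  let adjf : pull ⊣ push := Scheme.Modules.pullbackPushforwardAdjunction f
  let adjQC : pullQC ⊣ pushQC :=
    adjf.restrictFullyFaithful (isQCoh Y).fullyFaithfulι (isQCoh X).fullyFaithfulι
      (Iso.refl _) (Iso.refl _)
  let adj1 : pullQC ⋙ (isQCoh X).ι ⊣ QX ⋙ pushQC := adjQC.comp adjX
  let adj2 : (isQCoh Y).ι ⋙ pull ⊣ push ⋙ QY := adjY.comp adjf
  let e : pullQC ⋙ (isQCoh X).ι ≅ (isQCoh Y).ι ⋙ pull := (isQCoh X).liftCompιIso _ _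
  let r : QX ⋙ pushQC ≅ push ⋙ QY := (adj1.ofNatIsoLeft e).rightAdjointUniq adj2
  let iso1 : QX ⋙ (isQCoh X).ι ⋙ push ≅ (QX ⋙ pushQC) ⋙ (isQCoh Y).ι :=
    (Functor.isoWhiskerLeft QX ((isQCoh Y).liftCompιIso ((isQCoh X).ι ⋙ push) _).symm) ≪≫
      (Functor.associator _ _ _).symm
  exact ⟨iso1 ≪≫ Functor.isoWhiskerRight r (isQCoh Y).ι ≪≫ Functor.associator _ _ _⟩

end Groth.Agent.S5625
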