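import Groth.Statements.S5642
import Groth.Agent.Lib.Helper8.StalkLen
import Groth.Agent.Lib.Helper8.StalkExact
import Groth.Agent.Lib.Helper8.OCStalk
import Groth.Agent.Lib.Helper8.DimLt
import Groth.Agent.Lib.Helper8.DevK0b

set_option autoImplicit false
universe u
open CategoryTheory CategoryTheory.Limits AlgebraicGeometry
open Classical
open SGA6

namespace Groth.Agent.S5642

theorem subsingleton_stalk_of_isZero {X : Scheme.{u}} (N : X.Modules) (hN : IsZero N) (x : X) :
    Subsingleton (N.presheaf.stalk x) := by
  have h : ∀ m : N.presheaf.stalk x, m = 0 := by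
    intro m
    have h1 := Groth.Agent.Lib.helper17.FlatOver7.stalkAdd_id N x m
    have h2 : (𝟙 N : N ⟶ N) = 0 := hN.eq_of_src _ _
    rw [h2] at h1
    obtain ⟨U, hxU, s, rfl⟩ := N.presheaf.exists_germ_eq m
    rw [Groth.Agent.Lib.helper17.FlatOver7.stalkAdd_germ] at h1
    rw [← h1]
    exact (congrArg _ (rfl : ((0 : N ⟶ N).app U).hom s = 0)).trans (map_zero _)
  exact ⟨fun a b => (h a).trans (h b).symm⟩

/-- Let X be a Noetherian scheme, K the Grothendieck group of coherent O_X-modules and Filt_m ⊆ K the
subgroup generated by the classes of coherent modules whose support has dimension ≤ m. Let F be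
coherent with dim Supp(F) ≤ n. Then for the points x of X whose closure Z(x) has dimension n the
stalk F_x has finite length, nonzero for only finitely many such x, and [F] ≡ Σ_x length(F_x)
[O_{Z(x)}] modulo Filt_{n-1}, where O_{Z(x)} is the structure sheaf of the reduced closed subscheme
Z(x) viewed as an O_X-module. -/
theorem result (X : Scheme.{u}) [IsNoetherian X] (n : ℕ) (F : X.Modules) (hF : Coh.IsCoh F)
    (hsupp : topologicalKrullDim ↥(CohB1.support F) ≤ n) :
    KZero.clSub (fun M : X.Modules => Coh.IsCoh M) F -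
        (finsum fun x : ↥X => if topologicalKrullDim ↥(closure ({x} : Set ↥X)) = n then
          (Module.length (X.presheaf.stalk x) (F.presheaf.stalk x)).toNat • KZero.clSub (fun M : X.Modules => Coh.IsCoh M) (Cyc.closureStructureSheaf x) else 0) ∈
      AddSubgroup.closure {c : KZero.K0sub (fun M : X.Modules => Coh.IsCoh M) |
        ∃ G : X.Modules, Coh.IsCoh G ∧ topologicalKrullDim ↥(CohB1.support G) < n ∧ c = KZero.clSub (fun M : X.Modules => Coh.IsCoh M) G} := by
  classical
  let Q : ObjectProperty X.Modules := fun M : X.Modules => Coh.IsCoh M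
  have hQ0 : ∀ N : X.Modules, IsZero N → Q N :=
    fun N hN => Groth.Agent.Lib.helper7.CohKer.isCoh_of_isZero hN
  have hQiso : ∀ M N : X.Modules, (M ≅ N) → Q M → Q N :=
    fun M N e hM => Groth.Agent.Lib.helper7.CohKer.isCoh_of_iso e hM
  have hOC : ∀ x : X, Cyc.closureStructureSheaf x =
      Groth.Agent.Lib.helper8.Dev.OC ⟨closure {x}, isClosed_closure⟩ := fun x => rfl
  let T : Set X := CohB1.support F
  have hTc : IsClosed T := Groth.Agent.Lib.helper8.Dev.isClosed_support_of_isCoh F hF
  let S : AddSubgroup (KZero.K0sub Q) := AddSubgroup.closure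
    {c : KZero.K0sub Q | ∃ G : X.Modules, Coh.IsCoh G ∧
      topologicalKrullDim ↥(CohB1.support G) < n ∧ c = KZero.clSub Q G}
  let term : X.Modules → X → KZero.K0sub Q := fun G x =>
    if topologicalKrullDim ↥(closure ({x} : Set ↥X)) = n then
      (Module.length (X.presheaf.stalk x) (G.presheaf.stalk x)).toNat •
        KZero.clSub Q (Cyc.closureStructureSheaf x) else 0
  show KZero.clSub Q F - finsum (term F) ∈ S
  let E : Set X := {x | x ∈ T ∧ topologicalKrullDim ↥(closure ({x} : Set X)) = n}
  have hE : E.Finite := Groth.Agent.Lib.helper8.DimLt.finite_setOf_dim_closure_eq hTc hsupp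
  have hterm_zero : ∀ (G : X.Modules) (x : X), Subsingleton (G.presheaf.stalk x) →
      term G x = 0 := by
    intro G x hsub
    simp only [term]
    split_ifs
    · rw [Module.length_eq_zero]
      simp
    · rfl
  have hsuppterm : ∀ G : X.Modules, CohB1.support G ⊆ T → Function.support (term G) ⊆ E := by
    intro G hG x hx
    rw [Function.mem_support] at hx
    by_cases hd : topologicalKrullDim ↥(closure ({x} : Set X)) = n
    · refine ⟨hG ?_, hd⟩
      intro hsub
      exact hx (hterm_zero G x hsub)
    · exfalso
      apply hx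
      simp only [term, if_neg hd]
  have hfin : ∀ G : X.Modules, CohB1.support G ⊆ T → (Function.support (term G)).Finite :=
    fun G hG => hE.subset (hsuppterm G hG)
  have hlen : ∀ G : X.Modules, Coh.IsCoh G → CohB1.support G ⊆ T → ∀ x : X,
      topologicalKrullDim ↥(closure ({x} : Set X)) = n →
      Module.length (X.presheaf.stalk x) (G.presheaf.stalk x) ≠ ⊤ := by
    intro G hGc hG x hd
    by_cases hnt : Nontrivial (G.presheaf.stalk x)
    · have hmin : ∀ y : X, Nontrivial ↑(G.presheaf.stalk y) → y ⤳ x → y = x := fun y hy hyx =>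
        Groth.Agent.Lib.helper8.DimLt.eq_of_specializes_of_dim hTc hsupp
          (hG (not_subsingleton_iff_nontrivial.mpr hy)) hd hyx
      exact Module.length_ne_top_iff.mpr
        ((Groth.Agent.Lib.helper8.StalkLen.minimal_iff_isFiniteLength G hGc x).mp ⟨hnt, hmin⟩).2
    · haveI : Subsingleton (G.presheaf.stalk x) := not_nontrivial_iff_subsingleton.mp hnt
      rw [Module.length_eq_zero]
      exact ENat.zero_ne_top
  refine Groth.Agent.Lib.helper8.Dev.devissage_master_OC
    (fun M => KZero.clSub Q M - finsum (term M) ∈ S) ?_ T ?_ ?_ ?_ F hF (le_refl _)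
  · rintro M N ⟨e⟩ hM
    show KZero.clSub Q N - finsum (term N) ∈ S
    have h1 : term N = term M := by
      funext x
      simp only [term]
      rw [(Groth.Agent.Lib.helper17.FlatOver7.stalkLinEquiv e x).length_eq]
    rw [h1, ← Groth.Agent.Lib.helper8.Dev.clSub_iso Q hQ0 hQiso e]
    exact hM
  · intro N hN
    show KZero.clSub Q N - finsum (term N) ∈ S
    have h1 : term N = fun _ => 0 := by
      funext x
      exact hterm_zero N x (subsingleton_stalk_of_isZero N hN x)
    rw [h1, Groth.Agent.Lib.helper8.Dev.clSub_zero Q hQ0 N hN, finsum_zero, sub_zero]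
    exact S.zero_mem
  · intro T' hT' h1 h2 h3 hsT
    haveI := hT'.mono_f
    haveI := hT'.epi_g
    haveI : T'.X₂.IsQuasicoherent := h2.1
    haveI : T'.X₃.IsQuasicoherent := h3.1
    have hs1 : CohB1.support T'.X₁ ⊆ T :=
      (Groth.Agent.Lib.helper8.Dev.support_subset_of_mono T'.f h1 h2).trans hsT
    have hs3 : CohB1.support T'.X₃ ⊆ T :=
      (Groth.Agent.Lib.helper8.Dev.support_subset_of_epi T'.g h2 h3).trans hsT
    have hcl := Groth.Agent.Lib.helper8.Dev.clSub_rel Q T' hT' h1 h2 h3
    have hterm : term T'.X₂ = term T'.X₁ + term T'.X₃ := by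
      funext x
      simp only [term, Pi.add_apply]
      by_cases hd : topologicalKrullDim ↥(closure ({x} : Set X)) = n
      · rw [if_pos hd, if_pos hd, if_pos hd]
        have hadd := Groth.Agent.Lib.helper8.StalkLen.length_stalk_add T' hT' x
        have hf2 := hlen T'.X₂ h2 hsT x hd
        have hf1 := hlen T'.X₁ h1 hs1 x hd
        have hf3 := hlen T'.X₃ h3 hs3 x hd
        rw [hadd, ENat.toNat_add hf1 hf3, add_smul]
      · rw [if_neg hd, if_neg hd, if_neg hd, add_zero]
    have hsum : finsum (term T'.X₂) = finsum (term T'.X₁) + finsum (term T'.X₃) := by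
      rw [hterm]
      exact finsum_add_distrib (hfin _ hs1) (hfin _ hs3)
    have key : KZero.clSub Q T'.X₂ - finsum (term T'.X₂) =
        (KZero.clSub Q T'.X₁ - finsum (term T'.X₁)) +
          (KZero.clSub Q T'.X₃ - finsum (term T'.X₃)) := by
      rw [hcl, hsum]
      abel
    refine ⟨fun ha hb => ?_, fun ha hc => ?_, fun hb hc => ?_⟩
    · show KZero.clSub Q T'.X₃ - finsum (term T'.X₃) ∈ S
      have : KZero.clSub Q T'.X₃ - finsum (term T'.X₃) =
          (KZero.clSub Q T'.X₂ - finsum (term T'.X₂)) -
            (KZero.clSub Q T'.X₁ - finsum (term T'.X₁)) := by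
        rw [key]; abel
      rw [this]
      exact S.sub_mem hb ha
    · show KZero.clSub Q T'.X₂ - finsum (term T'.X₂) ∈ S
      rw [key]
      exact S.add_mem ha hc
    · show KZero.clSub Q T'.X₁ - finsum (term T'.X₁) ∈ S
      have : KZero.clSub Q T'.X₁ - finsum (term T'.X₁) =
          (KZero.clSub Q T'.X₂ - finsum (term T'.X₂)) -
            (KZero.clSub Q T'.X₃ - finsum (term T'.X₃)) := by
        rw [key]; abel
      rw [this]
      exact S.sub_mem hb hc
  · intro Z i hi hZ hrange
    let y : X := i (genericPoint Z)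
    have hcl : closure {y} = Set.range ⇑i := by
      have h1 : closure {genericPoint Z} = (Set.univ : Set Z) := genericPoint_spec Z
      rw [← Set.image_singleton, i.isClosedEmbedding.closure_image_eq, h1, Set.image_univ]
    let C : TopologicalSpace.Closeds X := ⟨closure {y}, isClosed_closure⟩
    refine ⟨C, hcl, ?_⟩
    show KZero.clSub Q (Groth.Agent.Lib.helper8.Dev.OC C) -
      finsum (term (Groth.Agent.Lib.helper8.Dev.OC C)) ∈ S
    have hCT : (C : Set X) ⊆ T := by
      change closure {y} ⊆ T
      rw [hcl]
      exact hrange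
    have hCdim : topologicalKrullDim ↥(C : Set X) ≤ n :=
      (Groth.Agent.Lib.helper8.DimLt.topologicalKrullDim_le_of_subset hCT).trans hsupp
    have hCirr : IsIrreducible (C : Set X) := isIrreducible_singleton.closure
    -- the summand vanishes away from `y`
    have hoff : ∀ x : X, x ≠ y → term (Groth.Agent.Lib.helper8.Dev.OC C) x = 0 := by
      intro x hxy
      by_cases hd : topologicalKrullDim ↥(closure ({x} : Set X)) = n
      · by_cases hxC : x ∈ C
        · exfalso
          have h1 : closure ({x} : Set X) = closure {y} :=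
            Groth.Agent.Lib.helper8.DimLt.closure_eq_of_dim C.isClosed hCirr hCdim hxC hd
          have h2 : x ⤳ y := specializes_iff_closure_subset.mpr h1.ge
          have h3 : y ⤳ x := specializes_iff_closure_subset.mpr h1.le
          exact hxy (h2.antisymm h3).eq
        · simp only [term, if_pos hd]
          rw [Groth.Agent.Lib.helper8.StalkLen.length_stalk_OC_of_notMem C x hxC]
          simp
      · simp only [term, if_neg hd]
    have hsum : finsum (term (Groth.Agent.Lib.helper8.Dev.OC C)) =
        term (Groth.Agent.Lib.helper8.Dev.OC C) y :=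
      finsum_eq_single _ y hoff
    rw [hsum]
    by_cases hd : topologicalKrullDim ↥(closure ({y} : Set X)) = n
    · have h1 : term (Groth.Agent.Lib.helper8.Dev.OC C) y =
          KZero.clSub Q (Groth.Agent.Lib.helper8.Dev.OC C) := by
        simp only [term, if_pos hd]
        rw [Groth.Agent.Lib.helper8.StalkLen.length_stalk_OC_generic C y rfl, hOC]
        simp
        rfl
      rw [h1, sub_self]
      exact S.zero_mem
    · have h1 : term (Groth.Agent.Lib.helper8.Dev.OC C) y = 0 := by
        simp only [term, if_neg hd]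
      rw [h1, sub_zero]
      refine AddSubgroup.subset_closure ⟨Groth.Agent.Lib.helper8.Dev.OC C,
        Groth.Agent.Lib.helper8.Dev.isCoh_OC C, ?_, rfl⟩
      rw [Groth.Agent.Lib.helper8.Dev.support_OC]
      exact lt_of_le_of_ne hCdim hd

end Groth.Agent.S5642
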