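import Groth.Statements.S5643
import Groth.Agent.Lib.Helper8.DevK0b

set_option autoImplicit false
universe u
open CategoryTheory CategoryTheory.Limits AlgebraicGeometry
open Classical
open SGA6

namespace Groth.Agent.S5643

/-- Let X be a Noetherian scheme and K the Grothendieck group of coherent O_X-modules. For every n, the
subgroup of K generated by the classes of coherent modules whose support has dimension ≤ n coincides
with the subgroup generated by the classes [O_Z] of the structure sheaves (as O_X-modules) of the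
integral closed subschemes Z ⊆ X of dimension ≤ n, Z running over the reduced closures of points of
X. -/
theorem result (X : Scheme.{u}) [IsNoetherian X] (n : ℕ) :
    AddSubgroup.closure {c : KZero.K0sub (fun M : X.Modules => Coh.IsCoh M) |
        ∃ G : X.Modules, Coh.IsCoh G ∧ topologicalKrullDim ↥(CohB1.support G) ≤ n ∧ c = KZero.clSub (fun M : X.Modules => Coh.IsCoh M) G} =
      AddSubgroup.closure {c : KZero.K0sub (fun M : X.Modules => Coh.IsCoh M) |
        ∃ x : ↥X, topologicalKrullDim ↥(closure ({x} : Set ↥X)) ≤ n ∧ c = KZero.clSub (fun M : X.Modules => Coh.IsCoh M) (Cyc.closureStructureSheaf x)} := by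
  let Q : ObjectProperty X.Modules := fun M : X.Modules => Coh.IsCoh M
  have hQ0 : ∀ N : X.Modules, IsZero N → Q N :=
    fun N hN => Groth.Agent.Lib.helper7.CohKer.isCoh_of_isZero hN
  have hQiso : ∀ M N : X.Modules, (M ≅ N) → Q M → Q N :=
    fun M N e hM => Groth.Agent.Lib.helper7.CohKer.isCoh_of_iso e hM
  have hOC : ∀ x : X, Cyc.closureStructureSheaf x =
      Groth.Agent.Lib.helper8.Dev.OC ⟨closure {x}, isClosed_closure⟩ := fun x => rfl
  have hdim : ∀ {A B : Set X}, A ⊆ B → topologicalKrullDim ↥A ≤ topologicalKrullDim ↥B :=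
    fun h => (Topology.IsEmbedding.inclusion h).toIsInducing.topologicalKrullDim_le
  apply le_antisymm
  · rw [AddSubgroup.closure_le]
    rintro c ⟨G, hG, hGd, rfl⟩
    let S : AddSubgroup (KZero.K0sub Q) := AddSubgroup.closure
      {c : KZero.K0sub Q | ∃ x : ↥X, topologicalKrullDim ↥(closure ({x} : Set ↥X)) ≤ n ∧
        c = KZero.clSub Q (Cyc.closureStructureSheaf x)}
    show KZero.clSub Q G ∈ S
    refine Groth.Agent.Lib.helper8.Dev.devissage_master_OC (fun M => KZero.clSub Q M ∈ S) ?_
      (CohB1.support G) ?_ ?_ ?_ G hG (le_refl _)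
    · rintro M N ⟨e⟩ hM
      show KZero.clSub Q N ∈ S
      rw [← Groth.Agent.Lib.helper8.Dev.clSub_iso Q hQ0 hQiso e]
      exact hM
    · intro N hN
      show KZero.clSub Q N ∈ S
      rw [Groth.Agent.Lib.helper8.Dev.clSub_zero Q hQ0 N hN]
      exact S.zero_mem
    · intro T hT h1 h2 h3 _
      have h := Groth.Agent.Lib.helper8.Dev.clSub_rel Q T hT h1 h2 h3
      refine ⟨fun ha hb => ?_, fun ha hc => ?_, fun hb hc => ?_⟩
      · have : KZero.clSub Q T.X₃ = KZero.clSub Q T.X₂ - KZero.clSub Q T.X₁ := by
          rw [h]; abel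
        show KZero.clSub Q T.X₃ ∈ S
        rw [this]
        exact S.sub_mem hb ha
      · show KZero.clSub Q T.X₂ ∈ S
        rw [h]
        exact S.add_mem ha hc
      · have : KZero.clSub Q T.X₁ = KZero.clSub Q T.X₂ - KZero.clSub Q T.X₃ := by
          rw [h]; abel
        show KZero.clSub Q T.X₁ ∈ S
        rw [this]
        exact S.sub_mem hb hc
    · intro Z i hi hZ hrange
      have hcl : closure {i (genericPoint Z)} = Set.range ⇑i := by
        have h1 : closure {genericPoint Z} = (Set.univ : Set Z) := genericPoint_spec Z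
        rw [← Set.image_singleton, i.isClosedEmbedding.closure_image_eq, h1, Set.image_univ]
      refine ⟨⟨closure {i (genericPoint Z)}, isClosed_closure⟩, hcl, ?_⟩
      refine AddSubgroup.subset_closure ⟨i (genericPoint Z), ?_, ?_⟩
      · refine le_trans (hdim ?_) hGd
        rw [hcl]
        exact hrange
      · rw [hOC]
  · refine AddSubgroup.closure_mono ?_
    rintro c ⟨x, hx, rfl⟩
    refine ⟨Cyc.closureStructureSheaf x, ?_, ?_, rfl⟩
    · rw [hOC]
      exact Groth.Agent.Lib.helper8.Dev.isCoh_OC _
    · rw [hOC, Groth.Agent.Lib.helper8.Dev.support_OC]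
      exact hx

end Groth.Agent.S5643
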