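import Groth.Statements.S5656
import Mathlib
-- import your own Groth.Agent.* helpers here

set_option autoImplicit false
universe u
open W4sga6xxiii

namespace Groth.Agent.S5656

open Polynomial in
/-- integer-valued on `ℤ` -/
def IntVal (Q : ℚ[X]) : Prop := ∀ t : ℤ, ∃ z : ℤ, Q.eval (t : ℚ) = z

open Polynomial in
lemma lemmaA (j : ℕ) : ∃ B : ℚ[X], ∀ t : ℤ, B.eval (t : ℚ) = ((Ring.choose t j : ℤ) : ℚ) := by
  refine ⟨C (1 / (j.factorial : ℚ)) * (descPochhammer ℤ j).map (Int.castRingHom ℚ), fun t => ?_⟩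
  rw [eval_mul, eval_C, eval_intCast_map, eval_eq_smeval, Ring.descPochhammer_eq_factorial_smul_choose]
  have : (j.factorial : ℚ) ≠ 0 := by exact_mod_cast Nat.factorial_ne_zero j
  simp only [nsmul_eq_mul, eq_intCast, Int.cast_mul, Int.cast_natCast, Int.cast_id]
  field_simp

open Polynomial in
lemma lemmaD (R : ℚ[X]) (hR : IntVal R) :
    ∃ z : ℤ, (R.natDegree.factorial : ℚ) * R.leadingCoeff = z := by
  have h1 := congr_fun (Polynomial.fwdDiff_iter_degree_eq_factorial R) 0
  rw [fwdDiff_iter_eq_sum_shift] at h1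
  choose zf hzf using hR
  refine ⟨∑ k ∈ Finset.range (R.natDegree + 1),
    ((-1 : ℤ) ^ (R.natDegree - k) * (R.natDegree.choose k : ℤ)) * zf k, ?_⟩
  have h2 : (R.leadingCoeff • (R.natDegree.factorial : ℚ → ℚ)) 0 =
      (R.natDegree.factorial : ℚ) * R.leadingCoeff := by
    simp [mul_comm]
  rw [← h2, ← h1]
  push_cast
  refine Finset.sum_congr rfl fun k _ => ?_
  have : (0 : ℚ) + k • (1 : ℚ) = ((k : ℤ) : ℚ) := by simp
  rw [this, hzf]
  simp [zsmul_eq_mul]

open Polynomial in
lemma core (p : ℕ) (hp : 2 ≤ p) (H : ℚ[X])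
    (hH : ∀ e : ℕ, ∃ R : ℚ[X], IntVal R ∧ ∀ t : ℤ, R.eval ((p : ℚ) ^ e * t) = H.eval (t : ℚ)) :
    H.natDegree = 0 := by
  by_contra hD
  have hp0 : (p : ℚ) ≠ 0 := by
    have : 0 < p := by omega
    exact_mod_cast this.ne'
  have key : ∀ e : ℕ, ∃ z : ℤ,
      (H.natDegree.factorial : ℚ) * H.leadingCoeff = (p : ℚ) ^ (e * H.natDegree) * z := by
    intro e
    obtain ⟨R, hRint, hR⟩ := hH e
    have hcomp : R.comp (C ((p : ℚ) ^ e) * X) = H := by
      apply Polynomial.eq_of_infinite_eval_eq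
      apply Set.infinite_of_injective_forall_mem (f := fun t : ℤ => (t : ℚ)) Int.cast_injective
      intro t
      simp [hR t]
    have hq : (C ((p : ℚ) ^ e) * X).natDegree = 1 := natDegree_C_mul_X _ (pow_ne_zero _ hp0)
    have hdeg : R.natDegree = H.natDegree := by
      conv_rhs => rw [← hcomp, natDegree_comp, hq, mul_one]
    have hlead : H.leadingCoeff = R.leadingCoeff * ((p : ℚ) ^ e) ^ H.natDegree := by
      conv_lhs => rw [← hcomp, leadingCoeff_comp (by rw [hq]; exact one_ne_zero)]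
      rw [hdeg, leadingCoeff_mul, leadingCoeff_C, leadingCoeff_X, mul_one]
    obtain ⟨z, hz⟩ := lemmaD R hRint
    refine ⟨z, ?_⟩
    rw [hlead, ← hz, hdeg, pow_mul]
    ring
  obtain ⟨z0, hz0⟩ := key 0
  have hz0ne : z0 ≠ 0 := by
    rintro rfl
    have hH0 : H ≠ 0 := by
      rintro rfl
      simp at hD
    have : (H.natDegree.factorial : ℚ) ≠ 0 := by exact_mod_cast Nat.factorial_ne_zero _
    have hl : H.leadingCoeff ≠ 0 := leadingCoeff_ne_zero.mpr hH0
    simp at hz0
    rcases hz0 with h | h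
    · exact Nat.factorial_ne_zero _ h
    · exact hH0 h
  obtain ⟨z, hz⟩ := key z0.natAbs
  rw [hz0] at hz
  simp only [zero_mul, pow_zero, one_mul] at hz
  have hz' : z0 = (p : ℤ) ^ (z0.natAbs * H.natDegree) * z := by exact_mod_cast hz
  have hdvd : (p : ℤ) ^ (z0.natAbs * H.natDegree) ∣ z0 := ⟨z, hz'⟩
  have hle := Int.le_of_dvd (Int.natAbs_pos.mpr hz0ne |> fun h => by exact_mod_cast h) 
    ((Int.dvd_natAbs).mpr hdvd)
  have hlt : (z0.natAbs : ℤ) < (p : ℤ) ^ (z0.natAbs * H.natDegree) := by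
    have h1 : z0.natAbs < 2 ^ z0.natAbs := Nat.lt_two_pow_self
    have h2 : 2 ^ z0.natAbs ≤ p ^ z0.natAbs := Nat.pow_le_pow_left hp _
    have h3 : p ^ z0.natAbs ≤ p ^ (z0.natAbs * H.natDegree) :=
      Nat.pow_le_pow_right (by omega) (Nat.le_mul_of_pos_right _ (Nat.pos_of_ne_zero hD))
    exact_mod_cast lt_of_lt_of_le h1 (h2.trans h3)
  omega

open Polynomial in
lemma lemmaB {G : Type*} [AddCommGroup G] (f : G → ℚ) (hf : W4sga6xxiii.IsPolyMap f) (a w : G) :
    ∃ Q : ℚ[X], ∀ u : ℤ, f (a + u • w) = Q.eval (u : ℚ) := by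
  obtain ⟨m, y, -, hy⟩ := hf 2 ![a, w]
  choose B hB using lemmaA
  refine ⟨∑ k : Fin 2 → Fin (m + 1),
    C (((Ring.choose (1 : ℤ) (k 0 : ℕ) : ℤ) : ℚ) * y k) * B (k 1), fun u => ?_⟩
  have := hy ![1, u]
  simp only [Fin.sum_univ_two, Fin.prod_univ_two, Matrix.cons_val_zero, Matrix.cons_val_one,
    one_smul] at this
  rw [this, eval_finsetSum]
  refine Finset.sum_congr rfl fun k _ => ?_
  rw [eval_mul, eval_C, hB]
  simp only [zsmul_eq_mul, Int.cast_mul]
  ring

/-- Let G be an abelian group and G' ⊆ G a subgroup which is divisible by some prime number p (every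
element of G' is p times an element of G') and such that G/G' is a torsion group. Then every
polynomial map f : G → ℚ (admitting binomial expansions f(Σ n_i x_i) = Σ_k Π_i C(n_i, k_i) y_k along
every finite sequence x) which takes only integer values is constant. -/
theorem result {G : Type u} [AddCommGroup G] (G' : AddSubgroup G)
    (p : ℕ) (hp : p.Prime) (hdiv : ∀ x ∈ G', ∃ y ∈ G', p • y = x) (htor : ∀ x : G, ∃ n : ℤ, n ≠ 0 ∧ n • x ∈ G')
    (f : G → ℚ) (hf : W4sga6xxiii.IsPolyMap f) (hint : ∀ x, ∃ z : ℤ, f x = z) (x : G) : f x = f 0 := by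
  classical
  -- Step A: `f` is invariant under translation by `G'`
  have stepA : ∀ a : G, ∀ g ∈ G', f (a + g) = f a := by
    intro a g hg
    obtain ⟨H, hH⟩ := lemmaB f hf a g
    have hdeg : H.natDegree = 0 := by
      apply core p hp.two_le H
      intro e
      have hw : ∀ e : ℕ, ∃ w ∈ G', (p ^ e) • w = g := by
        intro e
        induction e with
        | zero => exact ⟨g, hg, by simp⟩
        | succ e ih =>
          obtain ⟨w, hw, hwe⟩ := ih
          obtain ⟨w', hw', hpw⟩ := hdiv w hw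
          exact ⟨w', hw', by rw [pow_succ, mul_smul, hpw, hwe]⟩
      obtain ⟨w, hw, hwe⟩ := hw e
      obtain ⟨R, hR⟩ := lemmaB f hf a w
      refine ⟨R, fun t => ?_, fun t => ?_⟩
      · obtain ⟨z, hz⟩ := hint (a + t • w)
        exact ⟨z, by rw [← hR, hz]⟩
      · have h1 := hR ((p : ℤ) ^ e * t)
        push_cast at h1
        rw [← h1, ← hH]
        congr 2
        rw [mul_comm, mul_smul, ← hwe]
        congr 1
        norm_cast
    have h1 := hH 1
    have h0 := hH 0
    rw [Polynomial.eq_C_of_natDegree_eq_zero hdeg] at h1 h0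
    simp only [one_smul, zero_smul, add_zero, Polynomial.eval_C] at h1 h0
    rw [h1, h0]
  -- Step B: periodicity along `x`
  obtain ⟨n, hn0, hn⟩ := htor x
  obtain ⟨Pq, hPq⟩ := lemmaB f hf 0 x
  have hper : ∀ t : ℤ, Pq.eval ((t + n : ℤ) : ℚ) = Pq.eval (t : ℚ) := by
    intro t
    rw [← hPq, ← hPq, add_smul, ← add_assoc, stepA _ _ hn]
  have hmul : ∀ k : ℕ, Pq.eval (((k : ℤ) * n : ℤ) : ℚ) = Pq.eval (0 : ℚ) := by
    intro k
    induction k with
    | zero => simp
    | succ k ih =>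
      have := hper ((k : ℤ) * n)
      rw [← ih, ← this]
      congr 2
      push_cast
      ring
  have hconst : Pq = Polynomial.C (Pq.eval (0 : ℚ)) := by
    apply Polynomial.eq_of_infinite_eval_eq
    apply Set.infinite_of_injective_forall_mem (f := fun k : ℕ => (((k : ℤ) * n : ℤ) : ℚ))
    · intro k k' h
      have h'' : (((k : ℤ) * n : ℤ) : ℚ) = (((k' : ℤ) * n : ℤ) : ℚ) := h
      have h' : (k : ℤ) * n = (k' : ℤ) * n := by exact_mod_cast h''
      exact_mod_cast mul_right_cancel₀ hn0 h'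
    · intro k
      show Pq.eval _ = (Polynomial.C (Pq.eval (0 : ℚ))).eval _
      rw [Polynomial.eval_C]
      exact hmul k
  have h1 := hPq 1
  have h0 := hPq 0
  rw [hconst] at h1 h0
  simp only [one_smul, zero_smul, add_zero, zero_add, Polynomial.eval_C] at h1 h0
  rw [h1, h0]

end Groth.Agent.S5656
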