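import Groth.Statements.S5657
import Mathlib
-- import your own Groth.Agent.* helpers here

set_option autoImplicit false
universe u
open TensorProduct
open W4sga6xxiii

namespace Groth.Agent.S5657

lemma key {A : Type*} [CommRing A] (u : Aˣ) (m : ℕ) (hz : ((u : A) - 1) ^ (m + 1) = 0) (n : ℤ) :
    ((u ^ n : Aˣ) : A) = ∑ j ∈ Finset.range (m + 1), (Ring.choose n j) • ((u : A) - 1) ^ j := by
  set z := (u : A) - 1 with hzdef
  have hu : (u : A) = 1 + z := by simp [hzdef]
  have hstep : ∀ n : ℤ, (∑ j ∈ Finset.range (m + 1), (Ring.choose (n + 1) j) • z ^ j) =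
      (u : A) * ∑ j ∈ Finset.range (m + 1), (Ring.choose n j) • z ^ j := by
    intro n
    rw [hu, add_mul, one_mul, Finset.sum_range_succ', Finset.mul_sum]
    conv_rhs =>
      rw [Finset.sum_range_succ' (fun j => (Ring.choose n j) • z ^ j),
        Finset.sum_range_succ (fun j => z * (Ring.choose n j) • z ^ j)]
    have h1 : z * Ring.choose n m • z ^ m = 0 := by
      rw [mul_smul_comm, ← pow_succ', hz, smul_zero]
    rw [h1, add_zero]
    simp only [Ring.choose_succ_succ, Ring.choose_zero_right, pow_zero, add_smul, Finset.sum_add_distrib,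
      mul_smul_comm, ← pow_succ']
    abel
  have h0 : (∑ j ∈ Finset.range (m + 1), (Ring.choose (0 : ℤ) j) • z ^ j) = 1 := by
    rw [Finset.sum_range_succ', Finset.sum_eq_zero]
    · simp
    · intro j _
      rw [Ring.choose_zero_succ, zero_smul]
  induction n using Int.induction_on with
  | zero => rw [zpow_zero, Units.val_one, h0]
  | succ n ih =>
    rw [hstep, ← ih, zpow_add_one, Units.val_mul, mul_comm]
  | pred n ih =>
    have := hstep (-(n : ℤ) - 1)
    rw [sub_add_cancel, ← ih] at this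
    have h2 : ((u ^ (-(n : ℤ) - 1) : Aˣ) : A) = ((u⁻¹ : Aˣ) : A) * ((u ^ (-(n : ℤ)) : Aˣ) : A) := by
      rw [← Units.val_mul, ← zpow_neg_one, ← zpow_add]; congr 2; ring
    rw [h2, this, ← mul_assoc, ← Units.val_mul, inv_mul_cancel, Units.val_one, one_mul]

/-- Let A be a commutative ring, I an ideal of A with I^{m+1} = 0, and P ⊆ Aˣ the subgroup of units of
the form 1 + y with y ∈ I. Then the map P → A ⊗_ℤ ℚ, x ↦ x ⊗ 1, is a polynomial map of degree ≤ m on
the abelian group P (written additively): along every finite sequence x_1, …, x_r in P one has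
x_1^{n_1}⋯x_r^{n_r} ⊗ 1 = Σ_k Π_i C(n_i, k_i) y_k with y_k = 0 whenever k_1 + ⋯ + k_r > m. -/
theorem result (A : Type u) [CommRing A] (I : Ideal A) (m : ℕ) (hI : I ^ (m + 1) = ⊥)
    (P : Subgroup Aˣ) (hP : ∀ u : Aˣ, u ∈ P ↔ (u : A) - 1 ∈ I) :
    W4sga6xxiii.IsPolyMapLE (fun u : Additive P => (((Additive.toMul u : P) : Aˣ) : A) ⊗ₜ[ℤ] (1 : ℚ)) m := by
  intro r x
  -- z i = x i - 1 ∈ I
  let z : Fin r → A := fun i => (((Additive.toMul (x i) : P) : Aˣ) : A) - 1
  have hzI : ∀ i, z i ∈ I := fun i => (hP _).1 (Additive.toMul (x i) : P).2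
  have hIpow : ∀ (a : A) (N : ℕ), m + 1 ≤ N → a ∈ I ^ N → a = 0 := by
    intro a N hN ha
    have : a ∈ I ^ (m + 1) := Ideal.pow_le_pow_right hN ha
    rw [hI] at this
    simpa using this
  have hzpow : ∀ i, z i ^ (m + 1) = 0 := fun i =>
    hIpow _ (m + 1) le_rfl (Ideal.pow_mem_pow (hzI i) _)
  refine ⟨fun k => (∏ i, z i ^ (k i : ℕ)) ⊗ₜ[ℤ] (1 : ℚ), ?_, ?_⟩
  · intro k hk
    have : (∏ i, z i ^ (k i : ℕ)) = 0 := by
      apply hIpow _ (∑ i, (k i : ℕ)) hk
      rw [← Finset.prod_pow_eq_pow_sum]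
      exact Ideal.prod_mem_prod fun i _ => Ideal.pow_mem_pow (hzI i) _
    show (∏ i, z i ^ (k i : ℕ)) ⊗ₜ[ℤ] (1 : ℚ) = 0
    rw [this, TensorProduct.zero_tmul]
  · intro n
    have hsum : (((Additive.toMul (∑ i, n i • x i) : P) : Aˣ) : A) =
        ∏ i, ((((Additive.toMul (x i) : P) : Aˣ) ^ (n i) : Aˣ) : A) := by
      rw [toMul_sum]
      simp only [toMul_zsmul]
      rw [Subgroup.val_finsetProd, Units.coe_prod]
      simp
    show (((Additive.toMul (∑ i, n i • x i) : P) : Aˣ) : A) ⊗ₜ[ℤ] (1 : ℚ) = _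
    rw [hsum]
    have hprod : ∏ i, ((((Additive.toMul (x i) : P) : Aˣ) ^ (n i) : Aˣ) : A) =
        ∑ k : Fin r → Fin (m + 1), (∏ i, Ring.choose (n i) (k i : ℕ)) • ∏ i, z i ^ (k i : ℕ) := by
      have : ∀ i, ((((Additive.toMul (x i) : P) : Aˣ) ^ (n i) : Aˣ) : A) =
          ∑ j : Fin (m + 1), (Ring.choose (n i) (j : ℕ)) • z i ^ (j : ℕ) := by
        intro i
        rw [key _ m (hzpow i) (n i), Fin.sum_univ_eq_sum_range (fun j => Ring.choose (n i) j • z i ^ j)]
      simp only [this]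
      rw [Finset.prod_univ_sum]
      simp only [Fintype.piFinset_univ]
      refine Finset.sum_congr rfl fun k _ => ?_
      simp only [zsmul_eq_mul]
      rw [Finset.prod_mul_distrib]
      push_cast
      rfl
    rw [hprod, TensorProduct.sum_tmul]
    refine Finset.sum_congr rfl fun k _ => ?_
    rw [TensorProduct.smul_tmul']

end Groth.Agent.S5657
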