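import Groth.Statements.S5658
import Mathlib
import Groth.Agent.Lib.Helper15.GLChar

set_option autoImplicit false
universe u
universe v
set_option linter.style.haveILetI false
open CAlg

namespace Groth.Agent.S5658

open Groth.Agent.Lib.helper15.GLChar

section Hom

variable {ι : Type} [Fintype ι] [DecidableEq ι] {B : Type u} [CommRing B] {H : Type v} [CommGroup H]
  (χ : Matrix.GeneralLinearGroup ι B →* H)

theorem hom_conj_eq (d g h : Matrix.GeneralLinearGroup ι B) (hd : d * g = h * d) : χ g = χ h := by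
  have := congrArg χ hd
  rw [map_mul, map_mul, mul_comm] at this
  exact mul_right_cancel this

theorem hom_unip_eq_one (t t1 : Bˣ) (ht : (t1 : B) = (t : B) - 1)
    (N : Matrix ι ι B) (hN : N * N = 0) (w : ι → Bool)
    (hw : ∀ i j, N i j = 0 ∨ (w i = true ∧ w j = false)) :
    χ (unipGL N hN) = 1 := by
  classical
  set c : B := ((t1⁻¹ : Bˣ) : B) with hc
  set N' : Matrix ι ι B := c • N with hN'def
  have hN' : N' * N' = 0 := by
    rw [hN'def, Matrix.smul_mul, Matrix.mul_smul, hN, smul_zero, smul_zero]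
  set N'' : Matrix ι ι B := (t : B) • N' with hN''def
  have hN'' : N'' * N'' = 0 := by
    rw [hN''def, Matrix.smul_mul, Matrix.mul_smul, hN', smul_zero, smul_zero]
  set D : Matrix.GeneralLinearGroup ι B := diagGL (fun i => if w i = true then t else 1) with hD
  have hconj : D * unipGL N' hN' = unipGL N'' hN'' * D := by
    apply GL_ext
    change Matrix.diagonal _ * (1 + N') = (1 + N'') * Matrix.diagonal _
    rw [mul_add, add_mul, mul_one, one_mul]
    congr 1
    refine Matrix.ext fun i k => ?_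
    rw [Matrix.diagonal_mul, Matrix.mul_diagonal, hN''def, Matrix.smul_apply, smul_eq_mul]
    rcases hw i k with h | ⟨h1, h2⟩
    · rw [hN'def, Matrix.smul_apply, h, smul_zero, mul_zero, mul_zero, zero_mul]
    · simp only [h1, h2, if_true, Bool.false_eq_true, if_false, Units.val_one, mul_one]
  have h1 := hom_conj_eq χ D _ _ hconj
  have hsplit : unipGL N'' hN'' = unipGL N' hN' * unipGL N hN := by
    apply GL_ext
    change 1 + N'' = (1 + N') * (1 + N)
    have hcN : N' * N = 0 := by
      rw [hN'def, Matrix.smul_mul, hN, smul_zero]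
    have hNN : N = ((t : B) - 1) • N' := by
      rw [hN'def, smul_smul, ← ht, hc, Units.mul_inv, one_smul]
    rw [add_mul, one_mul, mul_add, mul_one, hcN, add_zero, hN''def]
    conv_rhs => rw [hNN]
    rw [sub_smul, one_smul]
    abel
  rw [hsplit, map_mul] at h1
  exact (mul_eq_left.1 h1.symm)

theorem hom_diag_perm (d : ι → Bˣ) (τ : Equiv.Perm ι) : χ (diagGL d) = χ (diagGL (d ∘ τ)) := by
  apply hom_conj_eq χ (permGL B τ⁻¹)
  apply GL_ext
  change (τ⁻¹⁻¹ : Equiv.Perm ι).toPEquiv.toMatrix * Matrix.diagonal _ =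
    Matrix.diagonal _ * (τ⁻¹⁻¹ : Equiv.Perm ι).toPEquiv.toMatrix
  rw [inv_inv, PEquiv.toMatrix_toPEquiv_mul, PEquiv.mul_toMatrix_toPEquiv]
  refine Matrix.ext fun i k => ?_
  rw [Matrix.submatrix_apply, Matrix.submatrix_apply, id, id, Matrix.diagonal_apply,
    Matrix.diagonal_apply]
  by_cases h : τ i = k
  · rw [if_pos h, if_pos (by rw [← h, Equiv.symm_apply_apply])]
    rfl
  · rw [if_neg h, if_neg (fun h' => h (by rw [h', Equiv.apply_symm_apply]))]

theorem hom_diag_eq_one (d : ι → Bˣ) (hd : ∏ i, d i = 1) : χ (diagGL d) = 1 := by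
  classical
  rcases isEmpty_or_nonempty ι with hι | ⟨⟨i0⟩⟩
  · have : diagGL d = 1 := by
      apply GL_ext
      exact Subsingleton.elim _ _
    rw [this, map_one]
  · have h1 : ∀ (i : ι) (a : Bˣ), χ (diagGL (Pi.mulSingle i a)) = χ (diagGL (Pi.mulSingle i0 a)) := by
      intro i a
      rw [hom_diag_perm χ (Pi.mulSingle i a) (Equiv.swap i i0)]
      congr 2
      funext j
      rw [Function.comp_apply, Pi.mulSingle_apply, Pi.mulSingle_apply]
      by_cases hj : j = i0
      · subst hj
        rw [Equiv.swap_apply_right, if_pos rfl, if_pos rfl]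
      · rw [if_neg hj, if_neg]
        intro h
        apply hj
        rw [Equiv.swap_apply_eq_iff, Equiv.swap_apply_left] at h
        exact h
    set ψ : (ι → Bˣ) →* H := χ.comp (diagHom ι B) with hψ
    have hψd : ∀ e : ι → Bˣ, χ (diagGL e) = ψ e := fun e => rfl
    have h2 : d = ∏ i, Pi.mulSingle i (d i) := (Finset.univ_prod_mulSingle d).symm
    rw [hψd, h2, map_prod]
    have h3 : ∀ i ∈ Finset.univ, ψ (Pi.mulSingle i (d i)) =
        ψ (MonoidHom.mulSingle (fun _ : ι => Bˣ) i0 (d i)) := by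
      intro i _
      exact h1 i (d i)
    rw [Finset.prod_congr rfl h3, ← map_prod, ← map_prod, hd, map_one, map_one]

end Hom


section Trans

variable {ι : Type} [Fintype ι] [DecidableEq ι]

theorem map_map_eq {A A1 A2 : Type u} [CommRing A] [CommRing A1] [CommRing A2] [Algebra A A1]
    [Algebra A1 A2] [Algebra A A2] [IsScalarTower A A1 A2] (g : Matrix.GeneralLinearGroup ι A) :
    Matrix.GeneralLinearGroup.map (algebraMap A A2) g =
      Matrix.GeneralLinearGroup.map (algebraMap A1 A2)
        (Matrix.GeneralLinearGroup.map (algebraMap A A1) g) := by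
  apply GL_ext
  refine Matrix.ext fun i k => ?_
  rw [Matrix.GeneralLinearGroup.map_apply, Matrix.GeneralLinearGroup.map_apply,
    Matrix.GeneralLinearGroup.map_apply, ← IsScalarTower.algebraMap_apply]

theorem trans_aux {A : Type u} [CommRing A] (p : Ideal A) (A1 : Type u) [CommRing A1] [Algebra A A1]
    [Algebra.Etale A A1] (q1 : PrimeSpectrum A1)
    (hq1 : q1.asIdeal.comap (algebraMap A A1) = p) (g : Matrix.GeneralLinearGroup ι A)
    (P : ∀ (A' : Type u) [CommRing A'], Matrix.GeneralLinearGroup ι A' → Prop)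
    (h : ∃ (A2 : Type u) (_ : CommRing A2) (_ : Algebra A1 A2), Algebra.Etale A1 A2 ∧
      (∃ q2 : PrimeSpectrum A2, q2.asIdeal.comap (algebraMap A1 A2) = q1.asIdeal) ∧
      P A2 (Matrix.GeneralLinearGroup.map (algebraMap A1 A2)
        (Matrix.GeneralLinearGroup.map (algebraMap A A1) g))) :
    ∃ (A2 : Type u) (_ : CommRing A2) (_ : Algebra A A2), Algebra.Etale A A2 ∧
      (∃ q2 : PrimeSpectrum A2, q2.asIdeal.comap (algebraMap A A2) = p) ∧
      P A2 (Matrix.GeneralLinearGroup.map (algebraMap A A2) g) := by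
  obtain ⟨A2, _, _, hE, ⟨q2, hq2⟩, hP⟩ := h
  letI alg : Algebra A A2 := ((algebraMap A1 A2).comp (algebraMap A A1)).toAlgebra
  haveI : IsScalarTower A A1 A2 := IsScalarTower.of_algebraMap_eq (fun _ => rfl)
  refine ⟨A2, _, alg, Algebra.Etale.comp A A1 A2, ⟨q2, ?_⟩, ?_⟩
  · rw [IsScalarTower.algebraMap_eq A A1 A2, ← Ideal.comap_comap, hq2, hq1]
  · rw [map_map_eq (A1 := A1)]
    exact hP

end Trans


section Step

/-- the claim: étale locally around a prime, every element of `GL` is diagonal modulo commutators. -/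
def Claim (ι : Type) [Fintype ι] [DecidableEq ι] : Prop :=
  ∀ (A : Type u) [CommRing A] (t t1 : Aˣ) (_ : (t1 : A) = (t : A) - 1)
    (g : Matrix.GeneralLinearGroup ι A) (p : PrimeSpectrum A),
    ∃ (A' : Type u) (_ : CommRing A') (_ : Algebra A A'), Algebra.Etale A A' ∧
      (∃ q : PrimeSpectrum A', q.asIdeal.comap (algebraMap A A') = p.asIdeal) ∧
      ∃ d : ι → A'ˣ, Abelianization.of (Matrix.GeneralLinearGroup.map (algebraMap A A') g) =
        Abelianization.of (diagGL d)

variable {κ : Type} [Fintype κ] [DecidableEq κ]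

theorem map_blockHom {B C : Type u} [CommRing B] [CommRing C] (f : B →+* C)
    (S : Matrix.GeneralLinearGroup κ B) :
    Matrix.GeneralLinearGroup.map f (blockHom B S) =
      blockHom C (Matrix.GeneralLinearGroup.map f S) := by
  apply GL_ext
  refine Matrix.ext fun i k => ?_
  rw [Matrix.GeneralLinearGroup.map_apply]
  rcases i with i | i <;> rcases k with k | k
  · rw [blockHom_val, blockHom_val, Matrix.fromBlocks_apply₁₁, Matrix.fromBlocks_apply₁₁]
    simp
  · rw [blockHom_val, blockHom_val, Matrix.fromBlocks_apply₁₂, Matrix.fromBlocks_apply₁₂]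
    simp
  · rw [blockHom_val, blockHom_val, Matrix.fromBlocks_apply₂₁, Matrix.fromBlocks_apply₂₁]
    simp
  · rw [blockHom_val, blockHom_val, Matrix.fromBlocks_apply₂₂, Matrix.fromBlocks_apply₂₂,
      Matrix.GeneralLinearGroup.map_apply]

theorem blockHom_diagGL {B : Type u} [CommRing B] (d : κ → Bˣ) :
    blockHom B (diagGL d) = diagGL (Sum.elim (fun _ => 1) d) := by
  apply GL_ext
  change Matrix.fromBlocks 1 0 0 (Matrix.diagonal _) = Matrix.diagonal _
  rw [← Matrix.diagonal_one, Matrix.fromBlocks_diagonal]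
  congr 1
  funext i
  rcases i with i | i <;> simp

theorem schur_decomp {B : Type u} [CommRing B] (g : Matrix.GeneralLinearGroup (Unit ⊕ κ) B)
    (hg : IsUnit ((g : Matrix (Unit ⊕ κ) (Unit ⊕ κ) B) (Sum.inl ()) (Sum.inl ()))) :
    ∃ (X : Matrix κ Unit B) (Y : Matrix Unit κ B) (a : Bˣ) (S : Matrix.GeneralLinearGroup κ B),
      g = unipGL _ (lowerN_sq X) *
        (diagGL (Sum.elim (fun _ => a) (fun _ => 1)) * blockHom B S) * unipGL _ (upperN_sq Y) := by
  classical
  set M : Matrix (Unit ⊕ κ) (Unit ⊕ κ) B := g.val with hM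
  set A := M.toBlocks₁₁ with hA
  set Bm := M.toBlocks₁₂ with hBm
  set C := M.toBlocks₂₁ with hC
  set D := M.toBlocks₂₂ with hD
  have hMeq : M = Matrix.fromBlocks A Bm C D := (Matrix.fromBlocks_toBlocks M).symm
  have hAu : IsUnit A := by
    rw [Matrix.isUnit_iff_isUnit_det, Matrix.det_unique]
    exact hg
  letI : Invertible A := hAu.invertible
  have hschur := Matrix.fromBlocks_eq_of_invertible₁₁ A Bm C D
  have hMu : IsUnit (Matrix.fromBlocks A Bm C D) := by
    rw [← hMeq]
    exact g.isUnit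
  have hSu : IsUnit (D - C * ⅟A * Bm) := Matrix.isUnit_fromBlocks_iff_of_invertible₁₁.1 hMu
  set au : Bˣ := hg.unit with hau
  refine ⟨C * ⅟A, ⅟A * Bm, au, hSu.unit, ?_⟩
  apply GL_ext
  change M = (1 + Matrix.fromBlocks 0 0 (C * ⅟A) 0) *
    (Matrix.diagonal _ * Matrix.fromBlocks 1 0 0 (D - C * ⅟A * Bm)) *
    (1 + Matrix.fromBlocks 0 (⅟A * Bm) 0 0)
  rw [hMeq, hschur]
  have e1 : ∀ X : Matrix κ Unit B, (1 : Matrix (Unit ⊕ κ) (Unit ⊕ κ) B) +
      Matrix.fromBlocks 0 0 X 0 = Matrix.fromBlocks 1 0 X 1 := by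
    intro X
    rw [← Matrix.fromBlocks_one, Matrix.fromBlocks_add]
    simp
  have e2 : ∀ Y : Matrix Unit κ B, (1 : Matrix (Unit ⊕ κ) (Unit ⊕ κ) B) +
      Matrix.fromBlocks 0 Y 0 0 = Matrix.fromBlocks 1 Y 0 1 := by
    intro Y
    rw [← Matrix.fromBlocks_one, Matrix.fromBlocks_add]
    simp
  have e3 : Matrix.diagonal (fun i => ((Sum.elim (fun _ => au) (fun _ => (1 : Bˣ)) i : Bˣ) : B)) =
      Matrix.fromBlocks A 0 0 (1 : Matrix κ κ B) := by
    have hAd : A = Matrix.diagonal (fun _ : Unit => (au : B)) := by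
      refine Matrix.ext fun i k => ?_
      rw [Matrix.diagonal_apply_eq]
      rfl
    rw [hAd, ← Matrix.diagonal_one, Matrix.fromBlocks_diagonal]
    congr 1
    funext i
    rcases i with i | i <;> simp
  rw [e1, e2, e3, Matrix.fromBlocks_multiply A]
  simp

theorem hom_lower_eq_one {B : Type u} [CommRing B] {H : Type v} [CommGroup H]
    (χ : Matrix.GeneralLinearGroup (Unit ⊕ κ) B →* H) (t t1 : Bˣ) (ht : (t1 : B) = (t : B) - 1)
    (X : Matrix κ Unit B) : χ (unipGL _ (lowerN_sq X)) = 1 := by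
  apply hom_unip_eq_one χ t t1 ht _ _ (fun i => Sum.elim (fun _ => false) (fun _ => true) i)
  intro i k
  rcases i with i | i <;> rcases k with k | k <;> simp

theorem hom_upper_eq_one {B : Type u} [CommRing B] {H : Type v} [CommGroup H]
    (χ : Matrix.GeneralLinearGroup (Unit ⊕ κ) B →* H) (t t1 : Bˣ) (ht : (t1 : B) = (t : B) - 1)
    (Y : Matrix Unit κ B) : χ (unipGL _ (upperN_sq Y)) = 1 := by
  apply hom_unip_eq_one χ t t1 ht _ _ (fun i => Sum.elim (fun _ => true) (fun _ => false) i)
  intro i k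
  rcases i with i | i <;> rcases k with k | k <;> simp

theorem map_lower {B C : Type u} [CommRing B] [CommRing C] (f : B →+* C) (X : Matrix κ Unit B) :
    Matrix.GeneralLinearGroup.map f (unipGL _ (lowerN_sq X)) = unipGL _ (lowerN_sq (X.map f)) := by
  apply map_unipGL
  refine Matrix.ext fun i k => ?_
  rw [Matrix.map_apply]
  rcases i with i | i <;> rcases k with k | k <;> simp

theorem map_upper {B C : Type u} [CommRing B] [CommRing C] (f : B →+* C) (Y : Matrix Unit κ B) :
    Matrix.GeneralLinearGroup.map f (unipGL _ (upperN_sq Y)) = unipGL _ (upperN_sq (Y.map f)) := by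
  apply map_unipGL
  refine Matrix.ext fun i k => ?_
  rw [Matrix.map_apply]
  rcases i with i | i <;> rcases k with k | k <;> simp

theorem step_of_isUnit_corner (hκ : Claim.{u} κ) (A : Type u) [CommRing A] (t t1 : Aˣ)
    (ht : (t1 : A) = (t : A) - 1) (g : Matrix.GeneralLinearGroup (Unit ⊕ κ) A)
    (hg : IsUnit ((g : Matrix (Unit ⊕ κ) (Unit ⊕ κ) A) (Sum.inl ()) (Sum.inl ())))
    (p : PrimeSpectrum A) :
    ∃ (A' : Type u) (_ : CommRing A') (_ : Algebra A A'), Algebra.Etale A A' ∧
      (∃ q : PrimeSpectrum A', q.asIdeal.comap (algebraMap A A') = p.asIdeal) ∧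
      ∃ d : Unit ⊕ κ → A'ˣ, Abelianization.of (Matrix.GeneralLinearGroup.map (algebraMap A A') g) =
        Abelianization.of (diagGL d) := by
  classical
  obtain ⟨X, Y, a, S, hdec⟩ := schur_decomp g hg
  obtain ⟨A', _, _, hE, hq, d', hd'⟩ := hκ A t t1 ht S p
  refine ⟨A', _, _, hE, hq, ?_⟩
  set f : A →+* A' := algebraMap A A' with hf
  set t' : A'ˣ := Units.map (f : A →* A') t with ht'def
  set t1' : A'ˣ := Units.map (f : A →* A') t1 with ht1'def
  have ht' : (t1' : A') = (t' : A') - 1 := by
    change f (t1 : A) = f (t : A) - 1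
    rw [ht, map_sub, map_one]
  set χ : Matrix.GeneralLinearGroup (Unit ⊕ κ) A' →* Abelianization (Matrix.GeneralLinearGroup (Unit ⊕ κ) A') :=
    Abelianization.of with hχ
  refine ⟨(fun i => Units.map (f : A →* A') (Sum.elim (fun _ => a) (fun _ => 1) i)) *
    Sum.elim (fun _ => 1) d', ?_⟩
  rw [hdec, Matrix.GeneralLinearGroup.map_mul, Matrix.GeneralLinearGroup.map_mul,
    Matrix.GeneralLinearGroup.map_mul, map_lower, map_upper, map_diagGL, map_blockHom, map_mul,
    map_mul, map_mul, hom_lower_eq_one χ t' t1' ht', hom_upper_eq_one χ t' t1' ht', one_mul, mul_one]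
  have h1 : χ (blockHom A' (Matrix.GeneralLinearGroup.map f S)) = χ (blockHom A' (diagGL d')) := by
    have := congrArg (Abelianization.lift (χ.comp (blockHom A'))) hd'
    rwa [Abelianization.lift_apply_of, Abelianization.lift_apply_of] at this
  rw [h1, blockHom_diagGL, ← map_mul]
  congr 1
  exact ((diagHom _ A').map_mul _ _).symm

theorem exists_col_not_mem {ι : Type} [Fintype ι] [DecidableEq ι] {B : Type u} [CommRing B]
    (g : Matrix.GeneralLinearGroup ι B) (j : ι) (p : Ideal B) [hp : p.IsPrime] :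
    ∃ i, (g : Matrix ι ι B) i j ∉ p := by
  by_contra hne
  push Not at hne
  have h1 : ((g⁻¹ * g : Matrix.GeneralLinearGroup ι B) : Matrix ι ι B) j j = 1 := by
    rw [inv_mul_cancel]
    simp
  rw [Units.val_mul, Matrix.mul_apply] at h1
  have h2 : (∑ i, ((g⁻¹ : Matrix.GeneralLinearGroup ι B) : Matrix ι ι B) j i * (g : Matrix ι ι B) i j) ∈
      p := by
    apply Ideal.sum_mem
    intro i _
    exact Ideal.mul_mem_left _ _ (hne i)
  rw [h1] at h2
  exact hp.ne_top ((Ideal.eq_top_iff_one _).2 h2)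

theorem corner_upper_mul {B : Type u} [CommRing B] (Y : Matrix Unit κ B)
    (g : Matrix.GeneralLinearGroup (Unit ⊕ κ) B) :
    ((unipGL _ (upperN_sq Y) * g : Matrix.GeneralLinearGroup (Unit ⊕ κ) B) :
      Matrix (Unit ⊕ κ) (Unit ⊕ κ) B) (Sum.inl ()) (Sum.inl ()) =
      (g : Matrix (Unit ⊕ κ) (Unit ⊕ κ) B) (Sum.inl ()) (Sum.inl ()) +
        ∑ k, Y () k * (g : Matrix (Unit ⊕ κ) (Unit ⊕ κ) B) (Sum.inr k) (Sum.inl ()) := by
  have hval : ((unipGL _ (upperN_sq Y) * g : Matrix.GeneralLinearGroup (Unit ⊕ κ) B) :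
      Matrix (Unit ⊕ κ) (Unit ⊕ κ) B) = ((1 : Matrix (Unit ⊕ κ) (Unit ⊕ κ) B) +
        Matrix.fromBlocks 0 Y 0 0) * (g : Matrix (Unit ⊕ κ) (Unit ⊕ κ) B) := rfl
  rw [hval, add_mul, one_mul, Matrix.add_apply, Matrix.mul_apply, Fintype.sum_sum_type]
  simp only [Matrix.fromBlocks_apply₁₁, Matrix.fromBlocks_apply₁₂, Matrix.zero_apply, zero_mul,
    Finset.sum_const_zero, zero_add]

theorem claim_step (hκ : Claim.{u} κ) : Claim.{u} (Unit ⊕ κ) := by
  classical
  intro A _ t t1 ht g p
  have hY : ∃ Y : Matrix Unit κ A,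
      ((unipGL _ (upperN_sq Y) * g : Matrix.GeneralLinearGroup (Unit ⊕ κ) A) :
        Matrix (Unit ⊕ κ) (Unit ⊕ κ) A) (Sum.inl ()) (Sum.inl ()) ∉ p.asIdeal := by
    obtain ⟨i, hi⟩ := exists_col_not_mem g (Sum.inl ()) p.asIdeal
    by_cases h0 : (g : Matrix (Unit ⊕ κ) (Unit ⊕ κ) A) (Sum.inl ()) (Sum.inl ()) ∈ p.asIdeal
    · rcases i with i | k
      · exact absurd h0 hi
      · refine ⟨Matrix.of (fun _ k' => if k' = k then 1 else 0), ?_⟩
        rw [corner_upper_mul]
        simp only [Matrix.of_apply, ite_mul, one_mul, zero_mul, Finset.sum_ite_eq', Finset.mem_univ,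
          if_true]
        intro h
        exact hi ((Ideal.add_mem_iff_right _ h0).1 h)
    · refine ⟨0, ?_⟩
      rw [corner_upper_mul]
      simpa using h0
  obtain ⟨Y, hY⟩ := hY
  set g' : Matrix.GeneralLinearGroup (Unit ⊕ κ) A := unipGL _ (upperN_sq Y) * g with hg'
  set f0 : A := (g' : Matrix (Unit ⊕ κ) (Unit ⊕ κ) A) (Sum.inl ()) (Sum.inl ()) with hf0
  have hdisj : Disjoint (Submonoid.powers f0 : Set A) (p.asIdeal : Set A) := by
    rw [Set.disjoint_left]
    rintro x ⟨n, rfl⟩ hx
    exact hY (p.isPrime.mem_of_pow_mem n hx)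
  let q1 : PrimeSpectrum (Localization.Away f0) :=
    ⟨Ideal.map (algebraMap A (Localization.Away f0)) p.asIdeal,
      IsLocalization.isPrime_of_isPrime_disjoint (Submonoid.powers f0) (Localization.Away f0) _
        p.isPrime hdisj⟩
  have hq1 : q1.asIdeal.comap (algebraMap A (Localization.Away f0)) = p.asIdeal :=
    IsLocalization.under_map_of_isPrime_disjoint (Submonoid.powers f0) (Localization.Away f0)
      p.isPrime hdisj
  haveI : Algebra.Etale A (Localization.Away f0) := Algebra.Etale.of_isLocalizationAway f0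
  set f1 : A →+* Localization.Away f0 := algebraMap A (Localization.Away f0) with hf1
  have htA : ((Units.map (f1 : A →* Localization.Away f0) t1 : (Localization.Away f0)ˣ) :
      Localization.Away f0) = ((Units.map (f1 : A →* Localization.Away f0) t :
        (Localization.Away f0)ˣ) : Localization.Away f0) - 1 := by
    change f1 (t1 : A) = f1 (t : A) - 1
    rw [ht, map_sub, map_one]
  have hcorner : IsUnit ((Matrix.GeneralLinearGroup.map f1 g' :
      Matrix (Unit ⊕ κ) (Unit ⊕ κ) (Localization.Away f0)) (Sum.inl ()) (Sum.inl ())) := by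
    rw [Matrix.GeneralLinearGroup.map_apply]
    exact IsLocalization.Away.algebraMap_isUnit f0
  have key := trans_aux p.asIdeal (Localization.Away f0) q1 hq1 g'
    (fun A' _ x => ∃ d : Unit ⊕ κ → A'ˣ, Abelianization.of x = Abelianization.of (diagGL d))
    (step_of_isUnit_corner hκ (Localization.Away f0) _ _ htA _ hcorner q1)
  obtain ⟨A2, _, _, hE, hq, d, hd⟩ := key
  refine ⟨A2, _, _, hE, hq, d, ?_⟩
  rw [← hd, hg', Matrix.GeneralLinearGroup.map_mul, map_upper, map_mul]
  set f2 : A →+* A2 := algebraMap A A2 with hf2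
  have ht2 : ((Units.map (f2 : A →* A2) t1 : A2ˣ) : A2) = ((Units.map (f2 : A →* A2) t : A2ˣ) : A2) - 1 := by
    change f2 (t1 : A) = f2 (t : A) - 1
    rw [ht, map_sub, map_one]
  rw [hom_upper_eq_one _ _ _ ht2, one_mul]

end Step


section Transfer

variable {α β : Type} [Fintype α] [DecidableEq α] [Fintype β] [DecidableEq β]

theorem map_reindexGL (e : α ≃ β) {B C : Type u} [CommRing B] [CommRing C] (f : B →+* C)
    (g : Matrix.GeneralLinearGroup α B) :
    Matrix.GeneralLinearGroup.map f (reindexGL e B g) =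
      reindexGL e C (Matrix.GeneralLinearGroup.map f g) := by
  apply GL_ext
  refine Matrix.ext fun i k => ?_
  rw [Matrix.GeneralLinearGroup.map_apply, reindexGL_val, reindexGL_val, Matrix.submatrix_apply,
    Matrix.submatrix_apply, Matrix.GeneralLinearGroup.map_apply]

theorem reindexGL_diagGL (e : α ≃ β) {B : Type u} [CommRing B] (d : α → Bˣ) :
    reindexGL e B (diagGL d) = diagGL (d ∘ e.symm) := by
  apply GL_ext
  rw [reindexGL_val]
  change (Matrix.diagonal _).submatrix e.symm e.symm = Matrix.diagonal _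
  rw [Matrix.submatrix_diagonal_equiv]
  rfl

theorem claim_of_equiv (e : α ≃ β) (hα : Claim.{u} α) : Claim.{u} β := by
  intro A _ t t1 ht g p
  obtain ⟨A', _, _, hE, hq, d0, hd0⟩ := hα A t t1 ht ((reindexGL e A).symm g) p
  refine ⟨A', _, _, hE, hq, d0 ∘ e.symm, ?_⟩
  have := congrArg (Abelianization.lift ((Abelianization.of).comp (reindexGL e A').toMonoidHom)) hd0
  rw [Abelianization.lift_apply_of, Abelianization.lift_apply_of] at this
  change Abelianization.of (reindexGL e A' _) = Abelianization.of (reindexGL e A' _) at this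
  rwa [← map_reindexGL, MulEquiv.apply_symm_apply, reindexGL_diagGL] at this

theorem claim_fin : ∀ n : ℕ, Claim.{u} (Fin n) := by
  intro n
  induction n with
  | zero =>
    intro A _ t t1 ht g p
    refine ⟨A, _, Algebra.id A, inferInstance, ⟨p, ?_⟩, fun _ => 1, ?_⟩
    · rw [Algebra.algebraMap_self, Ideal.comap_id]
    · congr 1
      exact Subsingleton.elim _ _
  | succ n ih =>
    have e : Unit ⊕ Fin n ≃ Fin (n + 1) :=
      (Equiv.sumComm _ _).trans ((Equiv.optionEquivSumPUnit (Fin n)).symm.trans (finSuccEquiv n).symm)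
    exact claim_of_equiv e (claim_step ih)

end Transfer


section Base

open Polynomial

theorem hdeg {R : Type u} [CommRing R] (c : R) :
    degree (X - C c : R[X]) < ((2 : ℕ) : WithBot ℕ) := by
  refine lt_of_le_of_lt (degree_sub_le _ _) ?_
  rw [max_lt_iff]
  refine ⟨?_, ?_⟩
  · exact lt_of_le_of_lt degree_X_le (by norm_num)
  · exact lt_of_le_of_lt degree_C_le (by norm_num)

/-- the standard étale pair `(X² - X + u, 1 - 4u)`. -/
noncomputable def pair (A : Type u) [CommRing A] (u : A) : StandardEtalePair A where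
  f := X ^ 2 - (X - C u)
  monic_f := monic_X_pow_sub (hdeg u)
  g := C (1 - 4 * u)
  cond := ⟨2 * X - 1, -4, 1, by
    have hd : derivative (X ^ 2 - (X - C u) : A[X]) = 2 * X - 1 := by
      rw [derivative_sub, derivative_sub, derivative_X_pow, derivative_X, derivative_C]
      simp [map_ofNat]
    have hc : (C (1 - 4 * u) : A[X]) = 1 - 4 * C u := by
      rw [map_sub, map_mul, map_one]
      congr 2
    rw [hd, hc]
    ring⟩

theorem pair_units (A : Type u) [CommRing A] (u : A) (hu : IsUnit u) :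
    ∃ t t1 : ((pair A u).Ring)ˣ, (t1 : (pair A u).Ring) = (t : (pair A u).Ring) - 1 := by
  set P := pair A u with hP
  have h1 : aeval P.X P.f = 0 := P.hasMap_X.1
  have h2 : P.X * (P.X - 1) = - algebraMap A P.Ring u := by
    have : aeval P.X P.f = P.X ^ 2 - (P.X - algebraMap A P.Ring u) := by
      simp [hP, pair]
    rw [this] at h1
    linear_combination h1
  have hunit : IsUnit (P.X * (P.X - 1)) := by
    rw [h2]
    exact (hu.map (algebraMap A P.Ring)).neg
  exact ⟨(isUnit_of_mul_isUnit_left hunit).unit, (isUnit_of_mul_isUnit_right hunit).unit, rfl⟩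

theorem pair_prime (A : Type u) [CommRing A] (u : A) (p : PrimeSpectrum A)
    (hp : 1 - 4 * u ∉ p.asIdeal) :
    ∃ q : PrimeSpectrum (pair A u).Ring,
      q.asIdeal.comap (algebraMap A (pair A u).Ring) = p.asIdeal := by
  set P := pair A u with hP
  let L := AlgebraicClosure p.asIdeal.ResidueField
  have hker : RingHom.ker (algebraMap A L) = p.asIdeal := by
    rw [IsScalarTower.algebraMap_eq A p.asIdeal.ResidueField L, ← RingHom.comap_ker,
      (RingHom.injective_iff_ker_eq_bot _).1 (algebraMap p.asIdeal.ResidueField L).injective,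
      ← RingHom.ker_eq_comap_bot, Ideal.ker_algebraMap_residueField]
  obtain ⟨x, hx⟩ := IsAlgClosed.exists_root (X ^ 2 - (X - C (algebraMap A L u)) : L[X]) (by
    rw [degree_sub_eq_left_of_degree_lt, degree_X_pow]
    · norm_num
    · rw [degree_X_pow]
      exact hdeg _)
  have hmap : P.HasMap x := by
    refine ⟨?_, ?_⟩
    · have : aeval x P.f = x ^ 2 - (x - algebraMap A L u) := by
        simp [hP, pair]
      rw [this]
      simpa using hx
    · have : aeval x P.g = algebraMap A L (1 - 4 * u) := by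
        simp [hP, pair]
      rw [this, isUnit_iff_ne_zero]
      intro h0
      apply hp
      rw [← hker]
      exact h0
  let φ : P.Ring →ₐ[A] L := P.lift x hmap
  refine ⟨⟨RingHom.ker φ.toRingHom, RingHom.ker_isPrime _⟩, ?_⟩
  change Ideal.comap (algebraMap A P.Ring) (RingHom.ker φ.toRingHom) = _
  rw [RingHom.comap_ker]
  refine Eq.trans ?_ hker
  congr 1
  exact φ.comp_algebraMap

end Base



/-- On the big étale site of a scheme the sheaf of commutator subgroups of Gl(n) is Sl(n) = Ker(det).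
Concretely: let A be a commutative ring, n ≥ 0, s ∈ SL_n(A) and p a prime ideal of A. Then there are
an étale A-algebra A' with a prime ideal lying over p such that the image of s in GL_n(A') lies in
the commutator subgroup of GL_n(A'). (The inclusion of commutators in SL_n being clear, this is the
content of the statement.) -/
theorem result (A : Type u) [CommRing A] (n : ℕ)
    (s : Matrix.SpecialLinearGroup (Fin n) A) (p : PrimeSpectrum A) :
    ∃ (A' : Type u) (_ : CommRing A') (_ : Algebra A A'), Algebra.Etale A A' ∧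
      (∃ q : PrimeSpectrum A', q.asIdeal.comap (algebraMap A A') = p.asIdeal) ∧
      (Matrix.GeneralLinearGroup.map (algebraMap A A')) (Matrix.SpecialLinearGroup.toGL s) ∈
        commutator (Matrix.GeneralLinearGroup (Fin n) A') := by
  classical
  obtain ⟨u, hu, hup⟩ : ∃ u : A, IsUnit u ∧ 1 - 4 * u ∉ p.asIdeal := by
    by_cases h : (1 - 4 * 1 : A) ∈ p.asIdeal
    · refine ⟨-1, isUnit_one.neg, ?_⟩
      intro h'
      have h1 : (1 : A) ∈ p.asIdeal := by
        have := p.asIdeal.add_mem (p.asIdeal.mul_mem_left 3 h) (p.asIdeal.mul_mem_left 2 h')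
        convert this using 1
        ring
      exact p.isPrime.ne_top ((Ideal.eq_top_iff_one _).2 h1)
    · exact ⟨1, isUnit_one, h⟩
  obtain ⟨q0, hq0⟩ := pair_prime A u p hup
  obtain ⟨t, t1, ht⟩ := pair_units A u hu
  refine trans_aux p.asIdeal (pair A u).Ring q0 hq0 (Matrix.SpecialLinearGroup.toGL s)
    (fun A' _ x => x ∈ commutator (Matrix.GeneralLinearGroup (Fin n) A')) ?_
  obtain ⟨A', _, _, hE, hq, d, hd⟩ := claim_fin n (pair A u).Ring t t1 ht
    (Matrix.GeneralLinearGroup.map (algebraMap A (pair A u).Ring) (Matrix.SpecialLinearGroup.toGL s)) q0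
  refine ⟨A', _, _, hE, hq, ?_⟩
  rw [← Abelianization.ker_of, MonoidHom.mem_ker, hd]
  apply hom_diag_eq_one
  have := congrArg (Abelianization.lift Matrix.GeneralLinearGroup.det) hd
  rw [Abelianization.lift_apply_of, Abelianization.lift_apply_of, det_diagGL,
    Matrix.GeneralLinearGroup.map_det, Matrix.GeneralLinearGroup.map_det,
    Matrix.SpecialLinearGroup.coeToGL_det, map_one, map_one] at this
  exact this.symm

end Groth.Agent.S5658
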