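import Groth.Statements.S5659
import Mathlib
import Groth.Agent.Lib.Helper15.GLChar

set_option autoImplicit false
universe u
open CAlg

namespace Groth.Agent.S5659

/-- Every homomorphism of group sheaves Gl(n_1) × ⋯ × Gl(n_r) → G_m is (s_1, …, s_r) ↦ det(s_1)^{m_1} ⋯
det(s_r)^{m_r} with locally constant integers m_i uniquely determined by it. Concretely, over a
commutative ring R whose prime spectrum is connected and for ranks n_i ≥ 1: every family of group
homomorphisms α_B : GL_{n_1}(B) × ⋯ × GL_{n_r}(B) → Bˣ, one for each commutative R-algebra B and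
natural in B, is given by α_B(s) = Π_i det(s_i)^{m_i} for a unique m ∈ ℤ^r. (The published statement
allows ranks n_i ≥ 0; uniqueness of m_i needs n_i ≥ 1, since Gl(0) is trivial.) -/
theorem result (R : Type u) [CommRing R] [ConnectedSpace (PrimeSpectrum R)]
    (r : ℕ) (n : Fin r → ℕ) (hn : ∀ i, 0 < n i)
    (α : ∀ (B : Type u) [CommRing B] [Algebra R B], (∀ i, Matrix.GeneralLinearGroup (Fin (n i)) B) →* Bˣ)
    (hα : ∀ (B C : Type u) [CommRing B] [Algebra R B] [CommRing C] [Algebra R C] (φ : B →ₐ[R] C)
      (s : ∀ i, Matrix.GeneralLinearGroup (Fin (n i)) B),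
      α C (fun i => Matrix.GeneralLinearGroup.map φ.toRingHom (s i)) = Units.map (φ.toRingHom : B →* C) (α B s)) :
    ∃! m : Fin r → ℤ, ∀ (B : Type u) [CommRing B] [Algebra R B] (s : ∀ i, Matrix.GeneralLinearGroup (Fin (n i)) B),
      α B s = ∏ i, Matrix.GeneralLinearGroup.det (s i) ^ (m i) := by
  classical
  have : Nontrivial R := by
    rw [← PrimeSpectrum.nonempty_iff_nontrivial]
    infer_instance
  -- the characters of the factors
  let χ : ∀ i : Fin r, Groth.Agent.Lib.helper15.GLChar.NatChar R (Fin (n i)) := fun i =>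
    { toFun := fun B _ _ => (α B).comp
        (MonoidHom.mulSingle (fun i => Matrix.GeneralLinearGroup (Fin (n i)) B) i)
      nat := fun B C _ _ _ _ φ g => by
        rw [MonoidHom.comp_apply, MonoidHom.comp_apply, ← hα B C φ]
        congr 1
        funext k
        by_cases hk : k = i
        · subst hk
          rw [MonoidHom.mulSingle_apply, MonoidHom.mulSingle_apply, Pi.mulSingle_eq_same,
            Pi.mulSingle_eq_same]
        · rw [MonoidHom.mulSingle_apply, MonoidHom.mulSingle_apply, Pi.mulSingle_eq_of_ne hk,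
            Pi.mulSingle_eq_of_ne hk, map_one] }
  have hχ : ∀ i, ∃ m : ℤ, ∀ (B : Type u) [CommRing B] [Algebra R B]
      (g : Matrix.GeneralLinearGroup (Fin (n i)) B),
      (χ i).toFun B g = Matrix.GeneralLinearGroup.det g ^ m := fun i =>
    Groth.Agent.Lib.helper15.GLChar.NatChar.exists_eq_det_zpow (n i) (χ i)
  choose m hm using hχ
  have hform : ∀ (B : Type u) [CommRing B] [Algebra R B]
      (s : ∀ i, Matrix.GeneralLinearGroup (Fin (n i)) B),
      α B s = ∏ i, Matrix.GeneralLinearGroup.det (s i) ^ (m i) := by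
    intro B _ _ s
    have hs : α B s = ∏ i, α B (Pi.mulSingle i (s i)) := by
      have h1 := Finset.noncommProd_mulSingle s
      have h2 := Finset.univ.map_noncommProd (fun i => Pi.mulSingle i (s i))
        (fun i _ j _ _ => Pi.mulSingle_apply_commute s i j) (α B)
      rw [h1] at h2
      rw [h2, Finset.noncommProd_eq_prod]
    rw [hs]
    apply Finset.prod_congr rfl
    intro i _
    exact hm i B (s i)
  refine ⟨m, hform, ?_⟩
  intro m' hm'
  funext i
  obtain ⟨t, ht⟩ := Groth.Agent.Lib.helper15.GLChar.exists_unit_zpow_injective R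
  apply ht
  change t ^ m' i = t ^ m i
  -- the test element
  set d : Fin (n i) → (MonoidAlgebra R (Multiplicative ℤ))ˣ := Pi.mulSingle ⟨0, hn i⟩ t with hd
  set s : ∀ k, Matrix.GeneralLinearGroup (Fin (n k)) (MonoidAlgebra R (Multiplicative ℤ)) :=
    Pi.mulSingle i (Groth.Agent.Lib.helper15.GLChar.diagGL d) with hs
  have hdet : ∀ (e : Fin r → ℤ), ∏ k, Matrix.GeneralLinearGroup.det (s k) ^ (e k) = t ^ e i := by
    intro e
    rw [Finset.prod_eq_single i]
    · rw [hs, Pi.mulSingle_eq_same, Groth.Agent.Lib.helper15.GLChar.det_diagGL, hd,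
        Finset.prod_eq_single (⟨0, hn i⟩ : Fin (n i))]
      · rw [Pi.mulSingle_eq_same]
      · intro b _ hb
        exact Pi.mulSingle_eq_of_ne hb _
      · intro h
        exact absurd (Finset.mem_univ _) h
    · intro k _ hk
      rw [hs, Pi.mulSingle_eq_of_ne hk, map_one, one_zpow]
    · intro h
      exact absurd (Finset.mem_univ _) h
  rw [← hdet m', ← hdet m, ← hm' _ s, ← hform _ s]

end Groth.Agent.S5659
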