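import Groth.Statements.S5663
import Mathlib
import Groth.Agent.Lib.Helper8.ResTensor

set_option autoImplicit false
universe u
open TensorProduct
open CAlg

namespace Groth.Agent.S5663

section Aux

variable {A B : Type u} [CommRing A] [CommRing B] [Algebra A B]

/-- An element equalized by the two coprojections is killed by every linear functional to a
reduced ring that vanishes at `1`. -/
theorem functional_eq_zero (C : Subalgebra A B) (x : C)
    (hx : (x ⊗ₜ[A] (1 : C) : C ⊗[A] C) = (1 : C) ⊗ₜ[A] x)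
    (κ : Type u) [CommRing κ] [IsReduced κ] [Algebra A κ] (ℓ : C →ₗ[A] κ) (h1 : ℓ 1 = 0) :
    ℓ x = 0 := by
  let Λ : C ⊗[A] C →ₗ[A] κ := (LinearMap.mul' A κ) ∘ₗ (TensorProduct.map ℓ ℓ)
  have h2 : (x ⊗ₜ[A] x : C ⊗[A] C) = (1 : C) ⊗ₜ[A] (x * x) := by
    have := congrArg (fun z => z * ((1 : C) ⊗ₜ[A] x)) hx
    simpa [Algebra.TensorProduct.tmul_mul_tmul] using this
  have h3 := congrArg Λ h2
  simp only [Λ, LinearMap.comp_apply, TensorProduct.map_tmul, LinearMap.mul'_apply, h1,
    zero_mul] at h3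
  exact IsReduced.eq_zero _ ⟨2, by rw [pow_two]; exact h3⟩

/-- For a prime minimal over `J`, a power of the prime is contained in `J` up to a unit of the
local ring. -/
theorem exists_pow_smul_le [IsNoetherianRing A] (J p : Ideal A) (hp : p ∈ J.minimalPrimes) :
    ∃ (N : ℕ) (s : A), s ∉ p ∧ ∀ a ∈ p ^ N, s * a ∈ J := by
  classical
  haveI := hp.1.1
  have hfin : (J.minimalPrimes \ {p}).Finite :=
    (Ideal.finite_minimalPrimes_of_isNoetherianRing A J).subset Set.sdiff_subset
  -- an element of all other minimal primes, not in `p`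
  obtain ⟨s, hs, hsp⟩ : ∃ s : A, (∀ q ∈ J.minimalPrimes \ {p}, s ∈ q) ∧ s ∉ p := by
    by_contra hcon
    push Not at hcon
    have hle : hfin.toFinset.inf (fun q : Ideal A => q) ≤ p := by
      intro s hs
      apply hcon s
      intro q hq
      have : hfin.toFinset.inf (fun q : Ideal A => q) ≤ q :=
        Finset.inf_le (by simpa using hq)
      exact this hs
    obtain ⟨q, hq, hqp⟩ := (Ideal.IsPrime.inf_le' ‹p.IsPrime›).mp hle
    rw [Set.Finite.mem_toFinset] at hq
    exact hq.2 (le_antisymm hqp (hp.2 hq.1.1 hqp))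
  have hrad : Ideal.span {s} * p ≤ J.radical := by
    rw [← Ideal.sInf_minimalPrimes, Ideal.mul_le]
    intro a ha b hb
    rw [Ideal.mem_sInf]
    intro q hq
    haveI := hq.1.1
    obtain ⟨c, rfl⟩ := Ideal.mem_span_singleton'.mp ha
    by_cases hqp : q = p
    · rw [hqp]; exact Ideal.mul_mem_left _ _ hb
    · exact Ideal.mul_mem_right _ _ (Ideal.mul_mem_left _ _ (hs q ⟨hq, hqp⟩))
  obtain ⟨N, hN⟩ := Ideal.exists_pow_le_of_le_radical_of_fg hrad
    (IsNoetherian.noetherian _)
  refine ⟨N, s ^ N, fun h => hsp (Ideal.IsPrime.mem_of_pow_mem ‹_› _ h), ?_⟩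
  intro a ha
  apply hN
  rw [mul_pow]
  exact Ideal.mul_mem_mul (Ideal.pow_mem_pow (Ideal.mem_span_singleton_self s) N) ha

end Aux

/-- Let A be a Noetherian ring and B a finite A-algebra with A → B injective (a finite schematically
dominant morphism Spec B → Spec A). Define subalgebras B_0 = B and B_{i+1} = the equalizer of the
two maps B_i ⇉ B_i ⊗_A B_i, b ↦ b ⊗ 1, 1 ⊗ b. Then B_m = A (the image of A) for some m; equivalently
Spec B → Spec A factors as a finite chain of finite morphisms Spec B_i → Spec B_{i+1} each of which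
is an effective epimorphism (B_{i+1} is the equalizer of B_i ⇉ B_i ⊗_{B_{i+1}} B_i). The sequence is
given here as any family C of subalgebras satisfying the recursion. (The published statement is for
a finite morphism X → Y of schemes with Y Noetherian and O_Y → f_*O_X injective; this row is the
affine case.) -/
theorem result (A B : Type u) [CommRing A] [CommRing B] [Algebra A B]
    [IsNoetherianRing A] [Module.Finite A B] (hinj : Function.Injective (algebraMap A B))
    (C : ℕ → Subalgebra A B) (h0 : C 0 = ⊤)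
    (hstep : ∀ (i : ℕ) (b : B), b ∈ C (i + 1) ↔ ∃ hb : b ∈ C i,
      ((⟨b, hb⟩ : C i) ⊗ₜ[A] (1 : C i) : C i ⊗[A] C i) = (1 : C i) ⊗ₜ[A] (⟨b, hb⟩ : C i)) :
    ∃ m : ℕ, C m = ⊥ := by
  classical
  haveI : IsNoetherian A B := isNoetherian_of_isNoetherianRing_of_finite A B
  -- the chain is decreasing
  have hstep_le : ∀ i, C (i + 1) ≤ C i := fun i b hb => ((hstep i b).mp hb).1
  have hanti : Antitone C := antitone_nat_of_succ_le hstep_le
  let Bot : Submodule A B := Subalgebra.toSubmodule (⊥ : Subalgebra A B)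
  let Cs : ℕ → Submodule A B := fun i => Subalgebra.toSubmodule (C i)
  have hBotC : ∀ i, Bot ≤ Cs i := fun i => by
    intro x hx
    exact (bot_le : (⊥ : Subalgebra A B) ≤ C i) hx
  -- the conductor ideals
  let J : ℕ →o Ideal A :=
    ⟨fun i => Bot.colon (Cs i : Set B), by
      intro i j hij a ha
      rw [Submodule.mem_colon] at ha ⊢
      intro c hc
      exact ha c (hanti hij hc)⟩
  obtain ⟨i₀, hi₀⟩ := monotone_stabilizes_iff_noetherian.mpr inferInstance J
  by_cases htop : J i₀ = ⊤
  · refine ⟨i₀, le_antisymm ?_ bot_le⟩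
    intro c hc
    have h1 : (1 : A) ∈ J i₀ := by rw [htop]; trivial
    have := (Submodule.mem_colon.mp h1) c hc
    rwa [one_smul] at this
  exfalso
  obtain ⟨p, hp⟩ := Ideal.nonempty_minimalPrimes htop
  haveI hpprime : p.IsPrime := hp.1.1
  have hJp : J i₀ ≤ p := hp.1.2
  have hmul : ∀ {t t' : A}, t ∉ p → t' ∉ p → t * t' ∉ p :=
    fun ht ht' h => (Ideal.IsPrime.mem_or_mem hpprime h).elim ht ht'
  -- Step 1
  have step1 : ∀ i, ∀ b ∈ C (i + 1), ∃ t : A, t ∉ p ∧ t • b ∈ p • Cs i ⊔ Bot := by
    intro i b hb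
    obtain ⟨hbi, hten⟩ := (hstep i b).mp hb
    have key := Groth.Agent.Lib.helper8.ResTensor.exists_smul_mem_of_forall_linearMap p (C i)
      (Submodule.span A {(1 : C i)}) ⟨b, hbi⟩ (by
        intro ℓ hℓ
        exact functional_eq_zero (C i) ⟨b, hbi⟩ hten p.ResidueField ℓ
          (hℓ 1 (Submodule.mem_span_singleton_self _)))
    obtain ⟨t, ht, hmem⟩ := key
    refine ⟨t, ht, ?_⟩
    have h1 := Submodule.mem_map_of_mem (f := (Subalgebra.toSubmodule (C i)).subtype) hmem
    rw [Submodule.map_sup, Submodule.map_smul'', Submodule.map_top, Submodule.range_subtype,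
      Submodule.map_span, Set.image_singleton] at h1
    have hspan : Submodule.span A {(Subalgebra.toSubmodule (C i)).subtype (1 : C i)} ≤ Bot := by
      rw [Submodule.span_le, Set.singleton_subset_iff]
      exact (⊥ : Subalgebra A B).one_mem
    exact (sup_le_sup_left hspan (p • Cs i)) h1
  -- Step 3
  have step3 : ∀ n, ∀ b ∈ C (i₀ + n), ∃ t : A, t ∉ p ∧ t • b ∈ p ^ n • Cs i₀ ⊔ Bot := by
    intro n
    induction n with
    | zero =>
      intro b hb
      refine ⟨1, fun h => hpprime.ne_top ((Ideal.eq_top_iff_one _).mpr h), ?_⟩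
      rw [one_smul, pow_zero, Ideal.one_eq_top, Submodule.top_smul]
      exact Submodule.mem_sup_left hb
    | succ n ih =>
      intro b hb
      obtain ⟨t, ht, hmem⟩ := step1 (i₀ + n) b hb
      obtain ⟨z, hz, r, hr, hzr⟩ := Submodule.mem_sup.mp hmem
      have sub : ∀ z ∈ p • Cs (i₀ + n), ∃ t' : A, t' ∉ p ∧ t' • z ∈ p ^ (n + 1) • Cs i₀ ⊔ Bot := by
        intro z hz
        refine Submodule.smul_induction_on hz ?_ ?_
        · intro a ha c hc
          obtain ⟨tc, htc, hmc⟩ := ih c hc
          obtain ⟨c', hc', r', hr', hcr⟩ := Submodule.mem_sup.mp hmc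
          refine ⟨tc, htc, ?_⟩
          rw [smul_comm, ← hcr, smul_add]
          refine Submodule.add_mem_sup ?_ (Submodule.smul_mem _ _ hr')
          rw [pow_succ', mul_smul]
          exact Submodule.smul_mem_smul ha hc'
        · rintro z₁ z₂ ⟨t₁, ht₁, h₁⟩ ⟨t₂, ht₂, h₂⟩
          refine ⟨t₁ * t₂, hmul ht₁ ht₂, ?_⟩
          rw [smul_add]
          refine add_mem ?_ ?_
          · rw [mul_comm, mul_smul]; exact Submodule.smul_mem _ _ h₁
          · rw [mul_smul]; exact Submodule.smul_mem _ _ h₂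
      obtain ⟨t', ht', hmem'⟩ := sub z hz
      refine ⟨t' * t, hmul ht' ht, ?_⟩
      rw [mul_smul, ← hzr, smul_add]
      exact add_mem hmem' (Submodule.mem_sup_right (Submodule.smul_mem _ _ hr))
  -- Step 2
  obtain ⟨N, s, hs, hsN⟩ := exists_pow_smul_le (J i₀) p hp
  -- Step 4
  have step4 : ∀ b ∈ C (i₀ + N), ∃ u : A, u ∉ p ∧ u • b ∈ Bot := by
    intro b hb
    obtain ⟨t, ht, hmem⟩ := step3 N b hb
    obtain ⟨z, hz, r, hr, hzr⟩ := Submodule.mem_sup.mp hmem
    have hsz : s • z ∈ Bot := by
      refine Submodule.smul_induction_on hz ?_ ?_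
      · intro a ha c hc
        rw [← mul_smul]
        exact (Submodule.mem_colon.mp (hsN a ha)) c hc
      · intro x y hx hy
        rw [smul_add]; exact add_mem hx hy
    refine ⟨s * t, hmul hs ht, ?_⟩
    rw [mul_smul, ← hzr, smul_add]
    exact add_mem hsz (Submodule.smul_mem _ _ hr)
  -- finite generation
  obtain ⟨G, hG⟩ := (IsNoetherian.noetherian (Cs (i₀ + N)) : (Cs (i₀ + N)).FG)
  have hGmem : ∀ b ∈ G, b ∈ C (i₀ + N) := by
    intro b hb
    have : b ∈ Cs (i₀ + N) := by rw [← hG]; exact Submodule.subset_span hb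
    exact this
  choose! u hu hub using step4
  let U : A := ∏ b ∈ G, u b
  have hU : U ∉ p := by
    intro h
    obtain ⟨b, hb, hbp⟩ := (Ideal.IsPrime.prod_mem_iff (hp := hpprime)).mp h
    exact hu b (hGmem b hb) hbp
  have hUJ : U ∈ J (i₀ + N) := by
    show U ∈ Bot.colon (Cs (i₀ + N) : Set B)
    rw [Submodule.mem_colon]
    intro c hc
    have hc' : c ∈ Submodule.span A (G : Set B) := by rw [hG]; exact hc
    refine Submodule.span_induction ?_ ?_ ?_ ?_ hc'
    · intro b hb
      obtain ⟨k, hk⟩ := Finset.dvd_prod_of_mem u hb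
      show U • b ∈ Bot
      rw [show U = k * u b from by rw [mul_comm]; exact hk, mul_smul]
      exact Submodule.smul_mem _ _ (hub b (hGmem b hb))
    · rw [smul_zero]; exact zero_mem _
    · intro x y _ _ hx hy
      rw [smul_add]; exact add_mem hx hy
    · intro a x _ hx
      rw [smul_comm]; exact Submodule.smul_mem _ _ hx
  rw [← hi₀ (i₀ + N) (Nat.le_add_right _ _)] at hUJ
  exact hU (hJp hUJ)

end Groth.Agent.S5663
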