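import Groth.Statements.S5665
import Mathlib
-- import your own Groth.Agent.* helpers here

set_option autoImplicit false
universe u
open CategoryTheory
open Dual

namespace Groth.Agent.S5665

open Abelian Pointwise

variable {A : Type u} [CommRing A]

/-- `Ext` vanishes above degree `d` and `Ext^d ≃ E`. -/
def P (N M : ModuleCat.{u} A) (d : ℕ) (E : Type u) [AddCommGroup E] [Module A E] : Prop :=
  (∀ i, d < i → Subsingleton (Ext N M i)) ∧ Nonempty (Ext N M d ≃ₗ[A] E)

/-- `Ext` congruence in the first variable. -/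
noncomputable def extCongr {N N' : ModuleCat.{u} A} (e : N ≅ N') (M : ModuleCat.{u} A) (i : ℕ) :
    Ext N M i ≃ₗ[A] Ext N' M i where
  toFun := fun x => (Ext.mk₀ e.inv).comp x (zero_add i)
  invFun := fun x => (Ext.mk₀ e.hom).comp x (zero_add i)
  map_add' := by simp
  map_smul' := by simp
  left_inv x := by simp [Ext.mk₀_comp_mk₀_assoc]
  right_inv x := by simp [Ext.mk₀_comp_mk₀_assoc]

lemma P.congr {N N' M : ModuleCat.{u} A} {d : ℕ} {E E' : Type u} [AddCommGroup E] [Module A E]
    [AddCommGroup E'] [Module A E']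
    (h : P N M d E) (e : N ≅ N') (f : E ≃ₗ[A] E') : P N' M d E' :=
  ⟨fun i hi => by
      have := h.1 i hi
      exact (extCongr e M i).symm.toEquiv.subsingleton,
   h.2.map fun g => (extCongr e M d).symm.trans (g.trans f)⟩

lemma smul_eq {N M : ModuleCat.{u} A} {d : ℕ} (b : Ext N M d) (x : A) :
    (Ext.mk₀ (x • 𝟙 N)).comp b (zero_add d) = x • b := by
  rw [Ext.mk₀_smul, Ext.smul_comp, Ext.mk₀_id_comp]

lemma P.step {N M : ModuleCat.{u} A} {d : ℕ} {E : Type u} [AddCommGroup E] [Module A E]
    (h : P N M d E) (x : A) (reg : IsSMulRegular N x) :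
    P (ModuleCat.of A (QuotSMulTop x N)) M (d + 1) (QuotSMulTop x E) := by
  let S := N.smulShortComplex x
  have hS : S.ShortExact := reg.smulShortComplex_shortExact
  have hSf : S.f = x • 𝟙 N := rfl
  refine ⟨fun i hi => ?_, ?_⟩
  · obtain ⟨j, rfl⟩ : ∃ j, i = j + 1 := ⟨i - 1, by omega⟩
    have hj : d < j := by omega
    have h1 : Subsingleton (Ext S.X₂ M (j + 1)) := h.1 (j + 1) (by omega)
    have h2 : Subsingleton (Ext S.X₁ M j) := h.1 j hj
    have key : ∀ a : Ext S.X₃ M (j + 1), a = 0 := by
      intro a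
      obtain ⟨x₁, hx₁⟩ := Ext.contravariant_sequence_exact₃ hS M a (Subsingleton.elim _ _)
        (add_comm 1 j)
      rw [← hx₁, Subsingleton.elim x₁ 0, Ext.comp_zero]
    exact ⟨fun a b => by rw [key a, key b]⟩
  · obtain ⟨g⟩ := h.2
    have h1 : Subsingleton (Ext S.X₂ M (d + 1)) := h.1 (d + 1) (by omega)
    let δ : Ext N M d →ₗ[A] Ext S.X₃ M (d + 1) :=
      hS.extClass.precompOfLinear A M (add_comm 1 d)
    have hsurj : Function.Surjective δ := by
      intro a
      obtain ⟨x₁, hx₁⟩ := Ext.contravariant_sequence_exact₃ hS M a (Subsingleton.elim _ _)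
        (add_comm 1 d)
      exact ⟨x₁, hx₁⟩
    have hker : LinearMap.ker δ = x • (⊤ : Submodule A (Ext N M d)) := by
      ext a
      rw [LinearMap.mem_ker, Submodule.mem_smul_pointwise_iff_exists]
      constructor
      · intro ha
        obtain ⟨x₂, hx₂⟩ := Ext.contravariant_sequence_exact₁ hS M a (add_comm 1 d) ha
        refine ⟨x₂, trivial, ?_⟩
        rw [← hx₂]
        exact (smul_eq (N := N) x₂ x).symm
      · rintro ⟨b, -, rfl⟩
        have : x • b = (Ext.mk₀ S.f).comp b (zero_add d) := (smul_eq (N := N) b x).symm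
        rw [this]
        exact hS.extClass_comp_assoc (h := add_comm 1 d) b
    exact ⟨((LinearMap.quotKerEquivOfSurjective δ hsurj).symm.trans
      (Submodule.quotEquivOfEq _ _ hker)).trans (QuotSMulTop.congr x g)⟩

theorem main (M : ModuleCat.{u} A) (xs : List A) : ∀ (N : ModuleCat.{u} A) (d : ℕ) (E : Type u)
    [AddCommGroup E] [Module A E],
    RingTheory.Sequence.IsWeaklyRegular N xs → P N M d E →
    P (ModuleCat.of A (N ⧸ (Ideal.ofList xs • ⊤ : Submodule A N))) M (d + xs.length)
      (E ⧸ (Ideal.ofList xs • ⊤ : Submodule A E)) := by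
  induction xs with
  | nil =>
    intro N d E _ _ _ h
    have e1 : (Ideal.ofList ([] : List A) • ⊤ : Submodule A N) = ⊥ := by simp
    have e2 : (Ideal.ofList ([] : List A) • ⊤ : Submodule A E) = ⊥ := by simp
    exact h.congr (Submodule.quotEquivOfEqBot _ e1).symm.toModuleIso
      (Submodule.quotEquivOfEqBot _ e2).symm
  | cons x xs ih =>
    intro N d E _ _ hreg h
    rw [RingTheory.Sequence.isWeaklyRegular_cons_iff] at hreg
    have h1 := h.step x hreg.1
    have h2 := ih _ (d + 1) _ hreg.2 h1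
    have hlen : d + (x :: xs).length = d + 1 + xs.length := by simp; omega
    rw [hlen]
    exact h2.congr
      (Submodule.quotOfListConsSMulTopEquivQuotSMulTopInner N x xs).symm.toModuleIso
      (Submodule.quotOfListConsSMulTopEquivQuotSMulTopInner E x xs).symm


/-- Let `A` be a commutative ring, `xs = (x_1, …, x_p)` a sequence in `A` such that each `x_i` is a
non-zero-divisor on `A/(x_1, …, x_{i-1})`, `J` the ideal generated by the `x_i` and `M` any
`A`-module. Then `Ext^p_A(A/J, M)` is isomorphic, as an `A`-module, to `M/JM`. (Existence of an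
`A`-linear isomorphism only; the published isomorphism is the one induced by the Koszul complex of
`xs`.) -/
theorem result (A : Type u) [CommRing A] (xs : List A) (hreg : RingTheory.Sequence.IsWeaklyRegular A xs) (M : Type u) [AddCommGroup M] [Module A M] : Nonempty (Abelian.Ext (ModuleCat.of A (A ⧸ Ideal.ofList xs)) (ModuleCat.of A M) xs.length ≃ₗ[A] (M ⧸ (Ideal.ofList xs • (⊤ : Submodule A M)))) := by
  have hbase : P (ModuleCat.of A A) (ModuleCat.of A M) 0 M := by
    refine ⟨fun i hi => ?_, ?_⟩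
    · obtain ⟨j, rfl⟩ : ∃ j, i = j + 1 := ⟨i - 1, by omega⟩
      exact Abelian.Ext.subsingleton_of_projective _ _ j
    · exact ⟨(Abelian.Ext.linearEquiv₀ (R := A)).trans
        ((ModuleCat.homLinearEquiv (S := A)).trans (LinearMap.ringLmapEquivSelf A A M))⟩
  have hreg' : RingTheory.Sequence.IsWeaklyRegular (ModuleCat.of A A) xs := hreg
  have h := main (ModuleCat.of A M) xs (ModuleCat.of A A) 0 M hreg' hbase
  rw [zero_add] at h
  obtain ⟨g⟩ := h.2
  have e : (A ⧸ (Ideal.ofList xs • ⊤ : Submodule A A)) ≃ₗ[A] (A ⧸ Ideal.ofList xs) :=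
    Submodule.quotEquivOfEq _ _ (by simp)
  exact ⟨(extCongr e.toModuleIso (ModuleCat.of A M) xs.length).symm.trans g⟩

end Groth.Agent.S5665
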