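import Groth.Statements.S5666
import Mathlib
import Groth.Agent.S5665
-- import your own Groth.Agent.* helpers here

set_option autoImplicit false
universe u
open CategoryTheory
open Dual

namespace Groth.Agent.S5666

open Abelian Pointwise

variable {A : Type u} [CommRing A]

/-- `M` is killed by `I`. -/
def Killed (I : Ideal A) (M : ModuleCat.{u} A) : Prop := ∀ a ∈ I, ∀ m : M, a • m = 0

lemma smul_ext_eq_zero {X M : ModuleCat.{u} A} {n : ℕ} (b : Ext X M n) (x : A)
    (hx : ∀ m : M, x • m = 0) : x • b = 0 := by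
  have h0 : x • 𝟙 M = 0 := ModuleCat.hom_ext (LinearMap.ext fun m => hx m)
  have : x • b = b.comp (Ext.mk₀ (x • 𝟙 M)) (add_zero n) := by
    rw [Ext.mk₀_smul, Ext.comp_smul, Ext.comp_mk₀_id]
  rw [this, h0, Ext.mk₀_zero, Ext.comp_zero]

lemma comp_sub' {X Y Z : ModuleCat.{u} A} {n m p : ℕ} (α : Ext X Y n) (β₁ β₂ : Ext Y Z m)
    (h : n + m = p) : α.comp (β₁ - β₂) h = α.comp β₁ h - α.comp β₂ h := by
  rw [sub_eq_add_neg, Ext.comp_add, Ext.comp_neg, ← sub_eq_add_neg]

/-- universal element -/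
def Univ (I : Ideal A) {N R : ModuleCat.{u} A} {i : ℕ} (ξ : Ext N R i) : Prop :=
  ∀ M : ModuleCat.{u} A, Killed I M →
    Function.Bijective (fun φ : R ⟶ M => ξ.comp (Ext.mk₀ φ) (add_zero i))

def Q (I : Ideal A) (N : ModuleCat.{u} A) (i c : ℕ) : Prop :=
  ∃ (R : ModuleCat.{u} A) (_ : Killed I R) (ξ : Ext N R i), Univ I ξ ∧
    ∀ M : ModuleCat.{u} A, Killed I M → Nonempty ((R ⟶ M) ≃ₗ[A] (Fin c → M))

/-- the linear equivalence given by a universal element -/
noncomputable def univEquiv {N R : ModuleCat.{u} A} {i : ℕ} (ξ : Ext N R i) (M : ModuleCat.{u} A)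
    (h : Function.Bijective (fun φ : R ⟶ M => ξ.comp (Ext.mk₀ φ) (add_zero i))) :
    (R ⟶ M) ≃ₗ[A] Ext N M i :=
  LinearEquiv.ofBijective
    ((ξ.precompOfLinear A M (add_zero i)).comp (Ext.linearEquiv₀ (R := A)).symm.toLinearMap)
    (by
      have : ⇑((ξ.precompOfLinear A M (add_zero i)).comp
          (Ext.linearEquiv₀ (R := A)).symm.toLinearMap) =
          (fun φ : R ⟶ M => ξ.comp (Ext.mk₀ φ) (add_zero i)) := by
        funext φ
        simp
      rw [this]
      exact h)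

lemma Q.congr {I : Ideal A} {N N' : ModuleCat.{u} A} {i c : ℕ} (h : Q I N i c) (e : N ≅ N') :
    Q I N' i c := by
  obtain ⟨R, kR, ξ, hξ, he⟩ := h
  refine ⟨R, kR, (Ext.mk₀ e.inv).comp ξ (zero_add i), ?_, he⟩
  intro M hM
  have h1 := hξ M hM
  have h2 : Function.Bijective (Groth.Agent.S5665.extCongr e M i) :=
    (Groth.Agent.S5665.extCongr e M i).bijective
  have : (fun φ : R ⟶ M => ((Ext.mk₀ e.inv).comp ξ (zero_add i)).comp (Ext.mk₀ φ) (add_zero i)) =
      (Groth.Agent.S5665.extCongr e M i) ∘ (fun φ : R ⟶ M => ξ.comp (Ext.mk₀ φ) (add_zero i)) := by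
    funext φ
    simp only [Function.comp_apply]
    change _ = (Ext.mk₀ e.inv).comp (ξ.comp (Ext.mk₀ φ) (add_zero i)) (zero_add i)
    rw [Ext.comp_assoc_of_third_deg_zero]
  rw [this]
  exact h2.comp h1

section step

variable {I : Ideal A} {N : ModuleCat.{u} A} {x : A}

lemma step_zero (hx : x ∈ I) (reg : IsSMulRegular N x) {b : ℕ} (h : Q I N 0 b) :
    Q I (ModuleCat.of A (QuotSMulTop x N)) 0 b := by
  let S := N.smulShortComplex x
  have hS : S.ShortExact := reg.smulShortComplex_shortExact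
  have h' : Q I S.X₂ 0 b := h
  clear h
  obtain ⟨R, kR, ξ, hξ, he⟩ := h'
  show Q I S.X₃ 0 b
  have hx0 : (Ext.mk₀ S.f).comp ξ (zero_add 0) = 0 := by
    have : (Ext.mk₀ S.f).comp ξ (zero_add 0) = x • ξ := Groth.Agent.S5665.smul_eq (N := N) ξ x
    rw [this]
    exact smul_ext_eq_zero ξ x (kR x hx)
  obtain ⟨ξt, hξt⟩ := Ext.contravariant_sequence_exact₂ hS R ξ hx0
  refine ⟨R, kR, ξt, ?_, he⟩
  intro M hM
  have h1 := hξ M hM
  have key : ∀ φ : R ⟶ M, (Ext.mk₀ S.g).comp (ξt.comp (Ext.mk₀ φ) (add_zero 0)) (zero_add 0) =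
      ξ.comp (Ext.mk₀ φ) (add_zero 0) := by
    intro φ
    have := Ext.comp_assoc_of_third_deg_zero (Ext.mk₀ S.g) ξt (Ext.mk₀ φ) (zero_add 0)
    rw [← this]
    exact congrArg (fun t : Ext S.X₂ R 0 => t.comp (Ext.mk₀ φ) (add_zero 0)) hξt
  haveI : Epi S.g := hS.epi_g
  have hinj := Ext.precomp_mk₀_injective_of_epi M S.g
  constructor
  · intro φ φ' hφ
    apply h1.1
    change ξ.comp (Ext.mk₀ φ) (add_zero 0) = ξ.comp (Ext.mk₀ φ') (add_zero 0)
    rw [← key φ, ← key φ']
    exact congrArg (fun t => (Ext.mk₀ S.g).comp t (zero_add 0)) hφ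
  · intro η
    obtain ⟨φ, hφ⟩ := h1.2 ((Ext.mk₀ S.g).comp η (zero_add 0))
    refine ⟨φ, ?_⟩
    apply hinj
    change (Ext.mk₀ S.g).comp (ξt.comp (Ext.mk₀ φ) (add_zero 0)) (zero_add 0) =
      (Ext.mk₀ S.g).comp η (zero_add 0)
    rw [key φ]
    exact hφ

lemma killed_prod {R' R'' : ModuleCat.{u} A} (h' : Killed I R') (h'' : Killed I R'') :
    Killed I (ModuleCat.of A (R' × R'')) := by
  intro a ha m
  obtain ⟨m1, m2⟩ := m
  change (a • m1, a • m2) = 0
  rw [h' a ha m1, h'' a ha m2]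
  rfl

lemma prodHomEquiv {R' R'' M : ModuleCat.{u} A} {a b : ℕ}
    (e' : (R' ⟶ M) ≃ₗ[A] (Fin a → M)) (e'' : (R'' ⟶ M) ≃ₗ[A] (Fin b → M)) :
    Nonempty ((ModuleCat.of A (R' × R'') ⟶ M) ≃ₗ[A] (Fin (a + b) → M)) := by
  have e1 : (ModuleCat.of A (R' × R'') ⟶ M) ≃ₗ[A] ((R' × R'') →ₗ[A] M) :=
    ModuleCat.homLinearEquiv (S := A)
  have e2 : ((R' →ₗ[A] M) × (R'' →ₗ[A] M)) ≃ₗ[A] ((R' × R'') →ₗ[A] M) :=
    LinearMap.coprodEquiv A
  have e3 : (R' ⟶ M) ≃ₗ[A] (R' →ₗ[A] M) := ModuleCat.homLinearEquiv (S := A)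
  have e4 : (R'' ⟶ M) ≃ₗ[A] (R'' →ₗ[A] M) := ModuleCat.homLinearEquiv (S := A)
  have e5 : ((Fin a → M) × (Fin b → M)) ≃ₗ[A] (Fin a ⊕ Fin b → M) :=
    (LinearEquiv.sumArrowLequivProdArrow (Fin a) (Fin b) A M).symm
  have e6 : (Fin a ⊕ Fin b → M) ≃ₗ[A] (Fin (a + b) → M) :=
    LinearEquiv.funCongrLeft A M finSumFinEquiv.symm
  exact ⟨e1 ≪≫ₗ e2.symm ≪≫ₗ (LinearEquiv.prodCongr (e3.symm ≪≫ₗ e') (e4.symm ≪≫ₗ e'')) ≪≫ₗ
    e5 ≪≫ₗ e6⟩

lemma step_succ (hx : x ∈ I) (reg : IsSMulRegular N x) {i a b : ℕ}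
    (h1 : Q I N i a) (h2 : Q I N (i + 1) b) :
    Q I (ModuleCat.of A (QuotSMulTop x N)) (i + 1) (a + b) := by
  let S := N.smulShortComplex x
  have hS : S.ShortExact := reg.smulShortComplex_shortExact
  have h1' : Q I S.X₁ i a := h1
  have h2' : Q I S.X₂ (i + 1) b := h2
  clear h1 h2
  obtain ⟨R', kR', ξ', hξ', he'⟩ := h1'
  obtain ⟨R'', kR'', ξ'', hξ'', he''⟩ := h2'
  show Q I S.X₃ (i + 1) (a + b)
  have hx0 : (Ext.mk₀ S.f).comp ξ'' (zero_add (i + 1)) = 0 := by
    have : (Ext.mk₀ S.f).comp ξ'' (zero_add (i + 1)) = x • ξ'' :=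
      Groth.Agent.S5665.smul_eq (N := N) ξ'' x
    rw [this]
    exact smul_ext_eq_zero ξ'' x (kR'' x hx)
  obtain ⟨ξt, hξt⟩ := Ext.contravariant_sequence_exact₂ hS R'' ξ'' hx0
  let R : ModuleCat.{u} A := ModuleCat.of A (R' × R'')
  let il : R' ⟶ R := ModuleCat.ofHom (LinearMap.inl A R' R'')
  let ir : R'' ⟶ R := ModuleCat.ofHom (LinearMap.inr A R' R'')
  let δξ : Ext S.X₃ R' (i + 1) := hS.extClass.comp ξ' (add_comm 1 i)
  let ξ : Ext S.X₃ R (i + 1) :=
    δξ.comp (Ext.mk₀ il) (add_zero _) + ξt.comp (Ext.mk₀ ir) (add_zero _)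
  have hdecomp : ∀ {M : ModuleCat.{u} A} (φ φ' : R ⟶ M), il ≫ φ = il ≫ φ' → ir ≫ φ = ir ≫ φ' →
      φ = φ' := by
    intro M φ φ' hl hr
    apply ModuleCat.hom_ext
    apply LinearMap.prod_ext
    · exact congrArg ModuleCat.Hom.hom hl
    · exact congrArg ModuleCat.Hom.hom hr
  have hcomp : ∀ {M : ModuleCat.{u} A} (φ : R ⟶ M), ξ.comp (Ext.mk₀ φ) (add_zero _) =
      δξ.comp (Ext.mk₀ (il ≫ φ)) (add_zero _) + ξt.comp (Ext.mk₀ (ir ≫ φ)) (add_zero _) := by
    intro M φ
    simp only [ξ, Ext.add_comp, Ext.comp_assoc_of_third_deg_zero, Ext.mk₀_comp_mk₀]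
  have hpi : ∀ {M : ModuleCat.{u} A} (φ : R ⟶ M),
      (Ext.mk₀ S.g).comp (ξ.comp (Ext.mk₀ φ) (add_zero _)) (zero_add _) =
        ξ''.comp (Ext.mk₀ (ir ≫ φ)) (add_zero _) := by
    intro M φ
    rw [hcomp, Ext.comp_add]
    have e1 : (Ext.mk₀ S.g).comp (δξ.comp (Ext.mk₀ (il ≫ φ)) (add_zero _)) (zero_add _) = 0 := by
      rw [← Ext.comp_assoc_of_third_deg_zero]
      simp only [δξ]
      rw [hS.comp_extClass_assoc, Ext.zero_comp]
    have e2 : (Ext.mk₀ S.g).comp (ξt.comp (Ext.mk₀ (ir ≫ φ)) (add_zero _)) (zero_add _) =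
        ξ''.comp (Ext.mk₀ (ir ≫ φ)) (add_zero _) := by
      have := Ext.comp_assoc_of_third_deg_zero (Ext.mk₀ S.g) ξt (Ext.mk₀ (ir ≫ φ)) (zero_add (i + 1))
      rw [← this]
      exact congrArg (fun t : Ext S.X₂ R'' (i + 1) => t.comp (Ext.mk₀ (ir ≫ φ)) (add_zero _)) hξt
    rw [e1, e2, zero_add]
  refine ⟨R, killed_prod kR' kR'', ξ, ?_, ?_⟩
  · intro M hM
    have u' := hξ' M hM
    have u'' := hξ'' M hM
    have hxM : ∀ {n : ℕ} (b : Ext S.X₂ M n), (Ext.mk₀ S.f).comp b (zero_add n) = 0 := by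
      intro n b
      have : (Ext.mk₀ S.f).comp b (zero_add n) = x • b := Groth.Agent.S5665.smul_eq (N := N) b x
      rw [this]
      exact smul_ext_eq_zero b x (hM x hx)
    constructor
    · intro φ φ' hφ
      change ξ.comp (Ext.mk₀ φ) (add_zero _) = ξ.comp (Ext.mk₀ φ') (add_zero _) at hφ
      have hr : ir ≫ φ = ir ≫ φ' := by
        apply u''.1
        change ξ''.comp (Ext.mk₀ (ir ≫ φ)) (add_zero _) = ξ''.comp (Ext.mk₀ (ir ≫ φ')) (add_zero _)
        rw [← hpi φ, ← hpi φ', hφ]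
      have hl : il ≫ φ = il ≫ φ' := by
        rw [hcomp, hcomp, hr] at hφ
        have h3 := add_right_cancel hφ
        -- δ(ξ'.comp (il ≫ φ)) = δ(ξ'.comp (il ≫ φ'))
        have h4 : hS.extClass.comp (ξ'.comp (Ext.mk₀ (il ≫ φ)) (add_zero _) -
            ξ'.comp (Ext.mk₀ (il ≫ φ')) (add_zero _)) (add_comm 1 i) = 0 := by
          rw [comp_sub', sub_eq_zero]
          simp only [δξ, Ext.comp_assoc_of_third_deg_zero] at h3
          exact h3
        obtain ⟨y, hy⟩ := Ext.contravariant_sequence_exact₁ hS M _ (add_comm 1 i) h4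
        rw [hxM y] at hy
        apply u'.1
        change ξ'.comp (Ext.mk₀ (il ≫ φ)) (add_zero _) = ξ'.comp (Ext.mk₀ (il ≫ φ')) (add_zero _)
        exact sub_eq_zero.mp hy.symm
      exact hdecomp φ φ' hl hr
    · intro η
      obtain ⟨ψ'', hψ''⟩ := u''.2 ((Ext.mk₀ S.g).comp η (zero_add _))
      change ξ''.comp (Ext.mk₀ ψ'') (add_zero _) = _ at hψ''
      have h5 : (Ext.mk₀ S.g).comp (η - ξt.comp (Ext.mk₀ ψ'') (add_zero _)) (zero_add _) = 0 := by
        rw [comp_sub', ← Ext.comp_assoc_of_third_deg_zero, hξt, hψ'', sub_self]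
      obtain ⟨ζ, hζ⟩ := Ext.contravariant_sequence_exact₃ hS M _ h5 (add_comm 1 i)
      obtain ⟨ψ', hψ'⟩ := u'.2 ζ
      change ξ'.comp (Ext.mk₀ ψ') (add_zero _) = _ at hψ'
      let φ : R ⟶ M := ModuleCat.ofHom (LinearMap.coprod ψ'.hom ψ''.hom)
      have hl : il ≫ φ = ψ' := by
        apply ModuleCat.hom_ext
        exact LinearMap.coprod_inl _ _
      have hr : ir ≫ φ = ψ'' := by
        apply ModuleCat.hom_ext
        exact LinearMap.coprod_inr _ _
      refine ⟨φ, ?_⟩
      change ξ.comp (Ext.mk₀ φ) (add_zero _) = η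
      rw [hcomp, hl, hr]
      simp only [δξ, Ext.comp_assoc_of_third_deg_zero]
      rw [hψ', hζ]
      abel
  · intro M hM
    obtain ⟨e'⟩ := he' M hM
    obtain ⟨e''⟩ := he'' M hM
    exact prodHomEquiv e' e''

end step

theorem main (I : Ideal A) (xs : List A) : ∀ (N : ModuleCat.{u} A) (k : ℕ),
    (∀ x ∈ xs, x ∈ I) → RingTheory.Sequence.IsWeaklyRegular N xs →
    (∀ i, Q I N i (k.choose i)) →
    ∀ i, Q I (ModuleCat.of A (N ⧸ (Ideal.ofList xs • ⊤ : Submodule A N))) i
      ((k + xs.length).choose i) := by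
  induction xs with
  | nil =>
    intro N k _ _ h i
    have e1 : (Ideal.ofList ([] : List A) • ⊤ : Submodule A N) = ⊥ := by simp
    simpa using (h i).congr (Submodule.quotEquivOfEqBot _ e1).symm.toModuleIso
  | cons x xs ih =>
    intro N k hmem hreg h i
    rw [RingTheory.Sequence.isWeaklyRegular_cons_iff] at hreg
    have hx : x ∈ I := hmem x (by simp)
    have h1 : ∀ j, Q I (ModuleCat.of A (QuotSMulTop x N)) j ((k + 1).choose j) := by
      intro j
      cases j with
      | zero =>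
        have := step_zero hx hreg.1 (h 0)
        simpa using this
      | succ j =>
        rw [Nat.choose_succ_succ]
        exact step_succ hx hreg.1 (h j) (h (j + 1))
    have h2 := ih _ (k + 1) (fun y hy => hmem y (by simp [hy])) hreg.2 h1 i
    have hlen : k + (x :: xs).length = k + 1 + xs.length := by simp; omega
    rw [hlen]
    exact h2.congr
      (Submodule.quotOfListConsSMulTopEquivQuotSMulTopInner N x xs).symm.toModuleIso

lemma base (I : Ideal A) : ∀ i, Q I (ModuleCat.of A A) i (Nat.choose 0 i) := by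
  intro i
  cases i with
  | zero =>
    let B : ModuleCat.{u} A := ModuleCat.of A (A ⧸ I)
    have kB : Killed I B := by
      intro a ha m
      obtain ⟨m, rfl⟩ := Ideal.Quotient.mk_surjective m
      change a • (Ideal.Quotient.mk I m) = 0
      rw [← Ideal.Quotient.mk_eq_mk, ← Submodule.Quotient.mk_smul]
      exact (Submodule.Quotient.mk_eq_zero _).mpr (I.mul_mem_right m ha)
    let q : ModuleCat.of A A ⟶ B := ModuleCat.ofHom (Submodule.mkQ I)
    refine ⟨B, kB, Ext.mk₀ q, ?_, ?_⟩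
    · intro M hM
      have hbij : Function.Bijective (fun φ : B ⟶ M => q ≫ φ) := by
        constructor
        · intro φ φ' h
          haveI : Epi q := (ModuleCat.epi_iff_surjective q).mpr (Submodule.mkQ_surjective I)
          exact (cancel_epi q).mp h
        · intro ψ
          have hle : I ≤ LinearMap.ker ψ.hom := by
            intro a ha
            rw [LinearMap.mem_ker]
            have : ψ.hom a = a • ψ.hom (1 : A) := by
              rw [← map_smul]; simp
            rw [this]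
            exact hM a ha _
          refine ⟨ModuleCat.ofHom (Submodule.liftQ I ψ.hom hle), ?_⟩
          apply ModuleCat.hom_ext
          apply LinearMap.ext
          intro a
          rfl
      have : (fun φ : B ⟶ M => (Ext.mk₀ q).comp (Ext.mk₀ φ) (add_zero 0)) =
          (Ext.addEquiv₀ (X := ModuleCat.of A A) (Y := M)).symm ∘ (fun φ : B ⟶ M => q ≫ φ) := by
        funext φ
        simp [Ext.mk₀_comp_mk₀]
      rw [this]
      exact (Ext.addEquiv₀ (X := ModuleCat.of A A) (Y := M)).symm.bijective.comp hbij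
    · intro M hM
      have e1 : (B ⟶ M) ≃ₗ[A] ((A ⧸ I) →ₗ[A] M) := ModuleCat.homLinearEquiv (S := A)
      have e2 : ((A ⧸ I) →ₗ[A] M) ≃ₗ[A] M :=
        { toFun := fun f => f (Submodule.Quotient.mk (1 : A))
          map_add' := fun f g => rfl
          map_smul' := fun a f => rfl
          invFun := fun m => Submodule.liftQ I (LinearMap.toSpanSingleton A M m) (by
            intro a ha
            rw [LinearMap.mem_ker, LinearMap.toSpanSingleton_apply]
            exact hM a ha m)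
          left_inv := fun f => by
            apply LinearMap.ext
            intro b
            obtain ⟨b, rfl⟩ := Submodule.Quotient.mk_surjective _ b
            simp only [Submodule.liftQ_apply, LinearMap.toSpanSingleton_apply]
            rw [← map_smul, ← Submodule.Quotient.mk_smul]
            simp
          right_inv := fun m => by
            change LinearMap.toSpanSingleton A M m (1 : A) = m
            simp }
      exact ⟨e1.trans (e2.trans (LinearEquiv.funUnique (Fin 1) A M).symm)⟩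
  | succ i =>
    rw [Nat.choose_zero_succ]
    let Z : ModuleCat.{u} A := ModuleCat.of A PUnit
    have hZ : Limits.IsZero Z := ModuleCat.isZero_of_subsingleton _
    refine ⟨Z, fun a ha m => Subsingleton.elim _ _, 0, ?_, ?_⟩
    · intro M hM
      haveI : Subsingleton (Z ⟶ M) := ⟨fun f g => hZ.eq_of_src f g⟩
      haveI : Subsingleton (Ext (ModuleCat.of A A) M (i + 1)) :=
        Abelian.Ext.subsingleton_of_projective _ _ i
      constructor
      · intro f g _; exact Subsingleton.elim _ _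
      · intro η; exact ⟨0, Subsingleton.elim _ _⟩
    · intro M hM
      haveI : Subsingleton (Z ⟶ M) := ⟨fun f g => hZ.eq_of_src f g⟩
      exact ⟨LinearEquiv.ofSubsingleton _ _⟩


/-- All degrees, for a module killed by `J`: let `A` be a commutative ring, `xs = (x_1, …, x_p)` a
sequence in `A` such that each `x_i` is a non-zero-divisor on `A/(x_1, …, x_{i-1})`, `J` the ideal
generated by the `x_i`, and `M` an `A`-module with `JM = 0`. Then for every `i`, `Ext^i_A(A/J, M)`
is isomorphic as an `A`-module to `M^(p choose i)` (so it vanishes for `i > p`). (Existence of an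
`A`-linear isomorphism only; the published one is `Ext^i_A(A/J, M) ≅ Hom_A(Λ^i(J/J^2), M)` with
`J/J^2` free of rank `p` over `A/J`.) -/
theorem result (A : Type u) [CommRing A] (xs : List A) (hreg : RingTheory.Sequence.IsWeaklyRegular A xs) (M : Type u) [AddCommGroup M] [Module A M] (hJM : Ideal.ofList xs • (⊤ : Submodule A M) = ⊥) (i : ℕ) : Nonempty (Abelian.Ext (ModuleCat.of A (A ⧸ Ideal.ofList xs)) (ModuleCat.of A M) i ≃ₗ[A] (Fin (xs.length.choose i) → M)) := by
  classical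
  set I : Ideal A := Ideal.ofList xs with hI
  have hM : Killed I (ModuleCat.of A M) := by
    intro a ha m
    have : a • m ∈ I • (⊤ : Submodule A M) := Submodule.smul_mem_smul ha trivial
    rw [hJM] at this
    simpa using this
  have hreg' : RingTheory.Sequence.IsWeaklyRegular (ModuleCat.of A A) xs := hreg
  have hmem : ∀ x ∈ xs, x ∈ I := fun x hx => Ideal.subset_span (by simpa using hx)
  have h := main I xs (ModuleCat.of A A) 0 hmem hreg' (base I) i
  rw [zero_add] at h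
  obtain ⟨R, kR, ξ, hξ, he⟩ := h
  obtain ⟨e⟩ := he _ hM
  have e0 : (A ⧸ (Ideal.ofList xs • ⊤ : Submodule A A)) ≃ₗ[A] (A ⧸ Ideal.ofList xs) :=
    Submodule.quotEquivOfEq _ _ (by simp)
  exact ⟨(Groth.Agent.S5665.extCongr e0.toModuleIso (ModuleCat.of A M) i).symm.trans
    ((univEquiv ξ (ModuleCat.of A M) (hξ _ hM)).symm.trans e)⟩

end Groth.Agent.S5666
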