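import Groth.Statements.S5673
import Mathlib
import Groth.Agent.Lib.Helper7.LeftDerivedLES
import Groth.Agent.Lib.Helper10.ExtShift

set_option autoImplicit false
universe u
open CategoryTheory
open Dual

namespace Groth.Agent.S5673

set_option linter.style.haveILetI false

open Limits MonoidalCategory

section general

universe v₁ u₁ v₂ u₂

variable {R : Type*} [Ring R] {C : Type u₁} [Category.{v₁} C] [Abelian C] [Linear R C]
  [HasProjectiveResolutions C] {D : Type u₂} [Category.{v₂} D] [Abelian D] [Linear R D]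

theorem homologyMap_smul_id {ι : Type*} {c : ComplexShape ι} (K : HomologicalComplex D c) (r : R)
    (i : ι) : HomologicalComplex.homologyMap (r • 𝟙 K) i = r • 𝟙 (K.homology i) := by
  have h1 : (HomologicalComplex.shortComplexFunctor D c i).map (r • 𝟙 K) =
      r • 𝟙 (K.sc i) := by
    ext <;> simp [HomologicalComplex.shortComplexFunctor] <;> rfl
  change ShortComplex.homologyMap ((HomologicalComplex.shortComplexFunctor D c i).map (r • 𝟙 K)) = _
  rw [h1, ShortComplex.homologyMap_smul, ShortComplex.homologyMap_id]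
  rfl

theorem leftDerived_map_smul_id (F : C ⥤ D) [F.Additive] [F.Linear R] (n : ℕ) (X : C) (r : R) :
    (F.leftDerived n).map (r • 𝟙 X) = r • 𝟙 ((F.leftDerived n).obj X) := by
  obtain ⟨P⟩ : Nonempty (ProjectiveResolution X) := HasProjectiveResolution.out
  have w : (r • 𝟙 P.complex) ≫ P.π = P.π ≫ (ChainComplex.single₀ C).map (r • 𝟙 X) := by
    apply HomologicalComplex.to_single_hom_ext
    simp [Linear.smul_comp, Linear.comp_smul]
    rfl
  rw [Functor.leftDerived_map_eq F n (r • 𝟙 X) (r • 𝟙 P.complex) w]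
  rw [Functor.comp_map, Functor.map_smul, CategoryTheory.Functor.map_id]
  change _ ≫ HomologicalComplex.homologyMap _ n ≫ _ = _
  rw [homologyMap_smul_id, Linear.smul_comp, Linear.comp_smul, Category.id_comp, Iso.hom_inv_id]

end general

section mod

variable {A : Type u} [CommRing A]

theorem equiv_of_same_range {T L H H' : Type*} [AddCommGroup T] [Module A T] [AddCommGroup L]
    [Module A L] [AddCommGroup H] [Module A H] [AddCommGroup H'] [Module A H']
    (δ : T →ₗ[A] L) (hδ : Function.Injective δ) (e : L ≃ₗ[A] H) (ρ : H' →ₗ[A] H)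
    (hρ : Function.Injective ρ) (x : A)
    (h1 : ∀ t : L, t ∈ LinearMap.range δ ↔ x • t = 0)
    (h2 : ∀ t : H, t ∈ LinearMap.range ρ ↔ x • t = 0) : Nonempty (T ≃ₗ[A] H') := by
  have hinj : Function.Injective (e.toLinearMap ∘ₗ δ) := e.injective.comp hδ
  have hr : LinearMap.range (e.toLinearMap ∘ₗ δ) = LinearMap.range ρ := by
    ext y
    rw [h2 y]
    constructor
    · rintro ⟨t, rfl⟩
      rw [LinearMap.comp_apply, LinearEquiv.coe_coe, ← map_smul, (h1 (δ t)).1 ⟨t, rfl⟩, map_zero]
    · intro hy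
      have : e.symm y ∈ LinearMap.range δ := by
        rw [h1, ← map_smul, hy, map_zero]
      obtain ⟨t, ht⟩ := this
      exact ⟨t, by rw [LinearMap.comp_apply, ht]; simp⟩
  exact ⟨(LinearEquiv.ofInjective _ hinj) ≪≫ₗ (LinearEquiv.ofEq _ _ hr) ≪≫ₗ
    (LinearEquiv.ofInjective ρ hρ).symm⟩

variable (J' J : Ideal A) (x : A) (hJ : J = J' ⊔ Ideal.span {x})

/-- the projection `A/J' → A/J` -/
def gq (h : J' ≤ J) : (A ⧸ J') →ₗ[A] (A ⧸ J) := Submodule.mapQ J' J LinearMap.id h

theorem gq_mk (h : J' ≤ J) (a : A) :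
    gq J' J h (Ideal.Quotient.mk J' a) = Ideal.Quotient.mk J a := rfl

theorem gq_surj (h : J' ≤ J) : Function.Surjective (gq J' J h) := by
  intro b
  obtain ⟨a, rfl⟩ := Ideal.Quotient.mk_surjective b
  exact ⟨Ideal.Quotient.mk J' a, rfl⟩

include hJ in
theorem exact_fg (h : J' ≤ J) :
    Function.Exact (x • LinearMap.id : (A ⧸ J') →ₗ[A] (A ⧸ J')) (gq J' J h) := by
  intro b
  obtain ⟨a, rfl⟩ := Ideal.Quotient.mk_surjective b
  rw [gq_mk, Ideal.Quotient.eq_zero_iff_mem, hJ, Submodule.mem_sup]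
  constructor
  · rintro ⟨j, hj, z, hz, rfl⟩
    obtain ⟨r, rfl⟩ := Ideal.mem_span_singleton'.1 hz
    refine ⟨Ideal.Quotient.mk J' r, ?_⟩
    rw [LinearMap.smul_apply, LinearMap.id_apply, map_add,
      Ideal.Quotient.eq_zero_iff_mem.2 hj, zero_add, mul_comm, map_mul]
    rfl
  · rintro ⟨c, hc⟩
    obtain ⟨r, rfl⟩ := Ideal.Quotient.mk_surjective c
    rw [LinearMap.smul_apply, LinearMap.id_apply] at hc
    have h3 : Ideal.Quotient.mk J' (a - x * r) = 0 := by
      rw [map_sub, ← hc, map_mul]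
      change _ - Ideal.Quotient.mk J' x * _ = 0
      exact sub_self _
    refine ⟨a - x * r, Ideal.Quotient.eq_zero_iff_mem.1 h3, x * r, ?_, by ring⟩
    exact Ideal.mem_span_singleton'.2 ⟨r, mul_comm _ _⟩

include hJ in
theorem range_rho (h : J' ≤ J) (M : Type*) [AddCommGroup M] [Module A M]
    (φ : (A ⧸ J') →ₗ[A] M) :
    φ ∈ LinearMap.range (LinearMap.lcomp A M (gq J' J h)) ↔ x • φ = 0 := by
  constructor
  · rintro ⟨ψ, rfl⟩
    apply LinearMap.ext
    intro b
    rw [LinearMap.smul_apply, LinearMap.lcomp_apply', LinearMap.comp_apply, ← map_smul,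
      ← map_smul]
    have : gq J' J h (x • b) = 0 := by
      rw [(exact_fg J' J x hJ h (x • b))]
      exact ⟨b, rfl⟩
    rw [this, map_zero]
    rfl
  · intro hφ
    have hker : LinearMap.ker (gq J' J h) ≤ LinearMap.ker φ := by
      intro b hb
      rw [LinearMap.mem_ker, exact_fg J' J x hJ h b] at hb
      obtain ⟨c, rfl⟩ := hb
      rw [LinearMap.mem_ker, LinearMap.smul_apply, LinearMap.id_apply, map_smul]
      have := LinearMap.congr_fun hφ c
      rwa [LinearMap.smul_apply] at this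
    refine ⟨((LinearMap.ker (gq J' J h)).liftQ φ hker) ∘ₗ
      ((gq J' J h).quotKerEquivOfSurjective (gq_surj J' J h)).symm.toLinearMap, ?_⟩
    apply LinearMap.ext
    intro b
    rw [LinearMap.lcomp_apply', LinearMap.comp_apply, LinearMap.comp_apply, LinearEquiv.coe_coe]
    have : ((gq J' J h).quotKerEquivOfSurjective (gq_surj J' J h)).symm (gq J' J h b) =
        Submodule.Quotient.mk b := by
      rw [LinearEquiv.symm_apply_eq]
      rfl
    rw [this]
    rfl

end mod

section step

open Groth.Agent.Lib.helper7.LeftDerivedLES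

variable {A : Type u} [CommRing A] (G : ModuleCat.{u} A ⥤ ModuleCat.{u} A) [G.Additive]
  [G.Linear A]

theorem step_cat (Q' Q'' : ModuleCat.{u} A) (x : A) (g : Q' ⟶ Q'') (w : (x • 𝟙 Q') ≫ g = 0)
    (hS : (ShortComplex.mk (x • 𝟙 Q') g w).ShortExact) (p' : ℕ)
    (hz : ∀ j, p' < j → IsZero ((G.leftDerived j).obj Q')) :
    (∀ j, p' + 1 < j → IsZero ((G.leftDerived j).obj Q'')) ∧
    ∃ δ : (G.leftDerived (p' + 1)).obj Q'' →ₗ[A] (G.leftDerived p').obj Q',
      Function.Injective δ ∧ ∀ t, t ∈ LinearMap.range δ ↔ x • t = 0 := by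
  constructor
  · intro j hj
    obtain ⟨k, rfl⟩ : ∃ k, j = k + 1 := ⟨j - 1, by omega⟩
    obtain ⟨δ, w₁, w₂, ex₁, ex₂⟩ := leftDerived_exists_δ hS G k
    exact ex₁.isZero_of_both_zeros ((hz (k + 1) (by omega)).eq_of_src _ _)
      ((hz k (by omega)).eq_of_tgt _ _)
  · obtain ⟨δ, w₁, w₂, ex₁, ex₂⟩ := leftDerived_exists_δ hS G p'
    haveI : Mono δ := ex₁.mono_g ((hz (p' + 1) (by omega)).eq_of_src _ _)
    refine ⟨δ.hom, (ModuleCat.mono_iff_injective δ).1 inferInstance, ?_⟩
    intro t
    have h := (ShortComplex.moduleCat_exact_iff_range_eq_ker _).1 ex₂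
    change LinearMap.range δ.hom = LinearMap.ker ((G.leftDerived p').map (x • 𝟙 Q')).hom at h
    rw [h, leftDerived_map_smul_id]
    rfl

end step

section main

variable (A : Type u) [CommRing A] (M : Type u) [AddCommGroup M] [Module A M]

/-- `- ⊗ M` -/
noncomputable abbrev Gf : ModuleCat.{u} A ⥤ ModuleCat.{u} A := tensorRight (ModuleCat.of A M)

theorem base_case :
    (∀ j, 0 < j → IsZero (((Gf A M).leftDerived j).obj
      (ModuleCat.of A (A ⧸ Ideal.ofList ([] : List A))))) ∧
    Nonempty ((((Gf A M).leftDerived 0).obj (ModuleCat.of A (A ⧸ Ideal.ofList ([] : List A))))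
      ≃ₗ[A] ((A ⧸ Ideal.ofList ([] : List A)) →ₗ[A] M)) := by
  let e₀ : (A ⧸ Ideal.ofList ([] : List A)) ≃ₗ[A] A :=
    Submodule.quotEquivOfEqBot _ Ideal.ofList_nil
  haveI : Module.Projective A (A ⧸ Ideal.ofList ([] : List A)) :=
    Module.Projective.of_equiv e₀.symm
  haveI : Projective (ModuleCat.of A (A ⧸ Ideal.ofList ([] : List A))) :=
    (IsProjective.iff_projective (R := A) (P := (A ⧸ Ideal.ofList ([] : List A)))).1 inferInstance
  constructor
  · intro j hj
    obtain ⟨k, rfl⟩ : ∃ k, j = k + 1 := ⟨j - 1, by omega⟩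
    exact Functor.isZero_leftDerived_obj_projective_succ _ _ _
  · let α := ((Gf A M).leftDerivedZeroIsoSelf).app
      (ModuleCat.of A (A ⧸ Ideal.ofList ([] : List A)))
    let e₁ : ((Gf A M).obj (ModuleCat.of A (A ⧸ Ideal.ofList ([] : List A)))) ≃ₗ[A]
        TensorProduct A (A ⧸ Ideal.ofList ([] : List A)) M := LinearEquiv.refl _ _
    exact ⟨α.toLinearEquiv ≪≫ₗ e₁ ≪≫ₗ (TensorProduct.congr e₀ (LinearEquiv.refl A M)) ≪≫ₗ
      (TensorProduct.lid A M) ≪≫ₗ (LinearMap.ringLmapEquivSelf A A M).symm ≪≫ₗ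
      (LinearEquiv.arrowCongr e₀.symm (LinearEquiv.refl A M))⟩

theorem main_ind (xs : List A) : RingTheory.Sequence.IsWeaklyRegular A xs →
    (∀ j, xs.length < j → IsZero (((Gf A M).leftDerived j).obj
      (ModuleCat.of A (A ⧸ Ideal.ofList xs)))) ∧
    Nonempty ((((Gf A M).leftDerived xs.length).obj (ModuleCat.of A (A ⧸ Ideal.ofList xs)))
      ≃ₗ[A] ((A ⧸ Ideal.ofList xs) →ₗ[A] M)) := by
  induction xs using List.reverseRecOn with
  | nil => intro _; exact base_case A M
  | append_singleton ys x ih =>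
    intro hreg
    obtain ⟨hys, hx⟩ := (RingTheory.Sequence.isWeaklyRegular_append_iff A ys [x]).1 hreg
    rw [RingTheory.Sequence.isWeaklyRegular_singleton_iff] at hx
    obtain ⟨hz', ⟨e⟩⟩ := ih hys
    set J' := Ideal.ofList ys with hJ'def
    set J := Ideal.ofList (ys ++ [x]) with hJdef
    have hJ : J = J' ⊔ Ideal.span {x} := by
      rw [hJdef, Ideal.ofList_append, Ideal.ofList_singleton]
    have h : J' ≤ J := hJ ▸ le_sup_left
    have hx' : IsSMulRegular (A ⧸ J') x := by
      have heq : (J' • ⊤ : Submodule A A) = J' := by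
        rw [smul_eq_mul, Ideal.mul_top]
      exact ((Submodule.quotEquivOfEq _ _ heq).isSMulRegular_congr x).1 hx
    let Q' : ModuleCat.{u} A := ModuleCat.of A (A ⧸ J')
    let Q'' : ModuleCat.{u} A := ModuleCat.of A (A ⧸ J)
    let g : Q' ⟶ Q'' := ModuleCat.ofHom (gq J' J h)
    have w : (x • 𝟙 Q') ≫ g = 0 := by
      apply ModuleCat.hom_ext
      apply LinearMap.ext
      intro b
      exact (exact_fg J' J x hJ h).apply_apply_eq_zero b
    have hS : (ShortComplex.mk (x • 𝟙 Q') g w).ShortExact :=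
      { exact := (ShortComplex.ShortExact.moduleCat_exact_iff_function_exact _).2
          (exact_fg J' J x hJ h)
        mono_f := (ModuleCat.mono_iff_injective _).2 (fun a b hab => hx' hab)
        epi_g := (ModuleCat.epi_iff_surjective _).2 (gq_surj J' J h) }
    obtain ⟨hzero, δ, hδinj, hδr⟩ := step_cat (Gf A M) Q' Q'' x g w hS ys.length hz'
    have hlen : (ys ++ [x]).length = ys.length + 1 := by simp
    rw [hlen]
    refine ⟨hzero, ?_⟩
    exact equiv_of_same_range δ hδinj e (LinearMap.lcomp A M (gq J' J h))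
      (LinearMap.lcomp_injective_of_surjective _ (gq_surj J' J h)) x hδr
      (range_rho J' J x hJ h M)

theorem main_final (xs : List A) (hreg : RingTheory.Sequence.IsWeaklyRegular A xs) :
    Nonempty (↑(((Tor' (ModuleCat.{u} A) xs.length).obj
      (ModuleCat.of A (A ⧸ Ideal.ofList xs))).obj (ModuleCat.of A M)) ≃ₗ[A]
      ((A ⧸ Ideal.ofList xs) →ₗ[A] M)) :=
  (main_ind A M xs hreg).2

end main



/-- Let `A` be a commutative ring, `xs = (x_1, …, x_p)` a sequence in `A` such that each `x_i` is a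
non-zero-divisor on `A/(x_1, …, x_{i-1})`, `J` the ideal generated by the `x_i` and `M` any
`A`-module. Then `Tor_p^A(A/J, M)` (Mathlib's `Tor'`, the left derived functors of `- ⊗ M` evaluated
at `A/J`, i.e. computed from a resolution of `A/J`) is isomorphic as an `A`-module to `Hom_A(A/J,
M)`, i.e. to the elements of `M` killed by `J`. (Existence of an `A`-linear isomorphism only; the
published one is induced by the Koszul complex of `xs`.) -/
theorem result (A : Type u) [CommRing A] (xs : List A) (hreg : RingTheory.Sequence.IsWeaklyRegular A xs) (M : Type u) [AddCommGroup M] [Module A M] : Nonempty (↑(((Tor' (ModuleCat.{u} A) xs.length).obj (ModuleCat.of A (A ⧸ Ideal.ofList xs))).obj (ModuleCat.of A M)) ≃ₗ[A] ((A ⧸ Ideal.ofList xs) →ₗ[A] M)) := by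
  exact main_final A M xs hreg

end Groth.Agent.S5673
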