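import Groth.Statements.S5691
import Mathlib
set_option linter.style.haveILetI false
set_option linter.unusedSectionVars false

set_option autoImplicit false
universe u
open CategoryTheory CategoryTheory.Limits
open FGA

namespace Groth.Agent.S5691

section PR

variable {C : Type u} [SmallCategory C] [HasFiniteLimits C] (F : C ⥤ Type u) [PreservesFiniteLimits F]

/-- minimal element of the category of elements -/
def IsMinEl : ObjectProperty F.Elements := fun p =>
  ∀ (Y : C) (i : Y ⟶ p.1) [Mono i] (η : F.obj Y), F.map i η = p.2 → IsIso i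

variable {F}

lemma eq_of_min {p : F.Elements} (hp : IsMinEl F p) {Z : C} (u v : p.1 ⟶ Z)
    (h : F.map u p.2 = F.map v p.2) : u = v := by
  have hlim := isLimitOfHasEqualizerOfPreservesLimit F u v
  obtain ⟨η, hη, -⟩ := Types.unique_of_type_equalizer _ _ hlim p.2 h
  have : IsIso (equalizer.ι u v) := hp _ (equalizer.ι u v) η hη
  rw [← cancel_epi (equalizer.ι u v)]
  exact equalizer.condition u v

lemma epi_of_min {p q : F.Elements} (hq : IsMinEl F q) (f : p ⟶ q) : Epi f.val := by
  constructor
  intro Z v w hvw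
  apply eq_of_min hq
  have := f.2
  rw [← this]
  change (F.map f.val ≫ F.map v) p.2 = (F.map f.val ≫ F.map w) p.2
  rw [← F.map_comp, ← F.map_comp, hvw]

lemma exists_min (hart : ∀ X : C, IsArtinianObject X) (p : F.Elements) :
    ∃ q : F.Elements, IsMinEl F q ∧ ∃ f : q ⟶ p, Mono f.val := by
  obtain ⟨X, ξ⟩ := p
  have := hart X
  let S : Set (Subobject X) := {A | ∃ η : F.obj (A : C), F.map A.arrow η = ξ}
  have hne : S.Nonempty := by
    refine ⟨⊤, F.map (inv (⊤ : Subobject X).arrow) ξ, ?_⟩
    change (F.map (inv (⊤ : Subobject X).arrow) ≫ F.map (⊤ : Subobject X).arrow) ξ = ξ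
    rw [← F.map_comp, IsIso.inv_hom_id, F.map_id]
    rfl
  obtain ⟨A, ⟨η, hη⟩, hmin⟩ := wellFounded_lt.has_min S hne
  refine ⟨⟨(A : C), η⟩, ?_, ⟨A.arrow, hη⟩, inferInstanceAs (Mono A.arrow)⟩
  intro Y i _ η' hη'
  by_contra hiso
  have hlt : Subobject.mk (i ≫ A.arrow) < Subobject.mk A.arrow :=
    Subobject.mk_lt_mk_of_comm i rfl hiso
  rw [Subobject.mk_arrow] at hlt
  refine hmin (Subobject.mk (i ≫ A.arrow)) ⟨F.map (Subobject.underlyingIso (i ≫ A.arrow)).inv η', ?_⟩ hlt
  change (F.map (Subobject.underlyingIso (i ≫ A.arrow)).inv ≫ F.map (Subobject.mk (i ≫ A.arrow)).arrow) η' = ξ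
  rw [← F.map_comp, Subobject.underlyingIso_arrow, F.map_comp]
  change F.map A.arrow (F.map i η') = ξ
  rw [hη']
  exact hη

variable (F) in
abbrev J := (IsMinEl F).FullSubcategory

variable (F) in
abbrev D : J F ⥤ C := (IsMinEl F).ι ⋙ CategoryOfElements.π F

lemma hom_eq {j j' : J F} (f g : j ⟶ j') : f = g := by
  apply ObjectProperty.hom_ext
  apply CategoryOfElements.ext
  apply eq_of_min j.property
  rw [f.hom.2, g.hom.2]

lemma exists_prod_elt (p₁ p₂ : F.Elements) :
    ∃ (q : F.Elements) (_ : q ⟶ p₁), Nonempty (q ⟶ p₂) := by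
  let ζ : F.obj (p₁.1 ⨯ p₂.1) :=
    (PreservesLimitPair.iso F p₁.1 p₂.1).inv ((Types.binaryProductIso _ _).inv (p₁.2, p₂.2))
  refine ⟨⟨p₁.1 ⨯ p₂.1, ζ⟩, ⟨prod.fst, ?_⟩, ⟨⟨prod.snd, ?_⟩⟩⟩
  · change ((Types.binaryProductIso _ _).inv ≫ (PreservesLimitPair.iso F p₁.1 p₂.1).inv ≫ F.map prod.fst) (p₁.2, p₂.2) = p₁.2
    rw [PreservesLimitPair.iso_inv_fst, Types.binaryProductIso_inv_comp_fst]
    rfl
  · change ((Types.binaryProductIso _ _).inv ≫ (PreservesLimitPair.iso F p₁.1 p₂.1).inv ≫ F.map prod.snd) (p₁.2, p₂.2) = p₂.2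
    rw [PreservesLimitPair.iso_inv_snd, Types.binaryProductIso_inv_comp_snd]
    rfl

lemma nonempty_elt : Nonempty F.Elements := by
  have h : IsTerminal (F.obj (⊤_ C)) := IsTerminal.isTerminalObj F (⊤_ C) terminalIsTerminal
  have := (Types.isTerminalEquivUnique _) h
  exact ⟨⟨⊤_ C, this.default⟩⟩

lemma isCofiltered (hart : ∀ X : C, IsArtinianObject X) : IsCofiltered (J F) := by
  have : IsCofilteredOrEmpty (J F) := by
    constructor
    · intro j₁ j₂
      obtain ⟨q, f₁, ⟨f₂⟩⟩ := exists_prod_elt j₁.obj j₂.obj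
      obtain ⟨q', hq', g, -⟩ := exists_min hart q
      exact ⟨⟨q', hq'⟩, ObjectProperty.homMk (g ≫ f₁), ObjectProperty.homMk (g ≫ f₂), trivial⟩
    · intro j₁ j₂ f g
      exact ⟨j₁, 𝟙 _, by rw [hom_eq f g]⟩
  have : Nonempty (J F) := by
    obtain ⟨p⟩ := nonempty_elt (F := F)
    obtain ⟨q', hq', g, -⟩ := exists_min hart p
    exact ⟨⟨q', hq'⟩⟩
  constructor

variable (F) in
noncomputable def cocone : Cocone ((D F).op ⋙ coyoneda) where
  pt := F
  ι :=
    { app := fun j => coyonedaEquiv.symm j.unop.obj.2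
      naturality := by
        intro j j' a
        have h := a.unop.hom.2
        simp only [Functor.const_obj_obj, Functor.const_obj_map, Category.comp_id]
        have h2 := coyonedaEquiv_symm_map (F := F) a.unop.hom.val (Opposite.unop j').obj.2
        exact h2.symm.trans (congrArg coyonedaEquiv.symm h) }

variable (F) in
noncomputable def isColimitCocone (hart : ∀ X : C, IsArtinianObject X) : IsColimit (cocone F) := by
  have := isCofiltered (F := F) hart
  refine evaluationJointlyReflectsColimits _ (fun Z => ?_)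
  refine Types.FilteredColimit.isColimitOf _ _ ?_ ?_
  · intro ζ
    obtain ⟨q, hq, f, -⟩ := exists_min hart (⟨Z, ζ⟩ : F.Elements)
    refine ⟨Opposite.op ⟨q, hq⟩, f.val, ?_⟩
    exact f.2.symm
  · intro i j xi xj h
    refine ⟨Opposite.op (IsCofiltered.min i.unop j.unop), (IsCofiltered.minToLeft i.unop j.unop).op,
      (IsCofiltered.minToRight i.unop j.unop).op, ?_⟩
    apply eq_of_min (IsCofiltered.min i.unop j.unop).property
    have ha := (IsCofiltered.minToLeft i.unop j.unop).hom.2
    have hb := (IsCofiltered.minToRight i.unop j.unop).hom.2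
    change F.map ((IsCofiltered.minToLeft i.unop j.unop).hom.val ≫ xi) _ =
      F.map ((IsCofiltered.minToRight i.unop j.unop).hom.val ≫ xj) _
    rw [F.map_comp, F.map_comp]
    change F.map xi (F.map _ _) = F.map xj (F.map _ _)
    exact (congrArg (fun t => F.map xi t) ha).trans (h.trans (congrArg (fun t => F.map xj t) hb).symm)


end PR


/-- Let C be a small category with finite limits all of whose objects are artinian (the subobjects of
each object satisfy the descending chain condition), and let F be a set-valued functor on C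
preserving finite limits. Then F is strictly pro-representable: there are a small cofiltered
category J and a diagram D : J ⥤ C all of whose transition morphisms are epimorphisms such that F is
isomorphic to the colimit of the corepresentable functors Hom(D j, -). -/
theorem result {C : Type u} [SmallCategory C]
    [HasFiniteLimits C] (hart : ∀ X : C, IsArtinianObject X) (F : C ⥤ Type u) [PreservesFiniteLimits F] :
    ∃ (J : Type u) (_ : SmallCategory J) (_ : IsCofiltered J) (D : J ⥤ C),
      (∀ ⦃j j' : J⦄ (a : j ⟶ j'), Epi (D.map a)) ∧ Nonempty (F ≅ colimit (D.op ⋙ coyoneda)) := by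
  have hcof := isCofiltered (F := F) hart
  refine ⟨J F, inferInstance, hcof, D F, ?_, ?_⟩
  · intro j j' a
    exact epi_of_min j'.property a.hom
  · exact ⟨((colimit.isColimit _).coconePointUniqueUpToIso (isColimitCocone F hart)).symm⟩

end Groth.Agent.S5691
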