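import Groth.Statements.S5693
import Groth.Agent.Lib.Helper5.GrpNeutral6
import Groth.Agent.Lib.Helper5.ConsApprox1

set_option autoImplicit false
universe u
open CategoryTheory CategoryTheory.Limits MonoidalCategory CartesianMonoidalCategory MonObj GrpObj AlgebraicGeometry
open FGA

namespace Groth.Agent.S5693

/-- Let S be a locally Noetherian scheme, G a commutative group scheme locally of finite type over S and
n ≥ 1 an integer. The set of points x of G for which n is the least positive integer such that the
n-th power morphism sends x into the union of the connected components of the identity of the fibres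
is locally constructible in G (the order function on the torsion-component set is locally
constructible). -/
theorem result (S : Scheme.{u}) [IsLocallyNoetherian S] (G : Over S) [GrpObj G]
    [IsCommMonObj G] [LocallyOfFiniteType G.hom] (n : ℕ) (hn : 0 < n) :
    Topology.IsLocallyConstructible {x : ↥G.left | ((𝟙 G : G ⟶ G) ^ n).left.base x ∈ SGA3x.neutralSet G ∧
      ∀ d : ℕ, 0 < d → d < n → ((𝟙 G : G ⟶ G) ^ d).left.base x ∉ SGA3x.neutralSet G} := by
  haveI : LocallyOfFinitePresentation G.hom := Groth.Agent.Lib.helper5.FppfImage.lfp_of_lft_noeth G.hom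
  haveI : IsLocallyNoetherian G.left := LocallyOfFiniteType.isLocallyNoetherian G.hom
  haveI : QuasiSeparatedSpace ↥G.left := inferInstance
  haveI : QuasiSeparated G.hom := inferInstance
  have hlc : Topology.IsLocallyConstructible (SGA3x.neutralSet G) :=
    Groth.Agent.Lib.helper5.GrpNeutral6.isLocallyConstructible_neutralSet G
  have hpre : ∀ d : ℕ, Topology.IsLocallyConstructible
      {x : ↥G.left | ((𝟙 G : G ⟶ G) ^ d).left.base x ∈ SGA3x.neutralSet G} := fun d =>
    Groth.Agent.Lib.helper5.ConsApprox.isLocallyConstructible_preimage ((𝟙 G : G ⟶ G) ^ d).left hlc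
  have hcompl : ∀ {s : Set ↥G.left}, Topology.IsLocallyConstructible s → Topology.IsLocallyConstructible sᶜ := by
    intro s hs x
    obtain ⟨U, hxU, hU, hUs⟩ := hs x
    exact ⟨U, hxU, hU, by simpa using hUs.compl⟩
  have hset : {x : ↥G.left | ((𝟙 G : G ⟶ G) ^ n).left.base x ∈ SGA3x.neutralSet G ∧
      ∀ d : ℕ, 0 < d → d < n → ((𝟙 G : G ⟶ G) ^ d).left.base x ∉ SGA3x.neutralSet G} =
      {x : ↥G.left | ((𝟙 G : G ⟶ G) ^ n).left.base x ∈ SGA3x.neutralSet G} ∩
        ⋂ d ∈ (Finset.Ioo 0 n : Finset ℕ),
          {x : ↥G.left | ((𝟙 G : G ⟶ G) ^ d).left.base x ∈ SGA3x.neutralSet G}ᶜ := by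
    ext x
    simp only [Set.mem_ofPred_eq, Set.mem_inter_iff, Set.mem_iInter, Finset.mem_Ioo, Set.mem_compl_iff,
      and_imp]
  rw [hset]
  refine (hpre n).inter ?_
  have := Topology.IsLocallyConstructible.finsetInf (s := Finset.Ioo 0 n)
    (t := fun d => {x : ↥G.left | ((𝟙 G : G ⟶ G) ^ d).left.base x ∈ SGA3x.neutralSet G}ᶜ)
    (fun d _ => hcompl (hpre d))
  rw [Finset.inf_set_eq_iInter] at this
  exact this

end Groth.Agent.S5693
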