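import Groth.Statements.S5699
import Groth.Agent.Lib.Helper20.BoundedPn
import Groth.Agent.Lib.Helper20.BoundedQuot
import Groth.Agent.S0038

set_option autoImplicit false
universe u
open CategoryTheory CategoryTheory.Limits AlgebraicGeometry
open FGA

namespace Groth.Agent.S5699

/-- Let k be an algebraically closed field, P projective n-space over k, E a coherent module on P and Φ
a finite set of functions from ℤ to ℤ. Then the coherent quotient modules F of E whose Hilbert
function r ↦ χ(P, F(r)) (alternating sum of the dimensions of the cohomology groups in degrees at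
most n) lies in Φ form a bounded family: there are a k-scheme T of finite type and a coherent module
on P ×_k T such that every such F is isomorphic to its fibre at some k-point of T. Stated over an
algebraically closed field; the published statement is the relative version over a Noetherian base
for classes of sheaves on the fibres, which this special case does not cover. -/
theorem result (k : Type u) [Field k] [IsAlgClosed k] (n : ℕ)
    (E : (CohB1.ProjSpace n k).Modules) (hE : Coh.IsCoh E) (Φ : Set (ℤ → ℤ)) (hΦ : Φ.Finite) :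
    Pic13.IsBounded k (CohB1.ProjSpace n k) (fun F =>
      Coh.IsCoh F ∧ (∃ p : E ⟶ F, Epi p) ∧
        (fun r : ℤ => FGA.eulerCharLE k (CohB1.ProjSpace n k)
          (CohB1.tensorMod F (Twist.twistProjSpace n k r)) n) ∈ Φ) := by
  classical
  haveI : Infinite k := IsAlgClosed.instInfinite
  have hι : 𝟙 (CohB1.ProjSpace n k) ≫ CohB1.ProjSpace.toSpec n k =
      CohB1.ProjSpace n k ↘ Spec (CommRingCat.of k) := Category.id_comp _
  obtain ⟨M₀, -, hgg⟩ := Groth.Agent.Lib.Helper20.BoundedPn.exists_uniform_gg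
    (𝟙 (CohB1.ProjSpace n k)) hι E hE Φ hΦ
  have hM : Coh.IsCoh (CohB1.tensorMod E (Twist.twistProjSpace n k M₀)) :=
    Groth.Agent.Lib.helper20.CMGG.isCoh_twist hE M₀
  have hfin : @Module.Finite k
      ((CohB1.tensorMod E (Twist.twistProjSpace n k M₀)).val.obj (Opposite.op ⊤)) _ _
      (Groth.Agent.Lib.Helper18.HH.sectionsModuleOver k _) := by
    letI := Groth.Agent.Lib.Helper18.HH.sectionsModuleOver k
      (CohB1.tensorMod E (Twist.twistProjSpace n k M₀))
    haveI := Groth.Agent.S0038.result n k _ hM 0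
    exact Module.Finite.equiv (Groth.Agent.Lib.Helper18.HH.equiv₀Over k
      (CohB1.tensorMod E (Twist.twistProjSpace n k M₀)))
  obtain ⟨T, q, h1, h2, 𝓕, h𝓕, hfib⟩ := Groth.Agent.Lib.Helper20.BoundedQuot.exists_family_quot k
    (CohB1.tensorMod E (Twist.twistProjSpace n k M₀)) hM hfin (Twist.twistProjSpace n k (-M₀))
    (Groth.Agent.Lib.helper28.TwistPn.isInvertible n k (-M₀))
  refine ⟨T, q, h1, h2, 𝓕, h𝓕, ?_⟩
  rintro F ⟨hF, ⟨p, hp⟩, hf⟩
  -- the Hilbert function in the form of `Pic13.twistOn`
  have eTw : ∀ (G : (CohB1.ProjSpace n k).Modules) (r : ℤ),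
      Pic13.twistOn k (𝟙 (CohB1.ProjSpace n k)) G r ≅
        CohB1.tensorMod G (Twist.twistProjSpace n k r) := fun G r =>
    Groth.Agent.Lib.Lead.ModTensor.tensorIso (Iso.refl G)
      ((Scheme.Modules.pullbackId (CohB1.ProjSpace n k)).app (Twist.twistProjSpace n k r))
  have hf' : (fun r : ℤ => FGA.eulerCharLE k (CohB1.ProjSpace n k)
      (Pic13.twistOn k (𝟙 (CohB1.ProjSpace n k)) F r) n) ∈ Φ := by
    convert hf using 2 with r
    unfold FGA.eulerCharLE
    refine Finset.sum_congr rfl fun i _ => ?_
    rw [Groth.Agent.Lib.helper20.PushReg.finrank_of_iso (eTw F r) i]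
  have hgg1 := hgg F p hF hp hf'
  have hgg2 : Curv2.IsGloballyGenerated
      (CohB1.tensorMod (kernel p) (Twist.twistProjSpace n k M₀)) :=
    Groth.Agent.Lib.helper20.CMGG.gg_of_iso (eTw (kernel p) M₀) hgg1
  let SX : ShortComplex (CohB1.ProjSpace n k).Modules :=
    ShortComplex.mk (kernel.ι p) p (kernel.condition p)
  have hSX : SX.ShortExact :=
    ShortComplex.ShortExact.mk' (ShortComplex.exact_of_f_is_kernel SX (kernelIsKernel p))
      (inferInstanceAs (Mono (kernel.ι p))) hp
  have hS := Groth.Agent.Lib.Helper20.TwistEquivPn.shortExact_twistSC n k M₀ hSX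
  obtain ⟨t, ht, ⟨φ⟩⟩ := hfib _ hS (Iso.refl _) hgg2
  exact ⟨t, ht, ⟨φ ≪≫ Groth.Agent.Lib.Helper20.TwistEquivPn.twistTwistIso n k F M₀ (-M₀) ≪≫
    Groth.Agent.Lib.Lead.ModTensor.tensorIso (Iso.refl F)
      (Groth.Agent.Lib.Helper20.TwistEquivPn.twistCongr n k (add_neg_cancel M₀)) ≪≫
    Groth.Agent.Lib.Helper20.TwistEquivPn.twistZeroIso n k F⟩⟩

end Groth.Agent.S5699
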