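import Groth.Statements.S5703
import Mathlib
import Groth.Agent.Lib.Helper10.IdemLift
import Groth.Agent.Lib.Helper10.AzHom
import Groth.Agent.Lib.Helper8.Azumaya

set_option autoImplicit false
universe u v
open TensorProduct
open Dix

namespace Groth.Agent.S5703

set_option linter.style.haveILetI false
set_option linter.unusedSectionVars false
open TensorProduct IsLocalRing MulOpposite


section Gen

variable {R : Type u} [CommRing R] [IsLocalRing R]

/-- every element of `k ⊗ M` is of the form `1 ⊗ x` -/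
theorem exists_one_tmul (M : Type*) [AddCommGroup M] [Module R M] (t : ResidueField R ⊗[R] M) :
    ∃ x : M, t = (1 : ResidueField R) ⊗ₜ[R] x := by
  induction t using TensorProduct.induction_on with
  | zero => exact ⟨0, by simp⟩
  | tmul s x =>
    obtain ⟨r, rfl⟩ := residue_surjective s
    refine ⟨r • x, ?_⟩
    rw [TensorProduct.tmul_smul, TensorProduct.smul_tmul']
    congr 1
    rw [Algebra.smul_def, mul_one]
    rfl
  | add a b ha hb =>
    obtain ⟨x, rfl⟩ := ha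
    obtain ⟨y, rfl⟩ := hb
    exact ⟨x + y, by rw [TensorProduct.tmul_add]⟩

theorem mem_smul_top_of_one_tmul_eq_zero (M : Type*) [AddCommGroup M] [Module R M] (x : M)
    (h : (1 : ResidueField R) ⊗ₜ[R] x = 0) : x ∈ maximalIdeal R • (⊤ : Submodule R M) := by
  have h1 := TensorProduct.quotTensorEquivQuotSMul_mk_one_tmul (M := M) (maximalIdeal R) x
  have h' : (1 : R ⧸ maximalIdeal R) ⊗ₜ[R] x = 0 := h
  rw [h', map_zero] at h1
  exact (Submodule.Quotient.mk_eq_zero _).mp h1.symm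

theorem smul_eq_zero_of_mem_maximalIdeal (M : Type*) [AddCommGroup M] [Module R M]
    [Module (ResidueField R) M] [IsScalarTower R (ResidueField R) M] (a : R)
    (ha : a ∈ maximalIdeal R) (x : M) : a • x = 0 := by
  rw [← algebraMap_smul (ResidueField R) a x]
  have : algebraMap R (ResidueField R) a = 0 := (residue_eq_zero_iff a).mpr ha
  rw [this, zero_smul]

end Gen

theorem main (R : Type u) [CommRing R] [HenselianLocalRing R] (A : Type u) [Ring A] [Algebra R A]
    [IsAzumaya R A] (B : Type u) [Ring B] [Algebra R B] [IsAzumaya R B]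
    (e₀ : (ResidueField R ⊗[R] A) ≃ₐ[ResidueField R] (ResidueField R ⊗[R] B)) :
    ∃ e : A ≃ₐ[R] B, ∀ a : A, e₀ ((1 : ResidueField R) ⊗ₜ[R] a) =
      (1 : ResidueField R) ⊗ₜ[R] (e a) := by
  classical
  let k := ResidueField R
  let Bb := k ⊗[R] B
  let m := maximalIdeal R
  haveI : Module.Free R A := Module.free_of_flat_of_isLocalRing
  haveI : Module.Free R B := Module.free_of_flat_of_isLocalRing
  haveI : IsAzumaya k Bb := Groth.Agent.Lib.helper8.Az.isAzumaya_baseChange R k B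
  have hrk : Module.finrank R A = Module.finrank R B := by
    rw [← Module.finrank_baseChange (R := k) (S := R) (M' := A),
      ← Module.finrank_baseChange (R := k) (S := R) (M' := B)]
    exact e₀.toLinearEquiv.finrank_eq
  -- the maps into the fibre
  let ιB : B →ₐ[R] Bb := Algebra.TensorProduct.includeRight
  let ιA : A →ₐ[R] Bb := (e₀.toAlgHom.restrictScalars R).comp Algebra.TensorProduct.includeRight
  have hιA : ∀ a, ιA a = e₀ ((1 : k) ⊗ₜ[R] a) := fun a => rfl
  have hιB : ∀ b, ιB b = (1 : k) ⊗ₜ[R] b := fun b => rfl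
  let D := Bb ⊗[k] Bbᵐᵒᵖ
  let f₁ : B →ₐ[R] D :=
    ((Algebra.TensorProduct.includeLeft : Bb →ₐ[k] D).restrictScalars R).comp ιB
  let f₂ : Aᵐᵒᵖ →ₐ[R] D :=
    ((Algebra.TensorProduct.includeRight : Bbᵐᵒᵖ →ₐ[k] D).restrictScalars R).comp (AlgHom.op ιA)
  have hf₁ : ∀ b, f₁ b = (ιB b) ⊗ₜ[k] (1 : Bbᵐᵒᵖ) := fun b => rfl
  have hf₂ : ∀ a, f₂ a = (1 : Bb) ⊗ₜ[k] (op (ιA (unop a)) : Bbᵐᵒᵖ) := fun a => rfl
  let C := B ⊗[R] Aᵐᵒᵖ
  let τ : C →ₐ[R] D := Algebra.TensorProduct.lift f₁ f₂ (fun b a => by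
    rw [hf₁, hf₂, Commute, SemiconjBy, Algebra.TensorProduct.tmul_mul_tmul,
      Algebra.TensorProduct.tmul_mul_tmul, mul_one, one_mul, mul_one, one_mul])
  have hτ : ∀ (b : B) (a : Aᵐᵒᵖ), τ (b ⊗ₜ[R] a) = (ιB b) ⊗ₜ[k] (op (ιA (unop a)) : Bbᵐᵒᵖ) := by
    intro b a
    show Algebra.TensorProduct.lift f₁ f₂ _ (b ⊗ₜ[R] a) = _
    rw [Algebra.TensorProduct.lift_tmul, hf₁, hf₂, Algebra.TensorProduct.tmul_mul_tmul, mul_one,
      one_mul]
  let μ : D →ₐ[k] Module.End k Bb := AlgHom.mulLeftRight k Bb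
  have hμ : Function.Bijective μ := IsAzumaya.bij
  have hμapp : ∀ (x : Bb) (y : Bbᵐᵒᵖ) (z : Bb), μ (x ⊗ₜ[k] y) z = x * z * unop y :=
    fun x y z => AlgHom.mulLeftRight_apply k Bb x y z
  -- F1: τ is surjective
  have hτsurj : Function.Surjective τ := by
    intro d
    induction d using TensorProduct.induction_on with
    | zero => exact ⟨0, map_zero _⟩
    | tmul x y =>
      obtain ⟨b, hb⟩ := exists_one_tmul B x
      obtain ⟨a', ha'⟩ := exists_one_tmul A (e₀.symm (unop y))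
      refine ⟨b ⊗ₜ[R] op a', ?_⟩
      rw [hτ, hιB, ← hb, unop_op, hιA, ← ha', AlgEquiv.apply_symm_apply, op_unop]
    | add x y hx hy =>
      obtain ⟨c, rfl⟩ := hx
      obtain ⟨c', rfl⟩ := hy
      exact ⟨c + c', map_add _ _ _⟩
  -- F2
  have hτker1 : ∀ c : C, c ∈ m • (⊤ : Submodule R C) → τ c = 0 := by
    intro c hc
    refine Submodule.smul_induction_on hc (fun a ha z _ => ?_) (fun y z hy hz => ?_)
    · rw [map_smul]
      exact smul_eq_zero_of_mem_maximalIdeal D a ha _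
    · rw [map_add, hy, hz, add_zero]
  have hτker2 : ∀ c : C, τ c = 0 → c ∈ m • (⊤ : Submodule R C) := by
    intro c hc
    let τb : k ⊗[R] C →ₗ[k] D := LinearMap.liftBaseChange k τ.toLinearMap
    have hτb : ∀ c, τb ((1 : k) ⊗ₜ[R] c) = τ c := fun c => by
      show LinearMap.liftBaseChange k τ.toLinearMap ((1 : k) ⊗ₜ[R] c) = _
      rw [LinearMap.liftBaseChange_one_tmul]
      rfl
    have hsurj : Function.Surjective τb := by
      intro d
      obtain ⟨c, rfl⟩ := hτsurj d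
      exact ⟨_, hτb c⟩
    have hfr : Module.finrank k (k ⊗[R] C) = Module.finrank k D := by
      rw [Module.finrank_baseChange, Module.finrank_tensorProduct, Module.finrank_tensorProduct,
        (MulOpposite.opLinearEquiv R : A ≃ₗ[R] Aᵐᵒᵖ).finrank_eq.symm,
        (MulOpposite.opLinearEquiv k : Bb ≃ₗ[k] Bbᵐᵒᵖ).finrank_eq.symm,
        Module.finrank_baseChange, hrk]
    have hinj : Function.Injective τb :=
      (LinearMap.injective_iff_surjective_of_finrank_eq_finrank hfr).mpr hsurj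
    apply mem_smul_top_of_one_tmul_eq_zero
    apply hinj
    rw [hτb, hc, map_zero]
  -- the projection
  haveI : Nontrivial Bb := by
    haveI : FaithfulSMul k Bb := inferInstance
    exact (FaithfulSMul.algebraMap_injective k Bb).nontrivial
  obtain ⟨lam, hlam⟩ : ∃ lam : Bb →ₗ[k] k, lam 1 = 1 := by
    have hinj : LinearMap.ker (LinearMap.toSpanSingleton k Bb 1) = ⊥ := by
      rw [LinearMap.ker_eq_bot]
      intro x y hxy
      simpa using hxy
    obtain ⟨g, hg⟩ := LinearMap.exists_leftInverse_of_injective _ hinj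
    refine ⟨g, ?_⟩
    have := LinearMap.congr_fun hg 1
    simpa using this
  let π : Module.End k Bb := (LinearMap.toSpanSingleton k Bb 1) ∘ₗ lam
  have hπ : ∀ x, π x = lam x • (1 : Bb) := fun x => rfl
  have hππ : π * π = π := by
    refine LinearMap.ext fun x => ?_
    rw [Module.End.mul_apply, hπ, hπ, map_smul, hlam, smul_eq_mul, mul_one]
  obtain ⟨d, hd⟩ := hμ.2 π
  obtain ⟨c₀, hc₀⟩ := hτsurj d
  have hc₀' : c₀ * c₀ - c₀ ∈ m • (⊤ : Submodule R C) := by
    apply hτker2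
    apply hμ.1
    rw [map_sub, map_mul, hc₀, map_sub, map_mul, hd, hππ, sub_self, map_zero]
  obtain ⟨e, he, hec⟩ := Groth.Agent.Lib.Helper10.IdemLift.exists_idempotent_lift R C c₀ hc₀'
  let ρ : C → Module.End k Bb := fun c => μ (τ c)
  have hρmul : ∀ c c', ρ (c * c') = ρ c * ρ c' := fun c c' => by
    show μ (τ (c * c')) = _
    rw [map_mul, map_mul]
  have hρe : ρ e = π := by
    show μ (τ e) = π
    have : τ e = τ c₀ := by
      have h1 := hτker1 _ hec
      rw [map_sub, sub_eq_zero] at h1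
      exact h1
    rw [this, hc₀, hd]
  have hρ0 : ∀ c, ρ c = 0 → c ∈ m • (⊤ : Submodule R C) := by
    intro c hc
    apply hτker2
    apply hμ.1
    rw [map_zero]
    exact hc
  have hρtmul : ∀ (b : B) (a : A) (x : Bb), ρ (b ⊗ₜ[R] op a) x = ιB b * x * ιA a := by
    intro b a x
    show μ (τ (b ⊗ₜ[R] op a)) x = _
    rw [hτ, hμapp, unop_op, unop_op]
  -- θ and ψ
  let θ : A →ₗ[R] C := (LinearMap.mulRight R e) ∘ₗ
    ((Algebra.TensorProduct.includeRight : Aᵐᵒᵖ →ₐ[R] C).toLinearMap ∘ₗ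
      (MulOpposite.opLinearEquiv R : A ≃ₗ[R] Aᵐᵒᵖ).toLinearMap)
  have hθ : ∀ a, θ a = ((1 : B) ⊗ₜ[R] (op a : Aᵐᵒᵖ)) * e := fun a => rfl
  let ψ : B →ₗ[R] C := (LinearMap.mulRight R e) ∘ₗ
    (Algebra.TensorProduct.includeLeft : B →ₐ[R] C).toLinearMap
  have hψ : ∀ b, ψ b = (b ⊗ₜ[R] (1 : Aᵐᵒᵖ)) * e := fun b => rfl
  have hρθ : ∀ a x, ρ (θ a) x = lam x • ιA a := by
    intro a x
    rw [hθ, hρmul, Module.End.mul_apply, hρe, hπ, hρtmul, map_one, one_mul, smul_mul_assoc,
      one_mul]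
  have hρce : ∀ c x, ρ (c * e) x = lam x • ρ c 1 := by
    intro c x
    rw [hρmul, Module.End.mul_apply, hρe, hπ, map_smul]
  -- surjectivity of θ onto Ce
  have hsurjθ : ∀ c : C, ∃ a : A, θ a = c * e := by
    let N' : Submodule R C := LinearMap.range (LinearMap.mulRight R e)
    let N'' : Submodule R C := LinearMap.range θ
    have hN'fg : N'.FG := by
      show (LinearMap.range (LinearMap.mulRight R e)).FG
      rw [LinearMap.range_eq_map]
      exact Submodule.FG.map _ Module.Finite.fg_top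
    have hle : N' ≤ N'' ⊔ m • N' := by
      rintro _ ⟨c, rfl⟩
      rw [LinearMap.mulRight_apply]
      obtain ⟨a₁, ha₁⟩ := exists_one_tmul A (e₀.symm (ρ c 1))
      have hιa₁ : ιA a₁ = ρ c 1 := by
        rw [hιA, ← ha₁, AlgEquiv.apply_symm_apply]
      have hz : c * e - θ a₁ ∈ m • (⊤ : Submodule R C) := by
        apply hρ0
        refine LinearMap.ext fun x => ?_
        show ρ (c * e - θ a₁) x = 0
        have : ρ (c * e - θ a₁) = ρ (c * e) - ρ (θ a₁) := by
          show μ (τ (c * e - θ a₁)) = μ (τ (c * e)) - μ (τ (θ a₁))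
          rw [map_sub, map_sub]
        rw [this, LinearMap.sub_apply, hρce, hρθ, hιa₁, sub_self]
      have hze : (c * e - θ a₁) * e = c * e - θ a₁ := by
        rw [sub_mul, mul_assoc, he.eq, hθ, mul_assoc, he.eq]
      have hz' : c * e - θ a₁ ∈ m • N' := by
        rw [← hze]
        refine Submodule.smul_induction_on hz (fun a ha z _ => ?_) (fun y z hy hz => ?_)
        · rw [smul_mul_assoc]
          exact Submodule.smul_mem_smul ha ⟨z, rfl⟩
        · rw [add_mul]
          exact add_mem hy hz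
      have : c * e = θ a₁ + (c * e - θ a₁) := by abel
      rw [this]
      exact Submodule.add_mem_sup ⟨a₁, rfl⟩ hz'
    have hjac : m ≤ Ideal.jacobson (⊥ : Ideal R) := by
      rw [IsLocalRing.jacobson_eq_maximalIdeal ⊥ bot_ne_top]
    have h1 : N' ≤ N'' := Submodule.le_of_le_smul_of_le_jacobson_bot hN'fg hjac hle
    intro c
    obtain ⟨a, ha⟩ := h1 ⟨c, rfl⟩
    exact ⟨a, ha⟩
  -- injectivity of θ
  haveI : Module.Free R Aᵐᵒᵖ := Module.Free.of_equiv (MulOpposite.opLinearEquiv R : A ≃ₗ[R] Aᵐᵒᵖ)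
  haveI : Module.Finite R Aᵐᵒᵖ :=
    Module.Finite.equiv (MulOpposite.opLinearEquiv R : A ≃ₗ[R] Aᵐᵒᵖ)
  obtain ⟨l', hl'⟩ : ∃ l' : C →ₗ[R] A, l' ∘ₗ θ = LinearMap.id := by
    rw [IsLocalRing.split_injective_iff_lTensor_residueField_injective]
    rw [injective_iff_map_eq_zero]
    intro t ht
    obtain ⟨a, rfl⟩ := exists_one_tmul A t
    rw [LinearMap.lTensor_tmul] at ht
    have h1 := mem_smul_top_of_one_tmul_eq_zero C _ ht
    have h2 : ρ (θ a) = 0 := by
      show μ (τ (θ a)) = 0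
      rw [hτker1 _ h1, map_zero]
    have h3 := hρθ a 1
    rw [h2, hlam, one_smul, LinearMap.zero_apply, hιA] at h3
    have h4 : e₀ ((1 : k) ⊗ₜ[R] a) = e₀ 0 := by rw [← h3, map_zero]
    exact e₀.injective h4
  have hθinj : Function.Injective θ := by
    intro x y hxy
    have := congrArg l' hxy
    rwa [← LinearMap.comp_apply, ← LinearMap.comp_apply, hl', LinearMap.id_apply,
      LinearMap.id_apply] at this
  -- the homomorphism φ
  let φl : B →ₗ[R] A := l' ∘ₗ ψ
  have hφ : ∀ b, θ (φl b) = ψ b := by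
    intro b
    obtain ⟨a, ha⟩ := hsurjθ (b ⊗ₜ[R] (1 : Aᵐᵒᵖ))
    show θ (l' (ψ b)) = ψ b
    rw [hψ, ← ha]
    have h5 := LinearMap.congr_fun hl' a
    rw [LinearMap.comp_apply, LinearMap.id_apply] at h5
    rw [h5]
  have hφ1 : φl 1 = 1 := by
    apply hθinj
    rw [hφ, hψ, hθ, op_one]
  have hφmul : ∀ x y, φl (x * y) = φl x * φl y := by
    intro b b'
    apply hθinj
    rw [hφ, hψ]
    have h1 : ((b * b') ⊗ₜ[R] (1 : Aᵐᵒᵖ) : C) = (b ⊗ₜ[R] (1 : Aᵐᵒᵖ)) * (b' ⊗ₜ[R] (1 : Aᵐᵒᵖ)) := by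
      rw [Algebra.TensorProduct.tmul_mul_tmul, mul_one]
    rw [h1, mul_assoc, ← hψ b', ← hφ b', hθ, ← mul_assoc]
    have h2 : (b ⊗ₜ[R] (1 : Aᵐᵒᵖ) : C) * ((1 : B) ⊗ₜ[R] (op (φl b') : Aᵐᵒᵖ)) =
        ((1 : B) ⊗ₜ[R] (op (φl b') : Aᵐᵒᵖ)) * (b ⊗ₜ[R] (1 : Aᵐᵒᵖ)) := by
      rw [Algebra.TensorProduct.tmul_mul_tmul, Algebra.TensorProduct.tmul_mul_tmul, mul_one,
        one_mul, mul_one, one_mul]
    rw [h2, mul_assoc, ← hψ b, ← hφ b, hθ, ← mul_assoc, Algebra.TensorProduct.tmul_mul_tmul,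
      one_mul, ← op_mul, hθ]
  let φ : B →ₐ[R] A := AlgHom.ofLinearMap φl hφ1 hφmul
  have hφbij : Function.Bijective φ :=
    Groth.Agent.Lib.Helper10.AzHom.bijective_algHom_of_isAzumaya R B A hrk.symm φ
  let E : B ≃ₐ[R] A := AlgEquiv.ofBijective φ hφbij
  refine ⟨E.symm, fun a => ?_⟩
  obtain ⟨b, rfl⟩ := E.surjective a
  rw [AlgEquiv.symm_apply_apply]
  have h1 : θ (φl b) = ψ b := hφ b
  have h2 : ρ (θ (φl b)) 1 = ρ (ψ b) 1 := by rw [h1]
  rw [hρθ, hlam, one_smul, hψ, hρce, hlam, one_smul] at h2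
  have h3 := hρtmul b 1 1
  rw [op_one] at h3
  rw [h3, map_one, mul_one, mul_one] at h2
  exact h2


/-- Let R be a henselian local ring with residue field k and let A, B be Azumaya algebras over R. Then
every isomorphism of k-algebras e₀ : k ⊗_R A ≃ k ⊗_R B is induced by an isomorphism of R-algebras e
: A ≃ B, in the sense that e₀ (1 ⊗ a) = 1 ⊗ e(a) for all a. In particular Azumaya algebras over R
with isomorphic special fibres are isomorphic. -/
theorem result (R : Type u) [CommRing R] [HenselianLocalRing R] (A : Type u) [Ring A] [Algebra R A] [IsAzumaya R A] (B : Type u) [Ring B] [Algebra R B] [IsAzumaya R B] (e₀ : (IsLocalRing.ResidueField R ⊗[R] A) ≃ₐ[IsLocalRing.ResidueField R] (IsLocalRing.ResidueField R ⊗[R] B)) : ∃ e : A ≃ₐ[R] B, ∀ a : A, e₀ ((1 : IsLocalRing.ResidueField R) ⊗ₜ[R] a) = (1 : IsLocalRing.ResidueField R) ⊗ₜ[R] (e a) := by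
  exact main R A B e₀

end Groth.Agent.S5703
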