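import Groth.Statements.S5710
import Mathlib
import Groth.Agent.S5713
import Groth.Agent.Lib.Helper10.RegularExists
import Groth.Agent.Lib.Helper10.EtaleAdjoinRoot

set_option autoImplicit false
universe u v
open TensorProduct
open Dix

namespace Groth.Agent.S5710

set_option linter.style.haveILetI false
open Groth.Agent.Lib.Helper10.RegularCSA Groth.Agent.Lib.Helper10.EtaleAdjoinRoot
  Groth.Agent.Lib.helper8.Az IsLocalRing Polynomial

theorem linearIndependent_pow_of_eq {k B : Type*} [Field k] [Ring B] [Algebra k B] (x : B) (n : ℕ)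
    (hn : n = (minpoly k x).natDegree) : LinearIndependent k (fun i : Fin n => x ^ (i : ℕ)) := by
  subst hn
  exact linearIndependent_pow x

theorem main (R : Type u) [CommRing R] [IsLocalRing R] (A : Type u) [Ring A] [Algebra R A]
    [IsAzumaya R A] (r : ℕ) (hA : Module.finrank R A = r ^ 2) :
    ∃ (E : Type u) (_ : CommRing E) (_ : Algebra R E), Algebra.Etale R E ∧ Module.Finite R E ∧
      Module.Free R E ∧ Module.finrank R E = r ∧ ∃ u : E →ₐ[R] A,
        Function.Injective (u.toLinearMap.lTensor (IsLocalRing.ResidueField R)) := by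
  classical
  let k := ResidueField R
  haveI : Module.Free R A := Module.free_of_flat_of_isLocalRing
  haveI : IsAzumaya k (k ⊗[R] A) := isAzumaya_baseChange R k A
  obtain ⟨hc, hs⟩ := (isAzumaya_field_iff k (k ⊗[R] A)).mp inferInstance
  have hfr : Module.finrank k (k ⊗[R] A) = r ^ 2 := by rw [Module.finrank_baseChange, hA]
  obtain ⟨x, hxsep, hxdeg⟩ := exists_regular k (k ⊗[R] A) r hfr
  obtain ⟨ξ, hξ⟩ := TensorProduct.mk_surjective R A k IsLocalRing.residue_surjective x
  have hξ' : (1 : k) ⊗ₜ[R] ξ = x := hξ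
  subst hξ'
  have hint : IsIntegral k ((1 : k) ⊗ₜ[R] ξ : k ⊗[R] A) := Algebra.IsIntegral.isIntegral _
  obtain ⟨hli, hmem⟩ := Groth.Agent.S5713.result R A r hA ξ
    (isSeparable_adjoin_singleton _ hxsep)
    (by rw [finrank_adjoin_singleton k _ _ hint, hxdeg])
  obtain ⟨a, ha⟩ := (Submodule.mem_span_range_iff_exists_fun R).mp hmem
  let q : R[X] := ∑ i : Fin r, C (a i) * X ^ (i : ℕ)
  let f : R[X] := X ^ r - q
  have hqdeg : q.degree < r := degree_sum_fin_lt a
  have hmonic : f.Monic := monic_X_pow_sub hqdeg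
  have hfdeg : f.natDegree = r := by
    apply natDegree_eq_of_degree_eq_some
    rw [degree_sub_eq_left_of_degree_lt (by rw [degree_X_pow]; exact hqdeg), degree_X_pow]
  have hfξ : aeval ξ f = 0 := by
    simp only [f, q, map_sub, map_pow, aeval_X, map_sum, map_mul, aeval_C, ← Algebra.smul_def]
    rw [ha, sub_self]
  have hfbar : f.map (residue R) = minpoly k ((1 : k) ⊗ₜ[R] ξ : k ⊗[R] A) := by
    have hroot : aeval ((1 : k) ⊗ₜ[R] ξ : k ⊗[R] A) (f.map (residue R)) = 0 := by
      rw [show residue R = algebraMap R k from rfl, aeval_map_algebraMap]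
      have : ((1 : k) ⊗ₜ[R] ξ : k ⊗[R] A) =
          (Algebra.TensorProduct.includeRight : A →ₐ[R] k ⊗[R] A) ξ := rfl
      rw [this, aeval_algHom_apply, hfξ, map_zero]
    have hdvd := minpoly.dvd k _ hroot
    refine eq_of_monic_of_dvd_of_natDegree_le (minpoly.monic hint) (hmonic.map _) hdvd ?_
    rw [hmonic.natDegree_map, hfdeg, hxdeg]
  have hfsep : f.Separable :=
    separable_of_map_residue f hmonic (by rw [hfbar]; exact hxsep)
  let E := AdjoinRoot f
  haveI hE1 : Algebra.Etale R E := etale_adjoinRoot f hmonic hfsep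
  let pb := AdjoinRoot.powerBasis' hmonic
  haveI : Module.Finite R E := pb.finite
  haveI : Module.Free R E := .of_basis pb.basis
  have hrk : Module.finrank R E = r := by rw [pb.finrank]; exact hfdeg
  let u : E →ₐ[R] A := Ideal.Quotient.liftₐ (Ideal.span {f}) (aeval ξ) (fun g hg => by
    obtain ⟨c, rfl⟩ := Ideal.mem_span_singleton'.mp hg
    rw [map_mul, hfξ, mul_zero])
  have hu : ∀ g, u (AdjoinRoot.mk f g) = aeval ξ g := fun g => rfl
  refine ⟨E, inferInstance, inferInstance, hE1, inferInstance, inferInstance, hrk, u, ?_⟩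
  let bK : Module.Basis (Fin pb.dim) k (k ⊗[R] E) := pb.basis.baseChange k
  let φ : k ⊗[R] E →ₗ[k] k ⊗[R] A := u.toLinearMap.baseChange k
  have hφb : ∀ i, φ (bK i) = ((1 : k) ⊗ₜ[R] ξ : k ⊗[R] A) ^ (i : ℕ) := by
    intro i
    simp only [φ, bK, Module.Basis.baseChange_apply, LinearMap.baseChange_tmul,
      AlgHom.toLinearMap_apply, pb.basis_eq_pow]
    rw [show pb.gen = AdjoinRoot.mk f X from rfl, ← map_pow, hu, map_pow, aeval_X,
      Algebra.TensorProduct.tmul_pow, one_pow]
  have hli' : LinearIndependent k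
      (fun i : Fin pb.dim => ((1 : k) ⊗ₜ[R] ξ : k ⊗[R] A) ^ (i : ℕ)) :=
    linearIndependent_pow_of_eq _ _ (by rw [hxdeg]; exact hfdeg)
  have hinj : Function.Injective φ := by
    rw [← LinearMap.ker_eq_bot, LinearMap.ker_eq_bot']
    intro z hz
    rw [← bK.sum_repr z, map_sum] at hz
    simp only [map_smul, hφb] at hz
    have h0 := (Fintype.linearIndependent_iff.mp hli') _ hz
    rw [← bK.sum_repr z]
    simp [h0]
  have : (⇑(u.toLinearMap.lTensor k) : k ⊗[R] E → k ⊗[R] A) = ⇑φ := by
    rw [← LinearMap.baseChange_eq_ltensor]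
  rw [this]
  exact hinj



/-- Over a local base where the open neighbourhood is the whole scheme. Let R be a local ring with
residue field k and A an Azumaya algebra over R whose rank as a (free) R-module is r². Then A has a
maximal étale subalgebra: there are a commutative R-algebra E, finite étale and free of rank r over
R, and an R-algebra homomorphism u : E → A which is injective on the special fibre, k ⊗_R E → k ⊗_R
A. -/
theorem result (R : Type u) [CommRing R] [IsLocalRing R] (A : Type u) [Ring A] [Algebra R A] [IsAzumaya R A] (r : ℕ) (hA : Module.finrank R A = r ^ 2) : ∃ (E : Type u) (_ : CommRing E) (_ : Algebra R E), Algebra.Etale R E ∧ Module.Finite R E ∧ Module.Free R E ∧ Module.finrank R E = r ∧ ∃ u : E →ₐ[R] A, Function.Injective (u.toLinearMap.lTensor (IsLocalRing.ResidueField R)) := by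
  exact main R A r hA

end Groth.Agent.S5710
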