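import Groth.Statements.S5725
import Groth.Agent.Lib.Helper28.RelTwistCanon
import Groth.Agent.Lib.Helper28.ProjBundleEpi
-- import your own Groth.Agent.* helpers here

set_option autoImplicit false
universe u
open CategoryTheory CategoryTheory.Limits AlgebraicGeometry TopologicalSpace Opposite
open scoped HomogeneousIdeal
open EGA2

namespace Groth.Agent.S5725

/-- Let q : X → Y be a quasi-compact morphism and L an invertible O_X-module. If L is very ample
relative to q (isomorphic to i^*O_{P(E)}(1) for a Y-immersion i : X → P(E) into the projective
bundle of a quasi-coherent O_Y-module E), then the canonical morphism q^*(q_*L) → L, the counit of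
the adjunction between inverse and direct image, is an epimorphism. (The published statement also
records that q_*L is quasi-coherent, which holds because q is then quasi-compact and separated, and
lists a further property, that the morphism into the projective bundle of q_*L attached to this
epimorphism is an immersion; with that property the converse holds. Those parts are not stated
here.) -/
theorem result {X Y : Scheme.{u}} (q : X ⟶ Y) [QuasiCompact q] (L : X.Modules)
    (hL : PicF.IsInvertible L) (h : RelProj.IsRelVeryAmple q L) :
    Epi ((Scheme.Modules.pullbackPushforwardAdjunction q).counit.app L) := by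
  obtain ⟨E, hE, 𝒮, j, hj, P, p, chart, hP, O1, lam, hO1, i, himm, hip, ⟨τ⟩⟩ := h
  have hEq : E.IsQuasicoherent := hE
  obtain ⟨φ, hφ⟩ := Groth.Agent.Lib.helper28.RelTwistCanon.exists_canon_hom lam hP hO1
    (d := 1) (by simp) E j hj.2
  have hepi : Epi (((Scheme.Modules.pullbackPushforwardAdjunction p).homEquiv E O1).symm φ) :=
    Groth.Agent.Lib.helper28.ProjBundleEpi.epi_adj E 𝒮 j hj p chart O1 lam hO1 φ
      (fun U hU e y => hφ U hU e y.1 y.2)
  have hpres : (Scheme.Modules.pullback i).PreservesEpimorphisms :=
    Functor.preservesEpimorphisms_of_adjunction (Scheme.Modules.pullbackPushforwardAdjunction i)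
  have h1 : Epi ((Scheme.Modules.pullback i).map
      (((Scheme.Modules.pullbackPushforwardAdjunction p).homEquiv E O1).symm φ)) :=
    (Scheme.Modules.pullback i).map_epi _
  let s : (Scheme.Modules.pullback q).obj E ⟶ L :=
    (Scheme.Modules.pullbackCongr hip).inv.app E ≫ (Scheme.Modules.pullbackComp i p).inv.app E ≫
      (Scheme.Modules.pullback i).map
        (((Scheme.Modules.pullbackPushforwardAdjunction p).homEquiv E O1).symm φ) ≫ τ.inv
  have hs : Epi s := by
    have e3 : Epi ((Scheme.Modules.pullback i).map
        (((Scheme.Modules.pullbackPushforwardAdjunction p).homEquiv E O1).symm φ) ≫ τ.inv) :=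
      epi_comp _ _
    have e2 : Epi ((Scheme.Modules.pullbackComp i p).inv.app E ≫
        (Scheme.Modules.pullback i).map
          (((Scheme.Modules.pullbackPushforwardAdjunction p).homEquiv E O1).symm φ) ≫ τ.inv) :=
      epi_comp _ _
    exact epi_comp _ _
  have hfac : (Scheme.Modules.pullback q).map
      ((Scheme.Modules.pullbackPushforwardAdjunction q).homEquiv E L s) ≫
        (Scheme.Modules.pullbackPushforwardAdjunction q).counit.app L = s := by
    have := (Scheme.Modules.pullbackPushforwardAdjunction q).homEquiv_counit (X := E) (Y := L)
      (g := (Scheme.Modules.pullbackPushforwardAdjunction q).homEquiv E L s)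
    rw [Equiv.symm_apply_apply] at this
    exact this.symm
  exact epi_of_epi_fac hfac

end Groth.Agent.S5725
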