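import Groth.Statements.S5726
import Groth.Agent.Lib.Helper28.VeryAmpleFT2
import Groth.Agent.Lib.Helper28.ProjBundleClosed2
-- import your own Groth.Agent.* helpers here

set_option autoImplicit false
universe u
open CategoryTheory CategoryTheory.Limits AlgebraicGeometry TopologicalSpace Opposite
open scoped HomogeneousIdeal
open EGA2

namespace Groth.Agent.S5726

/-- Let Y be a scheme which is either quasi-compact and separated or Noetherian, q : X → Y a morphism of
finite type and L an invertible O_X-module which is very ample relative to q. Then there are a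
quasi-coherent graded O_Y-algebra 𝒮 generated by its degree-one part, that part being of finite
type, a relative homogeneous spectrum p : P → Y of 𝒮 (given with its charts over affine opens)
together with its twisting sheaf O_P(1) (given with its chart identifications), and an open
immersion i : X → P with dense image such that i ≫ p = q and L is isomorphic to i^*O_P(1). (The
published statement keeps the notation of the proposition it follows, in which q is of finite type;
without that hypothesis the conclusion fails, for instance for the affine space of countably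
infinite dimension over a field with the structure sheaf, which is an open subscheme of a projective
bundle over the field but is not of finite type.) -/
theorem result {X Y : Scheme.{u}}
    (hY : (CompactSpace Y ∧ Y.IsSeparated) ∨ AlgebraicGeometry.IsNoetherian Y) (q : X ⟶ Y) [QuasiCompact q] [LocallyOfFiniteType q]
    (L : X.Modules) (hL : PicF.IsInvertible L) (h : RelProj.IsRelVeryAmple q L) :
    ∃ (𝒮 : RelProj.QCGrAlg Y) (P : Scheme.{u}) (p : P ⟶ Y)
      (chart : ∀ (U : Y.Opens) (hU : IsAffineOpen U), ((p ⁻¹ᵁ U : P.Opens) : Scheme.{u}) ≅ Proj (𝒮.deg U hU))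
      (O1 : P.Modules)
      (lam : ∀ (U : Y.Opens) (hU : IsAffineOpen U),
        O1 ⟶ (Scheme.Modules.pushforward (RelProj.emb p chart U hU)).obj (GrTwist.twist (𝒮.deg U hU) 1))
      (i : X ⟶ P),
      𝒮.IsGenDegOne ∧ 𝒮.IsFTDeg 1 ∧ RelProj.IsRelProj 𝒮 p chart ∧ RelProj.IsRelTwist 𝒮 p chart 1 O1 lam ∧
        IsOpenImmersion i ∧ Dense (Set.range i.base) ∧ i ≫ p = q ∧
        Nonempty (L ≅ (Scheme.Modules.pullback i).obj O1) := by
  have hqc : CompactSpace Y ∧ QuasiSeparatedSpace Y := by
    rcases hY with ⟨h1, h2⟩ | h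
    · exact ⟨h1, inferInstance⟩
    · exact ⟨inferInstance, inferInstance⟩
  obtain ⟨h1, h2⟩ := hqc
  obtain ⟨E, 𝒯, j, P₀, p₀, chart₀, O1₀, lam₀, i₀, hEq, hEft, hj, hP₀, hO1₀, himm, hip, ⟨e₀⟩⟩ :=
    Groth.Agent.Lib.helper28.VeryAmpleFT.exists_ft q L hL h
  have : E.IsQuasicoherent := hEq
  have hsep : IsSeparated p₀ := Groth.Agent.S8259.result 𝒯 p₀ chart₀ hP₀
  have hqci : QuasiCompact i₀ := by
    have : QuasiCompact (i₀ ≫ p₀) := by
      rw [hip]
      infer_instance
    exact QuasiCompact.of_comp i₀ p₀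
  have hgen : 𝒯.IsGenDegOne :=
    Groth.Agent.Lib.helper28.ProjBundleQuot.isGenDegOne_of_isGrSymAlg E 𝒯 j hj
  have hO1inv : PicF.IsInvertible O1₀ :=
    Groth.Agent.Lib.helper28.RelTwistInvertible.isInvertible lam₀ hgen hO1₀
  have hL' : PicF.IsInvertible ((Scheme.Modules.pullback i₀.imageι).obj O1₀) :=
    Groth.Agent.Lib.helper11.InvMod.isInvertible_pullback _ hO1inv
  have : ((Scheme.Modules.pullback i₀.imageι).obj O1₀).IsQuasicoherent :=
    Groth.Agent.Lib.helper12.AmpleBasis.isQuasicoherent_of_isInvertible hL'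
  obtain ⟨𝒮L, jL, hjL⟩ := Groth.Agent.Lib.helper28.SymGradedExists.exists_isGrSymAlg
    ((Scheme.Modules.pullback i₀.imageι).obj O1₀)
  obtain ⟨PL, pL, chartL, hPL⟩ := Groth.Agent.Lib.helper28.RelProjExists.exists_relProj 𝒮L
  obtain ⟨𝒮, PS, pS, chartS, e, hgenS, hftS, hPS, hep, htw⟩ :=
    Groth.Agent.Lib.helper28.ProjBundleClosed2.exists_proj_twist E hEft 𝒯 j hj p₀ chart₀ hP₀
      i₀.imageι O1₀ lam₀ hO1₀ _ hL' (𝟙 _) 𝒮L jL hjL pL chartL hPL
  obtain ⟨O1S, lamS, hO1S⟩ :=
    Groth.Agent.Lib.helper28.RelTwistExists.exists_isRelTwist 𝒮 pS chartS hPS 1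
  obtain ⟨eL⟩ := htw O1S lamS hO1S
  refine ⟨𝒮, PS, pS, chartS, O1S, lamS, i₀.toImage ≫ e.hom, hgenS, hftS, hPS, hO1S,
    inferInstance, ?_, ?_, ?_⟩
  · have hd : DenseRange i₀.toImage := i₀.toImage.denseRange
    have hs : Function.Surjective e.hom := e.hom.surjective
    have := hs.denseRange.comp hd e.hom.continuous
    exact this
  · rw [Category.assoc, hep, Scheme.Hom.toImage_imageι_assoc, hip]
  · exact ⟨e₀ ≪≫ (Scheme.Modules.pullbackCongr (i₀.toImage_imageι).symm).app O1₀ ≪≫
      ((Scheme.Modules.pullbackComp i₀.toImage i₀.imageι).app O1₀).symm ≪≫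
      (Scheme.Modules.pullback i₀.toImage).mapIso eL ≪≫
      (Scheme.Modules.pullbackComp i₀.toImage e.hom).app O1S⟩

end Groth.Agent.S5726
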