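import Groth.Statements.S5727
import Groth.Agent.Lib.Helper28.RelSerreQuot
import Groth.Agent.Lib.Helper12.RelVAmple
import Groth.Agent.Lib.Helper12.AmpleSep

set_option autoImplicit false
universe u
open CategoryTheory CategoryTheory.Limits AlgebraicGeometry TopologicalSpace Opposite
open scoped HomogeneousIdeal
open EGA2

namespace Groth.Agent.S5727

/-- Let Z be a scheme which is either quasi-compact and separated or has Noetherian underlying space, g
: Y → Z a quasi-compact morphism, K an invertible O_Y-module which is very ample relative to g, and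
E a quasi-coherent O_Y-module of finite type. Then there is m₀ such that for every m ≥ m₀ there are
a quasi-coherent O_Z-module F of finite type (depending on m) and an epimorphism g^*F → E ⊗ K^{⊗m}.
(The published statement says that E is isomorphic to a quotient of g^*F ⊗ K^{⊗(-m)}; for invertible
K this is the same as E ⊗ K^{⊗m} being a quotient of g^*F, the form used here, which avoids negative
tensor powers.) -/
theorem result {Y Z : Scheme.{u}}
    (hZ : (CompactSpace Z ∧ Z.IsSeparated) ∨ TopologicalSpace.NoetherianSpace Z) (g : Y ⟶ Z) [QuasiCompact g]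
    (K : Y.Modules) (hK : PicF.IsInvertible K) (hKva : RelProj.IsRelVeryAmple g K)
    (E : Y.Modules) (hE : Coh.IsQCoh E) (hEft : CohB1.IsFT E) :
    ∃ m₀ : ℕ, ∀ m : ℕ, m₀ ≤ m →
      ∃ (F : Z.Modules) (φ : (Scheme.Modules.pullback g).obj F ⟶ CohB1.tensorMod E (CohB1.tensorPow K m)),
        Coh.IsQCoh F ∧ CohB1.IsFT F ∧ Epi φ := by
  classical
  have hqc : CompactSpace Z ∧ QuasiSeparatedSpace Z := by
    rcases hZ with ⟨h1, h2⟩ | h
    · exact ⟨h1, inferInstance⟩
    · exact ⟨inferInstance, inferInstance⟩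
  obtain ⟨h1, h2⟩ := hqc
  have hamp : RelAmple.IsRelAmple g K :=
    Groth.Agent.Lib.helper12.RelVAmple.isRelAmple_of_isRelVeryAmple g K hKva
  have hsep : IsSeparated g := Groth.Agent.Lib.helper12.AmpleSep.isSeparated_of_isRelAmple g hamp
  obtain ⟨S, hS⟩ := Groth.Agent.Lib.helper28.RelSerreQuot.exists_finite_affine_cover Z
  have hloc := fun U : Z.affineOpens =>
    Groth.Agent.Lib.helper28.RelSerreQuot.exists_finite_genOn g K U.1 (hamp.2 U) E ⟨hE, hEft⟩
  choose N hN using hloc
  refine ⟨S.sup N, fun m hm => ?_⟩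
  have hAq : (CohB1.tensorMod E (CohB1.tensorPow K m)).IsQuasicoherent :=
    (Groth.Agent.Lib.helper11.SerreGG.isCoh_twist hK ⟨hE, hEft⟩ m).1
  obtain ⟨G, i, -, hGq, hGft, hepi⟩ := Groth.Agent.Lib.helper28.RelSerreQuot.exists_ft_epi g
    (CohB1.tensorMod E (CohB1.tensorPow K m)) S hS
    (fun U hU => hN U m (le_trans (Finset.le_sup hU) hm))
  exact ⟨G, Groth.Agent.Lib.helper28.RelSerreQuot.adjMap g i, hGq, hGft, hepi⟩

end Groth.Agent.S5727
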