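import Groth.Statements.S5729
import Groth.Agent.Lib.Helper28.ProjBundleClosed
import Groth.Agent.Lib.Helper28.ProjBundleOfProj
-- import your own Groth.Agent.* helpers here

set_option autoImplicit false
universe u
open CategoryTheory CategoryTheory.Limits AlgebraicGeometry TopologicalSpace Opposite
open scoped HomogeneousIdeal
open EGA2

namespace Groth.Agent.S5729

/-- For a morphism f : X → Y the following are equivalent: (a) there are a quasi-coherent O_Y-module E
of finite type, its graded symmetric algebra 𝒯 with projective bundle p : P(E) = Proj(𝒯) → Y (given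
with its charts over affine opens), and a closed immersion i : X → P(E) with i ≫ p = f; (b) f is
projective in the sense that X is isomorphic over Y to the relative homogeneous spectrum of some
quasi-coherent graded O_Y-algebra generated by its degree-one part, that part being of finite type. -/
theorem result {X Y : Scheme.{u}} (f : X ⟶ Y) :
    RelProj.IsProjective f ↔
      ∃ (E : Y.Modules) (𝒯 : RelProj.QCGrAlg Y) (j : E ⟶ 𝒯.toModule) (P : Scheme.{u}) (p : P ⟶ Y)
        (chart : ∀ (U : Y.Opens) (hU : IsAffineOpen U), ((p ⁻¹ᵁ U : P.Opens) : Scheme.{u}) ≅ Proj (𝒯.deg U hU))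
        (i : X ⟶ P),
        Coh.IsQCoh E ∧ CohB1.IsFT E ∧ RelProj.IsGrSymAlg E 𝒯 j ∧ RelProj.IsRelProj 𝒯 p chart ∧
          IsClosedImmersion i ∧ i ≫ p = f := by
  constructor
  · rintro ⟨𝒮, P, p, chart, e, hgen, hft, hP, he⟩
    obtain ⟨E, 𝒯, j, P', p', chart', h, hq, hE, hj, hP', hcl, hover⟩ :=
      Groth.Agent.Lib.helper28.ProjBundleOfProj.exists_closedImmersion 𝒮 hgen hft p chart hP
    refine ⟨E, 𝒯, j, P', p', chart', e.hom ≫ h, hq, hE, hj, hP', inferInstance, ?_⟩
    rw [Category.assoc, hover, he]
  · rintro ⟨E, 𝒯, j, P, p, chart, i, hq, hE, hj, hP, hcl, rfl⟩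
    have : E.IsQuasicoherent := hq
    exact Groth.Agent.Lib.helper28.ProjBundleClosed.isProjective_of_isClosedImmersion E hE 𝒯 j hj
      p chart hP i

end Groth.Agent.S5729
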