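import Groth.Statements.S5735
import Groth.Agent.Lib.Helper8.SteinRad1
import Groth.Agent.Lib.Helper8.SteinRad2
import Groth.Agent.Lib.Helper8.ZConn6

set_option autoImplicit false
universe u
open Coherent

namespace Groth.Agent.S5735

open AlgebraicGeometry CategoryTheory CategoryTheory.Limits in
/-- Let X and Y be locally Noetherian integral schemes and f : X → Y a proper dominant morphism which is
universally open in the following sense: for every irreducible locally Noetherian scheme Y' and
every dominant morphism g : Y' → Y, each irreducible component of X ×_Y Y' has dense image in Y'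
under the second projection. Suppose that the algebraic closure of the function field R(Y) in R(X)
is purely inseparable over R(Y): every element of R(X) satisfying a nonzero polynomial over R(Y) has
some p^e-th power coming from R(Y), p being the characteristic exponent. Then for every point y of Y
the fibre X_y is geometrically connected over the residue field k(y) (its base change to any field
extension is connected and nonempty). -/
theorem result {X Y : Scheme.{u}}
    [IsIntegral X] [IsIntegral Y] [IsLocallyNoetherian X] [IsLocallyNoetherian Y] (f : X ⟶ Y) [IsProper f]
    (hdom : f.base (genericPoint X) ⤳ genericPoint Y)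
    (hopen : ∀ (Y' : Scheme.{u}) (g : Y' ⟶ Y), IrreducibleSpace ↥Y' → IsLocallyNoetherian Y' →
      IsDominant g → ∀ Z ∈ irreducibleComponents ↥(pullback f g), Dense ((pullback.snd f g).base '' Z))
    (hrad : ∀ x : X.functionField,
      (∃ q : Polynomial Y.functionField, q ≠ 0 ∧
        Polynomial.eval₂ (CohIII.stalkToFunctionField f (genericPoint Y) hdom) x q = 0) →
      ∃ e : ℕ, x ^ (ringExpChar X.functionField ^ e) ∈
        Set.range (CohIII.stalkToFunctionField f (genericPoint Y) hdom))
    (y : Y) : GeometricallyConnected (f.fiberToSpecResidueField y) := by
  obtain ⟨Y', t, g, hfac, hY'int, htP, htGC, hgF, hY'N⟩ : ∃ (Y' : Scheme.{u}) (t : X ⟶ Y')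
      (g : Y' ⟶ Y), t ≫ g = f ∧ IsIntegral Y' ∧ IsProper t ∧ GeometricallyConnected t ∧
        IsFinite g ∧ IsLocallyNoetherian Y' :=
    ⟨f.normalization, f.toNormalization, f.fromNormalization, f.toNormalization_fromNormalization,
      inferInstance, Groth.Agent.Lib.helper8.ZConn.isProper_toNormalization f,
      Groth.Agent.Lib.helper8.ZConn.geometricallyConnected_toNormalization f,
      Groth.Agent.Lib.helper8.ZConn.isFinite_fromNormalization f,
      Groth.Agent.Lib.helper8.ZConn.isLocallyNoetherian_normalization f⟩
  subst hfac
  haveI htS : Surjective t := inferInstance
  -- generic points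
  have ht : t.base (genericPoint X) ⤳ genericPoint Y' := by
    obtain ⟨x, hx⟩ := t.surjective (genericPoint Y')
    rw [← hx]
    exact (genericPoint_specializes x).map t.continuous
  have hg : g.base (genericPoint Y') ⤳ genericPoint Y := by
    have h1 : g.base (genericPoint Y') ⤳ g.base (t.base (genericPoint X)) :=
      (genericPoint_specializes _).map g.continuous
    exact h1.trans hdom
  have hgeq : g.base (genericPoint Y') = genericPoint Y :=
    (hg.antisymm (genericPoint_specializes _)).eq
  haveI hgdom : IsDominant g := by
    constructor
    show Dense (Set.range g.base)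
    rw [dense_iff_closure_eq, ← Set.univ_subset_iff, ← (genericPoint_spec Y).def]
    apply closure_mono
    rw [Set.singleton_subset_iff]
    exact ⟨_, hgeq⟩
  haveI hgS : Surjective g :=
    surjective_of_isDominant_of_isClosed_range g g.isClosedMap.isClosed_range
  have hpi := Groth.Agent.Lib.helper8.SteinRad.isPurelyInseparable_residueFieldMap_genericPoint
    t g ht hg hdom hrad
  have hcomp := Groth.Agent.Lib.helper8.SteinRad.dense_image_snd_of_components t g
    (hopen Y' g inferInstance hY'N hgdom)
  haveI hUI := Groth.Agent.Lib.helper8.SteinRad.universallyInjective_of_components g hcomp hpi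
  haveI := Groth.Agent.Lib.helper8.SteinRad.geometricallyConnected_comp_of_universallyInjective t g
  infer_instance

end Groth.Agent.S5735
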