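import Groth.Statements.S5737
import Mathlib
import Groth.Agent.Lib.Helper18.NilBaseProper
import Groth.Agent.S14004

set_option autoImplicit false
universe u
open FCompl

namespace Groth.Agent.S5737

open AlgebraicGeometry CategoryTheory in

open AlgebraicGeometry CategoryTheory in
/-- For formal schemes presented as adic systems of thickenings: a closed immersion of locally
Noetherian formal schemes is then an adic morphism all of whose levels are closed immersions, and
the content is that this is detected at the smallest level. Let (X_n) and (Y_n) be locally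
Noetherian adic formal systems and f : (X_n) → (Y_n) a morphism of systems all of whose squares X_n
→ X_(n+1), Y_n → Y_(n+1) are cartesian. If X_0 → Y_0 is a closed immersion, then X_n → Y_n is a
closed immersion for every n. -/
theorem result {𝔛 𝔜 : FSch.Sys.{u}} (f : 𝔛 ⟶ 𝔜)
    (h𝔛 : 𝔛.IsLocNoethFormal) (h𝔜 : 𝔜.IsLocNoethFormal) (hf : FSch.IsAdicHom f)
    [IsClosedImmersion ((f : FSch.Hom 𝔛 𝔜).app 0)] (n : ℕ) :
    IsClosedImmersion ((f : FSch.Hom 𝔛 𝔜).app n) := by
  obtain ⟨hY1, hY2⟩ := Groth.Agent.S14004.isThickening_toX 𝔜 h𝔜.1 n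
  have H := Groth.Agent.S14004.isPullback_toX f hf n
  have := h𝔜.2.2 n
  have : Surjective (𝔜.toX n) := ⟨hY2⟩
  exact Groth.Agent.Lib.Helper18.NilBase.isClosedImmersion_of_thickening_base'
    (fun U => Groth.Agent.S14004.isNilpotent_ker_ideal_of_surjective _ hY2 U) H

end Groth.Agent.S5737
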