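import Groth.Statements.S5744
import Groth.Agent.Lib.Helper7.QCohPushQC
import Groth.Agent.Lib.Helper7.QCohProd

set_option autoImplicit false
universe u
open Coherent

namespace Groth.Agent.S5744

open CategoryTheory CategoryTheory.Limits AlgebraicGeometry TopologicalSpace Opposite in
theorem isQCoh_pushRestr {X : Scheme.{u}} [X.IsSeparated] (W : X.Opens) (hW : IsAffineOpen W)
    (F : X.Modules) [F.IsQuasicoherent] : ((CechOX.pushRestr W).obj F).IsQuasicoherent := by
  have : IsAffine (W : Scheme.{u}) := hW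
  have : IsAffineHom W.ι := by
    have : IsAffineHom (W.ι ≫ terminal.from X) := by
      rw [terminal.comp_from]
      infer_instance
    exact IsAffineHom.of_comp W.ι (terminal.from X)
  have h1 : ((Scheme.Modules.restrictFunctor W.ι).obj F).IsQuasicoherent := by
    change (F.restrict W.ι).IsQuasicoherent
    infer_instance
  exact Groth.Agent.Lib.helper7.QCohPushQC.isQuasicoherent_pushforward W.ι _

open AlgebraicGeometry CategoryTheory in
/-- For the Čech complex of sheaves indexed by all ordered tuples with products as terms; over a finite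
index type these terms are finite direct sums. Let X be a separated scheme, (U_i)_{i ∈ ι} a finite
family of affine opens covering X, and F a quasi-coherent O_X-module. Then for every p the degree-p
term of the Čech complex of sheaves 𝔠(𝒰, F), the product over ordered (p+1)-tuples of the direct
images (j_{i_0…i_p})_*(F|_{U_{i_0…i_p}}), is a quasi-coherent O_X-module. -/
theorem result {X : Scheme.{u}} [X.IsSeparated] {ι : Type u}
    [Finite ι] (𝒰 : ι → X.Opens) (h𝒰 : ∀ i, IsAffineOpen (𝒰 i)) (hcov : ⨆ i, 𝒰 i = ⊤)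
    (F : X.Modules) [Coh.IsQCoh F] (p : ℕ) :
    Coh.IsQCoh (((CechOX.cechSh 𝒰).obj F).X p) := by
  open CategoryTheory.Limits in
  change Coh.IsQCoh (∏ᶜ fun i : Fin (p + 1) → ι => (CechOX.pushRestr (∏ᶜ (𝒰 ∘ i))).obj F)
  apply Groth.Agent.Lib.helper7.QCohProd.isQuasicoherent_piObj
  intro i
  apply isQCoh_pushRestr
  have e : (∏ᶜ (𝒰 ∘ i) : X.Opens) = ⨅ a, 𝒰 (i a) := by
    apply le_antisymm
    · exact le_iInf fun a => (Pi.π (𝒰 ∘ i) a).le
    · exact (Pi.lift (fun a => homOfLE (iInf_le (fun a => 𝒰 (i a)) a)) :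
        (⨅ a, 𝒰 (i a)) ⟶ ∏ᶜ (𝒰 ∘ i)).le
  rw [e]
  exact IsAffineOpen.iInf (fun a => h𝒰 (i a))

end Groth.Agent.S5744
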