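import Groth.Statements.S5746
import Mathlib
import Groth.Agent.Lib.Helper12.SerreGamma3
import Groth.Agent.Lib.Helper12.AlphaLoc2
import Groth.Agent.Lib.Helper28.RelTildeExists
-- import your own Groth.Agent.* helpers here

set_option autoImplicit false
universe u
open CategoryTheory CategoryTheory.Limits AlgebraicGeometry Opposite TopologicalSpace
open scoped HomogeneousIdeal
noncomputable section
open Coherent

namespace Groth.Agent.S5746

/-- Let Y be a Noetherian scheme, 𝒮 a quasi-coherent positively graded O_Y-algebra of finite type and ℳ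
a quasi-coherent graded 𝒮-module (non-negatively graded here) satisfying (TF). Then there is one
integer N such that for every n ≥ N and every affine open U of Y the canonical map α_n : ℳ(U)_n →
Γ(Proj 𝒮(U), (ℳ(U)(n))~), m ↦ m/1, is bijective. (The statement is read on the sections over the
affine opens of Y: over an affine open U the module (ℳ(n))~ on Proj(𝒮) restricts to the module
attached to the shifted graded 𝒮(U)-module ℳ(U)(n), so this is the bijectivity of the sheaf
homomorphism α_n from ℳ_n to the direct image of (ℳ(n))~, with a bound uniform over Y.) -/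
theorem result {Y : Scheme.{u}}
    [AlgebraicGeometry.IsNoetherian Y] (𝒮 : RelProj.QCGrAlg Y)
    (hft : ∀ (U : Y.Opens) (hU : IsAffineOpen U), (𝒮.str.app (op U)).hom.FiniteType)
    (ℳ : RelProj.GrModule 𝒮) (hℳ : Coh.IsQCoh ((AMod.toOS 𝒮.toQCAlg).obj ℳ.mod)) (hTF : ℳ.IsTF) :
    ∃ N : ℕ, ∀ n : ℕ, N ≤ n → ∀ (U : Y.Opens) (hU : IsAffineOpen U),
      Function.Bijective (GrMod.alpha (𝒮.deg U hU) (ℳ.deg U hU) n) := by
  classical
  obtain ⟨k₀, hk₀⟩ := hTF
  have hnoeth : ∀ (U : Y.Opens) (hU : IsAffineOpen U),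
      IsNoetherianRing (𝒮.presheaf.obj (op U)) := by
    intro U hU
    have : IsNoetherianRing Γ(Y, U) := IsLocallyNoetherian.component_noetherian ⟨U, hU⟩
    let _ := (𝒮.str.app (op U)).hom.toAlgebra
    have : Algebra.FiniteType Γ(Y, U) (𝒮.presheaf.obj (op U)) := hft U hU
    exact Algebra.FiniteType.isNoetherianRing Γ(Y, U) (𝒮.presheaf.obj (op U))
  have hft0 : ∀ (U : Y.Opens) (hU : IsAffineOpen U),
      Algebra.FiniteType (𝒮.deg U hU 0) (𝒮.presheaf.obj (op U)) := by
    intro U hU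
    have h1 : ((algebraMap (𝒮.deg U hU 0) (𝒮.presheaf.obj (op U))).comp
        (𝒮.strZero U hU).hom).FiniteType := by
      have e : (algebraMap (𝒮.deg U hU 0) (𝒮.presheaf.obj (op U))).comp (𝒮.strZero U hU).hom =
          (𝒮.str.app (op U)).hom := by
        ext r; rfl
      rw [e]; exact hft U hU
    exact RingHom.finiteType_algebraMap.mp (RingHom.FiniteType.of_comp_finiteType h1)
  -- a finite affine cover of `Y`
  obtain ⟨S, hS, e⟩ := isCompact_and_isOpen_iff_finite_and_eq_biUnion_affineOpens.mp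
    ⟨(CompactSpace.isCompact_univ : IsCompact (Set.univ : Set Y)), isOpen_univ⟩
  have hN : ∀ V : Y.affineOpens, ∃ N : ℕ, ∀ n : ℕ, N ≤ n →
      Function.Bijective (GrMod.alpha (𝒮.deg V.1 V.2) (ℳ.deg V.1 V.2) n) := by
    intro V
    haveI := hnoeth V.1 V.2
    exact Groth.Agent.Lib.helper12.SerreGamma.alpha_bijective_eventually _ _ ⟨k₀, hk₀ V.1 V.2⟩
  choose Nf hNf using hN
  refine ⟨hS.toFinset.sup Nf, fun n hn U hU => ?_⟩
  haveI := hft0 U hU
  -- transport along an equality of opens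
  have htr : ∀ (W W' : Y.Opens) (_ : W = W') (hW : IsAffineOpen W) (hW' : IsAffineOpen W'),
      Function.Bijective (GrMod.alpha (𝒮.deg W hW) (ℳ.deg W hW) n) →
      Function.Bijective (GrMod.alpha (𝒮.deg W' hW') (ℳ.deg W' hW') n) := by
    intro W W' e hW hW' h
    subst e
    exact h
  let F : Set Γ(Y, U) := {r | Function.Bijective
    (GrMod.alpha (𝒮.deg (Y.basicOpen r) (hU.basicOpen r)) (ℳ.deg (Y.basicOpen r) (hU.basicOpen r)) n)}
  have hF : Ideal.span F = ⊤ := by
    rw [← hU.self_le_iSup_basicOpen_iff]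
    intro x hx
    have hx' : x ∈ (Set.univ : Set Y) := trivial
    rw [e] at hx'
    simp only [Set.mem_iUnion] at hx'
    obtain ⟨V, hVS, hxV⟩ := hx'
    obtain ⟨f, g, hfg, hxf⟩ := exists_basicOpen_le_affine_inter hU V.2 x ⟨hx, hxV⟩
    have hnV : Nf V ≤ n := le_trans (Finset.le_sup (f := Nf) (hS.mem_toFinset.mpr hVS)) hn
    haveI := hft0 V.1 V.2
    have hg : Function.Bijective (GrMod.alpha (𝒮.deg (Y.basicOpen g) (V.2.basicOpen g))
        (ℳ.deg (Y.basicOpen g) (V.2.basicOpen g)) n) :=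
      Groth.Agent.Lib.helper12.AlphaLoc.descend
        (ℳ.res V.2 (V.2.basicOpen g) (Y.basicOpen_le g))
        (fun i m hm => ℳ.res_mem V.2 (V.2.basicOpen g) (Y.basicOpen_le g) i m hm)
        (Groth.Agent.Lib.helper28.RelProjExists.isLocAt_res 𝒮 V.1 V.2 g)
        (𝒮.irrelevant_le_map V.1 V.2 g)
        (Groth.Agent.Lib.helper28.RelTildeExists.mres_inj 𝒮 ℳ hℳ V.1 V.2 g)
        (Groth.Agent.Lib.helper28.RelTildeExists.mres_surj 𝒮 ℳ hℳ V.1 V.2 g)
        n (hNf V n hnV)
    have hf : f ∈ F := htr _ _ hfg.symm (V.2.basicOpen g) (hU.basicOpen f) hg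
    exact Opens.mem_iSup.mpr ⟨⟨f, hf⟩, hxf⟩
  let C : Set (𝒮.deg U hU 0) := (𝒮.strZero U hU).hom '' F
  have hC : Ideal.span C = ⊤ := by
    rw [← Ideal.map_span, hF, Ideal.map_top]
  have hasc : ∀ c ∈ C,
      (∀ m : ℳ.deg U hU n, GrMod.alpha (𝒮.deg U hU) (ℳ.deg U hU) n m = 0 →
        ∃ k : ℕ, (c : 𝒮.presheaf.obj (op U)) ^ k • (m : ℳ.mod.val.obj (op U)) = 0) ∧
      (∀ s : GrMod.sect (𝒮.deg U hU) (ℳ.deg U hU) (n : ℤ) (op ⊤), ∃ (k : ℕ) (m : ℳ.deg U hU n),
        ∀ y : ProjectiveSpectrum (𝒮.deg U hU),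
          (c : 𝒮.presheaf.obj (op U)) ^ k •
            Groth.Agent.Lib.helper12.SerreGamma.gval (𝒮.deg U hU) (ℳ.deg U hU) s y =
            LocalizedModule.mk (m : ℳ.mod.val.obj (op U)) 1) := by
    rintro c ⟨r, hr, rfl⟩
    exact Groth.Agent.Lib.helper12.AlphaLoc.ascend
      (ℳ.res hU (hU.basicOpen r) (Y.basicOpen_le r))
      (fun i m hm => ℳ.res_mem hU (hU.basicOpen r) (Y.basicOpen_le r) i m hm)
      (Groth.Agent.Lib.helper28.RelProjExists.isLocAt_res 𝒮 U hU r)
      (𝒮.irrelevant_le_map U hU r)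
      (Groth.Agent.Lib.helper28.RelTildeExists.mres_inj 𝒮 ℳ hℳ U hU r)
      (Groth.Agent.Lib.helper28.RelTildeExists.mres_surj 𝒮 ℳ hℳ U hU r)
      n hr
  exact Groth.Agent.Lib.helper12.AlphaLoc.glue n C hC (fun c hc => (hasc c hc).1)
    (fun c hc => (hasc c hc).2)

end Groth.Agent.S5746
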