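import Groth.Statements.S5747
import Groth.Agent.S8285
import Groth.Agent.Lib.Helper28.GTwistFT
import Groth.Agent.Lib.Helper28.RelTwistChart
import Groth.Agent.Lib.Helper16.Satur2
-- import your own Groth.Agent.* helpers here

set_option autoImplicit false
universe u
open CategoryTheory CategoryTheory.Limits AlgebraicGeometry Opposite TopologicalSpace
open scoped HomogeneousIdeal
noncomputable section
open Coherent

namespace Groth.Agent.S5747

/-- Let Y be a Noetherian scheme, 𝒮 a quasi-coherent positively graded O_Y-algebra of finite type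
(generators of any positive degrees), p : X = Proj(𝒮) → Y its relative homogeneous spectrum with its
charts over the affine opens, and n any integer. Then the homogeneous component O_X(n), given
through its chartwise identifications with the twisting modules O(n) on the Proj 𝒮(U), is a coherent
O_X-module (quasi-coherent of finite type; X is locally Noetherian). -/
theorem result {Y X : Scheme.{u}} [AlgebraicGeometry.IsNoetherian Y]
    (𝒮 : RelProj.QCGrAlg Y)
    (hft : ∀ (U : Y.Opens) (hU : IsAffineOpen U), (𝒮.str.app (op U)).hom.FiniteType)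
    (p : X ⟶ Y)
    (chart : ∀ (U : Y.Opens) (hU : IsAffineOpen U), (((p ⁻¹ᵁ U : X.Opens) : Scheme.{u}) ≅ Proj (𝒮.deg U hU)))
    (hP : RelProj.IsRelProj 𝒮 p chart) (n : ℤ) (L : X.Modules)
    (lam : ∀ (U : Y.Opens) (hU : IsAffineOpen U),
      L ⟶ (Scheme.Modules.pushforward (RelProj.emb p chart U hU)).obj (GrTwist.twist (𝒮.deg U hU) n))
    (hL : RelProj.IsRelTwist 𝒮 p chart n L lam) : Coh.IsCoh L := by
  have hq : L.IsQuasicoherent := Groth.Agent.S8285.result 𝒮 p chart hP n L lam hL
  refine ⟨hq, ?_⟩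
  have hnoeth : ∀ (U : Y.Opens) (hU : IsAffineOpen U), IsNoetherianRing (𝒮.presheaf.obj (op U)) := by
    intro U hU
    have : IsNoetherianRing Γ(Y, U) := IsLocallyNoetherian.component_noetherian ⟨U, hU⟩
    let _ := (𝒮.str.app (op U)).hom.toAlgebra
    have : Algebra.FiniteType Γ(Y, U) (𝒮.presheaf.obj (op U)) := hft U hU
    exact Algebra.FiniteType.isNoetherianRing Γ(Y, U) (𝒮.presheaf.obj (op U))
  refine Groth.Agent.Lib.helper16.CohFinite.isFiniteType_of_finite_sections L
    (ι := Σ i : {U : Y.Opens // IsAffineOpen U}, (Σ e : PNat, 𝒮.deg i.1 i.2 e))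
    (fun k => (RelProj.emb p chart k.1.1 k.1.2) ''ᵁ
      (Proj.basicOpen (𝒮.deg k.1.1 k.1.2) (k.2.2 : 𝒮.presheaf.obj (op k.1.1)))) ?_ ?_ ?_
  · intro k
    exact (Proj.isAffineOpen_basicOpen (𝒮.deg k.1.1 k.1.2) _ k.2.2.2
      k.2.1.2).image_of_isOpenImmersion _
  · rw [eq_top_iff]
    intro x _
    obtain ⟨i, z, rfl⟩ := Groth.Agent.Lib.helper28.RelTwistChart.exists_mem_range_emb p chart x
    have hz : z ∈ (⊤ : (Proj (𝒮.deg i.1 i.2)).Opens) := trivial
    rw [← Groth.Agent.Lib.helper28.GTwistQCoh.iSup_basicOpen_eq_top (𝒮.deg i.1 i.2),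
      Opens.mem_iSup] at hz
    obtain ⟨g, hg⟩ := hz
    exact Opens.mem_iSup.mpr ⟨⟨i, g⟩, ⟨z, hg, rfl⟩⟩
  · intro k
    refine Groth.Agent.Lib.helper16.Satur.finite_of_finite_restrict
      (RelProj.emb p chart k.1.1 k.1.2) L _ ?_
    have := hnoeth k.1.1 k.1.2
    have hfin := Groth.Agent.Lib.helper28.GTwistFT.finite_sections_basicOpen
      (𝒮.deg k.1.1 k.1.2) n k.2.1.2 k.2.2.2
    let e := Groth.Agent.Lib.helper28.RelTwistChart.chartIso lam hL k.1.1 k.1.2
    refine Module.Finite.of_surjective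
      (Groth.Agent.Lib.helper16.Satur.secLin e.inv
        (Proj.basicOpen (𝒮.deg k.1.1 k.1.2) (k.2.2 : 𝒮.presheaf.obj (op k.1.1)))) ?_
    intro y
    refine ⟨e.hom.app _ y, ?_⟩
    change (e.hom ≫ e.inv).app _ y = y
    rw [e.hom_inv_id]
    rfl

end Groth.Agent.S5747
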