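import Groth.Statements.S5748
import Groth.Agent.Lib.Helper11.AffBCTwist
import Groth.Agent.Lib.Helper11.RelAmpleVan
import Groth.Agent.Lib.Helper11.RelAmpSq
import Groth.Agent.Lib.Helper11.ProjFormulaC
import Groth.Agent.Lib.Helper12.RelProjProper
import Groth.Agent.Lib.Helper12.PullAmple
import Groth.Agent.Lib.Helper12.TensorInv
import Groth.Agent.Lib.Helper16.FLF5
import Groth.Agent.S4456

set_option autoImplicit false
universe u
open CategoryTheory CategoryTheory.Limits AlgebraicGeometry Opposite TopologicalSpace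
open Coherent

namespace Groth.Agent.S5748

/-- Let Y be a Noetherian scheme, f : X → Y a projective morphism, L an invertible O_X-module ample
relative to f, g : Y' → Y an affine morphism locally of finite type (the spectrum of a
quasi-coherent O_Y-algebra 𝒮 of finite type) and X' = X ×_Y Y' with projections g' : X' → X and f' :
X' → Y'. The quasi-coherent modules of finite type over the pulled-back O_X-algebra f^*𝒮 = g'_*
O_{X'} are the direct images g'_* G of the coherent O_{X'}-modules G, and they are presented here in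
that form. For such a module ℳ = g'_* G there is N such that for every n ≥ N the higher direct
images R^p f_*(ℳ ⊗ L^{⊗n}) (of the underlying abelian sheaf) vanish for all p > 0 and the canonical
morphism f^* f_*(ℳ ⊗ L^{⊗n}) → ℳ ⊗ L^{⊗n} is an epimorphism. -/
theorem result {X Y X' Y' : Scheme.{u}}
    [AlgebraicGeometry.IsNoetherian Y] (f : X ⟶ Y) (hf : RelProj.IsProjective f)
    (L : X.Modules) (hL : PicF.IsInvertible L) (hamp : RelAmple.IsRelAmple f L)
    (g : Y' ⟶ Y) [IsAffineHom g] [LocallyOfFiniteType g] (g' : X' ⟶ X) (f' : X' ⟶ Y')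
    (hsq : IsPullback g' f' f g) (G : X'.Modules) (hG : Coh.IsCoh G) :
    ∃ N : ℕ, ∀ n : ℕ, N ≤ n →
      (∀ p : ℕ, 0 < p →
        IsZero ((Coh.RpushAb f p).obj (Coh.toAb (CohB1.tensorMod ((Coh.push g').obj G) (CohB1.tensorPow L n))))) ∧
      Epi ((Scheme.Modules.pullbackPushforwardAdjunction f).counit.app
        (CohB1.tensorMod ((Coh.push g').obj G) (CohB1.tensorPow L n))) := by
  classical
  haveI : IsProper f := Groth.Agent.Lib.helper12.RelProjProper.isProper_of_isProjective f hf
  haveI : IsProper f' := MorphismProperty.of_isPullback (P := @IsProper) hsq inferInstance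
  haveI : IsAffineHom g' :=
    MorphismProperty.of_isPullback (P := @IsAffineHom) hsq.flip inferInstance
  haveI : IsLocallyNoetherian Y' := LocallyOfFiniteType.isLocallyNoetherian g
  haveI : CompactSpace Y' := QuasiCompact.compactSpace_of_compactSpace g
  haveI : AlgebraicGeometry.IsNoetherian Y' := {}
  have hL' : PicF.IsInvertible ((Scheme.Modules.pullback g').obj L) :=
    Groth.Agent.Lib.helper11.InvMod.isInvertible_pullback g' hL
  have hamp' : RelAmple.IsRelAmple f' ((Scheme.Modules.pullback g').obj L) :=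
    Groth.Agent.Lib.helper11.RelAmpLocus.isRelAmple_of_isPullback hsq hamp
  obtain ⟨N₁, hN₁⟩ := Groth.Agent.Lib.helper11.RelAmpleVan.isZero_RpushAb_twist f'
    ((Scheme.Modules.pullback g').obj L) hL' (fun W hW => hamp'.2 ⟨W, hW⟩) G hG
  obtain ⟨N₂, hN₂⟩ := Groth.Agent.Lib.helper11.CounitEpi.exists_epi_counit_twist f'
    ((Scheme.Modules.pullback g').obj L) hamp' G hG
  refine ⟨max N₁ N₂, fun n hn => ?_⟩
  have hn1 : N₁ ≤ n := le_trans (le_max_left _ _) hn
  have hn2 : N₂ ≤ n := le_trans (le_max_right _ _) hn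
  have hKc : Coh.IsCoh (CohB1.tensorMod G (CohB1.tensorPow ((Scheme.Modules.pullback g').obj L) n)) :=
    Groth.Agent.Lib.helper11.SerreGG.isCoh_twist hL' hG n
  haveI hKq : (CohB1.tensorMod G
      (CohB1.tensorPow ((Scheme.Modules.pullback g').obj L) n)).IsQuasicoherent := hKc.1
  have hE : FlatMod.IsFinLocFree (CohB1.tensorPow L n) :=
    Groth.Agent.Lib.helper16.FLF.isFinLocFree_of_isInvertible
      (Groth.Agent.Lib.helper12.TensorInv.isInvertible_tensorPow hL n)
  let e : CohB1.tensorMod ((Coh.push g').obj G) (CohB1.tensorPow L n) ≅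
      (Scheme.Modules.pushforward g').obj
        (CohB1.tensorMod G (CohB1.tensorPow ((Scheme.Modules.pullback g').obj L) n)) :=
    (Groth.Agent.Lib.helper11.ProjFormula.projIso g' hE).app G ≪≫
      (Scheme.Modules.pushforward g').mapIso
        (PicGrp.tensorModIso (Iso.refl _)
          (Groth.Agent.Lib.helper12.PullAmple.pullTensorPowIso g' hL n))
  constructor
  · intro p hp
    obtain ⟨q, rfl⟩ : ∃ q, p = q + 1 := ⟨p - 1, by omega⟩
    have h1 : IsZero ((Coh.RpushAb (f' ≫ g) (q + 1)).obj (Coh.toAb
        (CohB1.tensorMod G (CohB1.tensorPow ((Scheme.Modules.pullback g').obj L) n)))) :=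
      Groth.Agent.Lib.helper11.AffBCTwist.isZero_RpushAb_comp_of_acyclic f' g _
        (fun j => hN₁ n hn1 (j + 1) (Nat.succ_pos j)) q
    have h2 : IsZero ((Coh.RpushAb (g' ≫ f) (q + 1)).obj (Coh.toAb
        (CohB1.tensorMod G (CohB1.tensorPow ((Scheme.Modules.pullback g').obj L) n)))) := by
      rw [hsq.w]; exact h1
    haveI : Coh.IsQCoh (CohB1.tensorMod G
      (CohB1.tensorPow ((Scheme.Modules.pullback g').obj L) n)) := hKq
    obtain ⟨e3⟩ := Groth.Agent.S4456.result g' f
      (CohB1.tensorMod G (CohB1.tensorPow ((Scheme.Modules.pullback g').obj L) n)) (q + 1)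
    have h3 := IsZero.of_iso h2 e3
    exact IsZero.of_iso h3 ((Coh.RpushAb f (q + 1)).mapIso
      ((SheafOfModules.toSheaf X.ringCatSheaf).mapIso e))
  · have h1 := Groth.Agent.Lib.helper11.AffBCTwist.epi_counit_push_of_epi_counit hsq
      (CohB1.tensorMod G (CohB1.tensorPow ((Scheme.Modules.pullback g').obj L) n)) (hN₂ n hn2)
    have hnat := (Scheme.Modules.pullbackPushforwardAdjunction f).counit.naturality e.hom
    have heq : (Scheme.Modules.pullbackPushforwardAdjunction f).counit.app
        (CohB1.tensorMod ((Coh.push g').obj G) (CohB1.tensorPow L n)) =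
        ((Scheme.Modules.pushforward f ⋙ Scheme.Modules.pullback f).map e.hom ≫
          (Scheme.Modules.pullbackPushforwardAdjunction f).counit.app _) ≫ e.inv := by
      rw [hnat, Category.assoc]
      simp
    rw [heq]
    haveI := h1
    infer_instance

end Groth.Agent.S5748
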