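import Groth.Statements.S5753
import Mathlib

set_option autoImplicit false
universe u
open EGA41

namespace Groth.Agent.S5753

open IsLocalRing in
/-- Let A be a Noetherian local ring with maximal ideal m and residue field k, and N a finitely
generated A-module. Then no element of m is N-regular (multiplication by it injective) if and only
if Hom_A(k, N) is nonzero. Applied to N = M/(x_1 M + ... + x_n M) for an M-regular sequence (x_i) in
m, this says that the sequence cannot be extended by an element of m if and only if Hom_A(k, M/(x_1
M + ... + x_n M)) ≠ 0. (The published statement allows an arbitrary module; for the direct sum N of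
the quotients of a two-dimensional regular local ring by all its height-one primes no element of m
is N-regular while Hom_A(k, N) = 0, and the published proof uses finiteness of the set of associated
primes, so N is taken finitely generated here.) -/
theorem result (A : Type u) [CommRing A]
    [IsLocalRing A] [IsNoetherianRing A] (N : Type u) [AddCommGroup N] [Module A N] [Module.Finite A N] :
    (∀ x ∈ IsLocalRing.maximalIdeal A, ¬ IsSMulRegular N x) ↔
      Nontrivial (IsLocalRing.ResidueField A →ₗ[A] N) := by
  classical
  constructor
  · intro H
    have hsub : ((maximalIdeal A : Ideal A) : Set A) ⊆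
        ⋃ p ∈ (((associatedPrimes.finite A N).toFinset : Finset (Ideal A)) : Set (Ideal A)), (id p : Ideal A) := by
      intro x hx
      have hx' := H x hx
      have : ∃ y : N, y ≠ 0 ∧ x • y = 0 := by
        by_contra hcon
        push Not at hcon
        apply hx'
        intro a b hab
        have h1 : x • (a - b) = 0 := by rw [smul_sub]; exact sub_eq_zero.2 hab
        by_contra hne
        exact hcon (a - b) (sub_ne_zero.2 hne) h1
      have hmem : x ∈ {r : A | ∃ y : N, y ≠ 0 ∧ r • y = 0} := this
      rw [← biUnion_associatedPrimes_eq_zero_divisors A N] at hmem
      simpa using hmem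
    rw [Ideal.subset_union_prime (maximalIdeal A) (maximalIdeal A)] at hsub
    · obtain ⟨p, hp, hle⟩ := hsub
      have hpAss : IsAssociatedPrime p N := by
        have : p ∈ associatedPrimes A N := by simpa using hp
        exact this
      have hpm : maximalIdeal A = p :=
        (maximalIdeal.isMaximal A).eq_of_le hpAss.isPrime.ne_top hle
      rw [← hpm, isAssociatedPrime_iff] at hpAss
      obtain ⟨_, y, hy⟩ := hpAss
      have hy0 : y ≠ 0 := by
        rintro rfl
        have : (1 : A) ∈ maximalIdeal A := by
          rw [hy, Submodule.mem_colon_singleton, smul_zero]; exact Submodule.zero_mem _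
        exact (maximalIdeal.isMaximal A).ne_top ((Ideal.eq_top_iff_one _).2 this)
      have hker : maximalIdeal A ≤ LinearMap.ker (LinearMap.toSpanSingleton A N y) := by
        intro r hr
        rw [hy, Submodule.mem_colon_singleton, Submodule.mem_bot] at hr
        rw [LinearMap.mem_ker, LinearMap.toSpanSingleton_apply]
        exact hr
      let g : (A ⧸ maximalIdeal A) →ₗ[A] N :=
        Submodule.liftQ (maximalIdeal A) (LinearMap.toSpanSingleton A N y) hker
      let g' : ResidueField A →ₗ[A] N := g
      have hg' : g' ≠ 0 := by
        intro h0
        have : g' (residue A 1) = 0 := by rw [h0]; rfl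
        apply hy0
        have h2 : g' (residue A 1) = y := by
          change LinearMap.toSpanSingleton A N y 1 = y
          simp
        rw [← h2, this]
      exact nontrivial_of_ne g' 0 hg'
    · intro p hp _ _
      have h' : p ∈ associatedPrimes A N := by simpa using hp
      have : IsAssociatedPrime p N := h'
      exact this.isPrime
  · intro hnt x hx hreg
    obtain ⟨g, hg⟩ := exists_ne (0 : ResidueField A →ₗ[A] N)
    obtain ⟨c, hc⟩ : ∃ c, g c ≠ 0 := by
      by_contra hcon
      push Not at hcon
      exact hg (LinearMap.ext hcon)
    have h1 : x • g c = 0 := by
      rw [← map_smul, Algebra.smul_def]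
      have : algebraMap A (ResidueField A) x = 0 := (residue_eq_zero_iff x).2 hx
      rw [this, zero_mul, map_zero]
    exact hc (hreg (by change x • g c = x • 0; rw [h1, smul_zero]))

end Groth.Agent.S5753
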