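import Groth.Statements.S5754
import Mathlib

set_option autoImplicit false
universe u
open EGA41

namespace Groth.Agent.S5754

open Pointwise


/-- Let A be a Noetherian ring, M a finitely generated A-module and t an element of A which is
M-regular. For every associated prime p of M, every prime ideal minimal among those containing p +
tA is an associated prime of M/tM. -/
theorem result (A : Type u) [CommRing A]
    [IsNoetherianRing A] (M : Type u) [AddCommGroup M] [Module A M] [Module.Finite A M] (t : A)
    (ht : IsSMulRegular M t) (p : Ideal A) (hp : p ∈ associatedPrimes A M) (q : Ideal A)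
    (hq : q ∈ (p ⊔ Ideal.span {t}).minimalPrimes) : q ∈ associatedPrimes A (QuotSMulTop t M) := by
  classical
  obtain ⟨⟨hqp, hqle⟩, hqmin⟩ := hq
  obtain ⟨hpp, x, hx⟩ := (isAssociatedPrime_iff (I := p) (M := M)).mp hp
  have hxp : ∀ a : A, a ∈ p ↔ a • x = 0 := by
    intro a
    rw [hx, Submodule.mem_colon_singleton, Submodule.mem_bot]
  have hpq : p ≤ q := le_trans le_sup_left hqle
  have htq : t ∈ q := hqle (Ideal.mem_sup_right (Ideal.mem_span_singleton_self t))
  -- the submodule killed by p
  let N : Submodule A M :=
    { carrier := {m | ∀ a ∈ p, a • m = 0}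
      add_mem' := by
        intro m n hm hn a ha
        rw [smul_add, hm a ha, hn a ha, add_zero]
      zero_mem' := by
        intro a _
        exact smul_zero a
      smul_mem' := by
        intro c m hm a ha
        rw [smul_comm, hm a ha, smul_zero] }
  have hxN : x ∈ N := fun a ha => (hxp a).mp ha
  have hNoeth : IsNoetherian A M := isNoetherian_of_isNoetherianRing_of_finite A M
  have hNfin : Module.Finite A N := inferInstance
  -- the injection N/tN → M/tM
  have hmap : (t • (⊤ : Submodule A N)) ≤ (t • (⊤ : Submodule A M)).comap N.subtype := by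
    intro n hn
    obtain ⟨n', _, rfl⟩ := (Submodule.mem_smul_pointwise_iff_exists _ _ _).mp hn
    rw [Submodule.mem_comap, map_smul]
    exact Submodule.smul_mem_pointwise_smul _ _ _ Submodule.mem_top
  let φ : QuotSMulTop t N →ₗ[A] QuotSMulTop t M := Submodule.mapQ _ _ N.subtype hmap
  have hφ : Function.Injective φ := by
    rw [injective_iff_map_eq_zero]
    intro z hz
    induction z using Submodule.Quotient.induction_on with
    | H n =>
      rw [Submodule.mapQ_apply, Submodule.Quotient.mk_eq_zero] at hz
      obtain ⟨m, _, hm⟩ := (Submodule.mem_smul_pointwise_iff_exists _ _ _).mp hz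
      have hmN : m ∈ N := by
        intro a ha
        apply ht
        change t • a • m = t • 0
        rw [smul_zero, smul_comm, hm]
        exact n.2 a ha
      rw [Submodule.Quotient.mk_eq_zero]
      refine (Submodule.mem_smul_pointwise_iff_exists _ _ _).mpr ⟨⟨m, hmN⟩, Submodule.mem_top, ?_⟩
      exact Subtype.ext hm
  -- q is in the support of N/tN
  have hsuppN : (⟨q, hqp⟩ : PrimeSpectrum A) ∈ Module.support A N := by
    rw [Module.mem_support_iff_of_finite]
    intro a ha
    have h1 : a • (⟨x, hxN⟩ : N) = 0 := Module.mem_annihilator.mp ha _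
    have h2 : a • x = 0 := congrArg Subtype.val h1
    exact hpq ((hxp a).mpr h2)
  have hsupp : (⟨q, hqp⟩ : PrimeSpectrum A) ∈ Module.support A (QuotSMulTop t N) := by
    rw [Module.support_quotSMulTop]
    refine ⟨hsuppN, ?_⟩
    rw [PrimeSpectrum.mem_zeroLocus]
    intro a ha
    rw [Set.mem_singleton_iff.mp ha]
    exact htq
  have hann : Module.annihilator A (QuotSMulTop t N) ≤ q :=
    Module.mem_support_iff_of_finite.mp hsupp
  have hsub : p ⊔ Ideal.span {t} ≤ Module.annihilator A (QuotSMulTop t N) := by
    refine sup_le ?_ ?_
    · intro a ha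
      rw [Module.mem_annihilator]
      intro z
      induction z using Submodule.Quotient.induction_on with
      | H n =>
        rw [← Submodule.Quotient.mk_smul]
        have : a • n = 0 := Subtype.ext (n.2 a ha)
        rw [this, Submodule.Quotient.mk_zero]
    · rw [Ideal.span_singleton_le_iff_mem, Module.mem_annihilator]
      intro z
      induction z using Submodule.Quotient.induction_on with
      | H n =>
        rw [← Submodule.Quotient.mk_smul, Submodule.Quotient.mk_eq_zero]
        exact Submodule.smul_mem_pointwise_smul _ _ _ Submodule.mem_top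
  have hmin : q ∈ (Module.annihilator A (QuotSMulTop t N)).minimalPrimes :=
    ⟨⟨hqp, hann⟩, fun P hP hPq => hqmin ⟨hP.1, le_trans hsub hP.2⟩ hPq⟩
  have hass : q ∈ associatedPrimes A (QuotSMulTop t N) :=
    Module.associatedPrimes.minimalPrimes_annihilator_subset_associatedPrimes A _ hmin
  exact associatedPrimes.subset_of_injective hφ hass


end Groth.Agent.S5754
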