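import Groth.Statements.S5755
import Mathlib.RingTheory.Ideal.AssociatedPrime.Finiteness
import Mathlib.RingTheory.Regular.RegularSequence
import Mathlib.RingTheory.LocalRing.MaximalIdeal.Basic

set_option autoImplicit false
universe u
open EGA41

namespace Groth.Agent.S5755

/-- A reduced Noetherian local ring A has depth 0 if and only if A is a field. -/
theorem result (A : Type u) [CommRing A] [IsLocalRing A]
    [IsNoetherianRing A] [IsReduced A] : LocCoh.depth A A = 0 ↔ IsField A := by
  classical
  set m := IsLocalRing.maximalIdeal A with hm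
  have hne : ¬ (m • (⊤ : Submodule A A) = ⊤) := by
    rw [smul_eq_mul, Ideal.mul_top]
    exact (IsLocalRing.maximalIdeal.isMaximal A).ne_top
  unfold LocCoh.depth LocCoh.idealDepth
  rw [if_neg hne]
  constructor
  · intro h
    have hzd : ∀ r ∈ m, ¬ IsSMulRegular A r := by
      intro r hr hreg
      have h1 : (([r] : List A).length : ℕ∞) ≤ 0 := by
        rw [← h]
        exact le_iSup₂_of_le [r]
          ⟨(RingTheory.Sequence.isWeaklyRegular_singleton_iff A r).2 hreg,
            fun r' hr' => by rw [List.mem_singleton] at hr'; rw [hr']; exact hr⟩ le_rfl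
      simp at h1
    have hsub : (m : Set A) ⊆ ⋃ p ∈ associatedPrimes A A, (p : Set A) := by
      rw [biUnion_associatedPrimes_eq_compl_nonZeroDivisors]
      intro r hr hnzd
      apply hzd r hr
      intro a b hab
      have h2 : r * (a - b) = 0 := by
        rw [mul_sub]; exact sub_eq_zero.2 hab
      have h3 := (mem_nonZeroDivisors_iff_right.1 hnzd) (a - b) (by rw [mul_comm]; exact h2)
      exact sub_eq_zero.1 h3
    have hfin := associatedPrimes.finite A A
    obtain ⟨p, hp, hmp⟩ : ∃ p ∈ associatedPrimes A A, m ≤ p := by
      have h4 := (Ideal.subset_union_prime (s := hfin.toFinset) (f := fun i : Ideal A => i) ⊥ ⊥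
        (fun i hi _ _ => ((hfin.mem_toFinset.1 hi) : IsAssociatedPrime i A).isPrime) (I := m)).1
        (by
          intro r hr
          have := hsub hr
          simp only [Set.mem_iUnion, SetLike.mem_coe, exists_prop] at this ⊢
          obtain ⟨q, hq, hrq⟩ := this
          exact ⟨q, by simpa using hq, hrq⟩)
      obtain ⟨q, hq, hmq⟩ := h4
      exact ⟨q, hfin.mem_toFinset.1 hq, hmq⟩
    obtain ⟨hpp, x, hx⟩ := isAssociatedPrime_iff.1 hp
    have hmeq : m = p := (IsLocalRing.maximalIdeal.isMaximal A).eq_of_le hpp.ne_top hmp
    have hmx : ∀ r ∈ m, r * x = 0 := by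
      intro r hr
      rw [hmeq, hx, Submodule.mem_colon_singleton] at hr
      simpa using hr
    have hx0 : x ≠ 0 := by
      intro h0
      apply hpp.ne_top
      rw [hx, h0]
      ext r
      simp [Submodule.mem_colon_singleton]
    have hxm : x ∉ m := by
      intro hxm
      have := hmx x hxm
      exact hx0 (by simpa using (IsReduced.eq_zero x ⟨2, by rw [pow_two]; exact this⟩))
    have hxu : IsUnit x := by
      by_contra hnu
      exact hxm ((IsLocalRing.mem_maximalIdeal x).2 hnu)
    have hm0 : m = ⊥ := by
      rw [eq_bot_iff]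
      intro r hr
      have := hmx r hr
      rw [Ideal.mem_bot]
      exact (hxu.mul_left_eq_zero).1 this
    exact IsLocalRing.isField_iff_maximalIdeal_eq.2 hm0
  · intro hF
    have hm0 : m = ⊥ := IsLocalRing.isField_iff_maximalIdeal_eq.1 hF
    refine le_antisymm ?_ bot_le
    refine iSup₂_le fun rs hrs => ?_
    obtain ⟨hreg, hmem⟩ := hrs
    cases rs with
    | nil => simp
    | cons r rs' =>
      exfalso
      have hr0 : r = 0 := by
        have := hmem r (by simp)
        change r ∈ m at this
        rw [hm0, Ideal.mem_bot] at this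
        exact this
      have hreg1 := ((RingTheory.Sequence.isWeaklyRegular_cons_iff A r rs').1 hreg).1
      rw [hr0] at hreg1
      have := hreg1 (by simp : (0 : A) • (1 : A) = (0 : A) • (0 : A))
      exact one_ne_zero this

end Groth.Agent.S5755
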