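import Groth.Statements.S5764
import Mathlib

set_option autoImplicit false
universe u
open EGA41

namespace Groth.Agent.S5764



/-- Let B be an integral domain, A a local subring of B which is integrally closed (in its field of
fractions), and suppose B is integral over A. Then dim(B_n) = dim(A) for every maximal ideal n of B. -/
theorem result (A B : Type u) [CommRing A]
    [CommRing B] [IsDomain B] [Algebra A B] (hinj : Function.Injective (algebraMap A B)) [IsDomain A]
    [IsLocalRing A] [IsIntegrallyClosed A] [Algebra.IsIntegral A B] (n : Ideal B) [n.IsMaximal] :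
    ringKrullDim (Localization.AtPrime n) = ringKrullDim A := by
  classical
  haveI : FaithfulSMul A B := (faithfulSMul_iff_algebraMap_injective A B).mpr hinj
  have hmax : (n.comap (algebraMap A B)).IsMaximal :=
    Ideal.isMaximal_comap_of_isIntegral_of_isMaximal n
  have hunder : n.comap (algebraMap A B) = IsLocalRing.maximalIdeal A :=
    IsLocalRing.eq_maximalIdeal hmax
  let pn : PrimeSpectrum B := ⟨n, inferInstance⟩
  let pm : PrimeSpectrum A := ⟨IsLocalRing.maximalIdeal A, inferInstance⟩
  have hcomap : PrimeSpectrum.comap (algebraMap A B) pn = pm := PrimeSpectrum.ext hunder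
  have hmono : StrictMono (PrimeSpectrum.comap (algebraMap A B)) := by
    intro p q hpq
    have h0 : p.asIdeal < q.asIdeal := hpq
    show (PrimeSpectrum.comap (algebraMap A B) p).asIdeal <
      (PrimeSpectrum.comap (algebraMap A B) q).asIdeal
    exact Ideal.IsIntegral.comap_lt_comap h0
  have h1 : Order.height pn ≤ Order.height pm := by
    rw [← hcomap]
    exact Order.height_le_height_apply_of_strictMono _ hmono pn
  have h2 : Order.height pm ≤ Order.height pn := by
    rw [Order.height_eq_iSup_last_eq]
    apply iSup₂_le
    intro l hl
    haveI : n.LiesOver l.last.asIdeal := ⟨by rw [hl]; exact hunder.symm⟩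
    obtain ⟨L, hlen, hlast, -⟩ := Ideal.exists_ltSeries_of_hasGoingDown l n
    rw [← hlen]
    exact Order.length_le_height (le_of_eq hlast)
  rw [IsLocalization.AtPrime.ringKrullDim_eq_height n (Localization.AtPrime n),
    ← IsLocalRing.maximalIdeal_height_eq_ringKrullDim]
  have e1 : n.height = Order.height pn := pn.height_eq_orderHeight
  have e2 : (IsLocalRing.maximalIdeal A).height = Order.height pm := pm.height_eq_orderHeight
  rw [e1, e2, le_antisymm h1 h2]


end Groth.Agent.S5764
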