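import Groth.Statements.S5769
import Mathlib.RingTheory.Ideal.KrullsHeightTheorem
import Mathlib.RingTheory.KrullDimension.NonZeroDivisors
-- import your own Groth.Agent.* helpers here

set_option autoImplicit false
universe u
open EGA41

namespace Groth.Agent.S5769

/-- Let φ : A → B be a local homomorphism of Noetherian local rings, m the maximal ideal of A and k its
residue field. Then dim(B) ≤ dim(A) + dim(B ⊗_A k), where B ⊗_A k = B/mB. -/
theorem result (A B : Type u) [CommRing A] [CommRing B]
    [IsLocalRing A] [IsLocalRing B] [IsNoetherianRing A] [IsNoetherianRing B] [Algebra A B]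
    [IsLocalHom (algebraMap A B)] :
    ringKrullDim B ≤ ringKrullDim A +
      ringKrullDim (B ⧸ (IsLocalRing.maximalIdeal A).map (algebraMap A B)) := by
  classical
  obtain ⟨s, hs_min, hs_card⟩ :=
    Ideal.exists_finset_card_eq_height_of_isNoetherianRing (IsLocalRing.maximalIdeal A)
  let t : Finset B := s.image (algebraMap A B)
  have hs_le : (s : Set A) ⊆ IsLocalRing.maximalIdeal A := fun a ha =>
    hs_min.1.2 (Ideal.subset_span ha)
  have ht_sub : (t : Set B) ⊆ Ring.jacobson B := by
    rw [IsLocalRing.ringJacobson_eq_maximalIdeal]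
    intro b hb
    obtain ⟨a, ha, rfl⟩ := Finset.mem_image.mp (Finset.mem_coe.mp hb)
    exact IsLocalRing.map_maximalIdeal_le (algebraMap A B)
      (Ideal.mem_map_of_mem _ (hs_le (Finset.mem_coe.mpr ha)))
  have h1 := ringKrullDim_le_ringKrullDim_quotient_add_card t ht_sub
  have hsub : PrimeSpectrum.zeroLocus (R := B) (Ideal.span (t : Set B)) ⊆
      PrimeSpectrum.zeroLocus (R := B) ((IsLocalRing.maximalIdeal A).map (algebraMap A B)) := by
    intro q hq
    rw [PrimeSpectrum.mem_zeroLocus, SetLike.coe_subset_coe] at hq ⊢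
    rw [Ideal.map_le_iff_le_comap]
    have hprime : (q.asIdeal.comap (algebraMap A B)).IsPrime := inferInstance
    refine hs_min.2 ⟨hprime, ?_⟩ (IsLocalRing.le_maximalIdeal hprime.ne_top)
    rw [Ideal.span_le]
    intro a ha
    exact hq (Ideal.subset_span (Finset.mem_coe.mpr (Finset.mem_image_of_mem _ ha)))
  have h2 : ringKrullDim (B ⧸ Ideal.span (t : Set B)) ≤
      ringKrullDim (B ⧸ (IsLocalRing.maximalIdeal A).map (algebraMap A B)) := by
    rw [ringKrullDim_quotient, ringKrullDim_quotient]
    exact Order.krullDim_le_of_strictMono (Set.inclusion hsub)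
      (fun a b hab => hab)
  have h3 : ((t.card : ℕ) : WithBot ℕ∞) ≤ ringKrullDim A := by
    rw [← IsLocalRing.maximalIdeal_height_eq_ringKrullDim, ← hs_card]
    exact_mod_cast Finset.card_image_le
  calc ringKrullDim B ≤ ringKrullDim (B ⧸ Ideal.span (t : Set B)) + t.card := h1
    _ ≤ ringKrullDim (B ⧸ (IsLocalRing.maximalIdeal A).map (algebraMap A B)) + ringKrullDim A :=
        add_le_add h2 h3
    _ = _ := add_comm _ _

end Groth.Agent.S5769
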