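import Groth.Statements.S5770
import Mathlib
import Groth.Agent.Lib.Helper26.FlatDim1

set_option autoImplicit false
universe u
open EGA41

namespace Groth.Agent.S5770


open Groth.Agent.Lib.helper26.FlatDim Groth.Agent.Lib.Helper24.FlatDepth IsLocalRing TensorProduct


open TensorProduct in
/-- Let φ : A → B be a local homomorphism of Noetherian local rings, m the maximal ideal of A, k = A/m,
M a finitely generated A-module and N a finitely generated B-module. Then dim_B(M ⊗_A N) ≤ dim_A(M)
+ dim(N ⊗_A k), the last dimension being that of N/mN (over B ⊗_A k or, equivalently by finiteness,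
over B). -/
theorem result (A B : Type u) [CommRing A] [CommRing B] [IsLocalRing A]
    [IsLocalRing B] [IsNoetherianRing A] [IsNoetherianRing B] [Algebra A B] [IsLocalHom (algebraMap A B)]
    (M : Type u) [AddCommGroup M] [Module A M] [Module.Finite A M] (N : Type u) [AddCommGroup N] [Module B N]
    [Module A N] [IsScalarTower A B N] [Module.Finite B N] :
    Module.supportDim B (N ⊗[A] M) ≤ Module.supportDim A M +
      Module.supportDim B (N ⧸ ((IsLocalRing.maximalIdeal A).map (algebraMap A B) • (⊤ : Submodule B N))) := by
  by_cases hM : Nontrivial M
  · have h := supportDim_tensor_le A B N M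
    rw [Module.supportDim_eq_of_equiv (tensorQuotEquiv A B N (maximalIdeal A))] at h
    exact h
  · rw [not_nontrivial_iff_subsingleton] at hM
    have : Subsingleton (N ⊗[A] M) := inferInstance
    rw [Module.supportDim_eq_bot_of_subsingleton]
    exact bot_le


end Groth.Agent.S5770
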