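import Groth.Statements.S5771
import Groth.Agent.S5769

set_option autoImplicit false
universe u
open EGA41

namespace Groth.Agent.S5771

/-- Let φ : A → B be a local homomorphism of Noetherian local rings, m the maximal ideal of A, and
suppose mB is an ideal of definition of B (equivalently dim(B/mB) = 0). Then dim(B) ≤ dim(A); if
moreover A is an integral domain and dim(A) = dim(B), then φ is injective. -/
theorem dim_le_ringHom (A B : Type u) [CommRing A] [CommRing B]
    [IsLocalRing A] [IsLocalRing B] [IsNoetherianRing A] [IsNoetherianRing B] (φ : A →+* B)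
    [IsLocalHom φ] :
    ringKrullDim B ≤ ringKrullDim A + ringKrullDim (B ⧸ (IsLocalRing.maximalIdeal A).map φ) := by
  let _ := φ.toAlgebra
  have : IsLocalHom (algebraMap A B) := ‹IsLocalHom φ›
  exact Groth.Agent.S5769.result A B

theorem result (A B : Type u) [CommRing A] [CommRing B]
    [IsLocalRing A] [IsLocalRing B] [IsNoetherianRing A] [IsNoetherianRing B] [Algebra A B]
    [IsLocalHom (algebraMap A B)]
    (hdef : ringKrullDim (B ⧸ (IsLocalRing.maximalIdeal A).map (algebraMap A B)) = 0) :
    ringKrullDim B ≤ ringKrullDim A ∧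
      (IsDomain A → ringKrullDim A = ringKrullDim B → Function.Injective (algebraMap A B)) := by
  have h1 : ringKrullDim B ≤ ringKrullDim A := by
    have := Groth.Agent.S5769.result A B
    rwa [hdef, add_zero] at this
  refine ⟨h1, fun hdom heq => ?_⟩
  rw [injective_iff_map_eq_zero]
  intro r hr
  by_contra hr0
  -- quotient by the kernel
  let K : Ideal A := RingHom.ker (algebraMap A B)
  have hK : K ≠ ⊤ := RingHom.ker_ne_top _
  have : Nontrivial (A ⧸ K) := Ideal.Quotient.nontrivial_iff.mpr hK
  have : IsLocalRing (A ⧸ K) :=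
    IsLocalRing.of_surjective' (Ideal.Quotient.mk K) Ideal.Quotient.mk_surjective
  let φ' : A ⧸ K →+* B := Ideal.Quotient.lift K (algebraMap A B) (fun a ha => ha)
  have hφ' : ∀ a, φ' (Ideal.Quotient.mk K a) = algebraMap A B a := fun a => by simp [φ']
  have : IsLocalHom φ' := by
    constructor
    intro x hx
    obtain ⟨a, rfl⟩ := Ideal.Quotient.mk_surjective x
    rw [hφ'] at hx
    exact (isUnit_of_map_unit (algebraMap A B) a hx).map (Ideal.Quotient.mk K)
  have h2 := dim_le_ringHom (A ⧸ K) B φ'
  have hle : (IsLocalRing.maximalIdeal A).map (algebraMap A B) ≤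
      (IsLocalRing.maximalIdeal (A ⧸ K)).map φ' := by
    rw [Ideal.map_le_iff_le_comap]
    intro a ha
    rw [Ideal.mem_comap, ← hφ']
    apply Ideal.mem_map_of_mem
    rw [IsLocalRing.mem_maximalIdeal, mem_nonunits_iff] at ha ⊢
    intro hu
    apply ha
    have hu' : IsUnit (algebraMap A B a) := by
      rw [← hφ']; exact hu.map φ'
    exact isUnit_of_map_unit (algebraMap A B) a hu'
  -- dim (B / m_{A/K} B) ≤ dim (B / m_A B) = 0
  have h3 : ringKrullDim (B ⧸ (IsLocalRing.maximalIdeal (A ⧸ K)).map φ') ≤ 0 := by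
    rw [← hdef]
    exact ringKrullDim_le_of_surjective (Ideal.Quotient.factor hle)
      (Ideal.Quotient.factor_surjective hle)
  -- dim (A/K) ≤ dim (A/(r))
  have hrK : Ideal.span {r} ≤ K := by
    rw [Ideal.span_le]
    intro x hx
    rw [Set.mem_singleton_iff] at hx
    subst hx
    exact hr
  have h4 : ringKrullDim (A ⧸ K) ≤ ringKrullDim (A ⧸ Ideal.span {r}) :=
    ringKrullDim_le_of_surjective (Ideal.Quotient.factor hrK)
      (Ideal.Quotient.factor_surjective hrK)
  have h5 : ringKrullDim (A ⧸ Ideal.span {r}) + 1 ≤ ringKrullDim A :=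
    ringKrullDim_quotient_succ_le_of_nonZeroDivisor (mem_nonZeroDivisors_of_ne_zero hr0)
  have h6 : ringKrullDim B ≤ ringKrullDim (A ⧸ K) := by
    calc ringKrullDim B ≤ ringKrullDim (A ⧸ K) +
          ringKrullDim (B ⧸ (IsLocalRing.maximalIdeal (A ⧸ K)).map φ') := h2
      _ ≤ ringKrullDim (A ⧸ K) + 0 := by gcongr
      _ = ringKrullDim (A ⧸ K) := add_zero _
  have h7 : ringKrullDim B + 1 ≤ ringKrullDim B := by
    calc ringKrullDim B + 1 ≤ ringKrullDim (A ⧸ Ideal.span {r}) + 1 := by gcongr; exact h6.trans h4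
      _ ≤ ringKrullDim A := h5
      _ = ringKrullDim B := heq
  -- finite dimension contradiction
  have hfin : ringKrullDim B ≠ ⊤ := ringKrullDim_ne_top
  have hbot : ringKrullDim B ≠ ⊥ := ringKrullDim_ne_bot
  obtain ⟨n, hn⟩ : ∃ n : ℕ, ringKrullDim B = n := by
    have := ringKrullDim_nonneg_of_nontrivial (R := B)
    lift ringKrullDim B to ℕ∞ using hbot with d hd
    lift d to ℕ using (by rintro rfl; exact hfin rfl) with n
    exact ⟨n, rfl⟩
  rw [hn] at h7
  have : ((n + 1 : ℕ) : WithBot ℕ∞) ≤ (n : ℕ) := by exact_mod_cast h7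
  have := (WithBot.coe_le_coe.mp this)
  have := (ENat.natCast_le_natCast.mp this)  
  omega

end Groth.Agent.S5771
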