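import Groth.Statements.S5772
import Mathlib.RingTheory.Filtration
-- import your own Groth.Agent.* helpers here

set_option autoImplicit false
universe u
open scoped Pointwise
open EGA41

namespace Groth.Agent.S5772

/-- Let A be a Noetherian ring, M a finitely generated A-module and f an element of A. Then f is
M-regular (multiplication by f on M is injective) if and only if f is M-quasi-regular, i.e. the
canonical surjection (M/fM)[T] → gr(M) for the (f)-adic filtration is bijective, which amounts to:
for every k ≥ 0 and x ∈ M, f^k x ∈ f^(k+1) M implies x ∈ fM. -/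
theorem result (A : Type u) [CommRing A] [IsNoetherianRing A] (M : Type u)
    [AddCommGroup M] [Module A M] [Module.Finite A M] (f : A) :
    IsSMulRegular M f ↔
      ∀ (k : ℕ) (x : M), f ^ k • x ∈ f ^ (k + 1) • (⊤ : Submodule A M) → x ∈ f • (⊤ : Submodule A M) := by
  have hmem : ∀ (a : A) (y : M), y ∈ a • (⊤ : Submodule A M) ↔ ∃ z : M, y = a • z := by
    intro a y
    rw [Submodule.mem_smul_pointwise_iff_exists]
    constructor
    · rintro ⟨z, -, hz⟩
      exact ⟨z, hz.symm⟩
    · rintro ⟨z, hz⟩
      exact ⟨z, Submodule.mem_top, hz.symm⟩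
  constructor
  · intro hreg k x hx
    obtain ⟨y, hy⟩ := (hmem _ _).mp hx
    rw [hmem]
    refine ⟨y, ?_⟩
    apply (hreg.pow k)
    change f ^ k • x = f ^ k • (f • y)
    rw [hy, pow_succ, mul_smul]
  · intro h
    rw [isSMulRegular_iff_right_eq_zero_of_smul]
    intro x hx
    -- x ∈ f^n M for all n
    have key : ∀ n : ℕ, ∃ y : M, x = f ^ n • y ∧ f ^ (n + 1) • y = 0 := by
      intro n
      induction n with
      | zero => exact ⟨x, by simp, by simpa using hx⟩
      | succ n ih =>
        obtain ⟨y, hy1, hy2⟩ := ih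
        have : y ∈ f • (⊤ : Submodule A M) := by
          apply h (n + 1) y
          rw [hy2]
          exact Submodule.zero_mem _
        obtain ⟨z, hz⟩ := (hmem _ _).mp this
        refine ⟨z, ?_, ?_⟩
        · rw [hy1, hz, pow_succ, mul_smul]
        · rw [pow_succ, mul_smul, ← hz, hy2]
    have hx' : x ∈ (⨅ i : ℕ, (Ideal.span {f}) ^ i • ⊤ : Submodule A M) := by
      rw [Submodule.mem_iInf]
      intro n
      obtain ⟨y, hy1, -⟩ := key n
      rw [hy1]
      exact Submodule.smul_mem_smul (Ideal.pow_mem_pow (Ideal.mem_span_singleton_self f) n)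
        Submodule.mem_top
    obtain ⟨⟨r, hr⟩, hrx⟩ := ((Ideal.span {f}).mem_iInf_smul_pow_eq_bot_iff x).mp hx'
    obtain ⟨a, rfl⟩ := Ideal.mem_span_singleton'.mp hr
    change (a * f) • x = x at hrx
    rw [← hrx, mul_smul, hx, smul_zero]

end Groth.Agent.S5772
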