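import Groth.Statements.S5773
import Mathlib
import Groth.Agent.S2361

set_option autoImplicit false
universe u
open EGA41

namespace Groth.Agent.S5773

open Function RingTheory.Sequence Submodule
theorem quotBot_flat_iff {A B : Type u} [CommRing A] [CommRing B] [Algebra A B]
    (M : Type u) [AddCommGroup M] [Module B M] [Module A M] [IsScalarTower A B M] :
    Module.Flat A (M ⧸ (Ideal.ofList ([] : List B) • (⊤ : Submodule B M))) ↔ Module.Flat A M := by
  have h0 : (Ideal.ofList ([] : List B) • (⊤ : Submodule B M)) = ⊥ := by
    rw [Ideal.ofList_nil, Submodule.bot_smul]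
  exact Module.Flat.equiv_iff ((Submodule.quotEquivOfEqBot _ h0).restrictScalars A)

theorem aux (A B : Type u) [CommRing A] [CommRing B]
    [IsNoetherianRing A] [IsNoetherianRing B] [IsLocalRing B] [Algebra A B] (fs : List B) :
    ∀ (M : Type u) [AddCommGroup M] [Module B M] [Module A M]
      [IsScalarTower A B M] [Module.Finite B M], (∀ f ∈ fs, f ∈ IsLocalRing.maximalIdeal B) →
      IsWeaklyRegular M fs →
      Module.Flat A (M ⧸ (Ideal.ofList fs • (⊤ : Submodule B M))) → ∀ i ≤ fs.length,
      Module.Flat A (M ⧸ (Ideal.ofList (fs.take i) • (⊤ : Submodule B M))) := by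
  induction fs with
  | nil =>
    intro M _ _ _ _ _ _ _ hflat i hi
    rw [List.take_nil]
    exact hflat
  | cons r rs ih =>
    intro M _ _ _ _ _ hfs hreg hflat i hi
    rw [isWeaklyRegular_cons_iff] at hreg
    obtain ⟨hr, hrs⟩ := hreg
    have hflat' : Module.Flat A (QuotSMulTop r M ⧸
        (Ideal.ofList rs • (⊤ : Submodule B (QuotSMulTop r M)))) :=
      Module.Flat.of_linearEquiv
        ((quotOfListConsSMulTopEquivQuotSMulTopInner M r rs).restrictScalars A).symm
    have key := ih (QuotSMulTop r M) (fun f hf => hfs f (List.mem_cons_of_mem _ hf)) hrs hflat'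
    cases i with
    | zero =>
      have h0 := key 0 (Nat.zero_le _)
      rw [List.take_zero] at h0 ⊢
      rw [quotBot_flat_iff] at h0 ⊢
      refine Groth.Agent.S2361.result r (hfs r List.mem_cons_self) M hr ?_
      rw [Submodule.ideal_span_singleton_smul]
      exact h0
    | succ j =>
      have hj := key j (Nat.le_of_succ_le_succ hi)
      rw [List.take_succ_cons]
      exact Module.Flat.of_linearEquiv
        ((quotOfListConsSMulTopEquivQuotSMulTopInner M r (rs.take j)).restrictScalars A)



/-- Let A → B be a local homomorphism of Noetherian local rings, M a finitely generated B-module and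
f_1, ..., f_n elements of the maximal ideal of B forming an M-regular sequence. If the quotient
M/(f_1 M + ... + f_n M) is flat over A, then all the quotients M/(f_1 M + ... + f_i M) for 0 ≤ i ≤ n
(in particular M) are flat over A. -/
theorem result (A B : Type u) [CommRing A] [CommRing B]
    [IsLocalRing A] [IsLocalRing B] [IsNoetherianRing A] [IsNoetherianRing B] [Algebra A B]
    [IsLocalHom (algebraMap A B)] (M : Type u) [AddCommGroup M] [Module B M] [Module A M]
    [IsScalarTower A B M] [Module.Finite B M] (fs : List B) (hfs : ∀ f ∈ fs, f ∈ IsLocalRing.maximalIdeal B)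
    (hreg : RingTheory.Sequence.IsWeaklyRegular M fs)
    (hflat : Module.Flat A (M ⧸ (Ideal.ofList fs • (⊤ : Submodule B M)))) (i : ℕ) (hi : i ≤ fs.length) :
    Module.Flat A (M ⧸ (Ideal.ofList (fs.take i) • (⊤ : Submodule B M))) := by
  exact aux A B fs M hfs hreg hflat i hi

end Groth.Agent.S5773
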