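import Groth.Statements.S5774
import Mathlib
import Groth.Agent.S0393

set_option autoImplicit false
universe u
open EGA41

namespace Groth.Agent.S5774

open TensorProduct Function RingTheory.Sequence Submodule
open scoped Pointwise
theorem quotBot_flat_iff {A B : Type u} [CommRing A] [CommRing B] [Algebra A B]
    (M : Type u) [AddCommGroup M] [Module B M] [Module A M] [IsScalarTower A B M] :
    Module.Flat A (M ⧸ (Ideal.ofList ([] : List B) • (⊤ : Submodule B M))) ↔ Module.Flat A M := by
  have h0 : (Ideal.ofList ([] : List B) • (⊤ : Submodule B M)) = ⊥ := by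
    rw [Ideal.ofList_nil, Submodule.bot_smul]
  exact Module.Flat.equiv_iff ((Submodule.quotEquivOfEqBot _ h0).restrictScalars A)

section
variable {A B : Type u} [CommRing A] [CommRing B] [Algebra A B]
  (M : Type u) [AddCommGroup M] [Module B M] [Module A M] [IsScalarTower A B M]

/-- membership in `𝔞B • ⊤` vs `𝔞 • ⊤` -/
theorem mem_map_smul_top_iff (𝔞 : Ideal A) (m : M) :
    m ∈ (𝔞.map (algebraMap A B) • (⊤ : Submodule B M)) ↔ m ∈ (𝔞 • (⊤ : Submodule A M)) := by
  rw [← Submodule.restrictScalars_mem A, Ideal.smul_restrictScalars, Submodule.restrictScalars_top]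

/-- swap of quotients -/
noncomputable def swapEquiv (S T : Submodule B M) :
    ((M ⧸ S) ⧸ T.map S.mkQ) ≃ₗ[B] ((M ⧸ T) ⧸ S.map T.mkQ) :=
  quotientQuotientEquivQuotientSup S T ≪≫ₗ quotEquivOfEq (S ⊔ T) (T ⊔ S) (sup_comm _ _) ≪≫ₗ
    (quotientQuotientEquivQuotientSup T S).symm

noncomputable def swapEquiv' (r : B) (𝔟 : Ideal B) :
    QuotSMulTop r (M ⧸ (𝔟 • (⊤ : Submodule B M))) ≃ₗ[B]
      (QuotSMulTop r M) ⧸ (𝔟 • (⊤ : Submodule B (QuotSMulTop r M))) :=
  quotEquivOfEq _ _ (by rw [map_pointwise_smul, Submodule.map_top, range_mkQ]) ≪≫ₗ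
    swapEquiv M (𝔟 • (⊤ : Submodule B M)) (r • (⊤ : Submodule B M)) ≪≫ₗ
    quotEquivOfEq _ _ (by rw [map_smul'', Submodule.map_top, range_mkQ])

end


theorem step {A B : Type u} [CommRing A] [CommRing B] [IsLocalRing A] [IsLocalRing B]
    [IsNoetherianRing B] [Algebra A B] [IsLocalHom (algebraMap A B)]
    (M : Type u) [AddCommGroup M] [Module B M] [Module A M] [IsScalarTower A B M]
    [Module.Finite B M] [Module.Flat A M] (r : B)
    (hr : IsSMulRegular (M ⧸ ((IsLocalRing.maximalIdeal A).map (algebraMap A B) •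
      (⊤ : Submodule B M))) r) :
    IsSMulRegular M r ∧ Module.Flat A (QuotSMulTop r M) := by
  have hinj : Injective (((LinearMap.lsmul B M r).restrictScalars A).lTensor
      (IsLocalRing.ResidueField A)) := by
    rw [injective_iff_map_eq_zero]
    intro x hx
    obtain ⟨m, rfl⟩ := TensorProduct.mk_surjective A M (IsLocalRing.ResidueField A)
      Ideal.Quotient.mk_surjective x
    rw [TensorProduct.mk_apply, LinearMap.lTensor_tmul] at hx
    have h1 : r • m ∈ (IsLocalRing.maximalIdeal A • ⊤ : Submodule A M) := by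
      rw [← LinearMap.ker_tensorProductMk, LinearMap.mem_ker]
      exact hx
    rw [← mem_map_smul_top_iff (B := B), ← Submodule.Quotient.mk_eq_zero, Submodule.Quotient.mk_smul] at h1
    have h2 : (Submodule.Quotient.mk m : M ⧸ ((IsLocalRing.maximalIdeal A).map (algebraMap A B) •
      (⊤ : Submodule B M))) = 0 := hr (by show r • _ = r • 0; rw [h1, smul_zero])
    rw [Submodule.Quotient.mk_eq_zero, mem_map_smul_top_iff, ← LinearMap.ker_tensorProductMk,
      LinearMap.mem_ker] at h2
    exact h2
  obtain ⟨h3, h4⟩ := Groth.Agent.S0393.result (S := B) _ hinj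
  refine ⟨h3, ?_⟩
  have heq : LinearMap.range ((LinearMap.lsmul B M r).restrictScalars A) =
      (r • (⊤ : Submodule B M)).restrictScalars A := by
    ext m
    simp only [LinearMap.mem_range, LinearMap.coe_restrictScalars, LinearMap.lsmul_apply,
      Submodule.restrictScalars_mem, Submodule.mem_smul_pointwise_iff_exists, Submodule.mem_top,
      true_and]
  exact Module.Flat.of_linearEquiv
    ((Submodule.Quotient.restrictScalarsEquiv A (r • (⊤ : Submodule B M))).symm ≪≫ₗ
      (Submodule.quotEquivOfEq _ _ heq).symm)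


theorem aux (A B : Type u) [CommRing A] [CommRing B] [IsLocalRing A] [IsLocalRing B]
    [IsNoetherianRing B] [Algebra A B] [IsLocalHom (algebraMap A B)] (fs : List B) :
    ∀ (M : Type u) [AddCommGroup M] [Module B M] [Module A M]
      [IsScalarTower A B M] [Module.Finite B M] [Module.Flat A M],
      IsWeaklyRegular (M ⧸ ((IsLocalRing.maximalIdeal A).map (algebraMap A B) •
        (⊤ : Submodule B M))) fs →
      IsWeaklyRegular M fs ∧ ∀ i ≤ fs.length,
        Module.Flat A (M ⧸ (Ideal.ofList (fs.take i) • (⊤ : Submodule B M))) := by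
  induction fs with
  | nil =>
    intro M _ _ _ _ _ hM _
    refine ⟨IsWeaklyRegular.nil B M, fun i hi => ?_⟩
    rw [List.take_nil, quotBot_flat_iff]
    exact hM
  | cons r rs ih =>
    intro M _ _ _ _ _ hM hreg
    rw [isWeaklyRegular_cons_iff] at hreg
    obtain ⟨hr, hrs⟩ := hreg
    obtain ⟨hrM, hflat'⟩ := step M r hr
    have hrs' : IsWeaklyRegular ((QuotSMulTop r M) ⧸
        ((IsLocalRing.maximalIdeal A).map (algebraMap A B) •
          (⊤ : Submodule B (QuotSMulTop r M)))) rs :=
      ((swapEquiv' M r _).isWeaklyRegular_congr rs).mp hrs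
    obtain ⟨h1, h2⟩ := ih (QuotSMulTop r M) hrs'
    refine ⟨(isWeaklyRegular_cons_iff M r rs).mpr ⟨hrM, h1⟩, fun i hi => ?_⟩
    cases i with
    | zero =>
      rw [List.take_zero, quotBot_flat_iff]
      exact hM
    | succ j =>
      have hj := h2 j (Nat.le_of_succ_le_succ hi)
      rw [List.take_succ_cons]
      exact Module.Flat.of_linearEquiv
        ((quotOfListConsSMulTopEquivQuotSMulTopInner M r (rs.take j)).restrictScalars A)



/-- Let A → B be a local homomorphism of Noetherian local rings, m the maximal ideal of A and k = A/m, M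
a finitely generated B-module which is flat over A, and f_1, ..., f_n elements of B whose images g_i
in B ⊗_A k form an (M ⊗_A k)-regular sequence. Then (f_i) is an M-regular sequence and the quotients
M/(f_1 M + ... + f_i M), 0 ≤ i ≤ n, are flat over A. (The f_i are not required to lie in the maximal
ideal of B.) -/
theorem result (A B : Type u) [CommRing A] [CommRing B]
    [IsLocalRing A] [IsLocalRing B] [IsNoetherianRing A] [IsNoetherianRing B] [Algebra A B]
    [IsLocalHom (algebraMap A B)] (M : Type u) [AddCommGroup M] [Module B M] [Module A M]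
    [IsScalarTower A B M] [Module.Finite B M] [Module.Flat A M] (fs : List B)
    (hreg : RingTheory.Sequence.IsWeaklyRegular
      (M ⧸ ((IsLocalRing.maximalIdeal A).map (algebraMap A B) • (⊤ : Submodule B M))) fs) :
    RingTheory.Sequence.IsWeaklyRegular M fs ∧
      ∀ i ≤ fs.length, Module.Flat A (M ⧸ (Ideal.ofList (fs.take i) • (⊤ : Submodule B M))) := by
  exact aux A B fs M hreg

end Groth.Agent.S5774
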