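import Groth.Statements.S5775
import Mathlib
import Groth.Agent.S5774

set_option autoImplicit false
universe u
open EGA41

namespace Groth.Agent.S5775

open TensorProduct Function RingTheory.Sequence Submodule
open scoped Pointwise


/-- Let A → B be a local homomorphism of Noetherian local rings, m the maximal ideal of A, M a finitely
generated B-module flat over A and R a B-submodule of M such that M/R is flat over A. Let f_1, ...,
f_n be elements of the maximal ideal of B such that (i) f_i M ⊆ R for all i, (ii) the images of the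
f_i form an (M/mM)-regular sequence, and (iii) the submodule f_1 (M/mM) + ... + f_n (M/mM) is the
image of R in M/mM. Then (f_i) is an M-regular sequence and R = f_1 M + ... + f_n M. -/
theorem result (A B : Type u) [CommRing A] [CommRing B] [IsLocalRing A]
    [IsLocalRing B] [IsNoetherianRing A] [IsNoetherianRing B] [Algebra A B] [IsLocalHom (algebraMap A B)]
    (M : Type u) [AddCommGroup M] [Module B M] [Module A M] [IsScalarTower A B M] [Module.Finite B M]
    [Module.Flat A M] (R : Submodule B M) (hR : Module.Flat A (M ⧸ R)) (fs : List B)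
    (hfs : ∀ f ∈ fs, f ∈ IsLocalRing.maximalIdeal B) (h1 : Ideal.ofList fs • (⊤ : Submodule B M) ≤ R)
    (h2 : RingTheory.Sequence.IsWeaklyRegular
      (M ⧸ ((IsLocalRing.maximalIdeal A).map (algebraMap A B) • (⊤ : Submodule B M))) fs)
    (h3 : Ideal.ofList fs • (⊤ : Submodule B
        (M ⧸ ((IsLocalRing.maximalIdeal A).map (algebraMap A B) • (⊤ : Submodule B M)))) =
      R.map ((IsLocalRing.maximalIdeal A).map (algebraMap A B) • (⊤ : Submodule B M)).mkQ) :
    RingTheory.Sequence.IsWeaklyRegular M fs ∧ R = Ideal.ofList fs • (⊤ : Submodule B M) := by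
  obtain ⟨hreg, hfl⟩ := Groth.Agent.S5774.result A B M fs h2
  refine ⟨hreg, ?_⟩
  -- R' := (fs) M, K := image of R in M / R'
  set R' : Submodule B M := Ideal.ofList fs • (⊤ : Submodule B M) with hR'
  set 𝔪B : Ideal B := (IsLocalRing.maximalIdeal A).map (algebraMap A B) with h𝔪B
  -- every element of R lies in R' + 𝔪B M
  have hsup : R ≤ R' ⊔ 𝔪B • ⊤ := by
    intro x hx
    have hx' : (𝔪B • (⊤ : Submodule B M)).mkQ x ∈ R.map (𝔪B • (⊤ : Submodule B M)).mkQ :=
      Submodule.mem_map_of_mem hx
    rw [← h3] at hx'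
    have h4 : Ideal.ofList fs • (⊤ : Submodule B (M ⧸ 𝔪B • (⊤ : Submodule B M))) =
        R'.map (𝔪B • (⊤ : Submodule B M)).mkQ := by
      rw [hR', map_smul'', Submodule.map_top, range_mkQ]
    rw [h4] at hx'
    obtain ⟨y, hy, hxy⟩ := hx'
    have h5 : x - y ∈ 𝔪B • (⊤ : Submodule B M) := by
      rw [← Submodule.ker_mkQ (𝔪B • (⊤ : Submodule B M)), LinearMap.mem_ker, map_sub, hxy, sub_self]
    have : x = y + (x - y) := by abel
    rw [this]
    exact Submodule.add_mem_sup hy h5
  -- Nakayama on K = image of R in M / R'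
  have hK : R.map R'.mkQ = ⊥ := by
    have h𝔪jac : 𝔪B ≤ Ideal.jacobson ⊥ := by
      rw [IsLocalRing.jacobson_eq_maximalIdeal ⊥ bot_ne_top]
      exact IsLocalRing.map_maximalIdeal_le (algebraMap A B)
    refine Submodule.eq_bot_of_le_smul_of_le_jacobson_bot 𝔪B _ (IsNoetherian.noetherian _) ?_ h𝔪jac
    -- the exact sequence of A-modules
    have hex : Function.Exact ((R.map R'.mkQ).subtype.restrictScalars A)
        ((Submodule.mapQ R' R LinearMap.id h1).restrictScalars A) := by
      intro q
      obtain ⟨x, rfl⟩ := R'.mkQ_surjective q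
      simp only [LinearMap.coe_restrictScalars, Submodule.mkQ_apply, Submodule.mapQ_apply,
        LinearMap.id_coe, id_eq, Submodule.Quotient.mk_eq_zero, Set.mem_range,
        Submodule.coe_subtype, Subtype.exists, exists_prop, exists_eq_right]
      constructor
      · intro hx
        exact ⟨x, hx, rfl⟩
      · rintro ⟨x', hx', hxx'⟩
        have h6 : x' - x ∈ R' := by
          rw [← Submodule.Quotient.mk_eq_zero, Submodule.Quotient.mk_sub]
          exact sub_eq_zero.mpr hxx'
        have : x = x' - (x' - x) := by abel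
        rw [this]
        exact R.sub_mem hx' (h1 h6)
    have hsurj : Surjective ((Submodule.mapQ R' R LinearMap.id h1).restrictScalars A) := by
      intro q
      obtain ⟨x, rfl⟩ := R.mkQ_surjective q
      exact ⟨R'.mkQ x, rfl⟩
    have hinj := LinearMap.lTensor_injective_of_exact_of_flat
      ((Submodule.mapQ R' R LinearMap.id h1).restrictScalars A) hsurj
      ((R.map R'.mkQ).subtype.restrictScalars A) Subtype.val_injective hex
      (IsLocalRing.ResidueField A)
    intro y hy
    obtain ⟨x, hx, rfl⟩ := hy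
    -- y = mkQ x ∈ 𝔪B • ⊤
    have hy1 : R'.mkQ x ∈ 𝔪B • (⊤ : Submodule B (M ⧸ R')) := by
      obtain ⟨r', hr', z, hz, rfl⟩ := Submodule.mem_sup.mp (hsup hx)
      rw [map_add, (Submodule.mkQ_apply R' r').trans ((Submodule.Quotient.mk_eq_zero R').mpr hr'), zero_add]
      have : 𝔪B • (⊤ : Submodule B (M ⧸ R')) = (𝔪B • (⊤ : Submodule B M)).map R'.mkQ := by
        rw [map_smul'', Submodule.map_top, range_mkQ]
      rw [this]
      exact Submodule.mem_map_of_mem hz
    have hy2 : (1 : IsLocalRing.ResidueField A) ⊗ₜ[A]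
        (⟨R'.mkQ x, Submodule.mem_map_of_mem hx⟩ : ↥(R.map R'.mkQ)) = 0 := by
      apply hinj
      rw [map_zero, LinearMap.lTensor_tmul]
      show TensorProduct.mk A (IsLocalRing.ResidueField A) (M ⧸ R') 1 (R'.mkQ x) = 0
      have hker : LinearMap.ker (TensorProduct.mk A (IsLocalRing.ResidueField A) (M ⧸ R') 1) =
          IsLocalRing.maximalIdeal A • ⊤ := LinearMap.ker_tensorProductMk _
      rw [← LinearMap.mem_ker, hker, ← Groth.Agent.S5774.mem_map_smul_top_iff (B := B)]
      exact hy1
    have hy3 : (⟨R'.mkQ x, Submodule.mem_map_of_mem hx⟩ : ↥(R.map R'.mkQ)) ∈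
        𝔪B • (⊤ : Submodule B ↥(R.map R'.mkQ)) := by
      have hker : LinearMap.ker (TensorProduct.mk A (IsLocalRing.ResidueField A)
          ↥(R.map R'.mkQ) 1) = IsLocalRing.maximalIdeal A • ⊤ := LinearMap.ker_tensorProductMk _
      rw [Groth.Agent.S5774.mem_map_smul_top_iff, ← hker, LinearMap.mem_ker]
      exact hy2
    have hy4 := Submodule.mem_map_of_mem (f := (R.map R'.mkQ).subtype) hy3
    rw [map_smul'', Submodule.map_top, Submodule.range_subtype] at hy4
    exact hy4
  apply le_antisymm _ h1
  intro x hx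
  have : R'.mkQ x ∈ R.map R'.mkQ := Submodule.mem_map_of_mem hx
  rw [hK, Submodule.mem_bot, Submodule.mkQ_apply, Submodule.Quotient.mk_eq_zero] at this
  exact this

end Groth.Agent.S5775
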