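import Groth.Statements.S5776
-- import your own Groth.Agent.* helpers here

set_option autoImplicit false
universe u
open EGA41

namespace Groth.Agent.S5776

open RingTheory.Sequence in
/-- Given a short exact sequence `0 → M' → M → M'' → 0`, a sequence weakly regular on `M'` and
`M''` is weakly regular on `M`. -/
theorem isWeaklyRegular_of_ses {A : Type u} [CommRing A] (rs : List A) :
    ∀ {M' M M'' : Type u} [AddCommGroup M'] [Module A M'] [AddCommGroup M] [Module A M]
      [AddCommGroup M''] [Module A M''] (f : M' →ₗ[A] M) (g : M →ₗ[A] M'')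
      (_ : Function.Injective f) (_ : Function.Exact f g) (_ : Function.Surjective g)
      (_ : IsWeaklyRegular M' rs) (_ : IsWeaklyRegular M'' rs), IsWeaklyRegular M rs := by
  induction rs with
  | nil => intros; exact IsWeaklyRegular.nil _ _
  | cons r rs ih =>
    intro M' M M'' _ _ _ _ _ _ f g hf hfg hg h1 h2
    rw [isWeaklyRegular_cons_iff] at h1 h2 ⊢
    refine ⟨isSMulRegular_of_range_eq_ker hf hfg.linearMap_ker_eq.symm h1.1 h2.1, ?_⟩
    refine ih (QuotSMulTop.map r f) (QuotSMulTop.map r g) ?_ (QuotSMulTop.map_exact r hfg hg)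
      (QuotSMulTop.map_surjective r hg) h1.2 h2.2
    -- injectivity of `map r f`
    have hex : Function.Exact (0 : M' →ₗ[A] M') f := by
      intro y
      constructor
      · intro hy
        exact ⟨0, by simpa using (hf (by simpa using hy)).symm⟩
      · rintro ⟨x, rfl⟩
        simp
    have := QuotSMulTop.map_first_exact_on_four_term_exact_of_isSMulRegular_last hex hfg h2.1
    rw [injective_iff_map_eq_zero]
    intro x hx
    obtain ⟨y, hy⟩ := (this x).mp hx
    rw [← hy]
    simp

open RingTheory.Sequence in
/-- If `(x, ys)` and `(x', ys)` are weakly regular on `M`, so is `(x * x', ys)`. -/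
theorem isWeaklyRegular_mul_cons {A : Type u} [CommRing A] {M : Type u} [AddCommGroup M]
    [Module A M] (x x' : A) (ys : List A) (h : IsWeaklyRegular M (x :: ys))
    (h' : IsWeaklyRegular M (x' :: ys)) : IsWeaklyRegular M ((x * x') :: ys) := by
  rw [isWeaklyRegular_cons_iff] at h h' ⊢
  refine ⟨h.1.mul h'.1, ?_⟩
  -- the maps
  let f : QuotSMulTop x' M →ₗ[A] QuotSMulTop (x * x') M :=
    Submodule.mapQ _ _ (LinearMap.lsmul A M x) (by
      intro m hm
      obtain ⟨m', -, rfl⟩ := hm
      rw [Submodule.mem_comap]
      change x • (x' • m') ∈ _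
      rw [smul_smul]
      exact Submodule.smul_mem_pointwise_smul _ _ _ Submodule.mem_top)
  let g : QuotSMulTop (x * x') M →ₗ[A] QuotSMulTop x M :=
    Submodule.mapQ _ _ LinearMap.id (by
      intro m hm
      obtain ⟨m', -, rfl⟩ := hm
      rw [Submodule.mem_comap]
      change (x * x') • m' ∈ _
      rw [mul_smul]
      exact Submodule.smul_mem_pointwise_smul _ _ _ Submodule.mem_top)
  have hf : Function.Injective f := by
    rw [injective_iff_map_eq_zero]
    intro m hm
    obtain ⟨m, rfl⟩ := Submodule.Quotient.mk_surjective _ m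
    change Submodule.Quotient.mk (x • m) = 0 at hm
    rw [Submodule.Quotient.mk_eq_zero] at hm ⊢
    obtain ⟨m', -, hm'⟩ := hm
    change (x * x') • m' = x • m at hm'
    rw [mul_smul] at hm'
    have := h.1 hm'
    rw [← this]
    exact Submodule.smul_mem_pointwise_smul _ _ _ Submodule.mem_top
  have hg : Function.Surjective g := by
    intro m
    obtain ⟨m, rfl⟩ := Submodule.Quotient.mk_surjective _ m
    exact ⟨Submodule.Quotient.mk m, rfl⟩
  have hfg : Function.Exact f g := by
    intro m
    obtain ⟨m, rfl⟩ := Submodule.Quotient.mk_surjective _ m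
    constructor
    · intro hm
      change Submodule.Quotient.mk m = 0 at hm
      rw [Submodule.Quotient.mk_eq_zero] at hm
      obtain ⟨m', -, rfl⟩ := hm
      exact ⟨Submodule.Quotient.mk m', rfl⟩
    · rintro ⟨m', hm'⟩
      obtain ⟨m', rfl⟩ := Submodule.Quotient.mk_surjective _ m'
      rw [← hm']
      change Submodule.Quotient.mk (x • m') = 0
      rw [Submodule.Quotient.mk_eq_zero]
      exact Submodule.smul_mem_pointwise_smul _ _ _ Submodule.mem_top
  exact isWeaklyRegular_of_ses ys f g hf hfg hg h'.2 h.2

open RingTheory.Sequence in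
theorem isWeaklyRegular_pow_cons {A : Type u} [CommRing A] {M : Type u} [AddCommGroup M]
    [Module A M] (x : A) (ys : List A) (h : IsWeaklyRegular M (x :: ys)) (v : ℕ) (hv : 1 ≤ v) :
    IsWeaklyRegular M ((x ^ v) :: ys) := by
  induction v, hv using Nat.le_induction with
  | base => simpa using h
  | succ n hn ih =>
    rw [pow_succ']
    exact isWeaklyRegular_mul_cons x (x ^ n) ys h ih

open RingTheory.Sequence in
theorem isWeaklyRegular_pow_list {A : Type u} [CommRing A] (l : List (A × ℕ))
    (hl : ∀ p ∈ l, 1 ≤ p.2) :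
    ∀ {M : Type u} [AddCommGroup M] [Module A M], IsWeaklyRegular M (l.map Prod.fst) →
      IsWeaklyRegular M (l.map fun p => p.1 ^ p.2) := by
  induction l with
  | nil => intros; simp
  | cons p l ih =>
    intro M _ _ h
    rw [List.map_cons] at h ⊢
    have h1 := isWeaklyRegular_pow_cons p.1 _ h p.2 (hl p (List.mem_cons_self))
    rw [isWeaklyRegular_cons_iff] at h1 ⊢
    exact ⟨h1.1, ih (fun q hq => hl q (List.mem_cons_of_mem _ hq)) h1.2⟩

/-- Let A be a ring, M an A-module and (f_i)_{1 ≤ i ≤ n} an M-regular sequence of elements of A. Then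
for any exponents v_i ≥ 1 the sequence (f_i ^ v_i) is again M-regular. -/
theorem result (A : Type u) [CommRing A] (M : Type u) [AddCommGroup M]
    [Module A M] (n : ℕ) (f : Fin n → A) (v : Fin n → ℕ) (hv : ∀ i, 1 ≤ v i)
    (hf : RingTheory.Sequence.IsWeaklyRegular M (List.ofFn f)) :
    RingTheory.Sequence.IsWeaklyRegular M (List.ofFn fun i => f i ^ v i) := by
  have h := isWeaklyRegular_pow_list (List.ofFn fun i => (f i, v i)) (by
    intro p hp
    rw [List.mem_ofFn] at hp
    obtain ⟨i, rfl⟩ := hp
    exact hv i) (M := M) (by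
    rw [List.map_ofFn]
    exact hf)
  rw [List.map_ofFn] at h
  exact h


end Groth.Agent.S5776
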