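import Groth.Statements.S5778
import Mathlib
import Groth.Agent.S8163
import Groth.Agent.Lib.Helper26.HS8

set_option autoImplicit false
universe u
open EGA41

namespace Groth.Agent.S5778

-- MARK
section Aux
open Polynomial Groth.Agent.Lib.helper26.HS

theorem hs_self_eq {A : Type u} [CommRing A] [IsNoetherianRing A] (q : Ideal A) (n : ℕ) :
    hs q A n = Module.length A (A ⧸ q ^ n) := by
  unfold hs col
  have e : (q ^ n • (⊤ : Submodule A A)) = q ^ n := by
    rw [smul_eq_mul, Ideal.mul_top]
  exact (Submodule.quotEquivOfEq _ _ e).length_eq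

/-- the polynomial `n ↦ C(n - 1 + r, r)` -/
noncomputable def binPoly (r : ℕ) : ℚ[X] := C ((r.factorial : ℚ)⁻¹) * ascPochhammer ℚ r

theorem binPoly_natDegree (r : ℕ) : (binPoly r).natDegree = r := by
  unfold binPoly
  rw [natDegree_C_mul, ascPochhammer_natDegree]
  exact inv_ne_zero (by exact_mod_cast r.factorial_ne_zero)

theorem binPoly_eval (r s : ℕ) : (binPoly r).eval ((s + 1 : ℕ) : ℚ) = ((s + r).choose s : ℚ) := by
  unfold binPoly
  rw [eval_mul, eval_C, ascPochhammer_nat_eq_natCast_ascFactorial,
    Nat.ascFactorial_eq_factorial_mul_choose, ← Nat.choose_symm_add]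
  push_cast
  rw [← mul_assoc, inv_mul_cancel₀ (by exact_mod_cast r.factorial_ne_zero), one_mul]

end Aux



/-- Let A be a Noetherian local ring with maximal ideal m, residue field k, and let r be the dimension
of the k-vector space m/m². Then A is regular if and only if the canonical surjection of graded
k-algebras from the symmetric algebra of m/m² onto the associated graded ring of A for the m-adic
filtration is bijective. Since that surjection is bijective exactly when source and target have the
same length in every degree, the condition is expressed here as: length_A(A/m^(s+1)) equals the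
binomial coefficient C(s+r, r) for every s ≥ 0. -/
theorem result (A : Type u) [CommRing A] [IsLocalRing A]
    [IsNoetherianRing A] :
    IsRegularLocalRing A ↔
      ∀ s : ℕ, Module.length A (A ⧸ IsLocalRing.maximalIdeal A ^ (s + 1)) =
        ((s + Module.finrank (IsLocalRing.ResidueField A) (IsLocalRing.CotangentSpace A)).choose s : ℕ∞) := by
  set r := Module.finrank (IsLocalRing.ResidueField A) (IsLocalRing.CotangentSpace A) with hr
  constructor
  · intro h s
    have hd : ringKrullDim A = r := ((IsRegularLocalRing.iff_finrank_cotangentSpace A).1 h).symm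
    have h1 := Groth.Agent.S8163.result A r hd (s + 1) (by omega)
    rw [h1]
    congr 1
    rw [show s + 1 + r - 1 = s + r by omega, Nat.choose_symm_add]
  · intro h
    apply IsRegularLocalRing.of_spanFinrank_maximalIdeal_le
    rw [IsLocalRing.spanFinrank_maximalIdeal_eq_finrank_cotangentSpace, ← hr]
    set q := IsLocalRing.maximalIdeal A with hq
    have hhs : ∀ s : ℕ, Groth.Agent.Lib.helper26.HS.hs q A (s + 1) = ((s + r).choose s : ℕ∞) := by
      intro s
      rw [hs_self_eq]
      exact h s
    have hM : Groth.Agent.Lib.helper26.HS.hs q A 1 ≠ ⊤ := by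
      rw [hhs 0]
      exact ENat.natCast_ne_top _
    have hP : Groth.Agent.Lib.helper26.HS.IsHSPoly q A (binPoly r) := by
      refine ⟨1, fun n hn => ?_⟩
      obtain ⟨s, rfl⟩ : ∃ s, n = s + 1 := ⟨n - 1, by omega⟩
      rw [hhs s, binPoly_eval]
      simp
    -- the dimension is a natural number
    have hle : ringKrullDim A ≤ ((IsLocalRing.maximalIdeal A).spanFinrank : WithBot ℕ∞) :=
      ringKrullDim_le_spanFinrank_maximalIdeal A
    have hnn : (0 : WithBot ℕ∞) ≤ ringKrullDim A := ringKrullDim_nonneg_of_nontrivial
    obtain ⟨d, hd⟩ : ∃ d : ℕ, ringKrullDim A = d := by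
      have h1 : ringKrullDim A ≠ ⊥ := fun h => by rw [h] at hnn; simp at hnn
      obtain ⟨x, hx⟩ := WithBot.ne_bot_iff_exists.1 h1
      have h2 : x ≠ ⊤ := by
        intro hx'
        rw [← hx, hx'] at hle
        have : ((⊤ : ℕ∞) : WithBot ℕ∞) ≤ (((IsLocalRing.maximalIdeal A).spanFinrank : ℕ∞) : WithBot ℕ∞) := hle
        rw [WithBot.coe_le_coe] at this
        simp at this
      obtain ⟨d, hd⟩ := ENat.ne_top_iff_exists.1 h2
      exact ⟨d, by rw [← hx, ← hd]; rfl⟩
    have h3 := Groth.Agent.Lib.helper26.HS.natDegree_le_of_supportDim_le q d A hM (binPoly r) hP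
      (by rw [Module.supportDim_self_eq_ringKrullDim, hd])
    rw [binPoly_natDegree] at h3
    rw [hd]
    exact_mod_cast h3

end Groth.Agent.S5778
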