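import Groth.Statements.S5779
import Mathlib
import Groth.Agent.Lib.Helper15.Regular

set_option autoImplicit false
universe u
open EGA41

namespace Groth.Agent.S5779

open IsLocalRing in
lemma span_union_eq_top_iff {A : Type u} [CommRing A] [IsLocalRing A] {r : ℕ}
    (x : Fin r → maximalIdeal A) (t' : Set (maximalIdeal A)) :
    Submodule.span A (Set.range x ∪ t') = ⊤ ↔
      maximalIdeal A = Ideal.span (Set.range fun i => (x i : A)) ⊔
        Ideal.span ((maximalIdeal A).subtype '' t') := by
  rw [Submodule.span_union,
    ← (Submodule.map_injective_of_injective (maximalIdeal A).injective_subtype).eq_iff,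
    Submodule.map_sup, Submodule.map_span, Submodule.map_span, Submodule.map_top,
    Submodule.range_subtype, ← Set.range_comp, eq_comm]
  rfl

open IsLocalRing in
lemma spanFinrank_span_range_le {A : Type u} [CommRing A] {r : ℕ} (x : Fin r → A) :
    (Ideal.span (Set.range x)).spanFinrank ≤ r := by
  classical
  refine (Submodule.spanFinrank_span_le_ncard_of_finite (Set.finite_range _)).trans ?_
  have : Set.range x = ((Finset.univ.image x : Finset A) : Set A) := by simp
  rw [this, Set.ncard_coe_finset]
  exact Finset.card_image_le.trans (by simp)


/-- Let A be a Noetherian local ring with maximal ideal m and residue field k, (x_i)_{1 ≤ i ≤ r}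
elements of m and J = x_1 A + ... + x_r A. Then A is regular with the classes of the x_i in m/m²
linearly independent over k (equivalently: the x_i are part of a regular system of parameters) if
and only if the x_i are part of a system of parameters of A (dim(A/J) = dim(A) - r) and A/J is
regular. When these conditions hold, J is a prime ideal. -/
theorem result (A : Type u) [CommRing A] [IsLocalRing A]
    [IsNoetherianRing A] (r : ℕ) (x : Fin r → IsLocalRing.maximalIdeal A) :
    ((IsRegularLocalRing A ∧
        LinearIndependent (IsLocalRing.ResidueField A)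
          (fun i => (IsLocalRing.maximalIdeal A).toCotangent (x i))) ↔
      (ringKrullDim (A ⧸ Ideal.span (Set.range fun i => (x i : A))) + r = ringKrullDim A ∧
        IsRegularLocalRing (A ⧸ Ideal.span (Set.range fun i => (x i : A))))) ∧
    (IsRegularLocalRing (A ⧸ Ideal.span (Set.range fun i => (x i : A))) →
      ringKrullDim (A ⧸ Ideal.span (Set.range fun i => (x i : A))) + r = ringKrullDim A →
        (Ideal.span (Set.range fun i => (x i : A))).IsPrime) := by
  classical
  have hJm : Ideal.span (Set.range fun i => (x i : A)) ≤ IsLocalRing.maximalIdeal A :=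
    Ideal.span_le.mpr (by rintro _ ⟨i, rfl⟩; exact (x i).2)
  have hJr := spanFinrank_span_range_le (fun i => (x i : A))
  refine ⟨⟨?_, ?_⟩, ?_⟩
  · rintro ⟨hA, hLI⟩
    have hfin := IsLocalRing.spanFinrank_maximalIdeal_eq_finrank_cotangentSpace (R := A)
    have hπ : Function.Surjective (IsLocalRing.maximalIdeal A).toCotangent :=
      Ideal.toCotangent_surjective _
    have hs := hLI.linearIndepOn_id
    set sV : Set (IsLocalRing.CotangentSpace A) :=
      Set.range (fun i => (IsLocalRing.maximalIdeal A).toCotangent (x i)) with hsV
    set b := hs.extend (Set.subset_univ _) with hb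
    have hsb : sV ⊆ b := hs.subset_extend _
    have hbli : LinearIndepOn (IsLocalRing.ResidueField A) id b := hs.linearIndepOn_extend _
    have hbspan : Submodule.span (IsLocalRing.ResidueField A) b = ⊤ := by
      rw [eq_top_iff]
      intro v _
      exact hs.subset_span_extend (Set.subset_univ _) (Set.mem_univ v)
    have hbfin : b.Finite := LinearIndependent.set_finite_of_isNoetherian hbli
    have hbcard : b.ncard = Module.finrank (IsLocalRing.ResidueField A)
        (IsLocalRing.CotangentSpace A) := by
      have := hbfin.fintype
      rw [← finrank_top (IsLocalRing.ResidueField A) (IsLocalRing.CotangentSpace A), ← hbspan,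
        finrank_span_set_eq_card hbli, Set.ncard_eq_toFinset_card']
    have hscard : sV.ncard = r := by
      have := Set.ncard_image_of_injective Set.univ hLI.injective
      rw [Set.image_univ, Set.ncard_univ, Nat.card_fin] at this
      exact this
    have hdiff : (b \ sV).ncard = b.ncard - sV.ncard := Set.ncard_sdiff hsb (hbfin.subset hsb)
    have hsle : sV.ncard ≤ b.ncard := Set.ncard_le_ncard hsb hbfin
    -- lift `b \ sV` to the maximal ideal
    set u : Set (IsLocalRing.maximalIdeal A) := Function.surjInv hπ '' (b \ sV) with hu
    have hufin : u.Finite := (hbfin.subset Set.sdiff_subset).image _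
    have huimg : (IsLocalRing.maximalIdeal A).toCotangent '' u = b \ sV := by
      rw [hu, Set.image_image]
      simp [Function.surjInv_eq hπ]
    have hucard : u.ncard ≤ (b \ sV).ncard := Set.ncard_image_le (hbfin.subset Set.sdiff_subset)
    have hspan : Submodule.span A (Set.range x ∪ u) = ⊤ := by
      rw [← IsLocalRing.CotangentSpace.span_image_eq_top_iff, Set.image_union, huimg,
        ← Set.range_comp]
      change Submodule.span _ (sV ∪ b \ sV) = ⊤
      rw [Set.union_sdiff_cancel hsb, hbspan]
    rw [span_union_eq_top_iff] at hspan
    set T : Finset A := (hufin.image (IsLocalRing.maximalIdeal A).subtype).toFinset with hT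
    have hTcoe : (T : Set A) = (IsLocalRing.maximalIdeal A).subtype '' u := by
      rw [hT, Set.Finite.coe_toFinset]
    have hTcard : T.card ≤ u.ncard := by
      rw [← Set.ncard_coe_finset, hTcoe]
      exact Set.ncard_image_le hufin
    rw [← hTcoe] at hspan
    obtain ⟨hreg, h1, h2⟩ := Groth.Agent.Lib.helper15.isRegularLocalRing_quotient_of_span
      (Ideal.span (Set.range fun i => (x i : A))) T hspan (by omega)
    refine ⟨?_, hreg⟩
    have h3 : ((IsLocalRing.maximalIdeal A).spanFinrank : WithBot ℕ∞) = ringKrullDim A :=
      IsRegularLocalRing.spanFinrank_maximalIdeal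
    have h4 : ((IsLocalRing.maximalIdeal
        (A ⧸ Ideal.span (Set.range fun i => (x i : A)))).spanFinrank : WithBot ℕ∞) =
        ringKrullDim (A ⧸ Ideal.span (Set.range fun i => (x i : A))) :=
      IsRegularLocalRing.spanFinrank_maximalIdeal
    rw [← h3, ← h4]
    have : (IsLocalRing.maximalIdeal
        (A ⧸ Ideal.span (Set.range fun i => (x i : A)))).spanFinrank + r =
        (IsLocalRing.maximalIdeal A).spanFinrank := by omega
    exact_mod_cast this
  · rintro ⟨hdim, hreg⟩
    obtain ⟨t, htcard, ht⟩ := Groth.Agent.Lib.helper15.exists_finset_maximalIdeal_eq_sup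
      (Ideal.span (Set.range fun i => (x i : A)))
    have h2 : ((IsLocalRing.maximalIdeal
        (A ⧸ Ideal.span (Set.range fun i => (x i : A)))).spanFinrank : WithBot ℕ∞) =
        ringKrullDim (A ⧸ Ideal.span (Set.range fun i => (x i : A))) :=
      IsRegularLocalRing.spanFinrank_maximalIdeal
    have hT : (Ideal.span (t : Set A)).spanFinrank ≤ t.card := by
      refine (Submodule.spanFinrank_span_le_ncard_of_finite (Set.toFinite _)).trans ?_
      rw [Set.ncard_coe_finset]
    have hm : (IsLocalRing.maximalIdeal A).spanFinrank ≤
        (IsLocalRing.maximalIdeal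
          (A ⧸ Ideal.span (Set.range fun i => (x i : A)))).spanFinrank + r := by
      conv_lhs => rw [ht]
      refine (Groth.Agent.Lib.helper15.spanFinrank_sup_le (IsNoetherian.noetherian _)
        (IsNoetherian.noetherian _)).trans ?_
      omega
    have hA : IsRegularLocalRing A := by
      apply IsRegularLocalRing.of_spanFinrank_maximalIdeal_le
      calc ((IsLocalRing.maximalIdeal A).spanFinrank : WithBot ℕ∞)
          ≤ (((IsLocalRing.maximalIdeal
            (A ⧸ Ideal.span (Set.range fun i => (x i : A)))).spanFinrank + r : ℕ) :
              WithBot ℕ∞) := by exact_mod_cast hm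
        _ = ((IsLocalRing.maximalIdeal
            (A ⧸ Ideal.span (Set.range fun i => (x i : A)))).spanFinrank : WithBot ℕ∞) + r := by
              push_cast; rfl
        _ = ringKrullDim (A ⧸ Ideal.span (Set.range fun i => (x i : A))) + r := by rw [h2]
        _ = ringKrullDim A := hdim
    refine ⟨hA, ?_⟩
    have h3 : ((IsLocalRing.maximalIdeal A).spanFinrank : WithBot ℕ∞) = ringKrullDim A :=
      IsRegularLocalRing.spanFinrank_maximalIdeal
    have heq : (IsLocalRing.maximalIdeal
        (A ⧸ Ideal.span (Set.range fun i => (x i : A)))).spanFinrank + r =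
        (IsLocalRing.maximalIdeal A).spanFinrank := by
      rw [← h2, ← h3] at hdim
      exact_mod_cast hdim
    have hfin := IsLocalRing.spanFinrank_maximalIdeal_eq_finrank_cotangentSpace (R := A)
    -- lift t to the maximal ideal
    have htm : ∀ a ∈ t, a ∈ IsLocalRing.maximalIdeal A := by
      intro a ha
      rw [ht]
      exact Ideal.mem_sup_right (Ideal.subset_span ha)
    set t' : Finset (IsLocalRing.maximalIdeal A) :=
      t.subtype (· ∈ IsLocalRing.maximalIdeal A) with ht'
    have himg : (IsLocalRing.maximalIdeal A).subtype '' (t' : Set (IsLocalRing.maximalIdeal A)) =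
        (t : Set A) := by
      ext a
      simp only [Set.mem_image, Finset.mem_coe, ht', Finset.mem_subtype, Submodule.subtype_apply]
      constructor
      · rintro ⟨b, hb, rfl⟩; exact hb
      · intro ha; exact ⟨⟨a, htm a ha⟩, ha, rfl⟩
    have ht'card : t'.card ≤ t.card := by
      rw [ht', Finset.card_subtype]; exact Finset.card_filter_le _ _
    have hspan : Submodule.span A (Set.range x ∪ (t' : Set (IsLocalRing.maximalIdeal A))) = ⊤ := by
      rw [span_union_eq_top_iff, himg]; exact ht
    rw [← IsLocalRing.CotangentSpace.span_image_eq_top_iff, Set.image_union,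
      Submodule.span_union, ← Set.range_comp] at hspan
    rw [linearIndependent_iff_card_eq_finrank_span, Fintype.card_fin]
    have hle := finrank_range_le_card (R := IsLocalRing.ResidueField A)
      (fun i => (IsLocalRing.maximalIdeal A).toCotangent (x i))
    rw [Fintype.card_fin] at hle
    have h5 : Module.finrank (IsLocalRing.ResidueField A) (IsLocalRing.CotangentSpace A) ≤
        (Set.range (fun i => (IsLocalRing.maximalIdeal A).toCotangent (x i))).finrank
          (IsLocalRing.ResidueField A) + t'.card := by
      rw [← finrank_top (IsLocalRing.ResidueField A) (IsLocalRing.CotangentSpace A), ← hspan]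
      refine (Submodule.finrank_add_le_finrank_add_finrank _ _).trans ?_
      refine add_le_add le_rfl ?_
      have : (IsLocalRing.maximalIdeal A).toCotangent '' (t' : Set (IsLocalRing.maximalIdeal A)) =
          ((t'.image (IsLocalRing.maximalIdeal A).toCotangent : Finset _) : Set _) := by simp
      rw [this]
      exact (finrank_span_finset_le_card _).trans Finset.card_image_le
    omega
  · intro hreg _
    have := Groth.Agent.Lib.helper15.isDomain_of_isRegularLocalRing
      (A ⧸ Ideal.span (Set.range fun i => (x i : A)))
    exact (Ideal.Quotient.isDomain_iff_prime _).mp this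

end Groth.Agent.S5779
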