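import Groth.Statements.S5780
import Mathlib.RingTheory.Ideal.AssociatedPrime.Finiteness
import Mathlib.RingTheory.Nakayama
import Mathlib.RingTheory.LocalRing.MaximalIdeal.Basic
import Mathlib.RingTheory.Jacobson.Ideal

set_option autoImplicit false
universe u
open EGA41

namespace Groth.Agent.S5780

/-- Let A be a Noetherian local ring with maximal ideal m. If every element of m which is not in m² is a
zero divisor in A, then there is a nonzero c in A with c m = 0, i.e. m is an associated prime of A. -/
theorem result (A : Type u) [CommRing A]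
    [IsLocalRing A] [IsNoetherianRing A]
    (h : ∀ a ∈ IsLocalRing.maximalIdeal A, a ∉ IsLocalRing.maximalIdeal A ^ 2 → ¬ IsSMulRegular A a) :
    IsLocalRing.maximalIdeal A ∈ associatedPrimes A A := by
  classical
  set m := IsLocalRing.maximalIdeal A with hm
  have hfin : (associatedPrimes A A).Finite := associatedPrimes.finite A A
  -- `m ⊆ m² ∪ ⋃ P`
  have hcover : ((m : Ideal A) : Set A) ⊆
      ((m ^ 2 : Ideal A) : Set A) ∪ ((m ^ 2 : Ideal A) : Set A) ∪
        ⋃ P ∈ (↑hfin.toFinset : Set (Ideal A)), ((P : Ideal A) : Set A) := by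
    intro a ha
    by_cases ha2 : a ∈ m ^ 2
    · exact Or.inl (Or.inl ha2)
    · right
      have hnr := h a ha ha2
      have hzd : a ∈ { r : A | ∃ x : A, x ≠ 0 ∧ r • x = 0 } := by
        unfold IsSMulRegular at hnr
        rw [Function.Injective] at hnr
        simp only [not_forall] at hnr
        obtain ⟨x, y, hxy, hne⟩ := hnr
        refine ⟨x - y, sub_ne_zero.2 hne, ?_⟩
        have : a • x = a • y := hxy
        rw [smul_sub, this, sub_self]
      rw [← biUnion_associatedPrimes_eq_zero_divisors A A] at hzd
      simpa using hzd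
  have hprime : ∀ P ∈ hfin.toFinset, (P : Ideal A).IsPrime := by
    intro P hP
    exact IsAssociatedPrime.isPrime (hfin.mem_toFinset.1 hP)
  rcases (Ideal.subset_union_prime' (f := fun P : Ideal A => P) (a := m ^ 2) (b := m ^ 2)
    hprime).1 hcover with hle | hle | ⟨P, hP, hle⟩
  · -- `m ≤ m²` forces `m = ⊥`
    have hbot : m = ⊥ := by
      refine Submodule.eq_bot_of_le_smul_of_le_jacobson_bot m m
        ((isNoetherianRing_iff_ideal_fg A).1 inferInstance m) ?_
        (IsLocalRing.maximalIdeal_le_jacobson ⊥)
      rw [smul_eq_mul, ← pow_two]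
      exact hle
    obtain ⟨P, hP⟩ := associatedPrimes.nonempty A A
    have hPprime : P.IsPrime := IsAssociatedPrime.isPrime hP
    have hPle : P ≤ m := IsLocalRing.le_maximalIdeal hPprime.ne_top
    rw [hbot, le_bot_iff] at hPle
    rw [hbot, ← hPle]
    exact hP
  · have hbot : m = ⊥ := by
      refine Submodule.eq_bot_of_le_smul_of_le_jacobson_bot m m
        ((isNoetherianRing_iff_ideal_fg A).1 inferInstance m) ?_
        (IsLocalRing.maximalIdeal_le_jacobson ⊥)
      rw [smul_eq_mul, ← pow_two]
      exact hle
    obtain ⟨P, hP⟩ := associatedPrimes.nonempty A A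
    have hPprime : P.IsPrime := IsAssociatedPrime.isPrime hP
    have hPle : P ≤ m := IsLocalRing.le_maximalIdeal hPprime.ne_top
    rw [hbot, le_bot_iff] at hPle
    rw [hbot, ← hPle]
    exact hP
  · have hPass : P ∈ associatedPrimes A A := hfin.mem_toFinset.1 hP
    have hPprime : P.IsPrime := IsAssociatedPrime.isPrime hPass
    have : m = P := (IsLocalRing.maximalIdeal.isMaximal A).eq_of_le hPprime.ne_top hle
    rw [this]
    exact hPass

end Groth.Agent.S5780
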