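import Groth.Statements.S5781
import Mathlib.RingTheory.Ideal.Cotangent
import Mathlib.LinearAlgebra.Dual.Lemmas
import Mathlib.RingTheory.LocalRing.ResidueField.Basic
-- import your own Groth.Agent.* helpers here

set_option autoImplicit false
universe u
open EGA41

namespace Groth.Agent.S5781

/-- Suppose A is a Noetherian local ring whose maximal ideal is m, and take a ∈ m with a ∉ m². Then the
quotient m/am contains a direct summand isomorphic to m/Aa: concretely, one can find A-linear maps f
: m/Aa → m/am and g : m/am → m/Aa such that g ∘ f is the identity. -/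
theorem result (A : Type u) [CommRing A] [IsLocalRing A]
    [IsNoetherianRing A] (a : A) (ha : a ∈ IsLocalRing.maximalIdeal A) (ha2 : a ∉ IsLocalRing.maximalIdeal A ^ 2) :
    ∃ (f : (↥(IsLocalRing.maximalIdeal A) ⧸ Submodule.span A {(⟨a, ha⟩ : ↥(IsLocalRing.maximalIdeal A))}) →ₗ[A]
          QuotSMulTop a ↥(IsLocalRing.maximalIdeal A))
      (g : QuotSMulTop a ↥(IsLocalRing.maximalIdeal A) →ₗ[A]
          (↥(IsLocalRing.maximalIdeal A) ⧸ Submodule.span A {(⟨a, ha⟩ : ↥(IsLocalRing.maximalIdeal A))})),
      g.comp f = LinearMap.id := by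
  classical
  let m := IsLocalRing.maximalIdeal A
  let k := IsLocalRing.ResidueField A
  let V := IsLocalRing.CotangentSpace A
  let a' : m := ⟨a, ha⟩
  have ha0 : m.toCotangent a' ≠ 0 := by
    rw [Ne, Ideal.toCotangent_eq_zero]
    exact ha2
  obtain ⟨ℓ, hℓ⟩ := Module.Projective.exists_dual_eq_one (V := V) k ha0
  -- π : m → k
  let π : m →ₗ[A] k := (ℓ.restrictScalars A).comp m.toCotangent
  have hπ : π a' = 1 := hℓ
  -- ι : k → m / a m
  let q : m →ₗ[A] QuotSMulTop a m := Submodule.mkQ _
  let ι₀ : A →ₗ[A] QuotSMulTop a m := LinearMap.toSpanSingleton A _ (q a')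
  have hι₀ : m ≤ LinearMap.ker ι₀ := by
    intro r hr
    rw [LinearMap.mem_ker]
    change r • q a' = 0
    rw [← map_smul]
    change Submodule.Quotient.mk (r • a') = 0
    rw [Submodule.Quotient.mk_eq_zero]
    have : r • a' = a • (⟨r, hr⟩ : m) := by
      ext; simp [a', mul_comm]
    rw [this]
    exact Submodule.smul_mem_pointwise_smul _ _ _ Submodule.mem_top
  let ι : k →ₗ[A] QuotSMulTop a m := Submodule.liftQ m ι₀ hι₀
  have hι : ∀ r : A, ι (IsLocalRing.residue A r) = r • q a' := fun r => rfl
  let f₀ : m →ₗ[A] QuotSMulTop a m := q - ι.comp π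
  have hf₀ : Submodule.span A {a'} ≤ LinearMap.ker f₀ := by
    rw [Submodule.span_le]
    intro x hx
    rw [Set.mem_singleton_iff] at hx
    subst hx
    rw [SetLike.mem_coe, LinearMap.mem_ker]
    change q a' - ι (π a') = 0
    rw [hπ, ← map_one (IsLocalRing.residue A), hι, one_smul, sub_self]
  let f := Submodule.liftQ (Submodule.span A {a'}) f₀ hf₀
  let g : QuotSMulTop a m →ₗ[A] (m ⧸ Submodule.span A {a'}) :=
    Submodule.liftQ _ (Submodule.mkQ (Submodule.span A {a'})) (by
      rw [Submodule.ker_mkQ]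
      intro x hx
      obtain ⟨y, -, rfl⟩ := hx
      have : a • y = (y : A) • a' := by
        ext; simp [a', mul_comm]
      change a • y ∈ _
      rw [this]
      exact Submodule.smul_mem _ _ (Submodule.mem_span_singleton_self a'))
  refine ⟨f, g, ?_⟩
  apply Submodule.linearMap_qext
  ext x
  change g (f₀ x) = Submodule.Quotient.mk x
  change g (q x - ι (π x)) = _
  rw [map_sub]
  obtain ⟨r, hr⟩ := IsLocalRing.residue_surjective (π x)
  rw [← hr, hι, map_smul]
  have h1 : g (q a') = 0 := by
    change Submodule.Quotient.mk a' = 0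
    rw [Submodule.Quotient.mk_eq_zero]
    exact Submodule.mem_span_singleton_self a'
  rw [h1, smul_zero, sub_zero]
  rfl


end Groth.Agent.S5781
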