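import Groth.Statements.S5782
import Mathlib
import Groth.Agent.Lib.Helper26.ProjDimRegular

set_option autoImplicit false
universe u
open CategoryTheory
open EGA41

namespace Groth.Agent.S5782

/-- Let A be a Noetherian local ring with maximal ideal m, E a finitely generated A-module of finite
projective dimension, and a ∈ m an element which is A-regular and E-regular. Then E/aE, as a module
over A/aA, has finite projective dimension at most the projective dimension of E over A. -/
theorem result (A : Type u) [CommRing A] [IsLocalRing A]
    [IsNoetherianRing A] (E : Type u) [AddCommGroup E] [Module A E] [Module.Finite A E]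
    (hfin : projectiveDimension (ModuleCat.of A E) ≠ ⊤) (a : A) (ha : a ∈ IsLocalRing.maximalIdeal A)
    (hA : IsSMulRegular A a) (hE : IsSMulRegular E a) :
    projectiveDimension (ModuleCat.of (A ⧸ Ideal.span {a}) (E ⧸ (Ideal.span {a} • (⊤ : Submodule A E)))) ≤
      projectiveDimension (ModuleCat.of A E) := by
  have e0 : (E ⧸ (Ideal.span {a} • (⊤ : Submodule A E))) ≃ₗ[A] QuotSMulTop a E :=
    Submodule.quotEquivOfEq _ _ (Submodule.ideal_span_singleton_smul a ⊤)
  have e : (E ⧸ (Ideal.span {a} • (⊤ : Submodule A E))) ≃ₗ[A ⧸ Ideal.span {a}] QuotSMulTop a E :=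
    e0.extendScalarsOfSurjective Ideal.Quotient.mk_surjective
  have he := ModuleCat.projectiveDimension_eq_of_linearEquiv
    (M := ModuleCat.of (A ⧸ Ideal.span {a}) (E ⧸ (Ideal.span {a} • (⊤ : Submodule A E))))
    (N := ModuleCat.of (A ⧸ Ideal.span {a}) (QuotSMulTop a E)) e
  rw [he]
  generalize hd : projectiveDimension (ModuleCat.of A E) = d
  induction d with
  | bot =>
    rw [projectiveDimension_eq_bot_iff, ModuleCat.isZero_iff_subsingleton] at hd
    have : Subsingleton E := hd
    rw [le_bot_iff, projectiveDimension_eq_bot_iff, ModuleCat.isZero_iff_subsingleton]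
    show Subsingleton (QuotSMulTop a E)
    infer_instance
  | coe d =>
    induction d with
    | top => exact le_top
    | coe n =>
      have h : HasProjectiveDimensionLE (ModuleCat.of A E) n := by
        rw [← projectiveDimension_le_iff, hd]
        exact le_rfl
      have := Groth.Agent.Lib.helper26.PDReg.hasProjectiveDimensionLE_quot a hA n E hE h
      rw [← projectiveDimension_le_iff] at this
      exact this


end Groth.Agent.S5782
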