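import Groth.Statements.S5783
import Mathlib
import Groth.Agent.Lib.Helper26.DepthCR2
import Groth.Agent.S5763

set_option autoImplicit false
universe u
open EGA41

namespace Groth.Agent.S5783

/-- Let A be a regular local ring, B a local ring and ρ : A → B a local homomorphism making B a finitely
generated A-module. Then B is a free A-module if and only if B is a Cohen-Macaulay ring and ρ is
injective (the latter being equivalent to dim(B) = dim(A)). -/
theorem result (A B : Type u) [CommRing A] [CommRing B]
    [IsRegularLocalRing A] [IsLocalRing B] [Algebra A B] [IsLocalHom (algebraMap A B)] [Module.Finite A B] :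
    Module.Free A B ↔ LocCoh.IsCohenMacaulayLocalRing B ∧ Function.Injective (algebraMap A B) := by
  have hint : Algebra.IsIntegral A B := Algebra.IsIntegral.of_finite A B
  have hBnoeth : IsNoetherianRing B := IsNoetherianRing.of_finite A B
  have hdepth : LocCoh.depth A B = LocCoh.depth B B :=
    Groth.Agent.Lib.helper26.Depth.depth_eq_of_isLocalHom (A := A) (B := B) B
  constructor
  · intro hfree
    have hinj : Function.Injective (algebraMap A B) := FaithfulSMul.algebraMap_injective A B
    refine ⟨?_, hinj⟩
    have hdimeq := (Groth.Agent.S5763.result A B).2 hinj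
    refine @LocCoh.IsCohenMacaulayLocalRing.mk B _ hBnoeth _ ?_
    rw [Module.supportDim_self_eq_ringKrullDim, hdimeq, ← hdepth,
      Groth.Agent.Lib.helper26.Depth.depth_free (A := A) B,
      Groth.Agent.Lib.helper26.Depth.depth_eq_ringKrullDim_of_isRegularLocalRing A]
  · rintro ⟨hCM, hinj⟩
    have hdimeq := (Groth.Agent.S5763.result A B).2 hinj
    apply Groth.Agent.Lib.helper26.Depth.free_of_depth_eq_ringKrullDim A B
    rw [hdepth, ← hdimeq, ← Module.supportDim_self_eq_ringKrullDim]
    exact hCM.supportDim_eq_depth.symm


end Groth.Agent.S5783
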