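import Groth.Statements.S5785
import Groth.Agent.Lib.Helper24.AdicFibres
import Groth.Agent.Lib.Helper24.RegularAscent
import Groth.Agent.Lib.Helper24.NagataCrit

set_option autoImplicit false
universe u
open EGA41

namespace Groth.Agent.S5785

open Groth.Agent.Lib.Helper24.AdicFibres IsLocalRing

/-- The quotient of a local ring by an ideal equal to its maximal ideal is a regular local ring. -/
theorem isRegularLocalRing_quotient_of_eq_maximalIdeal (S : Type u) [CommRing S] [IsLocalRing S]
    (I : Ideal S) (hI : I = maximalIdeal S) : IsRegularLocalRing (S ⧸ I) := by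
  subst hI
  let _ : Field (S ⧸ maximalIdeal S) := Ideal.Quotient.field _
  infer_instance

/-- Let A be a regular ring and J an ideal of A. Then the separated completion of A for the J-adic
topology is a regular ring. -/
theorem result (A : Type u) [CommRing A] [IsRegularRing A] (J : Ideal A) :
    IsRegularRing (AdicCompletion J A) := by
  haveI hN : IsNoetherianRing (AdicCompletion J A) :=
    Groth.Agent.S0542.result A J (IsNoetherian.noetherian J)
  rw [isRegularRing_iff]
  intro P hP
  obtain ⟨M, hM, hPM⟩ := Ideal.exists_le_maximal P hP.ne_top
  haveI := hM
  haveI : IsRegularLocalRing (Localization.AtPrime M) := by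
    haveI : IsRegularLocalRing (Localization.AtPrime M ⧸
        (maximalIdeal (Localization.AtPrime (ctr A J M))).map
          (algebraMap (Localization.AtPrime (ctr A J M)) (Localization.AtPrime M))) :=
      isRegularLocalRing_quotient_of_eq_maximalIdeal _ _ (maximalIdeal_eq_map_algLoc A J M).symm
    exact Groth.Agent.Lib.Helper24.RegularAscent.isRegularLocalRing_of_flat_of_fibre
      (Localization.AtPrime (ctr A J M)) (Localization.AtPrime M)
  exact Groth.Agent.Lib.Helper24.NagataCrit.isRegularLocalRing_atPrime_of_le _ M P hPM

end Groth.Agent.S5785
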