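import Groth.Statements.S5787
import Mathlib
-- import your own Groth.Agent.* helpers here

set_option autoImplicit false
universe u
open CategoryTheory
open EGA41

namespace Groth.Agent.S5787

open Abelian Pointwise CategoryTheory

variable {A : Type u} [CommRing A]

/-- `Ext^i(N, M) = 0` for `i < d` and `E ≃+ Ext^d(N, M)`. -/
def P (N M : ModuleCat.{u} A) (d : ℕ) (E : Type u) [AddCommGroup E] : Prop :=
  (∀ i, i < d → Subsingleton (Ext N M i)) ∧ Nonempty (E ≃+ Ext N M d)

lemma smul_ext_eq_zero' {N X : ModuleCat.{u} A} {n : ℕ} (b : Ext N X n) (x : A)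
    (hx : ∀ m : N, x • m = 0) : x • b = 0 := by
  have h0 : x • 𝟙 N = 0 := ModuleCat.hom_ext (LinearMap.ext fun m => hx m)
  have : x • b = (Ext.mk₀ (x • 𝟙 N)).comp b (zero_add n) := by
    rw [Ext.mk₀_smul, Ext.smul_comp, Ext.mk₀_id_comp]
  rw [this, h0, Ext.mk₀_zero, Ext.zero_comp]

lemma comp_smul_id {N M : ModuleCat.{u} A} {n : ℕ} (b : Ext N M n) (x : A) :
    b.comp (Ext.mk₀ (x • 𝟙 M)) (add_zero n) = x • b := by
  rw [Ext.mk₀_smul, Ext.comp_smul, Ext.comp_mk₀_id]

lemma P.step {N M : ModuleCat.{u} A} {d : ℕ} {E : Type u} [AddCommGroup E] (x : A)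
    (hx : ∀ m : N, x • m = 0) (reg : IsSMulRegular M x)
    (h : P N (ModuleCat.of A (QuotSMulTop x M)) d E) : P N M (d + 1) E := by
  let S := M.smulShortComplex x
  have hS : S.ShortExact := reg.smulShortComplex_shortExact
  have h' : P N S.X₃ d E := h
  clear h
  show P N S.X₁ (d + 1) E
  have hf : ∀ {n : ℕ} (b : Ext N S.X₁ n), b.comp (Ext.mk₀ S.f) (add_zero n) = 0 := by
    intro n b
    have : b.comp (Ext.mk₀ S.f) (add_zero n) = x • b := comp_smul_id (M := M) b x
    rw [this]
    exact smul_ext_eq_zero' b x hx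
  have hsub : ∀ i, i < d + 1 → Subsingleton (Ext N S.X₁ i) := by
    intro i hi
    refine ⟨fun a b => ?_⟩
    have key : ∀ c : Ext N S.X₁ i, c = 0 := by
      intro c
      cases i with
      | zero =>
        haveI : Mono S.f := hS.mono_f
        have hinj := Ext.postcomp_mk₀_injective_of_mono N S.f
        apply hinj
        change c.comp (Ext.mk₀ S.f) (add_zero 0) = (0 : Ext N S.X₁ 0).comp (Ext.mk₀ S.f) (add_zero 0)
        rw [hf c, Ext.zero_comp]
      | succ j =>
        obtain ⟨x₃, hx₃⟩ := Ext.covariant_sequence_exact₁ N hS c (hf c) rfl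
        have := h'.1 j (by omega)
        rw [← hx₃, Subsingleton.elim x₃ 0, Ext.zero_comp]
    rw [key a, key b]
  refine ⟨hsub, ?_⟩
  obtain ⟨g⟩ := h'.2
  let δ : Ext N S.X₃ d →+ Ext N S.X₁ (d + 1) := hS.extClass.postcomp N rfl
  have hbij : Function.Bijective δ := by
    constructor
    · rw [injective_iff_map_eq_zero]
      intro y hy
      obtain ⟨x₂, hx₂⟩ := Ext.covariant_sequence_exact₃ N hS y rfl hy
      have hsx : Subsingleton (Ext N S.X₂ d) := hsub d (by omega)
      rw [← hx₂, Subsingleton.elim x₂ 0, Ext.zero_comp]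
    · intro b
      obtain ⟨x₃, hx₃⟩ := Ext.covariant_sequence_exact₁ N hS b (hf b) rfl
      exact ⟨x₃, hx₃⟩
  exact ⟨g.trans (AddEquiv.ofBijective δ hbij)⟩

lemma P.congrE {N M : ModuleCat.{u} A} {d : ℕ} {E E' : Type u} [AddCommGroup E] [AddCommGroup E']
    (h : P N M d E) (e : E' ≃+ E) : P N M d E' :=
  ⟨h.1, h.2.map fun g => e.trans g⟩

theorem main (N : ModuleCat.{u} A) (xs : List A) (hx : ∀ x ∈ xs, ∀ m : N, x • m = 0) :
    ∀ (M : ModuleCat.{u} A), RingTheory.Sequence.IsWeaklyRegular M xs →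
    P N M xs.length (N →ₗ[A] (M ⧸ (Ideal.ofList xs • ⊤ : Submodule A M))) := by
  induction xs with
  | nil =>
    intro M _
    refine ⟨fun i hi => absurd hi (by simp), ?_⟩
    have e1 : (Ideal.ofList ([] : List A) • ⊤ : Submodule A M) = ⊥ := by simp
    have e2 : (N →ₗ[A] (M ⧸ (Ideal.ofList ([] : List A) • ⊤ : Submodule A M))) ≃ₗ[A] (N →ₗ[A] M) :=
      LinearEquiv.congrRight (Submodule.quotEquivOfEqBot _ e1)
    exact ⟨e2.toAddEquiv.trans ((ModuleCat.homLinearEquiv (S := A)).symm.toAddEquiv.trans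
      (Ext.addEquiv₀ (X := N) (Y := M)).symm)⟩
  | cons x xs ih =>
    intro M hreg
    rw [RingTheory.Sequence.isWeaklyRegular_cons_iff] at hreg
    have h1 := ih (fun y hy => hx y (by simp [hy])) (ModuleCat.of A (QuotSMulTop x M)) hreg.2
    have h2 := P.step x (hx x (by simp)) hreg.1 h1
    have e2 : (N →ₗ[A] (M ⧸ (Ideal.ofList (x :: xs) • ⊤ : Submodule A M))) ≃ₗ[A]
        (N →ₗ[A] (QuotSMulTop x M ⧸ (Ideal.ofList xs • ⊤ : Submodule A (QuotSMulTop x M)))) :=
      LinearEquiv.congrRight (Submodule.quotOfListConsSMulTopEquivQuotSMulTopInner M x xs)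
    exact h2.congrE e2.toAddEquiv


/-- Let A be a Noetherian local ring with maximal ideal m and residue field k, M an A-module and
(x_i)_{1 ≤ i ≤ n} an M-regular sequence of elements of m. Then Hom_A(k, M/(x_1 M + ... + x_n M)) and
Ext^n_A(k, M) are isomorphic (existence of an isomorphism; stated for the underlying abelian
groups). -/
theorem result (A : Type u) [CommRing A] [IsLocalRing A]
    [IsNoetherianRing A] (M : Type u) [AddCommGroup M] [Module A M] (xs : List A)
    (hxs : ∀ x ∈ xs, x ∈ IsLocalRing.maximalIdeal A) (hreg : RingTheory.Sequence.IsWeaklyRegular M xs) :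
    Nonempty ((IsLocalRing.ResidueField A →ₗ[A] (M ⧸ (Ideal.ofList xs • (⊤ : Submodule A M)))) ≃+
      Abelian.Ext (ModuleCat.of A (IsLocalRing.ResidueField A)) (ModuleCat.of A M) xs.length) := by
  have hk : ∀ x ∈ xs, ∀ m : (ModuleCat.of A (IsLocalRing.ResidueField A)), x • m = 0 := by
    intro x hx m
    obtain ⟨m, rfl⟩ := IsLocalRing.residue_surjective m
    change x • (IsLocalRing.residue A m) = 0
    rw [Algebra.smul_def]
    have : algebraMap A (IsLocalRing.ResidueField A) x = 0 :=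
      (IsLocalRing.residue_eq_zero_iff x).mpr (hxs x hx)
    rw [this, zero_mul]
  have hreg' : RingTheory.Sequence.IsWeaklyRegular (ModuleCat.of A M) xs := hreg
  exact (main (ModuleCat.of A (IsLocalRing.ResidueField A)) xs hk (ModuleCat.of A M) hreg').2

end Groth.Agent.S5787
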