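import Groth.Statements.S5788
import Mathlib.Algebra.Category.ModuleCat.InjectiveDimension
-- import your own Groth.Agent.* helpers here

set_option autoImplicit false
universe u
open CategoryTheory
open EGA41

namespace Groth.Agent.S5788

open CategoryTheory Abelian in
lemma base (A : Type u) [CommRing A] (M : Type u) [AddCommGroup M] [Module A M]
    (h : ∀ I : Ideal A, Subsingleton (Ext (ModuleCat.of A (A ⧸ I)) (ModuleCat.of A M) 1)) :
    Injective (ModuleCat.of A M) := by
  rw [← Module.injective_iff_injective_object]
  apply Module.Baer.injective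
  intro I g
  have hex : Function.Exact (Submodule.subtype I) (Submodule.mkQ I) := by
    intro x
    simp [Ideal.Quotient.eq_zero_iff_mem]
  let S : ShortComplex (ModuleCat.{u} A) :=
    ModuleCat.shortComplexOfCompEqZero (Submodule.subtype I) (Submodule.mkQ I)
      hex.linearMap_comp_eq_zero
  have hS : S.ShortExact := ModuleCat.shortComplex_shortExact S hex
    (Submodule.injective_subtype I) (Submodule.mkQ_surjective I)
  have := h I
  obtain ⟨φ, hφ⟩ := Ext.contravariant_sequence_exact₁ hS (ModuleCat.of A M)
    (Ext.mk₀ (ModuleCat.ofHom g)) (zero_add 1) (by subsingleton)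
  obtain ⟨φ, rfl⟩ := Ext.homEquiv₀.symm.surjective φ
  have h2 : S.f ≫ φ = ModuleCat.ofHom g :=
    Ext.homEquiv₀.symm.injective (by simpa using hφ)
  refine ⟨φ.hom, fun x hx => ?_⟩
  have := congrArg (fun k => k.hom ⟨x, hx⟩) h2
  simpa [S] using this

open CategoryTheory Abelian in
lemma main (A : Type u) [CommRing A] (n : ℕ) : ∀ (M : Type u) [AddCommGroup M] [Module A M],
    (∀ I : Ideal A, Subsingleton (Ext (ModuleCat.of A (A ⧸ I)) (ModuleCat.of A M) (n + 1))) →
    HasInjectiveDimensionLT (ModuleCat.of A M) (n + 1) := by
  induction n with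
  | zero =>
    intro M _ _ h
    have := base A M h
    infer_instance
  | succ n ih =>
    intro M _ _ h
    let ⟨E, _, f, _⟩ := EnoughInjectives.presentation (ModuleCat.of A M)
    have injf : Function.Injective f.hom := (ModuleCat.mono_iff_injective f).mp ‹_›
    let S : ShortComplex (ModuleCat.{u} A) :=
      ModuleCat.shortComplexOfCompEqZero _ _ f.hom.exact_map_mkQ_range.linearMap_comp_eq_zero
    have exactS := ModuleCat.shortComplex_shortExact S
      f.hom.exact_map_mkQ_range injf (Submodule.mkQ_surjective _)
    have hK : HasInjectiveDimensionLT (ModuleCat.of A (E ⧸ LinearMap.range f.hom)) (n + 1) := by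
      apply ih
      intro I
      have := h I
      suffices ∀ x : Ext (ModuleCat.of A (A ⧸ I))
          (ModuleCat.of A (E ⧸ LinearMap.range f.hom)) (n + 1), x = 0 from
        ⟨fun x y => by rw [this x, this y]⟩
      intro x
      obtain ⟨x₂, rfl⟩ := Ext.covariant_sequence_exact₃ (ModuleCat.of A (A ⧸ I)) exactS x
        (n₁ := n + 1 + 1) rfl (Subsingleton.elim _ _)
      rw [x₂.eq_zero_of_injective, Ext.zero_comp]
    exact (exactS.hasInjectiveDimensionLT_X₃_iff n inferInstance).1 hK

/-- Let A be a ring, M an A-module and n ≥ 0. Then M has injective dimension at most n if and only if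
Ext^(n+1)_A(N, M) = 0 for every monogenous A-module N, i.e. for every N of the form A/I with I an
ideal of A. -/
theorem result (A : Type u) [CommRing A] (M : Type u)
    [AddCommGroup M] [Module A M] (n : ℕ) :
    HasInjectiveDimensionLT (ModuleCat.of A M) (n + 1) ↔
      ∀ I : Ideal A, Subsingleton (Abelian.Ext (ModuleCat.of A (A ⧸ I)) (ModuleCat.of A M) (n + 1)) := by
  constructor
  · intro h I
    exact HasInjectiveDimensionLT.subsingleton (ModuleCat.of A M) (n + 1) (n + 1) le_rfl _
  · exact main A n M

end Groth.Agent.S5788
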