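import Groth.Statements.S5789
import Mathlib.Algebra.Category.ModuleCat.ProjectiveDimension
import Mathlib.RingTheory.Ideal.AssociatedPrime.Finiteness
import Mathlib.RingTheory.Finiteness.Cardinality
-- import your own Groth.Agent.* helpers here

set_option autoImplicit false
universe u
open CategoryTheory
open EGA41

namespace Groth.Agent.S5789

open CategoryTheory Abelian in
/-- transport of vanishing along an iso in the second variable -/
lemma ext_zero_of_iso {C : Type*} [Category C] [Abelian C] [HasExt C] {X Y Y' : C} (e : Y ≅ Y')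
    (m : ℕ) (h : Subsingleton (Ext X Y' m)) : Subsingleton (Ext X Y m) := by
  refine ⟨fun x y => ?_⟩
  have hx : ∀ z : Ext X Y m, z = 0 := by
    intro z
    have h1 : z = (z.comp (Ext.mk₀ e.hom) (add_zero m)).comp (Ext.mk₀ e.inv) (add_zero m) := by
      rw [Ext.comp_assoc_of_third_deg_zero, Ext.mk₀_comp_mk₀, e.hom_inv_id, Ext.comp_mk₀_id]
    rw [h1, Subsingleton.elim (z.comp (Ext.mk₀ e.hom) (add_zero m)) 0, Ext.zero_comp]
  rw [hx x, hx y]

open CategoryTheory Abelian in
lemma fg_vanish (A : Type u) [CommRing A] [IsNoetherianRing A] (X : ModuleCat.{u} A) (m : ℕ)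
    (h : ∀ I : Ideal A, Subsingleton (Ext X (ModuleCat.of A (A ⧸ I)) m))
    (N : Type u) [AddCommGroup N] [Module A N] [hN : Module.Finite A N] :
    Subsingleton (Ext X (ModuleCat.of A N) m) := by
  induction hN using IsNoetherianRing.induction_on_isQuotientEquivQuotientPrime A with
  | subsingleton N =>
    refine ⟨fun x y => ?_⟩
    have hz : Limits.IsZero (ModuleCat.of A N) := ModuleCat.isZero_of_subsingleton _
    have hx : ∀ z : Ext X (ModuleCat.of A N) m, z = 0 := by
      intro z
      rw [← z.comp_mk₀_id, hz.eq_zero_of_tgt (𝟙 _), Ext.mk₀_zero, Ext.comp_zero]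
    rw [hx x, hx y]
  | quotient N p f =>
    exact ext_zero_of_iso f.toModuleIso m (h p.asIdeal)
  | exact N₁ N₂ N₃ f g hf hg hfg h₁ h₃ =>
    let S : ShortComplex (ModuleCat.{u} A) :=
      ModuleCat.shortComplexOfCompEqZero f g hfg.linearMap_comp_eq_zero
    have hS : S.ShortExact := ModuleCat.shortComplex_shortExact S hfg hf hg
    refine ⟨fun x y => ?_⟩
    have hx : ∀ z : Ext X (ModuleCat.of A N₂) m, z = 0 := by
      intro z
      obtain ⟨x₁, rfl⟩ := Ext.covariant_sequence_exact₂ X hS z (Subsingleton.elim _ _)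
      rw [Subsingleton.elim x₁ 0, Ext.zero_comp]
    rw [hx x, hx y]

open CategoryTheory Abelian in
lemma main (A : Type u) [CommRing A] [IsNoetherianRing A] (n : ℕ) :
    ∀ (M : Type u) [AddCommGroup M] [Module A M] [Module.Finite A M],
    (∀ I : Ideal A, Subsingleton (Ext (ModuleCat.of A M) (ModuleCat.of A (A ⧸ I)) (n + 1))) →
    HasProjectiveDimensionLT (ModuleCat.of A M) (n + 1) := by
  induction n with
  | zero =>
    intro M _ _ _ h
    obtain ⟨k, f, hf⟩ := Module.Finite.exists_fin' A M
    have hS : f.shortComplexKer.ShortExact := LinearMap.shortExact_shortComplexKer hf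
    have hL : Subsingleton (Ext (ModuleCat.of A M) (ModuleCat.of A (LinearMap.ker f)) (0 + 1)) :=
      fg_vanish A _ _ h _
    obtain ⟨φ, hφ⟩ := Ext.covariant_sequence_exact₃ (ModuleCat.of A M) hS
      (Ext.mk₀ (𝟙 (ModuleCat.of A M))) (zero_add 1) (Subsingleton.elim _ _)
    obtain ⟨φ, rfl⟩ := Ext.homEquiv₀.symm.surjective φ
    have h2 : φ ≫ f.shortComplexKer.g = 𝟙 _ :=
      Ext.homEquiv₀.symm.injective (by simpa using hφ)
    have hP : Projective (ModuleCat.of A (Fin k → A)) := inferInstance
    have : Projective (ModuleCat.of A M) := Retract.projective ⟨φ, f.shortComplexKer.g, h2⟩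
    infer_instance
  | succ n ih =>
    intro M _ _ _ h
    obtain ⟨k, f, hf⟩ := Module.Finite.exists_fin' A M
    have hS : f.shortComplexKer.ShortExact := LinearMap.shortExact_shortComplexKer hf
    have hP : Projective f.shortComplexKer.X₂ :=
      inferInstanceAs (Projective (ModuleCat.of A (Fin k → A)))
    have hK : HasProjectiveDimensionLT (ModuleCat.of A (LinearMap.ker f)) (n + 1) := by
      apply ih
      intro I
      have := h I
      suffices ∀ x : Ext (ModuleCat.of A (LinearMap.ker f))
          (ModuleCat.of A (A ⧸ I)) (n + 1), x = 0 from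
        ⟨fun x y => by rw [this x, this y]⟩
      intro x
      obtain ⟨x₂, rfl⟩ := Ext.contravariant_sequence_exact₁ hS (ModuleCat.of A (A ⧸ I)) x
        (n₁ := n + 1 + 1) (add_comm 1 (n + 1)) (Subsingleton.elim _ _)
      rw [x₂.eq_zero_of_projective, Ext.comp_zero]
    exact (hS.hasProjectiveDimensionLT_X₃_iff n hP).2 hK

/-- Let A be a Noetherian ring, M a finitely generated A-module and n ≥ 0. Then M has projective
dimension at most n if and only if Ext^(n+1)_A(M, N) = 0 for every monogenous A-module N, i.e. every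
N = A/I with I an ideal. -/
theorem result (A : Type u) [CommRing A] [IsNoetherianRing A]
    (M : Type u) [AddCommGroup M] [Module A M] [Module.Finite A M] (n : ℕ) :
    HasProjectiveDimensionLT (ModuleCat.of A M) (n + 1) ↔
      ∀ I : Ideal A, Subsingleton (Abelian.Ext (ModuleCat.of A M) (ModuleCat.of A (A ⧸ I)) (n + 1)) := by
  constructor
  · intro h I
    exact HasProjectiveDimensionLT.subsingleton (ModuleCat.of A M) (n + 1) (n + 1) le_rfl _
  · exact main A n M

end Groth.Agent.S5789
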