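import Groth.Statements.S5791
import Mathlib

set_option autoImplicit false
universe u
open CategoryTheory
open EGA41

namespace Groth.Agent.S5791

/-- Let A be a Noetherian ring and M a finitely generated A-module. The projective dimension of M is the
supremum over the prime ideals p of the projective dimensions of M_p over A_p; equivalently, for
every n, M has projective dimension at most n if and only if every M_p has projective dimension at
most n over A_p. -/
theorem result (A : Type u) [CommRing A] [IsNoetherianRing A]
    (M : Type u) [AddCommGroup M] [Module A M] [Module.Finite A M] (n : ℕ) :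
    HasProjectiveDimensionLT (ModuleCat.of A M) (n + 1) ↔
      ∀ p : PrimeSpectrum A, HasProjectiveDimensionLT
        (ModuleCat.of (Localization.AtPrime p.asIdeal) (LocalizedModule p.asIdeal.primeCompl M)) (n + 1) := by
  let Mc : ModuleCat.{u} A := ModuleCat.of A M
  have hfinM : Module.Finite A Mc := ‹Module.Finite A M›
  have key := ModuleCat.hasProjectiveDimensionLE_iff_forall_primeSpectrum n Mc
  have conv : ∀ p : PrimeSpectrum A,
      HasProjectiveDimensionLE (Mc.localizedModule p.1.primeCompl) n ↔
      HasProjectiveDimensionLE (ModuleCat.of (Localization p.asIdeal.primeCompl)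
        (LocalizedModule p.asIdeal.primeCompl M)) n := by
    intro p
    have e : (Mc.localizedModule p.1.primeCompl) ≃ₗ[Localization p.asIdeal.primeCompl]
        (ModuleCat.of (Localization p.asIdeal.primeCompl)
          (LocalizedModule p.asIdeal.primeCompl M)) :=
      Shrink.linearEquiv (Localization p.asIdeal.primeCompl) (LocalizedModule p.asIdeal.primeCompl M)
    exact ⟨fun h => ModuleCat.hasProjectiveDimensionLE_of_linearEquiv e n,
      fun h => ModuleCat.hasProjectiveDimensionLE_of_linearEquiv e.symm n⟩
  show HasProjectiveDimensionLE Mc n ↔ ∀ p : PrimeSpectrum A,
      HasProjectiveDimensionLE (ModuleCat.of (Localization p.asIdeal.primeCompl)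
        (LocalizedModule p.asIdeal.primeCompl M)) n
  rw [key]
  exact forall_congr' conv


end Groth.Agent.S5791
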