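import Groth.Statements.S5793
import Groth.Agent.Lib.Helper3.TopDim

set_option autoImplicit false
universe u
open TopDim

namespace Groth.Agent.S5793

/-- Let X be a Noetherian Kolmogoroff space. Then dim(X) = sup dim_x(X), the supremum being over the
closed points x of X only. -/
theorem result (X : Type u) [TopologicalSpace X]
    [TopologicalSpace.NoetherianSpace X] [T0Space X] :
    topologicalKrullDim X = ⨆ x ∈ {x : X | IsClosed ({x} : Set X)}, FlatMor.localDim X x := by
  apply le_antisymm
  · unfold topologicalKrullDim
    rw [Order.krullDim_eq_iSup_coheight]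
    apply iSup_le
    intro Z
    obtain ⟨x, hx, hxc⟩ := Z.isClosed.exists_closed_singleton Z.isIrreducible.nonempty
    refine le_trans (Groth.Agent.Lib.helper3.TopDim.coheight_le_localDim Z hx) ?_
    exact le_iSup₂ (f := fun (x : X) (_ : x ∈ {x : X | IsClosed ({x} : Set X)}) => FlatMor.localDim X x) x hxc
  · exact iSup₂_le fun x _ => Groth.Agent.Lib.helper3.TopDim.localDim_le_dim x

end Groth.Agent.S5793
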