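import Groth.Statements.S5795
import Groth.Agent.Lib.Helper3.TopDim

set_option autoImplicit false
universe u
open TopDim

namespace Groth.Agent.S5795

/-- Let X be a Noetherian Kolmogoroff space and x a point of X. Then x is isolated in X if and only if
dim_x(X) = 0. -/
theorem result (X : Type u) [TopologicalSpace X]
    [TopologicalSpace.NoetherianSpace X] [T0Space X] (x : X) :
    IsOpen ({x} : Set X) ↔ FlatMor.localDim X x = 0 := by
  constructor
  · intro h
    apply le_antisymm
    · unfold FlatMor.localDim
      refine le_trans (iInf_le _ ⟨⟨{x}, h⟩, rfl⟩) ?_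
      change topologicalKrullDim (({x} : Set X)) ≤ 0
      exact topologicalKrullDim_zero_of_discreteTopology _
    · unfold FlatMor.localDim
      apply le_iInf
      rintro ⟨U, hxU⟩
      have : Nonempty (U.1 : Set X) := ⟨⟨x, hxU⟩⟩
      exact Groth.Agent.Lib.helper3.TopDim.dim_nonneg
  · intro h
    obtain ⟨U, hxU, hU⟩ := Groth.Agent.Lib.helper3.TopDim.exists_open_dim_eq_localDim x
    rw [h] at hU
    obtain ⟨-, hd⟩ := Groth.Agent.Lib.helper3.TopDim.finite_discrete_of_dim_le_zero
      (X := (U.1 : Set X)) hU.le
    have := U.isOpen.isOpenMap_subtype_val _ (isOpen_discrete ({⟨x, hxU⟩} : Set (U.1 : Set X)))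
    simpa using this

end Groth.Agent.S5795
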