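import Groth.Statements.S5796
-- import your own Groth.Agent.* helpers here

set_option autoImplicit false
universe u
open TopDim

namespace Groth.Agent.S5796

/-- For any topological space X, the function x ↦ dim_x(X) is upper semicontinuous on X. -/
theorem result (X : Type u) [TopologicalSpace X] :
    UpperSemicontinuous fun x : X => FlatMor.localDim X x := by
  rw [upperSemicontinuous_iff]
  intro x
  rw [upperSemicontinuousAt_iff]
  intro y hy
  unfold FlatMor.localDim at hy
  rw [iInf_lt_iff] at hy
  obtain ⟨⟨U, hxU⟩, hU⟩ := hy
  filter_upwards [U.isOpen.mem_nhds hxU] with x' hx'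
  refine lt_of_le_of_lt ?_ hU
  exact iInf_le (fun V : {V : TopologicalSpace.Opens X // x' ∈ V} => topologicalKrullDim (V.1 : Set X)) ⟨U, hx'⟩

end Groth.Agent.S5796
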