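import Groth.Statements.S5801
-- import your own Groth.Agent.* helpers here

set_option autoImplicit false
universe u
open scoped Pointwise
open EGA41

namespace Groth.Agent.S5801

/-- Let A be a ring, M an A-module and f ∈ A, and consider the canonical surjection (M/fM)[T] → gr(M)
for the (f)-adic filtration, whose injectivity says: for all k ≥ 0 and x ∈ M, f^k x ∈ f^(k+1) M
implies x ∈ fM. If f is M-regular this map is bijective; conversely, if it is bijective and M is
separated for the (f)-adic topology (the intersection of the f^k M is zero), then f is M-regular. -/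
theorem result (A : Type u) [CommRing A] (M : Type u)
    [AddCommGroup M] [Module A M] (f : A) :
    (IsSMulRegular M f →
        ∀ (k : ℕ) (x : M), f ^ k • x ∈ f ^ (k + 1) • (⊤ : Submodule A M) → x ∈ f • (⊤ : Submodule A M)) ∧
      ((⨅ k : ℕ, f ^ k • (⊤ : Submodule A M)) = ⊥ →
        (∀ (k : ℕ) (x : M), f ^ k • x ∈ f ^ (k + 1) • (⊤ : Submodule A M) → x ∈ f • (⊤ : Submodule A M)) →
          IsSMulRegular M f) := by
  constructor
  · intro hreg k x hx
    rw [Submodule.mem_smul_pointwise_iff_exists] at hx ⊢
    obtain ⟨m, -, hm⟩ := hx
    refine ⟨m, Submodule.mem_top, ?_⟩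
    have h1 : f ^ k • (f • m) = f ^ k • x := by
      rw [← hm, smul_smul, pow_succ]
    exact (hreg.pow k) h1
  · intro hsep hcrit x y hxy
    -- reduce to `f • z = 0 → z = 0`
    have key : ∀ z : M, f • z = 0 → z = 0 := by
      intro z hz
      have hmem : ∀ k : ℕ, z ∈ f ^ k • (⊤ : Submodule A M) := by
        intro k
        induction k with
        | zero => simp
        | succ k ih =>
          rw [Submodule.mem_smul_pointwise_iff_exists] at ih
          obtain ⟨w, -, hw⟩ := ih
          have h1 : f ^ (k + 1) • w ∈ f ^ (k + 1 + 1) • (⊤ : Submodule A M) := by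
            have : f ^ (k + 1) • w = 0 := by
              rw [pow_succ', mul_smul, hw, hz]
            rw [this]
            exact Submodule.zero_mem _
          have h2 := hcrit (k + 1) w h1
          rw [Submodule.mem_smul_pointwise_iff_exists] at h2 ⊢
          obtain ⟨v, -, hv⟩ := h2
          refine ⟨v, Submodule.mem_top, ?_⟩
          rw [pow_succ, mul_smul, hv, hw]
      have : z ∈ (⨅ k : ℕ, f ^ k • (⊤ : Submodule A M)) := by
        rw [Submodule.mem_iInf]
        exact hmem
      rw [hsep] at this
      simpa using this
    have h := key (x - y) (by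
      change f • x = f • y at hxy
      rw [smul_sub, hxy, sub_self])
    exact sub_eq_zero.mp h


end Groth.Agent.S5801
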