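import Groth.Statements.S5806
import Mathlib.RingTheory.Flat.Equalizer
import Mathlib.RingTheory.Flat.Stability

set_option autoImplicit false
universe u
open EGA41

namespace Groth.Agent.S5806

open TensorProduct in
/-- Let A be a ring, B a commutative A-algebra, (f_i)_{1 ≤ i ≤ n} elements of B and M a B-module.
Suppose (f_i) is M-regular and each of the A-modules M/(f_1 M + ... + f_i M), 0 ≤ i ≤ n, is flat.
Then for every ring homomorphism A → A', writing M' = M ⊗_A A' and f'_i = f_i ⊗ 1, the sequence
(f'_i) is M'-regular and the A'-modules M'/(f'_1 M' + ... + f'_{i-1} M') are flat: concretely,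
identifying M'/(f'_1 M' + ... + f'_{i-1} M') with A' ⊗_A (M/(f_1 M + ... + f_{i-1} M)),
multiplication by f_i on the latter is injective and the latter is A'-flat, for 1 ≤ i ≤ n. (The
published hypothesis lists only the flatness of M/(f_1 M + ... + f_{i-1} M) for 1 ≤ i ≤ n, omitting
M/(f_1 M + ... + f_n M); with that omission the case n = 1, A = B = k[t], M = k[t], f_1 = t, A' =
k[t]/(t) fails, since t acts as zero on k ⊗_A M = k, and the published proof uses the flatness of
M/(f_1 M + ... + f_i M) for every i ≤ n; so flatness of all these quotients is assumed here.) -/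
theorem result (A B : Type u) [CommRing A]
    [CommRing B] [Algebra A B] (M : Type u) [AddCommGroup M] [Module B M] [Module A M] [IsScalarTower A B M]
    (fs : List B) (hreg : RingTheory.Sequence.IsWeaklyRegular M fs)
    (hflat : ∀ i : ℕ, i ≤ fs.length → Module.Flat A (M ⧸ (Ideal.ofList (fs.take i) • (⊤ : Submodule B M))))
    (A' : Type u) [CommRing A'] [Algebra A A'] (i : Fin fs.length) :
    Function.Injective (LinearMap.lTensor A'
        (((LinearMap.lsmul B (M ⧸ (Ideal.ofList (fs.take i) • (⊤ : Submodule B M)))) (fs.get i)).restrictScalars A)) ∧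
      Module.Flat A' (A' ⊗[A] (M ⧸ (Ideal.ofList (fs.take i) • (⊤ : Submodule B M)))) := by
  have hfl : Module.Flat A (M ⧸ (Ideal.ofList (fs.take i) • (⊤ : Submodule B M))) :=
    hflat i i.2.le
  refine ⟨?_, inferInstance⟩
  have hfl' : Module.Flat A (M ⧸ (Ideal.ofList (fs.take (i + 1)) • (⊤ : Submodule B M))) :=
    hflat (i + 1) i.2
  -- the ideals
  have htake : Ideal.ofList (fs.take (i + 1)) =
      Ideal.ofList (fs.take i) ⊔ Ideal.span {fs.get i} := by
    rw [List.take_succ_eq_append_getElem i.2, Ideal.ofList_append, Ideal.ofList_singleton]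
    rfl
  have hle : (Ideal.ofList (fs.take i) • (⊤ : Submodule B M)) ≤
      (Ideal.ofList (fs.take (i + 1)) • (⊤ : Submodule B M)) := by
    rw [htake]
    exact Submodule.smul_mono_left le_sup_left
  -- the surjection
  let q : (M ⧸ (Ideal.ofList (fs.take i) • (⊤ : Submodule B M))) →ₗ[B]
      (M ⧸ (Ideal.ofList (fs.take (i + 1)) • (⊤ : Submodule B M))) :=
    Submodule.mapQ _ _ LinearMap.id (by simpa using hle)
  have hq : Function.Surjective (q.restrictScalars A) := by
    intro y
    obtain ⟨m, rfl⟩ := Submodule.Quotient.mk_surjective _ y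
    exact ⟨Submodule.Quotient.mk m, rfl⟩
  have hinj : Function.Injective
      (((LinearMap.lsmul B (M ⧸ (Ideal.ofList (fs.take i) • (⊤ : Submodule B M))))
        (fs.get i)).restrictScalars A) := by
    have := hreg.regular_mod_prev i i.2
    exact this
  have hex : Function.Exact
      (((LinearMap.lsmul B (M ⧸ (Ideal.ofList (fs.take i) • (⊤ : Submodule B M))))
        (fs.get i)).restrictScalars A) (q.restrictScalars A) := by
    intro y
    constructor
    · intro hy
      obtain ⟨m, rfl⟩ := Submodule.Quotient.mk_surjective _ y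
      have h1 : m ∈ (Ideal.ofList (fs.take (i + 1)) • (⊤ : Submodule B M)) := by
        have : Submodule.Quotient.mk (p := (Ideal.ofList (fs.take (i + 1)) •
            (⊤ : Submodule B M))) m = 0 := hy
        exact (Submodule.Quotient.mk_eq_zero _).1 this
      rw [htake, Submodule.sup_smul, Submodule.ideal_span_singleton_smul] at h1
      obtain ⟨a, ha, b, hb, rfl⟩ := Submodule.mem_sup.1 h1
      obtain ⟨m', -, rfl⟩ := (Submodule.mem_smul_pointwise_iff_exists _ _ _).1 hb
      refine ⟨Submodule.Quotient.mk m', ?_⟩
      change fs.get i • Submodule.Quotient.mk (p := (Ideal.ofList (fs.take i) •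
            (⊤ : Submodule B M))) m' = Submodule.Quotient.mk (p := (Ideal.ofList (fs.take i) •
            (⊤ : Submodule B M))) (a + fs.get i • m')
      rw [Submodule.Quotient.mk_add, (Submodule.Quotient.mk_eq_zero _).2 ha, zero_add]
      rfl
    · rintro ⟨z, rfl⟩
      obtain ⟨m, rfl⟩ := Submodule.Quotient.mk_surjective _ z
      change Submodule.Quotient.mk (p := (Ideal.ofList (fs.take (i + 1)) •
            (⊤ : Submodule B M))) (fs.get i • m) = 0
      rw [Submodule.Quotient.mk_eq_zero, htake]
      exact Submodule.smul_mem_smul (Ideal.mem_sup_right (Ideal.subset_span rfl))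
        Submodule.mem_top
  exact LinearMap.lTensor_injective_of_exact_of_flat (q.restrictScalars A) hq _ hinj hex A'

end Groth.Agent.S5806
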