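import Groth.Statements.S5808
import Mathlib

set_option autoImplicit false
universe u
open EGA41

namespace Groth.Agent.S5808

variable {A : Type u} [CommRing A]

/-- A list is good if every non-maximal minimal prime over it has height its length. -/
def Good (L : List A) : Prop :=
  ∀ 𝔭 ∈ (Ideal.ofList L).minimalPrimes, ¬ 𝔭.IsMaximal → 𝔭.height = L.length

/-- Prime avoidance for a finite set of primes. -/
lemma exists_mem_forall_notMem (S : Set (Ideal A)) (hS : S.Finite) (hSp : ∀ 𝔭 ∈ S, 𝔭.IsPrime)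
    (b : Ideal A) (hb : ∀ 𝔭 ∈ S, ¬ b ≤ 𝔭) : ∃ x ∈ b, ∀ 𝔭 ∈ S, x ∉ 𝔭 := by
  by_contra hcon
  push Not at hcon
  have hsub : (b : Set A) ⊆ ⋃ 𝔭 ∈ (hS.toFinset : Set (Ideal A)), (𝔭 : Set A) := by
    intro x hx
    obtain ⟨𝔭, h𝔭, hx𝔭⟩ := hcon x hx
    simp only [Set.mem_iUnion]
    exact ⟨𝔭, by simpa using h𝔭, hx𝔭⟩
  obtain ⟨𝔭, h𝔭, hle⟩ := (Ideal.subset_union_prime (s := hS.toFinset) (f := fun 𝔭 : Ideal A => 𝔭)
    (⊤ : Ideal A) ⊤ (fun i hi _ _ => hSp i (by simpa using hi))).1 hsub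
  exact hb 𝔭 (by simpa using h𝔭) hle

lemma good_cons [IsNoetherianRing A] (L : List A) (hL : Good L) (b : Ideal A)
    (hb : ∀ 𝔭 ∈ (Ideal.ofList L).minimalPrimes, ¬ 𝔭.IsMaximal → ¬ b ≤ 𝔭) :
    ∃ x ∈ b, Good (x :: L) := by
  classical
  obtain ⟨x, hxb, hx⟩ := exists_mem_forall_notMem
    {𝔭 | 𝔭 ∈ (Ideal.ofList L).minimalPrimes ∧ ¬ 𝔭.IsMaximal}
    ((Ideal.finite_minimalPrimes_of_isNoetherianRing A _).subset (fun _ h => h.1))
    (fun 𝔭 h => h.1.1.1) b (fun 𝔭 h => hb 𝔭 h.1 h.2)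
  refine ⟨x, hxb, ?_⟩
  intro 𝔮 h𝔮 h𝔮max
  have : 𝔮.IsPrime := h𝔮.1.1
  have hub : 𝔮.height ≤ (L.length + 1 : ℕ) := by
    have h1 : 𝔮 ∈ (Ideal.span ((x :: L).toFinset : Set A)).minimalPrimes := by
      have : ((x :: L).toFinset : Set A) = {r | r ∈ x :: L} := by
        ext; simp
      rw [this]; exact h𝔮
    refine (Ideal.height_le_card_of_mem_minimalPrimes_span_finset h1).trans ?_
    exact_mod_cast (List.toFinset_card_le (x :: L))
  have hle : Ideal.ofList L ≤ 𝔮 := by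
    refine le_trans ?_ h𝔮.1.2
    rw [Ideal.ofList_cons]; exact le_sup_right
  obtain ⟨𝔭, h𝔭, h𝔭𝔮⟩ := Ideal.exists_minimalPrimes_le hle
  have : 𝔭.IsPrime := h𝔭.1.1
  have h𝔭max : ¬ 𝔭.IsMaximal := by
    intro hmax
    have : 𝔭 = 𝔮 := hmax.eq_of_le (Ideal.IsPrime.ne_top ‹_›) h𝔭𝔮
    exact h𝔮max (this ▸ hmax)
  have hx𝔭 : x ∉ 𝔭 := hx 𝔭 ⟨h𝔭, h𝔭max⟩
  have hx𝔮 : x ∈ 𝔮 := h𝔮.1.2 (by
    rw [Ideal.ofList_cons]; exact Ideal.mem_sup_left (Ideal.mem_span_singleton_self x))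
  have hlt : 𝔭 < 𝔮 := lt_of_le_of_ne h𝔭𝔮 (fun e => hx𝔭 (e ▸ hx𝔮))
  have h2 := Ideal.height_add_one_le_of_lt_of_isPrime hlt
  rw [hL 𝔭 h𝔭 h𝔭max] at h2
  simp only [List.length_cons]
  exact le_antisymm hub (by exact_mod_cast h2)

lemma not_jacobson_le [Finite (MaximalSpectrum A)] (𝔭 : Ideal A) [𝔭.IsPrime]
    (h : ¬ 𝔭.IsMaximal) : ¬ Ring.jacobson A ≤ 𝔭 := by
  intro hle
  rw [Ring.jacobson_eq_sInf_isMaximal] at hle
  have := Fintype.ofFinite (MaximalSpectrum A)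
  have h1 : (Finset.univ.inf fun m : MaximalSpectrum A => m.asIdeal) ≤ 𝔭 := by
    refine le_trans ?_ hle
    refine le_sInf fun I hI => ?_
    exact Finset.inf_le (f := fun m : MaximalSpectrum A => m.asIdeal) (Finset.mem_univ ⟨I, hI⟩)
  obtain ⟨m, -, hm⟩ := (Ideal.IsPrime.inf_le' ‹_›).1 h1
  have : m.asIdeal = 𝔭 := m.isMaximal.eq_of_le (Ideal.IsPrime.ne_top ‹_›) hm
  exact h (this ▸ m.isMaximal)

lemma phase1 [IsNoetherianRing A] [Finite (MaximalSpectrum A)] (a : Ideal A) (h : ℕ)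
    (hh : a.height = h) :
    ∀ j ≤ h, ∃ L : List A, L.length = j ∧ (∀ x ∈ L, x ∈ a ∧ x ∈ Ring.jacobson A) ∧ Good L := by
  intro j
  induction j with
  | zero =>
    intro _
    refine ⟨[], rfl, by simp, ?_⟩
    intro 𝔭 h𝔭 _
    have := h𝔭.1.1
    rw [Ideal.ofList_nil] at h𝔭
    simpa using Ideal.height_eq_zero_iff.2 h𝔭
  | succ j ih =>
    intro hj
    obtain ⟨L, hlen, hmem, hgood⟩ := ih (by omega)
    obtain ⟨x, hx, hgood'⟩ := good_cons L hgood (a ⊓ Ring.jacobson A) (by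
      intro 𝔭 h𝔭 h𝔭max hle
      have := h𝔭.1.1
      have h1 : a * Ring.jacobson A ≤ 𝔭 := Ideal.mul_le_inf.trans hle
      rcases (Ideal.IsPrime.mul_le ‹_›).1 h1 with h2 | h2
      · have h3 := Ideal.height_mono h2
        rw [hh, hgood 𝔭 h𝔭 h𝔭max, hlen] at h3
        have : h ≤ j := by exact_mod_cast h3
        omega
      · exact not_jacobson_le 𝔭 h𝔭max h2)
    refine ⟨x :: L, by simp [hlen], ?_, hgood'⟩
    intro y hy
    rcases List.mem_cons.1 hy with rfl | hy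
    · exact ⟨hx.1, hx.2⟩
    · exact hmem y hy

lemma phase2 [IsNoetherianRing A] [Finite (MaximalSpectrum A)] (d : ℕ)
    (hd : ringKrullDim A = d) :
    ∀ (n : ℕ) (L : List A), Good L → L.length + n = d →
      ∃ ys : List A, ys.length = n ∧ (∀ y ∈ ys, y ∈ Ring.jacobson A) ∧
        ∀ 𝔭 ∈ (Ideal.ofList (ys ++ L)).minimalPrimes, 𝔭.IsMaximal := by
  intro n
  induction n with
  | zero =>
    intro L hL hlen
    refine ⟨[], rfl, by simp, ?_⟩
    intro 𝔭 h𝔭
    by_contra hmax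
    have := h𝔭.1.1
    rw [List.nil_append] at h𝔭
    have h1 := hL 𝔭 h𝔭 hmax
    obtain ⟨m, hm, h𝔭m⟩ := Ideal.exists_le_maximal 𝔭 (Ideal.IsPrime.ne_top ‹_›)
    have hlt : 𝔭 < m := lt_of_le_of_ne h𝔭m (fun e => hmax (e ▸ hm))
    have := hm.isPrime
    have h2 := Ideal.height_add_one_le_of_lt_of_isPrime hlt
    have h3 : (m.height : WithBot ℕ∞) ≤ ringKrullDim A := Ideal.height_le_ringKrullDim_of_isPrime
    rw [hd] at h3
    have h4 : m.height ≤ (d : ℕ∞) := by exact_mod_cast h3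
    rw [h1] at h2
    have h5 : ((L.length + 1 : ℕ) : ℕ∞) ≤ d := by push_cast; exact h2.trans h4
    have : L.length + 1 ≤ d := by exact_mod_cast h5
    omega
  | succ n ih =>
    intro L hL hlen
    obtain ⟨x, hx, hgood⟩ := good_cons L hL (Ring.jacobson A) (fun 𝔭 h𝔭 hmax => by
      have := h𝔭.1.1; exact not_jacobson_le 𝔭 hmax)
    obtain ⟨ys, hys, hmem, hall⟩ := ih (x :: L) hgood (by simp only [List.length_cons]; omega)
    refine ⟨ys ++ [x], by simp [hys], ?_, ?_⟩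
    · intro y hy
      rcases List.mem_append.1 hy with hy | hy
      · exact hmem y hy
      · rw [List.mem_singleton] at hy; exact hy ▸ hx
    · rw [List.append_assoc, List.singleton_append]; exact hall

lemma exists_dim [IsNoetherianRing A] [Finite (MaximalSpectrum A)] [Nontrivial A] :
    ∃ d : ℕ, ringKrullDim A = d := by
  rw [← Ideal.sup_isMaximal_height_eq_ringKrullDim]
  have hne : (⨆ (I : Ideal A) (_ : I.IsMaximal), I.height) ≠ ⊤ := by
    have := Fintype.ofFinite (MaximalSpectrum A)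
    have h1 : (⨆ (I : Ideal A) (_ : I.IsMaximal), I.height) ≤
        Finset.univ.sup (fun m : MaximalSpectrum A => m.asIdeal.height) := by
      refine iSup₂_le fun I hI => ?_
      exact Finset.le_sup (f := fun m : MaximalSpectrum A => m.asIdeal.height)
        (Finset.mem_univ ⟨I, hI⟩)
    have h2 : Finset.univ.sup (fun m : MaximalSpectrum A => m.asIdeal.height) < ⊤ := by
      rw [Finset.sup_lt_iff (by simp)]
      intro m _
      exact Ideal.height_lt_top m.isMaximal.ne_top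
    exact (h1.trans_lt h2).ne
  obtain ⟨d, hd⟩ := ENat.ne_top_iff_exists.1 hne
  exact ⟨d, by rw [← hd]; rfl⟩

lemma isFiniteLength_quot [IsNoetherianRing A] (J : Ideal A)
    (hJ : ∀ 𝔭 ∈ J.minimalPrimes, 𝔭.IsMaximal) : IsFiniteLength A (A ⧸ J) := by
  rw [isFiniteLength_iff_isNoetherian_isArtinian]
  refine ⟨inferInstance, ?_⟩
  have : Ring.KrullDimLE 0 (A ⧸ J) :=
    Ideal.krullDimLE_zero_quotient_iff_forall_minimalPrimes_isMaximal.2 hJ
  have : IsArtinianRing (A ⧸ J) := isArtinianRing_iff_krullDimLE_zero.2 inferInstance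
  exact isArtinian_of_surjective_algebraMap (R := A ⧸ J) (S := A) (M := A ⧸ J)
    Ideal.Quotient.mk_surjective

/-- Let A be a semi-local Noetherian ring with spectrum X and Jacobson radical r, and a an ideal of A
distinct from A with codim(V(a), X) = h > 0 (h is the height of a). Then there exist h elements x_1,
..., x_h of a which are part of a system of parameters of A (so lie in r and can be completed by
elements of r to dim(A) elements generating an ideal modulo which A has finite length) and such that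
codim(V(a), V(x_1 A + ... + x_h A)) = 0, i.e. the image of a in A/(x_1 A + ... + x_h A) has height
0. -/
theorem result (A : Type u) [CommRing A] [IsNoetherianRing A]
    [Finite (MaximalSpectrum A)] (a : Ideal A) (ha : a ≠ ⊤) (h : ℕ) (hh : a.height = h) (hpos : 0 < h) :
    ∃ x : Fin h → A, (∀ i, x i ∈ a) ∧ (∀ i, x i ∈ Ring.jacobson A) ∧
      (∃ ys : List A, (∀ y ∈ ys, y ∈ Ring.jacobson A) ∧
        (((h + ys.length : ℕ) : ℕ∞) : WithBot ℕ∞) = ringKrullDim A ∧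
        IsFiniteLength A (A ⧸ (Ideal.span (Set.range x) ⊔ Ideal.ofList ys))) ∧
      (a.map (Ideal.Quotient.mk (Ideal.span (Set.range x)))).height = 0 := by
  classical
  have : Nontrivial A := by
    by_contra hnt
    rw [not_nontrivial_iff_subsingleton] at hnt
    exact ha (Subsingleton.elim _ _)
  obtain ⟨d, hd⟩ := exists_dim (A := A)
  -- h ≤ d
  have hhd : h ≤ d := by
    have h1 := Ideal.height_le_ringKrullDim_of_ne_top ha
    rw [hh, hd] at h1
    exact_mod_cast h1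
  obtain ⟨xs, hlen, hmem, hgood⟩ := phase1 a h hh h le_rfl
  obtain ⟨ys, hys, hysmem, hall⟩ := phase2 d hd (d - h) xs hgood (by omega)
  subst hlen
  have hrange : Set.range xs.get = {y | y ∈ xs} := Set.range_list_get xs
  refine ⟨xs.get, fun i => (hmem _ (List.get_mem xs i)).1,
    fun i => (hmem _ (List.get_mem xs i)).2, ⟨ys, hysmem, ?_, ?_⟩, ?_⟩
  · rw [hd, hys]
    have : xs.length + (d - xs.length) = d := by omega
    rw [this]; rfl
  · rw [hrange]
    have : Ideal.span {y | y ∈ xs} ⊔ Ideal.ofList ys = Ideal.ofList (ys ++ xs) := by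
      rw [Ideal.ofList_append, sup_comm]
    rw [this]
    exact isFiniteLength_quot _ hall
  · rw [hrange]
    obtain ⟨𝔮, h𝔮p, ha𝔮, h𝔮h⟩ := Ideal.exists_isPrime_height_eq hh
    have hxa : Ideal.ofList xs ≤ a := Ideal.span_le.2 fun y hy => (hmem y hy).1
    obtain ⟨𝔭, h𝔭, h𝔭𝔮⟩ := Ideal.exists_minimalPrimes_le (hxa.trans ha𝔮)
    have : 𝔭.IsPrime := h𝔭.1.1
    have he : 𝔭 = 𝔮 := by
      by_cases hmax : 𝔭.IsMaximal
      · exact hmax.eq_of_le (Ideal.IsPrime.ne_top ‹_›) h𝔭𝔮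
      · refine Ideal.eq_of_le_of_height_le (I := 𝔭) (J := 𝔮) h𝔭𝔮 ?_
        rw [hgood 𝔭 h𝔭 hmax, h𝔮h]
    subst he
    rw [Ideal.minimalPrimes_eq_comap] at h𝔭
    obtain ⟨P, hP, rfl⟩ := h𝔭
    have : P.IsPrime := hP.1.1
    have hP0 : P.height = 0 := Ideal.height_eq_zero_iff.2 hP
    have hle : a.map (Ideal.Quotient.mk (Ideal.ofList xs)) ≤ P := Ideal.map_le_iff_le_comap.2 ha𝔮
    exact le_antisymm (hP0 ▸ Ideal.height_mono hle) zero_le

end Groth.Agent.S5808
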