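import Groth.Statements.S5810
import Groth.Agent.S0542
import Groth.Agent.Lib.Helper24.FlatDepth9
-- import your own Groth.Agent.* helpers here

set_option autoImplicit false
universe u
open EGA41

namespace Groth.Agent.S5810

/-- Let A be a Noetherian local ring with maximal ideal m and M a finitely generated A-module; write Â
and M̂ for the m-adic completions. Then prof_A(M) = prof_Â(M̂). -/
theorem result (A : Type u) [CommRing A] [IsLocalRing A] [IsNoetherianRing A] (M : Type u)
    [AddCommGroup M] [Module A M] [Module.Finite A M] :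
    LocCoh.depth (AdicCompletion (IsLocalRing.maximalIdeal A) A) (AdicCompletion (IsLocalRing.maximalIdeal A) M) =
      LocCoh.depth A M := by
  haveI hN : IsNoetherianRing (AdicCompletion (IsLocalRing.maximalIdeal A) A) :=
    Groth.Agent.S0542.result A (IsLocalRing.maximalIdeal A)
      (IsLocalRing.maximalIdeal A).fg_of_isNoetherianRing
  have hm : (IsLocalRing.maximalIdeal A).map
      (algebraMap A (AdicCompletion (IsLocalRing.maximalIdeal A) A)) =
      IsLocalRing.maximalIdeal (AdicCompletion (IsLocalRing.maximalIdeal A) A) :=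
    AdicCompletion.maximalIdeal_eq_map.symm
  have e := AdicCompletion.ofTensorProductEquivOfFiniteNoetherian (IsLocalRing.maximalIdeal A) M
  have h1 : LocCoh.depth (AdicCompletion (IsLocalRing.maximalIdeal A) A)
      (AdicCompletion (IsLocalRing.maximalIdeal A) M) =
      LocCoh.depth (AdicCompletion (IsLocalRing.maximalIdeal A) A)
        (TensorProduct A (AdicCompletion (IsLocalRing.maximalIdeal A) A) M) :=
    (Groth.Agent.Lib.helper26.Depth.idealDepth_congr
      (I := IsLocalRing.maximalIdeal (AdicCompletion (IsLocalRing.maximalIdeal A) A)) e).symm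
  rw [h1]
  apply Groth.Agent.Lib.Helper24.FlatDepth.depth_tensor_of_isFiniteLength A
    (AdicCompletion (IsLocalRing.maximalIdeal A) A) (AdicCompletion (IsLocalRing.maximalIdeal A) A)
  rw [hm]
  have hsm : IsLocalRing.maximalIdeal (AdicCompletion (IsLocalRing.maximalIdeal A) A) •
      (⊤ : Submodule (AdicCompletion (IsLocalRing.maximalIdeal A) A)
        (AdicCompletion (IsLocalRing.maximalIdeal A) A)) =
      IsLocalRing.maximalIdeal (AdicCompletion (IsLocalRing.maximalIdeal A) A) := by
    rw [smul_eq_mul, Ideal.mul_top]
  rw [hsm]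
  haveI : IsSimpleModule (AdicCompletion (IsLocalRing.maximalIdeal A) A)
      (AdicCompletion (IsLocalRing.maximalIdeal A) A ⧸
        IsLocalRing.maximalIdeal (AdicCompletion (IsLocalRing.maximalIdeal A) A)) :=
    isSimpleModule_iff_quot_maximal.mpr ⟨_, IsLocalRing.maximalIdeal.isMaximal _,
      ⟨LinearEquiv.refl _ _⟩⟩
  rw [isFiniteLength_iff_isNoetherian_isArtinian]
  exact ⟨inferInstance, inferInstance⟩

end Groth.Agent.S5810
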