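import Groth.Statements.S5814
import Mathlib
-- import your own Groth.Agent.* helpers here

set_option autoImplicit false
universe u
open EGA41

namespace Groth.Agent.S5814

section helpers
attribute [local instance] Exal.opModule Exal.isCentralScalar_opModule

section
variable {B : Type u} [CommRing B] (J : Ideal B)
    {M : Type u} [AddCommGroup M] [Module (B ⧸ J) M] [Module B M] [IsScalarTower B (B ⧸ J) M]
    (w : J.Cotangent →ₗ[B] M)

theorem smul_eq_zero_of_mem {b : B} (hb : b ∈ J) (m : M) : b • m = 0 := by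
  rw [← algebraMap_smul (B ⧸ J) b m, Ideal.Quotient.algebraMap_eq,
    Ideal.Quotient.eq_zero_iff_mem.mpr hb, zero_smul]

/-- the ideal `{(j, -w j)}` of `B ⊕ M` -/
def graphIdeal : Ideal (TrivSqZeroExt B M) where
  carrier := {t | ∃ h : t.fst ∈ J, t.snd = -(w (J.toCotangent ⟨t.fst, h⟩))}
  zero_mem' := ⟨by simp, by
    have : (⟨(0 : TrivSqZeroExt B M).fst, by simp⟩ : J) = 0 := by
      apply Subtype.ext; simp
    rw [this, map_zero, map_zero, neg_zero]; rfl⟩
  add_mem' := by
    rintro t t' ⟨h, e⟩ ⟨h', e'⟩
    refine ⟨by rw [TrivSqZeroExt.fst_add]; exact J.add_mem h h', ?_⟩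
    have : (⟨(t + t').fst, by rw [TrivSqZeroExt.fst_add]; exact J.add_mem h h'⟩ : J) =
        ⟨t.fst, h⟩ + ⟨t'.fst, h'⟩ := by
      apply Subtype.ext; simp
    rw [this, map_add, map_add, TrivSqZeroExt.snd_add, e, e', neg_add]
  smul_mem' := by
    rintro s t ⟨h, e⟩
    have hm : (s • t).fst ∈ J := by
      rw [smul_eq_mul, TrivSqZeroExt.fst_mul]; exact J.mul_mem_left _ h
    refine ⟨hm, ?_⟩
    have : (⟨(s • t).fst, hm⟩ : J) = s.fst • ⟨t.fst, h⟩ := by
      apply Subtype.ext; simp
    rw [this, map_smul, map_smul, smul_eq_mul, TrivSqZeroExt.snd_mul, e, op_smul_eq_smul,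
      smul_eq_zero_of_mem J h, add_zero, smul_neg]

theorem mem_graphIdeal (t : TrivSqZeroExt B M) :
    t ∈ graphIdeal J w ↔ ∃ h : t.fst ∈ J, t.snd = -(w (J.toCotangent ⟨t.fst, h⟩)) := Iff.rfl

theorem graph_mem (z : J) :
    (TrivSqZeroExt.inl (z : B) - TrivSqZeroExt.inr (w (J.toCotangent z)) : TrivSqZeroExt B M) ∈
      graphIdeal J w := by
  rw [mem_graphIdeal]
  have h1 : (TrivSqZeroExt.inl (z : B) - TrivSqZeroExt.inr (w (J.toCotangent z)) :
      TrivSqZeroExt B M).fst = z := by simp
  refine ⟨by rw [h1]; exact z.2, ?_⟩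
  have : (⟨(TrivSqZeroExt.inl (z : B) - TrivSqZeroExt.inr (w (J.toCotangent z)) :
      TrivSqZeroExt B M).fst, by rw [h1]; exact z.2⟩ : J) = z := Subtype.ext h1
  rw [this]
  simp

/-- the extension -/
noncomputable def theExt : Exal.Ext B (B ⧸ J) M where
  E := TrivSqZeroExt B M ⧸ graphIdeal J w
  proj := Ideal.Quotient.liftₐ (graphIdeal J w)
    ((Ideal.Quotient.mkₐ B J).comp (TrivSqZeroExt.fstHom B B M)) (by
      rintro t ⟨h, -⟩
      exact Ideal.Quotient.eq_zero_iff_mem.mpr h)
  incl := (Ideal.Quotient.mk (graphIdeal J w) : TrivSqZeroExt B M →+* _).toAddMonoidHom.comp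
    (TrivSqZeroExt.inrHom B M).toAddMonoidHom
  isExtension :=
    { proj_surjective := fun b => by
        obtain ⟨b, rfl⟩ := Ideal.Quotient.mk_surjective b
        exact ⟨Ideal.Quotient.mk _ (TrivSqZeroExt.inl b), rfl⟩
      incl_injective := fun m m' h => by
        have h' : (Ideal.Quotient.mk (graphIdeal J w)) (TrivSqZeroExt.inr m) =
            (Ideal.Quotient.mk (graphIdeal J w)) (TrivSqZeroExt.inr m') := h
        rw [Ideal.Quotient.eq, ← TrivSqZeroExt.inr_sub, mem_graphIdeal] at h'
        obtain ⟨h0, e⟩ := h'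
        have : (⟨(TrivSqZeroExt.inr (m - m') : TrivSqZeroExt B M).fst, h0⟩ : J) = 0 := by
          apply Subtype.ext; simp
        rw [this, map_zero, map_zero, neg_zero, TrivSqZeroExt.snd_inr] at e
        exact sub_eq_zero.mp e
      exact := fun x => by
        obtain ⟨t, rfl⟩ := Ideal.Quotient.mk_surjective x
        have hproj : (Ideal.Quotient.liftₐ (graphIdeal J w)
            ((Ideal.Quotient.mkₐ B J).comp (TrivSqZeroExt.fstHom B B M)) (by
              rintro t ⟨h, -⟩
              exact Ideal.Quotient.eq_zero_iff_mem.mpr h)) (Ideal.Quotient.mk _ t) =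
            Ideal.Quotient.mk J t.fst := rfl
        rw [hproj, Ideal.Quotient.eq_zero_iff_mem]
        constructor
        · intro ht
          refine ⟨t.snd + w (J.toCotangent ⟨t.fst, ht⟩), ?_⟩
          change Ideal.Quotient.mk (graphIdeal J w)
            (TrivSqZeroExt.inr (t.snd + w (J.toCotangent ⟨t.fst, ht⟩))) = Ideal.Quotient.mk _ t
          rw [eq_comm, Ideal.Quotient.eq, mem_graphIdeal]
          have h1 : (t - TrivSqZeroExt.inr (t.snd + w (J.toCotangent ⟨t.fst, ht⟩))).fst = t.fst := by
            simp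
          refine ⟨by rw [h1]; exact ht, ?_⟩
          have : (⟨(t - TrivSqZeroExt.inr (t.snd + w (J.toCotangent ⟨t.fst, ht⟩))).fst,
              by rw [h1]; exact ht⟩ : J) = ⟨t.fst, ht⟩ := Subtype.ext h1
          rw [this]
          simp
        · rintro ⟨m, hm⟩
          have hm' : Ideal.Quotient.mk (graphIdeal J w) (TrivSqZeroExt.inr m) =
            Ideal.Quotient.mk _ t := hm
          rw [Ideal.Quotient.eq, mem_graphIdeal] at hm'
          obtain ⟨h0, -⟩ := hm'
          have : (TrivSqZeroExt.inr m - t).fst = -t.fst := by simp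
          rw [this] at h0
          exact neg_mem_iff.mp h0
      mul_incl := fun x z => by
        obtain ⟨t, rfl⟩ := Ideal.Quotient.mk_surjective x
        change Ideal.Quotient.mk (graphIdeal J w) t *
          Ideal.Quotient.mk (graphIdeal J w) (TrivSqZeroExt.inr z) =
          Ideal.Quotient.mk (graphIdeal J w) (TrivSqZeroExt.inr ((Ideal.Quotient.mk J t.fst) • z))
        rw [← map_mul]
        congr 1
        have hz : (Ideal.Quotient.mk J t.fst) • z = t.fst • z := by
          rw [← Ideal.Quotient.algebraMap_eq, algebraMap_smul]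
        rw [hz]
        apply TrivSqZeroExt.ext
        · simp
        · simp }

theorem theExt_conormalMap : (theExt J w).conormalMap J = w := by
  apply LinearMap.ext
  intro c
  obtain ⟨z, rfl⟩ := J.toCotangent_surjective c
  have h1 : (theExt J w).conormalMap J (J.toCotangent z) = (theExt J w).idealToKer J z := rfl
  rw [h1]
  apply (theExt J w).isExtension.incl_injective
  change (theExt J w).incl ((theExt J w).kerLift (algebraMap B (theExt J w).E z)
    ((theExt J w).proj_algebraMap_eq_zero J z)) = _
  rw [Exal.Ext.incl_kerLift]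
  change Ideal.Quotient.mk (graphIdeal J w) (TrivSqZeroExt.inl (z : B)) =
    Ideal.Quotient.mk (graphIdeal J w) (TrivSqZeroExt.inr (w (J.toCotangent z)))
  rw [Ideal.Quotient.eq]
  exact graph_mem J w z

end

theorem main {B : Type u} [CommRing B] (J : Ideal B)
    {M : Type u} [AddCommGroup M] [Module (B ⧸ J) M] [Module B M] [IsScalarTower B (B ⧸ J) M]
    (w : J.Cotangent →ₗ[B] M) :
    ∃ X : Exal.Ext B (B ⧸ J) M, X.conormalMap J = w :=
  ⟨theExt J w, theExt_conormalMap J w⟩
end helpers

/-- Surjectivity, commutative form. Let J be an ideal of the commutative ring B, C = B ⧸ J, M a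
C-module. Every linear map w : J/J² → M arises from a B-extension of C by M: there is an extension
whose induced map J/J² → M is w. Together with the injectivity statement this is the canonical
bijection between Hom_C(J/J², M) and the classes of B-extensions of C by M. -/
theorem result {B : Type u} [CommRing B] (J : Ideal B)
    {M : Type u} [AddCommGroup M] [Module (B ⧸ J) M] [Module B M] [IsScalarTower B (B ⧸ J) M]
    (w : J.Cotangent →ₗ[B] M) :
    ∃ X : Exal.Ext B (B ⧸ J) M, X.conormalMap J = w := by
  exact main J w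

end Groth.Agent.S5814
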