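import Groth.Statements.S5813
import Mathlib
import Groth.Agent.S5814
-- import your own Groth.Agent.* helpers here

set_option autoImplicit false
universe u
open EGA41

namespace Groth.Agent.S5813

section helpers
attribute [local instance] Exal.opModule Exal.isCentralScalar_opModule

open Groth.Agent.S5814

section
variable {B : Type u} [CommRing B] (J : Ideal B)
    {M : Type u} [AddCommGroup M] [Module (B ⧸ J) M] [Module B M] [IsScalarTower B (B ⧸ J) M]
    (X : Exal.Ext B (B ⧸ J) M)

theorem proj_incl (z : M) : X.proj (X.incl z) = 0 :=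
  (X.isExtension.exact _).mpr ⟨z, rfl⟩

theorem incl_mul_incl (a b : M) : X.incl a * X.incl b = 0 := by
  rw [X.isExtension.mul_incl, proj_incl, zero_smul, map_zero]

theorem alg_mul_incl (b : B) (m : M) : algebraMap B X.E b * X.incl m = X.incl (b • m) := by
  rw [X.isExtension.mul_incl, AlgHom.commutes, algebraMap_smul]

/-- `B ⊕ M → E` -/
noncomputable def gHom : TrivSqZeroExt B M →ₐ[B] X.E where
  toFun t := algebraMap B X.E t.fst + X.incl t.snd
  map_one' := by
    rw [TrivSqZeroExt.fst_one, TrivSqZeroExt.snd_one, map_one, map_zero, add_zero]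
  map_mul' t t' := by
    rw [TrivSqZeroExt.fst_mul, TrivSqZeroExt.snd_mul, map_mul, map_add, add_mul, mul_add, mul_add,
      incl_mul_incl, alg_mul_incl, mul_comm (X.incl t.snd), alg_mul_incl, op_smul_eq_smul]
    abel
  map_zero' := by
    rw [TrivSqZeroExt.fst_zero, TrivSqZeroExt.snd_zero, map_zero, map_zero, add_zero]
  map_add' t t' := by
    rw [TrivSqZeroExt.fst_add, TrivSqZeroExt.snd_add, map_add, map_add]
    abel
  commutes' b := by
    change algebraMap B X.E (TrivSqZeroExt.inl b : TrivSqZeroExt B M).fst +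
      X.incl (TrivSqZeroExt.inl b : TrivSqZeroExt B M).snd = _
    rw [TrivSqZeroExt.fst_inl, TrivSqZeroExt.snd_inl, map_zero, add_zero]

theorem gHom_apply (t : TrivSqZeroExt B M) :
    gHom J X t = algebraMap B X.E t.fst + X.incl t.snd := rfl

theorem incl_conormal (z : J) :
    X.incl (X.conormalMap J (J.toCotangent z)) = algebraMap B X.E z := by
  have h1 : X.conormalMap J (J.toCotangent z) = X.idealToKer J z := rfl
  rw [h1]
  change X.incl (X.kerLift (algebraMap B X.E z) (X.proj_algebraMap_eq_zero J z)) = _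
  rw [Exal.Ext.incl_kerLift]

theorem gHom_eq_zero_iff (t : TrivSqZeroExt B M) :
    gHom J X t = 0 ↔ t ∈ graphIdeal J (X.conormalMap J) := by
  rw [mem_graphIdeal, gHom_apply]
  constructor
  · intro h
    have h1 : X.proj (algebraMap B X.E t.fst + X.incl t.snd) = 0 := by rw [h, map_zero]
    rw [map_add, proj_incl, add_zero, AlgHom.commutes, Ideal.Quotient.algebraMap_eq,
      Ideal.Quotient.eq_zero_iff_mem] at h1
    refine ⟨h1, ?_⟩
    apply X.isExtension.incl_injective
    rw [map_neg, incl_conormal]
    exact eq_neg_of_add_eq_zero_right h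
  · rintro ⟨h1, h2⟩
    rw [h2, map_neg, incl_conormal]
    exact add_neg_cancel _

theorem nonempty_equiv_theExt : Nonempty ((theExt J (X.conormalMap J)).Equiv X) := by
  let gbar : (theExt J (X.conormalMap J)).E →ₐ[B] X.E :=
    Ideal.Quotient.liftₐ (graphIdeal J (X.conormalMap J)) (gHom J X)
      (fun t ht => (gHom_eq_zero_iff J X t).mpr ht)
  have hgbar : ∀ t, gbar (Ideal.Quotient.mk _ t) = gHom J X t := fun t => rfl
  have hbij : Function.Bijective gbar := by
    constructor
    · rw [injective_iff_map_eq_zero]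
      intro x hx
      obtain ⟨t, rfl⟩ := Ideal.Quotient.mk_surjective x
      rw [hgbar] at hx
      exact Ideal.Quotient.eq_zero_iff_mem.mpr ((gHom_eq_zero_iff J X t).mp hx)
    · intro x
      obtain ⟨b, hb⟩ := Ideal.Quotient.mk_surjective (X.proj x)
      have h0 : X.proj (x - algebraMap B X.E b) = 0 := by
        rw [map_sub, AlgHom.commutes, Ideal.Quotient.algebraMap_eq, hb, sub_self]
      obtain ⟨m, hm⟩ := (X.isExtension.exact _).mp h0
      refine ⟨Ideal.Quotient.mk _ (TrivSqZeroExt.inl b + TrivSqZeroExt.inr m), ?_⟩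
      rw [hgbar, gHom_apply]
      simp only [TrivSqZeroExt.fst_add, TrivSqZeroExt.fst_inl, TrivSqZeroExt.fst_inr, add_zero,
        TrivSqZeroExt.snd_add, TrivSqZeroExt.snd_inl, TrivSqZeroExt.snd_inr, zero_add]
      rw [hm]
      abel
  refine ⟨{ toAlgEquiv := AlgEquiv.ofBijective gbar hbij
            proj_apply := fun x => ?_
            apply_incl := fun z => ?_ }⟩
  · obtain ⟨t, rfl⟩ := Ideal.Quotient.mk_surjective x
    change X.proj (gHom J X t) = Ideal.Quotient.mk J t.fst
    rw [gHom_apply, map_add, proj_incl, add_zero, AlgHom.commutes, Ideal.Quotient.algebraMap_eq]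
  · change gHom J X (TrivSqZeroExt.inr z) = X.incl z
    rw [gHom_apply, TrivSqZeroExt.fst_inr, TrivSqZeroExt.snd_inr, map_zero, zero_add]

end

theorem main {B : Type u} [CommRing B] (J : Ideal B)
    {M : Type u} [AddCommGroup M] [Module (B ⧸ J) M] [Module B M] [IsScalarTower B (B ⧸ J) M]
    (X Y : Exal.Ext B (B ⧸ J) M) (h : X.conormalMap J = Y.conormalMap J) :
    Nonempty (X.Equiv Y) := by
  obtain ⟨e₁⟩ := nonempty_equiv_theExt J X
  obtain ⟨e₂⟩ := nonempty_equiv_theExt J Y
  rw [← h] at e₂
  exact ⟨e₁.symm.trans e₂⟩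
end helpers

/-- Injectivity, commutative form. Let J be an ideal of the commutative ring B, C = B ⧸ J, M a C-module.
Two B-extensions of C by M whose induced linear maps J/J² → M (obtained from the restriction to J of
the structure map B → E) coincide are equivalent. -/
theorem result {B : Type u} [CommRing B] (J : Ideal B)
    {M : Type u} [AddCommGroup M] [Module (B ⧸ J) M] [Module B M] [IsScalarTower B (B ⧸ J) M]
    (X Y : Exal.Ext B (B ⧸ J) M) (h : X.conormalMap J = Y.conormalMap J) :
    Nonempty (X.Equiv Y) := by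
  exact main J X Y h

end Groth.Agent.S5813
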