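import Groth.Statements.S5815
import Mathlib
-- import your own Groth.Agent.* helpers here

set_option autoImplicit false
universe u
open EGA41

namespace Groth.Agent.S5815

section helpers
theorem exists_section_of_forall_trivial {A B : Type u} [CommRing A] [CommRing B] [Algebra A B]
    (H : ∀ (L : Type u) [AddCommGroup L] [Module B L] (X : Exal.Ext A B L), X.IsTrivial)
    {E : Type u} [CommRing E] [Algebra A E] (p : E →ₐ[A] B) (hp : Function.Surjective p)
    (hsq : ∀ x y : E, p x = 0 → p y = 0 → x * y = 0) :
    ∃ s : B →ₐ[A] E, ∀ b, p (s b) = b := by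
  let K : Ideal E := RingHom.ker (p : E →+* B)
  have hK : ∀ x : E, x ∈ K ↔ p x = 0 := fun x => RingHom.mem_ker
  have hM : Module.IsTorsionBySet E K (K : Set E) := by
    intro x a
    apply Subtype.ext
    exact hsq a.1 x.1 ((hK _).mp a.2) ((hK _).mp x.2)
  let _ : Module (E ⧸ K) K := hM.module
  have hp' : Function.Surjective (p : E →+* B) := hp
  let e : (E ⧸ K) ≃+* B := RingHom.quotientKerEquivOfSurjective hp'
  let _ : Module B K := Module.compHom K (e.symm : B →+* E ⧸ K)
  have hsmul : ∀ (x : E) (z : K), ((p x • z : K) : E) = x * z := by
    intro x z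
    have h1 : e.symm (p x) = Ideal.Quotient.mk K x := by
      rw [RingEquiv.symm_apply_eq]
      rfl
    change ((e.symm (p x) • z : K) : E) = x * z
    rw [h1]
    rfl
  let X : Exal.Ext A B K :=
    { E := E
      proj := p
      incl := K.subtype.toAddMonoidHom
      isExtension :=
        { proj_surjective := hp
          incl_injective := Subtype.val_injective
          exact := fun x => by
            rw [← hK]
            constructor
            · intro hx
              exact ⟨⟨x, hx⟩, rfl⟩
            · rintro ⟨z, rfl⟩
              exact z.2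
          mul_incl := fun x z => (hsmul x z).symm } }
  obtain ⟨s, hs⟩ := H K X
  exact ⟨s, hs⟩

theorem ker_sq_zero {A B L : Type u} [CommRing A] [CommRing B] [Algebra A B] [AddCommGroup L]
    [Module B L] (X : Exal.Ext A B L) (x y : X.E) (hx : X.proj x = 0) (hy : X.proj y = 0) :
    x * y = 0 := by
  obtain ⟨z, rfl⟩ := (X.isExtension.exact x).mp hx
  obtain ⟨z', rfl⟩ := (X.isExtension.exact y).mp hy
  rw [X.isExtension.mul_incl, hx, zero_smul, map_zero]

theorem main (A B : Type u) [CommRing A] [CommRing B] [Algebra A B] :
    Algebra.FormallySmooth A B ↔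
      ∀ (L : Type u) [AddCommGroup L] [Module B L] (X : Exal.Ext A B L), X.IsTrivial := by
  constructor
  · intro hfs L _ _ X
    have hnil : IsNilpotent (RingHom.ker (X.proj : X.E →+* B)) := by
      refine ⟨2, ?_⟩
      rw [pow_two, Ideal.zero_eq_bot, eq_bot_iff, Ideal.mul_le]
      intro x hx y hy
      rw [Ideal.mem_bot]
      exact ker_sq_zero X x y (RingHom.mem_ker.mp hx) (RingHom.mem_ker.mp hy)
    refine ⟨Algebra.FormallySmooth.liftOfSurjective (AlgHom.id A B) X.proj
      X.isExtension.proj_surjective hnil, fun b => ?_⟩
    exact Algebra.FormallySmooth.liftOfSurjective_apply (AlgHom.id A B) X.proj _ hnil b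
  · intro H
    let f : MvPolynomial B A →ₐ[A] B := MvPolynomial.aeval id
    have hf : Function.Surjective f := fun b => ⟨MvPolynomial.X b, by simp [f]⟩
    have hsurj : Function.Surjective f.kerSquareLift := by
      intro b
      obtain ⟨x, rfl⟩ := hf b
      exact ⟨Ideal.Quotient.mk _ x, rfl⟩
    have hsq : ∀ x y : MvPolynomial B A ⧸ RingHom.ker f.toRingHom ^ 2,
        f.kerSquareLift x = 0 → f.kerSquareLift y = 0 → x * y = 0 := by
      intro x y hx hy
      have hx' : x ∈ (RingHom.ker f.toRingHom).cotangentIdeal := by
        rw [← AlgHom.ker_kerSquareLift]; exact hx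
      have hy' : y ∈ (RingHom.ker f.toRingHom).cotangentIdeal := by
        rw [← AlgHom.ker_kerSquareLift]; exact hy
      have := Ideal.mul_mem_mul hx' hy'
      rwa [← pow_two, Ideal.cotangentIdeal_square, Ideal.mem_bot] at this
    obtain ⟨s, hs⟩ := exists_section_of_forall_trivial H f.kerSquareLift hsurj hsq
    exact Algebra.FormallySmooth.of_split f s (AlgHom.ext hs)
end helpers

/-- Discrete case. A commutative A-algebra B is formally smooth if and only if every A-extension of B by
a B-module L is trivial (has an A-algebra section). A and B are taken in one universe and L ranges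
over that universe. (The published statement is for topological rings, with direct-limit classes of
extensions; this row is its discrete case.) -/
theorem result (A B : Type u) [CommRing A] [CommRing B] [Algebra A B] :
    Algebra.FormallySmooth A B ↔
      ∀ (L : Type u) [AddCommGroup L] [Module B L] (X : Exal.Ext A B L), X.IsTrivial := by
  exact main A B

end Groth.Agent.S5815
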