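import Groth.Statements.S5816
import Mathlib
-- import your own Groth.Agent.* helpers here

set_option autoImplicit false
universe u
open EGA41

namespace Groth.Agent.S5816

section helpers
theorem exists_section_rel {Λ A B : Type u} [CommRing Λ] [CommRing A] [CommRing B] [Algebra Λ A]
    [Algebra Λ B] [Algebra A B] [IsScalarTower Λ A B]
    (H : ∀ (L : Type u) [AddCommGroup L] [Module B L] (X : Exal.Ext A B L),
      X.IsTrivialOver Λ → X.IsTrivial)
    {E : Type u} [CommRing E] [Algebra A E] (p : E →ₐ[A] B) (hp : Function.Surjective p)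
    (hsq : ∀ x y : E, p x = 0 → p y = 0 → x * y = 0)
    (t : B →+* E) (ht : ∀ b, p (t b) = b)
    (htΛ : ∀ l : Λ, t (algebraMap Λ B l) = algebraMap A E (algebraMap Λ A l)) :
    ∃ s : B →ₐ[A] E, ∀ b, p (s b) = b := by
  let K : Ideal E := RingHom.ker (p : E →+* B)
  have hK : ∀ x : E, x ∈ K ↔ p x = 0 := fun x => RingHom.mem_ker
  have hM : Module.IsTorsionBySet E K (K : Set E) := by
    intro x a
    apply Subtype.ext
    exact hsq a.1 x.1 ((hK _).mp a.2) ((hK _).mp x.2)
  let _ : Module (E ⧸ K) K := hM.module
  have hp' : Function.Surjective (p : E →+* B) := hp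
  let e : (E ⧸ K) ≃+* B := RingHom.quotientKerEquivOfSurjective hp'
  let _ : Module B K := Module.compHom K (e.symm : B →+* E ⧸ K)
  have hsmul : ∀ (x : E) (z : K), ((p x • z : K) : E) = x * z := by
    intro x z
    have h1 : e.symm (p x) = Ideal.Quotient.mk K x := by
      rw [RingEquiv.symm_apply_eq]
      rfl
    change ((e.symm (p x) • z : K) : E) = x * z
    rw [h1]
    rfl
  let X : Exal.Ext A B K :=
    { E := E
      proj := p
      incl := K.subtype.toAddMonoidHom
      isExtension :=
        { proj_surjective := hp
          incl_injective := Subtype.val_injective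
          exact := fun x => by
            rw [← hK]
            constructor
            · intro hx
              exact ⟨⟨x, hx⟩, rfl⟩
            · rintro ⟨z, rfl⟩
              exact z.2
          mul_incl := fun x z => (hsmul x z).symm } }
  have hΛ : X.IsTrivialOver Λ := by
    refine ⟨{ toFun := fun b => t b
              map_one' := map_one t
              map_mul' := map_mul t
              map_zero' := map_zero t
              map_add' := map_add t
              commutes' := fun l => ?_ }, fun b => ht b⟩
    exact htΛ l
  obtain ⟨s, hs⟩ := H K X hΛ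
  exact ⟨s, hs⟩

theorem ker_sq_zero {A B L : Type u} [CommRing A] [CommRing B] [Algebra A B] [AddCommGroup L]
    [Module B L] (X : Exal.Ext A B L) (x y : X.E) (hx : X.proj x = 0) (hy : X.proj y = 0) :
    x * y = 0 := by
  obtain ⟨z, rfl⟩ := (X.isExtension.exact x).mp hx
  obtain ⟨z', rfl⟩ := (X.isExtension.exact y).mp hy
  rw [X.isExtension.mul_incl, hx, zero_smul, map_zero]

theorem main (Λ A B : Type u) [CommRing Λ]
    [CommRing A] [CommRing B] [Algebra Λ A] [Algebra Λ B] [Algebra A B] [IsScalarTower Λ A B] :
    EGA41.IsFormallySmoothRel Λ A B ↔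
      ∀ (L : Type u) [AddCommGroup L] [Module B L] (X : Exal.Ext A B L),
        X.IsTrivialOver Λ → X.IsTrivial := by
  constructor
  · intro hrel L _ _ X hX
    obtain ⟨s, hs⟩ := hX
    let _ : Algebra Λ X.E := ((algebraMap A X.E).comp (algebraMap Λ A)).toAlgebra
    have : IsScalarTower Λ A X.E := IsScalarTower.of_algebraMap_eq (fun _ => rfl)
    let J : Ideal X.E := RingHom.ker (X.proj : X.E →+* B)
    have hJ : J ^ 2 = ⊥ := by
      rw [pow_two, eq_bot_iff, Ideal.mul_le]
      intro x hx y hy
      rw [Ideal.mem_bot]
      exact ker_sq_zero X x y (RingHom.mem_ker.mp hx) (RingHom.mem_ker.mp hy)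
    let eq : (X.E ⧸ J) ≃ₐ[A] B := Ideal.quotientKerAlgEquivOfSurjective X.isExtension.proj_surjective
    let u₀ : B →ₐ[A] X.E ⧸ J := eq.symm.toAlgHom
    have hu₀ : ∀ b, eq (u₀ b) = b := fun b => eq.apply_symm_apply b
    let u : B →ₐ[Λ] X.E :=
      { toFun := fun b => s b
        map_one' := map_one s
        map_mul' := map_mul s
        map_zero' := map_zero s
        map_add' := map_add s
        commutes' := fun l => s.commutes l }
    have hu : (Ideal.Quotient.mkₐ Λ J).comp u = u₀.restrictScalars Λ := by
      ext b
      apply eq.injective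
      change eq (Ideal.Quotient.mk J (s b)) = eq (u₀ b)
      rw [hu₀]
      exact hs b
    obtain ⟨v, hv⟩ := hrel X.E J hJ u₀ ⟨u, hu⟩
    refine ⟨v, fun b => ?_⟩
    have h1 : Ideal.Quotient.mk J (v b) = u₀ b := congr($hv b)
    have h2 := hu₀ b
    rw [← h1] at h2
    exact h2
  · intro H C _ _ _ _ J hJ u₀ hu
    obtain ⟨u, hu⟩ := hu
    -- the fibre product
    let E : Subalgebra A (B × C) :=
      AlgHom.equalizer (u₀.comp (AlgHom.fst A B C)) ((Ideal.Quotient.mkₐ A J).comp (AlgHom.snd A B C))
    have hE : ∀ x : B × C, x ∈ E ↔ u₀ x.1 = Ideal.Quotient.mk J x.2 := fun x => Iff.rfl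
    let p : E →ₐ[A] B := (AlgHom.fst A B C).comp E.val
    have hp : Function.Surjective p := by
      intro b
      obtain ⟨c, hc⟩ := Ideal.Quotient.mk_surjective (u₀ b)
      exact ⟨⟨(b, c), (hE _).mpr hc.symm⟩, rfl⟩
    have hsq : ∀ x y : E, p x = 0 → p y = 0 → x * y = 0 := by
      rintro ⟨⟨b, c⟩, hx⟩ ⟨⟨b', c'⟩, hy⟩ hb hb'
      change b = 0 at hb
      change b' = 0 at hb'
      subst hb hb'
      have hc : c ∈ J := by
        have := (hE _).mp hx
        rw [map_zero] at this
        exact Ideal.Quotient.eq_zero_iff_mem.mp this.symm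
      have hc' : c' ∈ J := by
        have := (hE _).mp hy
        rw [map_zero] at this
        exact Ideal.Quotient.eq_zero_iff_mem.mp this.symm
      have hcc : c * c' = 0 := by
        have : c * c' ∈ J ^ 2 := by rw [pow_two]; exact Ideal.mul_mem_mul hc hc'
        rwa [hJ, Ideal.mem_bot] at this
      apply Subtype.ext
      apply Prod.ext
      · exact mul_zero _
      · exact hcc
    have hmem : ∀ b, ((b, u b) : B × C) ∈ E := by
      intro b
      rw [hE]
      exact (congr($hu b)).symm
    let t : B →+* E :=
      { toFun := fun b => ⟨(b, u b), hmem b⟩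
        map_one' := by apply Subtype.ext; apply Prod.ext <;> simp
        map_mul' := fun b b' => by apply Subtype.ext; apply Prod.ext <;> simp
        map_zero' := by apply Subtype.ext; apply Prod.ext <;> simp
        map_add' := fun b b' => by apply Subtype.ext; apply Prod.ext <;> simp }
    have ht : ∀ b, p (t b) = b := fun b => rfl
    have htΛ : ∀ l : Λ, t (algebraMap Λ B l) = algebraMap A E (algebraMap Λ A l) := by
      intro l
      apply Subtype.ext
      apply Prod.ext
      · change algebraMap Λ B l = algebraMap A B (algebraMap Λ A l)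
        rw [← IsScalarTower.algebraMap_apply]
      · change u (algebraMap Λ B l) = algebraMap A C (algebraMap Λ A l)
        rw [AlgHom.commutes, ← IsScalarTower.algebraMap_apply]
    obtain ⟨s, hs⟩ := exists_section_rel H p hp hsq t ht htΛ
    refine ⟨(AlgHom.snd A B C).comp (E.val.comp s), ?_⟩
    ext b
    change Ideal.Quotient.mk J (s b).1.2 = u₀ b
    have h1 := (hE _).mp (s b).2
    rw [← h1]
    congr 1
    exact hs b
end helpers

/-- Discrete case. For ring maps Λ → A → B, B is formally smooth over A relative to Λ (square-zero test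
ideals) if and only if every A-extension of B by a B-module L which is Λ-trivial is A-trivial. Λ, A,
B are taken in one universe and L ranges over it. (The published statement is for topological rings;
this row is its discrete case.) -/
theorem result (Λ A B : Type u) [CommRing Λ]
    [CommRing A] [CommRing B] [Algebra Λ A] [Algebra Λ B] [Algebra A B] [IsScalarTower Λ A B] :
    EGA41.IsFormallySmoothRel Λ A B ↔
      ∀ (L : Type u) [AddCommGroup L] [Module B L] (X : Exal.Ext A B L),
        X.IsTrivialOver Λ → X.IsTrivial := by
  exact main Λ A B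

end Groth.Agent.S5816
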