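import Groth.Statements.S5821
import Mathlib
import Groth.Agent.S5820

set_option autoImplicit false
universe u v
open EGA41 TensorProduct

namespace Groth.Agent.S5821

/-- For a ring map A → B, an ideal K of B, C = B ⧸ K and the B-extension E = B ⧸ K² of C by K/K², if E
is A-trivial then its characteristic homomorphism Υ_{C/B/A} → K/K² is bijective (stated for every
C-linear χ satisfying the defining square, of which there is exactly one). -/
theorem result {A : Type u} {B : Type v} [CommRing A] [CommRing B] [Algebra A B]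
    (K : Ideal B) (hK : (Exal.Ext.infinitesimal K).IsTrivialOver A)
    (χ : ↥(EGA41.imperfection A B (B ⧸ K)) →ₗ[B ⧸ K] K.Cotangent)
    (hχ : (Exal.Ext.infinitesimal K).IsCharHom A χ) :
    Function.Bijective χ := by
  have hinj := Groth.Agent.S5820.deltaL_injective (A := A) (Exal.Ext.infinitesimal K) hK
  have hker : RingHom.ker (algebraMap B (B ⧸ K)) = K := by
    rw [Ideal.Quotient.algebraMap_eq, Ideal.mk_ker]
  -- (1) the two maps agree on elements of `K`
  have h1 : ∀ (k : B) (hk : k ∈ K),
      (Exal.Ext.infinitesimal K).deltaL A (K.toCotangent ⟨k, hk⟩) =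
        (Exal.Ext.infinitesimal K).baseChangeToMiddle A
          ((1 : B ⧸ K) ⊗ₜ[B] KaehlerDifferential.D A B k) := by
    intro k hk
    rw [Groth.Agent.S5820.baseChangeToMiddle_tmul, KaehlerDifferential.map_D]
    rfl
  -- (3) membership
  have h3 : ∀ (k : B) (hk : k ∈ K),
      ((1 : B ⧸ K) ⊗ₜ[B] KaehlerDifferential.D A B k) ∈ EGA41.imperfection A B (B ⧸ K) := by
    intro k hk
    change KaehlerDifferential.mapBaseChange A B (B ⧸ K) _ = 0
    rw [KaehlerDifferential.mapBaseChange_tmul, KaehlerDifferential.map_D, one_smul,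
      Ideal.Quotient.algebraMap_eq, Ideal.Quotient.eq_zero_iff_mem.mpr hk, map_zero]
  constructor
  · rw [injective_iff_map_eq_zero]
    intro z hz
    have hz0 : KaehlerDifferential.mapBaseChange A B (B ⧸ K) z.1 = 0 := z.2
    obtain ⟨y, hy⟩ := (KaehlerDifferential.exact_kerCotangentToTensor_mapBaseChange A B (B ⧸ K)
      Ideal.Quotient.mk_surjective _).mp hz0
    obtain ⟨⟨k, hk'⟩, rfl⟩ := Ideal.toCotangent_surjective _ y
    have hxK : k ∈ K := by rw [← hker]; exact hk'
    have hzx : z.1 = (1 : B ⧸ K) ⊗ₜ[B] KaehlerDifferential.D A B k := by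
      rw [← hy, KaehlerDifferential.kerCotangentToTensor_toCotangent]
    have h4 := hχ z
    rw [hz, hzx, ← h1 k hxK] at h4
    have h5 : K.toCotangent ⟨k, hxK⟩ = 0 := (hinj h4).symm
    rw [Ideal.toCotangent_eq_zero] at h5
    have h6 : (Ideal.toCotangent (RingHom.ker (algebraMap B (B ⧸ K)))) ⟨k, hk'⟩ = 0 := by
      rw [Ideal.toCotangent_eq_zero]
      change k ∈ RingHom.ker (algebraMap B (B ⧸ K)) ^ 2
      rw [hker]
      exact h5
    apply Subtype.ext
    rw [← hy, h6, map_zero]
    rfl
  · intro ℓ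
    obtain ⟨⟨k, hk⟩, rfl⟩ := K.toCotangent_surjective ℓ
    refine ⟨⟨_, h3 k hk⟩, ?_⟩
    apply hinj
    rw [hχ, h1 k hk]

end Groth.Agent.S5821
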