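import Groth.Statements.S5822
import Mathlib
import Groth.Agent.Lib.Helper11.ExalChar

set_option autoImplicit false
universe u v
open scoped TensorProduct
open EGA41

namespace Groth.Agent.S5822

/-- Injectivity. For ring maps A → B → C and a C-module L, assume (i) L is an injective C-module, or
(ii) Υ_{C/B/A} is a direct summand of C ⊗_B Ω_{B/A} and Ω_{C/A} → Ω_{C/B} has a right inverse. Then
two A-trivial B-extensions of C by L with a common characteristic homomorphism are equivalent: the
map from classes of A-trivial extensions to Hom_C(Υ_{C/B/A}, L) is injective. -/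
theorem result {A : Type u} {B C L : Type v} [CommRing A] [CommRing B] [CommRing C]
    [Algebra A B] [Algebra B C] [Algebra A C] [IsScalarTower A B C] [AddCommGroup L] [Module C L]
    (h : Module.Injective C L ∨
      ((∃ r : C ⊗[B] Ω[B⁄A] →ₗ[C] ↥(EGA41.imperfection A B C), ∀ z : ↥(EGA41.imperfection A B C), r z = z) ∧
        ∃ s : Ω[C⁄B] →ₗ[C] Ω[C⁄A], ∀ ω : Ω[C⁄B], KaehlerDifferential.map A B C C (s ω) = ω))
    (X Y : Exal.Ext B C L) (hX : X.IsTrivialOver A) (hY : Y.IsTrivialOver A)
    (χ : ↥(EGA41.imperfection A B C) →ₗ[C] L) (hXχ : X.IsCharHom A χ) (hYχ : Y.IsCharHom A χ) :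
    Nonempty (X.Equiv Y) := by
  let modB : Module B L := Module.compHom L (algebraMap B C)
  have stBCL : IsScalarTower B C L := ⟨fun b c l => by
    change (b • c) • l = algebraMap B C b • (c • l)
    rw [Algebra.smul_def, mul_smul]⟩
  let modA : Module A L := Module.compHom L (algebraMap A C)
  have stACL : IsScalarTower A C L := ⟨fun a c l => by
    change (a • c) • l = algebraMap A C a • (c • l)
    rw [Algebra.smul_def, mul_smul]⟩
  have stABL : IsScalarTower A B L := ⟨fun a b l => by
    change algebraMap B C (a • b) • l = algebraMap A C a • (algebraMap B C b • l)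
    rw [Algebra.smul_def, map_mul, mul_smul, ← IsScalarTower.algebraMap_apply]⟩
  obtain ⟨D₁, ⟨e₁⟩⟩ := (Groth.Agent.S5818.result X).1 hX
  obtain ⟨D₂, ⟨e₂⟩⟩ := (Groth.Agent.S5818.result Y).1 hY
  have h1 := Groth.Agent.Lib.helper11.ExalChar.isCharHom_of_equiv e₁ χ hXχ
  have h2 := Groth.Agent.Lib.helper11.ExalChar.isCharHom_of_equiv e₂ χ hYχ
  have hD : ∀ z : ↥(EGA41.imperfection A B C),
      Groth.Agent.Lib.helper11.ExalChar.Dtilde (C := C) D₁ z.1 =
        Groth.Agent.Lib.helper11.ExalChar.Dtilde (C := C) D₂ z.1 := fun z => by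
    rw [← Groth.Agent.Lib.helper11.ExalChar.charHom_eq_Dtilde D₁ χ h1 z,
      Groth.Agent.Lib.helper11.ExalChar.charHom_eq_Dtilde D₂ χ h2 z]
  obtain ⟨δ, hδ⟩ := Groth.Agent.Lib.helper11.ExalChar.exists_derivation_diff D₁ D₂ hD
    (h.imp id (fun h => h.2))
  obtain ⟨e₃⟩ := Groth.Agent.Lib.helper11.ExalChar.equiv_ofDerivation D₁ D₂ δ hδ
  exact ⟨(e₁.trans e₃).trans e₂.symm⟩

end Groth.Agent.S5822
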