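import Groth.Statements.S5823
import Mathlib
import Groth.Agent.Lib.Helper11.ExalChar

set_option autoImplicit false
universe u v
open scoped TensorProduct
open EGA41

namespace Groth.Agent.S5823

/-- Surjectivity. For ring maps A → B → C and a C-module L, assume (i) L is an injective C-module, or
(ii) Υ_{C/B/A} is a direct summand of C ⊗_B Ω_{B/A} and Ω_{C/A} → Ω_{C/B} has a right inverse. Then
every C-linear map Υ_{C/B/A} → L is the characteristic homomorphism of an A-trivial B-extension of C
by L. -/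
theorem result {A : Type u} {B C L : Type v} [CommRing A] [CommRing B] [CommRing C]
    [Algebra A B] [Algebra B C] [Algebra A C] [IsScalarTower A B C] [AddCommGroup L] [Module C L]
    (h : Module.Injective C L ∨
      ((∃ r : C ⊗[B] Ω[B⁄A] →ₗ[C] ↥(EGA41.imperfection A B C), ∀ z : ↥(EGA41.imperfection A B C), r z = z) ∧
        ∃ s : Ω[C⁄B] →ₗ[C] Ω[C⁄A], ∀ ω : Ω[C⁄B], KaehlerDifferential.map A B C C (s ω) = ω))
    (χ : ↥(EGA41.imperfection A B C) →ₗ[C] L) :
    ∃ X : Exal.Ext B C L, X.IsTrivialOver A ∧ X.IsCharHom A χ := by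
  let modB : Module B L := Module.compHom L (algebraMap B C)
  have stBCL : IsScalarTower B C L := ⟨fun b c l => by
    change (b • c) • l = algebraMap B C b • (c • l)
    rw [Algebra.smul_def, mul_smul]⟩
  let modA : Module A L := Module.compHom L (algebraMap A C)
  have stACL : IsScalarTower A C L := ⟨fun a c l => by
    change (a • c) • l = algebraMap A C a • (c • l)
    rw [Algebra.smul_def, mul_smul]⟩
  have stABL : IsScalarTower A B L := ⟨fun a b l => by
    change algebraMap B C (a • b) • l = algebraMap A C a • (algebraMap B C b • l)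
    rw [Algebra.smul_def, map_mul, mul_smul, ← IsScalarTower.algebraMap_apply]⟩
  have hext : Module.Injective C L ∨
      ∃ r : C ⊗[B] Ω[B⁄A] →ₗ[C] ↥(EGA41.imperfection A B C),
        ∀ z : ↥(EGA41.imperfection A B C), r z = z := h.imp id (fun h => h.1)
  obtain ⟨φ, hφ⟩ := Groth.Agent.Lib.helper11.ExalChar.exists_extension
    (EGA41.imperfection A B C) χ hext
  let Dl : Ω[B⁄A] →ₗ[B] L := (φ.restrictScalars B) ∘ₗ (TensorProduct.mk B C Ω[B⁄A] 1)
  let D : Derivation A B L := Dl.compDer (KaehlerDifferential.D A B)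
  have hD : ∀ b : B, D b = φ ((1 : C) ⊗ₜ[B] KaehlerDifferential.D A B b) := fun b => rfl
  have hDt : ∀ w : C ⊗[B] Ω[B⁄A], Groth.Agent.Lib.helper11.ExalChar.Dtilde (C := C) D w = φ w := by
    intro w
    induction w using Groth.Agent.S5833.tmul_D_induction with
    | zero => rw [map_zero, map_zero]
    | add x y hx hy => rw [map_add, map_add, hx, hy]
    | tmul_D c b =>
      rw [Groth.Agent.Lib.helper11.ExalChar.Dtilde_tmul_D, hD, ← map_smul,
        TensorProduct.smul_tmul', smul_eq_mul, mul_one]
  have htriv : (Exal.Ext.ofDerivation (C := C) D).IsTrivialOver A :=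
    (Groth.Agent.S5818.result _).2 ⟨D, ⟨Exal.Ext.Equiv.refl _⟩⟩
  refine ⟨Exal.Ext.ofDerivation (C := C) D, htriv, ?_⟩
  obtain ⟨χ', hχ', -⟩ := Groth.Agent.S5820.result (A := A) (Exal.Ext.ofDerivation (C := C) D) htriv
  have : χ' = χ := by
    ext z
    rw [Groth.Agent.Lib.helper11.ExalChar.charHom_eq_Dtilde D χ' hχ' z, hDt, hφ]
  rwa [this] at hχ'

end Groth.Agent.S5823
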