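import Groth.Statements.S5824
import Mathlib
import Groth.Agent.S5822
import Groth.Agent.S5823

set_option autoImplicit false
universe u v
open EGA41

namespace Groth.Agent.S5824

section linalg
variable {R : Type*} {M N Q : Type*} [CommRing R] [AddCommGroup M] [AddCommGroup N] [AddCommGroup Q]
  [Module R M] [Module R N] [Module R Q]

theorem exists_retraction_ker (m : M →ₗ[R] N) (q : N →ₗ[R] Q) (hex : Function.Exact m q)
    (s : Q →ₗ[R] N) (hs : ∀ x, q (s x) = x) [Module.Projective R N] :
    ∃ r : M →ₗ[R] ↥(LinearMap.ker m), ∀ z : ↥(LinearMap.ker m), r z = z := by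
  have hrange : LinearMap.range m = LinearMap.ker q := (LinearMap.exact_iff.mp hex).symm
  let p : N →ₗ[R] ↥(LinearMap.range m) :=
    (LinearMap.id - s ∘ₗ q).codRestrict (LinearMap.range m) (fun n => by
      rw [hrange, LinearMap.mem_ker, LinearMap.sub_apply, map_sub, LinearMap.id_apply,
        LinearMap.comp_apply, hs, sub_self])
  have hp : ∀ k : ↥(LinearMap.range m), p k = k := by
    intro k
    apply Subtype.ext
    have hk : q k.1 = 0 := LinearMap.mem_ker.mp (hrange.le k.2)
    change ((LinearMap.id : N →ₗ[R] N) - s ∘ₗ q) k.1 = k.1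
    rw [LinearMap.sub_apply, LinearMap.id_apply, LinearMap.comp_apply, hk, map_zero, sub_zero]
  have hproj : Module.Projective R ↥(LinearMap.range m) :=
    Module.Projective.of_split (LinearMap.range m).subtype p (LinearMap.ext fun k => hp k)
  obtain ⟨σ, hσ⟩ := Module.projective_lifting_property m.rangeRestrict LinearMap.id
    m.surjective_rangeRestrict
  have hσ' : ∀ k : ↥(LinearMap.range m), m (σ k) = k.1 := fun k => by
    have := LinearMap.congr_fun hσ k
    exact congrArg Subtype.val this
  have hmem : ∀ w : M, ((LinearMap.id : M →ₗ[R] M) - σ ∘ₗ m.rangeRestrict) w ∈ LinearMap.ker m := by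
    intro w
    have h0 : (m.rangeRestrict w : N) = m w := rfl
    rw [LinearMap.mem_ker, LinearMap.sub_apply, map_sub, LinearMap.id_apply, LinearMap.comp_apply,
      hσ', h0, sub_self]
  refine ⟨((LinearMap.id : M →ₗ[R] M) - σ ∘ₗ m.rangeRestrict).codRestrict (LinearMap.ker m) hmem,
    fun z => ?_⟩
  · apply Subtype.ext
    change ((LinearMap.id : M →ₗ[R] M) - σ ∘ₗ m.rangeRestrict) z.1 = z.1
    have hz : m.rangeRestrict z.1 = 0 := Subtype.ext z.2
    rw [LinearMap.sub_apply, LinearMap.id_apply, LinearMap.comp_apply, hz, map_zero, sub_zero]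

end linalg

theorem ker_proj_sq {A : Type u} {C L : Type v} [CommRing A] [CommRing C] [Algebra A C]
    [AddCommGroup L] [Module C L] (Y : Exal.Ext A C L) :
    (RingHom.ker (Y.proj : Y.E →+* C)) ^ 2 = ⊥ := by
  rw [eq_bot_iff, pow_two, Ideal.mul_le]
  intro x hx y hy
  rw [RingHom.mem_ker] at hx hy
  obtain ⟨z, rfl⟩ := (Y.isExtension.exact _).mp hy
  rw [Ideal.mem_bot, Y.isExtension.mul_incl]
  have : Y.proj x = 0 := hx
  rw [this, zero_smul, map_zero]

theorem isTrivialOver_of_formallySmooth {A : Type u} {B C L : Type v} [CommRing A] [CommRing B]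
    [CommRing C] [Algebra A B] [Algebra B C] [Algebra A C] [IsScalarTower A B C] [AddCommGroup L]
    [Module C L] [Algebra.FormallySmooth A C] (X : Exal.Ext B C L) : X.IsTrivialOver A := by
  have hsurj : Function.Surjective (X.restrictBase A).proj := (X.restrictBase A).isExtension.proj_surjective
  have hnil : IsNilpotent (RingHom.ker ((X.restrictBase A).proj : (X.restrictBase A).E →+* C)) :=
    ⟨2, ker_proj_sq _⟩
  exact ⟨Algebra.FormallySmooth.liftOfSurjective (AlgHom.id A C) (X.restrictBase A).proj hsurj hnil,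
    fun c => Algebra.FormallySmooth.liftOfSurjective_apply (AlgHom.id A C) _ hsurj hnil c⟩


/-- For ring maps A → B → C with C formally smooth over A (discrete topologies) and Ω_{C/B} a projective
C-module, and a C-module L, the characteristic homomorphism is a bijection from the classes of all
B-extensions of C by L (each of which is A-trivial) onto Hom_C(Υ_{C/B/A}, L): injectivity on classes
and surjectivity. -/
theorem result {A : Type u} {B C L : Type v} [CommRing A] [CommRing B] [CommRing C]
    [Algebra A B] [Algebra B C] [Algebra A C] [IsScalarTower A B C] [AddCommGroup L] [Module C L]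
    [Algebra.FormallySmooth A C] [Module.Projective C Ω[C⁄B]] :
    (∀ (X Y : Exal.Ext B C L) (χ : ↥(EGA41.imperfection A B C) →ₗ[C] L),
        X.IsCharHom A χ → Y.IsCharHom A χ → Nonempty (X.Equiv Y)) ∧
      ∀ χ : ↥(EGA41.imperfection A B C) →ₗ[C] L, ∃ X : Exal.Ext B C L, X.IsCharHom A χ := by
  have htriv : ∀ X : Exal.Ext B C L, X.IsTrivialOver A := fun X => isTrivialOver_of_formallySmooth X
  obtain ⟨s, hs⟩ := Module.projective_lifting_property (KaehlerDifferential.map A B C C)
    (LinearMap.id : Ω[C⁄B] →ₗ[C] Ω[C⁄B]) (KaehlerDifferential.map_surjective A B C)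
  have hs' : ∀ ω : Ω[C⁄B], KaehlerDifferential.map A B C C (s ω) = ω :=
    fun ω => LinearMap.congr_fun hs ω
  obtain ⟨r, hr⟩ := exists_retraction_ker (KaehlerDifferential.mapBaseChange A B C)
    (KaehlerDifferential.map A B C C) (KaehlerDifferential.exact_mapBaseChange_map A B C) s hs'
  have hii : (∃ r : TensorProduct B C Ω[B⁄A] →ₗ[C] ↥(EGA41.imperfection A B C),
      ∀ z : ↥(EGA41.imperfection A B C), r z = z) ∧
        ∃ s : Ω[C⁄B] →ₗ[C] Ω[C⁄A], ∀ ω : Ω[C⁄B], KaehlerDifferential.map A B C C (s ω) = ω :=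
    ⟨⟨r, hr⟩, ⟨s, hs'⟩⟩
  refine ⟨fun X Y χ hX hY =>
    Groth.Agent.S5822.result (Or.inr hii) X Y (htriv X) (htriv Y) χ hX hY, fun χ => ?_⟩
  obtain ⟨X, _, hX⟩ := Groth.Agent.S5823.result (A := A) (Or.inr hii) χ
  exact ⟨X, hX⟩

end Groth.Agent.S5824
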