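import Groth.Statements.S5825
-- import your own Groth.Agent.* helpers here

set_option autoImplicit false
universe u v w
open EGA41

namespace Groth.Agent.S5825

/-- Let A be a topological ring, M, N topological A-modules with the topologies deduced from that of A,
and u : M → N a continuous linear map with dense image (a formal epimorphism). Then u is a formal
bimorphism (dense image and inducing) if and only if, for every open ideal J of A, the induced map
M/JM → N/JN is bijective (injectivity and surjectivity are written out elementwise). -/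
theorem result {A : Type u} {M : Type v} {N : Type w} [CommRing A]
    [TopologicalSpace A] [AddCommGroup M] [Module A M] [TopologicalSpace M] [AddCommGroup N] [Module A N]
    [TopologicalSpace N] (hM : TopMod.IsDeduced A M) (hN : TopMod.IsDeduced A N) (u : M →L[A] N)
    (hu : DenseRange u) :
    IsDenseInducing u ↔
      ∀ J : Ideal A, IsOpen (J : Set A) →
        (∀ x : M, u x ∈ (J • ⊤ : Submodule A N) → x ∈ (J • ⊤ : Submodule A M)) ∧
          ∀ y : N, ∃ x : M, y - u x ∈ (J • ⊤ : Submodule A N) := by
  have := hM.1
  have := hN.1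
  -- density gives approximation modulo any open J
  have happrox : ∀ J : Ideal A, IsOpen (J : Set A) → ∀ y : N, ∃ x : M, y - u x ∈ (J • ⊤ : Submodule A N) := by
    intro J hJ y
    have hs : (fun n => y - n) ⁻¹' ((J • ⊤ : Submodule A N) : Set N) ∈ nhds y := by
      apply (continuous_sub_left y).continuousAt.preimage_mem_nhds
      rw [sub_self]
      exact hN.2.mem_of_mem hJ
    obtain ⟨x, hx⟩ := hu.mem_nhds hs
    exact ⟨x, hx⟩
  constructor
  · intro hdi J hJ
    refine ⟨?_, happrox J hJ⟩
    intro x hx
    have hind : nhds (0 : M) = (nhds (0 : N)).comap u :=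
      IsTopologicalAddGroup.isInducing_iff_nhds_zero.mp hdi.toIsInducing
    have hJM : ((J • ⊤ : Submodule A M) : Set M) ∈ (nhds (0 : N)).comap u := by
      rw [← hind]; exact hM.2.mem_of_mem hJ
    obtain ⟨t, ht, htsub⟩ := Filter.mem_comap.mp hJM
    obtain ⟨J', hJ', hJ'sub⟩ := hN.2.mem_iff.mp ht
    have key : ∀ n ∈ (J • ⊤ : Submodule A N), ∃ m ∈ (J • ⊤ : Submodule A M),
        n - u m ∈ (J' • ⊤ : Submodule A N) := by
      intro n hn
      refine Submodule.smul_induction_on hn ?_ ?_
      · intro j hj n₀ _
        obtain ⟨m₀, hm₀⟩ := happrox J' hJ' n₀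
        refine ⟨j • m₀, Submodule.smul_mem_smul hj Submodule.mem_top, ?_⟩
        rw [map_smul, ← smul_sub]
        exact Submodule.smul_mem _ j hm₀
      · rintro a b ⟨ma, hma, ha⟩ ⟨mb, hmb, hb⟩
        refine ⟨ma + mb, Submodule.add_mem _ hma hmb, ?_⟩
        have : a + b - u (ma + mb) = (a - u ma) + (b - u mb) := by
          rw [map_add]; abel
        rw [this]
        exact Submodule.add_mem _ ha hb
    obtain ⟨m, hm, hxm⟩ := key (u x) hx
    have h1 : x - m ∈ (J • ⊤ : Submodule A M) := by
      apply htsub
      apply hJ'sub
      change u (x - m) ∈ (J' • ⊤ : Submodule A N)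
      rw [map_sub]
      exact hxm
    have : x = (x - m) + m := by abel
    rw [this]
    exact Submodule.add_mem _ h1 hm
  · intro h
    refine ⟨?_, hu⟩
    rw [IsTopologicalAddGroup.isInducing_iff_nhds_zero]
    apply le_antisymm
    · rw [← Filter.map_le_iff_le_comap]
      have := u.continuous.tendsto 0
      rw [map_zero] at this
      exact this
    · intro s hs
      obtain ⟨J, hJ, hJsub⟩ := hM.2.mem_iff.mp hs
      rw [Filter.mem_comap]
      refine ⟨((J • ⊤ : Submodule A N) : Set N), hN.2.mem_of_mem hJ, ?_⟩
      intro x hx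
      exact hJsub ((h J hJ).1 x hx)

end Groth.Agent.S5825
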