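import Groth.Statements.S5826
-- import your own Groth.Agent.* helpers here

set_option autoImplicit false
universe u v w
open EGA41

namespace Groth.Agent.S5826


theorem continuous_of_ker_nhds {G H : Type*} [AddCommGroup G] [TopologicalSpace G] [IsTopologicalAddGroup G]
    [AddCommGroup H] [TopologicalSpace H] [DiscreteTopology H] (f : G →+ H) (S : Set G)
    (hS : S ∈ nhds (0 : G)) (hf : ∀ x ∈ S, f x = 0) : Continuous f := by
  rw [continuous_discrete_rng]
  intro l
  rw [isOpen_iff_mem_nhds]
  intro x hx
  have h1 : (fun y => y - x) ⁻¹' S ∈ nhds x := by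
    apply (continuous_sub_right x).continuousAt.preimage_mem_nhds
    rw [sub_self]
    exact hS
  refine Filter.mem_of_superset h1 ?_
  intro y hy
  have h0 := hf _ hy
  rw [map_sub, sub_eq_zero] at h0
  change f y = l
  rw [h0]
  exact hx

/-- Let A be a topological ring, M, N topological A-modules with the topologies deduced from that of A,
u : M → N a continuous linear map. Then u is formally left invertible if and only if, for every open
ideal J of A, the induced map M/JM → N/JN is left invertible, i.e. some linear map N → M/JM composes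
with u to the projection M → M/JM. -/
theorem result {A : Type u} {M : Type v} {N : Type w}
    [CommRing A] [TopologicalSpace A] [AddCommGroup M] [Module A M] [TopologicalSpace M] [AddCommGroup N]
    [Module A N] [TopologicalSpace N] (hM : TopMod.IsDeduced A M) (hN : TopMod.IsDeduced A N)
    (u : M →L[A] N) :
    TopMod.IsFormallyLeftInvertible u ↔
      ∀ J : Ideal A, IsOpen (J : Set A) →
        ∃ w : N →ₗ[A] M ⧸ (J • ⊤ : Submodule A M), ∀ x : M, w (u x) = Submodule.Quotient.mk x := by
  have := hM.1
  have := hN.1
  constructor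
  · intro h J hJ
    let _ : TopologicalSpace (M ⧸ (J • ⊤ : Submodule A M)) := ⊥
    have : DiscreteTopology (M ⧸ (J • ⊤ : Submodule A M)) := ⟨rfl⟩
    have hcont : Continuous ((J • ⊤ : Submodule A M).mkQ) := by
      refine continuous_of_ker_nhds ((J • ⊤ : Submodule A M).mkQ).toAddMonoidHom
        ((J • ⊤ : Submodule A M) : Set M) (hM.2.mem_of_mem hJ) ?_
      intro x hx
      exact (Submodule.Quotient.mk_eq_zero _).mpr hx
    obtain ⟨w, hw⟩ := h (M ⧸ (J • ⊤ : Submodule A M)) ⟨(J • ⊤ : Submodule A M).mkQ, hcont⟩
    exact ⟨w.toLinearMap, fun x => hw x⟩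
  · intro h E _ _ _ _ v
    have hker : v ⁻¹' {0} ∈ nhds (0 : M) := by
      apply v.continuous.continuousAt.preimage_mem_nhds
      rw [map_zero]
      exact (isOpen_discrete _).mem_nhds rfl
    obtain ⟨J, hJ, hJsub⟩ := hM.2.mem_iff.mp hker
    obtain ⟨wJ, hwJ⟩ := h J hJ
    have hle : (J • ⊤ : Submodule A M) ≤ LinearMap.ker v.toLinearMap := by
      intro x hx
      exact hJsub hx
    let vbar : (M ⧸ (J • ⊤ : Submodule A M)) →ₗ[A] E := (J • ⊤ : Submodule A M).liftQ v.toLinearMap hle
    let w : N →ₗ[A] E := vbar.comp wJ
    have hw0 : ∀ y ∈ ((J • ⊤ : Submodule A N) : Set N), w y = 0 := by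
      intro y hy
      refine Submodule.smul_induction_on hy ?_ ?_
      · intro j hj n _
        have hq : ∀ q : M ⧸ (J • ⊤ : Submodule A M), j • q = 0 := by
          intro q
          obtain ⟨m, rfl⟩ := Submodule.Quotient.mk_surjective _ q
          rw [← Submodule.Quotient.mk_smul, Submodule.Quotient.mk_eq_zero]
          exact Submodule.smul_mem_smul hj Submodule.mem_top
        simp only [w, LinearMap.comp_apply, map_smul]
        rw [← map_smul, hq, map_zero]
      · intro a b ha hb
        rw [map_add, ha, hb, add_zero]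
    have hwcont : Continuous w :=
      continuous_of_ker_nhds w.toAddMonoidHom _ (hN.2.mem_of_mem hJ) hw0
    refine ⟨⟨w, hwcont⟩, fun x => ?_⟩
    change vbar (wJ (u x)) = v x
    rw [hwJ x]
    rfl

end Groth.Agent.S5826
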