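import Groth.Statements.S5838
import Mathlib

set_option autoImplicit false
universe u v w
open EGA41

namespace Groth.Agent.S5838

section aux

/-- lifting property from projectivity of the reduction mod `J`, for modules killed by `J`. -/
lemma lift_of_proj {A : Type*} [CommRing A] (J : Ideal A) {P X Y : Type*}
    [AddCommGroup P] [Module A P] [AddCommGroup X] [Module A X] [AddCommGroup Y] [Module A Y]
    (hproj : Module.Projective (A ⧸ J) (P ⧸ (J • ⊤ : Submodule A P)))
    (hX : ∀ a ∈ J, ∀ x : X, a • x = 0) (hY : ∀ a ∈ J, ∀ y : Y, a • y = 0)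
    (f : X →ₗ[A] Y) (hf : Function.Surjective f) (g : P →ₗ[A] Y) :
    ∃ h : P →ₗ[A] X, f ∘ₗ h = g := by
  have tX : Module.IsTorsionBySet A X J := fun x a => hX a a.2 x
  have tY : Module.IsTorsionBySet A Y J := fun y a => hY a a.2 y
  letI := tX.module
  letI := tY.module
  have hs : Function.Surjective (algebraMap A (A ⧸ J)) := Ideal.Quotient.mk_surjective
  let f' : X →ₗ[A ⧸ J] Y := f.extendScalarsOfSurjective hs
  have hle : (J • ⊤ : Submodule A P) ≤ LinearMap.ker g := by
    rw [Submodule.smul_le]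
    intro a ha p _
    rw [LinearMap.mem_ker, map_smul, hY a ha]
  let g' : (P ⧸ (J • ⊤ : Submodule A P)) →ₗ[A ⧸ J] Y :=
    ((J • ⊤ : Submodule A P).liftQ g hle).extendScalarsOfSurjective hs
  obtain ⟨h, hh⟩ := Module.projective_lifting_property f' g' hf
  refine ⟨h.restrictScalars A ∘ₗ (J • ⊤ : Submodule A P).mkQ, ?_⟩
  ext p
  have := LinearMap.congr_fun hh ((J • ⊤ : Submodule A P).mkQ p)
  simpa [f', g'] using this

end aux
section aux2
open Filter Topology

variable {A : Type u} {M : Type v} [CommRing A] [TopologicalSpace A] [AddCommGroup M] [Module A M]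

lemma nhds_basis_nat [TopologicalSpace M]
    (𝔍 : ℕ → Ideal A) (h𝔍open : ∀ n, IsOpen (𝔍 n : Set A))
    (h𝔍basis : (nhds (0 : A)).HasBasis (fun _ : ℕ => True) (fun n => (𝔍 n : Set A)))
    (hM : TopMod.IsDeduced A M) :
    (nhds (0 : M)).HasBasis (fun _ : ℕ => True)
      (fun n => ((𝔍 n • ⊤ : Submodule A M) : Set M)) := by
  refine ⟨fun t => ?_⟩
  rw [hM.2.mem_iff]
  constructor
  · rintro ⟨J, hJ, hJt⟩
    have h0 : (J : Set A) ∈ nhds (0 : A) := hJ.mem_nhds J.zero_mem
    obtain ⟨n, -, hn⟩ := h𝔍basis.mem_iff.mp h0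
    refine ⟨n, trivial, subset_trans ?_ hJt⟩
    exact Submodule.smul_mono (fun a ha => hn ha) le_rfl
  · rintro ⟨n, -, hn⟩
    exact ⟨𝔍 n, h𝔍open n, hn⟩

lemma tele (𝔍 : ℕ → Ideal A) (h𝔍anti : Antitone 𝔍) (x : ℕ → M)
    (hx : ∀ n, x (n + 1) - x n ∈ (𝔍 n • ⊤ : Submodule A M)) (n k : ℕ) :
    x (n + k) - x n ∈ (𝔍 n • ⊤ : Submodule A M) := by
  induction k with
  | zero => simp
  | succ k ih =>
    have h1 : x (n + (k + 1)) - x n = (x (n + k + 1) - x (n + k)) + (x (n + k) - x n) := by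
      rw [← add_assoc]; abel
    rw [h1]
    refine Submodule.add_mem _ ?_ ih
    exact Submodule.smul_mono (h𝔍anti (Nat.le_add_right n k)) le_rfl (hx (n + k))

lemma exists_unique_limit [UniformSpace M] [IsUniformAddGroup M] [CompleteSpace M] [T2Space M]
    (𝔍 : ℕ → Ideal A) (h𝔍open : ∀ n, IsOpen (𝔍 n : Set A)) (h𝔍anti : Antitone 𝔍)
    (h𝔍basis : (nhds (0 : A)).HasBasis (fun _ : ℕ => True) (fun n => (𝔍 n : Set A)))
    (hM : TopMod.IsDeduced A M)
    (x : ℕ → M) (hx : ∀ n, x (n + 1) - x n ∈ (𝔍 n • ⊤ : Submodule A M)) :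
    ∃! y : M, ∀ n, y - x n ∈ (𝔍 n • ⊤ : Submodule A M) := by
  have hb := nhds_basis_nat 𝔍 h𝔍open h𝔍basis hM
  have htele := tele 𝔍 h𝔍anti x hx
  have hC : CauchySeq x := by
    rw [hb.uniformity_of_nhds_zero.cauchySeq_iff]
    intro i _
    refine ⟨i, fun m hm n hn => ?_⟩
    obtain ⟨k, rfl⟩ := Nat.exists_eq_add_of_le hm
    obtain ⟨l, rfl⟩ := Nat.exists_eq_add_of_le hn
    change x (i + l) - x (i + k) ∈ (𝔍 i • ⊤ : Submodule A M)
    have : x (i + l) - x (i + k) = (x (i + l) - x i) - (x (i + k) - x i) := by abel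
    rw [this]
    exact Submodule.sub_mem _ (htele i l) (htele i k)
  obtain ⟨y, hy⟩ := cauchySeq_tendsto_of_complete hC
  have hmem : ∀ n, y - x n ∈ (𝔍 n • ⊤ : Submodule A M) := by
    intro n
    have hopen : IsOpen ((𝔍 n • ⊤ : Submodule A M).toAddSubgroup : Set M) :=
      AddSubgroup.isOpen_of_mem_nhds _ (hb.mem_of_mem (i := n) trivial)
    have hclosed : IsClosed ((𝔍 n • ⊤ : Submodule A M).toAddSubgroup : Set M) :=
      AddSubgroup.isClosed_of_isOpen _ hopen
    have ht : Tendsto (fun m => x m - x n) atTop (𝓝 (y - x n)) := hy.sub_const _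
    refine hclosed.mem_of_tendsto ht ?_
    filter_upwards [eventually_ge_atTop n] with m hm
    obtain ⟨k, rfl⟩ := Nat.exists_eq_add_of_le hm
    exact htele n k
  refine ⟨y, hmem, fun y' hy' => ?_⟩
  by_contra hne
  have hd : y' - y ≠ 0 := sub_ne_zero.mpr hne
  have hn : ({y' - y}ᶜ : Set M) ∈ 𝓝 (0 : M) := isOpen_compl_singleton.mem_nhds (by simpa using hd.symm)
  obtain ⟨n, -, hsub⟩ := hb.mem_iff.mp hn
  have : y' - y ∈ (𝔍 n • ⊤ : Submodule A M) := by
    have : y' - y = (y' - x n) - (y - x n) := by abel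
    rw [this]
    exact Submodule.sub_mem _ (hy' n) (hmem n)
  exact hsub this rfl

end aux2
section aux3
open Filter Topology

variable {A : Type u} {M : Type v} {N : Type w} [CommRing A] [AddCommGroup M] [Module A M]
  [AddCommGroup N] [Module A N]

lemma step (𝔍 : ℕ → Ideal A) (h𝔍anti : Antitone 𝔍) (u : M →ₗ[A] N)
    (hcoker : ∀ n, Module.Projective (A ⧸ 𝔍 n)
      ((N ⧸ LinearMap.range u) ⧸ (𝔍 n • (⊤ : Submodule A (N ⧸ LinearMap.range u)))))
    (hex : ∀ n, ∃ w : N →ₗ[A] M ⧸ (𝔍 n • ⊤ : Submodule A M),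
      ∀ x, w (u x) = Submodule.Quotient.mk x)
    (n : ℕ) (w : N →ₗ[A] M ⧸ (𝔍 n • ⊤ : Submodule A M))
    (hw : ∀ x, w (u x) = Submodule.Quotient.mk x) :
    ∃ w' : N →ₗ[A] M ⧸ (𝔍 (n + 1) • ⊤ : Submodule A M),
      (∀ x, w' (u x) = Submodule.Quotient.mk x) ∧
      ∀ y, Submodule.factor (Submodule.smul_mono (h𝔍anti (Nat.le_succ n)) (le_refl (⊤ : Submodule A M)))
        (w' y) = w y := by
  obtain ⟨w1, hw1⟩ := hex (n + 1)
  set ρ := Submodule.factor (Submodule.smul_mono (h𝔍anti (Nat.le_succ n)) (le_refl (⊤ : Submodule A M)))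
    with hρ
  let δ : N →ₗ[A] M ⧸ (𝔍 n • ⊤ : Submodule A M) := ρ ∘ₗ w1 - w
  have hδ : LinearMap.range u ≤ LinearMap.ker δ := by
    rintro _ ⟨x, rfl⟩
    rw [LinearMap.mem_ker, LinearMap.sub_apply, LinearMap.comp_apply, hw1, hw, hρ,
      ← Submodule.mkQ_apply, Submodule.factor_mk, Submodule.mkQ_apply, sub_self]
  let δ' : (N ⧸ LinearMap.range u) →ₗ[A] M ⧸ (𝔍 n • ⊤ : Submodule A M) :=
    (LinearMap.range u).liftQ δ hδ
  have hX : ∀ a ∈ 𝔍 (n + 1), ∀ x : M ⧸ (𝔍 (n + 1) • ⊤ : Submodule A M), a • x = 0 := by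
    intro a ha x
    induction x using Submodule.Quotient.induction_on with
    | H m =>
      rw [← Submodule.Quotient.mk_smul, Submodule.Quotient.mk_eq_zero]
      exact Submodule.smul_mem_smul ha trivial
  have hY : ∀ a ∈ 𝔍 (n + 1), ∀ x : M ⧸ (𝔍 n • ⊤ : Submodule A M), a • x = 0 := by
    intro a ha x
    induction x using Submodule.Quotient.induction_on with
    | H m =>
      rw [← Submodule.Quotient.mk_smul, Submodule.Quotient.mk_eq_zero]
      exact Submodule.smul_mem_smul (h𝔍anti (Nat.le_succ n) ha) trivial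
  obtain ⟨h, hh⟩ := lift_of_proj (𝔍 (n + 1)) (hcoker (n + 1)) hX hY ρ
    (Submodule.factor_surjective _) δ'
  refine ⟨w1 - h ∘ₗ (LinearMap.range u).mkQ, ?_, ?_⟩
  · intro x
    have : (LinearMap.range u).mkQ (u x) = 0 := by
      rw [Submodule.mkQ_apply, Submodule.Quotient.mk_eq_zero]; exact ⟨x, rfl⟩
    rw [LinearMap.sub_apply, LinearMap.comp_apply, this, map_zero, sub_zero, hw1]
  · intro y
    have h2 := LinearMap.congr_fun hh ((LinearMap.range u).mkQ y)
    rw [LinearMap.comp_apply] at h2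
    rw [LinearMap.sub_apply, map_sub, LinearMap.comp_apply, h2]
    change ρ (w1 y) - δ y = w y
    change ρ (w1 y) - (ρ (w1 y) - w y) = w y
    abel

end aux3
section aux4
open Filter Topology

variable {A : Type u} {M : Type v} {N : Type w} [CommRing A] [TopologicalSpace A]
  [AddCommGroup M] [Module A M] [AddCommGroup N] [Module A N]

lemma exists_unique_of_compat [UniformSpace M] [IsUniformAddGroup M] [CompleteSpace M] [T2Space M]
    (𝔍 : ℕ → Ideal A) (h𝔍open : ∀ n, IsOpen (𝔍 n : Set A)) (h𝔍anti : Antitone 𝔍)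
    (h𝔍basis : (nhds (0 : A)).HasBasis (fun _ : ℕ => True) (fun n => (𝔍 n : Set A)))
    (hM : TopMod.IsDeduced A M)
    (ξ : ∀ n, M ⧸ (𝔍 n • ⊤ : Submodule A M))
    (hξ : ∀ n, Submodule.factor (Submodule.smul_mono (h𝔍anti (Nat.le_succ n))
      (le_refl (⊤ : Submodule A M))) (ξ (n + 1)) = ξ n) :
    ∃! y : M, ∀ n, (Submodule.Quotient.mk y : M ⧸ (𝔍 n • ⊤ : Submodule A M)) = ξ n := by
  have hsurj : ∀ n, ∃ m : M, (Submodule.Quotient.mk m : M ⧸ (𝔍 n • ⊤ : Submodule A M)) = ξ n :=
    fun n => Submodule.Quotient.mk_surjective _ (ξ n)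
  choose x hx using hsurj
  have hx' : ∀ n, x (n + 1) - x n ∈ (𝔍 n • ⊤ : Submodule A M) := by
    intro n
    rw [← Submodule.Quotient.eq, hx n, ← hξ n, ← hx (n + 1), ← Submodule.mkQ_apply,
      ← Submodule.mkQ_apply, Submodule.factor_mk]
  obtain ⟨y, hy, hyu⟩ := exists_unique_limit 𝔍 h𝔍open h𝔍anti h𝔍basis hM x hx'
  refine ⟨y, fun n => ?_, fun y' hy' => hyu y' fun n => ?_⟩
  · rw [← hx n, Submodule.Quotient.eq]; exact hy n
  · rw [← Submodule.Quotient.eq, hx n]; exact hy' n

end aux4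


/-- Let A be a topological ring with a countable decreasing fundamental system (𝔍_n) of open ideals, M
and N topological A-modules with the topologies deduced from that of A, M Hausdorff and complete,
and u : M → N a continuous linear map such that for every n the cokernel of M/𝔍_n M → N/𝔍_n N is a
projective (A/𝔍_n)-module. Then u is formally left invertible if and only if it has a linear left
inverse. (The published statement adds that u is then a topological isomorphism onto a topological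
direct factor.) -/
theorem result {A : Type u} {M : Type v} {N : Type w}
    [CommRing A] [TopologicalSpace A] [AddCommGroup M] [Module A M] [UniformSpace M] [IsUniformAddGroup M]
    [CompleteSpace M] [T2Space M] [AddCommGroup N] [Module A N] [TopologicalSpace N]
    (𝔍 : ℕ → Ideal A) (h𝔍open : ∀ n, IsOpen (𝔍 n : Set A)) (h𝔍anti : Antitone 𝔍)
    (h𝔍basis : (nhds (0 : A)).HasBasis (fun _ : ℕ => True) (fun n => (𝔍 n : Set A)))
    (hM : TopMod.IsDeduced A M) (hN : TopMod.IsDeduced A N) (u : M →L[A] N)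
    (hcoker : ∀ n, Module.Projective (A ⧸ 𝔍 n)
      ((N ⧸ LinearMap.range u.toLinearMap) ⧸ (𝔍 n • (⊤ : Submodule A (N ⧸ LinearMap.range u.toLinearMap))))) :
    TopMod.IsFormallyLeftInvertible u ↔ ∃ w : N →ₗ[A] M, ∀ x : M, w (u x) = x := by
  have hTM : IsTopologicalAddGroup M := inferInstance
  constructor
  · intro h
    -- maps to the discrete quotients
    have hex : ∀ n, ∃ w : N →ₗ[A] M ⧸ (𝔍 n • ⊤ : Submodule A M),
        ∀ x, w (u.toLinearMap x) = Submodule.Quotient.mk x := by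
      intro n
      letI : TopologicalSpace (M ⧸ (𝔍 n • ⊤ : Submodule A M)) := ⊥
      haveI : DiscreteTopology (M ⧸ (𝔍 n • ⊤ : Submodule A M)) := ⟨rfl⟩
      have hcont : Continuous (𝔍 n • ⊤ : Submodule A M).mkQ := by
        rw [continuous_def]
        intro s _
        rw [isOpen_iff_mem_nhds]
        intro m hm
        rw [← map_add_left_nhds_zero, Filter.mem_map]
        have h0 : ((𝔍 n • ⊤ : Submodule A M) : Set M) ∈ nhds (0 : M) :=
          hM.2.mem_of_mem (h𝔍open n)
        refine Filter.mem_of_superset h0 fun z hz => ?_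
        change (𝔍 n • ⊤ : Submodule A M).mkQ (m + z) ∈ s
        have : (𝔍 n • ⊤ : Submodule A M).mkQ z = 0 := by
          rw [Submodule.mkQ_apply, Submodule.Quotient.mk_eq_zero]; exact hz
        rw [map_add, this, add_zero]
        exact hm
      obtain ⟨w, hw⟩ := h (M ⧸ (𝔍 n • ⊤ : Submodule A M)) ⟨(𝔍 n • ⊤ : Submodule A M).mkQ, hcont⟩
      exact ⟨w.toLinearMap, fun x => hw x⟩
    -- compatible system
    have hstep := step 𝔍 h𝔍anti u.toLinearMap hcoker hex
    choose next hnext1 hnext2 using hstep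
    obtain ⟨w0, hw0⟩ := hex 0
    let W : ∀ n, {w : N →ₗ[A] M ⧸ (𝔍 n • ⊤ : Submodule A M) //
        ∀ x, w (u.toLinearMap x) = Submodule.Quotient.mk x} :=
      fun n => Nat.rec ⟨w0, hw0⟩ (fun n w => ⟨next n w.1 w.2, hnext1 n w.1 w.2⟩) n
    have hW : ∀ n y, Submodule.factor (Submodule.smul_mono (h𝔍anti (Nat.le_succ n))
        (le_refl (⊤ : Submodule A M))) ((W (n + 1)).1 y) = (W n).1 y := by
      intro n y
      exact hnext2 n (W n).1 (W n).2 y
    have hlim := fun y : N => exists_unique_of_compat 𝔍 h𝔍open h𝔍anti h𝔍basis hM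
      (fun n => (W n).1 y) (fun n => hW n y)
    choose wf hwf hwfu using hlim
    refine ⟨{ toFun := wf, map_add' := ?_, map_smul' := ?_ }, ?_⟩
    · intro y y'
      symm
      apply hwfu
      intro n
      rw [Submodule.Quotient.mk_add, hwf y n, hwf y' n, map_add]
    · intro a y
      symm
      apply hwfu
      intro n
      rw [RingHom.id_apply, Submodule.Quotient.mk_smul, hwf y n, map_smul]
    · intro x
      symm
      apply hwfu
      intro n
      exact ((W n).2 x).symm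
  · rintro ⟨w, hw⟩ E _ _ _ _ v
    have hTN : IsTopologicalAddGroup N := hN.1
    have hwc : Continuous w := by
      apply continuous_of_continuousAt_zero
      rw [ContinuousAt, map_zero]
      intro U hU
      rw [Filter.mem_map]
      obtain ⟨J, hJ, hJU⟩ := hM.2.mem_iff.mp hU
      have h0 : ((J • ⊤ : Submodule A N) : Set N) ∈ nhds (0 : N) := hN.2.mem_of_mem hJ
      refine Filter.mem_of_superset h0 fun z hz => hJU ?_
      have : (J • (⊤ : Submodule A N)).map w ≤ J • ⊤ := by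
        rw [Submodule.map_smul'']; exact Submodule.smul_mono le_rfl le_top
      exact this ⟨z, hz, rfl⟩
    refine ⟨⟨v.toLinearMap ∘ₗ w, v.continuous.comp hwc⟩, fun x => ?_⟩
    change v (w (u x)) = v x
    rw [hw]

end Groth.Agent.S5838
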