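import Groth.Statements.S5839
import Mathlib
import Groth.Agent.S5838

set_option autoImplicit false
universe u v w
open EGA41

namespace Groth.Agent.S5839

section aux
open Groth.Agent.S5838

variable {A : Type u} {M : Type v} {N : Type w} [CommRing A] [AddCommGroup M] [Module A M]
  [AddCommGroup N] [Module A N]

lemma map_mem_smul_top' {X Y : Type*} [AddCommGroup X] [Module A X]
    [AddCommGroup Y] [Module A Y]
    (I : Ideal A) (f : X →ₗ[A] Y) {y : X} (hy : y ∈ I • (⊤ : Submodule A X)) :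
    f y ∈ I • (⊤ : Submodule A Y) := by
  have : (I • (⊤ : Submodule A X)).map f ≤ I • ⊤ := by
    rw [Submodule.map_smul'']; exact Submodule.smul_mono le_rfl le_top
  exact this ⟨y, hy, rfl⟩

lemma killed (J : Ideal A) (X : Type*) [AddCommGroup X] [Module A X] :
    ∀ a ∈ J, ∀ x : X ⧸ (J • ⊤ : Submodule A X), a • x = 0 := by
  intro a ha x
  induction x using Submodule.Quotient.induction_on with
  | H m =>
    rw [← Submodule.Quotient.mk_smul, Submodule.Quotient.mk_eq_zero]
    exact Submodule.smul_mem_smul ha trivial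

lemma exists_leftInv_mod (J 𝔏 : Ideal A) (k : ℕ) (hk : 𝔏 ^ k ≤ J) (u : M →ₗ[A] N)
    (hproj : Module.Projective (A ⧸ J) (N ⧸ (J • ⊤ : Submodule A N)))
    (w₀ : N →ₗ[A] M ⧸ (𝔏 • ⊤ : Submodule A M))
    (hw₀ : ∀ x, w₀ (u x) = Submodule.Quotient.mk x) :
    ∃ w : N →ₗ[A] M ⧸ (J • ⊤ : Submodule A M), ∀ x, w (u x) = Submodule.Quotient.mk x := by
  have hJle : (J • ⊤ : Submodule A M) ≤ ((𝔏 ⊔ J) • ⊤ : Submodule A M) :=
    Submodule.smul_mono le_sup_right le_rfl
  have h𝔏le : (𝔏 • ⊤ : Submodule A M) ≤ ((𝔏 ⊔ J) • ⊤ : Submodule A M) :=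
    Submodule.smul_mono le_sup_left le_rfl
  have hX := killed J M
  have hY : ∀ a ∈ J, ∀ y : M ⧸ ((𝔏 ⊔ J) • ⊤ : Submodule A M), a • y = 0 := by
    intro a ha y
    induction y using Submodule.Quotient.induction_on with
    | H m =>
      rw [← Submodule.Quotient.mk_smul, Submodule.Quotient.mk_eq_zero]
      exact Submodule.smul_mem_smul (le_sup_right (a := 𝔏) ha) trivial
  obtain ⟨w₁, hw₁⟩ := lift_of_proj J hproj hX hY (Submodule.factor hJle)
    (Submodule.factor_surjective _) (Submodule.factor h𝔏le ∘ₗ w₀)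
  let ε : M →ₗ[A] M ⧸ (J • ⊤ : Submodule A M) := w₁ ∘ₗ u - (J • ⊤ : Submodule A M).mkQ
  have hεker : (J • ⊤ : Submodule A M) ≤ LinearMap.ker ε := by
    rw [Submodule.smul_le]
    intro a ha m _
    rw [LinearMap.mem_ker, map_smul, hX a ha]
  let ε' : Module.End A (M ⧸ (J • ⊤ : Submodule A M)) := (J • ⊤ : Submodule A M).liftQ ε hεker
  have hε' : ∀ x, ε' x ∈ (𝔏 • ⊤ : Submodule A (M ⧸ (J • ⊤ : Submodule A M))) := by
    intro x
    induction x using Submodule.Quotient.induction_on with
    | H m =>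
      change ε m ∈ _
      have h1 : Submodule.factor hJle (ε m) = 0 := by
        have := LinearMap.congr_fun hw₁ (u m)
        simp only [LinearMap.comp_apply] at this
        rw [LinearMap.sub_apply, map_sub, LinearMap.comp_apply, this, hw₀, Submodule.mkQ_apply,
          ← Submodule.mkQ_apply, ← Submodule.mkQ_apply, Submodule.factor_mk, Submodule.factor_mk,
          sub_self]
      obtain ⟨m', hm'⟩ := Submodule.Quotient.mk_surjective _ (ε m)
      rw [← hm', ← Submodule.mkQ_apply, Submodule.factor_mk, Submodule.mkQ_apply,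
        Submodule.Quotient.mk_eq_zero, Submodule.sup_smul] at h1
      obtain ⟨a, ha, b, hb, hab⟩ := Submodule.mem_sup.mp h1
      have h2 : (Submodule.Quotient.mk m' : M ⧸ (J • ⊤ : Submodule A M)) = Submodule.Quotient.mk a := by
        rw [Submodule.Quotient.eq, ← hab]; simpa using hb
      rw [← hm', h2]
      exact map_mem_smul_top' 𝔏 (J • ⊤ : Submodule A M).mkQ ha
  have hpow : ∀ j : ℕ, ∀ x, (ε' ^ j) x ∈ (𝔏 ^ j • ⊤ : Submodule A (M ⧸ (J • ⊤ : Submodule A M))) := by
    intro j
    induction j with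
    | zero => intro x; simp
    | succ j ih =>
      intro x
      rw [pow_succ' ε' j, Module.End.mul_apply]
      have h1 : ((𝔏 ^ j • ⊤ : Submodule A (M ⧸ (J • ⊤ : Submodule A M)))).map ε' ≤ 𝔏 ^ (j + 1) • ⊤ := by
        rw [Submodule.map_smul'', pow_succ, Submodule.mul_smul]
        refine Submodule.smul_mono le_rfl ?_
        rintro _ ⟨y, -, rfl⟩
        exact hε' y
      exact h1 ⟨_, ih x, rfl⟩
  have hnil : IsNilpotent ε' := by
    refine ⟨k, LinearMap.ext fun x => ?_⟩
    have h1 := hpow k x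
    have h2 : (𝔏 ^ k • ⊤ : Submodule A (M ⧸ (J • ⊤ : Submodule A M))) ≤ ⊥ := by
      rw [Submodule.smul_le]
      intro a ha y _
      rw [Submodule.mem_bot]
      exact hX a (hk ha) y
    simpa using h2 h1
  obtain ⟨θ, hθ⟩ := hnil.isUnit_one_add
  refine ⟨(θ⁻¹ : (Module.End A (M ⧸ (J • ⊤ : Submodule A M)))ˣ).1 ∘ₗ w₁, fun x => ?_⟩
  have h1 : w₁ (u x) = θ.1 (Submodule.Quotient.mk x) := by
    rw [hθ, LinearMap.add_apply, Module.End.one_apply]
    change _ = _ + ε x
    simp [ε]
  rw [LinearMap.comp_apply, h1, ← Module.End.mul_apply, Units.inv_mul, Module.End.one_apply]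

end aux
section aux2
open Groth.Agent.S5838

variable {A : Type u} {M : Type v} {N : Type w} [CommRing A] [AddCommGroup M] [Module A M]
  [AddCommGroup N] [Module A N]

lemma coker_proj (J : Ideal A) (u : M →ₗ[A] N)
    (hproj : Module.Projective (A ⧸ J) (N ⧸ (J • ⊤ : Submodule A N)))
    (w : N →ₗ[A] M ⧸ (J • ⊤ : Submodule A M)) (hw : ∀ x, w (u x) = Submodule.Quotient.mk x) :
    Module.Projective (A ⧸ J)
      ((N ⧸ LinearMap.range u) ⧸ (J • (⊤ : Submodule A (N ⧸ LinearMap.range u)))) := by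
  have hs : Function.Surjective (algebraMap A (A ⧸ J)) := Ideal.Quotient.mk_surjective
  have hu : (J • ⊤ : Submodule A M) ≤ (J • ⊤ : Submodule A N).comap u := by
    rw [Submodule.smul_le]
    intro a ha m _
    rw [Submodule.mem_comap, map_smul]
    exact Submodule.smul_mem_smul ha trivial
  let uJ : (M ⧸ (J • ⊤ : Submodule A M)) →ₗ[A] (N ⧸ (J • ⊤ : Submodule A N)) :=
    Submodule.mapQ _ _ u hu
  have hq : (J • ⊤ : Submodule A N) ≤
      (J • ⊤ : Submodule A (N ⧸ LinearMap.range u)).comap (LinearMap.range u).mkQ := by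
    rw [Submodule.smul_le]
    intro a ha m _
    rw [Submodule.mem_comap, map_smul]
    exact Submodule.smul_mem_smul ha trivial
  let s : (N ⧸ (J • ⊤ : Submodule A N)) →ₗ[A]
      ((N ⧸ LinearMap.range u) ⧸ (J • (⊤ : Submodule A (N ⧸ LinearMap.range u)))) :=
    Submodule.mapQ _ _ (LinearMap.range u).mkQ hq
  let i₀ : N →ₗ[A] (N ⧸ (J • ⊤ : Submodule A N)) := (J • ⊤ : Submodule A N).mkQ - uJ ∘ₗ w
  have hi₀ : LinearMap.range u ≤ LinearMap.ker i₀ := by
    rintro _ ⟨m, rfl⟩
    rw [LinearMap.mem_ker, LinearMap.sub_apply, LinearMap.comp_apply, hw]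
    simp [uJ]
  let i₁ : (N ⧸ LinearMap.range u) →ₗ[A] (N ⧸ (J • ⊤ : Submodule A N)) :=
    (LinearMap.range u).liftQ i₀ hi₀
  have hi₁ : (J • (⊤ : Submodule A (N ⧸ LinearMap.range u))) ≤ LinearMap.ker i₁ := by
    rw [Submodule.smul_le]
    intro a ha c _
    rw [LinearMap.mem_ker, map_smul, killed J N a ha]
  let i : ((N ⧸ LinearMap.range u) ⧸ (J • (⊤ : Submodule A (N ⧸ LinearMap.range u)))) →ₗ[A]
      (N ⧸ (J • ⊤ : Submodule A N)) := Submodule.liftQ _ i₁ hi₁
  have hsu : ∀ x, s (uJ x) = 0 := by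
    intro x
    induction x using Submodule.Quotient.induction_on with
    | H m =>
      simp only [uJ, s, Submodule.mapQ_apply, Submodule.mkQ_apply]
      have : (Submodule.Quotient.mk (u m) : N ⧸ LinearMap.range u) = 0 := by
        rw [Submodule.Quotient.mk_eq_zero]; exact ⟨m, rfl⟩
      rw [this, Submodule.Quotient.mk_zero]
  have hsi : s ∘ₗ i = LinearMap.id := by
    apply LinearMap.ext
    intro c
    induction c using Submodule.Quotient.induction_on with
    | H c =>
      induction c using Submodule.Quotient.induction_on with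
      | H n =>
        change s (i₀ n) = _
        rw [LinearMap.sub_apply, map_sub, LinearMap.comp_apply, hsu, sub_zero]
        rfl
  exact Module.Projective.of_split (i.extendScalarsOfSurjective hs) (s.extendScalarsOfSurjective hs)
    (by
      apply LinearMap.ext
      intro c
      exact LinearMap.congr_fun hsi c)

end aux2


/-- Let A be preadmissible with ideal of definition 𝔏, the topologies of M and N deduced from that of A,
N/JN projective over A/J for every open ideal J; assuming moreover a countable decreasing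
fundamental system of open ideals and M Hausdorff and complete, u : M → N has a linear left inverse
if and only if the induced map M/𝔏M → N/𝔏N has one (both being equivalent to formal left
invertibility). -/
theorem result {A : Type u} {M : Type v} {N : Type w}
    [CommRing A] [TopologicalSpace A] [AddCommGroup M] [Module A M] [UniformSpace M] [IsUniformAddGroup M]
    [CompleteSpace M] [T2Space M] [AddCommGroup N] [Module A N] [TopologicalSpace N]
    (𝔍 : ℕ → Ideal A) (h𝔍open : ∀ n, IsOpen (𝔍 n : Set A)) (h𝔍anti : Antitone 𝔍)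
    (h𝔍basis : (nhds (0 : A)).HasBasis (fun _ : ℕ => True) (fun n => (𝔍 n : Set A)))
    (hM : TopMod.IsDeduced A M) (hN : TopMod.IsDeduced A N) (u : M →L[A] N)
    (hA : LinTop.IsPreadmissible A) (𝔏 : Ideal A) (h𝔏 : LinTop.IsIdealOfDefinition A 𝔏)
    (hproj : ∀ J : Ideal A, IsOpen (J : Set A) → Module.Projective (A ⧸ J) (N ⧸ (J • (⊤ : Submodule A N)))) :
    (∃ w : N →ₗ[A] M, ∀ x : M, w (u x) = x) ↔
      ∃ w₀ : N →ₗ[A] M ⧸ (𝔏 • ⊤ : Submodule A M), ∀ x : M, w₀ (u x) = Submodule.Quotient.mk x := by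
  constructor
  · rintro ⟨w, hw⟩
    exact ⟨(𝔏 • ⊤ : Submodule A M).mkQ ∘ₗ w, fun x => by
      rw [LinearMap.comp_apply, hw]; rfl⟩
  · rintro ⟨w₀, hw₀⟩
    have hI : ∀ J : Ideal A, IsOpen (J : Set A) →
        ∃ w : N →ₗ[A] M ⧸ (J • ⊤ : Submodule A M),
          ∀ x, w (u.toLinearMap x) = Submodule.Quotient.mk x := by
      intro J hJ
      obtain ⟨k, -, hk⟩ := h𝔏.2 (J : Set A) (hJ.mem_nhds J.zero_mem)
      exact exists_leftInv_mod J 𝔏 k (fun a ha => hk ha) u.toLinearMap (hproj J hJ) w₀ hw₀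
    have hcoker : ∀ n, Module.Projective (A ⧸ 𝔍 n)
        ((N ⧸ LinearMap.range u.toLinearMap) ⧸
          (𝔍 n • (⊤ : Submodule A (N ⧸ LinearMap.range u.toLinearMap)))) := by
      intro n
      obtain ⟨w, hw⟩ := hI (𝔍 n) (h𝔍open n)
      exact coker_proj (𝔍 n) u.toLinearMap (hproj _ (h𝔍open n)) w hw
    have hTN : IsTopologicalAddGroup N := hN.1
    have hform : TopMod.IsFormallyLeftInvertible u := by
      intro E _ _ _ _ v
      have hker : (v ⁻¹' {0} : Set M) ∈ nhds (0 : M) := by
        apply v.continuous.continuousAt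
        rw [map_zero]
        exact (isOpen_discrete ({0} : Set E)).mem_nhds rfl
      obtain ⟨J, hJ, hJv⟩ := hM.2.mem_iff.mp hker
      obtain ⟨wJ, hwJ⟩ := hI J hJ
      have hle : (J • ⊤ : Submodule A M) ≤ LinearMap.ker v.toLinearMap := by
        intro m hm
        exact hJv hm
      let v' : (M ⧸ (J • ⊤ : Submodule A M)) →ₗ[A] E := Submodule.liftQ _ v.toLinearMap hle
      let w : N →ₗ[A] E := v' ∘ₗ wJ
      have hwker : ∀ z ∈ (J • ⊤ : Submodule A N), w z = 0 := by
        intro z hz
        have : (J • ⊤ : Submodule A N) ≤ LinearMap.ker wJ := by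
          rw [Submodule.smul_le]
          intro a ha n _
          rw [LinearMap.mem_ker, map_smul, killed J M a ha]
        rw [LinearMap.comp_apply, this hz, map_zero]
      have hcont : Continuous w := by
        rw [continuous_def]
        intro s _
        rw [isOpen_iff_mem_nhds]
        intro m hm
        rw [← map_add_left_nhds_zero, Filter.mem_map]
        have h0 : ((J • ⊤ : Submodule A N) : Set N) ∈ nhds (0 : N) := hN.2.mem_of_mem hJ
        refine Filter.mem_of_superset h0 fun z hz => ?_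
        change w (m + z) ∈ s
        rw [map_add, hwker z hz, add_zero]
        exact hm
      refine ⟨⟨w, hcont⟩, fun x => ?_⟩
      change v' (wJ (u x)) = v x
      rw [show wJ (u x) = Submodule.Quotient.mk x from hwJ x]
      rfl
    exact (Groth.Agent.S5838.result 𝔍 h𝔍open h𝔍anti h𝔍basis hM hN u hcoker).mp hform

end Groth.Agent.S5839
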