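import Groth.Statements.S5827
import Mathlib
import Groth.Agent.S5839

set_option autoImplicit false
universe u v w
open EGA41

namespace Groth.Agent.S5827

/-- Let A be a preadmissible topological ring with an ideal of definition 𝔏, M, N topological A-modules
with the topologies deduced from that of A such that N/JN is a projective (A/J)-module for every
open ideal J, and u : M → N a continuous linear map. Then u is formally left invertible if and only
if the induced map M/𝔏M → N/𝔏N is left invertible. -/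
theorem result {A : Type u} {M : Type v}
    {N : Type w} [CommRing A] [TopologicalSpace A] [AddCommGroup M] [Module A M] [TopologicalSpace M]
    [AddCommGroup N] [Module A N] [TopologicalSpace N] (hA : LinTop.IsPreadmissible A) (𝔏 : Ideal A)
    (h𝔏 : LinTop.IsIdealOfDefinition A 𝔏) (hM : TopMod.IsDeduced A M) (hN : TopMod.IsDeduced A N)
    (hproj : ∀ J : Ideal A, IsOpen (J : Set A) → Module.Projective (A ⧸ J) (N ⧸ (J • (⊤ : Submodule A N))))
    (u : M →L[A] N) :
    TopMod.IsFormallyLeftInvertible u ↔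
      ∃ w : N →ₗ[A] M ⧸ (𝔏 • ⊤ : Submodule A M), ∀ x : M, w (u x) = Submodule.Quotient.mk x := by
  have hTM : IsTopologicalAddGroup M := hM.1
  have hTN : IsTopologicalAddGroup N := hN.1
  constructor
  · intro h
    letI : TopologicalSpace (M ⧸ (𝔏 • ⊤ : Submodule A M)) := ⊥
    haveI : DiscreteTopology (M ⧸ (𝔏 • ⊤ : Submodule A M)) := ⟨rfl⟩
    have hcont : Continuous (𝔏 • ⊤ : Submodule A M).mkQ := by
      rw [continuous_def]
      intro s _
      rw [isOpen_iff_mem_nhds]
      intro m hm
      rw [← map_add_left_nhds_zero, Filter.mem_map]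
      have h0 : ((𝔏 • ⊤ : Submodule A M) : Set M) ∈ nhds (0 : M) :=
        hM.2.mem_of_mem h𝔏.1
      refine Filter.mem_of_superset h0 fun z hz => ?_
      change (𝔏 • ⊤ : Submodule A M).mkQ (m + z) ∈ s
      have : (𝔏 • ⊤ : Submodule A M).mkQ z = 0 := by
        rw [Submodule.mkQ_apply, Submodule.Quotient.mk_eq_zero]; exact hz
      rw [map_add, this, add_zero]
      exact hm
    obtain ⟨w, hw⟩ := h (M ⧸ (𝔏 • ⊤ : Submodule A M)) ⟨(𝔏 • ⊤ : Submodule A M).mkQ, hcont⟩
    exact ⟨w.toLinearMap, fun x => hw x⟩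
  · rintro ⟨w₀, hw₀⟩
    have hI : ∀ J : Ideal A, IsOpen (J : Set A) →
        ∃ w : N →ₗ[A] M ⧸ (J • ⊤ : Submodule A M),
          ∀ x, w (u.toLinearMap x) = Submodule.Quotient.mk x := by
      intro J hJ
      obtain ⟨k, -, hk⟩ := h𝔏.2 (J : Set A) (hJ.mem_nhds J.zero_mem)
      exact Groth.Agent.S5839.exists_leftInv_mod J 𝔏 k (fun a ha => hk ha) u.toLinearMap
        (hproj J hJ) w₀ hw₀
    intro E _ _ _ _ v
    have hker : (v ⁻¹' {0} : Set M) ∈ nhds (0 : M) := by
      apply v.continuous.continuousAt
      rw [map_zero]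
      exact (isOpen_discrete ({0} : Set E)).mem_nhds rfl
    obtain ⟨J, hJ, hJv⟩ := hM.2.mem_iff.mp hker
    obtain ⟨wJ, hwJ⟩ := hI J hJ
    have hle : (J • ⊤ : Submodule A M) ≤ LinearMap.ker v.toLinearMap := by
      intro m hm
      exact hJv hm
    let v' : (M ⧸ (J • ⊤ : Submodule A M)) →ₗ[A] E := Submodule.liftQ _ v.toLinearMap hle
    let w : N →ₗ[A] E := v' ∘ₗ wJ
    have hwker : ∀ z ∈ (J • ⊤ : Submodule A N), w z = 0 := by
      intro z hz
      have : (J • ⊤ : Submodule A N) ≤ LinearMap.ker wJ := by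
        rw [Submodule.smul_le]
        intro a ha n _
        rw [LinearMap.mem_ker, map_smul, Groth.Agent.S5839.killed J M a ha]
      rw [LinearMap.comp_apply, this hz, map_zero]
    have hcont : Continuous w := by
      rw [continuous_def]
      intro s _
      rw [isOpen_iff_mem_nhds]
      intro m hm
      rw [← map_add_left_nhds_zero, Filter.mem_map]
      have h0 : ((J • ⊤ : Submodule A N) : Set N) ∈ nhds (0 : N) := hN.2.mem_of_mem hJ
      refine Filter.mem_of_superset h0 fun z hz => ?_
      change w (m + z) ∈ s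
      rw [map_add, hwker z hz, add_zero]
      exact hm
    refine ⟨⟨w, hcont⟩, fun x => ?_⟩
    change v' (wJ (u x)) = v x
    rw [show wJ (u x) = Submodule.Quotient.mk x from hwJ x]
    rfl

end Groth.Agent.S5827
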