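import Groth.Statements.S5828
-- import your own Groth.Agent.* helpers here

set_option autoImplicit false
universe u v
open EGA41

namespace Groth.Agent.S5828


section
variable {A : Type u} {C L : Type v} [CommRing A] [CommRing C] [Algebra A C]
    [AddCommGroup L] [Module C L] [Module A L] [IsScalarTower A C L] (X : Exal.Ext A C L)

omit [Module A L] [IsScalarTower A C L] in
theorem proj_incl (z : L) : X.proj (X.incl z) = 0 :=
  (X.isExtension.exact _).mpr ⟨z, rfl⟩

omit [Module A L] [IsScalarTower A C L] in
theorem incl_mul_incl (a b : L) : X.incl a * X.incl b = 0 := by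
  rw [X.isExtension.mul_incl, proj_incl, zero_smul, map_zero]

omit [Module A L] [IsScalarTower A C L] in
theorem incl_mul (a : L) (y : X.E) : X.incl a * y = X.incl (X.proj y • a) := by
  rw [mul_comm, X.isExtension.mul_incl]

theorem smul_incl (a : A) (z : L) : a • X.incl z = X.incl (a • z) := by
  rw [Algebra.smul_def, X.isExtension.mul_incl, AlgHom.commutes, algebraMap_smul]

/-- the algebra endomorphism attached to a derivation -/
noncomputable def homOfDer (D : Derivation A C L) : X.E →ₐ[A] X.E where
  toFun x := x + X.incl (D (X.proj x))
  map_one' := by
    rw [map_one, Derivation.map_one_eq_zero, map_zero, add_zero]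
  map_mul' x y := by
    rw [map_mul, Derivation.leibniz, map_add, add_mul, mul_add, mul_add, incl_mul_incl,
      X.isExtension.mul_incl, incl_mul, add_zero]
    abel
  map_zero' := by
    rw [map_zero, map_zero, map_zero, add_zero]
  map_add' x y := by
    rw [map_add, map_add, map_add]
    abel
  commutes' a := by
    rw [AlgHom.commutes, Derivation.map_algebraMap, map_zero, add_zero]

omit [IsScalarTower A C L] in
theorem homOfDer_apply (D : Derivation A C L) (x : X.E) :
    homOfDer X D x = x + X.incl (D (X.proj x)) := rfl

omit [IsScalarTower A C L] in
theorem proj_homOfDer (D : Derivation A C L) (x : X.E) : X.proj (homOfDer X D x) = X.proj x := by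
  rw [homOfDer_apply, map_add, proj_incl, add_zero]

theorem homOfDer_neg_comp (D : Derivation A C L) (x : X.E) :
    homOfDer X (-D) (homOfDer X D x) = x := by
  rw [homOfDer_apply, proj_homOfDer, homOfDer_apply, Derivation.neg_apply, map_neg]
  abel

end

/-- Commutative case. For an A-extension X of C by a C-module L, with middle ring E, projection p and
inclusion i, the A-derivations D : C → L and the self-equivalences of X correspond under D ↦ (x ↦ x
+ i (D (p x))): every derivation defines a self-equivalence with this formula, and every
self-equivalence is of this form for exactly one derivation. (Bijection of sets; the published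
statement also records compatibility with the group laws.) -/
theorem result {A : Type u} {C L : Type v} [CommRing A] [CommRing C] [Algebra A C]
    [AddCommGroup L] [Module C L] [Module A L] [IsScalarTower A C L] (X : Exal.Ext A C L) :
    (∀ D : Derivation A C L, ∃ e : X.Equiv X, ∀ x : X.E, e.toAlgEquiv x = x + X.incl (D (X.proj x))) ∧
      ∀ e : X.Equiv X, ∃! D : Derivation A C L, ∀ x : X.E, e.toAlgEquiv x = x + X.incl (D (X.proj x)) := by
  classical
  constructor
  · intro D
    have h1 : ∀ x, homOfDer X D (homOfDer X (-D) x) = x := by
      intro x
      have := homOfDer_neg_comp X (-D) x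
      rwa [neg_neg] at this
    refine ⟨⟨AlgEquiv.ofAlgHom (homOfDer X D) (homOfDer X (-D))
      (AlgHom.ext h1) (AlgHom.ext (homOfDer_neg_comp X D)), ?_, ?_⟩, ?_⟩
    · intro x
      exact proj_homOfDer X D x
    · intro z
      change homOfDer X D (X.incl z) = X.incl z
      rw [homOfDer_apply, proj_incl, map_zero, map_zero, add_zero]
    · intro x
      rfl
  · intro e
    -- the difference e x - x lies in the kernel
    have hker : ∀ x : X.E, X.proj (e.toAlgEquiv x - x) = 0 := by
      intro x
      rw [map_sub, e.proj_apply, sub_self]
    let k : X.E → L := fun x => X.kerLift (e.toAlgEquiv x - x) (hker x)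
    have hk : ∀ x, X.incl (k x) = e.toAlgEquiv x - x := fun x => X.incl_kerLift _ _
    have hk_congr : ∀ x x', X.proj x = X.proj x' → k x = k x' := by
      intro x x' hxx'
      apply X.isExtension.incl_injective
      rw [hk, hk]
      have h0 : X.proj (x - x') = 0 := by rw [map_sub, hxx', sub_self]
      obtain ⟨z, hz⟩ := (X.isExtension.exact _).mp h0
      have h1 : e.toAlgEquiv (x - x') = x - x' := by
        rw [← hz, e.apply_incl]
      rw [map_sub] at h1
      have : e.toAlgEquiv x - x - (e.toAlgEquiv x' - x') = 0 := by
        have h2 : e.toAlgEquiv x - x - (e.toAlgEquiv x' - x') =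
            (e.toAlgEquiv x - e.toAlgEquiv x') - (x - x') := by abel
        rw [h2, h1, sub_self]
      exact sub_eq_zero.mp this
    have hk_add : ∀ x y, k (x + y) = k x + k y := by
      intro x y
      apply X.isExtension.incl_injective
      rw [map_add, hk, hk, hk, map_add]
      abel
    have hk_smul : ∀ (a : A) (x : X.E), k (a • x) = a • k x := by
      intro a x
      apply X.isExtension.incl_injective
      rw [← smul_incl, hk, hk, map_smul, smul_sub]
    have hk_mul : ∀ x y, k (x * y) = X.proj x • k y + X.proj y • k x := by
      intro x y
      apply X.isExtension.incl_injective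
      have hx : e.toAlgEquiv x = x + X.incl (k x) := by rw [hk]; abel
      have hy : e.toAlgEquiv y = y + X.incl (k y) := by rw [hk]; abel
      rw [hk, map_mul, hx, hy, map_add, add_mul, mul_add, mul_add, incl_mul_incl, incl_mul,
        X.isExtension.mul_incl]
      abel
    let sec : C → X.E := fun c => (X.isExtension.proj_surjective c).choose
    have hsec : ∀ c, X.proj (sec c) = c := fun c => (X.isExtension.proj_surjective c).choose_spec
    have hD : ∀ x, k (sec (X.proj x)) = k x := fun x => hk_congr _ _ (hsec _)
    let Dlin : C →ₗ[A] L :=
      { toFun := fun c => k (sec c)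
        map_add' := fun c c' => by
          rw [← hk_add]
          apply hk_congr
          rw [map_add, hsec, hsec, hsec]
        map_smul' := fun a c => by
          rw [RingHom.id_apply, ← hk_smul]
          apply hk_congr
          rw [map_smul, hsec, hsec] }
    let D : Derivation A C L := Derivation.mk' Dlin (by
      intro c c'
      change k (sec (c * c')) = c • k (sec c') + c' • k (sec c)
      have : k (sec (c * c')) = k (sec c * sec c') := by
        apply hk_congr
        rw [map_mul, hsec, hsec, hsec]
      rw [this, hk_mul, hsec, hsec])
    have hDapply : ∀ c, D c = k (sec c) := fun c => rfl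
    refine ⟨D, ?_, ?_⟩
    · intro x
      rw [hDapply, hD, hk]
      abel
    · intro D' hD'
      ext c
      obtain ⟨x, rfl⟩ := X.isExtension.proj_surjective c
      apply X.isExtension.incl_injective
      rw [hDapply, hD, hk, hD' x]
      abel

end Groth.Agent.S5828
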