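import Groth.Statements.S5829
-- import your own Groth.Agent.* helpers here

set_option autoImplicit false
universe u v w
open EGA41

namespace Groth.Agent.S5829

/-- Commutative case. Let B be a topological A-algebra in which the square of every open ideal is open,
and L a discrete B-module killed by an open ideal of B. Then every A-derivation B → L is continuous:
the submodule of continuous derivations is everything. (The topology of A is irrelevant and is not
assumed.) -/
theorem result {A : Type u} {B : Type v} {L : Type w} [CommRing A] [CommRing B]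
    [Algebra A B] [AddCommGroup L] [Module A L] [Module B L] [IsScalarTower A B L] [TopologicalSpace B]
    [IsTopologicalRing B] [TopologicalSpace L] [DiscreteTopology L] [ContinuousAdd L] [ContinuousConstSMul B L]
    (hsq : ∀ I : Ideal B, IsOpen (I : Set B) → IsOpen ((I ^ 2 : Ideal B) : Set B))
    (K : Ideal B) (hK : IsOpen (K : Set B)) (hKL : ∀ x ∈ K, ∀ z : L, x • z = 0) :
    TopMod.DerCont A B L = ⊤ := by
  rw [eq_top_iff]
  intro D _
  change Continuous D
  -- D kills K^2
  have hD0 : ∀ x ∈ (K ^ 2 : Ideal B), D x = 0 := by
    intro x hx
    rw [pow_two] at hx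
    refine Submodule.mul_induction_on hx ?_ ?_
    · intro a ha b hb
      rw [Derivation.leibniz, hKL a ha, hKL b hb, add_zero]
    · intro a b ha hb
      rw [map_add, ha, hb, add_zero]
  have hopen : IsOpen ((K ^ 2 : Ideal B) : Set B) := hsq K hK
  rw [continuous_discrete_rng]
  intro l
  rw [isOpen_iff_forall_mem_open]
  intro x hx
  refine ⟨(fun y => y - x) ⁻¹' ((K ^ 2 : Ideal B) : Set B), ?_, hopen.preimage (continuous_sub_right x), ?_⟩
  · intro y hy
    have hy' : y - x ∈ (K ^ 2 : Ideal B) := hy
    have h0 := hD0 _ hy'
    rw [map_sub, sub_eq_zero] at h0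
    change D y = l
    rw [h0]
    exact hx
  · change x - x ∈ (K ^ 2 : Ideal B)
    rw [sub_self]
    exact Ideal.zero_mem _

end Groth.Agent.S5829
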