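import Groth.Statements.S5830
import Mathlib
-- import your own Groth.Agent.* helpers here

set_option autoImplicit false
universe u v
open EGA41

namespace Groth.Agent.S5830

section helpers
section
variable {A : Type u} {B : Type v} [CommRing A] [CommRing B]
    [Algebra A B] {L : Type v} [AddCommGroup L] [Module B L] [Module A L]
    [IsScalarTower A B L] (f : B →ₗ[A] B →ₗ[A] L)
    (hsymm : ∀ x y : B, f x y = f y x)
    (hcoc : ∀ x y z : B, f (x * y) z + z • f x y = x • f y z + f x (y * z))

/-- carrier of the Hochschild extension -/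
@[nolint unusedArguments]
def HExt (f : B →ₗ[A] B →ₗ[A] L) (_hsymm : ∀ x y : B, f x y = f y x)
    (_hcoc : ∀ x y z : B, f (x * y) z + z • f x y = x • f y z + f x (y * z)) : Type v := B × L

namespace HExt
variable {f hsymm hcoc}
def fst (p : HExt f hsymm hcoc) : B := Prod.fst (show B × L from p)
def snd (p : HExt f hsymm hcoc) : L := Prod.snd (show B × L from p)
def mk (b : B) (l : L) : HExt f hsymm hcoc := ((b, l) : B × L)
@[ext] theorem ext {p q : HExt f hsymm hcoc} (h1 : p.fst = q.fst) (h2 : p.snd = q.snd) : p = q :=
  Prod.ext h1 h2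
@[simp] theorem fst_mk (b : B) (l : L) : (mk b l : HExt f hsymm hcoc).fst = b := rfl
@[simp] theorem snd_mk (b : B) (l : L) : (mk b l : HExt f hsymm hcoc).snd = l := rfl
end HExt

instance : AddCommGroup (HExt f hsymm hcoc) := inferInstanceAs (AddCommGroup (B × L))
instance : Module A (HExt f hsymm hcoc) := inferInstanceAs (Module A (B × L))
instance : Mul (HExt f hsymm hcoc) :=
  ⟨fun p q => HExt.mk (p.fst * q.fst) (p.fst • q.snd + q.fst • p.snd + f p.fst q.fst)⟩
instance : One (HExt f hsymm hcoc) := ⟨HExt.mk (1 : B) (-f 1 1)⟩

variable {f hsymm hcoc}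
@[simp] theorem mul_fst (p q : HExt f hsymm hcoc) : (p * q).fst = p.fst * q.fst := rfl
@[simp] theorem mul_snd (p q : HExt f hsymm hcoc) :
    (p * q).snd = p.fst • q.snd + q.fst • p.snd + f p.fst q.fst := rfl
@[simp] theorem one_fst : (1 : HExt f hsymm hcoc).fst = 1 := rfl
@[simp] theorem one_snd : (1 : HExt f hsymm hcoc).snd = -f 1 1 := rfl
@[simp] theorem add_fst (p q : HExt f hsymm hcoc) : (p + q).fst = p.fst + q.fst := rfl
@[simp] theorem add_snd (p q : HExt f hsymm hcoc) : (p + q).snd = p.snd + q.snd := rfl
@[simp] theorem zero_fst : (0 : HExt f hsymm hcoc).fst = 0 := rfl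
@[simp] theorem zero_snd : (0 : HExt f hsymm hcoc).snd = 0 := rfl
@[simp] theorem smul_fst (a : A) (p : HExt f hsymm hcoc) : (a • p).fst = a • p.fst := rfl
@[simp] theorem smul_snd (a : A) (p : HExt f hsymm hcoc) : (a • p).snd = a • p.snd := rfl
variable (f hsymm hcoc)

include hcoc in
theorem f_one_left (z : B) : f 1 z = z • f 1 1 := by
  have := hcoc 1 1 z
  rw [one_mul, one_mul, one_smul] at this
  exact (add_right_injective _ this).symm

include hsymm hcoc in
theorem f_one_right (z : B) : f z 1 = z • f 1 1 := by
  rw [hsymm, f_one_left f hcoc]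

noncomputable instance : CommRing (HExt f hsymm hcoc) :=
  { (inferInstance : AddCommGroup (HExt f hsymm hcoc)) with
    mul := (· * ·)
    one := 1
    left_distrib := fun p q r => by
      ext
      · simp only [mul_fst, add_fst, mul_add]
      · simp only [mul_snd, add_fst, add_snd, smul_add, add_smul, map_add]
        abel
    right_distrib := fun p q r => by
      ext
      · simp only [mul_fst, add_fst, add_mul]
      · simp only [mul_snd, add_fst, add_snd, smul_add, add_smul, map_add, LinearMap.add_apply]
        abel
    zero_mul := fun p => by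
      ext
      · simp only [mul_fst, zero_fst, zero_mul]
      · simp only [mul_snd, zero_fst, zero_snd, zero_smul, smul_zero, map_zero,
          LinearMap.zero_apply, add_zero]
    mul_zero := fun p => by
      ext
      · simp only [mul_fst, zero_fst, mul_zero]
      · simp only [mul_snd, zero_fst, zero_snd, zero_smul, smul_zero, map_zero, add_zero]
    mul_assoc := fun p q r => by
      ext
      · simp only [mul_fst, mul_assoc]
      · simp only [mul_snd, mul_fst, smul_add, mul_smul]
        have h := hcoc p.fst q.fst r.fst
        rw [smul_comm r.fst p.fst q.snd, smul_comm r.fst q.fst p.snd]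
        calc p.fst • q.fst • r.snd + (p.fst • r.fst • q.snd + q.fst • r.fst • p.snd +
              r.fst • f p.fst q.fst) + f (p.fst * q.fst) r.fst
            = p.fst • q.fst • r.snd + p.fst • r.fst • q.snd + q.fst • r.fst • p.snd +
              (f (p.fst * q.fst) r.fst + r.fst • f p.fst q.fst) := by abel
          _ = p.fst • q.fst • r.snd + p.fst • r.fst • q.snd + q.fst • r.fst • p.snd +
              (p.fst • f q.fst r.fst + f p.fst (q.fst * r.fst)) := by rw [h]
          _ = _ := by abel
    one_mul := fun p => by
      ext
      · simp only [mul_fst, one_fst, one_mul]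
      · rw [mul_snd, one_fst, one_snd, one_smul, f_one_left f hcoc p.fst, smul_neg]
        abel
    mul_one := fun p => by
      ext
      · simp only [mul_fst, one_fst, mul_one]
      · rw [mul_snd, one_fst, one_snd, one_smul, f_one_right f hsymm hcoc p.fst, smul_neg]
        abel
    mul_comm := fun p q => by
      ext
      · simp only [mul_fst, mul_comm]
      · simp only [mul_snd, hsymm p.fst q.fst]
        abel }

noncomputable instance : Algebra A (HExt f hsymm hcoc) := Algebra.ofModule
    (fun a p q => by
      ext
      · simp only [mul_fst, smul_fst, smul_mul_assoc]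
      · simp only [mul_snd, smul_fst, smul_snd, smul_add, map_smul, LinearMap.smul_apply,
          smul_assoc]
        rw [smul_comm q.fst a p.snd])
    (fun a p q => by
      ext
      · simp only [mul_fst, smul_fst, mul_smul_comm]
      · simp only [mul_snd, smul_fst, smul_snd, smul_add, map_smul, smul_assoc]
        rw [smul_comm p.fst a q.snd])

end

theorem main {A : Type u} {B : Type v} [CommRing A] [CommRing B]
    [Algebra A B] [Algebra.FormallySmooth A B] {L : Type v} [AddCommGroup L] [Module B L] [Module A L]
    [IsScalarTower A B L] (f : B →ₗ[A] B →ₗ[A] L) (hsymm : ∀ x y : B, f x y = f y x)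
    (hcoc : ∀ x y z : B, f (x * y) z + z • f x y = x • f y z + f x (y * z)) :
    ∃ g : B →ₗ[A] L, ∀ x y : B, f x y = x • g y - g (x * y) + y • g x := by
  let p : HExt f hsymm hcoc →ₐ[A] B :=
    { toFun := fun t => t.fst
      map_one' := rfl
      map_mul' := fun _ _ => rfl
      map_zero' := rfl
      map_add' := fun _ _ => rfl
      commutes' := fun a => by
        rw [Algebra.algebraMap_eq_smul_one, Algebra.algebraMap_eq_smul_one]
        rfl }
  have hp : Function.Surjective p := fun b => ⟨HExt.mk b 0, rfl⟩
  have hnil : IsNilpotent (RingHom.ker (p : HExt f hsymm hcoc →+* B)) := by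
    refine ⟨2, ?_⟩
    rw [pow_two, Ideal.zero_eq_bot, eq_bot_iff, Ideal.mul_le]
    intro x hx y hy
    rw [Ideal.mem_bot]
    have hx' : x.fst = 0 := RingHom.mem_ker.mp hx
    have hy' : y.fst = 0 := RingHom.mem_ker.mp hy
    ext
    · simp only [mul_fst, hx', zero_mul, zero_fst]
    · simp only [mul_snd, hx', hy', zero_smul, map_zero, add_zero, zero_snd]
  let s := Algebra.FormallySmooth.liftOfSurjective (AlgHom.id A B) p hp hnil
  have hs : ∀ x, (s x).fst = x := fun x =>
    Algebra.FormallySmooth.liftOfSurjective_apply (AlgHom.id A B) p hp hnil x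
  let g : B →ₗ[A] L :=
    { toFun := fun x => -(s x).snd
      map_add' := fun x y => by rw [map_add, add_snd, neg_add]
      map_smul' := fun a x => by rw [map_smul, smul_snd, RingHom.id_apply, smul_neg] }
  refine ⟨g, fun x y => ?_⟩
  have h1 : (s (x * y)).snd = (s x * s y).snd := by rw [map_mul]
  rw [mul_snd, hs, hs] at h1
  change f x y = x • (-(s y).snd) - (-(s (x * y)).snd) + y • (-(s x).snd)
  rw [h1, smul_neg, smul_neg]
  abel
end helpers

/-- Discrete case. If B is a formally smooth A-algebra then, for every B-module L, every A-bilinear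
symmetric Hochschild 2-cocycle f : B × B → L (f(xy, z) + z f(x, y) = x f(y, z) + f(x, yz)) is a
Hochschild 2-coboundary: f(x, y) = x g(y) − g(xy) + y g(x) for some A-linear g : B → L. (The
published statement is for topological algebras and open ideals; this row is its discrete case.) -/
theorem result {A : Type u} {B : Type v} [CommRing A] [CommRing B]
    [Algebra A B] [Algebra.FormallySmooth A B] {L : Type v} [AddCommGroup L] [Module B L] [Module A L]
    [IsScalarTower A B L] (f : B →ₗ[A] B →ₗ[A] L) (hsymm : ∀ x y : B, f x y = f y x)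
    (hcoc : ∀ x y z : B, f (x * y) z + z • f x y = x • f y z + f x (y * z)) :
    ∃ g : B →ₗ[A] L, ∀ x y : B, f x y = x • g y - g (x * y) + y • g x := by
  exact main f hsymm hcoc

end Groth.Agent.S5830
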