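import Groth.Statements.S5831
import Mathlib
import Groth.Agent.S5815
-- import your own Groth.Agent.* helpers here

set_option autoImplicit false
universe u
open EGA41

namespace Groth.Agent.S5831

section helpers
theorem trivial_of_hochschild {A B : Type u} [CommRing A]
    [CommRing B] [Algebra A B] [Module.Projective A B]
    (h : ∀ (L : Type u) [AddCommGroup L] [Module B L] [Module A L] [IsScalarTower A B L]
      (f : B →ₗ[A] B →ₗ[A] L), (∀ x y : B, f x y = f y x) →
        (∀ x y z : B, f (x * y) z + z • f x y = x • f y z + f x (y * z)) →
          ∃ g : B →ₗ[A] L, ∀ x y : B, f x y = x • g y - g (x * y) + y • g x)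
    (L : Type u) [AddCommGroup L] [Module B L] (X : Exal.Ext A B L) : X.IsTrivial := by
  let _ : Module A L := Module.compHom L (algebraMap A B)
  have : IsScalarTower A B L := IsScalarTower.of_algebraMap_smul (fun _ _ => rfl)
  -- basic facts
  have proj_incl : ∀ z : L, X.proj (X.incl z) = 0 := fun z => (X.isExtension.exact _).mpr ⟨z, rfl⟩
  have incl_mul_incl : ∀ a b : L, X.incl a * X.incl b = 0 := by
    intro a b
    rw [X.isExtension.mul_incl, proj_incl, zero_smul, map_zero]
  have incl_smulA : ∀ (a : A) (l : L), X.incl (a • l) = a • X.incl l := by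
    intro a l
    rw [Algebra.smul_def, X.isExtension.mul_incl, AlgHom.commutes, algebraMap_smul]
  -- linear section
  obtain ⟨σ, hσ⟩ := Module.projective_lifting_property X.proj.toLinearMap
    (LinearMap.id : B →ₗ[A] B) X.isExtension.proj_surjective
  have hσ' : ∀ b, X.proj (σ b) = b := fun b => congr($hσ b)
  have sig_mul_incl : ∀ (b : B) (l : L), σ b * X.incl l = X.incl (b • l) := by
    intro b l
    rw [X.isExtension.mul_incl, hσ']
  have hker : ∀ x y : B, X.proj (σ x * σ y - σ (x * y)) = 0 := by
    intro x y
    rw [map_sub, map_mul, hσ', hσ', hσ', sub_self]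
  let F : B → B → L := fun x y => X.kerLift _ (hker x y)
  have hF : ∀ x y, X.incl (F x y) = σ x * σ y - σ (x * y) := fun x y => X.incl_kerLift _ _
  let f : B →ₗ[A] B →ₗ[A] L := LinearMap.mk₂ A F
    (fun x x' y => by
      apply X.isExtension.incl_injective
      rw [map_add, hF, hF, hF, map_add, add_mul, add_mul, map_add]
      abel)
    (fun a x y => by
      apply X.isExtension.incl_injective
      rw [incl_smulA, hF, hF, map_smul, smul_mul_assoc, smul_mul_assoc, map_smul, smul_sub])
    (fun x y y' => by
      apply X.isExtension.incl_injective
      rw [map_add, hF, hF, hF, map_add, mul_add, mul_add, map_add]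
      abel)
    (fun a x y => by
      apply X.isExtension.incl_injective
      rw [incl_smulA, hF, hF, map_smul, mul_smul_comm, mul_smul_comm, map_smul, smul_sub])
  have hf : ∀ x y, f x y = F x y := fun x y => rfl
  have hsymm : ∀ x y : B, f x y = f y x := by
    intro x y
    apply X.isExtension.incl_injective
    rw [hf, hf, hF, hF, mul_comm (σ x), mul_comm x]
  have hcoc : ∀ x y z : B, f (x * y) z + z • f x y = x • f y z + f x (y * z) := by
    intro x y z
    apply X.isExtension.incl_injective
    rw [map_add, map_add, hf, hf, hf, hf, ← sig_mul_incl z, ← sig_mul_incl x, hF, hF, hF, hF,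
      mul_assoc x y z]
    ring
  obtain ⟨g, hg⟩ := h L f hsymm hcoc
  -- the section
  let s : B → X.E := fun x => σ x - X.incl (g x)
  have hs_mul : ∀ x y, s (x * y) = s x * s y := by
    intro x y
    have h1 : σ x * σ y = σ (x * y) + X.incl (f x y) := by rw [hf, hF]; abel
    change σ (x * y) - X.incl (g (x * y)) = (σ x - X.incl (g x)) * (σ y - X.incl (g y))
    rw [sub_mul, mul_sub, mul_sub, incl_mul_incl, sig_mul_incl, mul_comm (X.incl (g x)),
      sig_mul_incl, h1, hg x y, map_add, map_sub]
    abel
  have hs_proj : ∀ x, X.proj (s x) = x := by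
    intro x
    change X.proj (σ x - X.incl (g x)) = x
    rw [map_sub, hσ', proj_incl, sub_zero]
  have hs_one : s 1 = 1 := by
    have h0 : X.proj (s 1 - 1) = 0 := by rw [map_sub, hs_proj, map_one, sub_self]
    obtain ⟨z, hz⟩ := (X.isExtension.exact _).mp h0
    have h1 : s 1 = 1 + X.incl z := by rw [hz]; abel
    have h2 : s 1 * s 1 = s 1 := by rw [← hs_mul, mul_one]
    rw [h1] at h2
    have h3 : X.incl z = 0 := by
      have : (1 + X.incl z) * (1 + X.incl z) = 1 + X.incl z + X.incl z := by
        linear_combination incl_mul_incl z z
      rw [this] at h2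
      exact add_eq_left.mp h2
    rw [h1, h3, add_zero]
  have hs_add : ∀ x y, s (x + y) = s x + s y := by
    intro x y
    change σ (x + y) - X.incl (g (x + y)) = (σ x - X.incl (g x)) + (σ y - X.incl (g y))
    rw [map_add, map_add, map_add]
    abel
  have hs_smul : ∀ (a : A) x, s (a • x) = a • s x := by
    intro a x
    change σ (a • x) - X.incl (g (a • x)) = a • (σ x - X.incl (g x))
    rw [map_smul, map_smul, incl_smulA, smul_sub]
  refine ⟨{ toFun := s
            map_one' := hs_one
            map_mul' := hs_mul
            map_zero' := by
              have := hs_smul 0 0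
              rwa [zero_smul, zero_smul] at this
            map_add' := hs_add
            commutes' := fun a => by
              rw [Algebra.algebraMap_eq_smul_one, hs_smul, hs_one,
                ← Algebra.algebraMap_eq_smul_one] }, hs_proj⟩

theorem main {A B : Type u} [CommRing A]
    [CommRing B] [Algebra A B] [Module.Projective A B]
    (h : ∀ (L : Type u) [AddCommGroup L] [Module B L] [Module A L] [IsScalarTower A B L]
      (f : B →ₗ[A] B →ₗ[A] L), (∀ x y : B, f x y = f y x) →
        (∀ x y z : B, f (x * y) z + z • f x y = x • f y z + f x (y * z)) →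
          ∃ g : B →ₗ[A] L, ∀ x y : B, f x y = x • g y - g (x * y) + y • g x) :
    Algebra.FormallySmooth A B := by
  rw [Groth.Agent.S5815.result]
  intro L _ _ X
  exact trivial_of_hochschild h L X
end helpers

/-- Discrete case. Let B be an A-algebra which is a projective A-module (A and B in one universe). If
for every B-module L in that universe every A-bilinear symmetric Hochschild 2-cocycle B × B → L is a
coboundary, then B is formally smooth over A. (The published statement assumes B formally projective
as a topological A-module; for discrete rings this is projectivity.) -/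
theorem result {A B : Type u} [CommRing A]
    [CommRing B] [Algebra A B] [Module.Projective A B]
    (h : ∀ (L : Type u) [AddCommGroup L] [Module B L] [Module A L] [IsScalarTower A B L]
      (f : B →ₗ[A] B →ₗ[A] L), (∀ x y : B, f x y = f y x) →
        (∀ x y z : B, f (x * y) z + z • f x y = x • f y z + f x (y * z)) →
          ∃ g : B →ₗ[A] L, ∀ x y : B, f x y = x • g y - g (x * y) + y • g x) :
    Algebra.FormallySmooth A B := by
  exact main h

end Groth.Agent.S5831
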