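import Groth.Statements.S5832
import Mathlib.Tactic.LinearCombination
import Mathlib.Tactic.Ring
-- import your own Groth.Agent.* helpers here

set_option autoImplicit false
universe u u' v
open EGA41

namespace Groth.Agent.S5832


attribute [local instance] Exal.opModule Exal.isCentralScalar_opModule

section
variable {A : Type u'} {B C L : Type v} [CommRing A] [CommRing B] [CommRing C]
    [Algebra A B] [Algebra B C] [Algebra A C] [IsScalarTower A B C]
    [AddCommGroup L] [Module C L] [Module B L] [IsScalarTower B C L]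

theorem proj_incl (Y : Exal.Ext A B L) (z : L) : Y.proj (Y.incl z) = 0 :=
  (Y.isExtension.exact _).mpr ⟨z, rfl⟩

theorem incl_mul_incl (Y : Exal.Ext A B L) (a b : L) : Y.incl a * Y.incl b = 0 := by
  rw [Y.isExtension.mul_incl, proj_incl, zero_smul, map_zero]

theorem incl_mul (Y : Exal.Ext A B L) (a : L) (y : Y.E) : Y.incl a * y = Y.incl (Y.proj y • a) := by
  rw [mul_comm, Y.isExtension.mul_incl]

/-- the ring hom `a ↦ (ā, D a)` -/
noncomputable def dHom (D : A →+ L) (hD1 : D 1 = 0)
    (hDmul : ∀ a a', D (a * a') = algebraMap A C a • D a' + algebraMap A C a' • D a) :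
    A →+* TrivSqZeroExt C L where
  toFun a := TrivSqZeroExt.inl (algebraMap A C a) + TrivSqZeroExt.inr (D a)
  map_one' := by
    rw [map_one, hD1, TrivSqZeroExt.inr_zero, add_zero, TrivSqZeroExt.inl_one]
  map_mul' x y := by
    apply TrivSqZeroExt.ext
    · simp
    · simp only [TrivSqZeroExt.snd_add, TrivSqZeroExt.snd_inl, TrivSqZeroExt.snd_inr, zero_add,
        TrivSqZeroExt.snd_mul, TrivSqZeroExt.fst_add, TrivSqZeroExt.fst_inl, TrivSqZeroExt.fst_inr,
        add_zero, op_smul_eq_smul]
      rw [hDmul]
  map_zero' := by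
    rw [map_zero, map_zero, TrivSqZeroExt.inl_zero, TrivSqZeroExt.inr_zero, add_zero]
  map_add' x y := by
    rw [map_add, map_add, TrivSqZeroExt.inl_add, TrivSqZeroExt.inr_add]
    abel

/-- carrier with its own algebra structure -/
@[nolint unusedArguments]
def DCarrier (D : A →+ L) (_hD1 : D 1 = 0)
    (_hDmul : ∀ a a', D (a * a') = algebraMap A C a • D a' + algebraMap A C a' • D a) : Type v :=
  TrivSqZeroExt C L

instance (D : A →+ L) (hD1 : D 1 = 0)
    (hDmul : ∀ a a', D (a * a') = algebraMap A C a • D a' + algebraMap A C a' • D a) :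
    CommRing (DCarrier (C := C) D hD1 hDmul) :=
  inferInstanceAs (CommRing (TrivSqZeroExt C L))

noncomputable instance (D : A →+ L) (hD1 : D 1 = 0)
    (hDmul : ∀ a a', D (a * a') = algebraMap A C a • D a' + algebraMap A C a' • D a) :
    Algebra A (DCarrier (C := C) D hD1 hDmul) :=
  (dHom (C := C) D hD1 hDmul : A →+* DCarrier (C := C) D hD1 hDmul).toAlgebra

/-- the extension of `C` by `L` attached to `D` -/
noncomputable def extOf (D : A →+ L) (hD1 : D 1 = 0)
    (hDmul : ∀ a a', D (a * a') = algebraMap A C a • D a' + algebraMap A C a' • D a) :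
    Exal.Ext A C L where
  E := DCarrier (C := C) D hD1 hDmul
  proj :=
    { toFun := fun x => TrivSqZeroExt.fst x
      map_one' := TrivSqZeroExt.fst_one
      map_mul' := TrivSqZeroExt.fst_mul
      map_zero' := TrivSqZeroExt.fst_zero
      map_add' := TrivSqZeroExt.fst_add
      commutes' := fun x => by
        change TrivSqZeroExt.fst (TrivSqZeroExt.inl (algebraMap A C x) + TrivSqZeroExt.inr (D x)) = _
        rw [TrivSqZeroExt.fst_add, TrivSqZeroExt.fst_inl, TrivSqZeroExt.fst_inr, add_zero] }
  incl := (TrivSqZeroExt.inrHom C L).toAddMonoidHom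
  isExtension :=
    { proj_surjective := fun c => ⟨TrivSqZeroExt.inl c, rfl⟩
      incl_injective := TrivSqZeroExt.inr_injective
      exact := fun x => by
        constructor
        · intro hx
          exact ⟨TrivSqZeroExt.snd x, TrivSqZeroExt.ext hx.symm rfl⟩
        · rintro ⟨z, rfl⟩
          rfl
      mul_incl := fun x z => by
        refine TrivSqZeroExt.ext ?_ ?_
        · change TrivSqZeroExt.fst x * 0 = 0
          exact mul_zero _
        · change TrivSqZeroExt.fst x • z + MulOpposite.op (0 : C) • TrivSqZeroExt.snd x =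
            TrivSqZeroExt.fst x • z
          rw [MulOpposite.op_zero, zero_smul, add_zero] }

theorem phi_mul (Y : Exal.Ext A B L) (s' : B →+* Y.E) (hs' : ∀ b, Y.proj (s' b) = b)
    (t t' : TrivSqZeroExt C L) (b b' : B) (ht : t.fst = algebraMap B C b)
    (ht' : t'.fst = algebraMap B C b') :
    s' (b * b') + Y.incl ((t * t').snd) = (s' b + Y.incl t.snd) * (s' b' + Y.incl t'.snd) := by
  rw [TrivSqZeroExt.snd_mul, ht, ht', op_smul_eq_smul, algebraMap_smul, algebraMap_smul, map_add,
    map_mul]
  have h1 : s' b * Y.incl t'.snd = Y.incl (b • t'.snd) := by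
    rw [Y.isExtension.mul_incl, hs']
  have h2 : Y.incl t.snd * s' b' = Y.incl (b' • t.snd) := by
    rw [incl_mul, hs']
  have h0 := incl_mul_incl Y t.snd t'.snd
  rw [← h1, ← h2]
  linear_combination (-1 : Y.E) * h0

theorem phi_add (Y : Exal.Ext A B L) (s' : B →+* Y.E)
    (t t' : TrivSqZeroExt C L) (b b' : B) :
    s' (b + b') + Y.incl ((t + t').snd) = (s' b + Y.incl t.snd) + (s' b' + Y.incl t'.snd) := by
  rw [map_add, TrivSqZeroExt.snd_add, map_add]
  abel

end

/-- Surjectivity at the end of the sequence. For ring maps Λ → A → B → C and a C-module L, every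
Λ-trivial A-extension of B by L is equivalent to the inverse image along B → C of a Λ-trivial
A-extension of C by L. (Exactness at the other places is that of the six-term derivation-extension
sequence restricted to Λ-trivial classes.) -/
theorem result {Λ : Type u} {A : Type u'} {B C L : Type v}
    [CommRing Λ] [CommRing A] [CommRing B] [CommRing C] [Algebra Λ A] [Algebra Λ B] [Algebra Λ C]
    [Algebra A B] [Algebra B C] [Algebra A C] [IsScalarTower Λ A B] [IsScalarTower Λ A C] [IsScalarTower A B C]
    [AddCommGroup L] [Module C L] [Module B L] [IsScalarTower B C L]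
    (Y : Exal.Ext A B L) (hY : Y.IsTrivialOver Λ) :
    ∃ X : Exal.Ext A C L, X.IsTrivialOver Λ ∧ Nonempty ((X.pullback B).Equiv Y) := by
  classical
  obtain ⟨s, hs⟩ := hY
  let s' : B →+* Y.E := (s : B →+* (Y.restrictBase Λ).E)
  have hs' : ∀ b, Y.proj (s' b) = b := hs
  have hsΛ : ∀ r : Λ, s' (algebraMap Λ B r) = algebraMap A Y.E (algebraMap Λ A r) :=
    fun r => s.commutes r
  have hker : ∀ a : A, Y.proj (algebraMap A Y.E a - s' (algebraMap A B a)) = 0 := by
    intro a
    rw [map_sub, AlgHom.commutes, hs', sub_self]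
  let Dfun : A → L := fun a => Y.kerLift _ (hker a)
  have hD : ∀ a, Y.incl (Dfun a) = algebraMap A Y.E a - s' (algebraMap A B a) :=
    fun a => Y.incl_kerLift _ _
  have hq : ∀ a, algebraMap A Y.E a = s' (algebraMap A B a) + Y.incl (Dfun a) := by
    intro a; rw [hD]; abel
  have hsmulA : ∀ (a : A) (z : L), Y.incl (algebraMap A C a • z) = algebraMap A Y.E a * Y.incl z := by
    intro a z
    rw [Y.isExtension.mul_incl, AlgHom.commutes, IsScalarTower.algebraMap_apply A B C,
      algebraMap_smul]
  let D : A →+ L :=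
    { toFun := Dfun
      map_zero' := by
        apply Y.isExtension.incl_injective
        rw [hD, map_zero, map_zero, map_zero, map_zero, sub_zero]
      map_add' := fun a a' => by
        apply Y.isExtension.incl_injective
        rw [map_add, hD, hD, hD, map_add, map_add, map_add]
        abel }
  have hDapply : ∀ a, D a = Dfun a := fun a => rfl
  have hD1 : D 1 = 0 := by
    apply Y.isExtension.incl_injective
    rw [hDapply, hD, map_one, map_one, map_one, sub_self, map_zero]
  have hDmul : ∀ a a', D (a * a') = algebraMap A C a • D a' + algebraMap A C a' • D a := by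
    intro a a'
    apply Y.isExtension.incl_injective
    rw [map_add, hsmulA, hsmulA, hDapply, hDapply, hDapply, hD (a * a'), map_mul, map_mul, map_mul,
      hq a, hq a']
    have h0 := incl_mul_incl Y (Dfun a) (Dfun a')
    linear_combination (-1 : Y.E) * h0
  have hDΛ : ∀ r : Λ, D (algebraMap Λ A r) = 0 := by
    intro r
    apply Y.isExtension.incl_injective
    rw [hDapply, hD, ← IsScalarTower.algebraMap_apply Λ A B, hsΛ, sub_self, map_zero]
  let X : Exal.Ext A C L := extOf (C := C) D hD1 hDmul
  -- Λ-triviality of X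
  have hXtriv : X.IsTrivialOver Λ := by
    let inlH : C →+* X.E := TrivSqZeroExt.inlHom C L
    refine ⟨{ toFun := fun c => inlH c
              map_one' := map_one inlH
              map_mul' := map_mul inlH
              map_zero' := map_zero inlH
              map_add' := map_add inlH
              commutes' := fun r => ?_ }, ?_⟩
    · change TrivSqZeroExt.inl (algebraMap Λ C r) =
        TrivSqZeroExt.inl (algebraMap A C (algebraMap Λ A r)) + TrivSqZeroExt.inr (D (algebraMap Λ A r))
      rw [hDΛ, TrivSqZeroExt.inr_zero, add_zero, ← IsScalarTower.algebraMap_apply Λ A C]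
    · intro c
      rfl
  refine ⟨X, hXtriv, ⟨?_⟩⟩
  -- the map from the fibre product to Y.E
  have hmem : ∀ w : X.fiberProd B, TrivSqZeroExt.fst (w.1.1 : TrivSqZeroExt C L) = algebraMap B C w.1.2 :=
    fun w => (AlgHom.mem_equalizer _ _ _).mp w.2
  let φ : (X.pullback B).E →ₐ[A] Y.E :=
    { toFun := fun w => s' w.1.2 + Y.incl (TrivSqZeroExt.snd (w.1.1 : TrivSqZeroExt C L))
      map_one' := by
        change s' 1 + Y.incl (TrivSqZeroExt.snd (1 : TrivSqZeroExt C L)) = 1
        rw [map_one, TrivSqZeroExt.snd_one, map_zero, add_zero]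
      map_mul' := fun w w' => by
        change s' (w.1.2 * w'.1.2) + Y.incl (TrivSqZeroExt.snd
          ((w.1.1 : TrivSqZeroExt C L) * (w'.1.1 : TrivSqZeroExt C L))) = _
        exact phi_mul Y s' hs' _ _ _ _ (hmem w) (hmem w')
      map_zero' := by
        change s' 0 + Y.incl (TrivSqZeroExt.snd (0 : TrivSqZeroExt C L)) = 0
        rw [map_zero, TrivSqZeroExt.snd_zero, map_zero, add_zero]
      map_add' := fun w w' => by
        change s' (w.1.2 + w'.1.2) + Y.incl (TrivSqZeroExt.snd
          ((w.1.1 : TrivSqZeroExt C L) + (w'.1.1 : TrivSqZeroExt C L))) = _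
        exact phi_add Y s' _ _ _ _
      commutes' := fun a => by
        change s' (algebraMap A B a) + Y.incl (TrivSqZeroExt.snd
          (TrivSqZeroExt.inl (algebraMap A C a) + TrivSqZeroExt.inr (D a) : TrivSqZeroExt C L)) = _
        rw [TrivSqZeroExt.snd_add, TrivSqZeroExt.snd_inl, TrivSqZeroExt.snd_inr, zero_add, hDapply,
          ← hq] }
  have hφ : ∀ w : (X.pullback B).E, φ w = s' w.1.2 + Y.incl (TrivSqZeroExt.snd (w.1.1 : TrivSqZeroExt C L)) :=
    fun w => rfl
  have hφproj : ∀ w : (X.pullback B).E, Y.proj (φ w) = w.1.2 := by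
    intro w
    rw [hφ, map_add, hs', proj_incl, add_zero]
  have hbij : Function.Bijective φ := by
    constructor
    · intro w w' h
      have h1 : w.1.2 = w'.1.2 := by
        have := congrArg Y.proj h
        rwa [hφproj, hφproj] at this
      have h2 : TrivSqZeroExt.snd (w.1.1 : TrivSqZeroExt C L) = TrivSqZeroExt.snd (w'.1.1 : TrivSqZeroExt C L) := by
        rw [hφ, hφ, h1] at h
        exact Y.isExtension.incl_injective (add_left_cancel h)
      have h3 : TrivSqZeroExt.fst (w.1.1 : TrivSqZeroExt C L) = TrivSqZeroExt.fst (w'.1.1 : TrivSqZeroExt C L) := by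
        rw [hmem, hmem, h1]
      apply Subtype.ext
      exact Prod.ext (TrivSqZeroExt.ext h3 h2) h1
    · intro y
      have h0 : Y.proj (y - s' (Y.proj y)) = 0 := by rw [map_sub, hs', sub_self]
      obtain ⟨z, hz⟩ := (Y.isExtension.exact _).mp h0
      let t : TrivSqZeroExt C L := TrivSqZeroExt.inl (algebraMap B C (Y.proj y)) + TrivSqZeroExt.inr z
      let tX : X.E := t
      have ht : (tX, Y.proj y) ∈ X.fiberProd B := by
        refine (AlgHom.mem_equalizer _ _ _).mpr ?_
        change TrivSqZeroExt.fst t = algebraMap B C (Y.proj y)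
        simp [t]
      refine ⟨⟨(tX, Y.proj y), ht⟩, ?_⟩
      rw [hφ]
      change s' (Y.proj y) + Y.incl (TrivSqZeroExt.snd t) = y
      have : TrivSqZeroExt.snd t = z := by simp [t]
      rw [this, hz]
      abel
  exact
    { toAlgEquiv := AlgEquiv.ofBijective φ hbij
      proj_apply := fun w => hφproj w
      apply_incl := fun z => by
        change φ ((X.pullback B).incl z) = Y.incl z
        rw [hφ]
        change s' 0 + Y.incl (TrivSqZeroExt.snd (TrivSqZeroExt.inr z : TrivSqZeroExt C L)) = Y.incl z
        rw [map_zero, TrivSqZeroExt.snd_inr, zero_add] }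

end Groth.Agent.S5832
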