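import Groth.Statements.S5835
import Groth.Agent.Lib.Helper17.FieldLift
import Groth.Agent.Lib.Helper17.PBasis
import Mathlib.RingTheory.Kaehler.JacobiZariski
-- import your own Groth.Agent.* helpers here

set_option autoImplicit false
universe v w
open scoped TensorProduct
open EGA41

namespace Groth.Agent.S5835

open TensorProduct

section tower

variable (Λ K L M : Type*) [CommRing Λ] [Field K] [Field L] [Field M]
  [Algebra Λ K] [Algebra K L] [Algebra Λ L] [IsScalarTower Λ K L]
  [Algebra L M] [Algebra Λ M] [IsScalarTower Λ L M] [Algebra K M] [IsScalarTower K L M]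
  [IsScalarTower Λ K M]

lemma map_map_apply (ω : Ω[K⁄Λ]) :
    KaehlerDifferential.map Λ Λ L M (KaehlerDifferential.map Λ Λ K L ω) =
      KaehlerDifferential.map Λ Λ K M ω := by
  have hω : ω ∈ Submodule.span K (Set.range (KaehlerDifferential.D Λ K)) := by
    rw [KaehlerDifferential.span_range_derivation]; trivial
  induction hω using Submodule.span_induction with
  | mem x hx =>
    obtain ⟨y, rfl⟩ := hx
    simp only [KaehlerDifferential.map_D]
    rw [← IsScalarTower.algebraMap_apply]
  | zero => simp
  | add x y _ _ hx hy => simp only [map_add, hx, hy]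
  | smul a x _ hx =>
    simp only [LinearMap.map_smul_of_tower]
    rw [← hx]

/-- the factorization of `M ⊗_K Ω_K → Ω_M` through `M ⊗_L Ω_L` -/
lemma mapBaseChange_comp_cancel :
    (KaehlerDifferential.mapBaseChange Λ K M) ∘ₗ
      (AlgebraTensorModule.cancelBaseChange K L M M (Ω[K⁄Λ])).toLinearMap =
    (KaehlerDifferential.mapBaseChange Λ L M) ∘ₗ
      ((KaehlerDifferential.mapBaseChange Λ K L).baseChange M) := by
  apply LinearMap.ext
  intro z
  induction z using TensorProduct.induction_on with
  | zero => simp
  | add x y hx hy => rw [map_add, map_add, hx, hy]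
  | tmul m y =>
    induction y using TensorProduct.induction_on with
    | zero => simp
    | add x y hx hy => rw [TensorProduct.tmul_add, map_add, map_add, hx, hy]
    | tmul l ω =>
      simp only [LinearMap.comp_apply, LinearEquiv.coe_coe,
        AlgebraTensorModule.cancelBaseChange_tmul, KaehlerDifferential.mapBaseChange_tmul,
        LinearMap.baseChange_tmul, LinearMap.map_smul_of_tower, map_map_apply]
      rw [smul_assoc, smul_comm]

end tower

/-- formally smooth ⇒ the imperfection module vanishes -/
lemma injective_mapBaseChange_of_formallySmooth (Λ K L : Type*) [CommRing Λ] [Field K] [Field L]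
    [Algebra Λ K] [Algebra K L] [Algebra Λ L] [IsScalarTower Λ K L] [Algebra.FormallySmooth K L] :
    Function.Injective (KaehlerDifferential.mapBaseChange Λ K L) := by
  rw [injective_iff_map_eq_zero]
  intro x hx
  obtain ⟨y, rfl⟩ := (Algebra.H1Cotangent.exact_δ_mapBaseChange Λ K L x).mp hx
  rw [Subsingleton.elim y 0, map_zero]


/-- For fields k₀ ⊆ k ⊆ K ⊆ L, the map of imperfection modules Υ_{L/K/k₀} → Υ_{L/K/k} induced by
Ω_{K/k₀} → Ω_{K/k} is injective (k is k₀-admissible for the extension L of K) in each of the
following cases: L is separable over k; L is separable over K; k lies in k₀(K^p), p the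
characteristic exponent. Separable means geometrically reduced (not necessarily algebraic). -/
theorem result {k : Type v} {k₀ K L : Type w}
    [Field k₀] [Field k] [Field K] [Field L] [Algebra k₀ k] [Algebra k₀ K] [Algebra k₀ L] [Algebra k K]
    [Algebra k L] [Algebra K L] [IsScalarTower k₀ k K] [IsScalarTower k₀ k L] [IsScalarTower k₀ K L]
    [IsScalarTower k K L] (p : ℕ) [ExpChar K p]
    (h : Algebra.IsGeometricallyReduced k L ∨ Algebra.IsGeometricallyReduced K L ∨
      ∀ x : k, algebraMap k K x ∈ EGA41.pPowerSubalgebra p k₀ K) :
    ∀ z : L ⊗[K] Ω[K⁄k₀], z ∈ EGA41.imperfection k₀ K L →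
      (KaehlerDifferential.map k₀ k K K).baseChange L z = 0 → z = 0 := by
  intro z hz hψ
  have caseB : Algebra.FormallySmooth K L → z = 0 := by
    intro hsm
    exact injective_mapBaseChange_of_formallySmooth k₀ K L (hz.trans (map_zero _).symm)
  rcases h with h | h | h
  · -- `L` separable over `k`
    have hsm : Algebra.FormallySmooth k L :=
      Groth.Agent.Lib.helper17.FieldLift.formallySmooth_of_isGeometricallyReduced
    have hinj := injective_mapBaseChange_of_formallySmooth k₀ k L
    -- exactness of `L ⊗ (K ⊗ Ω_{k/k₀}) → L ⊗ Ω_{K/k₀} → L ⊗ Ω_{K/k}`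
    have hex : Function.Exact ((KaehlerDifferential.mapBaseChange k₀ k K).baseChange L)
        ((KaehlerDifferential.map k₀ k K K).baseChange L) := by
      rw [LinearMap.baseChange_eq_ltensor, LinearMap.baseChange_eq_ltensor]
      exact lTensor_exact L (KaehlerDifferential.exact_mapBaseChange_map k₀ k K)
        (KaehlerDifferential.map_surjective k₀ k K)
    obtain ⟨w', rfl⟩ := (hex z).1 hψ
    have hcomp := LinearMap.congr_fun (mapBaseChange_comp_cancel k₀ k K L) w'
    simp only [LinearMap.comp_apply, LinearEquiv.coe_coe] at hcomp
    have hz' : KaehlerDifferential.mapBaseChange k₀ K L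
        (((KaehlerDifferential.mapBaseChange k₀ k K).baseChange L) w') = 0 := hz
    rw [hz'] at hcomp
    have h0 : (AlgebraTensorModule.cancelBaseChange k K L L (Ω[k⁄k₀])) w' = 0 :=
      hinj (hcomp.trans (map_zero _).symm)
    have hw' : w' = 0 := by
      have := congrArg (AlgebraTensorModule.cancelBaseChange k K L L (Ω[k⁄k₀])).symm h0
      simpa using this
    rw [hw', map_zero]
  · -- `L` separable over `K`
    exact caseB Groth.Agent.Lib.helper17.FieldLift.formallySmooth_of_isGeometricallyReduced
  · -- `k ⊆ k₀(K^p)`
    cases ‹ExpChar K p› with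
    | zero =>
      exact caseB Groth.Agent.Lib.helper17.FieldLift.formallySmooth_of_charZero
    | prime hp =>
      have : Fact p.Prime := ⟨hp⟩
      have hD0 : ∀ x : k, KaehlerDifferential.D k₀ K (algebraMap k K x) = 0 := fun x =>
        Groth.Agent.Lib.helper17.PBasis.derivation_eq_zero_of_mem (KaehlerDifferential.D k₀ K)
          ⟨algebraMap k K x, h x⟩
      -- `d_{K/k₀}` is a `k`-derivation
      let D' : Derivation k K (Ω[K⁄k₀]) :=
        { toFun := KaehlerDifferential.D k₀ K
          map_add' := map_add _
          map_smul' := fun x y => by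
            simp only [RingHom.id_apply]
            rw [Algebra.smul_def, Derivation.leibniz, hD0, smul_zero, add_zero,
              algebraMap_smul]
          map_one_eq_zero' := Derivation.map_one_eq_zero _
          leibniz' := fun a b => Derivation.leibniz _ a b }
      have hleft' : ∀ ω, D'.liftKaehlerDifferential (KaehlerDifferential.map k₀ k K K ω) = ω := by
        intro ω
        have hω : ω ∈ Submodule.span K (Set.range (KaehlerDifferential.D k₀ K)) := by
          rw [KaehlerDifferential.span_range_derivation]; trivial
        induction hω using Submodule.span_induction with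
        | mem x hx =>
          obtain ⟨y, rfl⟩ := hx
          rw [KaehlerDifferential.map_D, Derivation.liftKaehlerDifferential_comp_D]
          rfl
        | zero => simp
        | add x y _ _ hx hy => rw [map_add, map_add, hx, hy]
        | smul a x _ hx => rw [map_smul, map_smul, hx]
      have hleft : D'.liftKaehlerDifferential ∘ₗ (KaehlerDifferential.map k₀ k K K) =
          LinearMap.id := LinearMap.ext hleft'
      have : (D'.liftKaehlerDifferential.baseChange L)
          ((KaehlerDifferential.map k₀ k K K).baseChange L z) = z := by
        rw [← LinearMap.comp_apply, ← LinearMap.baseChange_comp, hleft, LinearMap.baseChange_id,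
          LinearMap.id_apply]
      rw [← this, hψ, map_zero]

end Groth.Agent.S5835
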