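import Groth.Statements.S5836
import Mathlib

set_option autoImplicit false
universe u u' u'' w
open scoped TensorProduct
open EGA41

namespace Groth.Agent.S5836

section aux
open TensorProduct KaehlerDifferential

variable {k : Type u} {k' : Type u'} {K L : Type w}
    [Field k] [Field k'] [Field K] [Field L]
    [Algebra k k'] [Algebra k K] [Algebra k' K] [IsScalarTower k k' K]
    [Algebra K L] [Algebra k L] [Algebra k' L]
    [IsScalarTower k K L] [IsScalarTower k' K L]

include K in
lemma tower_kk'L : IsScalarTower k k' L := by
  apply IsScalarTower.of_algebraMap_eq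
  intro x
  rw [IsScalarTower.algebraMap_apply k K L, IsScalarTower.algebraMap_apply k k' K,
    ← IsScalarTower.algebraMap_apply k' K L]

/-- naturality: `β' ∘ φ = map ∘ β` -/
lemma nat1 [IsScalarTower k k' L] (z : L ⊗[K] Ω[K⁄k]) :
    mapBaseChange k' K L ((KaehlerDifferential.map k k' K K).baseChange L z) =
      KaehlerDifferential.map k k' L L (mapBaseChange k K L z) := by
  induction z using TensorProduct.induction_on with
  | zero => simp
  | add x y hx hy => simp only [map_add, hx, hy]
  | tmul x ω =>
    obtain ⟨f, rfl⟩ := KaehlerDifferential.linearCombination_surjective _ _ ω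
    induction f using Finsupp.induction_linear with
    | zero => simp
    | add f g hf hg =>
      simp only [map_add, TensorProduct.tmul_add, hf, hg]
    | single a b =>
      simp only [Finsupp.linearCombination_single, LinearMap.baseChange_tmul, mapBaseChange_tmul,
        map_smul, LinearMap.map_smul_of_tower, map_D, Algebra.algebraMap_self, RingHom.id_apply]

end aux
section aux2
open TensorProduct KaehlerDifferential

variable {k : Type u} {k' : Type u'} {K L : Type w}
    [Field k] [Field k'] [Field K] [Field L]
    [Algebra k k'] [Algebra k K] [Algebra k' K] [IsScalarTower k k' K]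
    [Algebra K L] [Algebra k L] [Algebra k' L]
    [IsScalarTower k K L] [IsScalarTower k' K L]

lemma map_map_eq [IsScalarTower k k' L] (ω : Ω[k'⁄k]) :
    KaehlerDifferential.map k k K L (KaehlerDifferential.map k k k' K ω) =
      KaehlerDifferential.map k k k' L ω := by
  obtain ⟨f, rfl⟩ := KaehlerDifferential.linearCombination_surjective _ _ ω
  induction f using Finsupp.induction_linear with
  | zero => simp
  | add f g hf hg => simp only [map_add, hf, hg]
  | single a b =>
    simp only [Finsupp.linearCombination_single, LinearMap.map_smul_of_tower, map_D]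
    rw [← IsScalarTower.algebraMap_apply k' K L]

lemma map_map_zero (ω : Ω[k'⁄k]) :
    KaehlerDifferential.map k k' K K (KaehlerDifferential.map k k k' K ω) = 0 := by
  obtain ⟨f, rfl⟩ := KaehlerDifferential.linearCombination_surjective _ _ ω
  induction f using Finsupp.induction_linear with
  | zero => simp
  | add f g hf hg => simp only [map_add, hf, hg, add_zero]
  | single a b =>
    simp only [Finsupp.linearCombination_single, LinearMap.map_smul_of_tower, map_D]
    rw [Algebra.algebraMap_self, RingHom.id_apply, Derivation.map_algebraMap, smul_zero]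

lemma exists_lift_eta [IsScalarTower k k' L] (η : L ⊗[k'] Ω[k'⁄k]) :
    ∃ ηK : L ⊗[K] Ω[K⁄k], mapBaseChange k K L ηK = mapBaseChange k k' L η ∧
      (KaehlerDifferential.map k k' K K).baseChange L ηK = 0 := by
  induction η using TensorProduct.induction_on with
  | zero => exact ⟨0, by simp, by simp⟩
  | add x y hx hy =>
    obtain ⟨a, ha1, ha2⟩ := hx
    obtain ⟨b, hb1, hb2⟩ := hy
    exact ⟨a + b, by rw [map_add, map_add, ha1, hb1], by rw [map_add, ha2, hb2, add_zero]⟩
  | tmul x ω =>
    refine ⟨x ⊗ₜ[K] KaehlerDifferential.map k k k' K ω, ?_, ?_⟩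
    · rw [mapBaseChange_tmul, mapBaseChange_tmul, map_map_eq]
    · rw [LinearMap.baseChange_tmul, map_map_zero, TensorProduct.tmul_zero]

end aux2
section aux3
open TensorProduct KaehlerDifferential

variable {k : Type u} {k' : Type u'} {k'' : Type u''} {K L : Type w}
    [Field k] [Field k'] [Field k''] [Field K] [Field L]
    [Algebra k k'] [Algebra k k''] [Algebra k' k''] [IsScalarTower k k' k'']
    [Algebra k K] [Algebra k' K] [Algebra k'' K] [IsScalarTower k k' K] [IsScalarTower k' k'' K]
    [IsScalarTower k k'' K] [Algebra K L]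

lemma nat0 (z : L ⊗[K] Ω[K⁄k]) :
    (KaehlerDifferential.map k' k'' K K).baseChange L
      ((KaehlerDifferential.map k k' K K).baseChange L z) =
      (KaehlerDifferential.map k k'' K K).baseChange L z := by
  induction z using TensorProduct.induction_on with
  | zero => simp
  | add x y hx hy => simp only [map_add, hx, hy]
  | tmul x ω =>
    obtain ⟨f, rfl⟩ := KaehlerDifferential.linearCombination_surjective _ _ ω
    induction f using Finsupp.induction_linear with
    | zero => simp
    | add f g hf hg =>
      simp only [map_add, TensorProduct.tmul_add, hf, hg]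
    | single a b =>
      simp only [Finsupp.linearCombination_single, LinearMap.baseChange_tmul,
        map_smul, LinearMap.map_smul_of_tower, map_D, Algebra.algebraMap_self, RingHom.id_apply]

end aux3


/-- For fields k ⊆ k' ⊆ k'' ⊆ K ⊆ L put Δ(L/K, a/b) = ker(Υ_{L/K/b} → Υ_{L/K/a}) ⊆ L ⊗_K Ω_{K/b}. Then 0
→ Δ(L/K, k'/k) → Δ(L/K, k''/k) → Δ(L/K, k''/k') → 0 is exact: stated as the surjectivity of the map
induced by L ⊗_K Ω_{K/k} → L ⊗_K Ω_{K/k'} (exactness on the left and in the middle hold by
construction), together with the resulting identity of ranks d(L/K, k''/k) = d(L/K, k''/k') + d(L/K,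
k'/k). -/
theorem result {k : Type u} {k' : Type u'} {k'' : Type u''} {K L : Type w}
    [Field k] [Field k'] [Field k''] [Field K] [Field L]
    [Algebra k k'] [Algebra k k''] [Algebra k' k''] [IsScalarTower k k' k'']
    [Algebra k K] [Algebra k' K] [Algebra k'' K] [IsScalarTower k k' K] [IsScalarTower k' k'' K]
    [IsScalarTower k k'' K] [Algebra K L] [Algebra k L] [Algebra k' L] [Algebra k'' L]
    [IsScalarTower k K L] [IsScalarTower k' K L] [IsScalarTower k'' K L] :
    (∀ w : L ⊗[K] Ω[K⁄k'], w ∈ EGA41.imperfection k' K L →
        (KaehlerDifferential.map k' k'' K K).baseChange L w = 0 →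
          ∃ z : L ⊗[K] Ω[K⁄k], z ∈ EGA41.imperfection k K L ∧
            (KaehlerDifferential.map k k'' K K).baseChange L z = 0 ∧
              (KaehlerDifferential.map k k' K K).baseChange L z = w) ∧
      Module.rank L ↥(EGA41.imperfection k K L ⊓
            LinearMap.ker ((KaehlerDifferential.map k k'' K K).baseChange L)) =
        Module.rank L ↥(EGA41.imperfection k' K L ⊓
              LinearMap.ker ((KaehlerDifferential.map k' k'' K K).baseChange L)) +
          Module.rank L ↥(EGA41.imperfection k K L ⊓
              LinearMap.ker ((KaehlerDifferential.map k k' K K).baseChange L)) := by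
  haveI : IsScalarTower k k' L := tower_kk'L (K := K)
  have part1 : ∀ w : L ⊗[K] Ω[K⁄k'], w ∈ EGA41.imperfection k' K L →
        (KaehlerDifferential.map k' k'' K K).baseChange L w = 0 →
          ∃ z : L ⊗[K] Ω[K⁄k], z ∈ EGA41.imperfection k K L ∧
            (KaehlerDifferential.map k k'' K K).baseChange L z = 0 ∧
              (KaehlerDifferential.map k k' K K).baseChange L z = w := by
    intro w hw hw2
    have hsurj : Function.Surjective ((KaehlerDifferential.map k k' K K).baseChange L) := by
      have := LinearMap.lTensor_surjective L (KaehlerDifferential.map_surjective k k' K)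
      exact this
    obtain ⟨z₀, hz₀⟩ := hsurj w
    have h1 : KaehlerDifferential.map k k' L L (KaehlerDifferential.mapBaseChange k K L z₀) = 0 := by
      rw [← nat1, hz₀]; exact hw
    obtain ⟨η, hη⟩ := (KaehlerDifferential.exact_mapBaseChange_map k k' L _).mp h1
    obtain ⟨ηK, hηK1, hηK2⟩ := exists_lift_eta (K := K) η
    refine ⟨z₀ - ηK, ?_, ?_, ?_⟩
    · change KaehlerDifferential.mapBaseChange k K L (z₀ - ηK) = 0
      rw [map_sub, hηK1, hη, sub_self]
    · rw [← nat0 (k' := k'), map_sub, hηK2, sub_zero, hz₀, hw2]
    · rw [map_sub, hηK2, sub_zero, hz₀]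
  refine ⟨part1, ?_⟩
  set φ := (KaehlerDifferential.map k k' K K).baseChange L with hφ
  set φ'' := (KaehlerDifferential.map k k'' K K).baseChange L with hφ''
  set ψ := (KaehlerDifferential.map k' k'' K K).baseChange L with hψ
  set V := EGA41.imperfection k K L ⊓ LinearMap.ker φ'' with hV
  set V' := EGA41.imperfection k' K L ⊓ LinearMap.ker ψ with hV'
  have hn0 : ∀ z, ψ (φ z) = φ'' z := fun z => nat0 z
  have hn1 : ∀ z, KaehlerDifferential.mapBaseChange k' K L (φ z) =
      KaehlerDifferential.map k k' L L (KaehlerDifferential.mapBaseChange k K L z) := fun z => nat1 z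
  have hmaps : ∀ z ∈ V, φ z ∈ V' := by
    intro z hz
    refine ⟨?_, ?_⟩
    · change KaehlerDifferential.mapBaseChange k' K L (φ z) = 0
      rw [hn1]
      have : KaehlerDifferential.mapBaseChange k K L z = 0 := hz.1
      rw [this, map_zero]
    · change ψ (φ z) = 0
      rw [hn0]
      exact hz.2
  let g : V →ₗ[L] V' := φ.restrict hmaps
  have hg : Function.Surjective g := by
    rintro ⟨w, hw⟩
    obtain ⟨z, hz1, hz2, hz3⟩ := part1 w hw.1 hw.2
    exact ⟨⟨z, hz1, hz2⟩, Subtype.ext hz3⟩
  have hrk := LinearMap.rank_range_add_rank_ker (R := L) (M := V) (M₁ := V') g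
  rw [rank_range_of_surjective g hg] at hrk
  rw [← hrk]
  congr 1
  have hker : (LinearMap.ker g).map V.subtype = EGA41.imperfection k K L ⊓ LinearMap.ker φ := by
    ext z
    constructor
    · rintro ⟨⟨z, hz⟩, hzk, rfl⟩
      refine ⟨hz.1, ?_⟩
      have := congrArg Subtype.val (show g ⟨z, hz⟩ = 0 from hzk)
      exact this
    · rintro ⟨hz1, hz2⟩
      have hzV : z ∈ V := ⟨hz1, by
        change φ'' z = 0
        rw [← hn0, (show φ z = 0 from hz2), map_zero]⟩
      refine ⟨⟨z, hzV⟩, ?_, rfl⟩
      change g ⟨z, hzV⟩ = 0
      exact Subtype.ext hz2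
  rw [← hker]
  exact (Submodule.equivMapOfInjective V.subtype V.injective_subtype (LinearMap.ker g)).rank_eq

end Groth.Agent.S5836
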