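import Groth.Statements.S5837
import Mathlib.RingTheory.Kaehler.JacobiZariski
import Mathlib.LinearAlgebra.TensorProduct.Prod
import Mathlib.LinearAlgebra.Dimension.Constructions
import Mathlib.RingTheory.Flat.Basic
-- import your own Groth.Agent.* helpers here

set_option autoImplicit false
universe u u' w
open scoped TensorProduct
open EGA41

namespace Groth.Agent.S5837

open TensorProduct

section tower

variable (Λ K L M : Type*) [CommRing Λ] [Field K] [Field L] [Field M]
  [Algebra Λ K] [Algebra K L] [Algebra Λ L] [IsScalarTower Λ K L]
  [Algebra L M] [Algebra Λ M] [IsScalarTower Λ L M] [Algebra K M] [IsScalarTower K L M]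
  [IsScalarTower Λ K M]

lemma map_map_apply (ω : Ω[K⁄Λ]) :
    KaehlerDifferential.map Λ Λ L M (KaehlerDifferential.map Λ Λ K L ω) =
      KaehlerDifferential.map Λ Λ K M ω := by
  have hω : ω ∈ Submodule.span K (Set.range (KaehlerDifferential.D Λ K)) := by
    rw [KaehlerDifferential.span_range_derivation]; trivial
  induction hω using Submodule.span_induction with
  | mem x hx =>
    obtain ⟨y, rfl⟩ := hx
    simp only [KaehlerDifferential.map_D]
    rw [← IsScalarTower.algebraMap_apply]
  | zero => simp
  | add x y _ _ hx hy => simp only [map_add, hx, hy]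
  | smul a x _ hx =>
    simp only [LinearMap.map_smul_of_tower]
    rw [← hx]

/-- the factorization of `M ⊗_K Ω_K → Ω_M` through `M ⊗_L Ω_L` -/
lemma mapBaseChange_comp_cancel :
    (KaehlerDifferential.mapBaseChange Λ K M) ∘ₗ
      (AlgebraTensorModule.cancelBaseChange K L M M (Ω[K⁄Λ])).toLinearMap =
    (KaehlerDifferential.mapBaseChange Λ L M) ∘ₗ
      ((KaehlerDifferential.mapBaseChange Λ K L).baseChange M) := by
  apply LinearMap.ext
  intro z
  induction z using TensorProduct.induction_on with
  | zero => simp
  | add x y hx hy => rw [map_add, map_add, hx, hy]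
  | tmul m y =>
    induction y using TensorProduct.induction_on with
    | zero => simp
    | add x y hx hy => rw [TensorProduct.tmul_add, map_add, map_add, hx, hy]
    | tmul l ω =>
      simp only [LinearMap.comp_apply, LinearEquiv.coe_coe,
        AlgebraTensorModule.cancelBaseChange_tmul, KaehlerDifferential.mapBaseChange_tmul,
        LinearMap.baseChange_tmul, LinearMap.map_smul_of_tower, map_map_apply]
      rw [smul_assoc, smul_comm]

end tower


section natural

variable {K L M X Y : Type*} [Field K] [Field L] [Field M] [Algebra K L] [Algebra L M] [Algebra K M]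
  [IsScalarTower K L M] [AddCommGroup X] [Module K X] [AddCommGroup Y] [Module K Y]

/-- naturality of `cancelBaseChange` -/
lemma baseChange_comp_cancel (f : X →ₗ[K] Y) :
    (f.baseChange M) ∘ₗ (AlgebraTensorModule.cancelBaseChange K L M M X).toLinearMap =
      (AlgebraTensorModule.cancelBaseChange K L M M Y).toLinearMap ∘ₗ
        ((f.baseChange L).baseChange M) := by
  apply LinearMap.ext
  intro z
  induction z using TensorProduct.induction_on with
  | zero => simp
  | add x y hx hy => rw [map_add, map_add, hx, hy]
  | tmul m y =>
    induction y using TensorProduct.induction_on with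
    | zero => simp
    | add x y hx hy => rw [TensorProduct.tmul_add, map_add, map_add, hx, hy]
    | tmul l ω =>
      simp only [LinearMap.comp_apply, LinearEquiv.coe_coe,
        AlgebraTensorModule.cancelBaseChange_tmul, LinearMap.baseChange_tmul]

end natural

section kaehler

variable (k₀ k K L : Type*) [Field k₀] [Field k] [Field K] [Field L] [Algebra k₀ k]
  [Algebra k₀ K] [Algebra k K] [IsScalarTower k₀ k K] [Algebra k₀ L] [Algebra k L]
  [IsScalarTower k₀ k L] [Algebra K L] [IsScalarTower k₀ K L] [IsScalarTower k K L]

/-- naturality of `mapBaseChange` in the base ring -/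
lemma map_comp_mapBaseChange :
    (KaehlerDifferential.map k₀ k L L) ∘ₗ (KaehlerDifferential.mapBaseChange k₀ K L) =
      (KaehlerDifferential.mapBaseChange k K L) ∘ₗ
        ((KaehlerDifferential.map k₀ k K K).baseChange L) := by
  apply LinearMap.ext
  intro z
  induction z using TensorProduct.induction_on with
  | zero => simp
  | add x y hx hy => rw [map_add, map_add, hx, hy]
  | tmul l ω =>
    have hω : ω ∈ Submodule.span K (Set.range (KaehlerDifferential.D k₀ K)) := by
      rw [KaehlerDifferential.span_range_derivation]; trivial
    induction hω using Submodule.span_induction generalizing l with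
    | mem x hx =>
      obtain ⟨y, rfl⟩ := hx
      simp only [LinearMap.comp_apply, KaehlerDifferential.mapBaseChange_tmul,
        LinearMap.baseChange_tmul, KaehlerDifferential.map_D, map_smul]
      rfl
    | zero => simp
    | add x y _ _ hx hy => rw [TensorProduct.tmul_add, map_add, map_add, hx, hy]
    | smul a x _ hx =>
      rw [← TensorProduct.smul_tmul]
      exact hx (a • l)

end kaehler

section linalg

variable {R : Type*} {X Y : Type w} [Field R] [AddCommGroup X] [Module R X] [AddCommGroup Y] [Module R Y]

/-- rank–nullity for the restriction of a linear map to a subspace -/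
lemma rank_eq_map_add_inf_ker (f : X →ₗ[R] Y) (D : Submodule R X) :
    Module.rank R D = Module.rank R (D.map f) + Module.rank R ↥(D ⊓ LinearMap.ker f) := by
  have h := LinearMap.rank_range_add_rank_ker (f.domRestrict D)
  rw [← h]
  congr 1
  · rw [LinearMap.range_domRestrict]
  · rw [LinearMap.ker_domRestrict]
    have hle : D ⊓ LinearMap.ker f ≤ D := inf_le_left
    have hc : Submodule.comap D.subtype (LinearMap.ker f) =
        Submodule.comap D.subtype (D ⊓ LinearMap.ker f) := by
      ext x
      simp
    rw [hc]
    exact (Submodule.comapSubtypeEquivOfLe hle).rank_eq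

end linalg

section flat

variable {L M X A B : Type*} [Field L] [Field M] [Algebra L M]
  [AddCommGroup X] [Module L X] [AddCommGroup A] [Module L A] [AddCommGroup B] [Module L B]

/-- flat base change of the intersection of two kernels -/
lemma mem_range_baseChange_inf_ker (f : X →ₗ[L] A) (g : X →ₗ[L] B) (z : M ⊗[L] X)
    (hf : f.baseChange M z = 0) (hg : g.baseChange M z = 0) :
    z ∈ LinearMap.range ((LinearMap.ker f ⊓ LinearMap.ker g).subtype.baseChange M) := by
  have hex : Function.Exact (LinearMap.ker f ⊓ LinearMap.ker g).subtype (f.prod g) := by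
    intro x
    constructor
    · intro h
      have h1 : f x = 0 := congrArg Prod.fst h
      have h2 : g x = 0 := congrArg Prod.snd h
      exact ⟨⟨x, ⟨h1, h2⟩⟩, rfl⟩
    · rintro ⟨y, rfl⟩
      exact Prod.ext y.2.1 y.2.2
  have hexM : Function.Exact ((LinearMap.ker f ⊓ LinearMap.ker g).subtype.baseChange M)
      ((f.prod g).baseChange M) := by
    rw [LinearMap.baseChange_eq_ltensor, LinearMap.baseChange_eq_ltensor]
    exact Module.Flat.lTensor_exact M hex
  apply (hexM z).1
  apply (TensorProduct.prodRight L M M A B).injective
  have key : ∀ z : M ⊗[L] X, TensorProduct.prodRight L M M A B ((f.prod g).baseChange M z) =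
      (f.baseChange M z, g.baseChange M z) := by
    intro z
    induction z using TensorProduct.induction_on with
    | zero => simp only [map_zero]; rfl
    | tmul m x => simp
    | add a b ha hb => simp only [map_add, ha, hb, Prod.mk_add_mk]
  rw [key, hf, hg, map_zero]
  rfl

end flat


/-- Rank form. For fields k₀ ⊆ k ⊆ K ⊆ L ⊆ M, with Δ(F/E, k/k₀) = ker(Υ_{F/E/k₀} → Υ_{F/E/k}) and d its
rank, one has d(M/K, k/k₀) = d(M/L, k/k₀) + d(L/K, k/k₀) (cardinal ranks; the published statement
gives the short exact sequence 0 → Δ(L/K, k/k₀) ⊗_L M → Δ(M/K, k/k₀) → Δ(M/L, k/k₀) → 0, of which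
this row states the rank identity). -/
theorem result {k₀ : Type u} {k : Type u'} {K L M : Type w}
    [Field k₀] [Field k] [Field K] [Field L] [Field M] [Algebra k₀ k]
    [Algebra k₀ K] [Algebra k K] [IsScalarTower k₀ k K] [Algebra k₀ L] [Algebra k L] [IsScalarTower k₀ k L]
    [Algebra K L] [Algebra K M] [Algebra L M] [IsScalarTower K L M]
    [Algebra k₀ M] [Algebra k M] [IsScalarTower k₀ K L] [IsScalarTower k K L]
    [IsScalarTower k₀ K M] [IsScalarTower k K M] [IsScalarTower k₀ L M] [IsScalarTower k L M] :
    Module.rank M ↥(EGA41.imperfection k₀ K M ⊓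
          LinearMap.ker ((KaehlerDifferential.map k₀ k K K).baseChange M)) =
      Module.rank M ↥(EGA41.imperfection k₀ L M ⊓
            LinearMap.ker ((KaehlerDifferential.map k₀ k L L).baseChange M)) +
        Module.rank L ↥(EGA41.imperfection k₀ K L ⊓
            LinearMap.ker ((KaehlerDifferential.map k₀ k K K).baseChange L)) := by
  let gLK := KaehlerDifferential.mapBaseChange k₀ K L
  let gMK := KaehlerDifferential.mapBaseChange k₀ K M
  let gML := KaehlerDifferential.mapBaseChange k₀ L M
  let ψLK := (KaehlerDifferential.map k₀ k K K).baseChange L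
  let ψMK := (KaehlerDifferential.map k₀ k K K).baseChange M
  let ψML := (KaehlerDifferential.map k₀ k L L).baseChange M
  let u := AlgebraTensorModule.cancelBaseChange K L M M (Ω[K⁄k₀])
  let u' := AlgebraTensorModule.cancelBaseChange K L M M (Ω[K⁄k])
  let v : M ⊗[K] Ω[K⁄k₀] →ₗ[M] M ⊗[L] Ω[L⁄k₀] := (gLK.baseChange M) ∘ₗ u.symm.toLinearMap
  let ΔLK : Submodule L (L ⊗[K] Ω[K⁄k₀]) := LinearMap.ker gLK ⊓ LinearMap.ker ψLK
  -- compatibilities
  have c1 : ∀ y', gMK (u y') = gML (gLK.baseChange M y') := fun y' =>
    LinearMap.congr_fun (mapBaseChange_comp_cancel k₀ K L M) y'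
  have c2 : ∀ y', ψMK (u y') = u' (ψLK.baseChange M y') := fun y' =>
    LinearMap.congr_fun (baseChange_comp_cancel (L := L) (M := M)
      (KaehlerDifferential.map k₀ k K K)) y'
  have c3 : ∀ y', ψML (gLK.baseChange M y') =
      (KaehlerDifferential.mapBaseChange k K L).baseChange M (ψLK.baseChange M y') := by
    intro y'
    change ((KaehlerDifferential.map k₀ k L L).baseChange M ∘ₗ gLK.baseChange M) y' =
      ((KaehlerDifferential.mapBaseChange k K L).baseChange M ∘ₗ ψLK.baseChange M) y'
    rw [← LinearMap.baseChange_comp, ← LinearMap.baseChange_comp, map_comp_mapBaseChange]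
  have hv : ∀ y', v (u y') = gLK.baseChange M y' := by
    intro y'
    change gLK.baseChange M (u.symm (u y')) = _
    rw [LinearEquiv.symm_apply_apply]
  rw [rank_eq_map_add_inf_ker v]
  congr 1
  · -- the image is `Δ(M/L)`
    have hA : Submodule.map v (EGA41.imperfection k₀ K M ⊓ LinearMap.ker ψMK) =
        EGA41.imperfection k₀ L M ⊓ LinearMap.ker ψML := by
      apply le_antisymm
      · rintro _ ⟨y, ⟨hy1, hy2⟩, rfl⟩
        obtain ⟨y', rfl⟩ := u.surjective y
        have hy1' : gMK (u y') = 0 := hy1
        have hy2' : ψMK (u y') = 0 := hy2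
        rw [hv]
        refine ⟨?_, ?_⟩
        · change gML (gLK.baseChange M y') = 0
          rw [← c1, hy1']
        · change ψML (gLK.baseChange M y') = 0
          rw [c3]
          have : ψLK.baseChange M y' = 0 := by
            apply u'.injective
            rw [← c2, hy2', map_zero]
          rw [this, map_zero]
      · rintro z ⟨hz1, hz2⟩
        have hz1' : gML z = 0 := hz1
        have hz2' : ψML z = 0 := hz2
        have hex : Function.Exact ((KaehlerDifferential.mapBaseChange k₀ k L).baseChange M) ψML := by
          change Function.Exact ((KaehlerDifferential.mapBaseChange k₀ k L).baseChange M)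
            ((KaehlerDifferential.map k₀ k L L).baseChange M)
          rw [LinearMap.baseChange_eq_ltensor, LinearMap.baseChange_eq_ltensor]
          exact lTensor_exact M (KaehlerDifferential.exact_mapBaseChange_map k₀ k L)
            (KaehlerDifferential.map_surjective k₀ k L)
        obtain ⟨w, rfl⟩ := (hex z).1 hz2'
        let cL := AlgebraTensorModule.cancelBaseChange k K L L (Ω[k⁄k₀])
        let w' := (cL.symm.toLinearMap.baseChange M) w
        let y' := ((KaehlerDifferential.mapBaseChange k₀ k K).baseChange L).baseChange M w'
        have hcc : (cL.toLinearMap.baseChange M) w' = w := by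
          change ((cL.toLinearMap.baseChange M) ∘ₗ (cL.symm.toLinearMap.baseChange M)) w = w
          rw [← LinearMap.baseChange_comp]
          have : cL.toLinearMap ∘ₗ cL.symm.toLinearMap = LinearMap.id := by
            ext x; simp
          rw [this, LinearMap.baseChange_id, LinearMap.id_apply]
        have hvy : gLK.baseChange M y' =
            (KaehlerDifferential.mapBaseChange k₀ k L).baseChange M w := by
          change ((gLK.baseChange M) ∘ₗ
            (((KaehlerDifferential.mapBaseChange k₀ k K).baseChange L).baseChange M)) w' = _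
          rw [← LinearMap.baseChange_comp]
          have h4 := mapBaseChange_comp_cancel k₀ k K L
          change (KaehlerDifferential.mapBaseChange k₀ k L) ∘ₗ cL.toLinearMap =
            gLK ∘ₗ ((KaehlerDifferential.mapBaseChange k₀ k K).baseChange L) at h4
          rw [← h4, LinearMap.baseChange_comp, LinearMap.comp_apply, hcc]
        have hψy : ψLK.baseChange M y' = 0 := by
          change ((ψLK.baseChange M) ∘ₗ
            (((KaehlerDifferential.mapBaseChange k₀ k K).baseChange L).baseChange M)) w' = 0
          rw [← LinearMap.baseChange_comp]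
          have h5 : ψLK ∘ₗ ((KaehlerDifferential.mapBaseChange k₀ k K).baseChange L) = 0 := by
            change (KaehlerDifferential.map k₀ k K K).baseChange L ∘ₗ
              ((KaehlerDifferential.mapBaseChange k₀ k K).baseChange L) = 0
            rw [← LinearMap.baseChange_comp,
              (KaehlerDifferential.exact_mapBaseChange_map k₀ k K).linearMap_comp_eq_zero]
            exact LinearMap.baseChange_zero
          rw [h5]
          simp
        refine ⟨u y', ⟨?_, ?_⟩, ?_⟩
        · change gMK (u y') = 0
          rw [c1, hvy, hz1']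
        · change ψMK (u y') = 0
          rw [c2, hψy, map_zero]
        · rw [hv, hvy]
    rw [hA]
  · -- the kernel is `M ⊗ Δ(L/K)`
    let j : M ⊗[L] ΔLK →ₗ[M] M ⊗[K] Ω[K⁄k₀] :=
      u.toLinearMap ∘ₗ (ΔLK.subtype.baseChange M)
    have hjinj : Function.Injective j := by
      refine u.injective.comp ?_
      rw [LinearMap.baseChange_eq_ltensor]
      exact Module.Flat.lTensor_preserves_injective_linearMap _ ΔLK.injective_subtype
    have hrange : LinearMap.range j =
        (EGA41.imperfection k₀ K M ⊓ LinearMap.ker ψMK) ⊓ LinearMap.ker v := by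
      apply le_antisymm
      · rintro _ ⟨t, rfl⟩
        change u ((ΔLK.subtype.baseChange M) t) ∈ _
        set y' := (ΔLK.subtype.baseChange M) t with hy'
        have h1 : gLK.baseChange M y' = 0 := by
          change ((gLK.baseChange M) ∘ₗ (ΔLK.subtype.baseChange M)) t = 0
          rw [← LinearMap.baseChange_comp]
          have : gLK ∘ₗ ΔLK.subtype = 0 := by
            ext x; exact x.2.1
          rw [this]; simp
        have h2 : ψLK.baseChange M y' = 0 := by
          change ((ψLK.baseChange M) ∘ₗ (ΔLK.subtype.baseChange M)) t = 0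
          rw [← LinearMap.baseChange_comp]
          have : ψLK ∘ₗ ΔLK.subtype = 0 := by
            ext x; exact x.2.2
          rw [this]; simp
        refine ⟨⟨?_, ?_⟩, ?_⟩
        · change gMK (u y') = 0
          rw [c1, h1, map_zero]
        · change ψMK (u y') = 0
          rw [c2, h2, map_zero]
        · change v (u y') = 0
          rw [hv, h1]
      · rintro y ⟨⟨hy1, hy2⟩, hy3⟩
        obtain ⟨y', rfl⟩ := u.surjective y
        have hy2' : ψMK (u y') = 0 := hy2
        have hy3' : v (u y') = 0 := hy3
        rw [hv] at hy3'
        have h2 : ψLK.baseChange M y' = 0 := by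
          apply u'.injective
          rw [← c2, hy2', map_zero]
        obtain ⟨t, ht⟩ := mem_range_baseChange_inf_ker gLK ψLK y' hy3' h2
        exact ⟨t, by change u ((ΔLK.subtype.baseChange M) t) = u y'; rw [ht]⟩
    have e1 : (M ⊗[L] ΔLK) ≃ₗ[M] LinearMap.range j := LinearEquiv.ofInjective j hjinj
    have e2 : LinearMap.range j ≃ₗ[M]
        ↥((EGA41.imperfection k₀ K M ⊓ LinearMap.ker ψMK) ⊓ LinearMap.ker v) :=
      LinearEquiv.ofEq _ _ hrange
    have hfree : Module.Free L ↥ΔLK := Module.Free.of_divisionRing L ΔLK
    rw [← (e1.trans e2).rank_eq, Module.rank_baseChange, Cardinal.lift_id]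
    rfl

end Groth.Agent.S5837
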