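import Groth.Statements.S5866
import Groth.Agent.Lib.Helper14.GUBirat3

set_option autoImplicit false
universe u
open RadPt

namespace Groth.Agent.S5866

open CategoryTheory AlgebraicGeometry in
/-- Let f : X → Y be a morphism of schemes which is integral and whose induced morphism of reduced
schemes is birational. Then Y is geometrically unibranch (at every point) if and only if X is
geometrically unibranch and f is radicial (universally injective). -/
theorem result {X Y : Scheme.{u}} (f : X ⟶ Y) [IsIntegralHom f] (hf : RadPt.IsBirational f) :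
    (∀ y : Y, CAlg2.IsGeomUnibranch (Y.presheaf.stalk y)) ↔
      ((∀ x : X, CAlg2.IsGeomUnibranch (X.presheaf.stalk x)) ∧ UniversallyInjective f) := by
  have key := fun y : Y =>
    Groth.Agent.Lib.Helper14.GUBirat.isGeomUnibranch_iff_of_integral_birational f hf y
  have tf : UniversallyInjective f ↔
      (Function.Injective f ∧ ∀ x, (f.residueFieldMap x).hom.IsPurelyInseparable) :=
    (tfae_universallyInjective f).out 0 2
  constructor
  · intro H
    refine ⟨fun x => ((key (f x)).mp (H (f x))).2 x rfl, tf.mpr ⟨?_, ?_⟩⟩
    · intro x x' hxx'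
      exact ((key (f x)).mp (H (f x))).1.1 x x' rfl hxx'.symm
    · intro x
      exact ((key (f x)).mp (H (f x))).1.2 x rfl
  · rintro ⟨hx, hui⟩ y
    obtain ⟨hinj, hpi⟩ := tf.mp hui
    refine (key y).mpr ⟨⟨fun x x' h1 h2 => hinj (h1.trans h2.symm), fun x _ => hpi x⟩,
      fun x _ => hx x⟩

end Groth.Agent.S5866
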