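import Groth.Statements.S5888
import Groth.Agent.Lib.Helper5.FibreDimGeneric

set_option autoImplicit false
universe u
open CategoryTheory AlgebraicGeometry
open ConsProp

namespace Groth.Agent.S5888

/-- For a given set Φ of values (natural numbers, with −∞ = ⊥ the dimension of the empty scheme), the
property of an algebraic k-scheme X that the dimension of X belongs to Φ is a constructible property
of algebraic schemes. The dimension is the Krull dimension of the underlying topological space,
valued in WithBot ℕ∞. -/
theorem result (Φ : Set (WithBot ℕ∞)) :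
    ConsProp.IsCons (fun Y T g => topologicalKrullDim ↥Y ∈ Φ) := by
  refine ⟨?_, ?_⟩
  · intro Y Y' T T' g g' e h _ _ _ _ _ _ sq
    haveI : Nonempty ↥T' := inferInstance
    have := Groth.Agent.Lib.helper5.FibreDimGeneric.dim_eq_of_isPullback_of_subsingleton sq
    change topologicalKrullDim ↥Y ∈ Φ ↔ topologicalKrullDim ↥Y' ∈ Φ
    rw [this]
  · intro X S u _ _ _ _
    obtain ⟨V, hV, hne, hVs⟩ :=
      Groth.Agent.Lib.helper5.FibreDimGeneric.exists_open_dim_fiber_eq u
    by_cases hD : topologicalKrullDim ↥(u.fiber (genericPoint S)) ∈ Φ
    · left
      refine hne.mono (hV.subset_interior_iff.2 ?_)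
      intro s hs
      change topologicalKrullDim ↥(u.fiber s) ∈ Φ
      rw [hVs s hs]
      exact hD
    · right
      refine hne.mono (hV.subset_interior_iff.2 ?_)
      intro s hs hmem
      change topologicalKrullDim ↥(u.fiber s) ∈ Φ at hmem
      rw [hVs s hs] at hmem
      exact hD hmem

end Groth.Agent.S5888
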