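import Groth.Statements.S5890
import Groth.Agent.Lib.Helper5.ConsFibre3
import Groth.Agent.S3444

set_option autoImplicit false
universe u
open CategoryTheory AlgebraicGeometry
open ConsProp

namespace Groth.Agent.S5890

/-- Being radicial (universally injective) is a constructible property of morphisms of algebraic
schemes. -/
theorem result :
    ConsProp.IsConsMor (fun X Y T f g => AlgebraicGeometry.UniversallyInjective f) := by
  refine Groth.Agent.Lib.helper5.ConsFibre.isConsMor_of_isLocallyConstructible
    (Groth.Agent.Lib.helper5.ConsFibre.isFieldStableMor_of_descendsAlong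
      @AlgebraicGeometry.UniversallyInjective) ?_
  intro X Y S f g _ _ _ _ _
  haveI : AlgebraicGeometry.IsNoetherian Y :=
    Groth.Agent.Lib.helper5.ConsFibre.isNoetherian_of_lft g
  haveI : AlgebraicGeometry.IsNoetherian X :=
    Groth.Agent.Lib.helper5.ConsFibre.isNoetherian_of_lft (f ≫ g)
  haveI : AlgebraicGeometry.LocallyOfFinitePresentation g :=
    (AlgebraicGeometry.LocallyOfFinitePresentation.iff_locallyOfFiniteType).mpr inferInstance
  haveI : AlgebraicGeometry.LocallyOfFinitePresentation (f ≫ g) :=
    (AlgebraicGeometry.LocallyOfFinitePresentation.iff_locallyOfFiniteType).mpr inferInstance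
  exact Groth.Agent.S3444.result f g

end Groth.Agent.S5890
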