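import Groth.Statements.S5887
import Groth.Agent.Lib.Helper5.ConsFibre3
import Groth.Agent.S5890

set_option autoImplicit false
universe u
open CategoryTheory AlgebraicGeometry
open ConsProp

namespace Groth.Agent.S5887

/-- The property of an algebraic k-scheme X of being radicial over k (structure morphism universally
injective) is a constructible property of algebraic schemes. -/
theorem result :
    ConsProp.IsCons (fun Y T g => AlgebraicGeometry.UniversallyInjective g) := by
  refine ⟨?_, ?_⟩
  · intro Y Y' T T' g g' e h _ _ _ _ _ _ sq
    exact (CategoryTheory.MorphismProperty.iff_of_isPullback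
      (P := @AlgebraicGeometry.UniversallyInjective) sq.flip
      (Groth.Agent.Lib.helper5.ConsFibre.fpqc_of_subsingleton h)).symm
  · intro X S u _ _ _ _
    haveI : AlgebraicGeometry.LocallyOfFiniteType (u ≫ 𝟙 S) := by
      rw [CategoryTheory.Category.comp_id]; infer_instance
    haveI : AlgebraicGeometry.QuasiCompact (u ≫ 𝟙 S) := by
      rw [CategoryTheory.Category.comp_id]; infer_instance
    have key := Groth.Agent.S5890.result.2 u (𝟙 S)
    have hloc : ConsProp.locusMor
        (fun X Y T f g => AlgebraicGeometry.UniversallyInjective f) u (𝟙 S) =
        ConsProp.locus (fun Y T g => AlgebraicGeometry.UniversallyInjective g) u := by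
      ext s
      change AlgebraicGeometry.UniversallyInjective (MoreMor.fiberMap u (𝟙 S) s) ↔
        AlgebraicGeometry.UniversallyInjective (u.fiberToSpecResidueField s)
      have h1 := Groth.Agent.Lib.helper5.ConsFibre.fiberMap_comp u (𝟙 S) s
      haveI : CategoryTheory.IsIso ((𝟙 S : S ⟶ S).fiberToSpecResidueField s) := by
        unfold AlgebraicGeometry.Scheme.Hom.fiberToSpecResidueField
        exact CategoryTheory.Limits.pullback_snd_iso_of_left_iso (𝟙 S) (S.fromSpecResidueField s)
      have h2 : AlgebraicGeometry.UniversallyInjective (MoreMor.fiberMap u (𝟙 S) s) ↔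
          AlgebraicGeometry.UniversallyInjective ((u ≫ 𝟙 S).fiberToSpecResidueField s) := by
        rw [← h1]
        exact (CategoryTheory.MorphismProperty.cancel_right_of_respectsIso
          @AlgebraicGeometry.UniversallyInjective _ _).symm
      have h3 : ∀ (u' : X ⟶ S), u' = u →
          (AlgebraicGeometry.UniversallyInjective (u'.fiberToSpecResidueField s) ↔
            AlgebraicGeometry.UniversallyInjective (u.fiberToSpecResidueField s)) := by
        rintro _ rfl
        exact Iff.rfl
      exact h2.trans (h3 _ (CategoryTheory.Category.comp_id u))
    rw [hloc] at key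
    exact key

end Groth.Agent.S5887
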