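import Groth.Statements.S5889
import Groth.Agent.Lib.Helper5.ConsFibre2
import Groth.Agent.S5888

set_option autoImplicit false
universe u
open CategoryTheory AlgebraicGeometry
open ConsProp

namespace Groth.Agent.S5889

/-- Being quasi-finite (locally of finite type, quasi-compact, with discrete fibres) is a constructible
property of morphisms of algebraic schemes. -/
theorem result :
    ConsProp.IsConsMor
      (fun X Y T f g => AlgebraicGeometry.LocallyOfFiniteType f ∧ AlgebraicGeometry.QuasiCompact f ∧
        AlgebraicGeometry.LocallyQuasiFinite f) := by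
  have h1 : ConsProp.IsCons (fun Y T g => AlgebraicGeometry.IsFinite g) :=
    Groth.Agent.Lib.helper5.ConsFibre.isCons_congr
      (fun _ _ g _ _ _ _ => (Groth.Agent.Lib.helper5.ConsFibre.isFinite_iff_dim_le_zero g).symm)
      (Groth.Agent.S5888.result (Set.Iic 0))
  refine Groth.Agent.Lib.helper5.ConsFibre.isConsMor_congr ?_
    (Groth.Agent.Lib.helper5.ConsFibre.isConsMor_forall_fiber h1)
  intro X Y T f g _ _ _ _ _ _
  haveI : AlgebraicGeometry.IsNoetherian T :=
    Groth.Agent.Lib.helper5.ConsFibre.isNoetherian_of_subsingleton T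
  haveI : AlgebraicGeometry.IsNoetherian X :=
    Groth.Agent.Lib.helper5.ConsFibre.isNoetherian_of_lft (f ≫ g)
  haveI : AlgebraicGeometry.LocallyOfFiniteType f :=
    AlgebraicGeometry.locallyOfFiniteType_of_comp f g
  haveI : AlgebraicGeometry.QuasiCompact f :=
    Groth.Agent.Lib.helper5.ConsFibre.quasiCompact_of_isNoetherian f
  constructor
  · intro H
    exact ⟨inferInstance, inferInstance,
      AlgebraicGeometry.locallyQuasiFinite_iff_isFinite_fiber.mpr H⟩
  · rintro ⟨-, -, H⟩
    exact AlgebraicGeometry.locallyQuasiFinite_iff_isFinite_fiber.mp H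

end Groth.Agent.S5889
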