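import Groth.Statements.S5896
import Groth.Agent.Lib.Helper5.ConsPair
import Groth.Agent.S3443

set_option autoImplicit false
universe u
open CategoryTheory AlgebraicGeometry
open ConsPropPair

namespace Groth.Agent.S5896

/-- Case of the property of being surjective: let P(X, Y, k) be the relation between a field k and two
algebraic k-schemes X, Y: there are an extension field k′ of k (a one-point integral scheme T′ over
T = Spec k) and a k′-morphism g : X_(k′) ⟶ Y_(k′) between the base changes (cartesian squares over
T′ ⟶ T) which is surjective. Then P is an ind-constructible property of pairs of algebraic schemes. -/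
theorem result :
    ConsPropPair.IsIndConsPair
      (fun X Y T gX gY => ∃ (T' X' Y' : Scheme.{u}) (h : T' ⟶ T) (gX' : X' ⟶ T') (gY' : Y' ⟶ T')
        (eX : X' ⟶ X) (eY : Y' ⟶ Y), IsIntegral T' ∧ Subsingleton ↥T' ∧
          IsPullback eX gX' gX h ∧ IsPullback eY gY' gY h ∧
            ∃ g : X' ⟶ Y', g ≫ gY' = gX' ∧ AlgebraicGeometry.Surjective g) := by
  have h1 : ConsProp.IsConsMor (fun X Y T f g => AlgebraicGeometry.Surjective f) := by
    refine Groth.Agent.Lib.helper5.ConsFibre.isConsMor_of_isLocallyConstructible
      (Groth.Agent.Lib.helper5.ConsFibre.isFieldStableMor_of_descendsAlong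
        @AlgebraicGeometry.Surjective) ?_
    intro X Y S f g _ _ _ _ _
    haveI : AlgebraicGeometry.IsNoetherian Y :=
      Groth.Agent.Lib.helper5.ConsFibre.isNoetherian_of_lft g
    haveI : AlgebraicGeometry.IsNoetherian X :=
      Groth.Agent.Lib.helper5.ConsFibre.isNoetherian_of_lft (f ≫ g)
    haveI : AlgebraicGeometry.LocallyOfFinitePresentation g :=
      (AlgebraicGeometry.LocallyOfFinitePresentation.iff_locallyOfFiniteType).mpr inferInstance
    haveI : AlgebraicGeometry.LocallyOfFinitePresentation (f ≫ g) :=
      (AlgebraicGeometry.LocallyOfFinitePresentation.iff_locallyOfFiniteType).mpr inferInstance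
    have h3443 := Groth.Agent.S3443.result f g
    have hset : ConsProp.locusMor (fun X Y T f g => AlgebraicGeometry.Surjective f) f g =
        {s : S | Function.Surjective (CategoryTheory.Limits.pullback.lift
          (CategoryTheory.Limits.pullback.fst (f ≫ g) (S.fromSpecResidueField s) ≫ f)
          (CategoryTheory.Limits.pullback.snd (f ≫ g) (S.fromSpecResidueField s))
          ((CategoryTheory.Category.assoc _ _ _).trans CategoryTheory.Limits.pullback.condition) :
          CategoryTheory.Limits.pullback (f ≫ g) (S.fromSpecResidueField s) ⟶
            CategoryTheory.Limits.pullback g (S.fromSpecResidueField s)).base} := by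
      ext s
      exact AlgebraicGeometry.surjective_iff _
    rw [hset]
    exact h3443
  exact Groth.Agent.Lib.helper5.ConsFibre.isIndConsPair_pairRel
    (Q := @AlgebraicGeometry.Surjective)
    (Groth.Agent.Lib.helper5.ConsFibre.isIndConsMor_of_isConsMor h1)

end Groth.Agent.S5896
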