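import Groth.Statements.S5911
import Mathlib
import Groth.Agent.Lib.Helper19.IdeallySep

set_option autoImplicit false
universe u
open TensorProduct
open EGA43

namespace Groth.Agent.S5911

open TensorProduct Function
open Groth.Agent.Lib.Helper19.IdeallySep

section
variable {A : Type u} [CommRing A]

theorem flat_quot_of_le (X : Type u) [AddCommGroup X] [Module A X] {𝔞 𝔠 : Ideal A} (h : 𝔞 ≤ 𝔠)
    [Module.Flat (A ⧸ 𝔞) ((A ⧸ 𝔞) ⊗[A] X)] : Module.Flat (A ⧸ 𝔠) ((A ⧸ 𝔠) ⊗[A] X) := by
  letI : Algebra (A ⧸ 𝔞) (A ⧸ 𝔠) := (Ideal.Quotient.factor h).toAlgebra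
  haveI : IsScalarTower A (A ⧸ 𝔞) (A ⧸ 𝔠) := IsScalarTower.of_algebraMap_eq (fun x => rfl)
  exact Module.Flat.of_linearEquiv
    (AlgebraTensorModule.cancelBaseChange A (A ⧸ 𝔞) (A ⧸ 𝔠) (A ⧸ 𝔠) X).symm

end



/-- Let A be a Noetherian ring, J an ideal of A and M an A-module which is ideally separated for the
J-adic topology (for every ideal a of A the module a ⊗_A M is J-adically separated). Let (p_i) be a
finite family of prime ideals of A containing J, let J_n be the intersection of the symbolic powers
p_i^{(n)} (preimages in A of the n-th powers of the maximal ideals of the local rings A_{p_i}), and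
assume every power J^n contains some J_m. Then M is flat if and only if (A/J) ⊗_A M is flat over A/J
and M_{p_i} is flat over A_{p_i} for every i. -/
theorem result {A : Type u} [CommRing A] [IsNoetherianRing A]
    (J : Ideal A) (M : Type u) [AddCommGroup M] [Module A M]
    (hsep : ∀ a : Ideal A, IsHausdorff J (↥a ⊗[A] M))
    {r : ℕ} (p : Fin r → Ideal A) [∀ i, (p i).IsPrime] (hp : ∀ i, J ≤ p i)
    (htop : ∀ n : ℕ, ∃ m : ℕ,
      ⨅ i, Ideal.comap (algebraMap A (Localization.AtPrime (p i))) (IsLocalRing.maximalIdeal (Localization.AtPrime (p i)) ^ m) ≤ J ^ n) :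
    Module.Flat A M ↔
      Module.Flat (A ⧸ J) ((A ⧸ J) ⊗[A] M) ∧
        ∀ i, Module.Flat (Localization.AtPrime (p i)) (LocalizedModule (p i).primeCompl M) := by
  constructor
  · intro h
    exact ⟨inferInstance, fun i => inferInstance⟩
  · rintro ⟨h1, h2⟩
    haveI := h1
    classical
    set Ps : Finset (Ideal A) := Finset.univ.image p with hPs
    have hPp : ∀ q ∈ Ps, q.IsPrime := by
      intro q hq
      obtain ⟨i, _, rfl⟩ := Finset.mem_image.mp hq
      infer_instance
    have hloc : ∀ (q : Ideal A) [q.IsPrime], q ∈ Ps →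
        Module.Flat A (LocalizedModule q.primeCompl M) := by
      intro q _ hq
      obtain ⟨i, _, rfl⟩ := Finset.mem_image.mp hq
      haveI := h2 i
      exact Module.Flat.trans A (Localization.AtPrime (p i)) (LocalizedModule (p i).primeCompl M)
    have key : ∀ k : ℕ, 0 < k → Module.Flat (A ⧸ J ^ k) ((A ⧸ J ^ k) ⊗[A] M) := by
      intro k hk
      obtain ⟨m, hm⟩ := htop k
      set L₀ : Ideal A := ⨅ i, Ideal.comap (algebraMap A (Localization.AtPrime (p i)))
        (IsLocalRing.maximalIdeal (Localization.AtPrime (p i)) ^ m) with hL₀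
      have hL₀J : L₀ ≤ J := hm.trans (Ideal.pow_le_self hk.ne')
      have hN : J ^ m ≤ L₀ := by
        rw [hL₀]
        refine le_iInf fun i => ?_
        rw [← Ideal.map_le_iff_le_comap, Ideal.map_pow]
        apply Ideal.pow_right_mono
        rw [Ideal.map_le_iff_le_comap]
        intro x hx
        rw [Ideal.mem_comap, IsLocalization.AtPrime.to_map_mem_maximal_iff _ (p i)]
        exact hp i hx
      have hreg0 : ∀ s : A, (∀ q ∈ Ps, s ∉ q) → ∀ y : A, s * y ∈ L₀ → y ∈ L₀ := by
        intro s hs y hsy
        rw [hL₀, Ideal.mem_iInf] at hsy ⊢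
        intro i
        have h3 := hsy i
        rw [Ideal.mem_comap, map_mul] at h3
        rw [Ideal.mem_comap]
        have hu : IsUnit (algebraMap A (Localization.AtPrime (p i)) s) :=
          IsLocalization.map_units (M := (p i).primeCompl) _
            ⟨s, hs (p i) (Finset.mem_image.mpr ⟨i, Finset.mem_univ _, rfl⟩)⟩
        exact (Ideal.unit_mul_mem_iff_mem _ hu).mp h3
      haveI := main J L₀ hL₀J m hN M Ps hPp hloc hreg0
      exact flat_quot_of_le M hm
    exact bourbaki J M hsep key

end Groth.Agent.S5911
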