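import Groth.Statements.S5912
import Mathlib
import Groth.Agent.Lib.Helper19.IdeallySep

set_option autoImplicit false
universe u
open TensorProduct
open EGA43

namespace Groth.Agent.S5912

open TensorProduct Function
open Groth.Agent.Lib.Helper19.IdeallySep

section
variable {A : Type u} [CommRing A]

theorem flat_quot_of_le (X : Type u) [AddCommGroup X] [Module A X] {𝔞 𝔠 : Ideal A} (h : 𝔞 ≤ 𝔠)
    [Module.Flat (A ⧸ 𝔞) ((A ⧸ 𝔞) ⊗[A] X)] : Module.Flat (A ⧸ 𝔠) ((A ⧸ 𝔠) ⊗[A] X) := by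
  letI : Algebra (A ⧸ 𝔞) (A ⧸ 𝔠) := (Ideal.Quotient.factor h).toAlgebra
  haveI : IsScalarTower A (A ⧸ 𝔞) (A ⧸ 𝔠) := IsScalarTower.of_algebraMap_eq (fun x => rfl)
  exact Module.Flat.of_linearEquiv
    (AlgebraTensorModule.cancelBaseChange A (A ⧸ 𝔞) (A ⧸ 𝔠) (A ⧸ 𝔠) X).symm

theorem one_tmul_eq_zero (J K : Ideal A) :
    ∀ w ∈ J * K, ∃ hw : w ∈ K, (1 : A ⧸ J) ⊗ₜ[A] (⟨w, hw⟩ : ↥K) = 0 := by
  intro w hw
  refine Submodule.mul_induction_on hw ?_ ?_
  · intro j hj z hz
    refine ⟨K.mul_mem_left j hz, ?_⟩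
    have : (⟨j * z, K.mul_mem_left j hz⟩ : ↥K) = j • (⟨z, hz⟩ : ↥K) := rfl
    rw [this, ← TensorProduct.smul_tmul]
    have h1 : j • (1 : A ⧸ J) = 0 := by
      rw [Algebra.smul_def, mul_one]
      exact Ideal.Quotient.eq_zero_iff_mem.mpr hj
    rw [h1, TensorProduct.zero_tmul]
  · rintro w₁ w₂ ⟨h₁, e₁⟩ ⟨h₂, e₂⟩
    refine ⟨K.add_mem h₁ h₂, ?_⟩
    have : (⟨w₁ + w₂, K.add_mem h₁ h₂⟩ : ↥K) = ⟨w₁, h₁⟩ + ⟨w₂, h₂⟩ := rfl
    rw [this, TensorProduct.tmul_add, e₁, e₂, add_zero]

theorem mem_mul_of_one_tmul_eq_zero (J K : Ideal A) (y : A) (hy : y ∈ K)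
    (h : (1 : A ⧸ J) ⊗ₜ[A] (⟨y, hy⟩ : ↥K) = 0) : y ∈ J * K := by
  have h1 := congrArg (TensorProduct.quotTensorEquivQuotSMul (↥K) J) h
  rw [TensorProduct.quotTensorEquivQuotSMul_mk_one_tmul, map_zero,
    Submodule.Quotient.mk_eq_zero] at h1
  have key : ∀ y' ∈ (J • ⊤ : Submodule A ↥K), (y' : A) ∈ J * K := by
    intro y' hy'
    refine Submodule.smul_induction_on hy' ?_ ?_
    · intro j hj z _
      exact Ideal.mul_mem_mul hj z.2
    · intro a b ha hb
      exact (J * K).add_mem ha hb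
  exact key _ h1

end



/-- Let A be a Noetherian ring, J an ideal of A and M an A-module which is ideally separated for the
J-adic topology (for every ideal a of A the module a ⊗_A M is J-adically separated), and suppose
every quotient J^k/J^{k+1} is a flat (A/J)-module (the associated graded ring of A along J is flat
over A/J). Then M is flat if and only if (A/J) ⊗_A M is flat over A/J and M_p is flat over A_p for
every associated prime p of the A-module A/J. -/
theorem result {A : Type u} [CommRing A] [IsNoetherianRing A]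
    (J : Ideal A) (M : Type u) [AddCommGroup M] [Module A M]
    (hsep : ∀ a : Ideal A, IsHausdorff J (↥a ⊗[A] M))
    (hgr : ∀ k : ℕ, Module.Flat (A ⧸ J) ((A ⧸ J) ⊗[A] ↥(J ^ k))) :
    Module.Flat A M ↔
      Module.Flat (A ⧸ J) ((A ⧸ J) ⊗[A] M) ∧
        ∀ q : associatedPrimes A (A ⧸ J),
          haveI : q.1.IsPrime := IsAssociatedPrime.isPrime q.2
          Module.Flat (Localization.AtPrime q.1) (LocalizedModule q.1.primeCompl M) := by
  constructor
  · intro h
    refine ⟨inferInstance, fun p => ?_⟩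
    haveI : p.1.IsPrime := IsAssociatedPrime.isPrime p.2
    infer_instance
  · rintro ⟨h1, h2⟩
    haveI := h1
    classical
    set Ps : Finset (Ideal A) := (associatedPrimes.finite A (A ⧸ J)).toFinset with hPs
    have hPp : ∀ p ∈ Ps, p.IsPrime := fun p hp =>
      ((associatedPrimes.finite A (A ⧸ J)).mem_toFinset.mp hp).isPrime
    have hloc : ∀ (p : Ideal A) [p.IsPrime], p ∈ Ps →
        Module.Flat A (LocalizedModule p.primeCompl M) := by
      intro p _ hp
      haveI := h2 ⟨p, (associatedPrimes.finite A (A ⧸ J)).mem_toFinset.mp hp⟩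
      exact Module.Flat.trans A (Localization.AtPrime p) (LocalizedModule p.primeCompl M)
    have hreg : ∀ n : ℕ, ∀ s : A, (∀ p ∈ Ps, s ∉ p) → ∀ y ∈ J ^ n, s * y ∈ J ^ (n + 1) →
        y ∈ J ^ (n + 1) := by
      intro n s hs y hy hsy
      have hsreg : IsSMulRegular (A ⧸ J) s := by
        have h3 : s ∉ ⋃ p ∈ associatedPrimes A (A ⧸ J), (p : Set A) := by
          intro hmem
          obtain ⟨p, hp, hsp⟩ := Set.mem_iUnion₂.mp hmem
          exact hs p ((associatedPrimes.finite A (A ⧸ J)).mem_toFinset.mpr hp) hsp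
        rw [biUnion_associatedPrimes_eq_compl_regular] at h3
        simpa using h3
      have hnzd : Ideal.Quotient.mk J s ∈ nonZeroDivisors (A ⧸ J) := by
        rw [mem_nonZeroDivisors_iff_right]
        intro z hz
        apply hsreg
        show s • z = s • 0
        rw [smul_zero, Algebra.smul_def, mul_comm]
        exact hz
      haveI := hgr n
      have hF : IsSMulRegular ((A ⧸ J) ⊗[A] ↥(J ^ n)) (Ideal.Quotient.mk J s) := by
        have := Module.Flat.isSMulRegular_of_nonZeroDivisors (M := (A ⧸ J) ⊗[A] ↥(J ^ n)) hnzd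
        intro a b hab
        exact this hab
      rw [pow_succ'] at hsy ⊢
      apply mem_mul_of_one_tmul_eq_zero J (J ^ n) y hy
      apply hF
      show (Ideal.Quotient.mk J s) • ((1 : A ⧸ J) ⊗ₜ[A] (⟨y, hy⟩ : ↥(J ^ n))) =
        (Ideal.Quotient.mk J s) • (0 : (A ⧸ J) ⊗[A] ↥(J ^ n))
      rw [smul_zero, TensorProduct.smul_tmul']
      obtain ⟨hw, e⟩ := one_tmul_eq_zero J (J ^ n) (s * y) hsy
      have h4 : (Ideal.Quotient.mk J s) • (1 : A ⧸ J) = s • (1 : A ⧸ J) := by
        rw [Algebra.smul_def]; rfl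
      rw [h4, TensorProduct.smul_tmul]
      exact e
    have key : ∀ k : ℕ, 0 < k → Module.Flat (A ⧸ J ^ k) ((A ⧸ J ^ k) ⊗[A] M) := by
      intro k hk
      induction k with
      | zero => omega
      | succ k ih =>
        rcases Nat.eq_zero_or_pos k with rfl | hk0
        · exact flat_quot_of_le M (by rw [zero_add, pow_one])
        · haveI := ih hk0
          exact step J M Ps hPp hloc (J ^ (k + 1)) (J ^ k) (by rw [pow_succ'])
            (Ideal.pow_le_self hk0.ne') (hreg k)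
    exact bourbaki J M hsep key

end Groth.Agent.S5912
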