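import Groth.Statements.S5915
import Groth.Agent.Lib.Helper3.FlatFinDesc
import Groth.Agent.Lib.Helper17.FlatOver6

set_option autoImplicit false
universe u
open CategoryTheory AlgebraicGeometry
open EGA43

namespace Groth.Agent.S5915

open CategoryTheory.Limits in
/-- Let Y be locally Noetherian, f : X ⟶ Y locally of finite type, F a coherent O_X-module, x a point of
X and y = f x. Let φ : O_{Y,y} ⟶ A' be an injective ring homomorphism which is finite (A' finitely
generated as an O_{Y,y}-module), Y' = Spec A' ⟶ Y the induced Y-scheme, X' = X ×_Y Y' and F' the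
pullback of F to X'. Then F is f-flat at x if and only if F' is flat over Y' at every point of X'
lying over x and over a closed point of Y'. (The published statement treats more generally a Zariski
ring A' whose radical pulls back to the maximal ideal and whose map on completions is injective;
this row is the case of a finite algebra with injective structure map, in which those conditions
hold.) -/
theorem result {X Y : Scheme.{u}} [IsLocallyNoetherian Y]
    (f : X ⟶ Y) [LocallyOfFiniteType f] (F : X.Modules) (hF : Coh.IsCoh F) (x : X)
    (A' : CommRingCat.{u}) (φ : Y.presheaf.stalk (f.base x) ⟶ A') (hfin : φ.hom.Finite)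
    (hinj : Function.Injective φ.hom) :
    FlatMod.IsFlatOverAt f F x ↔
      ∀ x' : ↥(pullback f (Spec.map φ ≫ Y.fromSpecStalk (f.base x))), pullback.fst f (Spec.map φ ≫ Y.fromSpecStalk (f.base x)) x' = x →
        IsClosed ({pullback.snd f (Spec.map φ ≫ Y.fromSpecStalk (f.base x)) x'} : Set ↥(Spec A')) →
          FlatMod.IsFlatOverAt (pullback.snd f (Spec.map φ ≫ Y.fromSpecStalk (f.base x))) ((Scheme.Modules.pullback (pullback.fst f (Spec.map φ ≫ Y.fromSpecStalk (f.base x)))).obj F) x' := by
  haveI : F.IsQuasicoherent := hF.1
  constructor
  · intro h x' hx' _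
    have h1 := (Groth.Agent.Lib.helper17.FlatOver6.isFlatOverAt_baseChange_both
      (IsPullback.of_hasPullback f (Spec.map φ ≫ Y.fromSpecStalk (f.base x))) F x').1
    exact h1 (Eq.subst (motive := fun p => FlatMod.IsFlatOverAt f F p) hx'.symm h)
  · intro h
    exact Groth.Agent.Lib.helper3.FlatFinDesc.isFlatOverAt_of_finite_injective f F x A' φ hfin hinj
      _ _ (IsPullback.of_hasPullback f (Spec.map φ ≫ Y.fromSpecStalk (f.base x))) h

end Groth.Agent.S5915
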