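import Groth.Statements.S5922
import Groth.Agent.Lib.Helper24.FibCod14

set_option autoImplicit false
open CategoryTheory AlgebraicGeometry
universe u
open EGA43

namespace Groth.Agent.S5922

/-- Let f : X ⟶ Y be a morphism locally of finite presentation and n a natural number. The set of points
x of X such that f is flat at x and the local ring at x of the fibre of f through x has codepth at
most n, i.e. its Krull dimension is at most its depth plus n, is open in X. -/
theorem result {X Y : Scheme.{u}} (f : X ⟶ Y) [LocallyOfFinitePresentation f]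
    (n : ℕ) :
    IsOpen {x : X | (f.stalkMap x).hom.Flat ∧
      ringKrullDim ((f.fiber (f.base x)).presheaf.stalk (f.asFiber x)) ≤
        ((LocCoh.depth ((f.fiber (f.base x)).presheaf.stalk (f.asFiber x)) ((f.fiber (f.base x)).presheaf.stalk (f.asFiber x)) : ℕ∞) : WithBot ℕ∞) + n} := by
  have hP : ∀ (R R' : Type u) [CommRing R] [CommRing R'] [IsLocalRing R] [IsLocalRing R']
      [IsNoetherianRing R] [IsNoetherianRing R'], (R ≃+* R') →
      (ringKrullDim R ≤ ((LocCoh.depth R R : ℕ∞) : WithBot ℕ∞) + n) →
      (ringKrullDim R' ≤ ((LocCoh.depth R' R' : ℕ∞) : WithBot ℕ∞) + n) := by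
    intro R R' _ _ _ _ _ _ e h
    rw [← ringKrullDim_eq_of_ringEquiv e,
      Groth.Agent.Lib.Helper24.FlatDepth.depth_eq_of_ringEquiv e]
    exact h
  exact Groth.Agent.Lib.Helper24.FibCod.isOpen_flat_and_fibre
    (fun R _ _ => ringKrullDim R ≤ ((LocCoh.depth R R : ℕ∞) : WithBot ℕ∞) + n) hP
    (fun A B _ _ _ _ _ => Groth.Agent.Lib.Helper24.FibCod.isOpen_codepth_le A B n) f

end Groth.Agent.S5922
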