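import Groth.Statements.S5924
import Mathlib
-- import your own Groth.Agent.* helpers here

set_option autoImplicit false
open CategoryTheory AlgebraicGeometry
universe u
open EGA43

namespace Groth.Agent.S5924

/-- ring-theoretic core: prime avoidance against the (finitely many) minimal primes over `I`. -/
theorem core {A : Type*} [CommRing A] [IsNoetherianRing A] (I P : Ideal A) [P.IsPrime]
    (hIP : I ≤ P) (hP : P ∉ I.minimalPrimes) :
    ∃ g ∈ P, ∀ q ∈ I.minimalPrimes, g ∉ q := by
  classical
  have hfin : (I.minimalPrimes).Finite := Ideal.finite_minimalPrimes_of_isNoetherianRing A I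
  by_contra hcon
  push Not at hcon
  have hsub : ((P : Set A) ⊆ ⋃ i ∈ (↑hfin.toFinset : Set (Ideal A)), (id i : Ideal A)) := by
    intro g hg
    obtain ⟨q, hq, hgq⟩ := hcon g hg
    simp only [Set.mem_iUnion]
    exact ⟨q, by simpa using hq, hgq⟩
  have hpr : ∀ i ∈ hfin.toFinset, i ≠ (⊥ : Ideal A) → i ≠ (⊥ : Ideal A) → (id i : Ideal A).IsPrime := by
    intro i hi _ _
    have : i ∈ I.minimalPrimes := by simpa using hi
    exact this.1.1
  obtain ⟨q, hq, hPq⟩ := (Ideal.subset_union_prime (f := id) ⊥ ⊥ hpr).1 hsub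
  have hq' : q ∈ I.minimalPrimes := by simpa using hq
  have : q ≤ P := hq'.2 ⟨inferInstance, hIP⟩ hPq
  exact hP (by rwa [le_antisymm hPq this])

/-- Let Y be an irreducible locally Noetherian scheme, f : X ⟶ Y a morphism locally of finite type which
is equidimensional at the point x, and suppose that x is not a maximal point of its fibre f⁻¹(f x),
i.e. some point of the fibre other than x specializes to x. Then there exist an affine open
neighbourhood U of x and a section g of O_X over U such that g vanishes at x (x is not in the basic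
open set of g) while every maximal point of f⁻¹(f x) lying in U is in the basic open set of g. -/
theorem result {X Y : Scheme.{u}} [IrreducibleSpace Y]
    [IsLocallyNoetherian Y] (f : X ⟶ Y) [LocallyOfFiniteType f] (x : X) (hf : EGA43.IsEquidimAt f x)
    (hx : ∃ x' : X, f.base x' = f.base x ∧ x' ≠ x ∧ x ∈ closure ({x'} : Set X)) :
    ∃ U : X.Opens, IsAffineOpen U ∧ x ∈ U ∧ ∃ g : Γ(X, U), x ∉ X.basicOpen g ∧
      ∀ z : X, f.base z = f.base x → (∀ z' : X, f.base z' = f.base x → z ∈ closure ({z'} : Set X) → z' = z) →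
        z ∈ U → z ∈ X.basicOpen g := by
  classical
  -- affine neighbourhoods
  obtain ⟨V, hV, hyV, -⟩ := TopologicalSpace.Opens.isBasis_iff_nbhd.mp Y.isBasis_affineOpens
    (show f.base x ∈ (⊤ : Y.Opens) from trivial)
  obtain ⟨U, hU, hxU, hUV⟩ := TopologicalSpace.Opens.isBasis_iff_nbhd.mp X.isBasis_affineOpens
    (show x ∈ f ⁻¹ᵁ V from hyV)
  have : IsLocallyNoetherian X := LocallyOfFiniteType.isLocallyNoetherian f
  have : IsNoetherianRing Γ(X, U) := IsLocallyNoetherian.component_noetherian ⟨U, hU⟩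
  let φ := (f.appLE V U hUV).hom
  let P : ∀ z : X, z ∈ U → PrimeSpectrum Γ(X, U) := fun z hz => hU.primeIdealOf ⟨z, hz⟩
  let py : PrimeSpectrum Γ(Y, V) := hV.primeIdealOf ⟨f.base x, hyV⟩
  let I : Ideal Γ(X, U) := py.asIdeal.map φ
  -- basic facts
  have hcomap : ∀ (z : X) (hz : z ∈ U), (P z hz).comap φ = hV.primeIdealOf ⟨f.base z, hUV hz⟩ :=
    fun z hz => IsAffineOpen.comap_primeIdealOf_appLE V hV U hU hUV hz
  have hfrom : ∀ (z : X) (hz : z ∈ U), hU.fromSpec (P z hz) = z :=
    fun z hz => hU.fromSpec_primeIdealOf ⟨z, hz⟩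
  have hinj : Function.Injective hU.fromSpec := hU.fromSpec.isOpenEmbedding.injective
  have hspec : ∀ (z z' : X) (hz : z ∈ U) (hz' : z' ∈ U), z ∈ closure ({z'} : Set X) →
      (P z' hz').asIdeal ≤ (P z hz).asIdeal := by
    intro z z' hz hz' hcl
    have h1 : z' ⤳ z := specializes_iff_mem_closure.mpr hcl
    rw [← hfrom z hz, ← hfrom z' hz'] at h1
    have h2 := hU.fromSpec.isOpenEmbedding.isInducing.specializes_iff.mp h1
    exact (PrimeSpectrum.le_iff_specializes _ _).mpr h2
  have hbasic : ∀ (z : X) (hz : z ∈ U) (g : Γ(X, U)), z ∈ X.basicOpen g ↔ g ∉ (P z hz).asIdeal := by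
    intro z hz g
    have h1 := hU.fromSpec_preimage_basicOpen g
    have h2 : P z hz ∈ hU.fromSpec ⁻¹ᵁ X.basicOpen g ↔ z ∈ X.basicOpen g := by
      show hU.fromSpec (P z hz) ∈ X.basicOpen g ↔ _
      rw [hfrom z hz]
    rw [← h2, h1]
    exact PrimeSpectrum.mem_basicOpen _ _
  have hIle : ∀ (z : X) (hz : z ∈ U), f.base z = f.base x → I ≤ (P z hz).asIdeal := by
    intro z hz hfz
    rw [Ideal.map_le_iff_le_comap]
    have := hcomap z hz
    have h3 : ((P z hz).comap φ).asIdeal = py.asIdeal := by
      rw [this]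
      congr 2
      exact Subtype.ext hfz
    rw [← h3]
    exact le_of_eq rfl
  -- maximal points of the fibre in U give minimal primes over I
  have hmin : ∀ (z : X) (hz : z ∈ U), f.base z = f.base x →
      (∀ z' : X, f.base z' = f.base x → z ∈ closure ({z'} : Set X) → z' = z) →
      (P z hz).asIdeal ∈ I.minimalPrimes := by
    intro z hz hfz hmax
    refine ⟨⟨(P z hz).isPrime, hIle z hz hfz⟩, ?_⟩
    rintro q ⟨hqprime, hIq⟩ hqz
    let q' : PrimeSpectrum Γ(X, U) := ⟨q, hqprime⟩
    have hz'U : hU.fromSpec q' ∈ U := by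
      have h0 : hU.fromSpec q' ∈ hU.fromSpec.opensRange := ⟨q', rfl⟩
      rwa [hU.opensRange_fromSpec] at h0
    have hPq : P (hU.fromSpec q') hz'U = q' := hinj (hfrom _ hz'U)
    have hfz' : f.base (hU.fromSpec q') = f.base x := by
      have h4 := hcomap _ hz'U
      rw [hPq] at h4
      have h5 : (q'.comap φ).asIdeal = py.asIdeal := by
        apply le_antisymm
        · have h6 : (q'.comap φ).asIdeal ≤ ((P z hz).comap φ).asIdeal :=
            Ideal.comap_mono hqz
          refine h6.trans (le_of_eq ?_)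
          rw [hcomap z hz]
          congr 2
          exact Subtype.ext hfz
        · exact Ideal.map_le_iff_le_comap.mp hIq
      have h7 : hV.primeIdealOf ⟨f.base (hU.fromSpec q'), hUV hz'U⟩ = py := by
        rw [← h4]
        exact PrimeSpectrum.ext h5
      have h8 := congrArg hV.fromSpec h7
      rw [hV.fromSpec_primeIdealOf, hV.fromSpec_primeIdealOf] at h8
      exact h8
    have hcl : z ∈ closure ({hU.fromSpec q'} : Set X) := by
      rw [← specializes_iff_mem_closure]
      have h9 : q' ⤳ P z hz := (PrimeSpectrum.le_iff_specializes _ _).mp hqz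
      have h10 := hU.fromSpec.isOpenEmbedding.isInducing.specializes_iff.mpr h9
      rwa [hfrom z hz] at h10
    have heq := hmax _ hfz' hcl
    have : q' = P z hz := by
      apply hinj
      rw [hfrom z hz, heq]
    exact le_of_eq (congrArg PrimeSpectrum.asIdeal this).symm
  -- x is not a maximal point
  obtain ⟨x', hfx', hne, hcl⟩ := hx
  have hx'U : x' ∈ U := (specializes_iff_mem_closure.mpr hcl).mem_open U.isOpen hxU
  have hnot : (P x hxU).asIdeal ∉ I.minimalPrimes := by
    intro hmem
    have h1 : (P x' hx'U).asIdeal ≤ (P x hxU).asIdeal := hspec x x' hxU hx'U hcl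
    have h2 : (P x hxU).asIdeal ≤ (P x' hx'U).asIdeal :=
      hmem.2 ⟨(P x' hx'U).isPrime, hIle x' hx'U hfx'⟩ h1
    have h3 : P x' hx'U = P x hxU := PrimeSpectrum.ext (le_antisymm h1 h2)
    apply hne
    rw [← hfrom x' hx'U, h3, hfrom x hxU]
  have := (P x hxU).isPrime
  obtain ⟨g, hgx, hg⟩ := core I (P x hxU).asIdeal (hIle x hxU rfl) hnot
  refine ⟨U, hU, hxU, g, ?_, ?_⟩
  · rw [hbasic x hxU g]
    exact fun h => h hgx
  · intro z hfz hmax hz
    rw [hbasic z hz g]
    exact hg _ (hmin z hz hfz hmax)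

end Groth.Agent.S5924
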