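import Groth.Statements.S5934
import Mathlib

set_option autoImplicit false
open CategoryTheory AlgebraicGeometry
universe u
open EGA43

namespace Groth.Agent.S5934

open CategoryTheory CategoryTheory.Limits

set_option backward.isDefEq.respectTransparency false in
lemma smooth_fiber_comp_of_isOpenImmersion {U X Y : Scheme.{u}} (j : U ⟶ X) [IsOpenImmersion j]
    (f : X ⟶ Y) (y : Y) (h : Smooth (f.fiberToSpecResidueField y)) :
    Smooth ((j ≫ f).fiberToSpecResidueField y) := by
  have : Smooth (pullback.snd f (Y.fromSpecResidueField y)) := h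
  rw [Scheme.Hom.fiberToSpecResidueField, ← pullbackRightPullbackFstIso_inv_snd_snd]
  infer_instance

lemma smooth_fiber_of_isPullback {P X Y Z : Scheme.{u}} {fst : P ⟶ X}
    {snd : P ⟶ Y} {f : X ⟶ Z} {g : Y ⟶ Z} (h : IsPullback fst snd f g) (y : Y)
    (hs : Smooth (f.fiberToSpecResidueField (g y))) : Smooth (snd.fiberToSpecResidueField y) :=
  MorphismProperty.of_isPullback (isPullback_fiberToSpecResidueField_of_isPullback h y) hs



set_option backward.isDefEq.respectTransparency false in
lemma mem_smoothLocus_of_smooth_fiber {X Y : Scheme.{u}} (f : X ⟶ Y) [Flat f]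
    [LocallyOfFinitePresentation f] (x : X)
    (h : Smooth (f.fiberToSpecResidueField (f x))) : x ∈ f.smoothLocus := by
  obtain ⟨_, ⟨U, hU, rfl⟩, hxU, -⟩ :=
    Y.isBasis_affineOpens.exists_subset_of_mem_open (Set.mem_univ (f x)) isOpen_univ
  obtain ⟨_, ⟨V, hV, rfl⟩, hxV, hVU⟩ :=
    X.isBasis_affineOpens.exists_subset_of_mem_open hxU (U.2.preimage f.continuous)
  have hfp := f.finitePresentation_appLE hU hV hVU
  have hflat := f.flat_appLE hU hV hVU
  -- scheme-level: fibre of Spec.map φ at p is smooth
  let p := (hU.primeIdealOf ⟨f x, hVU hxV⟩)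
  let q := (hV.primeIdealOf ⟨x, hxV⟩)
  have hp : hU.fromSpec p = f x := hU.fromSpec_primeIdealOf ⟨f x, hVU hxV⟩
  have h' : Smooth (f.fiberToSpecResidueField (hU.fromSpec p)) := by rw [hp]; exact h
  have h1 : Smooth ((pullback.snd f hU.fromSpec).fiberToSpecResidueField p) :=
    smooth_fiber_of_isPullback (IsPullback.of_hasPullback f hU.fromSpec) p h'
  let j : Spec Γ(X, V) ⟶ pullback f hU.fromSpec :=
    pullback.lift hV.fromSpec (Spec.map (f.appLE U V hVU))
      (IsAffineOpen.SpecMap_appLE_fromSpec f hU hV hVU).symm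
  have hj1 : j ≫ pullback.fst f hU.fromSpec = hV.fromSpec := pullback.lift_fst _ _ _
  have hj2 : j ≫ pullback.snd f hU.fromSpec = Spec.map (f.appLE U V hVU) := pullback.lift_snd _ _ _
  have : IsOpenImmersion (j ≫ pullback.fst f hU.fromSpec) := by rw [hj1]; infer_instance
  have : IsOpenImmersion j := IsOpenImmersion.of_comp j (pullback.fst f hU.fromSpec)
  have h2 : Smooth ((j ≫ pullback.snd f hU.fromSpec).fiberToSpecResidueField p) :=
    smooth_fiber_comp_of_isOpenImmersion (Y := Spec Γ(Y, U)) j (pullback.snd f hU.fromSpec) p h1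
  rw [hj2] at h2
  algebraize [(f.appLE U V hVU).hom]
  rw [Scheme.Hom.mem_smoothLocus, formallySmooth_stalkMap_iff U hU V hV hVU hxV]
  have : q.asIdeal.LiesOver p.asIdeal :=
    ⟨congr($(IsAffineOpen.comap_primeIdealOf_appLE U hU V hV hVU hxV).1).symm⟩
  have : Algebra.FormallySmooth p.asIdeal.ResidueField (p.asIdeal.Fiber Γ(X, V)) := by
    rw [← RingHom.formallySmooth_algebraMap]
    refine RingHom.Smooth.formallySmooth ?_
    rw [← CommRingCat.hom_ofHom (algebraMap p.asIdeal.ResidueField (p.asIdeal.Fiber ↑Γ(X, V))),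
      ← HasRingHomProperty.Spec_iff (P := @Smooth), ← MorphismProperty.arrow_mk_iso_iff (P := @Smooth)
      (Spec.fiberToSpecResidueFieldIso Γ(Y, U) Γ(X, V) p)]
    exact h2
  exact Algebra.IsSmoothAt.of_formallySmooth_fiber p.asIdeal q.asIdeal



lemma smooth_fiber_of_forall_mem {X Y : Scheme.{u}} (f : X ⟶ Y)
    [LocallyOfFinitePresentation f] (y : Y)
    (h : ∀ x, f x = y → x ∈ f.smoothLocus) : Smooth (f.fiberToSpecResidueField y) := by
  let Us := f.smoothLocus
  have hg : Smooth (Us.ι ≫ f) := by
    rw [← Scheme.Hom.smoothLocus_eq_top_iff, ← Scheme.Hom.preimage_smoothLocus_eq]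
    exact Scheme.Opens.ι_preimage_self Us
  let W := (f.fiberι y) ⁻¹ᵁ Us
  have hW : W = ⊤ := by
    rw [← top_le_iff]
    rintro z -
    apply h
    have : f.fiberι y z ∈ Set.range (f.fiberι y) := ⟨z, rfl⟩
    rw [f.range_fiberι y] at this
    exact this
  have hpb1 : IsPullback (f.fiberι y ∣_ Us) W.ι Us.ι (f.fiberι y) := isPullback_morphismRestrict _ _
  have hpb2 : IsPullback (f.fiberι y) (f.fiberToSpecResidueField y) f (Y.fromSpecResidueField y) :=
    IsPullback.of_hasPullback f _
  have hpb := hpb1.paste_vert hpb2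
  have hsm : Smooth (W.ι ≫ f.fiberToSpecResidueField y) := MorphismProperty.of_isPullback hpb hg
  exact IsZariskiLocalAtSource.of_iSup_eq_top (P := @Smooth) (fun _ : Unit => W) (by simp [hW])
    (fun _ => hsm)

theorem main {X Y : Scheme.{u}} (f : X ⟶ Y) [IsProper f] [Flat f] [LocallyOfFinitePresentation f] :
    IsOpen {y : Y | Smooth (f.fiberToSpecResidueField y)} := by
  have hcl : IsClosed (f '' (f.smoothLocus : Set X)ᶜ) :=
    f.isClosedMap _ f.smoothLocus.isOpen.isClosed_compl
  have : {y : Y | Smooth (f.fiberToSpecResidueField y)} = (f '' (f.smoothLocus : Set X)ᶜ)ᶜ := by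
    ext y
    simp only [Set.mem_ofPred_eq, Set.mem_compl_iff, Set.mem_image, not_exists, not_and]
    constructor
    · intro h x hx hxy
      subst hxy
      exact hx (mem_smoothLocus_of_smooth_fiber f x h)
    · intro h
      apply smooth_fiber_of_forall_mem
      intro x hxy
      by_contra hx
      exact h x hx hxy
  rw [this]; exact hcl.isOpen_compl



/-- Let f : X ⟶ Y be a proper, flat morphism of finite presentation. The set of points y of Y whose
fibre X_y is geometrically regular, i.e. smooth over the residue field κ(y), is open in Y. -/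
theorem result {X Y : Scheme.{u}} (f : X ⟶ Y) [IsProper f] [Flat f]
    [LocallyOfFinitePresentation f] :
    IsOpen {y : Y | Smooth (f.fiberToSpecResidueField y)} := by
  exact main f

end Groth.Agent.S5934
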