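import Groth.Statements.S5937
import Groth.Agent.Lib.Helper7.OmegaQCoh
import Groth.Agent.Lib.Helper7.QCohZero
import Groth.Agent.Lib.Helper7.RestrictSupport
import Mathlib.AlgebraicGeometry.Morphisms.FormallyUnramified

set_option autoImplicit false
universe u
open CategoryTheory CategoryTheory.Limits AlgebraicGeometry
open Unram17

namespace Groth.Agent.S5937

/-- Take a morphism of schemes f : X ⟶ Y and an O_X-module Ω' equipped with a universal Y-derivation d :
O_X → Ω' (so that Ω' is a sheaf of differentials of X over Y). Then f is formally unramified if and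
only if Ω' is a zero object of the category of O_X-modules. -/
theorem result {X Y : Scheme.{u}} (f : X ⟶ Y)
    (Ω' : X.Modules) (d : OmegaSh.Der f Ω') (hd : OmegaSh.IsUniversal d) :
    FormallyUnramified f ↔ IsZero Ω' := by
  have subs : ∀ {U : X.Opens} (hU : IsAffineOpen U) {V : Y.Opens} (hV : IsAffineOpen V)
      (e : U ≤ f ⁻¹ᵁ V),
      Subsingleton Γ(Ω', U) ↔ (f.appLE V U e).hom.FormallyUnramified := by
    intro U hU V hV e
    letI := (f.appLE V U e).hom.toAlgebra
    obtain ⟨ψ, -⟩ := Groth.Agent.Lib.helper7.OmegaStruct.exists_sectionsEquiv f d hd hU hV e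
    rw [RingHom.FormallyUnramified, Algebra.formallyUnramified_iff]
    exact ψ.toEquiv.subsingleton_congr
  haveI : Ω'.IsQuasicoherent :=
    Groth.Agent.Lib.helper7.OmegaQCoh.isQuasicoherent_of_isUniversal f d hd
  constructor
  · intro h
    let ι := {p : X.affineOpens × Y.affineOpens // p.1.1 ≤ f ⁻¹ᵁ p.2.1}
    refine Groth.Agent.Lib.helper7.QCohZero.isZero_of_subsingleton_sections Ω'
      (fun p : ι => p.1.1.1) (fun p => p.1.1.2) (fun x => ?_) (fun p => ?_)
    · obtain ⟨V, hV, hxV, -⟩ := TopologicalSpace.Opens.isBasis_iff_nbhd.mp Y.isBasis_affineOpens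
        (show f x ∈ (⊤ : Y.Opens) from trivial)
      obtain ⟨U, hU, hxU, hUV⟩ := TopologicalSpace.Opens.isBasis_iff_nbhd.mp X.isBasis_affineOpens
        (show x ∈ f ⁻¹ᵁ V from hxV)
      exact ⟨⟨(⟨U, hU⟩, ⟨V, hV⟩), hUV⟩, hxU⟩
    · exact (subs p.1.1.2 p.1.2.2 p.2).mpr
        (h.formallyUnramified_appLE p.1.2.2 p.1.1.2 p.2)
  · intro h
    refine ⟨fun {V} hV {U} hU e => ?_⟩
    exact (subs hU hV e).mp
      ((Groth.Agent.Lib.helper7.RestrictSupport.isZero_iff_subsingleton_sections _).mp h U)

end Groth.Agent.S5937
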