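import Groth.Statements.S5939
import Mathlib.CategoryTheory.Limits.Shapes.Diagonal

set_option autoImplicit false
universe u
open CategoryTheory AlgebraicGeometry
open Unram17

namespace Groth.Agent.S5939

open CategoryTheory.Limits

theorem qc_of_surj_comp {X Y Z : Scheme.{u}} (h : X ⟶ Y) (k : Y ⟶ Z) [Surjective h]
    [QuasiCompact (h ≫ k)] : QuasiCompact k := by
  constructor
  intro U hU hUc
  have h1 : IsCompact ((h ≫ k) ⁻¹' U) := QuasiCompact.isCompact_preimage U hU hUc
  have h2 : k ⁻¹' U = h '' ((h ≫ k) ⁻¹' U) := by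
    ext y
    constructor
    · intro hy
      obtain ⟨x, rfl⟩ := h.surjective y
      exact ⟨x, by simpa using hy, rfl⟩
    · rintro ⟨x, hx, rfl⟩
      simpa using hx
  rw [h2]
  exact h1.image h.continuous


/-- Let f : X ⟶ Y be faithfully flat, locally of finite presentation and quasi-compact, and let g : Y ⟶
Z be a morphism such that f ≫ g is of finite presentation (locally of finite presentation,
quasi-compact and quasi-separated). Then g is quasi-compact and quasi-separated; together with the
descent of local finite presentation along f this says that g is of finite presentation. This is the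
case f quasi-compact. -/
theorem result {X Y Z : Scheme.{u}} (f : X ⟶ Y) (g : Y ⟶ Z)
    [Surjective f] [Flat f] [LocallyOfFinitePresentation f] [QuasiCompact f]
    [LocallyOfFinitePresentation (f ≫ g)] [QuasiCompact (f ≫ g)] [QuasiSeparated (f ≫ g)] :
    QuasiCompact g ∧ QuasiSeparated g := by
  refine ⟨qc_of_surj_comp f g, ?_⟩
  rw [quasiSeparated_iff]
  let Δ' : pullback f f ⟶ pullback (f ≫ g) (f ≫ g) :=
    pullback.map f f (f ≫ g) (f ≫ g) (𝟙 _) (𝟙 _) g (Category.id_comp _).symm (Category.id_comp _).symm
  let p : pullback (f ≫ g) (f ≫ g) ⟶ pullback g g :=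
    pullback.map (f ≫ g) (f ≫ g) g g f f (𝟙 _) (Category.comp_id _) (Category.comp_id _)
  have hsq : (pullback.fst f f ≫ f) ≫ pullback.diagonal g = Δ' ≫ p :=
    (pullback_map_diagonal_isPullback f f g).w
  have hΔ' : QuasiCompact Δ' := by
    have e : Δ' ≫ pullback.fst (f ≫ g) (f ≫ g) = pullback.fst f f := by
      show pullback.map f f (f ≫ g) (f ≫ g) (𝟙 _) (𝟙 _) g _ _ ≫ pullback.fst (f ≫ g) (f ≫ g) = _
      rw [pullback.lift_fst, Category.comp_id]
    have : QuasiCompact (Δ' ≫ pullback.fst (f ≫ g) (f ≫ g)) := by rw [e]; infer_instance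
    exact QuasiCompact.of_comp Δ' (pullback.fst (f ≫ g) (f ≫ g))
  have hp : QuasiCompact p :=
    MorphismProperty.pullbackMap (P := @QuasiCompact) (f := f ≫ g) (g := f ≫ g) (f' := g) (g' := g)
      (i₁ := f) (i₂ := f) inferInstance inferInstance rfl rfl
  have : QuasiCompact ((pullback.fst f f ≫ f) ≫ pullback.diagonal g) := by
    rw [hsq]; infer_instance
  exact qc_of_surj_comp (pullback.fst f f ≫ f) (pullback.diagonal g)

end Groth.Agent.S5939
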