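import Groth.Statements.S5942
-- import your own Groth.Agent.* helpers here
import Groth.Agent.Lib.Helper9.UnramDescend

set_option autoImplicit false
universe u
open CategoryTheory AlgebraicGeometry
open Unram17

namespace Groth.Agent.S5942

open Groth.Agent.Lib.helper9 CategoryTheory.Limits

/-- Let S = lim S_i be a cofiltered limit of schemes with affine transition maps, let X₀ and Y₀ be
schemes locally of finite presentation over a stage S_{i₀}, f₀ : X₀ ⟶ Y₀ an S_{i₀}-morphism, and f :
X ⟶ Y the base change of f₀ along S ⟶ S_{i₀} (base changes are expressed by pullback squares).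
Assume X₀ quasi-compact. Then f is formally unramified if and only if, for some index j over i₀, the
base change f_j : X_j ⟶ Y_j of f₀ along S_j ⟶ S_{i₀} is formally unramified (f and every f_j are
locally of finite presentation, being morphisms between schemes locally of finite presentation over
a common base, so formally unramified means unramified here). This is the case of unramified
morphisms. -/
theorem result {I : Type u} [SmallCategory I] [IsCofiltered I]
    (D : I ⥤ Scheme.{u}) (c : Limits.Cone D) (hc : Limits.IsLimit c)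
    [∀ (i j : I) (f : i ⟶ j), IsAffineHom (D.map f)] (i₀ : I)
    {X₀ Y₀ : Scheme.{u}} (f₀ : X₀ ⟶ Y₀) (g₀ : Y₀ ⟶ D.obj i₀)
    [LocallyOfFinitePresentation g₀] [LocallyOfFinitePresentation (f₀ ≫ g₀)]
    [CompactSpace ↥X₀]
    {X Y : Scheme.{u}} (f : X ⟶ Y) (g : Y ⟶ c.pt) (qY : Y ⟶ Y₀) (qX : X ⟶ X₀)
    (hY : IsPullback qY g g₀ (c.π.app i₀)) (hX : IsPullback qX f f₀ qY) :
    FormallyUnramified f ↔
      ∃ (j : I) (φ : j ⟶ i₀) (Xj Yj : Scheme.{u}) (fj : Xj ⟶ Yj) (gj : Yj ⟶ D.obj j) (pY : Yj ⟶ Y₀)
        (pX : Xj ⟶ X₀), IsPullback pY gj g₀ (D.map φ) ∧ IsPullback pX fj f₀ pY ∧ FormallyUnramified fj := by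
  have hlft : LocallyOfFiniteType f₀ := by
    have : LocallyOfFiniteType (f₀ ≫ g₀) := inferInstance
    exact locallyOfFiniteType_of_comp f₀ g₀
  constructor
  · intro h
    have h' : FormallyUnramified (stageMap (c.π.app i₀) f₀ g₀) :=
      (stageMap_iff_of_isPullback @FormallyUnramified hY hX).mpr h
    obtain ⟨l, hl⟩ := exists_formallyUnramified_stageMap D c hc i₀ f₀ g₀ h'
    exact ⟨l.left, l.hom, _, _, stageMap (D.map l.hom) f₀ g₀, pullback.fst (D.map l.hom) g₀,
      pullback.snd (D.map l.hom) g₀, pullback.snd (D.map l.hom) (f₀ ≫ g₀),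
      isPullback_stage_base (D.map l.hom) g₀, isPullback_stageMap (D.map l.hom) f₀ g₀, hl⟩
  · intro h
    exact of_exists_stage D c @FormallyUnramified i₀ f₀ g₀ f g qY qX hY hX h

end Groth.Agent.S5942
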