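import Groth.Statements.S5945
-- import your own Groth.Agent.* helpers here
import Groth.Agent.Lib.Helper9.NhdDescend

set_option autoImplicit false
universe u
open CategoryTheory AlgebraicGeometry
open Unram17

namespace Groth.Agent.S5945

open Groth.Agent.Lib.helper9 CategoryTheory.Limits

/-- Let S = lim S_i be a cofiltered limit of schemes with affine transition maps, let X₀ and Y₀ be
schemes locally of finite presentation over a stage S_{i₀}, f₀ : X₀ ⟶ Y₀ an S_{i₀}-morphism, and f :
X ⟶ Y the base change of f₀ along S ⟶ S_{i₀} (base changes are expressed by pullback squares). Let x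
be a point of X; for a stage j over i₀ the canonical projection X ⟶ X_j is the morphism rX
determined by its composites to X₀ and to S_j. Then f is formally unramified (equivalently
unramified, local finite presentation being automatic here) on some open neighbourhood of x if and
only if, for some index j over i₀, f_j is formally unramified on some open neighbourhood of the
image of x in X_j. This is the case of unramified morphisms. -/
theorem result {I : Type u} [SmallCategory I] [IsCofiltered I]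
    (D : I ⥤ Scheme.{u}) (c : Limits.Cone D) (hc : Limits.IsLimit c)
    [∀ (i j : I) (f : i ⟶ j), IsAffineHom (D.map f)] (i₀ : I)
    {X₀ Y₀ : Scheme.{u}} (f₀ : X₀ ⟶ Y₀) (g₀ : Y₀ ⟶ D.obj i₀)
    [LocallyOfFinitePresentation g₀] [LocallyOfFinitePresentation (f₀ ≫ g₀)]
    {X Y : Scheme.{u}} (f : X ⟶ Y) (g : Y ⟶ c.pt) (qY : Y ⟶ Y₀) (qX : X ⟶ X₀)
    (hY : IsPullback qY g g₀ (c.π.app i₀)) (hX : IsPullback qX f f₀ qY) (x : ↥X) :
    (∃ U : X.Opens, x ∈ U ∧ FormallyUnramified (U.ι ≫ f)) ↔
      ∃ (j : I) (φ : j ⟶ i₀) (Xj Yj : Scheme.{u}) (fj : Xj ⟶ Yj) (gj : Yj ⟶ D.obj j) (pY : Yj ⟶ Y₀)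
        (pX : Xj ⟶ X₀) (rX : X ⟶ Xj), IsPullback pY gj g₀ (D.map φ) ∧ IsPullback pX fj f₀ pY ∧
          rX ≫ pX = qX ∧ rX ≫ fj ≫ gj = f ≫ g ≫ c.π.app j ∧ ∃ V : Xj.Opens, rX.base x ∈ V ∧ FormallyUnramified (V.ι ≫ fj) := by
  have hlft : LocallyOfFiniteType f₀ := by
    have : LocallyOfFiniteType (f₀ ≫ g₀) := inferInstance
    exact locallyOfFiniteType_of_comp f₀ g₀
  constructor
  · rintro ⟨U, hxU, hU⟩
    obtain ⟨k, rX, V, h1, h2, hxV, hV⟩ := exists_nhd_stage_of_descent D c hc
      @FormallyUnramified @LocallyOfFiniteType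
      (fun j V Y' f' g' hVa hQ hP => by
        have : LocallyOfFiniteType f' := hQ
        have : IsAffine V := hVa
        exact exists_formallyUnramified_stageMap D c hc j f' g' hP)
      i₀ f₀ g₀ (fun j V => by
        have : LocallyOfFiniteType (stageMap (D.map j.hom) f₀ g₀) :=
          MorphismProperty.of_isPullback (P := @LocallyOfFiniteType)
            (isPullback_stageMap (D.map j.hom) f₀ g₀) hlft
        show LocallyOfFiniteType (V.ι ≫ stageMap (D.map j.hom) f₀ g₀)
        infer_instance) f g qY qX hY hX x U hxU hU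
    refine ⟨k.left, k.hom, _, _, stageMap (D.map k.hom) f₀ g₀, pullback.fst (D.map k.hom) g₀,
      pullback.snd (D.map k.hom) g₀, pullback.snd (D.map k.hom) (f₀ ≫ g₀), rX,
      isPullback_stage_base _ _, isPullback_stageMap _ _ _, h2, ?_, V, hxV, hV⟩
    rw [stageMap_fst, h1]
  · rintro ⟨j, φ, Xj, Yj, fj, gj, pY, pX, rX, hYj, hXj, h1, h2, V, hxV, hV⟩
    let rY : Y ⟶ Yj := hYj.lift qY (g ≫ c.π.app j) (by rw [hY.w, Category.assoc, c.w])
    have hrY1 : rY ≫ pY = qY := hYj.lift_fst _ _ _
    have hrY2 : rY ≫ gj = g ≫ c.π.app j := hYj.lift_snd _ _ _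
    have hcomm : rX ≫ fj = f ≫ rY := by
      apply hYj.hom_ext
      · simp only [Category.assoc]
        rw [← hXj.w, hrY1, ← Category.assoc, h1, hX.w]
      · simp only [Category.assoc]
        rw [h2, hrY2]
    have hsq : IsPullback rX f fj rY := by
      refine IsPullback.of_right ?_ hcomm hXj
      rw [h1, hrY1]; exact hX
    refine ⟨rX ⁻¹ᵁ V, hxV, ?_⟩
    have hsq' : IsPullback (rX ∣_ V) ((rX ⁻¹ᵁ V).ι ≫ f) (V.ι ≫ fj) rY :=
      (isPullback_morphismRestrict rX V).paste_vert hsq
    exact MorphismProperty.of_isPullback (P := @FormallyUnramified) hsq' hV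

end Groth.Agent.S5945
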