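import Groth.Statements.S5948
import Groth.Agent.Lib.Helper11.FibFlat7

set_option autoImplicit false
universe u
open CategoryTheory CategoryTheory.Limits AlgebraicGeometry TopologicalSpace Topology
open Unram17

namespace Groth.Agent.S5948

/-- Let g : X ⟶ S and h : Y ⟶ S be locally of finite presentation, f : X ⟶ Y a morphism with f ≫ h = g,
and F a quasi-coherent O_X-module of finite presentation. For x in X with s = g(x), the fibres X_s ⟶
Y_s ⟶ Spec κ(s) of f over s are given by pullback squares, F_s is the pullback of F to X_s, and x is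
identified with the unique point of X_s over it. Then the set E of points x such that F_s is flat
over Y_s at x (the stalk of F_s at x is a flat module over the local ring of Y_s at f_s(x)) is
locally constructible in X. -/
theorem result {X Y S : Scheme.{u}} (g : X ⟶ S) (h : Y ⟶ S)
    [LocallyOfFinitePresentation g] [LocallyOfFinitePresentation h] (f : X ⟶ Y) (w : f ≫ h = g)
    (F : X.Modules) [Coh.IsQCoh F] (hF : CohB1.IsFP F) :
    IsLocallyConstructible {x : ↥X | ∀ (Xs Ys : Scheme.{u}) (ιX : Xs ⟶ X) (ιY : Ys ⟶ Y) (fs : Xs ⟶ Ys)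
      (pY : Ys ⟶ Spec (S.residueField (g.base x))),
      IsPullback ιY pY h (S.fromSpecResidueField (g.base x)) → IsPullback ιX fs f ιY →
        ∀ x' : ↥Xs, ιX.base x' = x → FlatMod.IsFlatOverAt fs ((Scheme.Modules.pullback ιX).obj F) x'} := by
  subst w
  haveI : F.IsQuasicoherent := ‹Coh.IsQCoh F›
  have hE := Groth.Agent.Lib.helper11.FibFlat.isLocallyConstructible_setOf_QF f h F hF
  have heq : {x : ↥X | ∀ (Xs Ys : Scheme.{u}) (ιX : Xs ⟶ X) (ιY : Ys ⟶ Y) (fs : Xs ⟶ Ys)
      (pY : Ys ⟶ Spec (S.residueField ((f ≫ h).base x))),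
      IsPullback ιY pY h (S.fromSpecResidueField ((f ≫ h).base x)) → IsPullback ιX fs f ιY →
        ∀ x' : ↥Xs, ιX.base x' = x →
          FlatMod.IsFlatOverAt fs ((Scheme.Modules.pullback ιX).obj F) x'} =
      {x : X | Groth.Agent.Lib.helper11.FibFlat.QF f h F x} := by
    ext x
    simp only [Set.mem_setOf_eq]
    constructor
    · intro H
      -- canonical fibre data
      have hY : IsPullback (h.fiberι ((f ≫ h) x)) (h.fiberToSpecResidueField ((f ≫ h) x)) h
          (S.fromSpecResidueField ((f ≫ h) x)) := IsPullback.of_hasPullback _ _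
      have hX := IsPullback.of_hasPullback f (h.fiberι ((f ≫ h) x))
      have hr : f x ∈ Set.range (h.fiberι ((f ≫ h) x)) := by
        rw [Scheme.Hom.range_fiberι]; rfl
      obtain ⟨y', hy'⟩ := hr
      obtain ⟨w, hw1, -⟩ := Scheme.Pullback.exists_preimage_pullback (f := f)
        (g := h.fiberι ((f ≫ h) x)) x y' hy'.symm
      have h1 := H _ _ _ _ _ _ hY hX w hw1
      have B := Groth.Agent.Lib.helper11.FibFlat.isFlatOverAt_fibre_iff_QF f h F ((f ≫ h) x)
        _ _ _ _ hY hX w
      rw [hw1] at B
      exact B.mp h1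
    · intro H Xs Ys ιX ιY fs pY hY hX x' hx'
      have B := Groth.Agent.Lib.helper11.FibFlat.isFlatOverAt_fibre_iff_QF f h F ((f ≫ h) x)
        ιX ιY fs pY hY hX x'
      have hx'' : ιX x' = x := hx'
      rw [hx''] at B
      exact B.mpr H
  rw [heq]
  exact hE

end Groth.Agent.S5948
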