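import Groth.Statements.S5961
import Groth.Agent.Lib.Helper21.PrinPart8
import Groth.Agent.Lib.Helper11.SerreCrit
-- import your own Groth.Agent.* helpers here

set_option autoImplicit false
universe u
open CategoryTheory CategoryTheory.Limits AlgebraicGeometry TopologicalSpace Opposite
open Nrm16

namespace Groth.Agent.S5961

open Groth.Agent.Lib.helper21.PrinPart Groth.Agent.Lib.helper11.SerreCrit
  Groth.Agent.Lib.helper11.GenLocus in
theorem aux {X S : Scheme.{u}} (f : X ⟶ S) (G : X.Modules)
    (D : (Coh.structureModule X).presheaf ⟶ G.presheaf)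
    (u : PrinPart.PMod f 1 (Coh.structureModule X) ⟶ G)
    (hu : ∀ (U : X.Opens) (t : Γ(Coh.structureModule X, U)),
      D.app (op U) t = u.app U (PrinPart.dP f 1 (Coh.structureModule X) U t)) :
    ∃! p : (Coh.structureModule X ⟶ G) × OmegaSh.Der f G,
      ∀ (U : X.Opens) (a : Γ(X, U)),
        D.app (op U) (OmegaSh.strSect X U a) = p.1.app U (OmegaSh.strSect X U a) + p.2.app U a := by
  -- the operator on functions
  let D' : ∀ U : X.Opens, Γ(X, U) →+ Γ(G, U) := fun U =>
    (D.app (op U)).hom.comp (OmegaSh.strSect X U)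
  have hD' : ∀ (U : X.Opens) (a : Γ(X, U)), D' U a = u.app U (PrinPart.dn f 1 U a) := fun U a =>
    hu U (OmegaSh.strSect X U a)
  have F1 : ∀ (U : X.Opens) (a b : Γ(X, U)),
      D' U (a * b) = a • D' U b + b • D' U a - (a * b) • D' U 1 := by
    intro U a b
    rw [hD', hD', hD', hD', dn_mul, map_sub, map_add, Scheme.Modules.Hom.app_smul,
      Scheme.Modules.Hom.app_smul, Scheme.Modules.Hom.app_smul]
  have F2 : ∀ (V : S.Opens) (c : Γ(S, V)),
      D' (f ⁻¹ᵁ V) (f.app V c) = f.app V c • D' (f ⁻¹ᵁ V) 1 := by
    intro V c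
    rw [hD', hD', dn_app, Scheme.Modules.Hom.app_smul]
  have F3 : ∀ {U U' : X.Opens} (h : U' ≤ U) (a : Γ(X, U)),
      D' U' (X.presheaf.map (homOfLE h).op a) = G.presheaf.map (homOfLE h).op (D' U a) := by
    intro U U' h a
    exact congr($(D.naturality (homOfLE h).op) (OmegaSh.strSect X U a))
  let m : Γ(G, ⊤) := D' ⊤ 1
  let v : Coh.structureModule X ⟶ G := ofSec G m
  have hv : ∀ (U : X.Opens) (a : Γ(X, U)), v.app U (OmegaSh.strSect X U a) = a • D' U 1 := by
    intro U a
    have h1 := app_apply v U a
    have h2 : sec v U = D' U 1 := by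
      rw [sec_ofSec]
      have := F3 (le_top : U ≤ ⊤) 1
      rw [map_one] at this
      exact this.symm
    rw [h2] at h1
    exact h1
  let d : OmegaSh.Der f G :=
    { d := fun {W} => (show Γ(X, W.unop) →+ Γ(G, W.unop) from
        { toFun := fun a => D' W.unop a - a • D' W.unop 1
          map_zero' := by rw [map_zero, zero_smul, sub_zero]
          map_add' := fun a b => by rw [map_add, add_smul]; abel })
      d_mul := fun {W} (a b : Γ(X, W.unop)) => by
        change D' W.unop (a * b) - (a * b) • D' W.unop 1 =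
          a • (D' W.unop b - b • D' W.unop 1) + b • (D' W.unop a - a • D' W.unop 1)
        rw [F1, smul_sub, smul_sub, smul_smul, smul_smul, mul_comm b a]
        abel
      d_map := fun {W W'} i (a : Γ(X, W.unop)) => by
        change D' W'.unop (X.presheaf.map i a) -
            (show Γ(X, W'.unop) from X.presheaf.map i a) • D' W'.unop 1 =
          G.presheaf.map i (D' W.unop a - a • D' W.unop 1)
        have hi : i = (homOfLE (leOfHom i.unop)).op := rfl
        have e1 := F3 (leOfHom i.unop) a
        have e2 := F3 (leOfHom i.unop) 1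
        rw [map_one] at e2
        rw [hi, map_sub, Scheme.Modules.map_smul, ← e1, ← e2]
      d_app := fun {V} c => by
        change D' (f ⁻¹ᵁ V.unop) (f.app V.unop c) - (f.app V.unop c) • D' (f ⁻¹ᵁ V.unop) 1 = 0
        rw [F2, sub_self] }
  have hd : ∀ (U : X.Opens) (a : Γ(X, U)), d.app U a = D' U a - a • D' U 1 := fun U a => rfl
  refine ⟨(v, d), fun U a => ?_, ?_⟩
  · change D' U a = v.app U (OmegaSh.strSect X U a) + d.app U a
    rw [hv, hd]
    abel
  · rintro ⟨v', d'⟩ h
    have h1 : ∀ (U : X.Opens), v'.app U (OmegaSh.strSect X U 1) = D' U 1 := by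
      intro U
      have h2 := h U 1
      have h3 : d'.app U 1 = 0 := d'.d_one (op U)
      rw [h3, add_zero] at h2
      exact h2.symm
    have hv' : v' = v := by
      apply Scheme.Modules.hom_ext
      intro U
      ext x
      have e1 := app_apply v' U x
      have e2 := app_apply v U x
      have e3 : sec v' U = sec v U := (h1 U).trans ((hv U 1).trans (one_smul _ _)).symm
      rw [e3] at e1
      exact e1.trans e2.symm
    have hd' : d' = d := by
      apply PresheafOfModules.Derivation.ext
      funext W
      ext a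
      have h2 := h W.unop a
      change D' W.unop a = v'.app W.unop (OmegaSh.strSect X W.unop a) + d'.app W.unop a at h2
      rw [hv', hv] at h2
      change d'.app W.unop a = D' W.unop a - (show Γ(X, W.unop) from a) • D' W.unop 1
      rw [h2]
      abel
    rw [hv', hd']

theorem result {X S : Scheme.{u}} (f : X ⟶ S) (G : X.Modules)
    (D : (Coh.structureModule X).presheaf ⟶ G.presheaf)
    (hD : PrinPart.IsDiffOpLE f (Coh.structureModule X) G 1 D) :
    ∃! p : (Coh.structureModule X ⟶ G) × OmegaSh.Der f G,
      ∀ (U : X.Opens) (a : Γ(X, U)),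
        D.app (op U) (OmegaSh.strSect X U a) = p.1.app U (OmegaSh.strSect X U a) + p.2.app U a := by
  obtain ⟨u, hu⟩ := hD
  exact aux f G D u hu

end Groth.Agent.S5961
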