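import Groth.Statements.S5969
import Groth.Agent.Lib.Helper21.PrinPart11
-- import your own Groth.Agent.* helpers here

set_option autoImplicit false
universe u
open CategoryTheory CategoryTheory.Limits AlgebraicGeometry TopologicalSpace Opposite
open Nrm16

namespace Groth.Agent.S5969

/-- Let f : X ⟶ S be a morphism of schemes and n a natural number. On the order-n infinitesimal
thickening of the diagonal of f there is an endomorphism σ which is compatible, under the immersion
into X ×_S X, with the symmetry exchanging the two factors; σ is an involution, it exchanges the two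
projections to X (so it exchanges the two O_X-algebra structures of P^n_{X/S}) and it fixes the
diagonal section. -/
theorem result {X S : Scheme.{u}} (f : X ⟶ S) (n : ℕ) :
    ∃ σ : PrinPart.nbhd f n ⟶ PrinPart.nbhd f n,
      σ ≫ PrinPart.nbhdι f n = PrinPart.nbhdι f n ≫ (pullbackSymmetry f f).hom ∧
      σ ≫ σ = 𝟙 (PrinPart.nbhd f n) ∧
      σ ≫ PrinPart.pr1 f n = PrinPart.pr2 f n ∧ σ ≫ PrinPart.pr2 f n = PrinPart.pr1 f n ∧
      PrinPart.toNbhd f n ≫ σ = PrinPart.toNbhd f n := by
  refine ⟨Groth.Agent.Lib.helper21.PrinPart.σ f n, ?_, ?_, ?_, ?_, ?_⟩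
  · exact Groth.Agent.Lib.helper21.PrinPart.σ_nbhdι f n
  · exact Groth.Agent.Lib.helper21.PrinPart.σ_σ f n
  · exact Groth.Agent.Lib.helper21.PrinPart.σ_pr1 f n
  · exact Groth.Agent.Lib.helper21.PrinPart.σ_pr2 f n
  · exact Groth.Agent.Lib.helper21.PrinPart.toNbhd_σ f n

end Groth.Agent.S5969
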