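import Groth.Statements.S5970
import Groth.Agent.S8255
import Groth.Agent.Lib.Helper28.SymKaehlerBC
import Groth.Agent.Lib.Helper28.SymLocal
import Groth.Agent.Lib.Helper7.OmegaBC
-- import your own Groth.Agent.* helpers here

set_option autoImplicit false
universe u
open CategoryTheory CategoryTheory.Limits AlgebraicGeometry TopologicalSpace Opposite
open Nrm16

namespace Groth.Agent.S5970

open Groth.Agent.Lib.helper8.PullbackUnit Groth.Agent.Lib.helper7 in
theorem chart_bijective {S : Scheme.{u}} (E : S.Modules) [E.IsQuasicoherent]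
    (A : RelSpec.QCAlg S) (j : E ⟶ A.toModule) (hA : RelSpec.IsSymAlg E A j)
    (Ω' : A.spec.Modules) (d : OmegaSh.Der A.π Ω') (hd : OmegaSh.IsUniversal d)
    (φ : (Scheme.Modules.pullback A.π).obj E ⟶ Ω')
    (hφ : ∀ (U : S.Opens) (t : Γ(E, U)) (t' : Γ(A.spec, A.π ⁻¹ᵁ U)),
      A.gammaMap.app (op U) t' = j.app U t →
        φ.app (A.π ⁻¹ᵁ U) (OmegaSh.pullSect A.π E U t) = d.app (A.π ⁻¹ᵁ U) t')
    (U : S.Opens) (hU : IsAffineOpen U) :
    Function.Bijective (φ.app (A.π ⁻¹ᵁ U)).hom := by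
  have hV : IsAffineOpen (A.π ⁻¹ᵁ U) := hU.preimage A.π
  letI : Algebra Γ(S, U) Γ(A.spec, A.π ⁻¹ᵁ U) := (A.π.appLE U (A.π ⁻¹ᵁ U) le_rfl).hom.toAlgebra
  obtain ⟨ψ, hψ⟩ := OmegaStruct.exists_sectionsEquiv A.π d hd hV hU le_rfl
  have hk : IsBC (algebraMap Γ(S, U) Γ(A.spec, A.π ⁻¹ᵁ U)) (ρ A.π le_rfl E) :=
    isBC_ρ A.π hU hV le_rfl E
  haveI := Groth.Agent.S8255.isIso_gammaAff A U hU
  -- the ring isomorphism `Sym E(U) ≅ O(π⁻¹ U)`
  let θ : SymmetricAlgebra Γ(S, U) Γ(E, U) →+* Γ(A.spec, A.π ⁻¹ᵁ U) :=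
    (inv (A.gammaAff U hU)).hom.comp (Groth.Agent.Lib.helper28.SymAlg.liftU E A j U)
  have hgi : ∀ x, (A.gammaAff U hU).hom ((inv (A.gammaAff U hU)).hom x) = x := fun x => by
    rw [← CommRingCat.comp_apply, IsIso.inv_hom_id]; rfl
  have hig : ∀ x, (inv (A.gammaAff U hU)).hom ((A.gammaAff U hU).hom x) = x := fun x => by
    rw [← CommRingCat.comp_apply, IsIso.hom_inv_id]; rfl
  have hθ : Function.Bijective θ := by
    have h1 := Groth.Agent.Lib.helper28.SymAlg.liftU_bijective E A j hA ⟨U, hU⟩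
    have h2 : Function.Bijective (inv (A.gammaAff U hU)).hom :=
      ⟨Function.LeftInverse.injective hgi, Function.RightInverse.surjective hig⟩
    exact h2.comp h1
  have hθa : ∀ r : Γ(S, U), θ (algebraMap _ _ r) = algebraMap Γ(S, U) Γ(A.spec, A.π ⁻¹ᵁ U) r := by
    intro r
    change (inv (A.gammaAff U hU)).hom (Groth.Agent.Lib.helper28.SymAlg.liftU E A j U
      (algebraMap _ _ r)) = (A.π.appLE U (A.π ⁻¹ᵁ U) le_rfl).hom r
    rw [Groth.Agent.Lib.helper28.SymAlg.liftU_algebraMap, ← A.π_app_gammaAff U hU,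
      CommRingCat.comp_apply, hig, Scheme.Hom.app_eq_appLE]
  let k' : Γ(E, U) →+ Ω[Γ(A.spec, A.π ⁻¹ᵁ U)⁄Γ(S, U)] :=
    { toFun := fun m => KaehlerDifferential.D Γ(S, U) Γ(A.spec, A.π ⁻¹ᵁ U)
        (θ (SymmetricAlgebra.ι Γ(S, U) Γ(E, U) m))
      map_zero' := by rw [map_zero, map_zero, map_zero]
      map_add' := fun a b => by rw [map_add, map_add, map_add] }
  have hk' : IsBC (algebraMap Γ(S, U) Γ(A.spec, A.π ⁻¹ᵁ U)) k' :=
    Groth.Agent.Lib.helper28.SymKaehlerBC.isBC_D θ hθa hθ k' (fun m => rfl)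
  let w : Γ((Scheme.Modules.pullback A.π).obj E, A.π ⁻¹ᵁ U) →ₗ[Γ(A.spec, A.π ⁻¹ᵁ U)]
      Ω[Γ(A.spec, A.π ⁻¹ᵁ U)⁄Γ(S, U)] := ψ.toLinearMap ∘ₗ OmegaChart.linApp φ (A.π ⁻¹ᵁ U)
  have hw : ∀ m, w (ρ A.π le_rfl E m) = k' m := by
    intro m
    have hρ : ρ A.π le_rfl E m = OmegaSh.pullSect A.π E U m := by
      rw [ρ_apply]
      change (((Scheme.Modules.pullback A.π).obj E).presheaf.map (𝟙 _)) _ = _
      rw [CategoryTheory.Functor.map_id]
      rfl
    have hg : A.gammaMap.app (op U) (θ (SymmetricAlgebra.ι Γ(S, U) Γ(E, U) m)) = j.app U m := by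
      rw [A.gammaMap_app U hU]
      change (A.gammaAff U hU).hom ((inv (A.gammaAff U hU)).hom
        (Groth.Agent.Lib.helper28.SymAlg.liftU E A j U (SymmetricAlgebra.ι _ _ m))) = _
      rw [hgi, Groth.Agent.Lib.helper28.SymAlg.liftU_ι]
    have h1 := hφ U m (θ (SymmetricAlgebra.ι Γ(S, U) Γ(E, U) m)) hg
    change ψ ((φ.app (A.π ⁻¹ᵁ U)).hom (ρ A.π le_rfl E m)) = _
    rw [hρ]
    have h2 : (φ.app (A.π ⁻¹ᵁ U)).hom (OmegaSh.pullSect A.π E U m) =
        d.app (A.π ⁻¹ᵁ U) (θ (SymmetricAlgebra.ι Γ(S, U) Γ(E, U) m)) := h1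
    rw [h2, hψ]
    rfl
  have hwb := IsBC.bijective_of_comp hk hk' w hw
  have : (φ.app (A.π ⁻¹ᵁ U)).hom = ψ.symm ∘ w := by
    funext x
    change _ = ψ.symm (ψ ((φ.app (A.π ⁻¹ᵁ U)).hom x))
    rw [LinearEquiv.symm_apply_apply]
  rw [this]
  exact ψ.symm.bijective.comp hwb


/-- Let S be a scheme, E a quasi-coherent O_S-module and A its symmetric algebra, given as a
quasi-coherent O_S-algebra with a module map j : E ⟶ A having the universal property; let X = V(E)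
be the relative spectrum of A with structure morphism p : X ⟶ S, and let (Ω', d) be a sheaf of
differentials of X over S (d a universal S-derivation of O_X into Ω'). Let φ : p^*E ⟶ Ω' be an
O_X-linear map such that, whenever a local section t of E over U and a function t' on p⁻¹U
correspond (t' maps to j(t) under the canonical identification of p_*O_X with A), φ sends the
pullback of t to d t'. Then φ is an isomorphism. -/
theorem result {S : Scheme.{u}} (E : S.Modules) (hE : Coh.IsQCoh E)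
    (A : RelSpec.QCAlg S) (j : E ⟶ A.toModule) (hA : RelSpec.IsSymAlg E A j)
    (Ω' : A.spec.Modules) (d : OmegaSh.Der A.π Ω') (hd : OmegaSh.IsUniversal d)
    (φ : (Scheme.Modules.pullback A.π).obj E ⟶ Ω')
    (hφ : ∀ (U : S.Opens) (t : Γ(E, U)) (t' : Γ(A.spec, A.π ⁻¹ᵁ U)),
      A.gammaMap.app (op U) t' = j.app U t →
        φ.app (A.π ⁻¹ᵁ U) (OmegaSh.pullSect A.π E U t) = d.app (A.π ⁻¹ᵁ U) t') :
    IsIso φ := by
  have : E.IsQuasicoherent := hE
  have : Ω'.IsQuasicoherent :=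
    Groth.Agent.Lib.helper7.OmegaQCoh.isQuasicoherent_of_isUniversal A.π d hd
  have : ((Scheme.Modules.pullback A.π).obj E).IsQuasicoherent :=
    Groth.Agent.Lib.helper16.QCohPullback.isQuasicoherent_pullback A.π E
  refine Groth.Agent.Lib.helper7.KerSections.isIso_of_bijective_cover φ
    (fun U : S.affineOpens => A.π ⁻¹ᵁ U.1) (fun U => U.2.preimage A.π) (fun x => ?_)
    (fun U => chart_bijective E A j hA Ω' d hd φ hφ U.1 U.2)
  obtain ⟨_, ⟨U, hU, rfl⟩, hxU, -⟩ := S.isBasis_affineOpens.exists_subset_of_mem_open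
    (Set.mem_univ (A.π.base x)) isOpen_univ
  exact ⟨⟨U, hU⟩, hxU⟩

end Groth.Agent.S5970
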