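import Groth.Statements.S5972
import Groth.Agent.Lib.Helper21.PrinPart3
import Groth.Agent.Lib.Helper21.PrinPartAlg1
-- import your own Groth.Agent.* helpers here

set_option autoImplicit false
universe u
open CategoryTheory CategoryTheory.Limits AlgebraicGeometry TopologicalSpace Opposite
open Nrm16

namespace Groth.Agent.S5972

/-- Let A → B be a ring homomorphism, X = Spec B, S = Spec A with f : X ⟶ S the induced morphism, and n
a natural number; identify B with the ring of global functions on X through the canonical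
isomorphism. If ψ : B ⊗_A B → Γ(X, P^n_{X/S}) is the additive map with ψ(b ⊗ b') = b · d^n(b') for
all b, b' in B, then ψ is surjective with kernel the (n+1)-st power of the kernel I of the
multiplication map B ⊗_A B → B. -/
theorem result (A B : Type u) [CommRing A] [CommRing B] [Algebra A B] (n : ℕ)
    (ψ : TensorProduct A B B →+
      Γ(PrinPart.P (Spec.map (CommRingCat.ofHom (algebraMap A B))) n, (⊤ : (Spec (CommRingCat.of B)).Opens)))
    (hψ : ∀ b b' : B, ψ (b ⊗ₜ[A] b') =
      (Scheme.ΓSpecIso (CommRingCat.of B)).inv b •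
        PrinPart.dn (Spec.map (CommRingCat.ofHom (algebraMap A B))) n ⊤
          ((Scheme.ΓSpecIso (CommRingCat.of B)).inv b')) :
    Function.Surjective ψ ∧ ψ.ker = (KaehlerDifferential.ideal A B ^ (n + 1)).toAddSubgroup := by
  let f := Spec.map (CommRingCat.ofHom (algebraMap A B))
  have hU : IsAffineOpen (⊤ : (Spec (CommRingCat.of B)).Opens) := isAffineOpen_top _
  have hV : IsAffineOpen (⊤ : (Spec (CommRingCat.of A)).Opens) := isAffineOpen_top _
  have e : (⊤ : (Spec (CommRingCat.of B)).Opens) ≤ f ⁻¹ᵁ ⊤ := le_rfl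
  letI := (f.appLE ⊤ ⊤ e).hom.toAlgebra
  let βA : A ≃+* Γ(Spec (CommRingCat.of A), ⊤) :=
    (Scheme.ΓSpecIso (CommRingCat.of A)).symm.commRingCatIsoToRingEquiv
  let βB : B ≃+* Γ(Spec (CommRingCat.of B), ⊤) :=
    (Scheme.ΓSpecIso (CommRingCat.of B)).symm.commRingCatIsoToRingEquiv
  have hβ : ∀ a, βB (algebraMap A B a) =
      algebraMap Γ(Spec (CommRingCat.of A), ⊤) Γ(Spec (CommRingCat.of B), ⊤) (βA a) := by
    intro a
    have h1 := Scheme.ΓSpecIso_inv_naturality (CommRingCat.ofHom (algebraMap A B))
    have h2 := congr($(h1).hom a)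
    exact h2
  let τ := Groth.Agent.Lib.helper21.PrinPartAlg.tensorEquiv βA βB hβ
  let E := Groth.Agent.Lib.helper21.PrinPart.secP f n ⊤
  have key : ∀ x : TensorProduct A B B,
      E (ψ x) = Groth.Agent.Lib.helper21.PrinPart.Φ f hU hV e n (τ x) := by
    intro x
    induction x using TensorProduct.induction_on with
    | zero => rw [map_zero, map_zero, map_zero, map_zero]
    | tmul b b' =>
      rw [hψ, Groth.Agent.Lib.helper21.PrinPart.secP_smul,
        Groth.Agent.Lib.helper21.PrinPart.secP_dn,
        Groth.Agent.Lib.helper21.PrinPartAlg.tensorEquiv_tmul,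
        Groth.Agent.Lib.helper21.PrinPart.Φ_tmul, Scheme.Hom.app_eq_appLE]
      rfl
    | add x y hx hy => rw [map_add, map_add, map_add, map_add, hx, hy]
  constructor
  · intro y
    obtain ⟨z, hz⟩ := Groth.Agent.Lib.helper21.PrinPart.Φ_surjective f hU hV e n (E y)
    refine ⟨τ.symm z, E.injective ?_⟩
    rw [key, RingEquiv.apply_symm_apply, hz]
  · ext x
    rw [AddMonoidHom.mem_ker, Submodule.mem_toAddSubgroup,
      ← Groth.Agent.Lib.helper21.PrinPartAlg.tensorEquiv_mem_ideal_pow_iff βA βB hβ,
      ← Groth.Agent.Lib.helper21.PrinPart.ker_Φ f hU hV e n, RingHom.mem_ker, ← key,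
      map_eq_zero_iff E E.injective]

end Groth.Agent.S5972
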