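import Groth.Statements.S5977
import Groth.Agent.Lib.Helper21.PrinPart7
import Groth.Agent.Lib.Helper21.PrinPart5
-- import your own Groth.Agent.* helpers here

set_option autoImplicit false
universe u
open CategoryTheory CategoryTheory.Limits AlgebraicGeometry TopologicalSpace Opposite
open Nrm16

namespace Groth.Agent.S5977

/-- Let f : Y ⟶ Z be a morphism and j : X ⟶ Y a closed immersion, and let φ : j^* P^n_{Y/Z} ⟶ P^n_{X/Z}
be the canonical O_X-linear map of sheaves of principal parts of order n, the one sending the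
pullback of d^n b to d^n (j♯ b). Then φ is an epimorphism. (The published statement also identifies
the kernel of φ as the ideal generated by the pullback of d^n of the ideal of j; this row states the
surjectivity.) -/
theorem result {X Y Z : Scheme.{u}} (f : Y ⟶ Z) (j : X ⟶ Y) [IsClosedImmersion j] (n : ℕ)
    (φ : (Scheme.Modules.pullback j).obj (PrinPart.P f n) ⟶ PrinPart.P (j ≫ f) n)
    (hφ : PrinPart.IsPMap f (j ≫ f) j n φ) :
    Epi φ := by
  have hj := (isClosedImmersion_iff_isAffineHom (f := j)).mp inferInstance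
  refine Groth.Agent.Lib.helper21.PrinPart.epi_of_range_dn (j ≫ f) n φ
    (fun p : Groth.Agent.Lib.helper21.PrinPart.Chart f => j ⁻¹ᵁ p.1.1.1)
    (fun p => p.1.1.2.preimage j)
    (fun p => ⟨p.1.2.1, p.1.2.2, j.preimage_mono p.2⟩) (fun x => ?_) (fun p b' => ?_)
  · obtain ⟨U, V, hxU, hU, hV, e⟩ := Groth.Agent.Lib.helper21.PrinPart.exists_affine_chart f (j x)
    exact ⟨⟨(⟨U, hU⟩, ⟨V, hV⟩), e⟩, hxU⟩
  · obtain ⟨b, rfl⟩ := hj.2 p.1.1.1 p.1.1.2 b'
    exact ⟨_, hφ p.1.1.1 b⟩

end Groth.Agent.S5977
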