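import Groth.Statements.S5981
import Groth.Agent.Lib.Helper21.PrinPart7
import Groth.Agent.Lib.Helper21.PrinPart5
-- import your own Groth.Agent.* helpers here

set_option autoImplicit false
universe u
open CategoryTheory CategoryTheory.Limits AlgebraicGeometry TopologicalSpace Opposite
open Nrm16

namespace Groth.Agent.S5981

/-- Let f : X ⟶ Y and g : Y ⟶ Z be morphisms of schemes and n a natural number, and let φ : (𝟙_X)^*
P^n_{X/Z} ⟶ P^n_{X/Y} be the canonical O_X-linear map of sheaves of principal parts of order n, the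
one sending the pullback of d^n b (relative to Z) to d^n b (relative to Y) for every local function
b. Then φ is an epimorphism. (The published statement also describes the kernel as the ideal
generated by the image of the augmentation ideal of f^* P^n_{Y/Z}; this row states the
surjectivity.) -/
theorem result {X Y Z : Scheme.{u}} (f : X ⟶ Y) (g : Y ⟶ Z) (n : ℕ)
    (φ : (Scheme.Modules.pullback (𝟙 X)).obj (PrinPart.P (f ≫ g) n) ⟶ PrinPart.P f n)
    (hφ : PrinPart.IsPMap (f ≫ g) f (𝟙 X) n φ) :
    Epi φ := by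
  refine Groth.Agent.Lib.helper21.PrinPart.epi_of_range_dn f n φ
    (fun p : Groth.Agent.Lib.helper21.PrinPart.Chart f => p.1.1.1) (fun p => p.1.1.2)
    (fun p => ⟨p.1.2.1, p.1.2.2, p.2⟩) (fun x => ?_) (fun p b => ?_)
  · obtain ⟨U, V, hxU, hU, hV, e⟩ := Groth.Agent.Lib.helper21.PrinPart.exists_affine_chart f x
    exact ⟨⟨(⟨U, hU⟩, ⟨V, hV⟩), e⟩, hxU⟩
  · have h := hφ p.1.1.1 b
    have h2 : (𝟙 X : X ⟶ X).app p.1.1.1 b = b := by
      rw [Scheme.Hom.id_app]; rfl
    rw [h2] at h
    exact ⟨_, h⟩

end Groth.Agent.S5981
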