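import Groth.Statements.S5987
import Groth.Agent.Lib.Helper24.SopLift2

set_option autoImplicit false
universe u
open EGA418

namespace Groth.Agent.S5987

/-- Let A be a Noetherian local ring and p a prime ideal of A such that the local ring A_p is
Cohen–Macaulay, of dimension s; let t_1, …, t_s be a system of parameters of A_p (elements of its
maximal ideal such that A_p/(t_1, …, t_s) has dimension 0). Then there are elements x_1, …, x_s of p
which form part of a system of parameters of A, in the sense that dim A/(x_1, …, x_s) + s = dim A,
and elements a_1, …, a_s of A outside p, such that for every i the image of x_i in A_p is congruent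
to a_i t_i modulo the ideal (t_1, …, t_{i-1}) A_p. (The published statement asks for the image of
x_i to be congruent to t_i itself; this row allows the factor a_i outside p, which is what the
published proof gives, since it first multiplies each t_i by a unit of A_p to bring it into the
image of A. The published form fails already for s = 1: for A the localization of k[X, Y] at (X, Y),
p = (X) and t_1 = X/Y, the congruence modulo the zero ideal asks for an element of A with image X/Y
in A_p, and there is none.) -/
theorem result (A : Type u) [CommRing A]
    [IsNoetherianRing A] [IsLocalRing A] (p : Ideal A) [p.IsPrime]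
    [LocCoh.IsCohenMacaulayLocalRing (Localization.AtPrime p)] (s : ℕ)
    (hs : ringKrullDim (Localization.AtPrime p) = s) (t : Fin s → Localization.AtPrime p)
    (ht : ∀ i, t i ∈ IsLocalRing.maximalIdeal (Localization.AtPrime p))
    (hsop : ringKrullDim (Localization.AtPrime p ⧸ Ideal.span (Set.range t)) = 0) :
    ∃ x a : Fin s → A, (∀ i, x i ∈ p) ∧ (∀ i, a i ∉ p) ∧
      ringKrullDim (A ⧸ Ideal.span (Set.range x)) + (s : WithBot ℕ∞) = ringKrullDim A ∧
      ∀ i : Fin s, algebraMap A (Localization.AtPrime p) (x i) -
          algebraMap A (Localization.AtPrime p) (a i) * t i ∈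
        Ideal.span (t '' {j : Fin s | j < i}) := by
  classical
  let R := Localization.AtPrime p
  have hsurj : ∀ i, ∃ (y : A) (u : p.primeCompl), t i * algebraMap A R u = algebraMap A R y := by
    intro i
    obtain ⟨y, u, h⟩ := IsLocalization.exists_mk'_eq p.primeCompl (t i)
    exact ⟨y, u, by rw [← h, IsLocalization.mk'_spec]⟩
  choose y u hyu using hsurj
  have hCM : ∀ (k : Fin s) (P' : Ideal R),
      P' ∈ (Ideal.span (t '' {j : Fin s | j < k})).minimalPrimes → t k ∉ P' :=
    fun k P' hP' => Groth.Agent.Lib.Helper24.SopLift.cm_sop_notMem s hs t ht hsop k P' hP'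
  obtain ⟨x, hx⟩ := Groth.Agent.Lib.Helper24.SopLift.exists_lift p R t y (fun i => (u i : A))
    hyu (fun i => (u i).2) hCM s le_rfl
  have hxp : ∀ i, x i ∈ p := by
    intro i
    rw [← IsLocalization.AtPrime.to_map_mem_maximal_iff R p (x i)]
    have h1 := (hx i i.isLt).1
    rw [Ideal.mem_comap, map_sub] at h1
    have hJ : Ideal.span (t '' {j : Fin s | j < i}) ≤ IsLocalRing.maximalIdeal R := by
      rw [Ideal.span_le]
      rintro _ ⟨j, -, rfl⟩
      exact ht j
    have h2 : algebraMap A R (y i) ∈ IsLocalRing.maximalIdeal R := by
      rw [← hyu i]
      exact Ideal.mul_mem_right _ _ (ht i)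
    have e : algebraMap A R (x i) = (algebraMap A R (x i) - algebraMap A R (y i)) +
        algebraMap A R (y i) := by ring
    rw [e]
    exact Ideal.add_mem _ (hJ h1) h2
  refine ⟨x, fun i => (u i : A), hxp, fun i => (u i).2, ?_, ?_⟩
  · apply le_antisymm
    · have h1 := Groth.Agent.Lib.Helper24.SopLift.dim_quotient_add_le x
        (fun i => (hx i i.isLt).2) s le_rfl
      have e : x '' {j : Fin s | j.val < s} = Set.range x := by
        rw [← Set.image_univ]
        congr 1
        ext j
        simp
      rw [e] at h1
      exact h1
    · have h1 := ringKrullDim_le_ringKrullDim_quotient_add_card (Finset.univ.image x) (by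
        rw [IsLocalRing.ringJacobson_eq_maximalIdeal]
        intro a ha
        simp only [Finset.coe_image, Finset.coe_univ, Set.image_univ, Set.mem_range] at ha
        obtain ⟨i, rfl⟩ := ha
        exact IsLocalRing.le_maximalIdeal (Ideal.IsPrime.ne_top inferInstance) (hxp i))
      have e : ((Finset.univ.image x : Finset A) : Set A) = Set.range x := by simp
      rw [e] at h1
      refine h1.trans ?_
      gcongr
      have : (Finset.univ.image x).card ≤ s := by
        refine (Finset.card_image_le).trans ?_
        simp
      exact_mod_cast this
  · intro i
    have h1 := (hx i i.isLt).1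
    rw [Ideal.mem_comap, map_sub, ← hyu i, mul_comm] at h1
    exact h1

end Groth.Agent.S5987
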