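import Groth.Statements.S5993
import Groth.Agent.Lib.Helper24.CTens5
import Groth.Agent.Lib.Helper24.CplSemilocal
import Groth.Agent.Lib.Helper24.FlatDimFormula

set_option autoImplicit false
universe u
open scoped TensorProduct
open EGA418

namespace Groth.Agent.S5993

/-- Let k be a field, A a complete Noetherian local k-algebra with maximal ideal m whose residue field
is a finite extension of k, k' an extension field of k, I the ideal of A ⊗_k k' generated by m, and
A' the completed tensor product of A and k' over k, namely the I-adic completion of A ⊗_k k'. Then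
A' is a Noetherian ring with finitely many maximal ideals, complete and separated for the ideal
generated by m, and for every maximal ideal M of A' the local ring A'_M is complete, faithfully flat
over A, of the same dimension as A, and has residue field finite over k'. -/
theorem result (k A k' : Type u) [Field k]
    [CommRing A] [IsNoetherianRing A] [IsLocalRing A] [Algebra k A]
    [IsAdicComplete (IsLocalRing.maximalIdeal A) A] [Module.Finite k (IsLocalRing.ResidueField A)]
    [Field k'] [Algebra k k'] (I : Ideal (A ⊗[k] k'))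
    (hI : I = (IsLocalRing.maximalIdeal A).map (algebraMap A (A ⊗[k] k'))) :
    IsNoetherianRing (AdicCompletion I (A ⊗[k] k')) ∧
      Finite (MaximalSpectrum (AdicCompletion I (A ⊗[k] k'))) ∧
      IsAdicComplete ((IsLocalRing.maximalIdeal A).map (algebraMap A (AdicCompletion I (A ⊗[k] k'))))
        (AdicCompletion I (A ⊗[k] k')) ∧
      ∀ M : MaximalSpectrum (AdicCompletion I (A ⊗[k] k')),
        IsAdicComplete (IsLocalRing.maximalIdeal (Localization.AtPrime M.asIdeal))
            (Localization.AtPrime M.asIdeal) ∧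
          Module.FaithfullyFlat A (Localization.AtPrime M.asIdeal) ∧
          ringKrullDim (Localization.AtPrime M.asIdeal) = ringKrullDim A ∧
          (((Ideal.Quotient.mk M.asIdeal).comp (algebraMap (A ⊗[k] k') (AdicCompletion I (A ⊗[k] k')))).comp
              Algebra.TensorProduct.includeRight.toRingHom).Finite := by
  classical
  have hI' : I = EGA4.cTensorIdeal k A k' := by
    rw [hI, EGA4.cTensorIdeal, IsLocalRing.maximalIdeal_eq_bot (R := k'), Ideal.map_bot,
      sup_bot_eq]
    rfl
  subst hI'
  haveI : IsAdicComplete (IsLocalRing.maximalIdeal k') k' := by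
    rw [IsLocalRing.maximalIdeal_eq_bot]
    infer_instance
  haveI hN : IsNoetherianRing (EGA4.CTensor k A k') :=
    Groth.Agent.Lib.Helper24.CTens.isNoetherianRing_cTensor k A k'
  have hfg := Groth.Agent.Lib.Helper24.CTens.cTensorIdeal_fg k A k'
  -- completeness along `𝔪_A`
  have hJeq : (EGA4.cTensorIdeal k A k').map
        (algebraMap (A ⊗[k] k') (AdicCompletion (EGA4.cTensorIdeal k A k') (A ⊗[k] k'))) =
      (IsLocalRing.maximalIdeal A).map
        (algebraMap A (AdicCompletion (EGA4.cTensorIdeal k A k') (A ⊗[k] k'))) := by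
    refine (congrArg (Ideal.map (algebraMap (A ⊗[k] k')
      (AdicCompletion (EGA4.cTensorIdeal k A k') (A ⊗[k] k')))) hI).trans ?_
    rw [Ideal.map_map]
    rfl
  haveI hcompl : IsAdicComplete ((IsLocalRing.maximalIdeal A).map
      (algebraMap A (AdicCompletion (EGA4.cTensorIdeal k A k') (A ⊗[k] k'))))
      (AdicCompletion (EGA4.cTensorIdeal k A k') (A ⊗[k] k')) := by
    rw [← hJeq]
    exact AdicCompletion.isAdicComplete_self _ hfg
  refine ⟨hN, Set.finite_univ_iff.mp
    (Groth.Agent.Lib.Helper24.CTens.finite_maximalSpectrum k A k'), hcompl, ?_⟩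
  intro M
  haveI := M.isMaximal
  letI : Algebra k' (A ⊗[k] k') := Algebra.TensorProduct.rightAlgebra
  letI : Algebra k' ((A ⧸ IsLocalRing.maximalIdeal A) ⊗[k] k') :=
    Algebra.TensorProduct.rightAlgebra
  obtain ⟨φ, hφ, hk⟩ := Groth.Agent.Lib.Helper24.CTens.exists_closedFibre_map k A k'
  haveI : Module.Finite k (A ⧸ IsLocalRing.maximalIdeal A) :=
    inferInstanceAs (Module.Finite k (IsLocalRing.ResidueField A))
  haveI := Groth.Agent.Lib.Helper24.CTens.finite_right k k' (A ⧸ IsLocalRing.maximalIdeal A)
  haveI hfinJ : Module.Finite k' (AdicCompletion (EGA4.cTensorIdeal k A k') (A ⊗[k] k') ⧸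
      (IsLocalRing.maximalIdeal A).map
        (algebraMap A (AdicCompletion (EGA4.cTensorIdeal k A k') (A ⊗[k] k')))) := by
    let e := Ideal.quotientKerAlgEquivOfSurjective hφ
    let g : (A ⧸ IsLocalRing.maximalIdeal A) ⊗[k] k' →ₐ[k']
        AdicCompletion (EGA4.cTensorIdeal k A k') (A ⊗[k] k') ⧸
          (IsLocalRing.maximalIdeal A).map
            (algebraMap A (AdicCompletion (EGA4.cTensorIdeal k A k') (A ⊗[k] k'))) :=
      (Ideal.Quotient.factorₐ k' hk.le).comp e.symm.toAlgHom
    have hg : Function.Surjective g :=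
      (Ideal.Quotient.factor_surjective hk.le).comp e.symm.surjective
    exact Module.Finite.of_surjective g.toLinearMap hg
  have h4a := Groth.Agent.Lib.Helper24.CplSemilocal.isAdicComplete_atPrime k'
    (AdicCompletion (EGA4.cTensorIdeal k A k') (A ⊗[k] k'))
    ((IsLocalRing.maximalIdeal A).map
      (algebraMap A (AdicCompletion (EGA4.cTensorIdeal k A k') (A ⊗[k] k')))) M.asIdeal
  have hmapJ : (IsLocalRing.maximalIdeal A).map
        (algebraMap A (Localization.AtPrime M.asIdeal)) =
      ((IsLocalRing.maximalIdeal A).map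
        (algebraMap A (AdicCompletion (EGA4.cTensorIdeal k A k') (A ⊗[k] k')))).map
        (algebraMap (AdicCompletion (EGA4.cTensorIdeal k A k') (A ⊗[k] k'))
          (Localization.AtPrime M.asIdeal)) := by
    rw [Ideal.map_map, ← IsScalarTower.algebraMap_eq]
  haveI hloc : IsLocalHom (algebraMap A (Localization.AtPrime M.asIdeal)) := by
    refine ((IsLocalRing.local_hom_TFAE
      (algebraMap A (Localization.AtPrime M.asIdeal))).out 0 2 rfl rfl).mpr ?_
    rw [hmapJ]
    exact Groth.Agent.Lib.Helper24.CplSemilocal.map_le_maximalIdeal _ _ M.asIdeal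
  haveI : Module.Flat A (AdicCompletion (EGA4.cTensorIdeal k A k') (A ⊗[k] k')) :=
    Groth.Agent.Lib.Helper24.CTens.flat_cTensor k A k'
  haveI : Module.Flat A (Localization.AtPrime M.asIdeal) :=
    Module.Flat.trans A (AdicCompletion (EGA4.cTensorIdeal k A k') (A ⊗[k] k')) _
  refine ⟨h4a, Module.FaithfullyFlat.of_flat_of_isLocalHom, ?_, ?_⟩
  · rw [Groth.Agent.Lib.Helper24.FlatDimFormula.ringKrullDim_eq_add_of_flat A
      (Localization.AtPrime M.asIdeal), hmapJ,
      Groth.Agent.Lib.Helper24.CplSemilocal.ringKrullDim_quotient_atPrime k' _ _ M.asIdeal,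
      add_zero]
  · have hfinM : Module.Finite k'
        (AdicCompletion (EGA4.cTensorIdeal k A k') (A ⊗[k] k') ⧸ M.asIdeal) :=
      Groth.Agent.Lib.Helper24.CTens.finite_residue k A k' M.asIdeal
    have hmap : algebraMap k'
          (AdicCompletion (EGA4.cTensorIdeal k A k') (A ⊗[k] k') ⧸ M.asIdeal) =
        ((Ideal.Quotient.mk M.asIdeal).comp (algebraMap (A ⊗[k] k')
          (AdicCompletion (EGA4.cTensorIdeal k A k') (A ⊗[k] k')))).comp
          Algebra.TensorProduct.includeRight.toRingHom := rfl
    rw [← hmap]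
    exact RingHom.finite_algebraMap.mpr hfinM

end Groth.Agent.S5993
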