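import Groth.Statements.S5998
import Groth.Agent.S4580
import Mathlib.LinearAlgebra.Matrix.Nondegenerate
-- import your own Groth.Agent.* helpers here

set_option autoImplicit false
universe u
open SGA1

namespace Groth.Agent.S5998

open TensorProduct KaehlerDifferential Groth.Agent.LibJac29

section T
variable {R A : Type u} [CommRing R] [CommRing A] [Algebra R A] (q : Ideal A) [q.IsPrime]

/-- derivations with invertible Jacobian at `q` make the differentials independent at `q` -/
lemma linearIndependent_of_det {m : ℕ} (f : Fin m → A) (D' : Fin m → Derivation R A A)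
    (hdet : Matrix.det (Matrix.of fun i j => D' j (f i)) ∉ q) :
    LinearIndependent q.ResidueField
      (fun i : Fin m => (1 : q.ResidueField) ⊗ₜ[A] KaehlerDifferential.D R A (f i)) := by
  classical
  -- functionals on the fibre induced by the derivations
  let Λ : Fin m → (q.ResidueField ⊗[A] Ω[A⁄R] →ₗ[q.ResidueField] q.ResidueField) := fun j =>
    (TensorProduct.AlgebraTensorModule.rid A q.ResidueField q.ResidueField).toLinearMap ∘ₗ
      ((D' j).liftKaehlerDifferential.baseChange q.ResidueField)
  have hΛ : ∀ i j, Λ j ((1 : q.ResidueField) ⊗ₜ[A] KaehlerDifferential.D R A (f i)) =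
      algebraMap A q.ResidueField (D' j (f i)) := by
    intro i j
    simp [Λ, Algebra.smul_def]
  rw [Fintype.linearIndependent_iff]
  intro c hc i₀
  have h1 : ∀ j, ∑ i, c i * algebraMap A q.ResidueField (D' j (f i)) = 0 := by
    intro j
    have := congrArg (Λ j) hc
    simpa [map_sum, hΛ] using this
  -- the matrix is invertible over the residue field
  set N : Matrix (Fin m) (Fin m) q.ResidueField :=
    Matrix.of fun i j => algebraMap A q.ResidueField (D' j (f i)) with hN
  have hNdet : N.det ≠ 0 := by
    have : N = (algebraMap A q.ResidueField).mapMatrix (Matrix.of fun i j => D' j (f i)) := by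
      ext i j; simp [N]
    rw [this, ← RingHom.map_det, Ne, Ideal.algebraMap_residueField_eq_zero]
    exact hdet
  have h2 : Matrix.vecMul c N = 0 := by
    ext j
    simpa [Matrix.vecMul, dotProduct, N] using h1 j
  have h3 := Matrix.eq_zero_of_vecMul_eq_zero hNdet h2
  exact congrFun h3 i₀

/-- independent differentials at `q` give derivations with invertible Jacobian at `q` -/
lemma exists_derivations_of_linearIndependent [Module.Projective A Ω[A⁄R]] {m : ℕ} (f : Fin m → A)
    (hli : LinearIndependent q.ResidueField
      (fun i : Fin m => (1 : q.ResidueField) ⊗ₜ[A] KaehlerDifferential.D R A (f i))) :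
    ∃ D' : Fin m → Derivation R A A, Matrix.det (Matrix.of fun i j => D' j (f i)) ∉ q := by
  classical
  obtain ⟨Λ, hΛ⟩ := exists_dual_of_linearIndependent _ hli
  let φ : Fin m → (Ω[A⁄R] →ₗ[A] q.ResidueField) := fun j =>
    (Λ j).restrictScalars A ∘ₗ (TensorProduct.mk A q.ResidueField Ω[A⁄R] 1)
  obtain ⟨t, ht, ψ, hψ⟩ := exists_functionals_clear_denominators q.primeCompl
    (Localization.AtPrime q) q.ResidueField IsLocalRing.residue_surjective φ
    (fun i => KaehlerDifferential.D R A (f i))
  refine ⟨fun j => (ψ j).compDer (KaehlerDifferential.D R A), ?_⟩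
  rw [← Ideal.algebraMap_residueField_eq_zero, RingHom.map_det]
  have h1 : (algebraMap A q.ResidueField).mapMatrix
      (Matrix.of fun i j => ((ψ j).compDer (KaehlerDifferential.D R A)) (f i)) =
      (algebraMap A q.ResidueField t) • (1 : Matrix (Fin m) (Fin m) q.ResidueField) := by
    ext i j
    have := hψ i j
    simp only [φ, LinearMap.coe_comp, LinearMap.coe_restrictScalars, Function.comp_apply,
      TensorProduct.mk_apply, hΛ] at this
    simp only [RingHom.mapMatrix_apply, Matrix.map_apply, Matrix.of_apply,
      Matrix.smul_apply, Matrix.one_apply, smul_eq_mul]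
    exact this
  rw [h1, Matrix.det_smul, Matrix.det_one, mul_one]
  apply pow_ne_zero
  rw [Ne, Ideal.algebraMap_residueField_eq_zero]
  exact ht

end T

lemma isSmoothAt_congr {R C : Type u} [CommRing R] [CommRing C] [Algebra R C] (P P' : Ideal C)
    [P.IsPrime] [P'.IsPrime] (h : P = P') :
    Algebra.IsSmoothAt R P ↔ Algebra.IsSmoothAt R P' := by
  subst h; rfl

open TensorProduct in
/-- Let R be a Noetherian ring, A a smooth R-algebra, I an ideal of A, P a prime ideal of A/I and q its
preimage in A. Then A/I is smooth over R at P (that is, the local ring of A/I at P is formally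
smooth over R) exactly when there are finitely many elements g_1, ..., g_p of I generating the ideal
I·A_q whose differentials dg_i have linearly independent images in κ(q) ⊗_A Ω_{A/R}. -/
theorem result
    (R A : Type u) [CommRing R] [CommRing A] [IsNoetherianRing R] [Algebra R A] [Algebra.Smooth R A]
    (I : Ideal A) (P : Ideal (A ⧸ I)) [P.IsPrime] :
    letI q : Ideal A := P.comap (Ideal.Quotient.mk I)
    Algebra.IsSmoothAt R P ↔ ∃ s : Finset A, (↑s : Set A) ⊆ (I : Set A) ∧
      Ideal.map (algebraMap A (Localization.AtPrime q)) I =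
        Ideal.span ((algebraMap A (Localization.AtPrime q)) '' (↑s : Set A)) ∧
      LinearIndependent q.ResidueField
        (fun g : ↥s => (1 : q.ResidueField) ⊗ₜ[A] KaehlerDifferential.D R A (g : A)) := by
  classical
  set q : Ideal A := P.comap (Ideal.Quotient.mk I) with hqdef
  have hN : IsNoetherianRing A := Algebra.FiniteType.isNoetherianRing R A
  have hIq : I ≤ q := by
    intro x hx
    change Ideal.Quotient.mk I x ∈ P
    rw [Ideal.Quotient.eq_zero_iff_mem.mpr hx]
    exact P.zero_mem
  have hPq : q.map (Ideal.Quotient.mk I) = P :=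
    Ideal.map_comap_of_surjective _ Ideal.Quotient.mk_surjective P
  have : (q.map (Ideal.Quotient.mk I)).IsPrime := hPq ▸ inferInstance
  rw [isSmoothAt_congr P (q.map (Ideal.Quotient.mk I)) hPq.symm]
  rw [show Algebra.IsSmoothAt R (q.map (Ideal.Quotient.mk I)) ↔ _ from
    Groth.Agent.S4580.main A I q hIq]
  constructor
  · rintro ⟨m, f, D', hfI, hspan, hdet⟩
    have hli := linearIndependent_of_det q f D' hdet
    refine ⟨Finset.univ.image f, ?_, ?_, ?_⟩
    · intro x hx
      obtain ⟨i, -, rfl⟩ := Finset.mem_image.mp (Finset.mem_coe.mp hx)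
      exact hfI i
    · rw [hspan]
      congr 1
      ext y
      simp only [Set.mem_range, Finset.coe_image, Finset.coe_univ, Set.image_univ, Set.mem_image]
      constructor
      · rintro ⟨i, rfl⟩; exact ⟨f i, ⟨i, rfl⟩, rfl⟩
      · rintro ⟨_, ⟨i, rfl⟩, rfl⟩; exact ⟨i, rfl⟩
    · have hex : ∀ g : ↥(Finset.univ.image f), ∃ i, f i = (g : A) := fun g => by
        obtain ⟨i, -, hi⟩ := Finset.mem_image.mp g.2
        exact ⟨i, hi⟩
      choose g2i hg2i using hex
      have hinj : Function.Injective g2i := by
        intro g g' h
        apply Subtype.ext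
        rw [← hg2i g, ← hg2i g', h]
      have := hli.comp g2i hinj
      convert this using 1
      ext g
      simp only [Function.comp_apply, hg2i]
  · rintro ⟨s, hsI, hspan, hli⟩
    let e : Fin s.card ≃ ↥s := s.equivFin.symm
    let f : Fin s.card → A := fun i => (e i : A)
    have hli' : LinearIndependent q.ResidueField
        (fun i : Fin s.card => (1 : q.ResidueField) ⊗ₜ[A] KaehlerDifferential.D R A (f i)) :=
      hli.comp e e.injective
    obtain ⟨D', hdet⟩ := exists_derivations_of_linearIndependent q f hli'
    refine ⟨s.card, f, D', fun i => hsI (e i).2, ?_, hdet⟩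
    rw [hspan]
    congr 1
    ext y
    simp only [Set.mem_image, Set.mem_range, Finset.mem_coe]
    constructor
    · rintro ⟨x, hx, rfl⟩
      exact ⟨e.symm ⟨x, hx⟩, by simp only [f, Equiv.apply_symm_apply]; rfl⟩
    · rintro ⟨i, rfl⟩
      exact ⟨f i, (e i).2, rfl⟩

end Groth.Agent.S5998
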