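import Groth.Statements.S5999
import Mathlib
import Groth.Agent.Lib.Helper6.JacCore

set_option autoImplicit false
universe u
open SGA1

namespace Groth.Agent.S5999

section aux

open TensorProduct KaehlerDifferential

/-- Vanishing of `1 ⊗ ω` can be tested over the residue field of the quotient. -/
theorem tmul_eq_zero_iff (A : Type u) [CommRing A] (I : Ideal A) (P : Ideal (A ⧸ I)) [P.IsPrime]
    (M : Type u) [AddCommGroup M] [Module A M] (ω : M) :
    (1 : (Ideal.comap (algebraMap A (A ⧸ I)) P).ResidueField) ⊗ₜ[A] ω = 0 ↔
      (1 : P.ResidueField) ⊗ₜ[A] ω = 0 := by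
  haveI : IsLocalHom (Localization.localRingHom (Ideal.comap (algebraMap A (A ⧸ I)) P) P
      (algebraMap A (A ⧸ I)) rfl) :=
    Localization.isLocalHom_localRingHom _ _ _ rfl
  letI : Algebra (Ideal.comap (algebraMap A (A ⧸ I)) P).ResidueField P.ResidueField :=
    (IsLocalRing.ResidueField.map (Localization.localRingHom
      (Ideal.comap (algebraMap A (A ⧸ I)) P) P (algebraMap A (A ⧸ I)) rfl)).toAlgebra
  haveI : IsScalarTower A (Ideal.comap (algebraMap A (A ⧸ I)) P).ResidueField P.ResidueField :=
    IsScalarTower.of_algebraMap_eq (fun a => by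
      rw [RingHom.algebraMap_toAlgebra,
        IsScalarTower.algebraMap_apply A
          (Localization.AtPrime (Ideal.comap (algebraMap A (A ⧸ I)) P))
          (Ideal.comap (algebraMap A (A ⧸ I)) P).ResidueField,
        IsLocalRing.ResidueField.algebraMap_eq, IsLocalRing.ResidueField.map_residue,
        Localization.localRingHom_to_map,
        IsScalarTower.algebraMap_apply A (Localization.AtPrime P) P.ResidueField,
        IsLocalRing.ResidueField.algebraMap_eq,
        IsScalarTower.algebraMap_apply A (A ⧸ I) (Localization.AtPrime P)])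
  have hE := AlgebraTensorModule.cancelBaseChange_tmul A
    (Ideal.comap (algebraMap A (A ⧸ I)) P).ResidueField P.ResidueField
    (M := P.ResidueField) (N := M) (1 : P.ResidueField) ω
    (1 : (Ideal.comap (algebraMap A (A ⧸ I)) P).ResidueField)
  rw [one_smul] at hE
  have hinj := Module.FaithfullyFlat.tensorProduct_mk_injective
    (A := (Ideal.comap (algebraMap A (A ⧸ I)) P).ResidueField) (B := P.ResidueField)
    ((Ideal.comap (algebraMap A (A ⧸ I)) P).ResidueField ⊗[A] M)
  constructor
  · intro h
    rw [← hE, h, TensorProduct.tmul_zero, map_zero]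
  · intro h
    rw [← hE, LinearEquiv.map_eq_zero_iff] at h
    apply hinj
    rw [map_zero]
    exact h

end aux

open TensorProduct KaehlerDifferential



open TensorProduct in
/-- Let R be a Noetherian ring, A an R-algebra of finite type, F an element of A, P a prime ideal of
A/(F) and q its preimage in A, and suppose A is smooth over R at q. Then the hypersurface A/(F) is
smooth over R at P if and only if either F is zero in the local ring A_q (F vanishes on a
neighbourhood of q) or the image dF(q) of the differential of F in κ(q) ⊗_A Ω_{A/R} is nonzero. -/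
theorem result
    (R A : Type u) [CommRing R] [CommRing A] [IsNoetherianRing R] [Algebra R A] [Algebra.FiniteType R A]
    (F : A) (P : Ideal (A ⧸ Ideal.span ({F} : Set A))) [P.IsPrime]
    (hX : Algebra.IsSmoothAt R (P.comap (Ideal.Quotient.mk (Ideal.span ({F} : Set A))))) :
    letI q : Ideal A := P.comap (Ideal.Quotient.mk (Ideal.span ({F} : Set A)))
    Algebra.IsSmoothAt R P ↔ algebraMap A (Localization.AtPrime q) F = 0 ∨
      (1 : q.ResidueField) ⊗ₜ[A] KaehlerDifferential.D R A F ≠ 0 := by
  show Algebra.IsSmoothAt R P ↔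
    (algebraMap A (Localization.AtPrime
      (Ideal.comap (algebraMap A (A ⧸ Ideal.span ({F} : Set A))) P)) F = 0 ∨
    (1 : (Ideal.comap (algebraMap A (A ⧸ Ideal.span ({F} : Set A))) P).ResidueField) ⊗ₜ[A]
      KaehlerDifferential.D R A F ≠ 0)
  have hsurj : Function.Surjective (algebraMap A (A ⧸ Ideal.span ({F} : Set A))) :=
    Ideal.Quotient.mk_surjective
  have hker : RingHom.ker (algebraMap A (A ⧸ Ideal.span ({F} : Set A))) = Ideal.span {F} :=
    Ideal.mk_ker
  have h := Groth.Agent.Lib.helper6.JacCore.isSmoothAt_iff R A (A ⧸ Ideal.span ({F} : Set A)) F P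
    hsurj hker hX
  rw [h, Ne, Ne, tmul_eq_zero_iff A (Ideal.span ({F} : Set A)) P]


end Groth.Agent.S5999
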