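import Groth.Statements.S6011
import Mathlib
import Groth.Agent.Lib.Helper4.TrivTorsor

set_option autoImplicit false
universe u
open CategoryTheory AlgebraicGeometry
open SGA1

namespace Groth.Agent.S6011

/-- An S-scheme X with an action of the S-group G is trivial — equivariantly isomorphic over S to G
acting on itself by translation — if and only if it is formally principal homogeneous (a
pseudo-torsor) and admits a section over S. -/
theorem result {S : Scheme.{u}}
    (G X : Over S) [GrpObj G] (a : AlgGrp.Action G X) :
    Nonempty (NonAbH1.EquivIso (NonAbH1.trivialAction G) a) ↔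
      (NonAbH1.IsPseudoTorsorSch a ∧ NonAbH1.HasSectionOver X (𝟙 S)) := by
  constructor
  · rintro ⟨e⟩
    exact Groth.Agent.Lib.Helper4.TrivTorsor.forward G X a e
  · rintro ⟨h1, h2⟩
    exact Groth.Agent.Lib.Helper4.TrivTorsor.backward G X a h1 h2

end Groth.Agent.S6011
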