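import Groth.Statements.S6012
import Mathlib
import Groth.Agent.FibLem
-- import your own Groth.Agent.* helpers here

set_option autoImplicit false
set_option backward.isDefEq.respectTransparency false
set_option backward.isDefEq.respectTransparency.types false
open CategoryTheory
universe v₁ v₂ u₁ u₂
open FibCat FibCat.Cleavage CategoryTheory.Functor Groth.Agent.FibLem

namespace Groth.Agent.S6012

/-- Let `K` be a cleavage of an arbitrary functor `p : 𝒳 ⥤ 𝒮` (one chosen cartesian lift of every base
morphism at every object over its target; `p` is not assumed fibred). Then `p` is a fibred category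
(composites of cartesian morphisms are cartesian) if and only if, for all composable base morphisms
`g : R ⟶ T` and `f : T ⟶ S`, the comparison natural transformation `c_{f,g}` from `g^* f^*` to
`(fg)^*` determined by `K` is an isomorphism. -/
theorem result (𝒮 : Type u₁) (𝒳 : Type u₂) [Category.{v₁} 𝒮] [Category.{v₂} 𝒳] (p : 𝒳 ⥤ 𝒮) (K : FibCat.Cleavage p) :
    p.IsFibered ↔ ∀ (R S T : 𝒮) (f : T ⟶ S) (g : R ⟶ T), IsIso (K.comp f g) := by
  constructor
  · intro hfib R S T f g
    have : ∀ a : p.Fiber S, IsIso ((K.comp f g).app a) := by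
      intro a
      have hcart : p.IsCartesian (g ≫ f) (K.lift (K.obj_proj a.2 f) g ≫ K.lift a.2 f) :=
        IsFibered.comp g f _ _
      have hiso : IsIso (Fiber.fiberInclusion.map ((K.comp f g).app a)) := by
        rw [comp_app]
        exact (IsCartesian.domainUniqueUpToIso p (g ≫ f) (K.lift a.2 (g ≫ f))
          (K.lift (K.obj_proj a.2 f) g ≫ K.lift a.2 f)).isIso_hom
      exact fiber_isIso_of_isIso _
    exact NatIso.isIso_of_isIso_app _
  · intro h
    have hpre : p.IsPreFibered := K.isPreFibered
    refine { toIsPreFibered := hpre, comp := ?_ }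
    intro R S T f g a b c φ ψ hφ hψ
    have hc : p.obj c = T := IsHomLift.codomain_eq p g ψ
    let c' : p.Fiber T := ⟨c, hc⟩
    let ι₁ : b ≅ K.obj hc g := IsCartesian.domainUniqueUpToIso p g (K.lift hc g) ψ
    have h₁ : ι₁.hom ≫ K.lift hc g = ψ := IsCartesian.fac p g (K.lift hc g) ψ
    have hb : p.obj (K.obj hc g) = S := K.obj_proj hc g
    have hcart1 : p.IsCartesian f (φ ≫ ι₁.hom) := inferInstance
    let ι₂ : a ≅ K.obj hb f := IsCartesian.domainUniqueUpToIso p f (K.lift hb f) (φ ≫ ι₁.hom)
    have h₂ : ι₂.hom ≫ K.lift hb f = φ ≫ ι₁.hom := IsCartesian.fac p f (K.lift hb f) (φ ≫ ι₁.hom)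
    have hiso : IsIso ((K.comp g f).app c') := inferInstance
    let e : a ≅ K.obj hc (f ≫ g) := ι₂ ≪≫ Fiber.fiberInclusion.mapIso (asIso ((K.comp g f).app c'))
    have he : φ ≫ ψ = e.hom ≫ K.lift hc (f ≫ g) := by
      have := comp_app_lift K g f c'
      simp only [e, Iso.trans_hom, Functor.mapIso_hom, asIso_hom, Category.assoc]
      rw [this, ← Category.assoc, h₂, Category.assoc, h₁]
    rw [he]
    have : p.IsHomLift (𝟙 R) e.hom := by
      simp only [e, Iso.trans_hom, Functor.mapIso_hom, asIso_hom]
      infer_instance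
    infer_instance

end Groth.Agent.S6012
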