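import Groth.Statements.S6019
import Mathlib
-- import your own Groth.Agent.* helpers here

set_option autoImplicit false
set_option backward.isDefEq.respectTransparency false
set_option backward.isDefEq.respectTransparency.types false
open CategoryTheory
universe v₁ v₂ u₁ u₂
open FibCat FibCat.Cleavage CategoryTheory.Functor

namespace Groth.Agent.S6019

/-- A pre-fibred category admits a normalised cleavage: if every base morphism `R ⟶ p(a)` has a
cartesian morphism over it with target `a`, then one cartesian lift can be chosen for every base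
morphism at every object over its target in such a way that the chosen lift of each identity `𝟙 S`
at each object `a` over `S` is the identity of `a` (identities are transport morphisms). -/
theorem result (𝒮 : Type u₁) (𝒳 : Type u₂) [Category.{v₁} 𝒮] [Category.{v₂} 𝒳]
    (p : 𝒳 ⥤ 𝒮) [p.IsPreFibered] : ∃ K : FibCat.Cleavage p, K.IsNormalised := by
  classical
  have hid : ∀ {R S : 𝒮} {a : 𝒳} (ha : p.obj a = S) (f : R ⟶ S),
      (∃ e : R = S, f = eqToHom e) → p.IsCartesian f (𝟙 a) := by
    intro R S a ha f h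
    obtain ⟨e, rfl⟩ := h
    subst e
    subst ha
    rw [eqToHom_refl]
    infer_instance
  let pkg : ∀ {R S : 𝒮} {a : 𝒳} (ha : p.obj a = S) (f : R ⟶ S),
      Σ' (b : 𝒳) (φ : b ⟶ a), p.IsCartesian f φ := fun {R S a} ha f =>
    if h : ∃ e : R = S, f = eqToHom e then ⟨a, 𝟙 a, hid ha f h⟩
    else ⟨IsPreFibered.pullbackObj ha f, IsPreFibered.pullbackMap ha f, inferInstance⟩
  refine ⟨{ obj := fun ha f => (pkg ha f).1, lift := fun ha f => (pkg ha f).2.1,
            isCartesian := fun ha f => (pkg ha f).2.2 }, ?_⟩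
  intro S a ha
  have key : ∀ (P : Σ' (b : 𝒳) (φ : b ⟶ a), p.IsCartesian (𝟙 S) φ) (pf : p.IsCartesian (𝟙 S) (𝟙 a)),
      P = ⟨a, 𝟙 a, pf⟩ → ∃ h : P.1 = a, P.2.1 = eqToHom h := by
    intro P pf hP
    subst hP
    exact ⟨rfl, rfl⟩
  exact key (pkg ha (𝟙 S)) (hid ha (𝟙 S) ⟨rfl, rfl⟩) (dif_pos ⟨rfl, rfl⟩)

end Groth.Agent.S6019
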