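import Groth.Statements.S6028
import Mathlib
-- import your own Groth.Agent.* helpers here

set_option autoImplicit false
universe u
open CategoryTheory CategoryTheory.Limits TopologicalSpace
open LocCohZ

namespace Groth.Agent.S6028

/-- Third isomorphism theorem in an abelian category: for monos `a : A ⟶ B`, `b : B ⟶ D` and
`c = a ≫ b`, the sequence `B/A ⟶ D/A ⟶ D/B` is short exact. -/
theorem cokernel_map_shortExact {C : Type*} [Category C] [Abelian C] {A B D : C}
    (a : A ⟶ B) (b : B ⟶ D) (c : A ⟶ D) [Mono a] [Mono b] [Mono c] (hc : a ≫ b = c)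
    (i : A ⟶ A) (j : D ⟶ D) (hi : i = 𝟙 A) (hj : j = 𝟙 D)
    (w1 : a ≫ b = i ≫ c) (w2 : c ≫ j = a ≫ b) :
    ∃ w : cokernel.map a c i b w1 ≫ cokernel.map c b a j w2 = 0,
      (ShortComplex.mk _ _ w).ShortExact := by
  subst hi hj
  set f := cokernel.map a c (𝟙 A) b w1 with hf
  set g := cokernel.map c b a (𝟙 D) w2 with hg
  have hπf : cokernel.π a ≫ f = b ≫ cokernel.π c := cokernel.π_desc _ _ _
  have hπg : cokernel.π c ≫ g = cokernel.π b := by
    have h0 : cokernel.π c ≫ g = 𝟙 D ≫ cokernel.π b := cokernel.π_desc _ _ _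
    rw [h0, Category.id_comp]
  have w : f ≫ g = 0 := by
    apply (cancel_epi (cokernel.π a)).mp
    rw [← Category.assoc, hπf, Category.assoc, hπg, cokernel.condition, comp_zero]
  refine ⟨w, ?_⟩
  have hmono : Mono f := by
    apply Preadditive.mono_of_cancel_zero
    intro P x hx
    obtain ⟨P', π, hπ, y, hy⟩ := surjective_up_to_refinements_of_epi (cokernel.π a) x
    have h1 : (y ≫ b) ≫ cokernel.π c = 0 := by
      rw [Category.assoc, ← hπf, ← Category.assoc, ← hy, Category.assoc, hx, comp_zero]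
    have h2 := Abelian.monoLift_comp c (y ≫ b) h1
    have h2' : (Abelian.monoLift c (y ≫ b) h1 ≫ a) ≫ b = y ≫ b := by
      rw [Category.assoc, hc, h2]
    have h3 : Abelian.monoLift c (y ≫ b) h1 ≫ a = y := (cancel_mono b).mp h2'
    have h4 : π ≫ x = 0 := by
      rw [hy, ← h3, Category.assoc, cokernel.condition, comp_zero]
    exact (cancel_epi π).mp (by rw [h4, comp_zero])
  have hepi : Epi g := epi_of_epi_fac hπg
  refine { exact := ?_, mono_f := hmono, epi_g := hepi }
  rw [ShortComplex.exact_iff_exact_up_to_refinements]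
  intro P x hx
  change x ≫ g = 0 at hx
  obtain ⟨P', π, hπ, y, hy⟩ := surjective_up_to_refinements_of_epi (cokernel.π c) x
  have h1 : y ≫ cokernel.π b = 0 := by
    rw [← hπg, ← Category.assoc, ← hy, Category.assoc, hx, comp_zero]
  have h2 := Abelian.monoLift_comp b y h1
  refine ⟨P', π, hπ, Abelian.monoLift b y h1 ≫ cokernel.π a, ?_⟩
  change π ≫ x = (Abelian.monoLift b y h1 ≫ cokernel.π a) ≫ f
  rw [Category.assoc, hπf, ← Category.assoc, h2, hy]


/-- Let X be a topological space and W ⊆ V ⊆ T opens of X; put Z = T − W, Z' = T − V and Z'' = V − W, so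
that Z' is closed in Z with complement Z''. Then 0 → ℤ_{Z'',X} → ℤ_{Z,X} → ℤ_{Z',X} → 0 is a short
exact sequence of abelian sheaves on X, where ℤ_{Z,X} = ℤ_T/ℤ_W and the maps are the induced ones. -/
theorem result {X : TopCat.{u}} {W V T : Opens X} (hWV : W ≤ V) (hVT : V ≤ T) :
    ∃ w : LocCohZ.zqMap (hWV.trans hVT) hWV le_rfl hVT ≫ LocCohZ.zqMap hVT (hWV.trans hVT) hWV le_rfl = 0,
      (ShortComplex.mk _ _ w).ShortExact := by
  unfold LocCohZ.zqMap
  have : Mono (CohCx.freeSheafMap (Opens.grothendieckTopology X) (homOfLE hWV)) :=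
    (LocCohZ.zqSeq_shortExact hWV).mono_f
  have : Mono (CohCx.freeSheafMap (Opens.grothendieckTopology X) (homOfLE hVT)) :=
    (LocCohZ.zqSeq_shortExact hVT).mono_f
  have : Mono (CohCx.freeSheafMap (Opens.grothendieckTopology X) (homOfLE (hWV.trans hVT))) :=
    (LocCohZ.zqSeq_shortExact (hWV.trans hVT)).mono_f
  exact cokernel_map_shortExact _ _ _
    (by rw [← CohFree.freeSheafMap_comp]; rfl) _ _
    (CohFree.freeSheafMap_id _ _) (CohFree.freeSheafMap_id _ _) _ _

end Groth.Agent.S6028
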