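import Groth.Statements.S6031
import Groth.Agent.Lib.Helper27.SerreVan3
-- import your own Groth.Agent.* helpers here

set_option autoImplicit false
universe u
open CategoryTheory CategoryTheory.Limits TopologicalSpace AlgebraicGeometry
open LocCohZ

namespace Groth.Agent.S6031

/-- Let Y be an affine scheme, U an open subset with closed complement Z and M a quasi-coherent
O_Y-module with underlying abelian sheaf F. Then 0 → H^0_Z(Y, F) → H^0(Y, F) → H^0(U, F) → H^1_Z(Y,
F) → 0 is exact, i.e. the connecting map H^0(U, F) → H^1_Z(Y, F) is surjective, and the connecting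
maps H^i(U, F) → H^{i+1}_Z(Y, F) are bijective for all i ≥ 1. (The published statement assumes U
quasi-compact; the printed proof of these two assertions only uses the vanishing of the higher
cohomology of F on the affine scheme Y, so U is an arbitrary open here.) -/
theorem result (Y : Scheme.{u}) [IsAffine Y] (M : Y.Modules)
    (hM : Coh.IsQCoh M) (U : Y.Opens) :
    Function.Surjective (LocCohZ.delta (X := Y.carrier) (Coh.toAb M) 0 (le_top : U ≤ ⊤)) ∧
      ∀ i : ℕ, 1 ≤ i →
        Function.Bijective (LocCohZ.delta (X := Y.carrier) (Coh.toAb M) i (le_top : U ≤ ⊤)) := by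
  classical
  have : M.IsQuasicoherent := hM
  have hvan : ∀ q : ℕ, Subsingleton (CohTop.HU (X := Y.carrier) (Coh.toAb M) (q + 1) (⊤ : Y.Opens)) :=
    fun q => Groth.Agent.Lib.helper27.SerreVan.subsingleton_HU_of_isAffineOpen M ⊤
      (isAffineOpen_top Y) q
  have hS := LocCohZ.zqSeq_shortExact (X := Y.carrier) (le_top : U ≤ ⊤)
  have hsurj : ∀ i : ℕ, Function.Surjective
      (LocCohZ.delta (X := Y.carrier) (Coh.toAb M) i (le_top : U ≤ ⊤)) := by
    intro i x₃
    have h0 : (Abelian.Ext.mk₀ (LocCohZ.zqSeq (X := Y.carrier) (le_top : U ≤ ⊤)).g).comp x₃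
        (zero_add (i + 1)) = 0 := by
      have := hvan i
      exact Subsingleton.elim (α := CohTop.HU (X := Y.carrier) (Coh.toAb M) (i + 1) (⊤ : Y.Opens)) _ _
    obtain ⟨x₁, hx₁⟩ := Abelian.Ext.contravariant_sequence_exact₃ hS (Coh.toAb M) x₃ h0
      (show 1 + i = i + 1 by omega)
    exact ⟨x₁, hx₁⟩
  refine ⟨hsurj 0, fun i hi => ⟨?_, hsurj i⟩⟩
  obtain ⟨k, rfl⟩ : ∃ k, i = k + 1 := ⟨i - 1, by omega⟩
  rw [injective_iff_map_eq_zero]
  intro x₁ hx₁
  obtain ⟨x₂, hx₂⟩ := Abelian.Ext.contravariant_sequence_exact₁ hS (Coh.toAb M) x₁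
    (show 1 + (k + 1) = k + 1 + 1 by omega) hx₁
  have := hvan k
  have : x₂ = 0 :=
    Subsingleton.elim (α := CohTop.HU (X := Y.carrier) (Coh.toAb M) (k + 1) (⊤ : Y.Opens)) _ _
  rw [← hx₂, this, Abelian.Ext.comp_zero]
  rfl

end Groth.Agent.S6031
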