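import Groth.Statements.S6037
import Groth.Agent.Lib.Helper27.LocCohKer
-- import your own Groth.Agent.* helpers here

set_option autoImplicit false
universe u
open CategoryTheory CategoryTheory.Limits TopologicalSpace
open LocCohZ

namespace Groth.Agent.S6037

/-- Let f : X → Y be a continuous map of topological spaces, Y' a closed subset of Y with open
complement V, X' = f⁻¹(Y') and F an abelian sheaf on X. There is an E₂ spectral sequence of abelian
groups with E₂^{p,q} ≅ H^p_{Y'}(Y, R^q f_* F) for p, q ≥ 0 (0 otherwise), bounded, abutting with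
finite filtrations to H^n_{X'}(X, F). (The published statement is for a morphism of ringed spaces
and records module structures over the global sections of O_Y; here only abelian groups. Existence
only: the E₂ identifications and abutment isomorphisms are some isomorphisms, not the canonical
ones.) -/
theorem result {X Y : TopCat.{u}} (f : X ⟶ Y)
    (V : Opens Y) (F : CohTop.Ab X) :
    ∃ (E : E₂CohomologicalSpectralSequence AddCommGrpCat.{u})
      (a : SpSeq.Abutment E (fun n : ℤ =>
        if 0 ≤ n then AddCommGrpCat.of (LocCohZ.HZc F n.toNat ((Opens.map f).obj V))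
          else AddCommGrpCat.of PUnit.{u + 1})),
      (∀ n : ℤ, a.IsFinite n) ∧ SpSeq.IsBounded E ∧
      ∀ p q : ℤ, Nonempty ((E.page 2 le_rfl).X (p, q) ≅
        (if 0 ≤ p ∧ 0 ≤ q then AddCommGrpCat.of (LocCohZ.HZc ((CohTop.Rpush f q.toNat).obj F) p.toNat V)
          else AddCommGrpCat.of PUnit.{u + 1})) := by
  haveI : HasInjectiveResolutions (CohTop.Ab X) := inferInstance
  haveI : HasInjectiveResolutions (CohTop.Ab Y) := inferInstance
  let T := CohTop.push f
  let S : CohTop.Ab Y ⥤ AddCommGrpCat.{u} :=
    preadditiveCoyoneda.obj (Opposite.op (LocCohZ.zq (le_top : V ≤ ⊤)))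
  refine Groth.Agent.Lib.helper27.SSGroth.grothendieck_ss_nat T S ?_ F
    (fun n => AddCommGrpCat.of (LocCohZ.HZc F n ((Opens.map f).obj V))) ?_
    (fun p q => AddCommGrpCat.of (LocCohZ.HZc ((CohTop.Rpush f q).obj F) p V)) ?_
    _ _ ?_ ?_
  · intro Q hQ q hq
    haveI := Groth.Agent.Lib.helper27.PushComp.injective_push f Q hQ
    obtain ⟨j, rfl⟩ : ∃ j, q = j + 1 := ⟨q - 1, by omega⟩
    exact S.isZero_rightDerived_obj_injective_succ j _
  · intro k
    exact Groth.Agent.Lib.helper27.ExtCoy.rightDerived_iso_ext (T ⋙ S) _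
      (Groth.Agent.Lib.helper27.LocCohKer.pushCoyIso f V).symm k F
  · intro k l
    exact Groth.Agent.Lib.helper27.ExtCoy.rightDerived_iso_ext S _ (Iso.refl _) k _
  · exact AddCommGrpCat.isZero_of_subsingleton _
  · exact AddCommGrpCat.isZero_of_subsingleton _

end Groth.Agent.S6037
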