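import Groth.Statements.S6057
import Groth.Agent.Lib.Helper27.RelPshSheaf
-- import your own Groth.Agent.* helpers here

set_option autoImplicit false
open CategoryTheory
universe v₁ u₁
open ShfCat

namespace Groth.Agent.S6057

/-- Let `S` be an object whose representable presheaf is a sheaf for `J` and `φ : F ⟶ h_S` a morphism of
presheaves of sets. The relative presheaf on `C/S` (sections of `F` over `T` lying over the given `T
⟶ S`) is separated (resp. a sheaf) for the induced topology on `C/S` if and only if `F` is separated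
(resp. a sheaf). -/
theorem result {C : Type u₁} [Category.{v₁} C] (J : GrothendieckTopology C)
    {S : C} (hS : Presieve.IsSheaf J (yoneda.obj S)) {F : Cᵒᵖ ⥤ Type v₁} (φ : F ⟶ yoneda.obj S) :
    (Presieve.IsSeparated (J.over S) (ShfCat.relPsh φ) ↔ Presieve.IsSeparated J F) ∧
    (Presieve.IsSheaf (J.over S) (ShfCat.relPsh φ) ↔ Presieve.IsSheaf J F) := by
  exact ⟨⟨Groth.Agent.Lib.helper27.RelPshSheaf.sep_of_sep' J φ hS.isSeparated,
      Groth.Agent.Lib.helper27.RelPshSheaf.sep_of_sep J φ⟩,
    ⟨Groth.Agent.Lib.helper27.RelPshSheaf.sheaf_of_sheaf' J φ hS,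
      Groth.Agent.Lib.helper27.RelPshSheaf.sheaf_of_sheaf J φ hS.isSeparated⟩⟩

end Groth.Agent.S6057
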