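import Groth.Statements.S6072
import Groth.Agent.Lib.Helper15.HopfLift1
import Groth.Agent.Lib.Helper15.CartBCBialg
import Groth.Agent.Lib.Helper15.CartIsotriv
import Groth.Agent.Lib.Helper15.MultFinite

set_option autoImplicit false
set_option linter.style.haveILetI false
universe u
open TensorProduct SGA3b
open SGA3b

namespace Groth.Agent.S6072

open Groth.Agent.Lib.helper15 in
theorem aux (R : Type u) [CommRing R] [HenselianLocalRing R]
    (C₀ : Type u) [CommRing C₀] [HopfAlgebra (R ⧸ IsLocalRing.maximalIdeal R) C₀]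
    [Module.Finite (R ⧸ IsLocalRing.maximalIdeal R) C₀]
    (h₀ : IsMultType (R ⧸ IsLocalRing.maximalIdeal R) C₀) :
    ∃ (C : Type u) (_ : CommRing C) (_ : HopfAlgebra R C), Module.Finite R C ∧ IsIsotrivial R C ∧
      Nonempty (((R ⧸ IsLocalRing.maximalIdeal R) ⊗[R] C) ≃ₐc[R ⧸ IsLocalRing.maximalIdeal R] C₀) := by
  classical
  obtain ⟨𝒞⟩ := Rigid.nonempty_fcover h₀
  haveI := MultFinite.isCocomm_of_fcover 𝒞
  haveI := MultFinite.projective_of_fcover 𝒞
  haveI het₀ : Algebra.Etale (R ⧸ IsLocalRing.maximalIdeal R)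
      (CartDual.D (R ⧸ IsLocalRing.maximalIdeal R) C₀) := MultFinite.etale_dual_of_fcover 𝒞
  have h𝔪 : HenselianRing R (IsLocalRing.maximalIdeal R) := inferInstance
  obtain ⟨D, _, _, hfin, het, hco, ⟨Θ⟩⟩ :=
    HopfLift.exists_hopf_lift h𝔪 (CartDual.D (R ⧸ IsLocalRing.maximalIdeal R) C₀)
  haveI : Module.Projective R D := CartIsotriv.projective_of_finite_etale R D
  haveI : ConnectedSpace (PrimeSpectrum R) := by
    apply Groth.Agent.Lib.helper26.HenselPair.connectedSpace_of_idempotents
    intro e he
    rcases IsLocalRing.isUnit_or_isUnit_one_sub_self e with h | h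
    · right
      have h1 : e * e = e * 1 := by rw [mul_one]; exact he
      exact h.mul_left_cancel h1
    · left
      have h1 : (1 - e) * e = (1 - e) * 0 := by
        rw [mul_zero, sub_mul, one_mul, he.eq, sub_self]
      exact h.mul_left_cancel h1
  refine ⟨CartDual.D R D, inferInstance, inferInstance, inferInstance, ?_, ?_⟩
  · apply CartIsotriv.isIsotrivial_of_etale_dual R (CartDual.D R D)
    exact Algebra.Etale.of_equiv (HensHom.evalEquiv R D).toAlgEquiv
  · exact ⟨((CartBCBialg.bcDualBialg R D (R ⧸ IsLocalRing.maximalIdeal R)).trans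
      (CartBCBialg.transposeBialgEquiv (R ⧸ IsLocalRing.maximalIdeal R) Θ.symm)).trans
      (HensHom.evalEquiv (R ⧸ IsLocalRing.maximalIdeal R) C₀).symm⟩

/-- Let R be a henselian local ring with residue field k and H₀ = Spec C₀ a k-group of multiplicative
type which is finite over k. Then H₀ lifts to R: there is an R-group H = Spec C of multiplicative
type, finite over R and isotrivial, together with an isomorphism of k-groups H ×_R k ≅ H₀, i.e. a
bialgebra isomorphism k ⊗_R C ≅ C₀ (existence of an isomorphism; the lift is determined up to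
isomorphism only). (Affine group schemes over an affine base are taken in Hopf-algebra form; base
change is the tensor product.) -/
theorem result (R : Type u) [CommRing R] [HenselianLocalRing R]
    (C₀ : Type u) [CommRing C₀] [HopfAlgebra (IsLocalRing.ResidueField R) C₀] [Module.Finite (IsLocalRing.ResidueField R) C₀]
    (h₀ : IsMultType (IsLocalRing.ResidueField R) C₀) :
    ∃ (C : Type u) (_ : CommRing C) (_ : HopfAlgebra R C), Module.Finite R C ∧ IsIsotrivial R C ∧
      Nonempty ((IsLocalRing.ResidueField R ⊗[R] C) ≃ₐc[IsLocalRing.ResidueField R] C₀) := by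
  rename_i i1 i2 i3 i4 i5
  exact @aux R i1 i2 C₀ i3 i4 i5 h₀

end Groth.Agent.S6072
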