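import Groth.Statements.S6081
import Mathlib
import Groth.Agent.Lib.Helper15.SerreFin
import Groth.Agent.Lib.Helper15.MatCorep3

set_option autoImplicit false
set_option linter.style.haveILetI false
universe u
open TensorProduct
open SGA3

namespace Groth.Agent.S6081

/-- Let R be a Noetherian ring and A a commutative Hopf algebra over R which is flat and of finite type
as an R-algebra, so that G = Spec A is an affine flat R-group scheme of finite type. Suppose that
the pair (G, Spec R) has the equivariant resolution property: for every A-comodule F which is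
finitely generated as an R-module there are an A-comodule E which is finitely generated and
projective as an R-module and a surjective R-linear map E → F compatible with the coactions. Then
there are a natural number d and a d × d matrix (a_ij) of elements of A with Δ(a_ij) = Σ_l a_il ⊗
a_lj and ε(a_ij) = δ_ij (a matrix corepresentation, i.e. a homomorphism G → GL_{d,R}) whose
determinant is a unit, such that A is generated as an R-algebra by the entries a_ij together with
the inverse of det(a_ij): G is a closed subgroup scheme of GL_{d,R}. (The published statement is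
over a Noetherian scheme S, with G-equivariant coherent modules; this row is its assertion (ii), the
case S affine, in Hopf-algebra form.) -/
theorem result (R : Type u) [CommRing R] [IsNoetherianRing R]
    (A : Type u) [CommRing A] [HopfAlgebra R A] [Module.Flat R A] [Algebra.FiniteType R A]
    (hRE : ∀ (F : Type u) [AddCommGroup F] [Module R F] [HopfRep.Comod R A F] [Module.Finite R F],
      ∃ (E : Type u) (_ : AddCommGroup E) (_ : Module R E) (_ : HopfRep.Comod R A E) (π : E →ₗ[R] F),
        Module.Finite R E ∧ Module.Projective R E ∧ Function.Surjective π ∧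
        HopfRep.Comod.coact (k := R) (A := A) ∘ₗ π = π.rTensor A ∘ₗ HopfRep.Comod.coact (k := R) (A := A) (V := E)) :
    ∃ (d : ℕ) (a : Matrix (Fin d) (Fin d) A),
      (∀ i j, CoalgebraStruct.comul (R := R) (a i j) = ∑ l, a i l ⊗ₜ[R] a l j) ∧
      (∀ i j, CoalgebraStruct.counit (R := R) (a i j) = if i = j then 1 else 0) ∧
      ∃ u : A, u * a.det = 1 ∧ Algebra.adjoin R (Set.range (fun p : Fin d × Fin d => a p.1 p.2) ∪ {u}) = ⊤ := by
  classical
  obtain ⟨G, hG⟩ := (Algebra.FiniteType.out : (⊤ : Subalgebra R A).FG)
  obtain ⟨E, hGE, hEfg, hE⟩ := Groth.Agent.Lib.helper15.SerreFin.exists_fg_subcomod R A G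
  haveI : Module.Finite R E := Module.Finite.iff_fg.2 hEfg
  letI cE : HopfRep.Comod R A E := Groth.Agent.Lib.helper15.MatCorep.comodE E hE
  obtain ⟨P, iP1, iP2, cP, π, hPfin, hPproj, hπ, hcomm⟩ := hRE E
  haveI := hPfin
  haveI := hPproj
  obtain ⟨d, a, hc, hu, u, hdet, hmem⟩ :=
    Groth.Agent.Lib.helper15.MatCorep.exists_matrix_of_comod (R := R) (A := A) P
  refine ⟨d, a, hc, hu, u, hdet, ?_⟩
  rw [eq_top_iff, ← hG]
  apply Algebra.adjoin_le
  intro x hx
  have hxE : x ∈ E := hGE hx
  obtain ⟨p, hp⟩ := hπ ⟨x, hxE⟩
  have h1 : (π.rTensor A) (HopfRep.Comod.coact (k := R) (A := A) p) =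
      Groth.Agent.Lib.helper15.MatCorep.coactE E hE ⟨x, hxE⟩ := by
    have := LinearMap.congr_fun hcomm p
    rw [LinearMap.comp_apply, LinearMap.comp_apply, hp] at this
    exact this.symm
  have key : Groth.Agent.Lib.helper15.DualTensorFlat.pair (M := A)
      ((Coalgebra.counit (R := R) (A := A)) ∘ₗ E.subtype ∘ₗ π)
      (HopfRep.Comod.coact (k := R) (A := A) p) = x := by
    have e1 : LinearMap.rTensor A ((Coalgebra.counit (R := R) (A := A)) ∘ₗ E.subtype ∘ₗ π)
        (HopfRep.Comod.coact (k := R) (A := A) p) =
        (Coalgebra.counit (R := R) (A := A)).rTensor A (E.subtype.rTensor A (π.rTensor A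
          (HopfRep.Comod.coact (k := R) (A := A) p))) := by
      rw [LinearMap.rTensor_comp, LinearMap.rTensor_comp]
      rfl
    change TensorProduct.lid R A (LinearMap.rTensor A _ _) = x
    rw [e1, h1, Groth.Agent.Lib.helper15.MatCorep.rTensor_coactE,
      Coalgebra.rTensor_counit_comul, TensorProduct.lid_tmul, one_smul]
  have h2 := hmem ((Coalgebra.counit (R := R) (A := A)) ∘ₗ E.subtype ∘ₗ π) p
  rw [key] at h2
  exact h2

end Groth.Agent.S6081
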