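import Groth.Statements.S6082
import Mathlib
import Groth.Agent.Lib.Helper15.SerreQuot1
import Groth.Agent.Lib.Helper15.SerreQuot2

set_option autoImplicit false
set_option linter.style.haveILetI false
universe u
open TensorProduct
open SGA3

namespace Groth.Agent.S6082

/-- Let R be a Noetherian regular ring of Krull dimension at most 2, C a (coassociative, counital)
R-coalgebra which is projective as an R-module, and F a right C-comodule which is finitely generated
as an R-module. Then F is a quotient of a C-comodule which is finitely generated and projective as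
an R-module: there are such a comodule V and a surjective R-linear map V → F compatible with the
coactions. -/
theorem result (R : Type u) [CommRing R] [IsRegularRing R]
    (hdim : ringKrullDim R ≤ 2) (C : Type u) [AddCommGroup C] [Module R C] [Coalgebra R C] [Module.Projective R C]
    (F : Type u) [AddCommGroup F] [Module R F] [HopfRep.Comod R C F] [Module.Finite R F] :
    ∃ (V : Type u) (_ : AddCommGroup V) (_ : Module R V) (_ : HopfRep.Comod R C V) (φ : V →ₗ[R] F),
      Module.Finite R V ∧ Module.Projective R V ∧ Function.Surjective φ ∧ HopfRep.Comod.coact (k := R) (A := C) ∘ₗ φ = φ.rTensor C ∘ₗ HopfRep.Comod.coact (k := R) (A := C) (V := V) := by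
  classical
  obtain ⟨G₀, iA₀, iM₀, cG₀, M₀, iAM₀, iMM₀, j₀, φ₀, hfin₀, hproj₀, hinj₀, hsurj₀, hhom₀⟩ :=
    Groth.Agent.Lib.helper15.SerreQuot.stage1 R C F
  haveI := hfin₀
  haveI := hproj₀
  obtain ⟨G₁, iA₁, iM₁, cG₁, M₁, iAM₁, iMM₁, j₁, φ₁, hfin₁, hproj₁, hinj₁, hsurj₁, hhom₁⟩ :=
    Groth.Agent.Lib.helper15.SerreQuot.stage1 R C G₀
  haveI := hfin₁
  haveI := hproj₁
  have hsep : Groth.Agent.Lib.helper15.SerreQuot.Sep R (G₀ ⊗[R] C) :=
    Groth.Agent.Lib.helper15.SerreQuot.Sep.of_injective (j₀.rTensor C)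
      (Module.Flat.rTensor_preserves_injective_linearMap j₀ hinj₀)
      (Groth.Agent.Lib.helper15.SerreQuot.sep_of_projective R (M₀ ⊗[R] C))
  obtain ⟨cV, φ, hVfin, hVproj, hφ, hφhom⟩ :=
    Groth.Agent.Lib.helper15.SerreQuot.stage2 R hdim C G₁ G₀ hsep M₁ j₁ φ₁ hhom₁
  refine ⟨Module.Dual R (Module.Dual R G₁), inferInstance, inferInstance, cV,
    (φ₀ ∘ₗ j₀) ∘ₗ φ, hVfin, hVproj, ?_, ?_⟩
  · intro f
    obtain ⟨g₀, rfl⟩ := hsurj₀ f
    obtain ⟨g₁, rfl⟩ := hsurj₁ g₀
    refine ⟨Module.Dual.eval R G₁ g₁, ?_⟩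
    rw [LinearMap.comp_apply, hφ]
    rfl
  · have h : Groth.Agent.Lib.helper15.SerreQuot.coa R C F ∘ₗ ((φ₀ ∘ₗ j₀) ∘ₗ φ) =
        ((φ₀ ∘ₗ j₀) ∘ₗ φ).rTensor C ∘ₗ cV.coact := by
      rw [← LinearMap.comp_assoc, hhom₀, LinearMap.comp_assoc, hφhom, ← LinearMap.comp_assoc,
        ← LinearMap.rTensor_comp]
    exact h

end Groth.Agent.S6082
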