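import Groth.Statements.S6094
import Mathlib
import Groth.Agent.Lib.Helper15.GModComod

set_option autoImplicit false
universe u
open CategoryTheory MonObj GrpObj AlgebraicGeometry
open scoped TensorProduct
open SGA3

namespace Groth.Agent.S6094

/-- Let R be a commutative ring, A a commutative Hopf algebra over R, G = Spec A the corresponding
affine group scheme over Spec R, and E an R-module. A G-module structure on E (for every R-algebra
B, a natural action of the B-valued points of G on B ⊗_R E by B-linear automorphisms) and a right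
A-comodule structure δ : E → E ⊗_R A are said to correspond when, for every R-algebra B, every
B-valued point g of G with associated algebra map f : A → B and every x ∈ E, the point g sends 1 ⊗ x
to the image of δ(x) under E ⊗_R A → B ⊗_R E, y ⊗ a ↦ f(a) ⊗ y. Then every comodule structure on E
corresponds to exactly one G-module structure, and every G-module structure corresponds to exactly
one R-linear δ : E → E ⊗_R A which is coassociative and counital. -/
theorem result (R : Type u) [CommRing R] (A : Type u) [CommRing A] [HopfAlgebra R A]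
    (E : Type u) [AddCommGroup E] [Module R E] :
    (∀ [HopfRep.Comod R A E], ∃! m : VecGrp.GMod ((Spec (CommRingCat.of A)).asOver (Spec (CommRingCat.of R))) E,
        (∀ (B : Type u) [CommRing B] [Algebra R B] (g : VecGrp.pt R B ⟶ ((Spec (CommRingCat.of A)).asOver (Spec (CommRingCat.of R)))) (x : E),
          m.ρ B g ((1 : B) ⊗ₜ[R] x) =
            (TensorProduct.comm R E B) (LinearMap.lTensor E (Spec.mapMulEquiv.symm g).ofConv.toLinearMap (HopfRep.Comod.coact (k := R) (A := A) x)))) ∧
    (∀ m : VecGrp.GMod ((Spec (CommRingCat.of A)).asOver (Spec (CommRingCat.of R))) E, ∃! δ : E →ₗ[R] E ⊗[R] A,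
        ((TensorProduct.assoc R E A A).toLinearMap ∘ₗ δ.rTensor A ∘ₗ δ =
            (CoalgebraStruct.comul (R := R) (A := A)).lTensor E ∘ₗ δ ∧
          (CoalgebraStruct.counit (R := R) (A := A)).lTensor E ∘ₗ δ = (TensorProduct.mk R E R).flip 1) ∧
        (∀ (B : Type u) [CommRing B] [Algebra R B] (g : VecGrp.pt R B ⟶ ((Spec (CommRingCat.of A)).asOver (Spec (CommRingCat.of R)))) (x : E),
          m.ρ B g ((1 : B) ⊗ₜ[R] x) =
            (TensorProduct.comm R E B) (LinearMap.lTensor E (Spec.mapMulEquiv.symm g).ofConv.toLinearMap (δ x)))) := by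
  constructor
  · intro inst
    refine ⟨Groth.Agent.Lib.helper15.GModComod.toGMod (HopfRep.Comod.coact (k := R) (A := A) (V := E))
      HopfRep.Comod.coassoc HopfRep.Comod.counit_comp, ?_, ?_⟩
    · intro B _ _ g x
      rw [Groth.Agent.Lib.helper15.GModComod.toGMod_apply, Groth.Agent.Lib.helper15.GModComod.T_tmul,
        one_smul]
      rfl
    · intro m' hm'
      apply Groth.Agent.Lib.helper15.GModComod.GMod_ext
      intro B _ _ g x
      rw [hm' B g x, Groth.Agent.Lib.helper15.GModComod.toGMod_apply,
        Groth.Agent.Lib.helper15.GModComod.T_tmul, one_smul]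
      rfl
  · intro m
    refine ⟨Groth.Agent.Lib.helper15.GModComod.deltaOf m,
      ⟨⟨Groth.Agent.Lib.helper15.GModComod.deltaOf_coassoc m,
        Groth.Agent.Lib.helper15.GModComod.deltaOf_counit m⟩, ?_⟩, ?_⟩
    · intro B _ _ g x
      exact Groth.Agent.Lib.helper15.GModComod.rho_eq_tau m B g x
    · rintro δ' ⟨-, hδ'⟩
      ext x
      have h1 := hδ' A Groth.Agent.Lib.helper15.GModComod.gUniv x
      have h2 : (Spec.mapMulEquiv.symm (Groth.Agent.Lib.helper15.GModComod.gUniv (R := R) (A := A))).ofConv
          = AlgHom.id R A := Groth.Agent.Lib.helper15.GModComod.fOf_gUniv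
      rw [h2] at h1
      rw [Groth.Agent.Lib.helper15.GModComod.deltaOf_apply, h1]
      simp

end Groth.Agent.S6094
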