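import Groth.Statements.S6120
import Mathlib

set_option autoImplicit false
open CategoryTheory CategoryTheory.Limits Opposite
universe w v₁ v₂ u₁ u₂
open SGA4

namespace Groth.Agent.S6120

section
variable {I : Type u₁} [Category.{v₁} I] {C : Type u₂} [Category.{v₂} C] {A : Type w} (i : A → I)
    [∀ α β, HasBinaryProduct (i α) (i β)]
    (F : Iᵒᵖ ⥤ C)
    [HasProduct (fun α => F.obj (op (i α)))]
    [HasProduct (fun p : A × A => F.obj (op (i p.1 ⨯ i p.2)))]

/-- first map -/
noncomputable def mapA : (∏ᶜ (fun α => F.obj (op (i α)))) ⟶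
    ∏ᶜ (fun p : A × A => F.obj (op (i p.1 ⨯ i p.2))) :=
  Pi.lift (fun p : A × A =>
    Pi.π (fun α => F.obj (op (i α))) p.1 ≫ F.map (prod.fst : i p.1 ⨯ i p.2 ⟶ i p.1).op)

/-- second map -/
noncomputable def mapB : (∏ᶜ (fun α => F.obj (op (i α)))) ⟶
    ∏ᶜ (fun p : A × A => F.obj (op (i p.1 ⨯ i p.2))) :=
  Pi.lift (fun p : A × A =>
    Pi.π (fun α => F.obj (op (i α))) p.2 ≫ F.map (prod.snd : i p.1 ⨯ i p.2 ⟶ i p.2).op)

variable {i F}

lemma key {T : C} (t : T ⟶ ∏ᶜ (fun α => F.obj (op (i α)))) (h : t ≫ mapA i F = t ≫ mapB i F)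
    {j : I} {α β : A} (g : j ⟶ i α) (g' : j ⟶ i β) :
    t ≫ Pi.π (fun α => F.obj (op (i α))) α ≫ F.map g.op =
      t ≫ Pi.π (fun α => F.obj (op (i α))) β ≫ F.map g'.op := by
  have h1 : g = prod.lift g g' ≫ prod.fst := (prod.lift_fst g g').symm
  have h2 : g' = prod.lift g g' ≫ prod.snd := (prod.lift_snd g g').symm
  have hA : t ≫ mapA i F ≫ Pi.π (fun p : A × A => F.obj (op (i p.1 ⨯ i p.2))) (α, β) =
      t ≫ Pi.π (fun α => F.obj (op (i α))) α ≫ F.map (prod.fst : i α ⨯ i β ⟶ i α).op := by
    simp [mapA]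
  have hB : t ≫ mapB i F ≫ Pi.π (fun p : A × A => F.obj (op (i p.1 ⨯ i p.2))) (α, β) =
      t ≫ Pi.π (fun α => F.obj (op (i α))) β ≫ F.map (prod.snd : i α ⨯ i β ⟶ i β).op := by
    simp [mapB]
  have hAB : t ≫ Pi.π (fun α => F.obj (op (i α))) α ≫ F.map (prod.fst : i α ⨯ i β ⟶ i α).op =
      t ≫ Pi.π (fun α => F.obj (op (i α))) β ≫ F.map (prod.snd : i α ⨯ i β ⟶ i β).op := by
    rw [← hA, ← hB, ← Category.assoc, h, Category.assoc]
  conv_lhs => rw [h1, op_comp, F.map_comp]
  conv_rhs => rw [h2, op_comp, F.map_comp]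
  rw [← Category.assoc (Pi.π _ α), ← Category.assoc t, hAB]
  simp only [Category.assoc]

variable (hcov : ∀ j : I, ∃ α, Nonempty (j ⟶ i α))

/-- the chosen index -/
noncomputable def idx (j : I) : A := (hcov j).choose

/-- the chosen morphism -/
noncomputable def mor (j : I) : j ⟶ i (idx hcov j) := (hcov j).choose_spec.some

/-- the cone built from an equalizing morphism -/
@[reducible] noncomputable def coneOf {T : C} (t : T ⟶ ∏ᶜ (fun α => F.obj (op (i α))))
    (h : t ≫ mapA i F = t ≫ mapB i F) : Cone F where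
  pt := T
  π :=
    { app := fun j => t ≫ Pi.π (fun α => F.obj (op (i α))) (idx hcov j.unop) ≫
        F.map (mor hcov j.unop).op
      naturality := by
        intro j j' φ
        dsimp
        rw [Category.id_comp, Category.assoc, Category.assoc, ← F.map_comp]
        have : (mor hcov j.unop).op ≫ φ = (φ.unop ≫ mor hcov j.unop).op := by
          simp
        rw [this]
        exact key t h _ _ }

lemma coneOf_π {T : C} (t : T ⟶ ∏ᶜ (fun α => F.obj (op (i α))))
    (h : t ≫ mapA i F = t ≫ mapB i F) (j : I) {α : A} (g : j ⟶ i α) :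
    (coneOf hcov t h).π.app (op j) = t ≫ Pi.π (fun α => F.obj (op (i α))) α ≫ F.map g.op :=
  key t h _ _

lemma coneOf_π_i {T : C} (t : T ⟶ ∏ᶜ (fun α => F.obj (op (i α))))
    (h : t ≫ mapA i F = t ≫ mapB i F) (α : A) :
    (coneOf hcov t h).π.app (op (i α)) = t ≫ Pi.π (fun α => F.obj (op (i α))) α := by
  rw [coneOf_π hcov t h (i α) (𝟙 _)]
  simp

lemma cone_eq (s : Cone F) :
    Pi.lift (fun α => s.π.app (op (i α))) ≫ mapA i F =
      Pi.lift (fun α => s.π.app (op (i α))) ≫ mapB i F := by
  apply Pi.hom_ext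
  intro p
  simp [mapA, mapB]

end

/-- Let `I` be a category with a family of objects `i α` (`α : A`) such that every binary product `i α ⨯
i β` exists in `I` and every object of `I` admits a morphism to some `i α`. Let `F : Iᵒᵖ ⥤ C` be a
functor, and assume that `C` has equalizers and that the products `∏ F (i α)` and `∏ F (i α ⨯ i β)`
exist in `C`. Then the limit of `F` exists, the canonical map `lim F ⟶ ∏ F (i α)` is a monomorphism,
and a map `t : T ⟶ ∏ F (i α)` factors through `lim F` exactly when its composites with the two maps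
`∏ F (i α) ⇉ ∏ F (i α ⨯ i β)` induced by the two projections agree: `lim F` is the equalizer of that
pair. (The published statement assumes that `C` has all limits of the size of `A`; only equalizers
and the two products named are assumed here, which is what the equalizer construction uses.) -/
theorem result
    {I : Type u₁} [Category.{v₁} I] {C : Type u₂} [Category.{v₂} C] {A : Type w} (i : A → I)
    [∀ α β, HasBinaryProduct (i α) (i β)]
    (hcov : ∀ j : I, ∃ α, Nonempty (j ⟶ i α))
    (F : Iᵒᵖ ⥤ C) [HasEqualizers C]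
    [HasProduct (fun α => F.obj (op (i α)))]
    [HasProduct (fun p : A × A => F.obj (op (i p.1 ⨯ i p.2)))] :
    HasLimit F ∧ ∀ [HasLimit F],
      Mono (Pi.lift (fun α => limit.π F (op (i α)))) ∧
      ∀ (T : C) (t : T ⟶ ∏ᶜ (fun α => F.obj (op (i α)))),
        (∃ s : T ⟶ limit F, s ≫ Pi.lift (fun α => limit.π F (op (i α))) = t) ↔
        t ≫ Pi.lift (fun p : A × A =>
            Pi.π (fun α => F.obj (op (i α))) p.1 ≫ F.map (prod.fst : i p.1 ⨯ i p.2 ⟶ i p.1).op) =
        t ≫ Pi.lift (fun p : A × A =>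
            Pi.π (fun α => F.obj (op (i α))) p.2 ≫ F.map (prod.snd : i p.1 ⨯ i p.2 ⟶ i p.2).op) := by
  have hlim : HasLimit F := by
    refine ⟨⟨⟨coneOf hcov (equalizer.ι (mapA i F) (mapB i F)) (equalizer.condition _ _), ?_⟩⟩⟩
    refine
      { lift := fun s => equalizer.lift (Pi.lift (fun α => s.π.app (op (i α)))) (cone_eq s)
        fac := ?_
        uniq := ?_ }
    · intro s j
      obtain ⟨j⟩ := j
      rw [coneOf_π hcov _ _ j (mor hcov j)]
      simp
    · intro s m hm
      apply equalizer.hom_ext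
      rw [equalizer.lift_ι]
      apply Pi.hom_ext
      intro α
      rw [Pi.lift_π, ← hm (op (i α)), coneOf_π_i, Category.assoc]
  refine ⟨hlim, ?_⟩
  intro hlim'
  refine ⟨⟨?_⟩, ?_⟩
  · intro T x y hxy
    apply limit.hom_ext
    intro j
    obtain ⟨j⟩ := j
    have hα : x ≫ limit.π F (op (i (idx hcov j))) = y ≫ limit.π F (op (i (idx hcov j))) := by
      have := congrArg (fun z => z ≫ Pi.π (fun α => F.obj (op (i α))) (idx hcov j)) hxy
      simpa using this
    rw [← limit.w F (mor hcov j).op, ← Category.assoc, hα, Category.assoc]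
  · intro T t
    change (∃ s : T ⟶ limit F, s ≫ Pi.lift (fun α => limit.π F (op (i α))) = t) ↔
      t ≫ mapA i F = t ≫ mapB i F
    constructor
    · rintro ⟨s, rfl⟩
      rw [Category.assoc, Category.assoc]
      congr 1
      exact cone_eq (limit.cone F)
    · intro h
      refine ⟨limit.lift F (coneOf hcov t h), ?_⟩
      apply Pi.hom_ext
      intro α
      rw [Category.assoc, Pi.lift_π, limit.lift_π, coneOf_π_i]

end Groth.Agent.S6120
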