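import Groth.Statements.S6121
-- import your own Groth.Agent.* helpers here

set_option autoImplicit false
open CategoryTheory
universe v₁ v₂ u₁ u₂
open SGA4

namespace Groth.Agent.S6121

/-- For a fibered functor `p : E ⥤ B` (every morphism of `B` has a cartesian lift with prescribed
codomain, and cartesian morphisms compose), `p` reflects isomorphisms if and only if every fibre
category of `p` (objects over `b`, morphisms lying over the identity of `b`) is a groupoid. -/
theorem result
    {B : Type u₁} [Category.{v₁} B] {E : Type u₂} [Category.{v₂} E] (p : E ⥤ B) [p.IsFibered] :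
    p.ReflectsIsomorphisms ↔ ∀ b : B, IsGroupoid (p.Fiber b) := by
  constructor
  · intro hp b
    refine ⟨fun {x y} φ => ?_⟩
    have hφ : p.IsHomLift (𝟙 b) φ.1 := φ.2
    have h1 := IsHomLift.fac' p (𝟙 b) φ.1
    have h2 : IsIso (p.map φ.1) := by
      rw [h1]; infer_instance
    have h3 : IsIso φ.1 := isIso_of_reflects_iso _ p
    have h4 : p.IsHomLift (𝟙 b) (inv φ.1) := inferInstance
    let ψ : y ⟶ x := ⟨inv φ.1, h4⟩
    refine ⟨⟨ψ, ?_, ?_⟩⟩
    · apply Subtype.ext
      exact IsIso.hom_inv_id φ.1
    · apply Subtype.ext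
      exact IsIso.inv_hom_id φ.1
  · intro h
    refine ⟨fun {x y} f hf => ?_⟩
    let φ : p.obj x ⟶ p.obj y := p.map f
    let ψ := Functor.IsPreFibered.pullbackMap (p := p) (rfl : p.obj y = p.obj y) φ
    have hψ : IsIso ψ := Functor.IsStronglyCartesian.isIso_of_base_isIso p φ ψ
    let f' := Functor.IsCartesian.map p φ ψ f
    have hf' : f' ≫ ψ = f := Functor.IsCartesian.fac p φ ψ f
    have hx' : p.obj (Functor.IsPreFibered.pullbackObj (p := p) (rfl : p.obj y = p.obj y) φ) =
        p.obj x := Functor.IsPreFibered.pullbackObj_proj _ _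
    let X : p.Fiber (p.obj x) := ⟨x, rfl⟩
    let X' : p.Fiber (p.obj x) := ⟨_, hx'⟩
    let F : X ⟶ X' := ⟨f', inferInstance⟩
    have hF : IsIso F := (h (p.obj x)).all_isIso F
    have hF' : IsIso (Functor.Fiber.fiberInclusion.map F) := inferInstance
    have hf'iso : IsIso f' := hF'
    rw [← hf']
    infer_instance

end Groth.Agent.S6121
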