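import Groth.Statements.S6122
-- import your own Groth.Agent.* helpers here

set_option autoImplicit false
open CategoryTheory
universe v₁ v₂ u₁ u₂
open SGA4

namespace Groth.Agent.S6122

/-- For a fibered functor `p : E ⥤ B` (every morphism of `B` has a cartesian lift with prescribed
codomain, and cartesian morphisms compose), `p` is faithful if and only if every fibre category of
`p` (objects over `b`, morphisms lying over the identity of `b`) has at most one morphism between
any two objects. -/
theorem result
    {B : Type u₁} [Category.{v₁} B] {E : Type u₂} [Category.{v₂} E] (p : E ⥤ B) [p.IsFibered] :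
    p.Faithful ↔ ∀ (b : B) (x y : p.Fiber b), Subsingleton (x ⟶ y) := by
  constructor
  · intro hp b x y
    refine ⟨fun φ ψ => ?_⟩
    apply Functor.Fiber.hom_ext
    apply p.map_injective
    have h1 := IsHomLift.fac' p (𝟙 b) (Functor.Fiber.fiberInclusion.map φ)
    have h2 := IsHomLift.fac' p (𝟙 b) (Functor.Fiber.fiberInclusion.map ψ)
    rw [h1, h2]
  · intro h
    refine ⟨fun {x y} f g hfg => ?_⟩
    let φ : p.obj x ⟶ p.obj y := p.map f
    let ψ := Functor.IsPreFibered.pullbackMap (p := p) (rfl : p.obj y = p.obj y) φ
    have hf : p.IsHomLift φ f := inferInstance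
    have hg : p.IsHomLift φ g := by
      show p.IsHomLift (p.map f) g
      rw [hfg]; infer_instance
    let f' := Functor.IsCartesian.map p φ ψ f
    let g' := Functor.IsCartesian.map p φ ψ g
    have hf' : f' ≫ ψ = f := Functor.IsCartesian.fac p φ ψ f
    have hg' : g' ≫ ψ = g := Functor.IsCartesian.fac p φ ψ g
    have hx' : p.obj (Functor.IsPreFibered.pullbackObj (p := p) (rfl : p.obj y = p.obj y) φ) =
        p.obj x := Functor.IsPreFibered.pullbackObj_proj _ _
    let X : p.Fiber (p.obj x) := ⟨x, rfl⟩
    let X' : p.Fiber (p.obj x) := ⟨_, hx'⟩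
    let F : X ⟶ X' := ⟨f', inferInstance⟩
    let G : X ⟶ X' := ⟨g', inferInstance⟩
    have hFG : F = G := (h _ X X').elim F G
    have : f' = g' := congrArg Subtype.val hFG
    rw [← hf', ← hg', this]

end Groth.Agent.S6122
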