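import Groth.Statements.S6123
import Mathlib.CategoryTheory.Limits.Shapes.Pullback.IsPullback.Basic

set_option autoImplicit false
open CategoryTheory CategoryTheory.Limits Opposite
universe w v₁ v₂ u₁ u₂
open SGA4

namespace Groth.Agent.S6123

/-- For a single functor. Let `E` have pullbacks and let `φ : E ⥤ F` preserve them. If every
monomorphism `u` of `E` with `φ u` invertible is invertible, then `φ` reflects all isomorphisms. -/
theorem result
    {E : Type u₁} [Category.{v₁} E] {F : Type u₂} [Category.{v₂} F] (φ : E ⥤ F)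
    [HasPullbacks E] [PreservesLimitsOfShape WalkingCospan φ]
    (h : ∀ ⦃X Y : E⦄ (u : X ⟶ Y), Mono u → IsIso (φ.map u) → IsIso u) :
    φ.ReflectsIsomorphisms := by
  refine ⟨fun {X Y} f hf => ?_⟩
  have hmono : Mono f := by
    have hpb := IsPullback.of_hasPullback f f
    have hpb' := hpb.map φ
    have h1 : IsIso (φ.map (pullback.fst f f)) := hpb'.isIso_fst_of_isIso
    let Δ : X ⟶ pullback f f := pullback.lift (𝟙 X) (𝟙 X) rfl
    have hΔ1 : Δ ≫ pullback.fst f f = 𝟙 X := pullback.lift_fst _ _ _
    have hΔ2 : Δ ≫ pullback.snd f f = 𝟙 X := pullback.lift_snd _ _ _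
    have hΔmono : Mono Δ := mono_of_mono_fac hΔ1
    have hφΔ : IsIso (φ.map Δ) := by
      have h2 : φ.map Δ ≫ φ.map (pullback.fst f f) = 𝟙 _ := by
        rw [← φ.map_comp, hΔ1, φ.map_id]
      have h3 : φ.map Δ = inv (φ.map (pullback.fst f f)) := by
        rw [← cancel_mono (φ.map (pullback.fst f f)), h2, IsIso.inv_hom_id]
      rw [h3]; infer_instance
    have hΔiso : IsIso Δ := h Δ hΔmono hφΔ
    have hfs : pullback.fst f f = pullback.snd f f := by
      rw [← cancel_epi Δ, hΔ1, hΔ2]
    constructor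
    intro Z g g' hgg'
    rw [← pullback.lift_fst g g' hgg', hfs, pullback.lift_snd]
  exact h f hmono hf

end Groth.Agent.S6123
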