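import Groth.Statements.S6124
import Mathlib

set_option autoImplicit false
open CategoryTheory CategoryTheory.Limits Opposite
universe w v₁ v₂ u₁ u₂
open SGA4

namespace Groth.Agent.S6124

/-- Let `E` have pullbacks, let `P` be a detecting family of objects of `E` (a morphism `f` is
invertible as soon as every map out of an object of `P` factors uniquely through `f`), and let `φ i
: E ⥤ E' i` be functors preserving pullbacks. Then the `φ i` jointly reflect isomorphisms if and
only if, for every `X` with `P X` and every subobject `X'` of `X` other than `⊤`, some `φ i` takes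
the inclusion `X' ⟶ X` to a morphism that is not invertible. -/
theorem result
    {E : Type u₁} [Category.{v₁} E] [HasPullbacks E] (P : ObjectProperty E) (hP : P.IsDetecting)
    {κ : Type w} {E' : κ → Type u₂} [∀ k, Category.{v₂} (E' k)] (φ : ∀ k, E ⥤ E' k)
    [∀ k, PreservesLimitsOfShape WalkingCospan (φ k)] :
    (∀ ⦃X Y : E⦄ (f : X ⟶ Y), (∀ k, IsIso ((φ k).map f)) → IsIso f) ↔
      ∀ (X : E), P X → ∀ (X' : Subobject X), X' ≠ ⊤ → ∃ k, ¬ IsIso ((φ k).map X'.arrow) := by
  constructor
  · intro H X _ X' hX'
    by_contra hcon
    push Not at hcon
    exact hX' ((Subobject.isIso_arrow_iff_eq_top X').mp (H X'.arrow hcon))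
  · intro H
    -- Claim A: monomorphisms that all `φ k` invert are invertible.
    have claimA : ∀ ⦃Z W : E⦄ (m : Z ⟶ W) [Mono m], (∀ k, IsIso ((φ k).map m)) → IsIso m := by
      intro Z W m _ hm
      rw [hP.isIso_iff_of_mono m]
      intro G hG g
      have hsnd : ∀ k, IsIso ((φ k).map (pullback.snd m g)) := by
        intro k
        have hpb := (IsPullback.of_hasPullback m g).map (φ k)
        have := hm k
        exact hpb.isIso_snd_of_isIso
      have htop : Subobject.mk (pullback.snd m g) = ⊤ := by
        by_contra hne
        obtain ⟨k, hk⟩ := H G hG _ hne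
        apply hk
        rw [← Subobject.underlyingIso_hom_comp_eq_mk, Functor.map_comp]
        have := hsnd k
        infer_instance
      have hiso : IsIso (pullback.snd m g) := (Subobject.isIso_iff_mk_eq_top _).mpr htop
      refine ⟨inv (pullback.snd m g) ≫ pullback.fst m g, ?_⟩
      change (inv (pullback.snd m g) ≫ pullback.fst m g) ≫ m = g
      rw [Category.assoc, pullback.condition, IsIso.inv_hom_id_assoc]
    intro X Y f hf
    -- the diagonal is inverted by all `φ k`
    have hdiag : ∀ k, IsIso ((φ k).map (pullback.diagonal f)) := by
      intro k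
      have hpb := (IsPullback.of_hasPullback f f).map (φ k)
      have := hf k
      have hfst : IsIso ((φ k).map (pullback.fst f f)) := hpb.isIso_fst_of_isIso
      have hcomp : (φ k).map (pullback.diagonal f) ≫ (φ k).map (pullback.fst f f) = 𝟙 _ := by
        rw [← Functor.map_comp, pullback.diagonal_fst, CategoryTheory.Functor.map_id]
      have : (φ k).map (pullback.diagonal f) = inv ((φ k).map (pullback.fst f f)) := by
        rw [← Category.comp_id ((φ k).map (pullback.diagonal f)),
          ← IsIso.hom_inv_id ((φ k).map (pullback.fst f f)), ← Category.assoc, hcomp,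
          Category.id_comp]
      rw [this]
      infer_instance
    have hmono : Mono f := (pullback.isIso_diagonal_iff f).mp (claimA _ hdiag)
    exact claimA f hf

end Groth.Agent.S6124
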