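import Groth.Statements.S6126
import Mathlib
-- import your own Groth.Agent.* helpers here

set_option autoImplicit false
open CategoryTheory CategoryTheory.Limits
universe v₁ u₁
open SGA4

namespace Groth.Agent.S6126

/-- Let `E` be a category with `v₁`-small hom-sets admitting a separating family of objects `G t`
indexed by a `v₁`-small type, in which every object admits a monomorphism into an injective object.
Assume that each coproduct `G t ⨿ G t` exists and that every morphism out of `G t ⨿ G t` factors as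
an effective epimorphism followed by a monomorphism. Then `E` admits a coseparating family of
injective objects indexed by a `v₁`-small type. (The published statement moreover bounds the size of
this family in terms of the hom-sets `Hom (G t', G t ⨿ G t)`; only existence is stated here. The
published statement speaks of generating and cogenerating families; its proof uses and produces
joint faithfulness of maps out of, resp. into, the family, which is the sense taken here.) -/
theorem result
    {E : Type u₁} [Category.{v₁} E] {ι : Type v₁} (G : ι → E)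
    (hG : (ObjectProperty.ofObj G).IsSeparating)
    [EnoughInjectives E] [∀ t, HasBinaryCoproduct (G t) (G t)]
    (hfac : ∀ (t : ι) (X : E) (f : G t ⨿ G t ⟶ X),
      ∃ (Y : E) (e : G t ⨿ G t ⟶ Y) (m : Y ⟶ X), EffectiveEpi e ∧ Mono m ∧ e ≫ m = f) :
    ∃ (κ : Type v₁) (H : κ → E),
      (∀ k, Injective (H k)) ∧ (ObjectProperty.ofObj H).IsCoseparating := by
  classical
  -- the relation cut out on the generators by a morphism out of `G t ⨿ G t`
  let Rel : ∀ (t : ι) {Q : E} (_ : G t ⨿ G t ⟶ Q),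
      Set (Σ t' : ι, (G t' ⟶ G t ⨿ G t) × (G t' ⟶ G t ⨿ G t)) :=
    fun t Q e => {x | x.2.1 ≫ e = x.2.2 ≫ e}
  let κ : Type v₁ := Σ t : ι, Set (Σ t' : ι, (G t' ⟶ G t ⨿ G t) × (G t' ⟶ G t ⨿ G t))
  let good : κ → Prop := fun k => ∃ (Q : E) (e : G k.1 ⨿ G k.1 ⟶ Q), EffectiveEpi e ∧ Rel k.1 e = k.2
  let Qof : κ → E := fun k => if hk : good k then hk.choose else G k.1
  refine ⟨κ, fun k => Injective.under (Qof k), fun k => inferInstance, ?_⟩
  intro X Y f g hfg
  apply hG
  rintro _ ⟨t⟩ h
  obtain ⟨Q, e, m, he, hm, hem⟩ := hfac t Y (coprod.desc (h ≫ f) (h ≫ g))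
  let k : κ := ⟨t, Rel t e⟩
  have hk : good k := ⟨Q, e, he, rfl⟩
  have hQ : Qof k = hk.choose := dif_pos hk
  obtain ⟨e', he', hRel'⟩ := hk.choose_spec
  change G t ⨿ G t ⟶ hk.choose at e'
  have hRel : Rel t e' = Rel t e := hRel'
  -- the comparison `Q ⟶ Q'`
  have hdesc : ∀ {W : E} (g₁ g₂ : W ⟶ G t ⨿ G t), g₁ ≫ e = g₂ ≫ e → g₁ ≫ e' = g₂ ≫ e' := by
    intro W g₁ g₂ h12
    apply hG
    rintro _ ⟨t'⟩ a
    have hmem : (⟨t', (a ≫ g₁, a ≫ g₂)⟩ : Σ t' : ι, (G t' ⟶ G t ⨿ G t) × (G t' ⟶ G t ⨿ G t)) ∈ Rel t e := by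
      show (a ≫ g₁) ≫ e = (a ≫ g₂) ≫ e
      rw [Category.assoc, Category.assoc, h12]
    rw [← hRel] at hmem
    have : (a ≫ g₁) ≫ e' = (a ≫ g₂) ≫ e' := hmem
    simpa using this
  let φ : Q ⟶ hk.choose := EffectiveEpi.desc e e' (fun g₁ g₂ h12 => hdesc g₁ g₂ h12)
  have hφ : e ≫ φ = e' := EffectiveEpi.fac e e' _
  -- extend to `Y`
  let j : hk.choose ⟶ Injective.under (Qof k) := eqToHom hQ.symm ≫ Injective.ι (Qof k)
  have hj : Mono j := by
    dsimp only [j]
    infer_instance
  let ext : Y ⟶ Injective.under (Qof k) := Injective.factorThru (φ ≫ j) m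
  have hext : m ≫ ext = φ ≫ j := Injective.comp_factorThru _ _
  have h1 := hfg _ (ObjectProperty.ofObj_apply (fun k => Injective.under (Qof k)) k) ext
  -- chase
  have h2 : (coprod.inl ≫ e') ≫ j = (coprod.inr ≫ e') ≫ j := by
    have h3 : coprod.inl ≫ e ≫ m ≫ ext = coprod.inr ≫ e ≫ m ≫ ext := by
      rw [← Category.assoc e, hem, ← Category.assoc, ← Category.assoc, coprod.inl_desc,
        coprod.inr_desc, Category.assoc, Category.assoc, h1]
    rw [hext, ← Category.assoc e, hφ] at h3
    simpa using h3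
  have h4 : coprod.inl ≫ e' = coprod.inr ≫ e' := (cancel_mono j).1 h2
  have hmem : (⟨t, (coprod.inl, coprod.inr)⟩ : Σ t' : ι, (G t' ⟶ G t ⨿ G t) × (G t' ⟶ G t ⨿ G t)) ∈
      Rel t e' := h4
  rw [hRel] at hmem
  have h5 : coprod.inl ≫ e = coprod.inr ≫ e := hmem
  have h6 : coprod.inl ≫ e ≫ m = coprod.inr ≫ e ≫ m := by
    rw [← Category.assoc, h5, Category.assoc]
  rw [hem, coprod.inl_desc, coprod.inr_desc] at h6
  exact h6

end Groth.Agent.S6126
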