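import Groth.Statements.S6128
import Mathlib

set_option autoImplicit false
open CategoryTheory
universe u
open SGA4

namespace Groth.Agent.S6128

section
variable {C : Type u} [SmallCategory C] {C' : Type u} [SmallCategory C']
    (J : GrothendieckTopology C) (u : C ⥤ C') (Y : C) (R : Sieve (u.obj Y))

lemma isClosed_top (Z : C) : J.IsClosed (⊤ : Sieve Z) := by
  intro W f _
  trivial

/-- the constant map to the top sieve -/
noncomputable def aT : u.op ⋙ yoneda.obj (u.obj Y) ⟶ (Functor.closedSieves J).toFunctor where
  app Z := ↾fun _ => (⟨(⊤ : Sieve Z.unop), isClosed_top J _⟩ : {S : Sieve Z.unop // J.IsClosed S})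
  naturality := by
    intro Z Z' φ
    ext e
    apply Subtype.ext
    change (⊤ : Sieve Z'.unop) = (⊤ : Sieve Z.unop).pullback φ.unop
    rw [Sieve.pullback_top]

/-- the map sending `e` to the closure of the pulled-back sieve -/
noncomputable def bT : u.op ⋙ yoneda.obj (u.obj Y) ⟶ (Functor.closedSieves J).toFunctor where
  app Z := ↾fun e => (⟨J.close ((R.pullback e).functorPullback u), J.close_isClosed _⟩ :
    {S : Sieve Z.unop // J.IsClosed S})
  naturality := by
    intro Z Z' φ
    ext e
    apply Subtype.ext
    change J.close ((R.pullback (u.map φ.unop ≫ e)).functorPullback u) =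
      (J.close ((R.pullback e).functorPullback u)).pullback φ.unop
    rw [← J.pullback_close]
    congr 1
    ext W g
    simp [Sieve.functorPullback, Presieve.functorPullback]

end

/-- Let `u : C ⥤ C'` be a functor between small sites. If the right Kan extension along `u` of the
underlying presheaf of every sheaf of sets on `C` is a sheaf on `C'`, then `u` is cocontinuous: for
every object `Y` of `C` and every covering sieve `R` of `u Y`, the sieve of morphisms `g : Z ⟶ Y`
with `u g ∈ R` covers `Y`. -/
theorem result
    {C : Type u} [SmallCategory C] {C' : Type u} [SmallCategory C']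
    (J : GrothendieckTopology C) (J' : GrothendieckTopology C') (u : C ⥤ C')
    (h : ∀ G : Sheaf J (Type u), Presheaf.IsSheaf J' ((u.op.ran).obj G.obj)) :
    u.IsCocontinuous J J' := by
  refine ⟨fun {Y R} hR => ?_⟩
  let ΩS : Sheaf J (Type u) := ⟨(Functor.closedSieves J).toFunctor,
    (isSheaf_iff_isSheaf_of_type _ _).mpr (classifier_isSheaf J)⟩
  have hsh : Presieve.IsSheaf J' ((u.op.ran).obj (Functor.closedSieves J).toFunctor) :=
    (isSheaf_iff_isSheaf_of_type _ _).mp (h ΩS)
  have hY := Presieve.isSheafFor_iff_yonedaSheafCondition.mp (hsh R hR)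
  let adj := u.op.ranAdjunction (Type u)
  let a := adj.homEquiv (yoneda.obj (u.obj Y)) _ (aT J u Y)
  let b := adj.homEquiv (yoneda.obj (u.obj Y)) _ (bT J u Y R)
  have hab : R.functorInclusion ≫ a = R.functorInclusion ≫ b := by
    simp only [a, b]
    rw [← adj.homEquiv_naturality_left, ← adj.homEquiv_naturality_left]
    congr 1
    ext Z ⟨e, he⟩
    apply Subtype.ext
    change (⊤ : Sieve Z.unop) = J.close ((R.pullback e).functorPullback u)
    rw [Sieve.pullback_eq_top_of_mem R he]
    symm
    rw [J.close_eq_top_iff_mem]
    have : Sieve.functorPullback u (⊤ : Sieve (u.obj Z.unop)) = ⊤ := by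
      ext W g
      simp [Sieve.functorPullback, Presieve.functorPullback]
    rw [this]
    exact J.top_mem _
  have hab' : a = b := (hY (R.functorInclusion ≫ a)).unique rfl hab.symm
  have hab'' : aT J u Y = bT J u Y R := (adj.homEquiv _ _).injective hab'
  have := congrArg (fun t => (t.app (Opposite.op Y) (𝟙 (u.obj Y))).1) hab''
  change (⊤ : Sieve Y) = J.close ((R.pullback (𝟙 (u.obj Y))).functorPullback u) at this
  rw [Sieve.pullback_id] at this
  exact (J.close_eq_top_iff_mem _).mp this.symm

end Groth.Agent.S6128
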