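import Groth.Statements.S6129
import Groth.Agent.Lib.Helper14.Lan1

set_option autoImplicit false
open CategoryTheory CategoryTheory.Limits
universe u
open SGA4

namespace Groth.Agent.S6129

/-- Let `u : C ⥤ C'` be a faithful functor between small categories such that for every object `X` of
`C` the induced functor on over-categories `C/X ⥤ C'/u X` is full and faithful. Then the left Kan
extension functor `u_!` on presheaves of sets is faithful, the unit `H ⟶ u^* u_! H` of the
adjunction `u_! ⊣ u^*` is a monomorphism for every presheaf `H`, and for every morphism of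
presheaves `α : H ⟶ K` the naturality square of the unit at `α` (with sides `α` and `u^* u_! α`) is
cartesian. (The published statement assumes only the condition on the slice functors, and its proof
uses that `u` is faithful; the slice condition alone does not suffice: for a nontrivial group viewed
as a one-object category mapping to the point every slice functor is an equivalence, while `u_!` is
the orbit-set functor on `G`-sets, which is not faithful, and the unit `G ⟶ G/G` is not a
monomorphism. So `u` is taken faithful here.) -/
theorem result
    {C : Type u} [SmallCategory C] {C' : Type u} [SmallCategory C'] (u : C ⥤ C') [u.Faithful]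
    (hu : ∀ X : C, (Over.post (X := X) u).Full ∧ (Over.post (X := X) u).Faithful) :
    (u.op.lan : (Cᵒᵖ ⥤ Type u) ⥤ (C'ᵒᵖ ⥤ Type u)).Faithful ∧
    (∀ H : Cᵒᵖ ⥤ Type u, Mono ((u.op.lanAdjunction (Type u)).unit.app H)) ∧
    ∀ (H K : Cᵒᵖ ⥤ Type u) (α : H ⟶ K),
      IsPullback ((u.op.lanAdjunction (Type u)).unit.app H) α
        (((Functor.whiskeringLeft Cᵒᵖ C'ᵒᵖ (Type u)).obj u.op).map (u.op.lan.map α))
        ((u.op.lanAdjunction (Type u)).unit.app K) := by
  have hu' : ∀ X : C, (Over.post (X := X) u).Full := fun X => (hu X).1
  have hunit : (u.op.lanAdjunction (Type u)).unit = u.op.lanUnit := Functor.lanAdjunction_unit _ _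
  have hmono : ∀ H : Cᵒᵖ ⥤ Type u, Mono ((u.op.lanAdjunction (Type u)).unit.app H) := by
    intro H
    rw [hunit]
    haveI : ∀ X : Cᵒᵖ, Mono ((u.op.lanUnit.app H).app X) := by
      intro X
      rw [mono_iff_injective]
      exact Groth.Agent.Lib.Helper14.Lan.unit_injective u hu' X.unop H
    exact NatTrans.mono_of_mono_app _
  refine ⟨?_, hmono, ?_⟩
  · constructor
    intro H K α β hαβ
    haveI := hmono K
    have h1 := (u.op.lanAdjunction (Type u)).unit.naturality α
    have h2 := (u.op.lanAdjunction (Type u)).unit.naturality β
    simp only [Functor.id_obj, Functor.id_map, Functor.comp_obj, Functor.comp_map] at h1 h2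
    rw [← cancel_mono ((u.op.lanAdjunction (Type u)).unit.app K), h1, h2, hαβ]
  · intro H K α
    rw [hunit]
    apply IsPullback.of_forall_isPullback_app
    intro X
    rw [Types.isPullback_iff]
    refine ⟨?_, ?_, ?_⟩
    · have := NatTrans.congr_app (u.op.lanUnit.naturality α) X
      exact this.symm
    · rintro x y ⟨hxy, -⟩
      exact Groth.Agent.Lib.Helper14.Lan.unit_injective u hu' X.unop H hxy
    · intro c k hck
      obtain ⟨h, h1, h2⟩ := Groth.Agent.Lib.Helper14.Lan.exists_of_lan_map_eq u hu' X.unop α c k hck
      exact ⟨h, h1, h2⟩

end Groth.Agent.S6129
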