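import Groth.Statements.S6131
import Mathlib.CategoryTheory.Sites.Closed

set_option autoImplicit false
open CategoryTheory CategoryTheory.Limits
universe u
open SGA4

namespace Groth.Agent.S6131

/-- Morphisms from the sheafification of `yoneda.obj X` to a sheaf `F` are sections of `F`
over `X`. -/
noncomputable def homEquiv {C : Type u} [SmallCategory C] (J : GrothendieckTopology C) (X : C)
    (F : Sheaf J (Type u)) :
    ((presheafToSheaf J (Type u)).obj (yoneda.obj X) ⟶ F) ≃ F.obj.obj (Opposite.op X) :=
  ((sheafificationAdjunction J (Type u)).homEquiv (yoneda.obj X) F).trans yonedaEquiv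

/-- For a small site `(C, J)` and an object `X` of `C`, the sheaf associated to the presheaf represented
by `X` is an initial object of the category of sheaves of sets if and only if the empty sieve covers
`X`. -/
theorem result
    {C : Type u} [SmallCategory C] (J : GrothendieckTopology C) (X : C) :
    Nonempty (IsInitial ((presheafToSheaf J (Type u)).obj (yoneda.obj X))) ↔ (⊥ : Sieve X) ∈ J X := by
  constructor
  · rintro ⟨hI⟩
    rw [GrothendieckTopology.mem_iff_isSheafFor_closedSieves]
    let F : Sheaf J (Type u) :=
      ⟨(Functor.closedSieves J).toFunctor, (isSheaf_iff_isSheaf_of_type _ _).mpr (classifier_isSheaf J)⟩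
    intro x _
    refine ⟨homEquiv J X F (hI.to F), fun _ _ hf => False.elim hf, fun t' _ => ?_⟩
    have : (homEquiv J X F).symm t' = hI.to F := hI.hom_ext _ _
    rw [← this, Equiv.apply_symm_apply]
  · intro h
    have huniq' : ∀ F : Sheaf J (Type u),
        Nonempty (Unique ((presheafToSheaf J (Type u)).obj (yoneda.obj X) ⟶ F)) := by
      intro F
      have hF : Presieve.IsSheaf J F.obj := (isSheaf_iff_isSheaf_of_type _ _).mp F.property
      have hs := hF (⊥ : Sieve X) h
      let x : Presieve.FamilyOfElements F.obj ((⊥ : Sieve X) : Presieve X) :=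
        fun _ _ hf => False.elim hf
      have hx : x.Compatible := fun _ _ _ _ _ _ _ h₁ => False.elim h₁
      obtain ⟨t, -, ht⟩ := hs x hx
      have : Unique (F.obj.obj (Opposite.op X)) :=
        ⟨⟨t⟩, fun t' => ht t' (fun _ _ hf => False.elim hf)⟩
      exact ⟨(homEquiv J X F).unique⟩
    have huniq : ∀ F : Sheaf J (Type u),
        Unique ((presheafToSheaf J (Type u)).obj (yoneda.obj X) ⟶ F) := fun F => (huniq' F).some
    exact ⟨IsInitial.ofUnique _⟩

end Groth.Agent.S6131
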