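import Groth.Statements.S6132
import Mathlib
-- import your own Groth.Agent.* helpers here

set_option autoImplicit false
open CategoryTheory CategoryTheory.Limits
universe u
open SGA4

namespace Groth.Agent.S6132


section helpers

open Opposite

variable {C : Type u} [SmallCategory C] (J : GrothendieckTopology C)

/-- morphisms from the sheafified representable to a sheaf are sections -/
noncomputable def Φ (Z : C) (F : Sheaf J (Type u)) :
    ((presheafToSheaf J (Type u)).obj (yoneda.obj Z) ⟶ F) ≃ F.obj.obj (op Z) :=
  ((sheafificationAdjunction J (Type u)).homEquiv (yoneda.obj Z) F).trans yonedaEquiv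

lemma Φ_nat {Z Z' : C} (h : Z' ⟶ Z) (F : Sheaf J (Type u))
    (g : (presheafToSheaf J (Type u)).obj (yoneda.obj Z) ⟶ F) :
    Φ J Z' F ((presheafToSheaf J (Type u)).map (yoneda.map h) ≫ g) = F.obj.map h.op (Φ J Z F g) := by
  unfold Φ
  simp only [Equiv.trans_apply]
  rw [Adjunction.homEquiv_naturality_left]
  exact (yonedaEquiv_naturality _ _).symm

lemma existsUnique_glue {X : C} {ι : Type u}
    (Y : ι → C) (s : ∀ i, Y i ⟶ X) [∀ (i : ι) (Z : C) (g : Z ⟶ X), Limits.HasPullback (s i) g]
    (hcov : Sieve.ofArrows Y s ∈ J X) (hmono : ∀ i, Mono (s i))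
    (hdisj : ∀ i j, i ≠ j → (⊥ : Sieve (Limits.pullback (s i) (s j))) ∈ J (Limits.pullback (s i) (s j)))
    (F : Sheaf J (Type u)) (x : ∀ i, F.obj.obj (op (Y i))) :
    ∃! e : F.obj.obj (op X), ∀ i, F.obj.map (s i).op e = x i := by
  have hF : Presieve.IsSheaf J F.obj := (isSheaf_iff_isSheaf_of_type _ _).1 F.property
  have h1 : Presieve.IsSheafFor F.obj (Presieve.ofArrows Y s) :=
    (Presieve.isSheafFor_iff_generate _).2 (hF _ hcov)
  rw [Presieve.isSheafFor_arrows_iff] at h1
  apply h1
  intro i j Z gi gj comm
  by_cases hij : i = j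
  · subst hij
    have := hmono i
    rw [(cancel_mono (s i)).1 comm]
  · have hZ : (⊥ : Sieve Z) ∈ J Z := by
      have := J.pullback_stable (Limits.pullback.lift gi gj comm) (hdisj i j hij)
      convert this
      ext W f
      simp
    refine ((hF _ hZ).isSeparatedFor).ext ?_
    intro W f hf
    exact hf.elim

end helpers

/-- Let `(C, J)` be a small site, `X` an object and `s i : Y i ⟶ X` a family of morphisms all of whose
base changes exist in `C`. If the family is covering, every `s i` is a monomorphism, and for `i ≠ j`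
the fibre product `Y i ×_X Y j` is covered by the empty sieve, then the associated sheaf of `X`,
with the maps induced by the `s i`, is a coproduct of the associated sheaves of the `Y i` in the
category of sheaves of sets. -/
theorem result
    {C : Type u} [SmallCategory C] (J : GrothendieckTopology C) {X : C} {ι : Type u}
    (Y : ι → C) (s : ∀ i, Y i ⟶ X) [∀ (i : ι) (Z : C) (g : Z ⟶ X), HasPullback (s i) g]
    (hcov : Sieve.ofArrows Y s ∈ J X) (hmono : ∀ i, Mono (s i))
    (hdisj : ∀ i j, i ≠ j → (⊥ : Sieve (pullback (s i) (s j))) ∈ J (pullback (s i) (s j))) :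
    Nonempty (IsColimit (Cofan.mk ((presheafToSheaf J (Type u)).obj (yoneda.obj X))
      (fun i => (presheafToSheaf J (Type u)).map (yoneda.map (s i))))) := by
  refine ⟨Limits.mkCofanColimit _
    (fun t => (Φ J X t.pt).symm
      (existsUnique_glue J Y s hcov hmono hdisj t.pt (fun i => Φ J (Y i) t.pt (t.inj i))).choose)
    ?_ ?_⟩
  · intro t i
    have hsp := (existsUnique_glue J Y s hcov hmono hdisj t.pt
      (fun i => Φ J (Y i) t.pt (t.inj i))).choose_spec.1 i
    apply (Φ J (Y i) t.pt).injective
    have := Φ_nat J (s i) t.pt ((Φ J X t.pt).symm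
      (existsUnique_glue J Y s hcov hmono hdisj t.pt (fun i => Φ J (Y i) t.pt (t.inj i))).choose)
    rw [Equiv.apply_symm_apply] at this
    exact this.trans hsp
  · intro t m hm
    have hsp := (existsUnique_glue J Y s hcov hmono hdisj t.pt
      (fun i => Φ J (Y i) t.pt (t.inj i))).choose_spec.2
    rw [Equiv.eq_symm_apply]
    apply hsp
    intro i
    rw [← Φ_nat J (s i) t.pt m]
    congr 1
    exact hm i

end Groth.Agent.S6132
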