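import Groth.Statements.S6134
import Mathlib

set_option autoImplicit false
open CategoryTheory CategoryTheory.Limits
universe u
open SGA4

namespace Groth.Agent.S6134

/-- Let `C` be a small category with topologies `J ≤ J'` (every `J`-covering sieve is `J'`-covering),
`X` an object and `s i : Y i ⟶ X` a family of morphisms. If the associated `J`-sheaf of the presheaf
represented by `X`, with the maps induced by the `s i`, is a coproduct of the associated `J`-sheaves
of the `Y i` (in sheaves of sets), then the same holds for `J'`. -/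
theorem result
    {C : Type u} [SmallCategory C] {J J' : GrothendieckTopology C} (hJ : J ≤ J')
    {X : C} {ι : Type u} (Y : ι → C) (s : ∀ i, Y i ⟶ X)
    (h : Nonempty (IsColimit (Cofan.mk ((presheafToSheaf J (Type u)).obj (yoneda.obj X))
      (fun i => (presheafToSheaf J (Type u)).map (yoneda.map (s i)))))) :
    Nonempty (IsColimit (Cofan.mk ((presheafToSheaf J' (Type u)).obj (yoneda.obj X))
      (fun i => (presheafToSheaf J' (Type u)).map (yoneda.map (s i))))) := by
  obtain ⟨hc⟩ := h
  let adj := sheafificationAdjunction J (Type u)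
  let adj' := sheafificationAdjunction J' (Type u)
  -- restrict a `J'`-sheaf to a `J`-sheaf
  let res : Sheaf J' (Type u) → Sheaf J (Type u) := fun G =>
    ⟨G.obj, (isSheaf_iff_isSheaf_of_type J G.obj).mpr
      (Presieve.isSheaf_of_le _ hJ ((isSheaf_iff_isSheaf_of_type J' G.obj).mp G.property))⟩
  -- transport of morphisms
  let tr : ∀ (P : Cᵒᵖ ⥤ Type u) (G : Sheaf J' (Type u)),
      ((presheafToSheaf J' (Type u)).obj P ⟶ G) ≃ ((presheafToSheaf J (Type u)).obj P ⟶ res G) :=
    fun P G => (adj'.homEquiv P G).trans (adj.homEquiv P (res G)).symm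
  have tr_nat : ∀ {P Q : Cᵒᵖ ⥤ Type u} (f : P ⟶ Q) (G : Sheaf J' (Type u))
      (m : (presheafToSheaf J' (Type u)).obj Q ⟶ G),
      tr P G ((presheafToSheaf J' (Type u)).map f ≫ m) =
        (presheafToSheaf J (Type u)).map f ≫ tr Q G m := by
    intro P Q f G m
    simp only [tr, Equiv.trans_apply]
    rw [adj'.homEquiv_naturality_left, adj.homEquiv_naturality_left_symm]
  refine ⟨Cofan.IsColimit.mk _ (fun t => (tr _ t.pt).symm
    (Cofan.IsColimit.desc hc (fun i => tr _ t.pt (t.inj i)))) ?_ ?_⟩
  · intro t j
    apply (tr _ t.pt).injective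
    change tr _ t.pt ((presheafToSheaf J' (Type u)).map (yoneda.map (s j)) ≫ _) = _
    rw [tr_nat, Equiv.apply_symm_apply]
    exact Cofan.IsColimit.fac hc _ j
  · intro t m hm
    apply (tr _ t.pt).injective
    rw [Equiv.apply_symm_apply]
    apply Cofan.IsColimit.hom_ext hc
    intro i
    rw [Cofan.IsColimit.fac hc]
    rw [← hm i]
    exact (tr_nat _ _ _).symm

end Groth.Agent.S6134
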