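import Groth.Statements.S6135
import Groth.Agent.Lib.Helper14.Lan3

set_option autoImplicit false
open CategoryTheory CategoryTheory.Limits
universe u
open SGA4

namespace Groth.Agent.S6135

/-- Faithful case. Let `u : C ⥤ C'` be a functor between small categories and `u_!` the left Kan
extension functor on presheaves of sets, whose restriction to ind-objects (presheaves that are small
filtered colimits of representables) is the induced functor `Ind C ⥤ Ind C'`. Then `u` is faithful
if and only if `u_!` is injective on morphisms between ind-representable presheaves. -/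
theorem result
    {C : Type u} [SmallCategory C] {C' : Type u} [SmallCategory C'] (u : C ⥤ C') :
    u.Faithful ↔ ∀ (F G : Cᵒᵖ ⥤ Type u), IsIndObject F → IsIndObject G →
      Function.Injective (fun φ : F ⟶ G => (u.op.lan : (Cᵒᵖ ⥤ Type u) ⥤ (C'ᵒᵖ ⥤ Type u)).map φ) := by
  constructor
  · intro hfaith F G _ hG φ φ' h
    dsimp only at h
    rw [Groth.Agent.Lib.Helper14.Lan.lan_map_eq_iff] at h
    haveI : Mono (u.op.lanUnit.app G) := by
      haveI : ∀ X : Cᵒᵖ, Mono ((u.op.lanUnit.app G).app X) := by
        intro X
        rw [mono_iff_injective]
        exact Groth.Agent.Lib.Helper14.Lan.unit_injective_of_faithful u hG X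
      exact NatTrans.mono_of_mono_app _
    exact (cancel_mono _).mp h
  · intro h
    constructor
    intro X X' f f' hff
    have := Groth.Agent.Lib.Helper14.Lan.lan_map_yoneda_eq_of_map_eq u f f' hff
    exact yoneda.map_injective ((h _ _ (isIndObject_yoneda X) (isIndObject_yoneda X')) this)

end Groth.Agent.S6135
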