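import Groth.Statements.S6136
import Groth.Agent.Lib.Helper14.Lan2

set_option autoImplicit false
open CategoryTheory CategoryTheory.Limits
universe u
open SGA4

namespace Groth.Agent.S6136

/-- Fully faithful case. Let `u : C ⥤ C'` be a functor between small categories and `u_!` the left Kan
extension functor on presheaves of sets, whose restriction to ind-representable presheaves is the
induced functor `Ind C ⥤ Ind C'`. Then `u` is full and faithful if and only if `u_!` is bijective on
morphisms between ind-representable presheaves. -/
theorem result
    {C : Type u} [SmallCategory C] {C' : Type u} [SmallCategory C'] (u : C ⥤ C') :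
    (u.Full ∧ u.Faithful) ↔ ∀ (F G : Cᵒᵖ ⥤ Type u), IsIndObject F → IsIndObject G →
      Function.Bijective (fun φ : F ⟶ G => (u.op.lan : (Cᵒᵖ ⥤ Type u) ⥤ (C'ᵒᵖ ⥤ Type u)).map φ) := by
  constructor
  · rintro ⟨hfull, hfaith⟩ F G _ _
    haveI : IsIso (u.op.lanAdjunction (Type u)).unit := inferInstance
    have hff := (u.op.lanAdjunction (Type u)).fullyFaithfulLOfIsIsoUnit
    exact ⟨fun a b hab => hff.map_injective hab, fun ψ => hff.map_surjective ψ⟩
  · intro h
    constructor
    · constructor
      intro X X' g
      exact Groth.Agent.Lib.Helper14.Lan.exists_map_eq_of_surjective u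
        (h _ _ (isIndObject_yoneda X) (isIndObject_yoneda X')).2 g
    · constructor
      intro X X' f f' hff
      have := Groth.Agent.Lib.Helper14.Lan.lan_map_yoneda_eq_of_map_eq u f f' hff
      exact yoneda.map_injective ((h _ _ (isIndObject_yoneda X) (isIndObject_yoneda X')).1 this)

end Groth.Agent.S6136
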