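import Groth.Statements.S6137
import Mathlib

set_option autoImplicit false
open CategoryTheory CategoryTheory.Limits
universe v u
open SGA4

namespace Groth.Agent.S6137

/-- Let `C` be a category with `v`-small hom-sets admitting all `v`-small limits, and `F : C ⥤ Type v` a
functor. Then `F` is corepresentable if and only if it is pro-representable (viewed as a presheaf on
`Cᵒᵖ` it is an ind-object, i.e. a small filtered colimit of corepresentable functors) and preserves
all `v`-small limits. -/
theorem result
    {C : Type u} [Category.{v} C] [HasLimitsOfSize.{v, v} C] (F : C ⥤ Type v) :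
    F.IsCorepresentable ↔
      IsIndObject (unopUnop C ⋙ F) ∧ PreservesLimitsOfSize.{v, v} F := by
  constructor
  · intro hF
    refine ⟨?_, ?_⟩
    · -- ind-object
      let X := F.coreprX
      let e : yoneda.obj (Opposite.op X) ≅ unopUnop C ⋙ coyoneda.obj (Opposite.op X) :=
        NatIso.ofComponents (fun Y => Equiv.toIso
          { toFun := fun f => f.unop
            invFun := fun g => g.op
            left_inv := fun _ => rfl
            right_inv := fun _ => rfl }) (by
          intro Y Z f
          ext g
          rfl)
      let e' : yoneda.obj (Opposite.op X) ≅ unopUnop C ⋙ F :=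
        e ≪≫ Functor.isoWhiskerLeft (unopUnop C) F.coreprW
      exact (isIndObject_yoneda (Opposite.op X)).map e'.hom
    · exact preservesLimits_of_natIso F.coreprW
  · rintro ⟨hind, hlim⟩
    rw [← Functor.Elements.hasInitial_iff_isCorepresentable]
    haveI : HasLimitsOfSize.{v, v} F.Elements := ⟨fun I _ => inferInstance⟩
    -- small weakly initial set
    obtain ⟨s, hs, hs'⟩ := @FinallySmall.exists_small_weakly_terminal_set.{v} _ _ hind.finallySmall
    let elt : CostructuredArrow yoneda (unopUnop C ⋙ F) → F.Elements := fun g =>
      ⟨g.left.unop, yonedaEquiv (F := unopUnop C ⋙ F) g.hom⟩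
    have helt : ∀ {i j : CostructuredArrow yoneda (unopUnop C ⋙ F)} (φ : i ⟶ j),
        Nonempty (elt j ⟶ elt i) := by
      intro i j φ
      refine ⟨⟨φ.left.unop, ?_⟩⟩
      have h1 := yonedaEquiv_naturality (F := unopUnop C ⋙ F) j.hom φ.left
      rw [CostructuredArrow.w φ] at h1
      exact h1
    let B : Shrink.{v} s → F.Elements := fun t => elt ((equivShrink s).symm t).1
    have hB : ∀ x : F.Elements, ∃ t, Nonempty (B t ⟶ x) := by
      intro x
      let g : CostructuredArrow yoneda (unopUnop C ⋙ F) :=
        CostructuredArrow.mk (Y := Opposite.op x.1)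
          (yonedaEquiv.symm (show (unopUnop C ⋙ F).obj (Opposite.op (Opposite.op x.1)) from x.2))
      obtain ⟨j, hj, ⟨φ⟩⟩ := hs' g
      refine ⟨equivShrink s ⟨j, hj⟩, ?_⟩
      have h2 : B (equivShrink s ⟨j, hj⟩) = elt j := by
        simp only [B, Equiv.symm_apply_apply]
      rw [h2]
      have h3 : elt g = x := by
        obtain ⟨X, a⟩ := x
        simp only [elt, g]
        congr 1
        exact Equiv.apply_symm_apply _ _
      rw [← h3]
      exact helt φ
    obtain ⟨T, hT⟩ := has_weakly_initial_of_weakly_initial_set_and_hasProducts hB
    exact hasInitial_of_weakly_initial_and_hasWideEqualizers hT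

end Groth.Agent.S6137
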