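import Groth.Statements.S6139
-- import your own Groth.Agent.* helpers here

set_option autoImplicit false
open CategoryTheory CategoryTheory.Limits
universe v u
open SGA4

namespace Groth.Agent.S6139

/-- If the empty sieve on `X` is covering for the canonical topology then `X` is initial. -/
theorem nonempty_isInitial_of_bot_mem {C : Type u} [Category.{v} C] (X : C)
    (h : (⊥ : Sieve X) ∈ Sheaf.canonicalTopology C X) : Nonempty (IsInitial X) := by
  have key : ∀ Z : C, ∃! t : X ⟶ Z, True := by
    intro Z
    have hs := Sheaf.isSheaf_yoneda_obj Z (⊥ : Sieve X) h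
    let x : Presieve.FamilyOfElements (yoneda.obj Z) ((⊥ : Sieve X) : Presieve X) :=
      fun _ _ hf => False.elim hf
    have hx : x.Compatible := fun _ _ _ _ _ _ _ h₁ => False.elim h₁
    obtain ⟨t, -, ht⟩ := hs x hx
    exact ⟨t, trivial, fun t' _ => ht t' (fun _ _ hf => False.elim hf)⟩
  choose t _ ht using key
  exact ⟨IsInitial.ofUniqueHom t (fun Y m => ht Y m trivial)⟩

/-- For an object `X` of a category `C`, the empty sieve on `X` is covering for the canonical topology
of `C` (the finest topology for which every representable presheaf is a sheaf) if and only if `X` is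
a strict initial object: `X` is initial and every morphism with target `X` is an isomorphism. (The
source phrases the first condition as: for some topology coarser than the canonical one the
associated sheaf of `h_X` is initial; that sheaf is initial exactly when the empty sieve covers `X`,
and coverage by the empty sieve passes to the finer canonical topology.) -/
theorem result
    {C : Type u} [Category.{v} C] (X : C) :
    (⊥ : Sieve X) ∈ Sheaf.canonicalTopology C X ↔
      (Nonempty (IsInitial X) ∧ ∀ (Y : C) (f : Y ⟶ X), IsIso f) := by
  constructor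
  · intro h
    obtain ⟨hX⟩ := nonempty_isInitial_of_bot_mem X h
    refine ⟨⟨hX⟩, fun Y f => ?_⟩
    have hY' : (⊥ : Sieve Y) ∈ Sheaf.canonicalTopology C Y := by
      have := (Sheaf.canonicalTopology C).pullback_stable f h
      rwa [Sieve.pullback_bot] at this
    obtain ⟨hY⟩ := nonempty_isInitial_of_bot_mem Y hY'
    exact ⟨hX.to Y, hY.hom_ext _ _, hX.hom_ext _ _⟩
  · rintro ⟨⟨hX⟩, hiso⟩
    apply Sheaf.mem_finestTopology_of_forall_isSheafFor
    rintro _ ⟨Z, rfl⟩ Y f
    rw [Sieve.pullback_bot]
    have := hiso Y f
    have hY : IsInitial Y := hX.ofIso (asIso f).symm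
    intro x _
    refine ⟨hY.to Z, fun _ _ hf => False.elim hf, fun t' _ => hY.hom_ext _ _⟩

end Groth.Agent.S6139
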