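import Groth.Statements.S6141
import Mathlib
-- import your own Groth.Agent.* helpers here

set_option autoImplicit false
open CategoryTheory
universe u
open SGA4

namespace Groth.Agent.S6141

/-- Let `u : C ⥤ C'` be a functor between small sites which is continuous and cocontinuous. If `u` is
full and faithful, then the left adjoint `u_!` of the restriction functor `u^*` on sheaves of sets
is full and faithful. -/
theorem result
    {C : Type u} [SmallCategory C] {C' : Type u} [SmallCategory C']
    (J : GrothendieckTopology C) (K : GrothendieckTopology C') (u : C ⥤ C')
    [u.IsContinuous J K] [u.IsCocontinuous J K] [u.Full] [u.Faithful] :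
    (u.sheafPullback (Type u) J K).Full ∧ (u.sheafPullback (Type u) J K).Faithful := by
  let t : Adjunction.Triple (u.sheafPullback (Type u) J K)
      (u.sheafPushforwardContinuous (Type u) J K) (u.sheafPushforwardCocontinuous (Type u) J K) :=
    ⟨u.sheafAdjunctionContinuous (Type u) J K, u.sheafAdjunctionCocontinuous (Type u) J K⟩
  have hcounit : IsIso t.adj₂.counit := by
    apply (config := { allowSynthFailures := true }) NatIso.isIso_of_isIso_app
    intro F
    have h1 : IsIso ((sheafToPresheaf J (Type u)).map
        ((u.sheafAdjunctionCocontinuous (Type u) J K).counit.app F)) := by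
      show IsIso ((u.sheafAdjunctionCocontinuous (Type u) J K).counit.app F).hom
      rw [Functor.sheafAdjunctionCocontinuous_counit_app_hom]
      have h2 : IsIso ((u.op.ranAdjunction (Type u)).counit.app F.obj) := inferInstance
      exact h2
    exact isIso_of_reflects_iso _ (sheafToPresheaf J (Type u))
  have hunit : IsIso t.adj₁.unit := t.isIso_unit_iff_isIso_counit.mpr hcounit
  exact ⟨(t.adj₁.fullyFaithfulLOfIsIsoUnit).full, (t.adj₁.fullyFaithfulLOfIsIsoUnit).faithful⟩

end Groth.Agent.S6141
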