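import Groth.Statements.S6142
import Mathlib

set_option autoImplicit false
open CategoryTheory
universe u
open SGA4

namespace Groth.Agent.S6142

/-- Let `u : C ⥤ C'` be a continuous and cocontinuous functor between small sites whose topologies are
subcanonical. If the left adjoint `u_!` of the restriction functor `u^*` on sheaves of sets is full
and faithful, then `u` is full and faithful. -/
theorem result
    {C : Type u} [SmallCategory C] {C' : Type u} [SmallCategory C']
    (J : GrothendieckTopology C) (K : GrothendieckTopology C') [J.Subcanonical] [K.Subcanonical]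
    (u : C ⥤ C') [u.IsContinuous J K] [u.IsCocontinuous J K]
    (h : (u.sheafPullback (Type u) J K).Full ∧ (u.sheafPullback (Type u) J K).Faithful) :
    u.Full ∧ u.Faithful := by
  classical
  obtain ⟨hfull, hfaith⟩ := h
  obtain ⟨L, hL⟩ : ∃ L, L = u.sheafPullback (Type u) J K := ⟨_, rfl⟩
  have adj : L ⊣ u.sheafPushforwardContinuous (Type u) J K := by
    rw [hL]; exact u.sheafAdjunctionContinuous (Type u) J K
  haveI : L.Full := by rw [hL]; exact hfull
  haveI : L.Faithful := by rw [hL]; exact hfaith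
  -- Φ
  let Φ : ∀ (X : C) (G : Sheaf K (Type u)), (L.obj (J.yoneda.obj X) ⟶ G) ≃
      G.obj.obj (Opposite.op (u.obj X)) :=
    fun X G => (adj.homEquiv _ _).trans
      (J.yonedaEquiv (F := (u.sheafPushforwardContinuous (Type u) J K).obj G))
  -- naturality in G
  have Φ_right : ∀ (X : C) (G G' : Sheaf K (Type u)) (φ : L.obj (J.yoneda.obj X) ⟶ G) (γ : G ⟶ G'),
      Φ X G' (φ ≫ γ) = γ.hom.app (Opposite.op (u.obj X)) (Φ X G φ) := by
    intro X G G' φ γ
    simp only [Φ, Equiv.trans_apply]
    rw [adj.homEquiv_naturality_right]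
    exact (J.yonedaEquiv_comp _ _).trans rfl
  -- naturality in X
  have Φ_left : ∀ (X Y : C) (f : X ⟶ Y) (G : Sheaf K (Type u)) (φ : L.obj (J.yoneda.obj Y) ⟶ G),
      Φ X G (L.map (J.yoneda.map f) ≫ φ) = G.obj.map (u.map f).op (Φ Y G φ) := by
    intro X Y f G φ
    simp only [Φ, Equiv.trans_apply]
    rw [adj.homEquiv_naturality_left]
    exact (J.yonedaEquiv_naturality _ _).symm.trans rfl
  -- the comparison maps
  let a : ∀ X : C, L.obj (J.yoneda.obj X) ⟶ K.yoneda.obj (u.obj X) :=
    fun X => (Φ X (K.yoneda.obj (u.obj X))).symm (𝟙 (u.obj X))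
  let b : ∀ X : C, K.yoneda.obj (u.obj X) ⟶ L.obj (J.yoneda.obj X) :=
    fun X => K.yonedaEquiv.symm (Φ X _ (𝟙 _))
  have ha : ∀ X, Φ X _ (a X) = 𝟙 (u.obj X) := fun X => Equiv.apply_symm_apply _ _
  have hab : ∀ X, a X ≫ b X = 𝟙 _ := by
    intro X
    apply (Φ X _).injective
    rw [Φ_right, ha]
    have : K.yonedaEquiv (b X) = Φ X _ (𝟙 _) := Equiv.apply_symm_apply _ _
    rw [← this, K.yonedaEquiv_apply]
  have hba : ∀ X, b X ≫ a X = 𝟙 _ := by
    intro X
    apply K.yonedaEquiv.injective
    rw [K.yonedaEquiv_comp]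
    have : K.yonedaEquiv (b X) = Φ X _ (𝟙 _) := Equiv.apply_symm_apply _ _
    rw [this, ← Φ_right, Category.id_comp, ha]
    exact (K.yonedaEquiv_yoneda_map (𝟙 (u.obj X))).symm.trans (by rw [CategoryTheory.Functor.map_id])
  -- key computation
  have key1 : ∀ (X Y : C) (f : X ⟶ Y), Φ X _ (L.map (J.yoneda.map f) ≫ a Y) = u.map f := by
    intro X Y f
    rw [Φ_left, ha]
    exact Category.comp_id _
  have key2 : ∀ (X Y : C) (g : u.obj X ⟶ u.obj Y), Φ X _ (a X ≫ K.yoneda.map g) = g := by
    intro X Y g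
    rw [Φ_right, ha]
    exact Category.id_comp _
  refine ⟨⟨?_⟩, ⟨?_⟩⟩
  · intro X Y g
    obtain ⟨φ, hφ⟩ := L.map_surjective (a X ≫ K.yoneda.map g ≫ b Y)
    refine ⟨J.yonedaEquiv φ, ?_⟩
    have hφ' : φ = J.yoneda.map (J.yonedaEquiv φ) := by
      apply J.yonedaEquiv.injective
      rw [J.yonedaEquiv_yoneda_map]
    rw [← key1, ← hφ', hφ, Category.assoc, Category.assoc, hba, Category.comp_id, key2]
  · intro X Y f f' hff
    have h1 : L.map (J.yoneda.map f) ≫ a Y = L.map (J.yoneda.map f') ≫ a Y := by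
      apply (Φ X _).injective
      rw [key1, key1, hff]
    have h2 : L.map (J.yoneda.map f) = L.map (J.yoneda.map f') := by
      have := congrArg (· ≫ b Y) h1
      simpa only [Category.assoc, hab, Category.comp_id] using this
    have h3 := L.map_injective h2
    rw [← J.yonedaEquiv_yoneda_map f, h3, J.yonedaEquiv_yoneda_map]

end Groth.Agent.S6142
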