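import Groth.Statements.S6144
import Mathlib

set_option autoImplicit false
open CategoryTheory CategoryTheory.Limits
universe w v u
open SGA4

namespace Groth.Agent.S6144

/-- Let `E` be a category with `v`-small hom-sets and pullbacks, admitting a detecting family of objects
indexed by a `v`-small type (maps out of the family jointly reflect isomorphisms). Then every
detecting family `Y : I → E`, indexed by an arbitrary type, contains a detecting subfamily indexed
by a `v`-small subset of `I`. -/
theorem result
    {E : Type u} [Category.{v} E] [HasPullbacks E] {κ : Type v} (G : κ → E)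
    (hG : (ObjectProperty.ofObj G).IsDetecting) {I : Type w} (Y : I → E)
    (hY : (ObjectProperty.ofObj Y).IsDetecting) :
    ∃ J : Set I, Small.{v} J ∧ (ObjectProperty.ofObj (fun j : J => Y j)).IsDetecting := by
  classical
  haveI : WellPowered.{v} E := wellPowered_of_isDetecting hG
  let T := Σ k : κ, {A : Subobject (G k) // A ≠ ⊤}
  have hch : ∀ t : T, ∃ (i : I) (y : Y i ⟶ G t.1), ¬ t.2.1.Factors y := by
    intro t
    by_contra hcon
    push Not at hcon
    have hiso : IsIso t.2.1.arrow := by
      apply hY
      rintro Z ⟨i⟩ h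
      refine ⟨t.2.1.factorThru h (hcon i h), Subobject.factorThru_arrow _ _ _, ?_⟩
      intro h' hh'
      rw [← cancel_mono t.2.1.arrow, hh', Subobject.factorThru_arrow]
    exact t.2.2 (Subobject.eq_top_of_isIso_arrow _)
  choose ci cy hcy using hch
  refine ⟨Set.range ci, small_range ci, ?_⟩
  -- the mono case
  have hM : ∀ ⦃A B : E⦄ (m : A ⟶ B) [Mono m],
      (∀ (t : T) (h : Y (ci t) ⟶ B), ∃ h', h' ≫ m = h) → IsIso m := by
    intro A B m _ hm
    apply hG
    rintro Z ⟨k⟩ g
    suffices hex : ∃ g' : G k ⟶ A, g' ≫ m = g by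
      obtain ⟨g', hg'⟩ := hex
      exact ⟨g', hg', fun g'' hg'' => by rw [← cancel_mono m, hg'', hg']⟩
    let m' := pullback.snd m g
    by_cases hS : Subobject.mk m' = ⊤
    · haveI : IsIso m' := (Subobject.isIso_iff_mk_eq_top m').2 hS
      refine ⟨inv m' ≫ pullback.fst m g, ?_⟩
      rw [Category.assoc, pullback.condition, ← Category.assoc, IsIso.inv_hom_id, Category.id_comp]
    · exfalso
      let t : T := ⟨k, Subobject.mk m', hS⟩
      obtain ⟨h', hh'⟩ := hm t (cy t ≫ g)
      apply hcy t
      change (Subobject.mk m').Factors (cy t)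
      rw [Subobject.mk_factors_iff]
      exact ⟨pullback.lift h' (cy t) hh', pullback.lift_snd _ _ _⟩
  intro A B f hf
  have hf' : ∀ (t : T) (h : Y (ci t) ⟶ B), ∃! h', h' ≫ f = h := fun t h =>
    hf _ (ObjectProperty.ofObj_apply (fun j : Set.range ci => Y j) ⟨ci t, t, rfl⟩) h
  -- f is mono
  haveI : Mono f := by
    let δ : A ⟶ pullback f f := pullback.lift (𝟙 A) (𝟙 A) rfl
    haveI : Mono δ := mono_of_mono_fac (pullback.lift_fst (𝟙 A) (𝟙 A) rfl)
    haveI : IsIso δ := by
      apply hM
      intro t h
      have h1 : (h ≫ pullback.fst f f) ≫ f = (h ≫ pullback.snd f f) ≫ f := by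
        rw [Category.assoc, Category.assoc, pullback.condition]
      obtain ⟨a, -, ha⟩ := hf' t ((h ≫ pullback.fst f f) ≫ f)
      have e1 : h ≫ pullback.fst f f = a := ha _ rfl
      have e2 : h ≫ pullback.snd f f = a := ha _ h1.symm
      refine ⟨a, ?_⟩
      apply pullback.hom_ext
      · rw [Category.assoc, pullback.lift_fst, Category.comp_id, e1]
      · rw [Category.assoc, pullback.lift_snd, Category.comp_id, e2]
    have hfs : pullback.fst f f = pullback.snd f f := by
      rw [← cancel_epi δ, pullback.lift_fst, pullback.lift_snd]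
    constructor
    intro Z a b hab
    have h2 : pullback.lift a b hab ≫ pullback.fst f f = pullback.lift a b hab ≫ pullback.snd f f := by
      rw [hfs]
    rw [pullback.lift_fst, pullback.lift_snd] at h2
    exact h2
  exact hM f (fun t h => (hf' t h).exists)

end Groth.Agent.S6144
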