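import Groth.Statements.S6152
import Mathlib
import Groth.Agent.Lib.Helper21.ModFree
-- import your own Groth.Agent.* helpers here

set_option autoImplicit false
universe u
open CategoryTheory
open ModSite

namespace Groth.Agent.S6152

/-- Second assertion (ringed topos of sheaves on a small site (C, J) with commutative structure sheaf
O): if G is a topologically generating family of objects (every object of C admits a covering family
by members of G), then the free O-modules A_X = j_{X!}(O|X), X in G, form a generating family of the
category of O-modules; stated as: this family detects isomorphisms and is separating. -/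
theorem result {C : Type u} [SmallCategory C] {J : GrothendieckTopology C}
    (O : Sheaf J CommRingCat.{u}) (G : Set C)
    (hG : ∀ X : C, ∃ (ι : Type u) (Y : ι → C) (f : ∀ i, Y i ⟶ X), Sieve.ofArrows Y f ∈ J X ∧ ∀ i, Y i ∈ G) :
    (ObjectProperty.ofObj fun X : G => ModSite.freeOn O (X : C)).IsDetecting ∧
    (ObjectProperty.ofObj fun X : G => ModSite.freeOn O (X : C)).IsSeparating := by
  have hsep : (ObjectProperty.ofObj fun X : G => ModSite.freeOn O (X : C)).IsSeparating := by
    intro M N f g hfg
    -- agreement on sections over members of `G`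
    have h1 : ∀ (X : C), X ∈ G → ∀ m : M.val.obj (Opposite.op X),
        f.val.app (Opposite.op X) m = g.val.app (Opposite.op X) m := by
      intro X hX m
      have := hfg _ (ObjectProperty.ofObj_apply (fun X : G => ModSite.freeOn O (X : C)) ⟨X, hX⟩)
        ((Groth.Agent.Lib.Helper21.ModFree.freeOnHomEquiv O X M).symm m)
      have h2 := congrArg (Groth.Agent.Lib.Helper21.ModFree.freeOnHomEquiv O X N) this
      rw [Groth.Agent.Lib.Helper21.ModFree.freeOnHomEquiv_comp,
        Groth.Agent.Lib.Helper21.ModFree.freeOnHomEquiv_comp, Equiv.apply_symm_apply] at h2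
      exact h2
    apply SheafOfModules.hom_ext
    apply PresheafOfModules.hom_ext
    intro W
    obtain ⟨W⟩ := W
    ext m
    obtain ⟨ι, Yf, p, hcov, hY⟩ := hG W
    refine (Presheaf.IsSheaf.isSeparated N.isSheaf) W _ hcov _ _ ?_
    rintro Z q ⟨T, a, b, ⟨i⟩, rfl⟩
    have e1 := PresheafOfModules.naturality_apply f.val (a ≫ p i).op m
    have e2 := PresheafOfModules.naturality_apply g.val (a ≫ p i).op m
    show N.val.map (a ≫ p i).op (f.val.app (Opposite.op W) m) =
      N.val.map (a ≫ p i).op (g.val.app (Opposite.op W) m)
    rw [← e1, ← e2]
    have e3 : M.val.map (a ≫ p i).op m = M.val.map a.op (M.val.map (p i).op m) :=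
      (Groth.Agent.Lib.Helper21.ModFree.map_map_apply O M (p i) a m).symm
    rw [e3]
    have e4 := PresheafOfModules.naturality_apply f.val a.op (M.val.map (p i).op m)
    have e5 := PresheafOfModules.naturality_apply g.val a.op (M.val.map (p i).op m)
    rw [e4, e5, h1 (Yf i) (hY i)]
  exact ⟨hsep.isDetecting, hsep⟩

end Groth.Agent.S6152
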