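import Groth.Statements.S6160
import Mathlib
import Groth.Agent.Lib.Helper21.ModSh
-- import your own Groth.Agent.* helpers here

set_option autoImplicit false
universe u
open CategoryTheory
open ModSite

namespace Groth.Agent.S6160

open CategoryTheory.Limits in
/-- Ringed topos of sheaves on a small site; u : A -> B a morphism of sheaves of rings: the
restriction-of-scalars functor from B-Modules to A-Modules commutes with all u-small limits and
colimits and is conservative. -/
theorem result {C : Type u} [SmallCategory C]
    {J : GrothendieckTopology C} {A B : Sheaf J RingCat.{u}} (φ : A ⟶ B) :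
    PreservesLimitsOfSize.{u, u} (SheafOfModules.restrictScalars.{u} φ) ∧
    PreservesColimitsOfSize.{u, u} (SheafOfModules.restrictScalars.{u} φ) ∧
    (SheafOfModules.restrictScalars.{u} φ).ReflectsIsomorphisms := by
  have hA_lim := Groth.Agent.Lib.Helper21.ModSh.toSheaf_preservesLimits A
  have hA_colim := Groth.Agent.Lib.Helper21.ModSh.toSheaf_preservesColimits A
  have hB_lim := Groth.Agent.Lib.Helper21.ModSh.toSheaf_preservesLimits B
  have hB_colim := Groth.Agent.Lib.Helper21.ModSh.toSheaf_preservesColimits B
  have hcomp : SheafOfModules.restrictScalars.{u} φ ⋙ SheafOfModules.toSheaf.{u} A =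
      SheafOfModules.toSheaf.{u} B := rfl
  have hrA_lim : ReflectsLimitsOfSize.{u, u} (SheafOfModules.toSheaf.{u} A) :=
    reflectsLimits_of_reflectsIsomorphisms
  have hrA_colim : ReflectsColimitsOfSize.{u, u} (SheafOfModules.toSheaf.{u} A) :=
    reflectsColimits_of_reflectsIsomorphisms
  refine ⟨?_, ?_, ?_⟩
  · have : PreservesLimitsOfSize.{u, u}
        (SheafOfModules.restrictScalars.{u} φ ⋙ SheafOfModules.toSheaf.{u} A) := by
      rw [hcomp]; exact hB_lim
    exact preservesLimits_of_reflects_of_preserves _ (SheafOfModules.toSheaf.{u} A)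
  · have : PreservesColimitsOfSize.{u, u}
        (SheafOfModules.restrictScalars.{u} φ ⋙ SheafOfModules.toSheaf.{u} A) := by
      rw [hcomp]; exact hB_colim
    exact preservesColimits_of_reflects_of_preserves _ (SheafOfModules.toSheaf.{u} A)
  · have : (SheafOfModules.restrictScalars.{u} φ ⋙ SheafOfModules.toSheaf.{u} A).ReflectsIsomorphisms := by
      rw [hcomp]; infer_instance
    exact reflectsIsomorphisms_of_comp _ (SheafOfModules.toSheaf.{u} A)

end Groth.Agent.S6160
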