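import Groth.Statements.S6163
import Mathlib
import Groth.Agent.Lib.Helper21.PushSS
import Groth.Agent.Lib.Helper21.DerivedComm
-- import your own Groth.Agent.* helpers here

set_option autoImplicit false
universe u
open CategoryTheory
open scoped ZeroObject
open CohSite

namespace Groth.Agent.S6163

open CategoryTheory.Limits in
/-- Existence form (abelian sheaves; the two morphisms of topoi are given by continuous functors u : D
-> C and w : B -> D between small sites with exact pullback on sheaves of sets; the composite
morphism is given by w followed by u, whose continuity is recorded by a binder that always holds):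
for an abelian sheaf M on C there is a bounded E_2 spectral sequence of abelian sheaves on B with
E_2^{p,q} isomorphic to R^p w_*(R^q u_* M) for p, q >= 0 and zero otherwise, with abutment data
whose filtrations are finite on R^n (u w)_* M (n >= 0; zero for n < 0). The E_2 identifications and
abutment isomorphisms are asserted to exist only, not pinned to the canonical maps. -/
theorem result {C D B : Type u} [SmallCategory C] [SmallCategory D]
    [SmallCategory B] (J : GrothendieckTopology C) (K : GrothendieckTopology D) (L : GrothendieckTopology B)
    (u : D ⥤ C) [u.IsContinuous K J] [PreservesFiniteLimits (u.sheafPullback (Type u) K J)]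
    (w : B ⥤ D) [w.IsContinuous L K] [PreservesFiniteLimits (w.sheafPullback (Type u) L K)]
    [(w ⋙ u).IsContinuous L J] (M : Sheaf J AddCommGrpCat.{u}) :
    ∃ (E : E₂CohomologicalSpectralSequence (Sheaf L AddCommGrpCat.{u}))
      (a : SpSeq.Abutment E (fun n : ℤ =>
        if 0 ≤ n then (CohSite.Rpush J L (w ⋙ u) n.toNat).obj M else 0)),
      (∀ n, a.IsFinite n) ∧ SpSeq.IsBounded E ∧
      ∀ p q : ℤ, Nonempty ((E.page 2 le_rfl).X (p, q) ≅
        (if 0 ≤ p ∧ 0 ≤ q then (CohSite.Rpush K L w p.toNat).obj ((CohSite.Rpush J K u q.toNat).obj M) else 0)) := by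
  have hu : PreservesFiniteLimits (u.sheafPullback (Type u) K J) := inferInstance
  let T := CohSite.push J K u
  let S := CohSite.push K L w
  refine Groth.Agent.Lib.helper27.SSGroth.grothendieck_ss_nat T S ?_ M
    (fun n => (CohSite.Rpush J L (w ⋙ u) n).obj M) ?_
    (fun p q => (CohSite.Rpush K L w p).obj ((CohSite.Rpush J K u q).obj M)) ?_ _ _ ?_ ?_
  · intro Q hQ q hq
    have := Groth.Agent.Lib.helper21.PushSS.push_injective J K u hu Q
    obtain ⟨j, rfl⟩ : ∃ j, q = j + 1 := ⟨q - 1, by omega⟩
    exact S.isZero_rightDerived_obj_injective_succ j _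
  · intro k
    exact ⟨(Groth.Agent.Lib.Helper21.DerivedComm.rightDerivedIso
      (Functor.sheafPushforwardContinuousComp w u AddCommGrpCat.{u} L K J).symm k).app M⟩
  · intro k l
    exact ⟨Iso.refl _⟩
  · exact isZero_zero _
  · exact isZero_zero _

end Groth.Agent.S6163
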