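import Groth.Statements.S6167
import Mathlib
import Groth.Agent.Lib.Helper21.LocFac2
-- import your own Groth.Agent.* helpers here

set_option autoImplicit false
universe u
open CategoryTheory
open ModSite

namespace Groth.Agent.S6167

/-- Ringed site (C, O), small, with commutative structure sheaf: a morphism from an O-module of finite
presentation (Mathlib's notion: over some family of objects covering every object, a cokernel of a
map of finite free modules) to a flat O-module factors, locally on the site, through a finite free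
module: for every object X there is a covering family (Y_i -> X) and for each i a factorisation
F|Y_i -> (O|Y_i)^n -> H|Y_i of the restricted morphism. -/
theorem result {C : Type u} [SmallCategory C] {J : GrothendieckTopology C}
    (O : Sheaf J CommRingCat.{u}) (F H : ModSite.Mod O) [F.IsFinitePresentation] (hH : ModSite.IsFlat H)
    (φ : F ⟶ H) (X : C) :
    ∃ (ι : Type u) (Y : ι → C) (g : ∀ i, Y i ⟶ X), Sieve.ofArrows Y g ∈ J X ∧
      ∀ i, ∃ (n : ℕ) (a : (ModSite.restr O (Y i)).obj F ⟶ SheafOfModules.free (ULift.{u} (Fin n)))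
        (b : SheafOfModules.free (ULift.{u} (Fin n)) ⟶ (ModSite.restr O (Y i)).obj H),
        a ≫ b = (ModSite.restr O (Y i)).map φ := by
  classical
  obtain ⟨σ, hσ⟩ := SheafOfModules.IsFinitePresentation.exists_quasicoherentData F
  choose S hS hS' using fun j =>
    @Groth.Agent.Lib.Helper21.LocFac2.FP0 C _ J O F H hH φ (σ.X j) (σ.presentation j)
      (hσ.isFinite_presentation j)
  let S₀ : Sieve X := Sieve.ofObjects σ.X X
  have hS₀ : S₀ ∈ J X := σ.coversTop X
  have hex : ∀ ⦃W : C⦄ ⦃w : W ⟶ X⦄, S₀ w → ∃ (j : σ.I), Nonempty (W ⟶ σ.X j) :=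
    fun W w hw => (Sieve.mem_ofObjects_iff ..).mp hw
  let Tb : Sieve X := Sieve.bind S₀.arrows
    (fun W w hw => (S (hex hw).choose).pullback (hex hw).choose_spec.some)
  have hTb : Tb ∈ J X := J.bind_covering hS₀ (fun W w hw => J.pullback_stable _ (hS _))
  refine ⟨Σ V : C, {v : V ⟶ X // Tb v}, fun i => i.1, fun i => i.2.1, ?_, ?_⟩
  · refine J.superset_covering ?_ hTb
    intro V v hv
    exact Sieve.ofArrows_mk _ _ (⟨V, v, hv⟩ : Σ V : C, {v : V ⟶ X // Tb v})
  · rintro ⟨V, v, hv⟩
    obtain ⟨W, g, w, hw, hg, -⟩ := hv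
    exact hS' _ (g ≫ (hex hw).choose_spec.some) hg

end Groth.Agent.S6167
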