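import Groth.Statements.S6172
import Mathlib
-- import your own Groth.Agent.* helpers here

set_option autoImplicit false
universe u
open CategoryTheory
open SGA4

namespace Groth.Agent.S6172

section helpers
open Limits MonoidalCategory CartesianMonoidalCategory

variable {E : Type*} [Category E] [CartesianMonoidalCategory E] [HasBinaryProducts E]

/-- `Limits.prod` vs the chosen tensor product -/
noncomputable def prodIsoTensor (Z W : E) : Z ⨯ W ≅ Z ⊗ W :=
  IsLimit.conePointUniqueUpToIso (limit.isLimit (pair Z W)) (tensorProductIsBinaryProduct Z W)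

theorem prodIsoTensor_hom_fst (Z W : E) : (prodIsoTensor Z W).hom ≫ fst Z W = prod.fst :=
  IsLimit.conePointUniqueUpToIso_hom_comp (limit.isLimit (pair Z W))
    (tensorProductIsBinaryProduct Z W) ⟨WalkingPair.left⟩

theorem prodIsoTensor_hom_snd (Z W : E) : (prodIsoTensor Z W).hom ≫ snd Z W = prod.snd :=
  IsLimit.conePointUniqueUpToIso_hom_comp (limit.isLimit (pair Z W))
    (tensorProductIsBinaryProduct Z W) ⟨WalkingPair.right⟩

theorem star_forget_map (Z : E) {W W' : E} (f : W ⟶ W') :
    (Over.star Z ⋙ Over.forget Z).map f = (prod.map (𝟙 Z) f : Z ⨯ W ⟶ Z ⨯ W') := by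
  simp

theorem nat_aux (Z : E) {W W' : E} (f : W ⟶ W') :
    (prod.map (𝟙 Z) f : Z ⨯ W ⟶ Z ⨯ W') ≫ (prodIsoTensor Z W').hom =
      (prodIsoTensor Z W).hom ≫ (Z ◁ f) := by
  apply CartesianMonoidalCategory.hom_ext
  · rw [Category.assoc, Category.assoc, prodIsoTensor_hom_fst, whiskerLeft_fst,
      prodIsoTensor_hom_fst]
    simp
  · rw [Category.assoc, Category.assoc, prodIsoTensor_hom_snd, whiskerLeft_snd,
      ← Category.assoc, prodIsoTensor_hom_snd]
    simp

/-- the composite of `Over.star` and `Over.forget` is tensoring on the left -/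
noncomputable def starForgetIso (Z : E) : Over.star Z ⋙ Over.forget Z ≅ tensorLeft Z :=
  NatIso.ofComponents (fun W => prodIsoTensor Z W) (by
    intro W W' f
    exact (congrArg (· ≫ (prodIsoTensor Z W').hom) (star_forget_map Z f)).trans (nat_aux Z f))

end helpers

open CategoryTheory.Limits MonoidalCategory in
/-- Topos E of sheaves of sets on a small site, localised at an object Z: with j_Z : E/Z -> E the
localisation morphism, j_Z^* X = Z x X over Z, and j_{Z*} its right adjoint (taken as an instance
hypothesis, which holds in any topos), j_{Z*} j_Z^* Y is isomorphic to the internal hom Hom(Z, Y)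
for every object Y. Existence of an isomorphism only (the source's is canonical). -/
theorem result {C : Type u} [SmallCategory C] (J : GrothendieckTopology C)
    (Z Y : Sheaf J (Type u)) [(Over.star Z).IsLeftAdjoint] :
    Nonempty (((Over.star Z).rightAdjoint).obj ((Over.star Z).obj Y) ≅ (ihom Z).obj Y) := by
  let adjR : Over.star Z ⊣ (Over.star Z).rightAdjoint := Adjunction.ofIsLeftAdjoint (Over.star Z)
  let adj1 : Over.star Z ⋙ Over.forget Z ⊣ Over.star Z ⋙ (Over.star Z).rightAdjoint :=
    adjR.comp (Over.forgetAdjStar Z)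
  let adj2 : MonoidalCategory.tensorLeft Z ⊣ Over.star Z ⋙ (Over.star Z).rightAdjoint :=
    adj1.ofNatIsoLeft (starForgetIso Z)
  exact ⟨(adj2.rightAdjointUniq (ihom.adjunction Z)).app Y⟩

end Groth.Agent.S6172
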