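import Groth.Statements.S6173
import Mathlib
import Groth.Agent.Lib.Helper21.NonAb
-- import your own Groth.Agent.* helpers here

set_option autoImplicit false
universe u
open CategoryTheory
open SGA4

namespace Groth.Agent.S6173


section helpers

open Opposite GrothendieckTopology

variable {C : Type u} [SmallCategory C] (J : GrothendieckTopology C)

/-- a morphism of sheaves of types which is bijective on every object mapping to a member of a
family covering the final object is an isomorphism -/
lemma isIso_of_local {ι : Type u} (X : ι → C) (hX : J.CoversTop X) {K L : Sheaf J (Type u)}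
    (f : K ⟶ L)
    (hf : ∀ (V : C) (i : ι) (_ : V ⟶ X i), Function.Bijective (f.hom.app (op V))) :
    IsIso f := by
  have hbij : ∀ W : C, Function.Bijective (f.hom.app (op W)) := by
    intro W
    have hW : Sieve.ofObjects X W ∈ J W := hX W
    constructor
    · intro a b hab
      refine Groth.Agent.Lib.Helper21.NonAb.sh_sep K _ hW a b ?_
      rintro V g ⟨i, ⟨φ⟩⟩
      apply (hf V i φ).1
      have h1 := NatTrans.naturality_apply f.hom g.op a
      have h2 := NatTrans.naturality_apply f.hom g.op b
      rw [h1, h2, hab]
    · intro c
      obtain ⟨p, hp⟩ := Groth.Agent.Lib.Helper21.NonAb.sh_glue' K _ hW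
        (fun T φ z => (Sieve.ofObjects X W).arrows φ ∧ f.hom.app (op T) z = L.obj.map φ.op c)
        (by
          rintro T φ ⟨i, ⟨ψ⟩⟩
          obtain ⟨z, hz⟩ := (hf T i ψ).2 (L.obj.map φ.op c)
          exact ⟨z, ⟨i, ⟨ψ⟩⟩, hz⟩)
        (by
          rintro T φ z z' ⟨⟨i, ⟨ψ⟩⟩, hz⟩ ⟨-, hz'⟩
          exact (hf T i ψ).1 (hz.trans hz'.symm))
        (by
          rintro T T' φ ψ z ⟨hφ, hz⟩
          refine ⟨(Sieve.ofObjects X W).downward_closed hφ ψ, ?_⟩
          have h1 := NatTrans.naturality_apply f.hom ψ.op z
          rw [h1, hz]
          exact Groth.Agent.Lib.Helper21.NonAb.sh_map_comp L φ ψ c)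
      refine ⟨p, ?_⟩
      refine Groth.Agent.Lib.Helper21.NonAb.sh_sep L _ hW _ _ ?_
      intro T φ hφ
      have h1 := NatTrans.naturality_apply f.hom φ.op p
      rw [← h1]
      exact (hp φ hφ).2
  have : IsIso ((sheafToPresheaf J (Type u)).map f) := by
    have : ∀ W : Cᵒᵖ, IsIso (f.hom.app W) := fun W =>
      (isIso_iff_bijective _).2 (hbij W.unop)
    exact NatIso.isIso_of_isIso_app (α := f.hom)
  exact isIso_of_reflects_iso f (sheafToPresheaf J (Type u))

end helpers

/-- Second assertion (topos of sheaves on a small site (C, J); E/X_i the induced topoi, modelled by the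
sites (C/X_i, J/X_i); 'enough points' = a small conservative family of points, equivalently all
fibre functors together are conservative): if (X_i) is a family of objects covering the final object
and every E/X_i has enough points, then E has enough points. (The first assertion, that E/X inherits
enough points from E, is Mathlib's instance.) -/
theorem result {C : Type u} [SmallCategory C] (J : GrothendieckTopology C) {ι : Type u}
    (X : ι → C) (hX : J.CoversTop X) (h : ∀ i, GrothendieckTopology.HasEnoughPoints.{u} (J.over (X i))) :
    GrothendieckTopology.HasEnoughPoints.{u} J := by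
  classical
  have h' := fun i => (h i).exists_objectProperty
  choose P hPs hPc using h'
  let Q : (Σ i, (P i).FullSubcategory) → GrothendieckTopology.Point.{u} J :=
    fun ψ => ψ.2.obj.map (Over.forget (X ψ.1)) J
  refine ⟨ObjectProperty.ofObj Q, inferInstance, ⟨⟨?_⟩⟩⟩
  intro K L f hf
  apply isIso_of_local J X hX f
  intro V i a
  have hR : IsIso (((Over.forget (X i)).sheafPushforwardContinuous (Type u) (J.over (X i)) J).map f) := by
    apply ((hPc i).jointlyReflectIsomorphisms_type.isIso_iff _).2
    intro Φ
    have h1 : IsIso ((Q ⟨i, Φ⟩).sheafFiber.map f) :=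
      hf (⟨Q ⟨i, Φ⟩, ObjectProperty.ofObj_apply Q ⟨i, Φ⟩⟩ : (ObjectProperty.ofObj Q).FullSubcategory)
    have e := Φ.obj.sheafFiberMapIso (Over.forget (X i)) J (Type u)
    exact (NatIso.isIso_map_iff e f).1 h1
  have h2 : IsIso ((sheafToPresheaf _ _).map
      (((Over.forget (X i)).sheafPushforwardContinuous (Type u) (J.over (X i)) J).map f)) :=
    inferInstance
  have h3 : IsIso (((sheafToPresheaf _ _).map
      (((Over.forget (X i)).sheafPushforwardContinuous (Type u) (J.over (X i)) J).map f)).app
        (Opposite.op (Over.mk a))) := inferInstance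
  exact (isIso_iff_bijective _).1 h3

end Groth.Agent.S6173
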