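import Groth.Statements.S6177
import Mathlib
-- import your own Groth.Agent.* helpers here

set_option autoImplicit false
universe u
open CategoryTheory
open SGA4

namespace Groth.Agent.S6177


section helpers

open CategoryTheory.Limits MonoidalCategory CartesianMonoidalCategory

variable {E : Type*} [Category* E] [CartesianMonoidalCategory E] [mc : MonoidalClosed E]
  [HasBinaryProducts E]

/-- comparison `U ⊗ Z ≅ U ⨯ Z` -/
noncomputable def tp (U Z : E) : U ⊗ Z ≅ U ⨯ Z where
  hom := prod.lift (fst U Z) (snd U Z)
  inv := lift prod.fst prod.snd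
  hom_inv_id := by
    apply CartesianMonoidalCategory.hom_ext
    · rw [Category.assoc, lift_fst, Limits.prod.lift_fst, Category.id_comp]
    · rw [Category.assoc, lift_snd, Limits.prod.lift_snd, Category.id_comp]
  inv_hom_id := by
    apply Limits.prod.hom_ext
    · rw [Category.assoc, Limits.prod.lift_fst, lift_fst, Category.id_comp]
    · rw [Category.assoc, Limits.prod.lift_snd, lift_snd, Category.id_comp]

lemma tp_nat (U : E) {Z Z' : E} (f : Z ⟶ Z') :
    (U ◁ f) ≫ (tp U Z').hom = (tp U Z).hom ≫ prod.map (𝟙 U) f := by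
  apply Limits.prod.hom_ext
  · simp only [tp, Category.assoc, Limits.prod.lift_fst, Limits.prod.map_fst, whiskerLeft_fst,
      Limits.prod.lift_fst_assoc, Category.comp_id]
  · simp only [tp, Category.assoc, Limits.prod.lift_snd, Limits.prod.map_snd, whiskerLeft_snd,
      Limits.prod.lift_snd_assoc]

/-- `U ⨯ -` sends the legs of a pushout to a jointly epimorphic pair. -/
lemma prod_pushout_ext (U : E) {A B C P : E} {f : A ⟶ B} {g : A ⟶ C} {inl : B ⟶ P} {inr : C ⟶ P}
    (h : IsPushout f g inl inr) {T : E} (a b : U ⨯ P ⟶ T)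
    (h1 : prod.map (𝟙 U) inl ≫ a = prod.map (𝟙 U) inl ≫ b)
    (h2 : prod.map (𝟙 U) inr ≫ a = prod.map (𝟙 U) inr ≫ b) : a = b := by
  rw [← cancel_epi (tp U P).hom]
  apply MonoidalClosed.curry_injective
  apply h.hom_ext
  · rw [← MonoidalClosed.curry_natural_left, ← MonoidalClosed.curry_natural_left,
      ← Category.assoc, ← Category.assoc, tp_nat, Category.assoc, Category.assoc, h1]
  · rw [← MonoidalClosed.curry_natural_left, ← MonoidalClosed.curry_natural_left,
      ← Category.assoc, ← Category.assoc, tp_nat, Category.assoc, Category.assoc, h2]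

end helpers

open CategoryTheory.Limits in
/-- Topos of sheaves of sets on a small site; U an open, i.e. a subobject of the final object; X_CU the
pushout of U <- U x X -> X along the two projections: (ii) <=> (iii): the canonical map X -> X_CU is
an isomorphism if and only if the projection U x X -> U is an isomorphism (X belongs to the closed
complement of U); and (i) => (iii): if X is isomorphic to Y_CU for some Y then X belongs to the
closed complement of U ((iii) => (i) with Y = X is then immediate from (ii)). -/
theorem result {C : Type u} [SmallCategory C] (J : GrothendieckTopology C)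
    (U : Sheaf J (Type u)) (hU : SGA4.IsOpen U) (X : Sheaf J (Type u)) :
    (SGA4.closedCompl U X ↔ IsIso (pushout.inr (prod.fst : U ⨯ X ⟶ U) (prod.snd : U ⨯ X ⟶ X))) ∧
    ((∃ Y : Sheaf J (Type u), Nonempty (X ≅ pushout (prod.fst : U ⨯ Y ⟶ U) (prod.snd : U ⨯ Y ⟶ Y))) →
      SGA4.closedCompl U X) := by
  have hsub : ∀ {A : Sheaf J (Type u)} (a b : A ⟶ U), a = b := by
    intro A a b
    have : Mono (terminal.from U) := hU
    exact (cancel_mono (terminal.from U)).1 (Subsingleton.elim _ _)
  -- the pushout always lies in the closed complement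
  have key : ∀ Y : Sheaf J (Type u),
      SGA4.closedCompl U (pushout (prod.fst : U ⨯ Y ⟶ U) (prod.snd : U ⨯ Y ⟶ Y)) := by
    intro Y
    refine ⟨prod.lift (𝟙 U) (pushout.inl _ _), ?_, hsub _ _⟩
    refine prod_pushout_ext (E := Sheaf J (Type u))
      (mc := instMonoidalClosedSheafOfHasSheafifyOfFunctorOpposite J (Type u)) U
      (IsPushout.of_hasPushout (prod.fst : U ⨯ Y ⟶ U) (prod.snd : U ⨯ Y ⟶ Y)) _ _ ?_ ?_
    · apply Limits.prod.hom_ext
      · exact hsub _ _
      · simp only [Category.assoc, Limits.prod.lift_snd, Category.comp_id, Limits.prod.map_snd,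
          Limits.prod.map_fst_assoc]
        rw [← Category.assoc]
        congr 1
        exact hsub _ _
    · apply Limits.prod.hom_ext
      · exact hsub _ _
      · simp only [Category.assoc, Limits.prod.lift_snd, Category.comp_id, Limits.prod.map_snd,
          Limits.prod.map_fst_assoc, Category.id_comp]
        exact pushout.condition
  have transfer : ∀ {X' P : Sheaf J (Type u)} (i : X' ≅ P), SGA4.closedCompl U P →
      SGA4.closedCompl U X' := by
    intro X' P i hP
    have h1 : (prod.fst : U ⨯ X' ⟶ U) = prod.map (𝟙 U) i.hom ≫ (prod.fst : U ⨯ P ⟶ U) := by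
      simp
    have : IsIso (prod.fst : U ⨯ P ⟶ U) := hP
    show IsIso (prod.fst : U ⨯ X' ⟶ U)
    rw [h1]
    infer_instance
  refine ⟨⟨?_, ?_⟩, ?_⟩
  · intro hX
    have : IsIso (prod.fst : U ⨯ X ⟶ U) := hX
    infer_instance
  · intro hX
    exact transfer (asIso (pushout.inr (prod.fst : U ⨯ X ⟶ U) (prod.snd : U ⨯ X ⟶ X))) (key X)
  · rintro ⟨Y, ⟨i⟩⟩
    exact transfer i (key Y)

end Groth.Agent.S6177
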