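import Groth.Statements.S6181
import Groth.Agent.Lib.Helper1.FinStalkSh

set_option autoImplicit false
open CategoryTheory CategoryTheory.Limits AlgebraicGeometry Opposite
universe u
open EtDesc

namespace Groth.Agent.S6181

open GrothendieckTopology
open Groth.Agent.H1.EtStalk Groth.Agent.H1.EtGerm Groth.Agent.H1.PullGerm
  Groth.Agent.H1.FinStalkGeom Groth.Agent.H1.FinStalk Groth.Agent.H1.FinStalkSh

section

variable {X Y : Scheme.{u}} (f : X ⟶ Y) {Ω : Type u} [Field Ω] [IsSepClosed Ω]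
  (η : Spec (CommRingCat.of Ω) ⟶ Y)
  (ξ : {ξ : Spec (CommRingCat.of Ω) ⟶ X // ξ ≫ f = η})

/-- the component at `ξ` of the comparison map `(f_* F)_η ⟶ F_ξ` -/
noncomputable def thetaApp (F : EtDesc.Sh X) :
    (stalkS η).obj ((EtDesc.pushSh f).obj F) ⟶ (stalkS ξ.1).obj F :=
  (Scheme.pointSmallEtale η).presheafFiberDesc (P := ((EtDesc.pushSh f).obj F).obj)
    (fun V v => (Scheme.pointSmallEtale ξ.1).toPresheafFiber ((EtCoh.bc f).obj V)
      (liftBc f ξ.1 ξ.2 v) F.obj) (by
      intro W V g w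
      have h := (Scheme.pointSmallEtale ξ.1).toPresheafFiber_w ((EtCoh.bc f).map g)
        (liftBc f ξ.1 ξ.2 w) F.obj
      have h2 := liftBc_map f ξ.1 ξ.2 g w
      exact h.trans (congrArg (fun y => (Scheme.pointSmallEtale ξ.1).toPresheafFiber
        ((EtCoh.bc f).obj V) y F.obj) h2))

theorem thetaApp_germ (F : EtDesc.Sh X) (V : Y.Etale) (v : Lift η V)
    (s : F.obj.obj (op ((EtCoh.bc f).obj V))) :
    thetaApp f η ξ F (germS η ((EtDesc.pushSh f).obj F) V v s) =
      germS ξ.1 F ((EtCoh.bc f).obj V) (liftBc f ξ.1 ξ.2 v) s := by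
  have := (Scheme.pointSmallEtale η).toPresheafFiber_presheafFiberDesc
    (P := ((EtDesc.pushSh f).obj F).obj)
    (fun V v => (Scheme.pointSmallEtale ξ.1).toPresheafFiber ((EtCoh.bc f).obj V)
      (liftBc f ξ.1 ξ.2 v) F.obj) (by
      intro W V g w
      have h := (Scheme.pointSmallEtale ξ.1).toPresheafFiber_w ((EtCoh.bc f).map g)
        (liftBc f ξ.1 ξ.2 w) F.obj
      have h2 := liftBc_map f ξ.1 ξ.2 g w
      exact h.trans (congrArg (fun y => (Scheme.pointSmallEtale ξ.1).toPresheafFiber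
        ((EtCoh.bc f).obj V) y F.obj) h2)) V v
  exact ConcreteCategory.congr_hom this s

/-- the comparison `(f_* -)_η ⟶ (-)_ξ` as a natural transformation -/
noncomputable def thetaNat :
    EtDesc.pushSh f ⋙ stalkS η ⟶ (stalkS ξ.1 : EtDesc.Sh X ⥤ Type (u + 1)) where
  app F := thetaApp f η ξ F
  naturality F G a := by
    apply ConcreteCategory.hom_ext
    intro q
    obtain ⟨V, v, s, rfl⟩ := germS_surjective ((EtDesc.pushSh f).obj F) q
    change thetaApp f η ξ G ((stalkS η).map ((EtDesc.pushSh f).map a)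
        (germS η ((EtDesc.pushSh f).obj F) V v s)) =
      (stalkS ξ.1).map a (thetaApp f η ξ F (germS η ((EtDesc.pushSh f).obj F) V v s))
    rw [stalkS_map_germS, thetaApp_germ, thetaApp_germ, stalkS_map_germS]
    rfl

end

theorem main {X Y : Scheme.{u}} (f : X ⟶ Y) [IsFinite f]
    {Ω : Type u} [Field Ω] [IsAlgClosed Ω] (η : Spec (CommRingCat.of Ω) ⟶ Y) :
    Nonempty (EtDesc.pushSh f ⋙ (Scheme.pointSmallEtale η).sheafFiber (A := Type (u + 1)) ≅
      ∏ᶜ fun ξ : {ξ : Spec (CommRingCat.of Ω) ⟶ X // ξ ≫ f = η} =>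
        ((Scheme.pointSmallEtale ξ.1).sheafFiber (A := Type (u + 1)) : EtDesc.Sh X ⥤ Type (u + 1))) := by
  let G : {ξ : Spec (CommRingCat.of Ω) ⟶ X // ξ ≫ f = η} → (EtDesc.Sh X ⥤ Type (u + 1)) :=
    fun ξ => stalkS ξ.1
  let Θ : EtDesc.pushSh f ⋙ stalkS η ⟶ ∏ᶜ G := Pi.lift (fun ξ => thetaNat f η ξ)
  have hΘ : ∀ (F : EtDesc.Sh X) (ξ) (q : (stalkS η).obj ((EtDesc.pushSh f).obj F)),
      (Pi.π G ξ).app F (Θ.app F q) = thetaApp f η ξ F q := by
    intro F ξ q
    have h1 : Θ ≫ Pi.π G ξ = thetaNat f η ξ := Pi.lift_π _ _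
    have h2 := congrArg (fun t => t.app F) h1
    exact ConcreteCategory.congr_hom h2 q
  have hiso : IsIso Θ := by
    rw [NatTrans.isIso_iff_isIso_app]
    intro F
    have hext : ∀ y y' : (∏ᶜ G).obj F, (∀ ξ, (Pi.π G ξ).app F y = (Pi.π G ξ).app F y') → y = y' := by
      intro y y' h
      have hD := isLimitOfPreserves ((evaluation (EtDesc.Sh X) (Type (u + 1))).obj F)
        (limit.isLimit (Discrete.functor G))
      refine Concrete.isLimit_ext _ hD y y' ?_
      rintro ⟨ξ⟩
      exact h ξ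
    rw [isIso_iff_bijective]
    constructor
    · intro q₁ q₂ hq
      obtain ⟨V, v, s₁, s₂, rfl, rfl⟩ :=
        (Scheme.pointSmallEtale η).toPresheafFiber_jointly_surjective₂
          (P := ((EtDesc.pushSh f).obj F).obj) q₁ q₂
      have h1 : ∀ ξ : {ξ : Spec (CommRingCat.of Ω) ⟶ X // ξ ≫ f = η},
          germS ξ.1 F ((EtCoh.bc f).obj V) (liftBc f ξ.1 ξ.2 v) s₁ =
            germS ξ.1 F ((EtCoh.bc f).obj V) (liftBc f ξ.1 ξ.2 v) s₂ := by
        intro ξ
        have h2 := congrArg (fun y => (Pi.π G ξ).app F y) hq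
        simp only [hΘ] at h2
        exact ((thetaApp_germ f η ξ F V v s₁).symm.trans h2).trans (thetaApp_germ f η ξ F V v s₂)
      obtain ⟨V₁, g, v₁, hv₁, hz⟩ := injS f η F V v s₁ s₂ h1
      change germS η ((EtDesc.pushSh f).obj F) V v s₁ = germS η ((EtDesc.pushSh f).obj F) V v s₂
      rw [← hv₁, ← germS_res, ← germS_res]
      exact congrArg _ hz
    · intro y
      obtain ⟨V, v, s, hs⟩ := surjS f η F (fun ξ => (Pi.π G ξ).app F y)
      refine ⟨germS η ((EtDesc.pushSh f).obj F) V v s, ?_⟩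
      apply hext
      intro ξ
      rw [hΘ, thetaApp_germ]
      exact hs ξ
  exact ⟨asIso Θ⟩

/-- Let f : X -> Y be a finite morphism of schemes, Ω an algebraically closed field and η : Spec Ω -> Y
a geometric point. The functor F ↦ (f_* F)_η on etale sheaves of sets on X is isomorphic to the
product, over the geometric points ξ : Spec Ω -> X lying over η, of the fibre functors F ↦ F_ξ. (The
published statement gives a canonical isomorphism and indexes the product by the points of the
geometric fibre over a separable closure of the residue field; this row asserts only that an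
isomorphism of functors exists and indexes the product by the Ω-valued points of X over η, which for
Ω algebraically closed correspond to those points.) -/
theorem result {X Y : Scheme.{u}} (f : X ⟶ Y) [IsFinite f]
    {Ω : Type u} [Field Ω] [IsAlgClosed Ω] (η : Spec (CommRingCat.of Ω) ⟶ Y) :
    Nonempty (EtDesc.pushSh f ⋙ (Scheme.pointSmallEtale η).sheafFiber (A := Type (u + 1)) ≅
      ∏ᶜ fun ξ : {ξ : Spec (CommRingCat.of Ω) ⟶ X // ξ ≫ f = η} =>
        ((Scheme.pointSmallEtale ξ.1).sheafFiber (A := Type (u + 1)) : EtDesc.Sh X ⥤ Type (u + 1))) := by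
  exact main f η

end Groth.Agent.S6181
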