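import Groth.Statements.S6188
import Mathlib
import Groth.Agent.Lib.Helper13.TorLow8
import Groth.Agent.Lib.Helper13.StalkD
import Groth.Agent.Lib.Helper25.LpullPerfect
import Groth.Agent.Lib.Helper25.PullKFlat
import Groth.Agent.Lib.Helper23.TA11
import Groth.Agent.Lib.Helper16.FLF5
-- import your own Groth.Agent.* helpers here

set_option autoImplicit false
universe u
open CategoryTheory CategoryTheory.Limits AlgebraicGeometry
attribute [local instance] HasDerivedCategory.standard
open KSix

namespace Groth.Agent.S6188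

open Groth.Agent.Lib.helper23.TA in
/-- the stalk of the structure module is the local ring, as a module over itself -/
lemma nonempty_stalk_structureModule_iso (Y : Scheme.{u}) (y : Y) :
    Nonempty ((DerSch.stalkFunctor Y y).obj (Coh.structureModule Y) ≅
      ModuleCat.of (Y.presheaf.stalk y) (Y.presheaf.stalk y)) := by
  obtain ⟨hfree, hfin⟩ := Groth.Agent.Lib.helper16.FLF.free_stalk_of_isFinLocFree _
    (Groth.Agent.Lib.helper16.FLF.isFinLocFree_structureModule Y) y
  have hrk := Groth.Agent.Lib.helper16.FLF.finrank_stalk_of_isFinLocFreeOfRank _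
    (Groth.Agent.Lib.helper16.FLF.isFinLocFreeOfRank_structureModule Y) y
  obtain ⟨e1⟩ := Module.nonempty_linearEquiv_of_finrank_eq_one
    (R := Y.presheaf.stalk y)
    (M := ↑((Coh.structureModule Y).presheaf.stalk y)) hrk
  exact ⟨e1.symm.toModuleIso⟩

open DerivedCategory in
/-- restriction of scalars preserves isomorphisms in the derived category between complexes -/
lemma nonempty_Q_res_iso {S T : Type u} [CommRing S] [CommRing T] (χ : S →+* T)
    (K₁ K₂ : DRing.Cx T) (e : (Q.obj K₁ : Dual.D T) ≅ Q.obj K₂) :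
    Nonempty ((Q.obj ((Groth.Agent.Lib.helper13.ExtKFlat.resCx χ).obj K₁) : Dual.D S) ≅
      Q.obj ((Groth.Agent.Lib.helper13.ExtKFlat.resCx χ).obj K₂)) :=
  ⟨((ModuleCat.restrictScalars.{u} χ).mapDerivedCategoryFactors.app K₁).symm ≪≫
    (ModuleCat.restrictScalars.{u} χ).mapDerivedCategory.mapIso e ≪≫
    (ModuleCat.restrictScalars.{u} χ).mapDerivedCategoryFactors.app K₂⟩

open Groth.Agent.Lib.helper23.TA Groth.Agent.Lib.helper13.ExtKFlat DerivedCategory in
lemma at_point {X Y Z : Scheme.{u}} (f : X ⟶ Y) (g : Y ⟶ Z) (m : ℕ) (hf : DerSch.HasTorDimLE f m)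
    [DCoh.HasLpull f]
    (G : CochainComplex Y.Modules ℤ) (c d : ℤ) (hG : DerSch.HasTorAmplitude g c d G)
    (F : CochainComplex X.Modules ℤ)
    (eF : DCoh.toD X F ≅ (DCoh.Lpull f).obj (DCoh.toD Y G)) (x : X) :
    DerSch.HasTorAmplitudeAt (f ≫ g) (c - m) d F x := by
  obtain ⟨P₀, hP₀, ⟨eP⟩⟩ := Groth.Agent.Lib.Helper25.LpullPerfect.exists_P₀_rep (DCoh.toD Y G)
  obtain ⟨e1⟩ := Groth.Agent.Lib.Helper25.StalkPullFlat.nonempty_Lpull_iso f P₀ hP₀
  have eF' : DCoh.toD X F ≅ DCoh.toD X
      (((Scheme.Modules.pullback f).mapHomologicalComplex (ComplexShape.up ℤ)).obj P₀) :=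
    eF ≪≫ (DCoh.Lpull f).mapIso eP.symm ≪≫ e1
  obtain ⟨e2⟩ := Groth.Agent.Lib.helper13.StalkD.nonempty_Q_stalk_iso x _ _ eF'
  have e3 := Q.mapIso (Groth.Agent.Lib.Helper25.PullKFlat.stalkCxPullbackIso f x P₀)
  obtain ⟨e4⟩ := Groth.Agent.Lib.helper13.StalkD.nonempty_Q_stalk_iso (f.base x) P₀ G eP
  have hPK := Groth.Agent.Lib.Helper25.StalkKFlat.isKFlat_stalk_of_isKFlat (f.base x) P₀ hP₀.1
  -- tor dimension of the stalk map of `f`
  have hC : DRing.HasTorAmplitudeIn (Y.presheaf.stalk (f.base x)) (-(m : ℤ)) 0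
      (DRing.toD ((CochainComplex.singleFunctor (ModuleCat.{u} (Y.presheaf.stalk (f.base x))) 0).obj
        (Groth.Agent.Lib.helper13.RKF.AR (f.stalkMap x).hom))) := by
    have h1 := hf x
    obtain ⟨e0⟩ := nonempty_stalk_structureModule_iso X x
    refine hasTorAmplitudeIn_of_iso ?_ h1
    have e1 : (DerSch.stalkCxOver f x).obj (DerSch.unitCx X) ≅
        (HomologicalComplex.single _ (ComplexShape.up ℤ) 0).obj
          ((DerSch.stalkOver f x).obj (Coh.structureModule X)) :=
      (HomologicalComplex.singleMapHomologicalComplex (DerSch.stalkOver f x)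
        (ComplexShape.up ℤ) 0).app (Coh.structureModule X)
    have e2 : (DerSch.stalkOver f x).obj (Coh.structureModule X) ≅
        (ModuleCat.restrictScalars.{u} (f.stalkMap x).hom).obj
          (ModuleCat.of (X.presheaf.stalk x) (X.presheaf.stalk x)) :=
      (ModuleCat.restrictScalars.{u} (f.stalkMap x).hom).mapIso e0
    exact Q.mapIso (e1 ≪≫ (HomologicalComplex.single _ (ComplexShape.up ℤ) 0).mapIso e2)
  -- tor amplitude of the stalk of `P₀` over `O_{Z, z}`
  have hP : DRing.HasTorAmplitudeIn (Z.presheaf.stalk (g.base (f.base x))) c d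
      (DRing.toD ((resCx (g.stalkMap (f.base x)).hom).obj
        ((Groth.Agent.Lib.helper13.StalkD.stalkCx (f.base x)).obj P₀))) := by
    obtain ⟨e5⟩ := nonempty_Q_res_iso (g.stalkMap (f.base x)).hom _ _ e4
    exact hasTorAmplitudeIn_of_iso e5.symm (hG (f.base x))
  have hcomp : ((f ≫ g).stalkMap x).hom =
      (f.stalkMap x).hom.comp (g.stalkMap (f.base x)).hom := by
    rw [Scheme.Hom.stalkMap_comp]
    rfl
  have hmain := Groth.Agent.Lib.helper13.TorLow.hasTorAmplitudeIn_res_ext_of_torDim
    (g.stalkMap (f.base x)).hom (f.stalkMap x).hom ((f ≫ g).stalkMap x).hom hcomp m hC _ hPK c d hP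
  obtain ⟨e6⟩ := nonempty_Q_res_iso ((f ≫ g).stalkMap x).hom _ _ (e2 ≪≫ e3)
  exact hasTorAmplitudeIn_of_iso e6.symm hmain


/-- Case of schemes: let f : X ⟶ Y and g : Y ⟶ Z be morphisms of schemes with composite h, let m be a
natural number such that f has tor dimension at most m (the structure sheaf of X has tor amplitude
in [-m, 0] relative to f, stalkwise), and let G be a cochain complex of O_Y-modules with tor
amplitude in [c, d] relative to g (stalkwise flat models placed in [c, d] over the local rings of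
Z). Then, the derived pullback Lf^* being assumed to exist, Lf^* G has tor amplitude in [c - m, d]
relative to h: every cochain complex representing it has stalkwise flat models placed in [c - m, d]
over the local rings of Z. (The published statement is for a commutative triangle of ringed topoi in
which X has enough points; this row is the case of schemes, with tor amplitude relative to a
morphism in its stalkwise form.) -/
theorem result {X Y Z : Scheme.{u}} (f : X ⟶ Y) (g : Y ⟶ Z) (h : X ⟶ Z)
    (w : f ≫ g = h) (m : ℕ) (hf : DerSch.HasTorDimLE f m) [DCoh.HasLpull f]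
    (G : CochainComplex Y.Modules ℤ) (c d : ℤ) (hG : DerSch.HasTorAmplitude g c d G) :
    DerSch.HasTorAmplitudeD h (c - m) d ((DCoh.Lpull f).obj (DCoh.toD Y G)) := by
  subst w
  intro F ⟨eF⟩ x
  exact Groth.Agent.S6188.at_point f g m hf G c d hG F eF x

end Groth.Agent.S6188
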