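import Groth.Statements.S6191
import Mathlib
import Groth.Agent.Lib.Helper13.StalkD
import Groth.Agent.Lib.Helper13.StalkD2
import Groth.Agent.S6187
-- import your own Groth.Agent.* helpers here

set_option autoImplicit false
universe u
open CategoryTheory CategoryTheory.Limits AlgebraicGeometry
attribute [local instance] HasDerivedCategory.standard
open KSix

namespace Groth.Agent.S6191

/-- Let i : X ⟶ X' be a closed immersion, f' : X' ⟶ Y smooth, f = i ≫ f', and F a cochain complex of
O_X-modules whose termwise direct image i_* F has tor amplitude in [a, b] in the absolute sense on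
X' (it is isomorphic in D(O_X') to a complex of flat O_X'-modules placed in [a, b]). Then F has tor
amplitude in [a, b] relative to f (stalkwise flat models placed in [a, b] over the local rings of
Y). -/
theorem result {X X' Y : Scheme.{u}} (i : X ⟶ X') [IsClosedImmersion i]
    (f' : X' ⟶ Y) [Smooth f'] (F : CochainComplex X.Modules ℤ) (a b : ℤ)
    (hF : DCoh.HasFlatAmplitudeIn a b (DCoh.toD X' (((Scheme.Modules.pushforward i).mapHomologicalComplex (ComplexShape.up ℤ)).obj F))) :
    DerSch.HasTorAmplitude (i ≫ f') a b F := by
  have hg : DerSch.HasTorDimLE f' 0 := Groth.Agent.Lib.helper13.StalkD.hasTorDimLE_zero_of_flat f'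
  have h1 : DerSch.HasTorAmplitude i a b F :=
    Groth.Agent.Lib.helper13.StalkD.hasTorAmplitude_of_hasFlatAmplitudeIn_pushforward i F a b hF
  have h2 := Groth.Agent.S6187.result i f' (i ≫ f') rfl 0 hg F a b h1
  have h3 : a - ((0 : ℕ) : ℤ) = a := by simp
  rw [h3] at h2
  exact h2

end Groth.Agent.S6191
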