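import Groth.Statements.S6194
import Mathlib
import Groth.Agent.Lib.Helper13.PCStalk4
-- import your own Groth.Agent.* helpers here

set_option autoImplicit false
universe u
open CategoryTheory CategoryTheory.Limits AlgebraicGeometry
attribute [local instance] HasDerivedCategory.standard
open KSix

namespace Groth.Agent.S6194

/-- Let X be a scheme such that, at every point x, every module over the local ring of X at x has finite
tor dimension (for instance a regular scheme), and let E ∈ D(O_X), given by a cochain complex F,
have bounded cohomology. Then E is pseudo-coherent if and only if E is perfect. (The published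
statement is for a ringed topos with enough points; this row is the case of schemes.) -/
theorem result {X : Scheme.{u}}
    (hX : ∀ (x : X) (M : Type u) [AddCommGroup M] [Module (X.presheaf.stalk x) M], DRing.HasFiniteTorDim (X.presheaf.stalk x) M)
    (F : CochainComplex X.Modules ℤ) (c d : ℤ) [(DCoh.toD X F).IsGE c] [(DCoh.toD X F).IsLE d] :
    (∀ m : ℤ, DCoh.IsPseudoCoherentD m (DCoh.toD X F)) ↔ DCoh.IsPerfect (DCoh.toD X F) := by
  constructor
  · intro hpc x
    have hF : ∀ i : ℤ, (i < c ∨ d < i) → IsZero (F.homology i) := by
      intro i hi
      have h1 : IsZero ((DerivedCategory.homologyFunctor X.Modules i).obj (DCoh.toD X F)) := by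
        rcases hi with hi | hi
        · exact DerivedCategory.isZero_of_isGE (DCoh.toD X F) c i hi
        · exact DerivedCategory.isZero_of_isLE (DCoh.toD X F) d i hi
      exact h1.of_iso ((DerivedCategory.homologyFunctorFactors X.Modules i).app F).symm
    have hcd : ∀ i : ℤ, (i < c ∨ d < i) →
        IsZero ((DerivedCategory.homologyFunctor (ModuleCat.{u} (X.presheaf.stalk x)) i).obj
          (DRing.toD ((Groth.Agent.Lib.helper13.StalkD.stalkCx x).obj F))) := by
      intro i hi
      have h2 := Groth.Agent.Lib.Helper25.StalkKFlat.isZero_homology_map (DerSch.stalkFunctor X x) F i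
        (hF i hi)
      exact h2.of_iso ((DerivedCategory.homologyFunctorFactors _ i).app _)
    obtain ⟨a, hac, ha⟩ := Groth.Agent.Lib.helper13.PCStalk.exists_hasTorAmplitudeIn_of_bounded
      (hX x) (DRing.toD ((Groth.Agent.Lib.helper13.StalkD.stalkCx x).obj F)) c d hcd
    exact Groth.Agent.Lib.helper13.PCStalk.isPerfect_at_of_pseudoCoherent_of_stalk F c d hpc x a d hac ha
  · intro h m
    exact Groth.Agent.Lib.helper25.PerfectTor.isPseudoCoherentD_of_isPerfect h m

end Groth.Agent.S6194
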