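import Groth.Statements.S6200
import Mathlib
import Groth.Agent.Lib.Helper13.StalkD
import Groth.Agent.Lib.Helper13.StalkD3
-- import your own Groth.Agent.* helpers here

set_option autoImplicit false
universe u
open CategoryTheory CategoryTheory.Limits AlgebraicGeometry
attribute [local instance] HasDerivedCategory.standard
open KSix

namespace Groth.Agent.S6200

open Groth.Agent.Lib.helper13.StalkD Groth.Agent.Lib.helper23.TA DerivedCategory in
/-- the complex of stalks relative to the identity is the complex of stalks -/
noncomputable def stalkCxOverIdIso {X : Scheme.{u}} (F : CochainComplex X.Modules ℤ) (x : X) :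
    (DerSch.stalkCxOver (𝟙 X) x).obj F ≅ (stalkCx x).obj F :=
  HomologicalComplex.Hom.isoOfComponents
    (fun n => (ModuleCat.restrictScalarsId'.{u} ((𝟙 X : X ⟶ X).stalkMap x).hom
      (by rw [Scheme.Hom.stalkMap_id]; rfl)).app ((DerSch.stalkFunctor X x).obj (F.X n)))
    (fun n m _ => ((ModuleCat.restrictScalarsId'.{u} ((𝟙 X : X ⟶ X).stalkMap x).hom
      (by rw [Scheme.Hom.stalkMap_id]; rfl)).hom.naturality
        ((DerSch.stalkFunctor X x).map (F.d n m))).symm)

open Groth.Agent.Lib.helper13.StalkD Groth.Agent.Lib.helper23.TA DerivedCategory in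
lemma hasTorAmplitudeAt_id_iff {X : Scheme.{u}} (F : CochainComplex X.Modules ℤ) (a b : ℤ) (x : X) :
    DerSch.HasTorAmplitudeAt (𝟙 X) a b F x ↔
      DRing.HasTorAmplitudeIn (X.presheaf.stalk x) a b (DRing.toD ((stalkCx x).obj F)) :=
  ⟨fun h => hasTorAmplitudeIn_of_iso (Q.mapIso (stalkCxOverIdIso F x)) h,
    fun h => hasTorAmplitudeIn_of_iso (Q.mapIso (stalkCxOverIdIso F x)).symm h⟩


/-- For the identity morphism of a scheme: let X be a scheme and E ∈ D⁻(O_X) be given by a cochain
complex F. Then E has tor amplitude in [a, b] in the absolute sense (it is isomorphic in D(O_X) to a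
complex of flat O_X-modules placed in [a, b]) if and only if at every point x the complex of stalks
F_x has tor amplitude in [a, b] over the local ring of X at x (tor amplitude relative to the
identity of X, stalkwise form). (The published statement is for a morphism of ringed topoi with
enough points and tor amplitude over the inverse image of the structure sheaf of the base; this row
is the case of the identity of a scheme.) -/
theorem result {X : Scheme.{u}} (F : CochainComplex X.Modules ℤ) (d : ℤ)
    [(DCoh.toD X F).IsLE d] (a b : ℤ) :
    DCoh.HasFlatAmplitudeIn a b (DCoh.toD X F) ↔ DerSch.HasTorAmplitude (𝟙 X) a b F := by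
  constructor
  · intro h x
    exact (hasTorAmplitudeAt_id_iff F a b x).2
      (Groth.Agent.Lib.helper13.StalkD.hasTorAmplitudeIn_stalk_of_hasFlatAmplitudeIn F a b h x)
  · intro h
    exact Groth.Agent.Lib.helper13.StalkD.hasFlatAmplitudeIn_of_forall_stalk F a b
      (fun x => (hasTorAmplitudeAt_id_iff F a b x).1 (h x))

end Groth.Agent.S6200
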