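import Groth.Statements.S7175
import Mathlib
import Groth.Agent.Lib.Helper13.PushPerf1
-- import your own Groth.Agent.* helpers here

set_option autoImplicit false
universe u
attribute [local instance] HasDerivedCategory.standard
open FlatMor

namespace Groth.Agent.S7175

open AlgebraicGeometry CategoryTheory Limits in
/-- For a perfect closed immersion i : Z → X, the O_X-module i_* O_Z is a perfect object of D(O_X). -/
theorem result {Z X : Scheme.{u}} (i : Z ⟶ X) [IsClosedImmersion i]
    (hi : MoreMor.IsPerfectMor i) :
    DCoh.IsPerfect (DCoh.inD X ((Coh.push i).obj (Coh.structureModule Z))) := by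
  refine Groth.Agent.Lib.helper13.PushPerf.isPerfect_push_structureModule i fun x => ?_
  obtain ⟨_, ⟨U, hU : AlgebraicGeometry.IsAffineOpen U, rfl⟩, hxU, -⟩ :=
    X.isBasis_affineOpens.exists_subset_of_mem_open (Set.mem_univ x) isOpen_univ
  refine ⟨U, hU, hxU, Groth.Agent.Lib.helper13.PushPerf.isPerfect_Sf_of_pfh _
    (i.app_surjective U hU) ?_⟩
  have h := Groth.Agent.Lib.helper3.PerfHomLoc.pfh_appLE i hi (hU.preimage i) hU le_rfl
  rwa [AlgebraicGeometry.Scheme.Hom.appLE_eq_app] at h

end Groth.Agent.S7175
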