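import Groth.Statements.S6239
import Mathlib
-- import your own Groth.Agent.* helpers here

set_option autoImplicit false
universe u
open CategoryTheory CategoryTheory.Limits AlgebraicGeometry
attribute [local instance] HasDerivedCategory.standard
open KSix

namespace Groth.Agent.S6239

theorem mono {X Y : Scheme.{u}} (f : X ⟶ Y) (F : CochainComplex X.Modules ℤ) (x : X) {a b a' b' : ℤ}
    (h : DerSch.HasTorAmplitudeAt f a b F x) (ha : a' ≤ a) (hb : b ≤ b') :
    DerSch.HasTorAmplitudeAt f a' b' F x := by
  obtain ⟨E, hE, hfl, hiso⟩ := h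
  exact ⟨E, fun i hi => hE i (by omega), hfl, hiso⟩

theorem main {X Y : Scheme.{u}} [CompactSpace X] (f : X ⟶ Y)
    (F : CochainComplex X.Modules ℤ) (hF : DerSch.IsPerfectRel f F) :
    DerSch.HasFinitePerfAmplitudeRel f F := by
  obtain ⟨hpc, hloc⟩ := hF
  choose V a b hxV hV using hloc
  obtain ⟨t, ht⟩ := isCompact_univ.elim_finite_subcover (fun x => ((V x : X.Opens) : Set X))
    (fun x => (V x).isOpen) (fun x _ => Set.mem_iUnion.mpr ⟨x, hxV x⟩)
  refine ⟨-((t.sup (fun x => (a x).natAbs) : ℕ) : ℤ), ((t.sup (fun x => (b x).natAbs) : ℕ) : ℤ), hpc, ?_⟩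
  intro x
  have hx := ht (Set.mem_univ x)
  simp only [Set.mem_iUnion] at hx
  obtain ⟨y, hyt, hxy⟩ := hx
  have h1 : (a y).natAbs ≤ t.sup (fun x => (a x).natAbs) := Finset.le_sup (f := fun x => (a x).natAbs) hyt
  have h2 : (b y).natAbs ≤ t.sup (fun x => (b x).natAbs) := Finset.le_sup (f := fun x => (b x).natAbs) hyt
  refine mono f F x (hV y x hxy) ?_ ?_
  · have : -((a y).natAbs : ℤ) ≤ a y := by omega
    have h1' : ((a y).natAbs : ℤ) ≤ ((t.sup (fun x => (a x).natAbs) : ℕ) : ℤ) := by exact_mod_cast h1
    omega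
  · have : b y ≤ ((b y).natAbs : ℤ) := by omega
    have h2' : ((b y).natAbs : ℤ) ≤ ((t.sup (fun x => (b x).natAbs) : ℕ) : ℤ) := by exact_mod_cast h2
    omega

/-- Let f : X ⟶ Y be a morphism with X quasi-compact and F a cochain complex of O_X-modules which is
perfect relative to f (pseudo-coherent relative to f in chart form, and locally on X of finite
stalkwise tor amplitude over the local rings of Y). Then F has finite perfect amplitude relative to
f: one interval [a, b] works at every point of X. -/
theorem result {X Y : Scheme.{u}} [CompactSpace X] (f : X ⟶ Y)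
    (F : CochainComplex X.Modules ℤ) (hF : DerSch.IsPerfectRel f F) :
    DerSch.HasFinitePerfAmplitudeRel f F := by
  exact main f F hF

end Groth.Agent.S6239
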