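import Groth.Statements.S6240
import Mathlib
import Groth.Agent.Lib.Helper13.TorLow9
import Groth.Agent.Lib.Helper13.StalkD
import Groth.Agent.Lib.Helper25.LpullPerfect
import Groth.Agent.Lib.Helper25.PullKFlat
import Groth.Agent.Lib.Helper25.LTensorComp
import Groth.Agent.Lib.Helper25.StalkTensorCx
import Groth.Agent.Lib.Helper23.TA11
-- import your own Groth.Agent.* helpers here

set_option autoImplicit false
universe u
open CategoryTheory CategoryTheory.Limits AlgebraicGeometry
attribute [local instance] HasDerivedCategory.standard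
open KSix

namespace Groth.Agent.S6240

open Groth.Agent.Lib.helper23.TA Groth.Agent.Lib.helper13.ExtKFlat DerivedCategory
  Groth.Agent.Lib.helper13.TorLow in
lemma at_point {X Y Z : Scheme.{u}} (f : X ⟶ Y) (g : Y ⟶ Z)
    (F : CochainComplex X.Modules ℤ) (a b : ℤ) (hF : DerSch.HasTorAmplitude f a b F)
    (G : CochainComplex Y.Modules ℤ) (c d : ℤ) (hG : DerSch.HasTorAmplitude g c d G)
    [DCoh.HasLpull f] [DCoh.HasLTensorCx F]
    (F' : CochainComplex X.Modules ℤ)
    (eF : DCoh.toD X F' ≅ (DCoh.LTensorCx F).obj ((DCoh.Lpull f).obj (DCoh.toD Y G))) (x : X) :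
    DerSch.HasTorAmplitudeAt (f ≫ g) (a + c) (b + d) F' x := by
  obtain ⟨P₀, hP₀, ⟨eP⟩⟩ := Groth.Agent.Lib.Helper25.LpullPerfect.exists_P₀_rep (DCoh.toD Y G)
  obtain ⟨e1⟩ := Groth.Agent.Lib.Helper25.StalkPullFlat.nonempty_Lpull_iso f P₀ hP₀
  have hfP := Groth.Agent.Lib.Helper25.PullKFlat.isKFlat_pullback f P₀ hP₀.1
  haveI := Groth.Agent.Lib.Helper25.LTensorComp.isIso_ε_app F _ hfP
  have eF' : DCoh.toD X F' ≅ DCoh.toD X ((DCoh.tensorCx.obj
      (((Scheme.Modules.pullback f).mapHomologicalComplex (ComplexShape.up ℤ)).obj P₀)).obj F) :=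
    eF ≪≫ (DCoh.LTensorCx F).mapIso ((DCoh.Lpull f).mapIso eP.symm ≪≫ e1) ≪≫
      asIso ((Groth.Agent.Lib.Helper25.LTensorComp.ε F).app _)
  obtain ⟨e2⟩ := Groth.Agent.Lib.helper13.StalkD.nonempty_Q_stalk_iso x _ _ eF'
  have e3 := Q.mapIso (Groth.Agent.Lib.Helper25.StalkTensorCx.stalkTensorCxIso x
      (((Scheme.Modules.pullback f).mapHomologicalComplex (ComplexShape.up ℤ)).obj P₀) F ≪≫
    MonoidalCategory.whiskerRightIso
      (Groth.Agent.Lib.Helper25.PullKFlat.stalkCxPullbackIso f x P₀) _)
  obtain ⟨e4⟩ := Groth.Agent.Lib.helper13.StalkD.nonempty_Q_stalk_iso (f.base x) P₀ G eP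
  have hPK := Groth.Agent.Lib.Helper25.StalkKFlat.isKFlat_stalk_of_isKFlat (f.base x) P₀ hP₀.1
  have hP : DRing.HasTorAmplitudeIn (Z.presheaf.stalk (g.base (f.base x))) c d
      (DRing.toD ((resCx (g.stalkMap (f.base x)).hom).obj
        ((Groth.Agent.Lib.helper13.StalkD.stalkCx (f.base x)).obj P₀))) := by
    obtain ⟨e5⟩ := nonempty_Q_res_iso (g.stalkMap (f.base x)).hom _ _ e4
    exact hasTorAmplitudeIn_of_iso e5.symm (hG (f.base x))
  have hL : DRing.HasTorAmplitudeIn (Y.presheaf.stalk (f.base x)) a b
      (DRing.toD ((resCx (f.stalkMap x).hom).obj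
        ((Groth.Agent.Lib.helper13.StalkD.stalkCx x).obj F))) := hF x
  have hcomp : ((f ≫ g).stalkMap x).hom =
      (f.stalkMap x).hom.comp (g.stalkMap (f.base x)).hom := by
    rw [Scheme.Hom.stalkMap_comp]
    rfl
  have hmain := hasTorAmplitudeIn_res_ext_tensor
    (g.stalkMap (f.base x)).hom (f.stalkMap x).hom ((f ≫ g).stalkMap x).hom hcomp _ hPK _ a b c d hL hP
  obtain ⟨e6⟩ := nonempty_Q_res_iso ((f ≫ g).stalkMap x).hom _ _ (e2 ≪≫ e3)
  exact hasTorAmplitudeIn_of_iso e6.symm hmain


/-- Let f : X ⟶ Y and g : Y ⟶ Z be morphisms of schemes with composite h, F a cochain complex of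
O_X-modules with tor amplitude in [a, b] relative to f, and G a cochain complex of O_Y-modules with
tor amplitude in [c, d] relative to g (both stalkwise: at every point the complex of stalks is
isomorphic, in the derived category of the local ring of the base, to a complex of flat modules
placed in the interval). Then, the derived pullback Lf^* and the derived tensor product with F being
assumed to exist, the object Lf^* G ⊗^L F of D(O_X) has tor amplitude in [a + c, b + d] relative to
h: every cochain complex representing it has stalkwise flat models placed in [a + c, b + d] over the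
local rings of Z. (The published statement is for a commutative triangle of ringed topoi in which X
has enough points, and writes the relative derived tensor product of F and G over Y, defined as F
⊗^L Lf^* G; this row is the case of schemes, with tor amplitude in its stalkwise form and the
derived tensor product taken with F as the fixed right-hand factor.) -/
theorem result {X Y Z : Scheme.{u}} (f : X ⟶ Y) (g : Y ⟶ Z)
    (h : X ⟶ Z) (w : f ≫ g = h) (F : CochainComplex X.Modules ℤ) (a b : ℤ)
    (hF : DerSch.HasTorAmplitude f a b F) (G : CochainComplex Y.Modules ℤ) (c d : ℤ)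
    (hG : DerSch.HasTorAmplitude g c d G) [DCoh.HasLpull f] [DCoh.HasLTensorCx F] :
    DerSch.HasTorAmplitudeD h (a + c) (b + d)
      ((DCoh.LTensorCx F).obj ((DCoh.Lpull f).obj (DCoh.toD Y G))) := by
  subst w
  intro F' ⟨eF⟩ x
  exact Groth.Agent.S6240.at_point f g F a b hF G c d hG F' eF x

end Groth.Agent.S6240
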