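import Groth.Statements.S6241
import Mathlib
import Groth.Agent.Lib.Helper13.TorLow10
import Groth.Agent.Lib.Helper13.StalkD
import Groth.Agent.Lib.Helper13.PCStalk2
import Groth.Agent.Lib.Helper25.LpullPerfect
import Groth.Agent.Lib.Helper25.PullKFlat
import Groth.Agent.Lib.Helper25.LTensorComp
import Groth.Agent.Lib.Helper25.StalkTensorCx
import Groth.Agent.Lib.Helper25.StalkKFlat
import Groth.Agent.Lib.Helper23.TA11
-- import your own Groth.Agent.* helpers here

set_option autoImplicit false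
universe u
open CategoryTheory CategoryTheory.Limits AlgebraicGeometry
attribute [local instance] HasDerivedCategory.standard
open KSix

namespace Groth.Agent.S6241

open Groth.Agent.Lib.helper23.TA Groth.Agent.Lib.helper13.ExtKFlat DerivedCategory
  Groth.Agent.Lib.helper13.TorLow in
/-- exactness of the complex of stalks of `Lf^* M ⊗^L F` outside `[m, n]` -/
lemma at_point {X Y : Scheme.{u}} (f : X ⟶ Y)
    (F : CochainComplex X.Modules ℤ) (m n : ℤ) (hF : DerSch.HasTorAmplitude f m n F)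
    (M : Y.Modules) [DCoh.HasLpull f] [DCoh.HasLTensorCx F]
    (F' : CochainComplex X.Modules ℤ)
    (eF : DCoh.toD X F' ≅ (DCoh.LTensorCx F).obj ((DCoh.Lpull f).obj (DCoh.inD Y M))) (x : X)
    (i : ℤ) (hi : i < m ∨ n < i) :
    ((Groth.Agent.Lib.helper13.StalkD.stalkCx x).obj F').ExactAt i := by
  let G : CochainComplex Y.Modules ℤ :=
    (HomologicalComplex.single Y.Modules (ComplexShape.up ℤ) 0).obj M
  have eG : DCoh.toD Y G ≅ DCoh.inD Y M := Iso.refl _
  obtain ⟨P₀, hP₀, ⟨eP⟩⟩ := Groth.Agent.Lib.Helper25.LpullPerfect.exists_P₀_rep (DCoh.toD Y G)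
  obtain ⟨e1⟩ := Groth.Agent.Lib.Helper25.StalkPullFlat.nonempty_Lpull_iso f P₀ hP₀
  have hfP := Groth.Agent.Lib.Helper25.PullKFlat.isKFlat_pullback f P₀ hP₀.1
  haveI := Groth.Agent.Lib.Helper25.LTensorComp.isIso_ε_app F _ hfP
  have eF' : DCoh.toD X F' ≅ DCoh.toD X ((DCoh.tensorCx.obj
      (((Scheme.Modules.pullback f).mapHomologicalComplex (ComplexShape.up ℤ)).obj P₀)).obj F) :=
    eF ≪≫ (DCoh.LTensorCx F).mapIso ((DCoh.Lpull f).mapIso (eG.symm ≪≫ eP.symm) ≪≫ e1) ≪≫
      asIso ((Groth.Agent.Lib.Helper25.LTensorComp.ε F).app _)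
  obtain ⟨e2⟩ := Groth.Agent.Lib.helper13.StalkD.nonempty_Q_stalk_iso x _ _ eF'
  have e3 := Q.mapIso (Groth.Agent.Lib.Helper25.StalkTensorCx.stalkTensorCxIso x
      (((Scheme.Modules.pullback f).mapHomologicalComplex (ComplexShape.up ℤ)).obj P₀) F ≪≫
    MonoidalCategory.whiskerRightIso
      (Groth.Agent.Lib.Helper25.PullKFlat.stalkCxPullbackIso f x P₀) _)
  obtain ⟨e4⟩ := Groth.Agent.Lib.helper13.StalkD.nonempty_Q_stalk_iso (f.base x) P₀ G eP
  have hPK := Groth.Agent.Lib.Helper25.StalkKFlat.isKFlat_stalk_of_isKFlat (f.base x) P₀ hP₀.1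
  have hS : ∀ q : ℤ, q ≠ 0 →
      IsZero (((Groth.Agent.Lib.helper13.StalkD.stalkCx (f.base x)).obj G).X q) := fun q hq =>
    (DerSch.stalkFunctor Y (f.base x)).map_isZero
      (HomologicalComplex.isZero_single_obj_X (ComplexShape.up ℤ) 0 M q hq)
  have hL : DRing.HasTorAmplitudeIn (Y.presheaf.stalk (f.base x)) m n
      (DRing.toD ((resCx (f.stalkMap x).hom).obj
        ((Groth.Agent.Lib.helper13.StalkD.stalkCx x).obj F))) := hF x
  have hmain := exactAt_tensor_of_hasTorAmplitudeIn_iso _ m n hL _ _ hPK e4 hS i hi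
  rw [exactAt_res_tensor_iff] at hmain
  rw [exactAt_iff_of_iso_Q (e2 ≪≫ e3) i]
  exact exactAt_of_iso (DTen.braidCx _ _) i hmain

open Groth.Agent.Lib.helper23.TA Groth.Agent.Lib.helper13.ExtKFlat DerivedCategory
  Groth.Agent.Lib.helper13.TorLow in
/-- relative tor amplitude restricts to opens of the base -/
lemma restr_torAmp {X Y : Scheme.{u}} (f : X ⟶ Y) (F : CochainComplex X.Modules ℤ) (m n : ℤ)
    (hF : DerSch.HasTorAmplitude f m n F) (V : Y.Opens) :
    DerSch.HasTorAmplitude (f ∣_ V) m n ((DCoh.restrictCx (f ⁻¹ᵁ V)).obj F) := by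
  intro x
  let j : ((f ⁻¹ᵁ V : X.Opens) : Scheme.{u}) ⟶ X := (f ⁻¹ᵁ V).ι
  let N : DRing.Cx ((((f ⁻¹ᵁ V : X.Opens) : Scheme.{u}).presheaf.stalk x)) :=
    (Groth.Agent.Lib.helper13.StalkD.stalkCx x).obj ((DCoh.restrictCx (f ⁻¹ᵁ V)).obj F)
  have w : j ≫ f = (f ∣_ V) ≫ V.ι := (morphismRestrict_ι f V).symm
  -- step 1: over the stalk of `Y` at `f (j x)`
  have h0 : DRing.HasTorAmplitudeIn (Y.presheaf.stalk (f.base (j.base x))) m n
      (DRing.toD ((resCx (f.stalkMap (j.base x)).hom).obj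
        ((Groth.Agent.Lib.helper13.StalkD.stalkCx (j.base x)).obj F))) := hF (j.base x)
  have hfl : (j.stalkMap x).hom.Flat := AlgebraicGeometry.Flat.stalkMap j x
  have h1 := hasTorAmplitudeIn_res_ext_of_flat (f.stalkMap (j.base x)).hom (j.stalkMap x).hom hfl
    _ m n h0
  have hcomp : ((j ≫ f).stalkMap x).hom = (j.stalkMap x).hom.comp (f.stalkMap (j.base x)).hom := by
    rw [Scheme.Hom.stalkMap_comp]
    rfl
  have h2 : DRing.HasTorAmplitudeIn (Y.presheaf.stalk ((j ≫ f).base x)) m n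
      (DRing.toD ((resCx ((j ≫ f).stalkMap x).hom).obj N)) := by
    rw [hcomp]
    obtain ⟨e5⟩ := nonempty_Q_res_iso ((j.stalkMap x).hom.comp (f.stalkMap (j.base x)).hom) _ _
      (Q.mapIso (Groth.Agent.Lib.helper13.PCStalk.stalkCxResIso j F x))
    exact hasTorAmplitudeIn_of_iso e5.symm h1
  have h3 : DRing.HasTorAmplitudeIn (Y.presheaf.stalk (((f ∣_ V) ≫ V.ι).base x)) m n
      (DRing.toD ((resCx (((f ∣_ V) ≫ V.ι).stalkMap x).hom).obj N)) := w ▸ h2
  have hcomp' : (((f ∣_ V) ≫ V.ι).stalkMap x).hom =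
      ((f ∣_ V).stalkMap x).hom.comp (V.ι.stalkMap ((f ∣_ V).base x)).hom := by
    rw [Scheme.Hom.stalkMap_comp]
    rfl
  have hbij : Function.Bijective (V.ι.stalkMap ((f ∣_ V).base x)).hom :=
    ConcreteCategory.bijective_of_isIso (V.ι.stalkMap ((f ∣_ V).base x))
  have h4 : DRing.HasTorAmplitudeIn (Y.presheaf.stalk (V.ι.base ((f ∣_ V).base x))) m n
      (DRing.toD ((resCx (V.ι.stalkMap ((f ∣_ V).base x)).hom).obj
        ((resCx ((f ∣_ V).stalkMap x).hom).obj N))) := by
    rw [hcomp'] at h3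
    exact hasTorAmplitudeIn_of_iso (Q.mapIso (resCompIso _ _ _ rfl N)) h3
  exact hasTorAmplitudeIn_of_res_bijective _ hbij _ m n h4


/-- Let f : X ⟶ Y be a morphism of schemes and F a cochain complex of O_X-modules with bounded above
cohomology and tor amplitude in [m, n] relative to f in the stalkwise sense (at every point x of X
the complex of stalks F_x is isomorphic, in the derived category of the local ring of Y at f x, to a
complex of flat modules placed in [m, n]). Then for every open V of Y and every O_V-module M, the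
derived pullback along the restriction f⁻¹(V) ⟶ V of f and the derived tensor product with the
restriction of F to f⁻¹(V) being assumed to exist, the cohomology sheaves of L(f|)^* M ⊗^L (F
restricted to f⁻¹(V)) vanish outside [m, n]. (The published statement is for a morphism of ringed
topoi whose source has enough points, with V an object of the target topos; this row is the case of
schemes, V an open subscheme, and the derived tensor product taken with the restriction of F as the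
fixed right-hand factor.) -/
theorem result {X Y : Scheme.{u}} (f : X ⟶ Y)
    (F : CochainComplex X.Modules ℤ) (e : ℤ) [(DCoh.toD X F).IsLE e] (m n : ℤ)
    (hF : DerSch.HasTorAmplitude f m n F) (V : Y.Opens) (M : (V : Scheme.{u}).Modules)
    [DCoh.HasLpull (f ∣_ V)] [DCoh.HasLTensorCx ((DCoh.restrictCx (f ⁻¹ᵁ V)).obj F)]
    (i : ℤ) (hi : i < m ∨ n < i) :
    IsZero (DCoh.HD ((DCoh.LTensorCx ((DCoh.restrictCx (f ⁻¹ᵁ V)).obj F)).obj
      ((DCoh.Lpull (f ∣_ V)).obj (DCoh.inD (V : Scheme.{u}) M))) i) := by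
  have hF₁ := Groth.Agent.S6241.restr_torAmp f F m n hF V
  obtain ⟨F', ⟨eF⟩⟩ : ∃ F' : CochainComplex ((f ⁻¹ᵁ V : X.Opens) : Scheme.{u}).Modules ℤ,
      Nonempty (DCoh.toD _ F' ≅ (DCoh.LTensorCx ((DCoh.restrictCx (f ⁻¹ᵁ V)).obj F)).obj
        ((DCoh.Lpull (f ∣_ V)).obj (DCoh.inD (V : Scheme.{u}) M))) :=
    ⟨_, ⟨DerivedCategory.Q.objObjPreimageIso _⟩⟩
  have hz : IsZero (F'.homology i) := by
    apply Groth.Agent.Lib.Helper25.StalkKFlat.isZero_homology_of_forall_stalk
    intro x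
    rw [← HomologicalComplex.exactAt_iff_isZero_homology]
    exact Groth.Agent.S6241.at_point (f ∣_ V) _ m n hF₁ M F' eF x i hi
  exact hz.of_iso ((DerivedCategory.homologyFunctor _ i).mapIso eF.symm ≪≫
    (DerivedCategory.homologyFunctorFactors _ i).app F')

end Groth.Agent.S6241
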