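import Groth.Statements.S6249
import Groth.Agent.Lib.Helper25.SiteTFun2
import Groth.Agent.Lib.Helper25.SiteLTensor2

set_option autoImplicit false
universe u
open CategoryTheory CategoryTheory.Limits AlgebraicGeometry
attribute [local instance] HasDerivedCategory.standard
open KSix

namespace Groth.Agent.S6249

/-- Let (C, J, O) be a small site with a sheaf of commutative rings O, Mod(O) the category of O-modules,
E ∈ D⁻(O) given by a cochain complex, and p an integer. Then, the derived tensor product − ⊗^L_O E
being assumed to exist, the functor M ↦ H^p(M ⊗^L E) from Mod(O) to Mod(O) is right exact if and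
only if the functor M ↦ H^{p+1}(M ⊗^L E) is left exact. (The published statement is for a
commutative ringed topos and writes E ⊗^L M; this row is the topos of sheaves on a small site, with
the derived tensor product taken with E as the fixed right-hand factor.) -/
theorem result {C : Type u} [SmallCategory C]
    {J : GrothendieckTopology C} (O : Sheaf J CommRingCat.{u}) (E : CochainComplex (ModSite.Mod O) ℤ)
    (e : ℤ) [(DerivedCategory.Q.obj E).IsLE e] (p : ℤ) [ModSite.HasLTensorCx E] :
    PreservesFiniteColimits (DerivedCategory.singleFunctor (ModSite.Mod O) 0 ⋙ ModSite.LTensorCx E ⋙ DerivedCategory.homologyFunctor (ModSite.Mod O) p) ↔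
      PreservesFiniteLimits (DerivedCategory.singleFunctor (ModSite.Mod O) 0 ⋙ ModSite.LTensorCx E ⋙ DerivedCategory.homologyFunctor (ModSite.Mod O) (p + 1)) := by
  obtain ⟨P, φ, hPK, hPf, hφ, -⟩ := Groth.Agent.Lib.helper13.KRes.exists_isKFlat_resolution E
  haveI := Groth.Agent.Lib.Helper25.SiteLTensor2.hasLTensorCx_of_isKFlat P hPK
  have Λ := Groth.Agent.Lib.Helper25.SiteLTensor2.LTensorCxIsoOfQuasiIso φ
  have iso : ∀ q : ℤ, (DerivedCategory.singleFunctor (ModSite.Mod O) 0 ⋙ ModSite.LTensorCx E ⋙
      DerivedCategory.homologyFunctor (ModSite.Mod O) q ≅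
      Groth.Agent.Lib.Helper25.SiteTFun.TFun O P q) := fun q =>
    Functor.isoWhiskerLeft (DerivedCategory.singleFunctor (ModSite.Mod O) 0)
      (Functor.isoWhiskerRight Λ.symm (DerivedCategory.homologyFunctor (ModSite.Mod O) q)) ≪≫
      Groth.Agent.Lib.Helper25.SiteTFun2.TIso hPK q
  have h1 : PreservesFiniteColimits (DerivedCategory.singleFunctor (ModSite.Mod O) 0 ⋙
      ModSite.LTensorCx E ⋙ DerivedCategory.homologyFunctor (ModSite.Mod O) p) ↔
      PreservesFiniteColimits (Groth.Agent.Lib.Helper25.SiteTFun.TFun O P p) :=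
    ⟨fun _ => preservesFiniteColimits_of_natIso (iso p),
      fun _ => preservesFiniteColimits_of_natIso (iso p).symm⟩
  have h2 : PreservesFiniteLimits (DerivedCategory.singleFunctor (ModSite.Mod O) 0 ⋙
      ModSite.LTensorCx E ⋙ DerivedCategory.homologyFunctor (ModSite.Mod O) (p + 1)) ↔
      PreservesFiniteLimits (Groth.Agent.Lib.Helper25.SiteTFun.TFun O P (p + 1)) :=
    ⟨fun _ => preservesFiniteLimits_of_natIso (iso (p + 1)),
      fun _ => preservesFiniteLimits_of_natIso (iso (p + 1)).symm⟩
  rw [h1, h2]
  exact Groth.Agent.Lib.Helper25.SiteTFun.preservesFiniteColimits_TFun_iff_preservesFiniteLimits_succ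
    hPf p

end Groth.Agent.S6249
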