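import Groth.Statements.S6263
import Mathlib

set_option autoImplicit false
universe u
open CAlg

namespace Groth.Agent.S6263

section helpers

theorem mem_smul_top_of_smul_mem {R : Type*} [CommRing R] {N : Type*} [AddCommGroup N] [Module R N]
    [Module.Flat R N] (p : Ideal R) [p.IsPrime] {r : R} (hr : r ∉ p) {m : N}
    (h : r • m ∈ p • (⊤ : Submodule R N)) : m ∈ p • (⊤ : Submodule R N) := by
  let φ : (R ⧸ p) →ₗ[R] (R ⧸ p) := r • LinearMap.id
  have hφ : Function.Injective φ := by
    intro x y hxy
    have : (Ideal.Quotient.mk p r) * x = (Ideal.Quotient.mk p r) * y := by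
      simpa [φ, Algebra.smul_def] using hxy
    have hne : Ideal.Quotient.mk p r ≠ 0 := by
      rwa [Ne, Ideal.Quotient.eq_zero_iff_mem]
    exact mul_left_cancel₀ hne this
  have hinj := Module.Flat.rTensor_preserves_injective_linearMap (M := N) φ hφ
  let e := TensorProduct.quotTensorEquivQuotSMul N p
  have h1 : (1 : R ⧸ p) ⊗ₜ[R] m = 0 := by
    apply hinj
    rw [map_zero]
    have : φ.rTensor N (1 ⊗ₜ m) = e.symm (Submodule.Quotient.mk (r • m)) := by
      simp [φ, e, TensorProduct.smul_tmul']
    rw [this, (Submodule.Quotient.mk_eq_zero _).mpr h, map_zero]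
  have h2 : e (1 ⊗ₜ m) = Submodule.Quotient.mk m := by simp [e]
  rw [h1, map_zero] at h2
  exact (Submodule.Quotient.mk_eq_zero _).mp h2.symm


end helpers

/-- For a ring map R → S and a finite S-module N which is flat as an R-module, generalizations lift
along the map from the support of N (a subset of Spec S) to Spec R: if p ≤ p' are primes of R and q'
is a prime of S in the support of N whose inverse image in R is p', then some prime q ≤ q' of S lies
in the support of N and has inverse image p. -/
theorem result {R S : Type u} [CommRing R] [CommRing S] [Algebra R S] (N : Type u) [AddCommGroup N] [Module S N] [Module R N] [IsScalarTower R S N] [Module.Finite S N] [Module.Flat R N] (p p' : Ideal R) [p.IsPrime] [p'.IsPrime] (hle : p ≤ p') (q' : PrimeSpectrum S) (hq' : q' ∈ Module.support S N) (hover : q'.asIdeal.under R = p') : ∃ q : PrimeSpectrum S, q ≤ q' ∧ q ∈ Module.support S N ∧ q.asIdeal.under R = p := by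
  classical
  set I := Module.annihilator S N with hI
  have hIq' : I ≤ q'.asIdeal := Module.mem_support_iff_of_finite.mp hq'
  set J : Ideal S := p.map (algebraMap R S) ⊔ I with hJ
  set W : Submonoid S := q'.asIdeal.primeCompl ⊔ p.primeCompl.map (algebraMap R S) with hW
  -- elements of `pS` act into `pN`
  have hpS : ∀ a ∈ p.map (algebraMap R S), ∀ n : N, a • n ∈ p • (⊤ : Submodule R N) := by
    intro a ha
    refine Submodule.span_induction (p := fun a _ => ∀ n : N, a • n ∈ p • (⊤ : Submodule R N))
      ?_ ?_ ?_ ?_ ha
    · rintro _ ⟨r, hr, rfl⟩ n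
      rw [algebraMap_smul]
      exact Submodule.smul_mem_smul hr trivial
    · intro n; simp
    · intro x y _ _ hx hy n
      rw [add_smul]; exact add_mem (hx n) (hy n)
    · intro s x _ hx n
      rw [smul_eq_mul, mul_comm, mul_smul]
      exact hx _
  have hpq' : ∀ n ∈ p • (⊤ : Submodule R N), n ∈ q'.asIdeal • (⊤ : Submodule S N) := by
    intro n hn
    refine Submodule.smul_induction_on hn ?_ ?_
    · intro r hr n _
      rw [← algebraMap_smul S r n]
      refine Submodule.smul_mem_smul ?_ trivial
      have : r ∈ q'.asIdeal.under R := hover ▸ hle hr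
      exact this
    · intro x y hx hy; exact add_mem hx hy
  have hdisj : Disjoint (J : Set S) (W : Set S) := by
    rw [Set.disjoint_left]
    rintro x hxJ hxW
    obtain ⟨u, hu, v, hv, rfl⟩ := Submonoid.mem_sup.mp hxW
    obtain ⟨r, hr, rfl⟩ := hv
    obtain ⟨a, ha, b, hb, hab⟩ := Submodule.mem_sup.mp hxJ
    have hu' : u ∉ q'.asIdeal := hu
    have hr' : r ∉ p := hr
    -- `u • n ∈ pN` for all `n`
    have hun : ∀ n : N, u • n ∈ p • (⊤ : Submodule R N) := by
      intro n
      apply mem_smul_top_of_smul_mem p hr'
      have : r • u • n = a • n := by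
        rw [← algebraMap_smul S r (u • n), ← mul_smul, mul_comm, ← hab, add_smul,
          Module.mem_annihilator.mp hb n, add_zero]
      rw [this]
      exact hpS a ha n
    -- Cayley–Hamilton
    let f : Module.End S N := algebraMap S (Module.End S N) u
    have hf : LinearMap.range f ≤ q'.asIdeal • (⊤ : Submodule S N) := by
      rintro _ ⟨n, rfl⟩
      exact hpq' _ (by simpa [f] using hun n)
    obtain ⟨P, hP, -, hcoeff, hPf⟩ :=
      LinearMap.exists_monic_and_natDegree_eq_and_coeff_mem_pow_and_aeval_eq_zero S f q'.asIdeal hf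
    have hPu : Polynomial.aeval u P ∈ I := by
      rw [hI, Module.mem_annihilator]
      intro n
      have := congrArg (fun g : Module.End S N => g n) hPf
      simpa [f, Polynomial.aeval_algebraMap_apply] using this
    have hPu' : Polynomial.eval u P ∈ q'.asIdeal := hIq' (by simpa using hPu)
    rw [Polynomial.eval_eq_sum_range, Finset.sum_range_succ, hP.coeff_natDegree, one_mul] at hPu'
    have hsum : ∑ i ∈ Finset.range P.natDegree, P.coeff i * u ^ i ∈ q'.asIdeal := by
      refine Ideal.sum_mem _ fun i hi => ?_
      refine Ideal.mul_mem_right _ _ ?_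
      have hi' : P.natDegree - i ≠ 0 := by
        have := Finset.mem_range.mp hi; omega
      exact Ideal.pow_le_self hi' (hcoeff i)
    have : u ^ P.natDegree ∈ q'.asIdeal := (Ideal.add_mem_iff_right _ hsum).mp hPu'
    exact hu' (q'.isPrime.mem_of_pow_mem _ this)
  obtain ⟨q, hqp, hJq, hqW⟩ := Ideal.exists_le_prime_disjoint J W hdisj
  rw [Set.disjoint_left] at hqW
  refine ⟨⟨q, hqp⟩, ?_, ?_, ?_⟩
  · intro x hx
    by_contra hxq
    exact hqW hx (Submonoid.mem_sup_left (show x ∈ q'.asIdeal.primeCompl from hxq))
  · exact Module.mem_support_iff_of_finite.mpr (le_trans le_sup_right hJq)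
  · apply le_antisymm
    · intro r hr
      by_contra hrp
      have hr1 : algebraMap R S r ∈ q := hr
      exact hqW hr1 (Submonoid.mem_sup_right ⟨r, hrp, rfl⟩)
    · intro r hr
      exact hJq (Ideal.mem_sup_left (Ideal.mem_map_of_mem _ hr))

end Groth.Agent.S6263
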