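import Groth.Statements.S6267
import Groth.Agent.Lib.Helper25.TensorChase

set_option autoImplicit false
universe u
open CAlg

namespace Groth.Agent.S6267

open TensorProduct in
/-- Let R be a ring and f : M → M' a map of R-modules with M' flat. Then f is universally injective
exactly when, for each finitely generated ideal I of R, the induced map M ⊗ R/I → M' ⊗ R/I (that is,
M/IM → M'/IM') is injective. -/
theorem result {R : Type u} [CommRing R] {M M' : Type u} [AddCommGroup M] [Module R M] [AddCommGroup M'] [Module R M'] [Module.Flat R M'] (f : M →ₗ[R] M') : CAlgX.UniversallyInjective R f ↔ ∀ I : Ideal R, I.FG → Function.Injective (f.rTensor (R ⧸ I)) := by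
  constructor
  · intro hf I _
    exact hf (R ⧸ I)
  · intro h
    -- Step 1: f is injective
    have hfinj : Function.Injective f := by
      rw [injective_iff_map_eq_zero]
      intro m hm
      have h0 := h ⊥ Submodule.fg_bot
      have h1 : (f.rTensor (R ⧸ (⊥ : Ideal R))) (m ⊗ₜ 1) = 0 := by
        simp [hm]
      have h2 : m ⊗ₜ[R] (1 : R ⧸ (⊥ : Ideal R)) = 0 := by
        apply h0
        rw [h1, map_zero]
      let e : (R ⧸ (⊥ : Ideal R)) ≃ₗ[R] R := Submodule.quotEquivOfEqBot ⊥ rfl
      have h3 := congrArg (fun t => TensorProduct.rid R M ((e.toLinearMap.lTensor M) t)) h2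
      have he : e 1 = 1 := by
        have : (1 : R ⧸ (⊥ : Ideal R)) = Submodule.Quotient.mk (1 : R) := rfl
        rw [this]
        exact Submodule.quotEquivOfEqBot_apply_mk _ rfl 1
      simpa [he] using h3
    -- Step 2: the cokernel is flat
    let g : M' →ₗ[R] (M' ⧸ LinearMap.range f) := (LinearMap.range f).mkQ
    have hfg : Function.Exact f g := LinearMap.exact_map_mkQ_range f
    have hg : Function.Surjective g := Submodule.mkQ_surjective _
    have hflat : Module.Flat R (M' ⧸ LinearMap.range f) := by
      rw [Module.Flat.iff_lTensor_injective]
      intro I hI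
      exact Groth.Agent.Lib.helper25.lTensor_injective_of_exact f g hfg hg
        (Submodule.subtype I) (Submodule.mkQ I) (LinearMap.exact_subtype_mkQ I)
        (Submodule.mkQ_surjective _) (h I hI)
        (Module.Flat.lTensor_preserves_injective_linearMap (M := M') (Submodule.subtype I)
          (Submodule.injective_subtype _))
    -- Step 3: universally injective
    intro Q _ _
    exact Groth.Agent.Lib.helper25.rTensor_injective_of_flat_coker f g hfg hg hfinj Q

end Groth.Agent.S6267
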