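import Groth.Statements.S6268
import Mathlib

set_option autoImplicit false
universe u
open CAlg

namespace Groth.Agent.S6268

open TensorProduct in
theorem one_tmul_injective {R S : Type u} [CommRing R] [CommRing S] [Algebra R S]
    (hS : CAlgX.UniversallyInjective R (Algebra.linearMap R S))
    (M : Type u) [AddCommGroup M] [Module R M] :
    Function.Injective (fun m : M => (1 : S) ⊗ₜ[R] m) := by
  have h := hS M
  have : (fun m : M => (1 : S) ⊗ₜ[R] m) =
      ((Algebra.linearMap R S).rTensor M) ∘ (TensorProduct.lid R M).symm := by
    funext m
    simp
  rw [this]
  exact h.comp (TensorProduct.lid R M).symm.injective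

/-- Suppose the structure map R → S of an R-algebra S is universally injective as an R-linear map. Then
tensoring with S detects injectivity and surjectivity of R-linear maps (and hence reflects
isomorphisms): for an R-linear g : M → N, if S ⊗ g is injective then so is g, and if S ⊗ g is
surjective then so is g. -/
theorem result {R S : Type u} [CommRing R] [CommRing S] [Algebra R S] (hS : CAlgX.UniversallyInjective R (Algebra.linearMap R S)) {M N : Type u} [AddCommGroup M] [Module R M] [AddCommGroup N] [Module R N] (g : M →ₗ[R] N) : (Function.Injective (g.lTensor S) → Function.Injective g) ∧ (Function.Surjective (g.lTensor S) → Function.Surjective g) := by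
  refine ⟨fun hinj => ?_, fun hsurj => ?_⟩
  · intro m m' h
    apply one_tmul_injective hS M
    apply hinj
    simp [h]
  · -- cokernel argument
    let C := N ⧸ LinearMap.range g
    let π : N →ₗ[R] C := (LinearMap.range g).mkQ
    have hπ : Function.Surjective π := Submodule.mkQ_surjective _
    have hπS : Function.Surjective (π.lTensor S) := LinearMap.lTensor_surjective S hπ
    have hcomp : π.comp g = 0 := by
      ext m
      simp only [π, LinearMap.comp_apply, LinearMap.zero_apply]
      exact (Submodule.Quotient.mk_eq_zero _).mpr ⟨m, rfl⟩
    have hzero : ∀ x : TensorProduct R S C, x = 0 := by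
      intro x
      obtain ⟨y, rfl⟩ := hπS x
      obtain ⟨z, rfl⟩ := hsurj y
      rw [← LinearMap.comp_apply, ← LinearMap.lTensor_comp, hcomp]
      simp
    have hC : ∀ c : C, c = 0 := by
      intro c
      apply one_tmul_injective hS C
      simp only [TensorProduct.tmul_zero]
      exact hzero _
    intro n
    have := hC (π n)
    exact (Submodule.Quotient.mk_eq_zero _).mp this

end Groth.Agent.S6268
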