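import Groth.Statements.S6269
import Groth.Agent.Lib.Helper25.TensorChase

set_option autoImplicit false
universe u
open CAlg

namespace Groth.Agent.S6269

/-- Let 0 → M₁ → M₂ → M₃ → 0 be a universally exact sequence of R-modules (a short exact sequence whose
first map is universally injective) with M₂ flat. Then M₁ and M₃ are flat. -/
theorem result {R : Type u} [CommRing R] {M₁ M₂ M₃ : Type u} [AddCommGroup M₁] [Module R M₁] [AddCommGroup M₂] [Module R M₂] [AddCommGroup M₃] [Module R M₃] (f : M₁ →ₗ[R] M₂) (g : M₂ →ₗ[R] M₃) (hexact : Function.Exact f g) (hg : Function.Surjective g) (hf : CAlgX.UniversallyInjective R f) [Module.Flat R M₂] : Module.Flat R M₁ ∧ Module.Flat R M₃ := by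
  constructor
  · rw [Module.Flat.iff_lTensor_preserves_injective_linearMap]
    intro N N' _ _ _ _ i hi
    -- (f ⊗ N') ∘ (M₁ ⊗ i) = (M₂ ⊗ i) ∘ (f ⊗ N) is injective
    have h1 : Function.Injective ((i.lTensor M₂).comp (f.rTensor N)) :=
      (Module.Flat.lTensor_preserves_injective_linearMap (M := M₂) i hi).comp (hf N)
    rw [LinearMap.lTensor_comp_rTensor, ← LinearMap.rTensor_comp_lTensor] at h1
    exact Function.Injective.of_comp h1
  · rw [Module.Flat.iff_lTensor_preserves_injective_linearMap]
    intro N N' _ _ _ _ i hi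
    exact Groth.Agent.Lib.helper25.lTensor_injective_of_exact f g hexact hg i
      (LinearMap.range i).mkQ (LinearMap.exact_map_mkQ_range i) (Submodule.mkQ_surjective _)
      (hf _) (Module.Flat.lTensor_preserves_injective_linearMap (M := M₂) i hi)

end Groth.Agent.S6269
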