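import Groth.Statements.S6270
import Mathlib
import Groth.Agent.Lib.Helper8.NilLift

set_option autoImplicit false
universe u
open scoped TensorProduct
open CAlg

namespace Groth.Agent.S6270

open Groth.Agent.Lib.helper8.NilLift in
/-- If `P / K` is flat then `K ∩ I P = I K`. -/
theorem ker_inf_smul_top_le {R : Type*} [CommRing R] (I : Ideal R) {P M : Type*}
    [AddCommGroup P] [Module R P] [AddCommGroup M] [Module R M] [Module.Flat R M]
    (g : P →ₗ[R] M) (hg : Function.Surjective g) (k : P) (hk : g k = 0)
    (hkI : k ∈ I • (⊤ : Submodule R P)) : k ∈ I • LinearMap.ker g := by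
  -- the multiplication maps
  let μP : I ⊗[R] P →ₗ[R] P := (TensorProduct.lid R P).toLinearMap ∘ₗ LinearMap.rTensor P I.subtype
  let μM : I ⊗[R] M →ₗ[R] M := (TensorProduct.lid R M).toLinearMap ∘ₗ LinearMap.rTensor M I.subtype
  have hμM : Function.Injective μM := by
    have := Module.Flat.rTensor_preserves_injective_linearMap (M := M) I.subtype
      Subtype.val_injective
    exact (TensorProduct.lid R M).injective.comp this
  have hcomm : ∀ w : I ⊗[R] P, g (μP w) = μM (LinearMap.lTensor I g w) := by
    intro w
    induction w using TensorProduct.induction_on with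
    | zero => simp
    | tmul a p => simp [μP, μM]
    | add x y hx hy => simp only [map_add, hx, hy]
  obtain ⟨w, hw⟩ : ∃ w : I ⊗[R] P, μP w = k := by
    refine Submodule.smul_induction_on hkI ?_ ?_
    · intro a ha p _
      exact ⟨(⟨a, ha⟩ : I) ⊗ₜ p, by simp [μP]⟩
    · rintro x y ⟨w1, h1⟩ ⟨w2, h2⟩
      exact ⟨w1 + w2, by rw [map_add, h1, h2]⟩
  have h0 : LinearMap.lTensor I g w = 0 := by
    apply hμM
    rw [← hcomm, hw, hk, map_zero]
  have hex : Function.Exact (LinearMap.lTensor I (LinearMap.ker g).subtype)
      (LinearMap.lTensor I g) :=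
    lTensor_exact I (LinearMap.exact_subtype_ker_map g) hg
  obtain ⟨w', hw'⟩ := (hex w).mp h0
  rw [← hw, ← hw']
  clear hw' h0 hw
  induction w' using TensorProduct.induction_on with
  | zero => simp
  | tmul a p =>
    have : μP (LinearMap.lTensor I (LinearMap.ker g).subtype (a ⊗ₜ p)) = (a : R) • (p : P) := by
      simp [μP]
    rw [this]
    exact Submodule.smul_mem_smul a.2 p.2
  | add x y hx hy =>
    rw [map_add, map_add]
    exact add_mem hx hy

/-- A flat module whose reduction mod a nilpotent ideal agrees with that of a projective module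
is projective. -/
theorem projective_of_equiv_baseChange {R : Type*} [CommRing R] (I : Ideal R) (hI : IsNilpotent I)
    (M : Type*) [AddCommGroup M] [Module R M] [Module.Flat R M]
    (P : Type*) [AddCommGroup P] [Module R P] [Module.Projective R P]
    (E : (R ⧸ I) ⊗[R] P ≃ₗ[R ⧸ I] (R ⧸ I) ⊗[R] M) : Module.Projective R M := by
  classical
  have hsurj : Function.Surjective (algebraMap R (R ⧸ I)) := Ideal.Quotient.mk_surjective
  have hker : RingHom.ker (algebraMap R (R ⧸ I)) = I := Ideal.mk_ker
  have hI' : IsNilpotent (RingHom.ker (algebraMap R (R ⧸ I))) := by rw [hker]; exact hI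
  have hπ : Function.Surjective (TensorProduct.mk R (R ⧸ I) M 1) := by
    intro z
    obtain ⟨m, rfl⟩ := Groth.Agent.Lib.helper8.NilLift.exists_one_tmul_eq hsurj M z
    exact ⟨m, rfl⟩
  obtain ⟨g, hg⟩ := Module.projective_lifting_property (TensorProduct.mk R (R ⧸ I) M 1)
    ((E.toLinearMap.restrictScalars R) ∘ₗ (TensorProduct.mk R (R ⧸ I) P 1)) hπ
  have hbc : g.baseChange (R ⧸ I) = E.toLinearMap := by
    apply TensorProduct.AlgebraTensorModule.curry_injective
    apply LinearMap.ext_ring
    ext m
    have := congrArg (fun φ => φ m) hg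
    simpa using this
  have hbij : Function.Bijective (g.baseChange (R ⧸ I)) := by
    rw [hbc]; exact E.bijective
  have hgs : Function.Surjective g := by
    exact Groth.Agent.Lib.helper8.NilLift.surjective_of_baseChange_surjective hsurj hI' g hbij.2
  have hgi : Function.Injective g := by
    rw [← LinearMap.ker_eq_bot, eq_bot_iff]
    apply Groth.Agent.Lib.helper8.NilLift.le_of_le_sup_smul_of_isNilpotent I hI (LinearMap.ker g) ⊥
    intro k hk
    rw [bot_sup_eq]
    have h0 : ((1 : R ⧸ I) ⊗ₜ[R] k : (R ⧸ I) ⊗[R] P) = 0 := by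
      apply hbij.1
      rw [LinearMap.baseChange_tmul, LinearMap.mem_ker.mp hk, TensorProduct.tmul_zero, map_zero]
    have h2 := Groth.Agent.Lib.helper8.NilLift.mem_smul_top_of_one_tmul_eq_zero hsurj P _ h0
    rw [hker] at h2
    exact ker_inf_smul_top_le I g hgs k (LinearMap.mem_ker.mp hk) h2
  exact Module.Projective.of_equiv (LinearEquiv.ofBijective g ⟨hgi, hgs⟩)

/-- Let R be a ring, I ⊆ R a nilpotent ideal and M an R-module. If M is flat over R and M/IM (that is,
R/I ⊗ M) is a projective R/I-module, then M is a projective R-module. -/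
theorem result {R : Type u} [CommRing R] (I : Ideal R) (hI : IsNilpotent I) (M : Type u) [AddCommGroup M] [Module R M] [Module.Flat R M] (hproj : Module.Projective (R ⧸ I) ((R ⧸ I) ⊗[R] M)) : Module.Projective R M := by
  have hsurj : Function.Surjective (algebraMap R (R ⧸ I)) := Ideal.Quotient.mk_surjective
  have hker : RingHom.ker (algebraMap R (R ⧸ I)) = I := Ideal.mk_ker
  have hI' : IsNilpotent (RingHom.ker (algebraMap R (R ⧸ I))) := by rw [hker]; exact hI
  obtain ⟨P, hP, ⟨E⟩⟩ :=
    Groth.Agent.Lib.helper8.NilLift.exists_projective_lift_of_projective hsurj hI'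
      ((R ⧸ I) ⊗[R] M)
  exact @projective_of_equiv_baseChange R _ I hI M _ _ _ P _ _ hP E

end Groth.Agent.S6270
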