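import Groth.Statements.S6271
import Mathlib
import Groth.Agent.Lib.Helper8.NilLift

set_option autoImplicit false
universe u
open scoped TensorProduct
open CAlg

namespace Groth.Agent.S6271

/-- Let R be a ring, I ⊆ R a locally nilpotent ideal (every element of I is nilpotent) and P̄ a finite
projective R/I-module. Then there is a finite projective R-module P such that P/IP (that is, R/I ⊗
P) is isomorphic to P̄ as an R/I-module. -/
theorem result {R : Type u} [CommRing R] (I : Ideal R) (hI : ∀ x ∈ I, IsNilpotent x) (Pb : Type u) [AddCommGroup Pb] [Module (R ⧸ I) Pb] [Module.Projective (R ⧸ I) Pb] [Module.Finite (R ⧸ I) Pb] : ∃ (P : Type u) (_ : AddCommGroup P) (_ : Module R P), Module.Projective R P ∧ Module.Finite R P ∧ Nonempty (((R ⧸ I) ⊗[R] P) ≃ₗ[R ⧸ I] Pb) := by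
  open Groth.Agent.Lib.helper8.NilLift in
  have hsurj : Function.Surjective (algebraMap R (R ⧸ I)) := Ideal.Quotient.mk_surjective
  have hI' : ∀ x ∈ RingHom.ker (algebraMap R (R ⧸ I)), IsNilpotent x := by
    intro x hx
    rw [Ideal.Quotient.algebraMap_eq, Ideal.mk_ker] at hx
    exact hI x hx
  obtain ⟨n, M, hproj, hfin, he⟩ := exists_projective_lift' hsurj hI' Pb
  exact ⟨M, inferInstance, inferInstance, hproj, hfin, he⟩

end Groth.Agent.S6271
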