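import Groth.Statements.S6272
import Mathlib

set_option autoImplicit false
universe u
open scoped TensorProduct
open CAlg

namespace Groth.Agent.S6272

section aux
variable {R : Type u} [CommRing R]

lemma smul_quot_eq_zero {M : Type*} [AddCommGroup M] [Module R M] {K K' : Ideal R} (hK : K ≤ K')
    (k : R) (hk : k ∈ K) (x : M ⧸ (K' • (⊤ : Submodule R M))) : k • x = 0 := by
  obtain ⟨m, rfl⟩ := Submodule.mkQ_surjective _ x
  rw [← map_smul, Submodule.mkQ_apply, Submodule.Quotient.mk_eq_zero]
  exact Submodule.smul_mem_smul (hK hk) Submodule.mem_top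

lemma lift_of_torsion (J : Ideal R) (P : Type u) [AddCommGroup P] [Module R P]
    (hJ : Module.Projective (R ⧸ J) ((R ⧸ J) ⊗[R] P))
    {N N' : Type u} [AddCommGroup N] [Module R N] [AddCommGroup N'] [Module R N']
    (hN : ∀ j ∈ J, ∀ n : N, j • n = 0) (hN' : ∀ j ∈ J, ∀ n : N', j • n = 0)
    (g : N →ₗ[R] N') (hg : Function.Surjective g) (f : P →ₗ[R] N') :
    ∃ f' : P →ₗ[R] N, g ∘ₗ f' = f := by
  have tN : Module.IsTorsionBySet R N J := fun n j => hN j.1 j.2 n
  have tN' : Module.IsTorsionBySet R N' J := fun n j => hN' j.1 j.2 n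
  let _ : Module (R ⧸ J) N := tN.module
  have : IsScalarTower R (R ⧸ J) N := tN.isScalarTower
  let _ : Module (R ⧸ J) N' := tN'.module
  have : IsScalarTower R (R ⧸ J) N' := tN'.isScalarTower
  have hsurj : Function.Surjective (algebraMap R (R ⧸ J)) := Ideal.Quotient.mk_surjective
  let gB : N →ₗ[R ⧸ J] N' := g.extendScalarsOfSurjective hsurj
  let fB : (R ⧸ J) ⊗[R] P →ₗ[R ⧸ J] N' := f.liftBaseChange (R ⧸ J)
  obtain ⟨h, hh⟩ := Module.projective_lifting_property gB fB hg
  refine ⟨(h.restrictScalars R) ∘ₗ (TensorProduct.mk R (R ⧸ J) P 1), ?_⟩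
  ext p
  have := LinearMap.congr_fun hh ((1 : R ⧸ J) ⊗ₜ p)
  simpa [gB, fB] using this

/-- the map induced on quotients by `K • ⊤`. -/
noncomputable def quotMap (K : Ideal R) {M N : Type*} [AddCommGroup M] [Module R M] [AddCommGroup N]
    [Module R N] (f : M →ₗ[R] N) :
    M ⧸ (K • ⊤ : Submodule R M) →ₗ[R] N ⧸ (K • ⊤ : Submodule R N) :=
  Submodule.mapQ _ _ f (by
    rw [← Submodule.map_le_iff_le_comap, Submodule.map_smul'']
    exact Submodule.smul_mono le_rfl le_top)

@[simp] lemma quotMap_mk (K : Ideal R) {M N : Type*} [AddCommGroup M] [Module R M] [AddCommGroup N]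
    [Module R N] (f : M →ₗ[R] N) (m : M) :
    quotMap K f (Submodule.Quotient.mk m) = Submodule.Quotient.mk (f m) := rfl

lemma quotMap_surjective (K : Ideal R) {M N : Type*} [AddCommGroup M] [Module R M] [AddCommGroup N]
    [Module R N] (f : M →ₗ[R] N) (hf : Function.Surjective f) :
    Function.Surjective (quotMap K f) := by
  intro y
  obtain ⟨n, rfl⟩ := Submodule.mkQ_surjective _ y
  obtain ⟨m, rfl⟩ := hf n
  exact ⟨Submodule.Quotient.mk m, rfl⟩

/-- coefficients of elements of `I • ⊤` in a free module lie in `I`. -/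
lemma coeff_mem_of_mem_smul_top (I : Ideal R) {ι : Type*} (x : ι →₀ R)
    (hx : x ∈ (I • ⊤ : Submodule R (ι →₀ R))) (i : ι) : x i ∈ I := by
  induction hx using Submodule.smul_induction_on' with
  | smul r hr n _ => simpa using I.mul_mem_right _ hr
  | add x _ y _ hx hy => simpa using I.add_mem hx hy

/-- gluing along `I ⊓ J = ⊥` in a module where `I M ∩ J M = 0`. -/
lemma glue (I J : Ideal R) {M P : Type*} [AddCommGroup M] [Module R M] [AddCommGroup P]
    [Module R P] (hM : (I • ⊤ : Submodule R M) ⊓ (J • ⊤) = ⊥)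
    (a : P →ₗ[R] M ⧸ (I • ⊤ : Submodule R M)) (b : P →ₗ[R] M ⧸ (J • ⊤ : Submodule R M))
    (hab : ∀ p, Submodule.factor (Submodule.smul_mono_left (le_sup_left : I ≤ I ⊔ J)) (a p) =
      Submodule.factor (Submodule.smul_mono_left (le_sup_right : J ≤ I ⊔ J)) (b p)) :
    ∃ s : P →ₗ[R] M, (∀ p, Submodule.Quotient.mk (s p) = a p) ∧
      (∀ p, Submodule.Quotient.mk (s p) = b p) := by
  have ex : ∀ p, ∃ z : M, (Submodule.Quotient.mk z : M ⧸ (I • ⊤ : Submodule R M)) = a p ∧
      (Submodule.Quotient.mk z : M ⧸ (J • ⊤ : Submodule R M)) = b p := by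
    intro p
    obtain ⟨u, hu⟩ := Submodule.mkQ_surjective _ (a p)
    obtain ⟨v, hv⟩ := Submodule.mkQ_surjective _ (b p)
    have h1 := hab p
    rw [← hu, ← hv, Submodule.factor_mk, Submodule.factor_mk, Submodule.mkQ_apply,
      Submodule.mkQ_apply, Submodule.Quotient.eq, Submodule.sup_smul] at h1
    obtain ⟨m, hm, n, hn, hmn⟩ := Submodule.mem_sup.mp h1
    refine ⟨u - m, ?_, ?_⟩
    · rw [← hu, Submodule.mkQ_apply, Submodule.Quotient.eq]
      simpa using (Submodule.neg_mem _ hm)
    · rw [← hv, Submodule.mkQ_apply, Submodule.Quotient.eq]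
      have : u - m - v = n := by rw [sub_right_comm, ← hmn, add_sub_cancel_left]
      rw [this]; exact hn
  have uniq : ∀ z z' : M,
      (Submodule.Quotient.mk z : M ⧸ (I • ⊤ : Submodule R M)) = Submodule.Quotient.mk z' →
      (Submodule.Quotient.mk z : M ⧸ (J • ⊤ : Submodule R M)) = Submodule.Quotient.mk z' →
      z = z' := by
    intro z z' h1 h2
    rw [Submodule.Quotient.eq] at h1 h2
    have : z - z' ∈ (I • ⊤ : Submodule R M) ⊓ (J • ⊤) := ⟨h1, h2⟩
    rw [hM, Submodule.mem_bot] at this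
    exact sub_eq_zero.mp this
  choose s hs1 hs2 using ex
  refine ⟨{ toFun := s, map_add' := fun p q => uniq _ _ ?_ ?_, map_smul' := fun r p => uniq _ _ ?_ ?_ },
    hs1, hs2⟩
  · rw [Submodule.Quotient.mk_add, hs1, hs1, hs1, map_add]
  · rw [Submodule.Quotient.mk_add, hs2, hs2, hs2, map_add]
  · rw [RingHom.id_apply, Submodule.Quotient.mk_smul, hs1, hs1, map_smul]
  · rw [RingHom.id_apply, Submodule.Quotient.mk_smul, hs2, hs2, map_smul]

end aux

/-- Over a ring R, take two ideals I and J meeting in zero (I ∩ J = 0) and an R-module P. If the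
R/I-module P/IP (that is, R/I ⊗ P) and the R/J-module P/JP (that is, R/J ⊗ P) are both projective,
then P itself is projective over R. -/
theorem result {R : Type u} [CommRing R] (I J : Ideal R) (hIJ : I ⊓ J = ⊥) (P : Type u) [AddCommGroup P] [Module R P] (hI : Module.Projective (R ⧸ I) ((R ⧸ I) ⊗[R] P)) (hJ : Module.Projective (R ⧸ J) ((R ⧸ J) ⊗[R] P)) : Module.Projective R P := by
  classical
  let π : (P →₀ R) →ₗ[R] P := Finsupp.linearCombination R id
  have hπ : Function.Surjective π := fun p => ⟨Finsupp.single p 1, by simp [π]⟩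
  have hIK : I ≤ I ⊔ J := le_sup_left
  have hJK : J ≤ I ⊔ J := le_sup_right
  -- Step 1: section mod I
  obtain ⟨a, ha⟩ := lift_of_torsion I P hI (smul_quot_eq_zero le_rfl) (smul_quot_eq_zero le_rfl)
    (quotMap I π) (quotMap_surjective I π hπ) (Submodule.mkQ _)
  -- Step 2: section mod J compatible with a mod I ⊔ J, via the fibre product
  let N' : Submodule R (((P →₀ R) ⧸ ((I ⊔ J) • ⊤ : Submodule R (P →₀ R))) ×
      (P ⧸ (J • ⊤ : Submodule R P))) :=
    LinearMap.eqLocus ((quotMap (I ⊔ J) π) ∘ₗ LinearMap.fst R _ _)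
      ((Submodule.factor (Submodule.smul_mono_left hJK)) ∘ₗ LinearMap.snd R _ _)
  let g : ((P →₀ R) ⧸ (J • ⊤ : Submodule R (P →₀ R))) →ₗ[R] N' :=
    LinearMap.codRestrict N'
      (LinearMap.prod (Submodule.factor (Submodule.smul_mono_left hJK)) (quotMap J π)) (by
        intro z
        obtain ⟨u, rfl⟩ := Submodule.mkQ_surjective _ z
        simp [N', LinearMap.mem_eqLocus])
  have hg : Function.Surjective g := by
    rintro ⟨⟨x, y⟩, hxy⟩
    obtain ⟨u, rfl⟩ := Submodule.mkQ_surjective _ x
    obtain ⟨y', rfl⟩ := Submodule.mkQ_surjective _ y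
    have h1 : π u - y' ∈ ((I ⊔ J) • ⊤ : Submodule R P) := by
      have := hxy
      simp only [N', LinearMap.mem_eqLocus, LinearMap.comp_apply, LinearMap.fst_apply,
        LinearMap.snd_apply, Submodule.mkQ_apply, quotMap_mk] at this
      change Submodule.mkQ _ (π u) = Submodule.factor _ (Submodule.mkQ _ y') at this
      rw [Submodule.factor_mk, Submodule.mkQ_apply, Submodule.mkQ_apply,
        Submodule.Quotient.eq] at this
      exact this
    rw [Submodule.sup_smul] at h1
    obtain ⟨m, hm, n, hn, hmn⟩ := Submodule.mem_sup.mp h1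
    have hm' : m ∈ ((I • ⊤ : Submodule R (P →₀ R))).map π := by
      rw [Submodule.map_smul'', Submodule.map_top, LinearMap.range_eq_top.mpr hπ]; exact hm
    obtain ⟨m', hm'I, rfl⟩ := hm'
    refine ⟨Submodule.Quotient.mk (u - m'), ?_⟩
    apply Subtype.ext
    apply Prod.ext
    · change Submodule.factor _ (Submodule.mkQ _ (u - m')) = Submodule.mkQ _ u
      rw [Submodule.factor_mk, Submodule.mkQ_apply, Submodule.mkQ_apply, Submodule.Quotient.eq]
      have : u - m' - u = -m' := by abel
      rw [this]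
      exact Submodule.neg_mem _ (Submodule.smul_mono_left hIK hm'I)
    · change quotMap J π (Submodule.Quotient.mk (u - m')) = Submodule.mkQ _ y'
      rw [quotMap_mk, Submodule.mkQ_apply, Submodule.Quotient.eq]
      have : π (u - m') - y' = n := by rw [map_sub, sub_right_comm, ← hmn, add_sub_cancel_left]
      rw [this]; exact hn
  have hN' : ∀ j ∈ J, ∀ n : N', j • n = 0 := by
    rintro j hj ⟨⟨x, y⟩, hxy⟩
    apply Subtype.ext
    apply Prod.ext
    · exact smul_quot_eq_zero hJK j hj x
    · exact smul_quot_eq_zero le_rfl j hj y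
  let f : P →ₗ[R] N' :=
    LinearMap.codRestrict N'
      (LinearMap.prod ((Submodule.factor (Submodule.smul_mono_left hIK)) ∘ₗ a) (Submodule.mkQ _)) (by
        intro p
        obtain ⟨u, hu⟩ := Submodule.mkQ_surjective _ (a p)
        have h2 := LinearMap.congr_fun ha p
        rw [LinearMap.comp_apply, ← hu, Submodule.mkQ_apply, quotMap_mk, Submodule.mkQ_apply,
          Submodule.Quotient.eq] at h2
        change quotMap (I ⊔ J) π (Submodule.factor (Submodule.smul_mono_left hIK) (a p)) =
          Submodule.factor (Submodule.smul_mono_left hJK) (Submodule.mkQ (J • ⊤ : Submodule R P) p)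
        rw [← hu, Submodule.factor_mk, Submodule.factor_mk, Submodule.mkQ_apply, quotMap_mk,
          Submodule.mkQ_apply, Submodule.Quotient.eq]
        exact Submodule.smul_mono_left hIK h2)
  obtain ⟨b, hb⟩ := lift_of_torsion J P hJ (smul_quot_eq_zero le_rfl) hN' g hg f
  have hb1 : ∀ p, Submodule.factor (Submodule.smul_mono_left hIK) (a p) =
      Submodule.factor (Submodule.smul_mono_left hJK) (b p) := by
    intro p
    have := congrArg (fun z => z.1.1) (LinearMap.congr_fun hb p)
    exact this.symm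
  have hb2 : ∀ p, quotMap J π (b p) = Submodule.Quotient.mk p := by
    intro p
    have := congrArg (fun z => z.1.2) (LinearMap.congr_fun hb p)
    exact this
  -- Step 3: glue
  have hFree : ((I • ⊤ : Submodule R (P →₀ R))) ⊓ (J • ⊤) = ⊥ := by
    rw [eq_bot_iff]
    rintro x ⟨hx1, hx2⟩
    rw [Submodule.mem_bot]
    ext i
    have : x i ∈ I ⊓ J := ⟨coeff_mem_of_mem_smul_top I x hx1 i, coeff_mem_of_mem_smul_top J x hx2 i⟩
    rw [hIJ] at this
    simpa using this
  obtain ⟨s, hs1, hs2⟩ := glue I J hFree a b hb1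
  -- Step 4: π ∘ s = id + ε with ε² = 0
  let ε : P →ₗ[R] P := π ∘ₗ s - LinearMap.id
  have hε1 : ∀ p, ε p ∈ (I • ⊤ : Submodule R P) := by
    intro p
    have h2 := LinearMap.congr_fun ha p
    rw [LinearMap.comp_apply, ← hs1 p, quotMap_mk, Submodule.mkQ_apply, Submodule.Quotient.eq] at h2
    simpa [ε] using h2
  have hε2 : ∀ p, ε p ∈ (J • ⊤ : Submodule R P) := by
    intro p
    have h2 := hb2 p
    rw [← hs2 p, quotMap_mk, Submodule.Quotient.eq] at h2
    simpa [ε] using h2
  have hε : ε ∘ₗ ε = 0 := by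
    have h3 : (I • ⊤ : Submodule R P).map ε ≤ ⊥ := by
      rw [Submodule.map_smul'']
      calc I • (⊤ : Submodule R P).map ε ≤ I • (J • ⊤ : Submodule R P) := by
            apply Submodule.smul_mono le_rfl
            rintro _ ⟨p, -, rfl⟩
            exact hε2 p
        _ = (I * J) • (⊤ : Submodule R P) := by rw [Submodule.mul_smul]
        _ ≤ (I ⊓ J) • (⊤ : Submodule R P) := Submodule.smul_mono_left Ideal.mul_le_inf
        _ = ⊥ := by rw [hIJ, Submodule.bot_smul]
    ext p
    have := h3 (Submodule.mem_map_of_mem (hε1 p))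
    simpa using this
  have hπs : π ∘ₗ s = LinearMap.id + ε := by simp [ε]
  refine Module.Projective.of_split (s ∘ₗ (LinearMap.id - ε)) π ?_
  rw [← LinearMap.comp_assoc, hπs]
  ext p
  have := LinearMap.congr_fun hε p
  simp only [LinearMap.comp_apply, LinearMap.zero_apply] at this
  simp [this]

end Groth.Agent.S6272
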