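import Groth.Statements.S6274
import Mathlib
import Groth.Agent.S6273

set_option autoImplicit false
universe u
open CAlg

namespace Groth.Agent.S6274

section aux

/-- In a Noetherian quasi-sober space, a closed set stable under generization is open. -/
theorem isOpen_of_closed_of_stable {X : Type*} [TopologicalSpace X]
    [TopologicalSpace.NoetherianSpace X] [QuasiSober X] (Z : Set X) (hZ : IsClosed Z)
    (hgen : ∀ x ∈ Z, ∀ y : X, y ⤳ x → y ∈ Z) : IsOpen Z := by
  have hfin : (irreducibleComponents X).Finite :=
    TopologicalSpace.NoetherianSpace.finite_irreducibleComponents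
  have hcompl : Zᶜ = ⋃ C ∈ {C ∈ irreducibleComponents X | Disjoint C Z}, C := by
    ext x
    simp only [Set.mem_compl_iff, Set.mem_iUnion, Set.mem_setOf_eq, exists_prop]
    constructor
    · intro hx
      refine ⟨irreducibleComponent x, ⟨irreducibleComponent_mem_irreducibleComponents x, ?_⟩,
        mem_irreducibleComponent⟩
      rw [Set.disjoint_left]
      intro z hzC hzZ
      obtain ⟨η, hη⟩ := QuasiSober.sober (isIrreducible_irreducibleComponent (x := x))
        (isClosed_irreducibleComponent (x := x))
      have h1 : closure {η} = irreducibleComponent x := hη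
      have h2 : η ⤳ z := by
        rw [specializes_iff_mem_closure, h1]; exact hzC
      have h3 : η ∈ Z := hgen z hzZ η h2
      have h4 : irreducibleComponent x ⊆ Z := by
        rw [← h1]
        exact hZ.closure_subset_iff.mpr (Set.singleton_subset_iff.mpr h3)
      exact hx (h4 mem_irreducibleComponent)
    · rintro ⟨C, ⟨-, hCZ⟩, hxC⟩ hxZ
      exact Set.disjoint_left.mp hCZ hxC hxZ
  have hclosed : IsClosed Zᶜ := by
    rw [hcompl]
    refine Set.Finite.isClosed_biUnion (hfin.subset (fun C hC => hC.1)) ?_
    intro C hC
    exact isClosed_of_mem_irreducibleComponents C hC.1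
  exact isClosed_compl_iff.mp hclosed

variable {R : Type u} [CommRing R] (S : Submonoid R)

/-- the locus of primes disjoint from `S` is stable under generization -/
theorem stable_disjoint (x : PrimeSpectrum R) (hx : Disjoint (S : Set R) x.asIdeal)
    (y : PrimeSpectrum R) (hy : y ⤳ x) : Disjoint (S : Set R) y.asIdeal := by
  have h1 : y ≤ x := (PrimeSpectrum.le_iff_specializes y x).mpr hy
  exact Set.disjoint_of_subset_right (fun r hr => h1 hr) hx

/-- for finitely generated `S` the locus is a basic open -/
theorem isOpen_disjoint_of_fg (hS : S.FG) :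
    IsOpen {p : PrimeSpectrum R | Disjoint (S : Set R) p.asIdeal} := by
  classical
  obtain ⟨F, hF⟩ := hS
  have heq : {p : PrimeSpectrum R | Disjoint (S : Set R) p.asIdeal} =
      (PrimeSpectrum.basicOpen (∏ x ∈ F, x) : Set (PrimeSpectrum R)) := by
    ext p
    simp only [Set.mem_setOf_eq, SetLike.mem_coe, PrimeSpectrum.mem_basicOpen]
    constructor
    · intro hd hmem
      have h1 : (∏ x ∈ F, x) ∈ S := by
        rw [← hF]
        exact Submonoid.prod_mem _ (fun x hx => Submonoid.subset_closure hx)
      exact Set.disjoint_left.mp hd h1 hmem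
    · intro hnot
      have h1 : S ≤ p.asIdeal.primeCompl := by
        rw [← hF]
        apply Submonoid.closure_le.mpr
        intro x hx hxp
        exact hnot (Ideal.mem_of_dvd _ (Finset.dvd_prod_of_mem _ hx) hxp)
      rw [Set.disjoint_left]
      intro s hs hsp
      exact h1 hs hsp
  rw [heq]
  exact (PrimeSpectrum.basicOpen _).isOpen

end aux



/-- Let R be a ring, S ⊆ R a multiplicative subset and A = S⁻¹R, and assume the image of Spec(A) →
Spec(R) is closed. If Spec(R) is a Noetherian topological space (which holds when R is Noetherian)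
or S is finitely generated as a monoid, then R is isomorphic to A × R' for some ring R', by an
isomorphism whose first component is the localization map R → A. -/
theorem result {R : Type u} [CommRing R] (S : Submonoid R) (A : Type u) [CommRing A] [Algebra R A] [IsLocalization S A] (hcl : IsClosed (Set.range (PrimeSpectrum.comap (algebraMap R A)))) (h : TopologicalSpace.NoetherianSpace (PrimeSpectrum R) ∨ S.FG) : ∃ (R' : Type u) (_ : CommRing R') (e : R ≃+* A × R'), ∀ x : R, (e x).1 = algebraMap R A x := by
  classical
  have hsurj : Function.Surjective (algebraMap R A) := Groth.Agent.S6273.result S A hcl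
  have hrange := PrimeSpectrum.localization_comap_range A S
  rw [hrange] at hcl
  -- the locus is open
  have hopen : IsOpen {p : PrimeSpectrum R | Disjoint (S : Set R) p.asIdeal} := by
    rcases h with hN | hfg
    · haveI := hN
      exact isOpen_of_closed_of_stable _ hcl (fun x hx y hy => stable_disjoint S x hx y hy)
    · exact isOpen_disjoint_of_fg S hfg
  obtain ⟨e, he, hZe⟩ := PrimeSpectrum.isClopen_iff.mp ⟨hcl, hopen⟩
  have hmemZ : ∀ p : PrimeSpectrum R, Disjoint (S : Set R) p.asIdeal ↔ e ∉ p.asIdeal := by
    intro p
    have h1 : p ∈ {p : PrimeSpectrum R | Disjoint (S : Set R) p.asIdeal} ↔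
        p ∈ (PrimeSpectrum.basicOpen e : Set (PrimeSpectrum R)) := by rw [hZe]
    simpa using h1
  -- the image of `e` in `A` is `1`
  have he1 : algebraMap R A e = 1 := by
    have hid : IsIdempotentElem (1 - algebraMap R A e) := (he.map (algebraMap R A)).one_sub
    have hnil : IsNilpotent (1 - algebraMap R A e) := by
      rw [nilpotent_iff_mem_prime]
      intro P hP
      have h1 : Disjoint (S : Set R) (Ideal.comap (algebraMap R A) P) := by
        have h2 : (⟨Ideal.comap (algebraMap R A) P, inferInstance⟩ : PrimeSpectrum R) ∈
            Set.range (PrimeSpectrum.comap (algebraMap R A)) := ⟨⟨P, hP⟩, rfl⟩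
        rw [hrange] at h2
        exact h2
      have h3 : e ∉ Ideal.comap (algebraMap R A) P :=
        (hmemZ ⟨Ideal.comap (algebraMap R A) P, inferInstance⟩).mp h1
      have h4 : (1 - algebraMap R A e) * algebraMap R A e ∈ P := by
        have h5 : (1 - algebraMap R A e) * algebraMap R A e = 0 := by
          have h6 := (he.map (algebraMap R A)).eq
          rw [sub_mul, one_mul, h6, sub_self]
        rw [h5]; exact P.zero_mem
      exact (hP.mem_or_mem h4).resolve_right h3
    obtain ⟨n, hn⟩ := hnil
    have h7 : 1 - algebraMap R A e = 0 := by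
      rcases Nat.eq_zero_or_pos n with h0 | hpos
      · rw [h0, pow_zero] at hn
        have : (1 - algebraMap R A e) = (1 - algebraMap R A e) * 1 := (mul_one _).symm
        rw [this, hn, mul_zero]
      · rw [← hid.pow_eq hpos.ne'] 
        exact hn
    exact (sub_eq_zero.mp h7).symm
  -- the map
  let φ : R →+* A × (R ⧸ Ideal.span {e}) :=
    (algebraMap R A).prod (Ideal.Quotient.mk (Ideal.span {e}))
  have hinj : Function.Injective φ := by
    rw [injective_iff_map_eq_zero]
    intro x hx
    have hx1 : algebraMap R A x = 0 := congrArg Prod.fst hx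
    have hx2 : Ideal.Quotient.mk (Ideal.span {e}) x = 0 := congrArg Prod.snd hx
    obtain ⟨s, hs⟩ := (IsLocalization.map_eq_zero_iff S A x).mp hx1
    rw [Ideal.Quotient.eq_zero_iff_mem, Ideal.mem_span_singleton'] at hx2
    obtain ⟨y, hy⟩ := hx2
    have htop : Ideal.span {(s : R), 1 - e} = ⊤ := by
      by_contra hne
      obtain ⟨M, hM, hle⟩ := Ideal.exists_le_maximal _ hne
      have hsM : (s : R) ∈ M := hle (Ideal.subset_span (by simp))
      have heM : 1 - e ∈ M := hle (Ideal.subset_span (by simp))
      have henot : e ∉ M := by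
        intro heM'
        have : (1 : R) ∈ M := by
          have h1 : (1 : R) = (1 - e) + e := by ring
          rw [h1]; exact M.add_mem heM heM'
        exact hM.ne_top ((Ideal.eq_top_iff_one M).mpr this)
      have hdis : Disjoint (S : Set R) M :=
        (hmemZ ⟨M, hM.isPrime⟩).mpr henot
      exact Set.disjoint_left.mp hdis s.2 hsM
    have h1 : (1 : R) ∈ Ideal.span {(s : R), 1 - e} := by rw [htop]; trivial
    obtain ⟨a, b, hab⟩ := Ideal.mem_span_pair.mp h1
    have hee : e * e = e := he.eq
    calc x = (a * s + b * (1 - e)) * x := by rw [hab, one_mul]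
      _ = a * (s * x) + b * y * (e - e * e) := by rw [← hy]; ring
      _ = 0 := by rw [hs, hee, sub_self, mul_zero, mul_zero, add_zero]
  have hsurjφ : Function.Surjective φ := by
    rintro ⟨a, r'⟩
    obtain ⟨y, rfl⟩ := hsurj a
    obtain ⟨r'', rfl⟩ := Ideal.Quotient.mk_surjective r'
    refine ⟨y * e + r'' * (1 - e), ?_⟩
    have hme : Ideal.Quotient.mk (Ideal.span {e}) e = 0 :=
      Ideal.Quotient.eq_zero_iff_mem.mpr (Ideal.subset_span rfl)
    refine Prod.ext ?_ ?_
    · show algebraMap R A (y * e + r'' * (1 - e)) = algebraMap R A y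
      rw [map_add, map_mul, map_mul, map_sub, map_one, he1, sub_self, mul_zero, add_zero, mul_one]
    · show Ideal.Quotient.mk (Ideal.span {e}) (y * e + r'' * (1 - e)) =
        Ideal.Quotient.mk (Ideal.span {e}) r''
      rw [map_add, map_mul, map_mul, map_sub, map_one, hme, sub_zero, mul_zero, zero_add, mul_one]
  exact ⟨R ⧸ Ideal.span {e}, inferInstance, RingEquiv.ofBijective φ ⟨hinj, hsurjφ⟩, fun x => rfl⟩


end Groth.Agent.S6274
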