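import Groth.Statements.S6275
import Mathlib
-- import your own Groth.Agent.* helpers here

set_option autoImplicit false
universe u
open CAlg

namespace Groth.Agent.S6275

/-- Let R be a Noetherian ring and p ⊆ R a prime. Then there is f ∈ R, f ∉ p, such that R_f → R_p is
injective; equivalently every x ∈ R mapping to zero in R_p maps to zero in R_f. (The cases of a
domain and of a reduced ring with finitely many minimal primes are not included here.) -/
theorem result {R : Type u} [CommRing R] [IsNoetherianRing R] (p : Ideal R) [p.IsPrime] : ∃ f : R, f ∉ p ∧ ∀ x : R, algebraMap R (Localization.AtPrime p) x = 0 → algebraMap R (Localization.Away f) x = 0 := by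
  classical
  have hfg : (RingHom.ker (algebraMap R (Localization.AtPrime p))).FG :=
    IsNoetherian.noetherian _
  obtain ⟨s, hs⟩ := hfg
  have key : ∀ g ∈ s, ∃ t : p.primeCompl, (t : R) * g = 0 := by
    intro g hg
    have hg' : g ∈ RingHom.ker (algebraMap R (Localization.AtPrime p)) := by
      rw [← hs]; exact Ideal.subset_span hg
    rw [RingHom.mem_ker] at hg'
    exact (IsLocalization.map_eq_zero_iff p.primeCompl (Localization.AtPrime p) g).mp hg'
  choose! t ht using key
  refine ⟨∏ g ∈ s, (t g : R), ?_, ?_⟩
  · have : (∏ g ∈ s, (t g : R)) ∈ p.primeCompl :=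
      Submonoid.prod_mem _ fun g _ => (t g).2
    exact this
  · intro x hx
    have hx' : x ∈ Ideal.span (s : Set R) := by
      rw [hs, RingHom.mem_ker]; exact hx
    have hfx : (∏ g ∈ s, (t g : R)) * x = 0 := by
      refine Submodule.span_induction (p := fun x _ => (∏ g ∈ s, (t g : R)) * x = 0)
        ?_ ?_ ?_ ?_ hx'
      · intro g hg
        rw [← Finset.mul_prod_erase s _ hg, mul_comm ((t g : R)), mul_assoc, ht g hg, mul_zero]
      · simp
      · intro a b _ _ ha hb
        rw [mul_add, ha, hb, add_zero]
      · intro a b _ hb
        rw [smul_eq_mul, mul_left_comm, hb, mul_zero]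
    rw [IsLocalization.map_eq_zero_iff (Submonoid.powers (∏ g ∈ s, (t g : R)))]
    exact ⟨⟨_, Submonoid.mem_powers _⟩, hfx⟩

end Groth.Agent.S6275
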