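import Groth.Statements.S6276
import Mathlib
-- import your own Groth.Agent.* helpers here

set_option autoImplicit false
universe u
open scoped TensorProduct
open CAlg

namespace Groth.Agent.S6276

/-- Let k be a field, R a Noetherian k-algebra and K/k a finitely generated field extension. Then K ⊗ₖ R
is a Noetherian ring. -/
theorem result (k : Type u) [Field k] (R : Type u) [CommRing R] [Algebra k R] [IsNoetherianRing R] (K : Type u) [Field K] [Algebra k K] (hK : ∃ s : Finset K, IntermediateField.adjoin k (s : Set K) = ⊤) : IsNoetherianRing (K ⊗[k] R) := by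
  obtain ⟨s, hs⟩ := hK
  let B : Subalgebra k K := Algebra.adjoin k (s : Set K)
  haveI : Algebra.FiniteType k B :=
    (Subalgebra.fg_iff_finiteType B).mp (Subalgebra.fg_adjoin_finset s)
  haveI : IsFractionRing B K := IsFractionRing.of_field B K (fun z => by
    have hz : z ∈ IntermediateField.adjoin k (s : Set K) := by rw [hs]; trivial
    obtain ⟨r, hr, t, ht, rfl⟩ := IntermediateField.mem_adjoin_iff_div.mp hz
    exact ⟨⟨r, hr⟩, ⟨t, ht⟩, rfl⟩)
  haveI : IsNoetherianRing (R ⊗[k] B) := Algebra.FiniteType.isNoetherianRing R (R ⊗[k] B)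
  have hBR : IsNoetherianRing (B ⊗[k] R) :=
    isNoetherianRing_of_ringEquiv (R ⊗[k] B) (Algebra.TensorProduct.comm k R B).toRingEquiv
  let φ : B ⊗[k] R →ₐ[k] K ⊗[k] R :=
    Algebra.TensorProduct.map (IsScalarTower.toAlgHom k B K) (AlgHom.id k R)
  letI inst1 : Algebra (B ⊗[k] R) (K ⊗[k] R) := φ.toRingHom.toAlgebra
  have inst2 : IsScalarTower B (B ⊗[k] R) (K ⊗[k] R) := IsScalarTower.of_algebraMap_eq (fun x => by
    change _ = φ (algebraMap B (B ⊗[k] R) x)
    rw [Algebra.TensorProduct.algebraMap_apply, Algebra.TensorProduct.algebraMap_apply]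
    simp [φ])
  have hloc := @IsLocalization.tensorProduct_tensorProduct k R _ _ _ B _ _ (nonZeroDivisors B) K
    _ _ _ _ _ inst1 (by exact inst2) (by
    ext x
    change φ ((1 : B) ⊗ₜ[k] x) = (1 : K) ⊗ₜ[k] x
    simp [φ])
  exact @IsLocalization.isNoetherianRing (B ⊗[k] R) _
    (Algebra.algebraMapSubmonoid (B ⊗[k] R) (nonZeroDivisors B)) (K ⊗[k] R) _ inst1 hloc hBR

end Groth.Agent.S6276
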