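import Groth.Statements.S6277
import Mathlib
-- import your own Groth.Agent.* helpers here

set_option autoImplicit false
universe u
open CAlg

namespace Groth.Agent.S6277

/-- Any surjective ring endomorphism of a Noetherian ring is an isomorphism (bijective). -/
theorem result {R : Type u} [CommRing R] [IsNoetherianRing R] (f : R →+* R) (hf : Function.Surjective f) : Function.Bijective f := by
  refine ⟨?_, hf⟩
  have hsurj : ∀ n : ℕ, Function.Surjective (f^[n]) := fun n => hf.iterate n
  let K : ℕ →o Ideal R :=
    ⟨fun n => RingHom.ker (f ^ n), by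
      intro m n hmn x hx
      rw [RingHom.mem_ker] at hx ⊢
      obtain ⟨k, rfl⟩ := Nat.exists_eq_add_of_le hmn
      rw [add_comm, pow_add, RingHom.mul_def, RingHom.comp_apply, hx, map_zero]⟩
  obtain ⟨n, hn⟩ := monotone_stabilizes_iff_noetherian.mpr (inferInstance : IsNoetherian R R) K
  rw [injective_iff_map_eq_zero]
  intro x hx
  obtain ⟨y, rfl⟩ := hsurj n x
  have h1 : y ∈ K (n + 1) := by
    change y ∈ RingHom.ker (f ^ (n + 1))
    rw [RingHom.mem_ker, pow_succ', RingHom.mul_def, RingHom.comp_apply, RingHom.coe_pow]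
    exact hx
  rw [← hn (n + 1) (Nat.le_succ n)] at h1
  change y ∈ RingHom.ker (f ^ n) at h1
  rwa [RingHom.mem_ker, RingHom.coe_pow] at h1

end Groth.Agent.S6277
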