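import Groth.Statements.S6278
import Mathlib.RingTheory.IntegralClosure.IntegrallyClosed
import Mathlib.RingTheory.Localization.AtPrime.Basic
import Mathlib.RingTheory.Ideal.Maximal
import Mathlib.Tactic.LinearCombination

set_option autoImplicit false
universe u
open CAlg

namespace Groth.Agent.S6278

/-- A normal ring R (all localizations at primes are integrally closed domains) is integrally closed in
its total ring of fractions. -/
theorem result (R : Type u) [CommRing R] (hR : EGA4.IsNormalRing R) : IsIntegrallyClosedIn R (FractionRing R) := by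
  classical
  rw [isIntegrallyClosedIn_iff]
  refine ⟨IsLocalization.injective (FractionRing R) le_rfl, ?_⟩
  intro x hx
  obtain ⟨b, s, rfl⟩ := IsLocalization.exists_mk'_eq (nonZeroDivisors R) x
  set x := IsLocalization.mk' (FractionRing R) b s with hxdef
  have hxs : x * algebraMap R (FractionRing R) s = algebraMap R (FractionRing R) b :=
    IsLocalization.mk'_spec _ b s
  -- denominators
  let D : Ideal R :=
    { carrier := {r | ∃ a : R, algebraMap R (FractionRing R) r * x = algebraMap R (FractionRing R) a}
      add_mem' := by
        rintro r r' ⟨a, ha⟩ ⟨a', ha'⟩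
        exact ⟨a + a', by rw [map_add, add_mul, ha, ha', map_add]⟩
      zero_mem' := ⟨0, by simp⟩
      smul_mem' := by
        rintro c r ⟨a, ha⟩
        exact ⟨c * a, by rw [smul_eq_mul, map_mul, mul_assoc, ha, map_mul]⟩ }
  suffices h1 : (1 : R) ∈ D by
    obtain ⟨a, ha⟩ := h1
    exact ⟨a, by rw [← ha, map_one, one_mul]⟩
  by_contra hne
  have hD : D ≠ ⊤ := fun h => hne (by rw [h]; trivial)
  obtain ⟨m, hm, hDm⟩ := Ideal.exists_le_maximal D hD
  haveI := hm.isPrime
  obtain ⟨hdom, hic⟩ := hR m
  let A := Localization.AtPrime m
  let L := FractionRing A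
  have hle : nonZeroDivisors R ≤ (nonZeroDivisors A).comap (algebraMap R A) :=
    IsLocalization.nonZeroDivisors_le_comap m.primeCompl A
  let φ : FractionRing R →+* L := IsLocalization.map L (algebraMap R A) hle
  have hφ : ∀ r : R, φ (algebraMap R (FractionRing R) r) = algebraMap A L (algebraMap R A r) :=
    fun r => IsLocalization.map_eq hle r
  have hint : IsIntegral A (φ x) := by
    refine IsIntegral.map_of_comp_eq (algebraMap R A) φ ?_ hx
    ext r
    exact (hφ r).symm
  obtain ⟨a, ha⟩ := IsIntegrallyClosed.algebraMap_eq_of_integral hint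
  obtain ⟨a₀, t, rfl⟩ := IsLocalization.exists_mk'_eq m.primeCompl a
  have hat : IsLocalization.mk' A a₀ t * algebraMap R A t = algebraMap R A a₀ :=
    IsLocalization.mk'_spec _ a₀ t
  have h2 : algebraMap R A a₀ * algebraMap R A s = algebraMap R A b * algebraMap R A t := by
    apply IsFractionRing.injective A L
    have := congrArg φ hxs
    rw [map_mul, hφ, hφ, ← ha] at this
    rw [map_mul, map_mul, ← this, ← hat, map_mul]
    ring
  rw [← map_mul, ← map_mul, IsLocalization.eq_iff_exists m.primeCompl] at h2
  obtain ⟨u, hu⟩ := h2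
  have hmem : (u : R) * t ∈ D := by
    refine ⟨u * a₀, ?_⟩
    have hsu : IsUnit (algebraMap R (FractionRing R) s) := IsLocalization.map_units _ s
    apply hsu.mul_right_cancel
    rw [mul_assoc, hxs, ← map_mul, ← map_mul]
    congr 1
    linear_combination -hu
  have := hDm hmem
  rcases (Ideal.IsPrime.mem_or_mem inferInstance this) with h | h
  · exact u.2 h
  · exact t.2 h

end Groth.Agent.S6278
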