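import Groth.Statements.S6279
import Mathlib
-- import your own Groth.Agent.* helpers here

set_option autoImplicit false
universe u
open CAlg

namespace Groth.Agent.S6279

/-- A finite product of normal rings is normal (a ring is normal when every localization at a prime is
an integrally closed domain). -/
theorem result {ι : Type u} [Finite ι] (A : ι → Type u) [∀ i, CommRing (A i)] (hA : ∀ i, EGA4.IsNormalRing (A i)) : EGA4.IsNormalRing (∀ i, A i) := by
  intro P hP
  obtain ⟨i, q, hq⟩ := PrimeSpectrum.exists_comap_evalRingHom_eq (⟨P, hP⟩ : PrimeSpectrum (∀ i, A i))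
  have hPq : P = Ideal.comap (Pi.evalRingHom A i) q.asIdeal := by
    have := congrArg PrimeSpectrum.asIdeal hq
    exact this.symm
  subst hPq
  obtain ⟨hd, hic⟩ := hA i q.asIdeal
  let e : Localization (q.asIdeal.primeCompl.comap (Pi.evalRingHom A i)) ≃+*
      Localization q.asIdeal.primeCompl :=
    RingEquiv.ofBijective _ (Localization.mapPiEvalRingHom_bijective q.asIdeal.primeCompl)
  change IsDomain (Localization (q.asIdeal.primeCompl.comap (Pi.evalRingHom A i))) ∧
    IsIntegrallyClosed (Localization (q.asIdeal.primeCompl.comap (Pi.evalRingHom A i)))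
  haveI : IsDomain (Localization q.asIdeal.primeCompl) := hd
  haveI : IsIntegrallyClosed (Localization q.asIdeal.primeCompl) := hic
  exact ⟨e.toMulEquiv.isDomain _, IsIntegrallyClosed.of_equiv e.symm⟩

end Groth.Agent.S6279
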