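import Groth.Statements.S6281
import Mathlib
-- import your own Groth.Agent.* helpers here

set_option autoImplicit false
universe u
open CAlg

namespace Groth.Agent.S6281

/-- For an R-algebra S and an S-module M, flatness of S over R follows once M is both flat over R and
faithfully flat over S. -/
theorem result {R S : Type u} [CommRing R] [CommRing S] [Algebra R S] (M : Type u) [AddCommGroup M] [Module S M] [Module R M] [IsScalarTower R S M] [Module.Flat R M] [Module.FaithfullyFlat S M] : Module.Flat R S := by
  rw [Module.Flat.iff_lTensor_preserves_injective_linearMap]
  intro N N' _ _ _ _ f hf
  let g : TensorProduct R S N →ₗ[S] TensorProduct R S N' := f.baseChange S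
  have hg : (g : TensorProduct R S N → TensorProduct R S N') = f.lTensor S := rfl
  rw [← hg, ← Module.FaithfullyFlat.lTensor_injective_iff_injective S M g]
  let eN := TensorProduct.AlgebraTensorModule.cancelBaseChange R S S M N
  let eN' := TensorProduct.AlgebraTensorModule.cancelBaseChange R S S M N'
  have hcomm : ∀ x, eN' (g.lTensor M x) = f.lTensor M (eN x) := by
    intro x
    induction x using TensorProduct.induction_on with
    | zero => simp
    | tmul m y =>
      induction y using TensorProduct.induction_on with
      | zero => simp
      | tmul a n => simp [eN, eN', g]
      | add y z hy hz => simp only [TensorProduct.tmul_add, map_add, hy, hz]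
    | add x y hx hy => simp only [map_add, hx, hy]
  have hinj : Function.Injective (f.lTensor M) := Module.Flat.lTensor_preserves_injective_linearMap f hf
  intro x y hxy
  apply eN.injective
  apply hinj
  rw [← hcomm, ← hcomm, hxy]

end Groth.Agent.S6281
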