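import Groth.Statements.S6282
import Mathlib
-- import your own Groth.Agent.* helpers here

set_option autoImplicit false
universe u
open scoped TensorProduct
open CAlg

namespace Groth.Agent.S6282

open TensorProduct in
lemma key {R S S' : Type u} [CommRing R] [CommRing S] [CommRing S'] [Algebra R S] [Algebra R S']
    [Algebra S S'] [IsScalarTower R S S'] (M : Type u) [AddCommGroup M] [Module S M] [Module R M]
    [IsScalarTower R S M] {N N' : Type u} [AddCommGroup N] [AddCommGroup N'] [Module R N]
    [Module R N'] (f : N →ₗ[R] N') :
    Function.Injective (f.lTensor (S' ⊗[S] M)) ↔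
      Function.Injective ((TensorProduct.AlgebraTensorModule.lTensor S M f).lTensor S') := by
  let eN := TensorProduct.AlgebraTensorModule.assoc R S S' S' M N
  let eN' := TensorProduct.AlgebraTensorModule.assoc R S S' S' M N'
  have hcomm : ∀ x, eN' (f.lTensor (S' ⊗[S] M) x) =
      (TensorProduct.AlgebraTensorModule.lTensor S M f).lTensor S' (eN x) := by
    intro x
    induction x using TensorProduct.induction_on with
    | zero => simp
    | tmul y n =>
      induction y using TensorProduct.induction_on with
      | zero => simp
      | tmul a m => simp [eN, eN']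
      | add y z hy hz => simp only [TensorProduct.add_tmul, map_add, hy, hz]
    | add x y hx hy => simp only [map_add, hx, hy]
  constructor
  · intro h x y hxy
    obtain ⟨x, rfl⟩ := eN.surjective x
    obtain ⟨y, rfl⟩ := eN.surjective y
    rw [← hcomm, ← hcomm] at hxy
    rw [h (eN'.injective hxy)]
  · intro h x y hxy
    apply eN.injective
    apply h
    rw [← hcomm, ← hcomm, hxy]

/-- Let S → S' be a homomorphism of R-algebras, M an S-module, and M' = S' ⊗_S M with its induced
R-module structure. (1) When S' is flat over S, R-flatness of M passes to M'. (2) When S' is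
faithfully flat over S, M is R-flat exactly when M' is. -/
theorem result {R S S' : Type u} [CommRing R] [CommRing S] [CommRing S'] [Algebra R S] [Algebra R S'] [Algebra S S'] [IsScalarTower R S S'] (M : Type u) [AddCommGroup M] [Module S M] [Module R M] [IsScalarTower R S M] : ([Module.Flat S S'] → Module.Flat R M → Module.Flat R (S' ⊗[S] M)) ∧ ([Module.FaithfullyFlat S S'] → (Module.Flat R M ↔ Module.Flat R (S' ⊗[S] M))) := by
  have h1 : ∀ [Module.Flat S S'], Module.Flat R M → Module.Flat R (S' ⊗[S] M) := by
    intro _ hM
    rw [Module.Flat.iff_lTensor_preserves_injective_linearMap]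
    intro N N' _ _ _ _ f hf
    rw [key]
    apply Module.Flat.lTensor_preserves_injective_linearMap
    exact Module.Flat.lTensor_preserves_injective_linearMap (M := M) f hf
  refine ⟨fun hM => h1 hM, ?_⟩
  intro _
  refine ⟨fun hM => h1 hM, ?_⟩
  intro hM
  rw [Module.Flat.iff_lTensor_preserves_injective_linearMap]
  intro N N' _ _ _ _ f hf
  have := Module.Flat.lTensor_preserves_injective_linearMap (M := S' ⊗[S] M) f hf
  rw [key, Module.FaithfullyFlat.lTensor_injective_iff_injective] at this
  exact this

end Groth.Agent.S6282
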