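import Groth.Statements.S6283
import Mathlib.RingTheory.Flat.Equalizer

set_option autoImplicit false
universe u
open scoped TensorProduct
open CAlg

namespace Groth.Agent.S6283

open TensorProduct

section
variable {R S : Type u} [CommRing R] [CommRing S] [Algebra R S]

/-- the image of `S ⊗ I → S` is `I S`. -/
lemma range_eq_map (I : Ideal R) :
    LinearMap.range ((AlgebraTensorModule.rid R S S).toLinearMap ∘ₗ
      AlgebraTensorModule.lTensor S S (Submodule.subtype I)) = I.map (algebraMap R S) := by
  apply le_antisymm
  · rintro _ ⟨y, rfl⟩
    induction y using TensorProduct.induction_on with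
    | zero => simp
    | tmul s i =>
      simp only [LinearMap.coe_comp, LinearEquiv.coe_coe, Function.comp_apply,
        AlgebraTensorModule.lTensor_tmul, Submodule.subtype_apply, AlgebraTensorModule.rid_tmul]
      rw [Algebra.smul_def, mul_comm]
      exact Ideal.mul_mem_left _ _ (Ideal.mem_map_of_mem _ i.2)
    | add x y hx hy => rw [map_add]; exact add_mem hx hy
  · rw [Ideal.map, Ideal.span_le]
    rintro _ ⟨i, hi, rfl⟩
    refine ⟨(1 : S) ⊗ₜ[R] (⟨i, hi⟩ : I), ?_⟩
    simp [Algebra.smul_def]

variable [Module.Flat R S]

lemma key (N : Type u) [AddCommGroup N] [Module R N] (n : N) :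
    ((Submodule.span R {n}).annihilator).map (algebraMap R S) =
      (Submodule.span S {(1 : S) ⊗ₜ[R] n}).annihilator := by
  set f : R →ₗ[R] N := LinearMap.toSpanSingleton R N n with hf
  have hker : (Submodule.span R {n}).annihilator = LinearMap.ker f := by
    ext r
    rw [Submodule.mem_annihilator_span_singleton, LinearMap.mem_ker, hf,
      LinearMap.toSpanSingleton_apply]
  rw [hker, ← range_eq_map (S := S)]
  have hk := Module.Flat.ker_lTensor_eq S S f
  ext s
  rw [Submodule.mem_annihilator_span_singleton]
  have h1 : s • ((1 : S) ⊗ₜ[R] n) = AlgebraTensorModule.lTensor S S f (s ⊗ₜ[R] (1 : R)) := by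
    simp [hf, TensorProduct.smul_tmul']
  rw [h1, ← LinearMap.mem_ker, hk]
  constructor
  · rintro ⟨y, hy⟩
    refine ⟨y, ?_⟩
    apply (AlgebraTensorModule.rid R S S).injective
    rw [LinearMap.comp_apply] at hy
    rw [LinearEquiv.coe_coe] at hy
    rw [hy]
    simp
  · rintro ⟨y, hy⟩
    refine ⟨y, ?_⟩
    rw [LinearMap.comp_apply, hy]
    simp


lemma part2 (M : Type u) [AddCommGroup M] [Module R M] [Module.Finite R M] :
    (Module.annihilator R M).map (algebraMap R S) = Module.annihilator S (S ⊗[R] M) := by
  obtain ⟨n, m, hm⟩ := Module.Finite.exists_fin (R := R) (M := M)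
  have h1 : Module.annihilator R M = (Submodule.span R {m}).annihilator := by
    ext r
    rw [Module.mem_annihilator, Submodule.mem_annihilator_span_singleton]
    constructor
    · intro h
      funext i
      exact h (m i)
    · intro h x
      have hx : x ∈ Submodule.span R (Set.range m) := by rw [hm]; trivial
      induction hx using Submodule.span_induction with
      | mem x hx =>
        obtain ⟨i, rfl⟩ := hx
        exact congrFun h i
      | zero => simp
      | add x y _ _ hx hy => rw [smul_add, hx, hy, add_zero]
      | smul a x _ hx => rw [smul_comm, hx, smul_zero]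
  rw [h1, key (S := S) (Fin n → M) m]
  ext s
  rw [Submodule.mem_annihilator_span_singleton, Module.mem_annihilator, TensorProduct.smul_tmul',
    smul_eq_mul, mul_one]
  constructor
  · intro h y
    have hx : ∀ x : M, s ⊗ₜ[R] x = (0 : S ⊗[R] M) := by
      intro x
      have hx : x ∈ Submodule.span R (Set.range m) := by rw [hm]; trivial
      induction hx using Submodule.span_induction with
      | mem x hx =>
        obtain ⟨i, rfl⟩ := hx
        have := congrArg (LinearMap.lTensor S (LinearMap.proj (R := R) (φ := fun _ : Fin n => M) i)) h
        simpa using this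
      | zero => simp
      | add x y _ _ hx hy => rw [TensorProduct.tmul_add, hx, hy, add_zero]
      | smul a x _ hx => rw [TensorProduct.tmul_smul, hx, smul_zero]
    induction y using TensorProduct.induction_on with
    | zero => simp
    | tmul t x =>
      rw [TensorProduct.smul_tmul', smul_eq_mul, mul_comm, ← smul_eq_mul, ← TensorProduct.smul_tmul', hx,
        smul_zero]
    | add x y hx hy => rw [smul_add, hx, hy, add_zero]
  · intro h
    have hm' : m = ∑ i, Pi.single i (m i) := (Finset.univ_sum_single m).symm
    rw [hm', TensorProduct.tmul_sum]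
    apply Finset.sum_eq_zero
    intro i _
    have h2 := h ((1 : S) ⊗ₜ[R] m i)
    rw [TensorProduct.smul_tmul', smul_eq_mul, mul_one] at h2
    have := congrArg (LinearMap.lTensor S (LinearMap.single R (fun _ : Fin n => M) i)) h2
    simpa using this

end


/-- Let R → S be a flat ring map, M an R-module and m ∈ M. Then Ann_R(m)S = Ann_S(1 ⊗ m), the
annihilator in S of the element 1 ⊗ m of S ⊗_R M. If moreover M is a finite R-module then Ann_R(M)S
= Ann_S(S ⊗_R M). -/
theorem result {R S : Type u} [CommRing R] [CommRing S] [Algebra R S] [Module.Flat R S] (M : Type u) [AddCommGroup M] [Module R M] : (∀ m : M, ((Submodule.span R {m}).annihilator).map (algebraMap R S) = (Submodule.span S {(1 : S) ⊗ₜ[R] m}).annihilator) ∧ (Module.Finite R M → (Module.annihilator R M).map (algebraMap R S) = Module.annihilator S (S ⊗[R] M)) := by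
  refine ⟨fun m => key M m, fun hfin => part2 M⟩

end Groth.Agent.S6283
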