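import Groth.Statements.S6284
import Mathlib
-- import your own Groth.Agent.* helpers here

set_option autoImplicit false
universe u
open scoped TensorProduct
open CAlg

namespace Groth.Agent.S6284

/-- Let R → R' be a ring map and M a finite R-module. Then the support of R' ⊗_R M is the inverse image
of the support of M under Spec(R') → Spec(R). -/
theorem result {R R' : Type u} [CommRing R] [CommRing R'] [Algebra R R'] (M : Type u) [AddCommGroup M] [Module R M] [Module.Finite R M] : Module.support R' (R' ⊗[R] M) = PrimeSpectrum.comap (algebraMap R R') ⁻¹' Module.support R M := by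
  apply Set.Subset.antisymm
  · intro q hq
    rw [Set.mem_preimage]
    by_contra hp
    rw [Module.notMem_support_iff'] at hp
    apply (Module.notMem_support_iff' (R := R') (M := R' ⊗[R] M) (p := q)).mpr ?_ hq
    intro x
    induction x using TensorProduct.induction_on with
    | zero => exact ⟨1, q.asIdeal.primeCompl.one_mem, by simp⟩
    | tmul a m =>
      obtain ⟨r, hr, hrm⟩ := hp m
      refine ⟨algebraMap R R' r, hr, ?_⟩
      have h1 : (algebraMap R R' r) • (a ⊗ₜ[R] m : R' ⊗[R] M) = a ⊗ₜ[R] (r • m) := by
        rw [TensorProduct.smul_tmul', smul_eq_mul, ← Algebra.smul_def,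
          TensorProduct.smul_tmul]
      rw [h1, hrm, TensorProduct.tmul_zero]
    | add x y hx hy =>
      obtain ⟨r, hr, hrx⟩ := hx
      obtain ⟨s, hs, hsy⟩ := hy
      refine ⟨r * s, q.asIdeal.primeCompl.mul_mem hr hs, ?_⟩
      have e1 : (r * s) • x = s • r • x := by rw [mul_comm, mul_smul]
      have e2 : (r * s) • y = r • s • y := by rw [mul_smul]
      rw [smul_add, e1, e2, hsy, hrx]
      simp
  · intro q hq
    rw [Set.mem_preimage] at hq
    set p := PrimeSpectrum.comap (algebraMap R R') q with hp
    rw [Module.mem_support_iff_nontrivial_residueField_tensorProduct] at hq ⊢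
    let K := q.asIdeal.ResidueField
    let k := p.asIdeal.ResidueField
    let φ : k →+* K := Ideal.ResidueField.map p.asIdeal q.asIdeal (algebraMap R R') rfl
    letI : Algebra k K := φ.toAlgebra
    haveI : IsScalarTower R k K := IsScalarTower.of_algebraMap_eq fun x => by
      change _ = φ (algebraMap R k x)
      simp only [φ]
      erw [Ideal.ResidueField.map_algebraMap]
      exact IsScalarTower.algebraMap_apply R R' K x
    let e1 := TensorProduct.AlgebraTensorModule.cancelBaseChange R R' K K M
    let e2 := TensorProduct.AlgebraTensorModule.cancelBaseChange R k K K M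
    have h1 : Nontrivial (K ⊗[k] (k ⊗[R] M)) :=
      (Module.FaithfullyFlat.nontrivial_tensorProduct_iff_right k K).mpr hq
    have h2 : Nontrivial (K ⊗[R] M) := e2.symm.toEquiv.nontrivial
    exact e1.toEquiv.nontrivial

end Groth.Agent.S6284
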