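import Groth.Statements.S6892
import Mathlib
import Groth.Agent.Lib.Helper15.FittLink

set_option autoImplicit false
universe u
open Fitt

namespace Groth.Agent.S6892

/-- Let `M` be a finite `R`-module. When `n` elements generate `M` one has `Fit_n(M) = R`; when `M` is
of finite presentation every `Fit_k(M)` is finitely generated as an ideal; and a surjection `M → M'`
onto another module gives `Fit_k(M) ⊆ Fit_k(M')` for every `k`. -/
theorem result {R : Type u} [CommRing R] (M M' : Type u) [AddCommGroup M]
    [Module R M] [Module.Finite R M] [AddCommGroup M'] [Module R M'] (k : ℕ) :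
    (∀ (n : ℕ) (x : Fin n → M), Submodule.span R (Set.range x) = ⊤ → Fitt.ideal R M n = ⊤) ∧
    (Module.FinitePresentation R M → (Fitt.ideal R M k).FG) ∧
    (∀ f : M →ₗ[R] M', Function.Surjective f → Fitt.ideal R M k ≤ Fitt.ideal R M' k) := by
  refine ⟨fun n x hx => ?_, fun hfp => ?_, fun f hf => ?_⟩
  · exact Groth.Agent.Lib.helper15.FittLink.fitt_eq_top_of_span x hx le_rfl
  · exact Groth.Agent.Lib.helper15.FittLink.fitt_fg k
  · exact Groth.Agent.Lib.helper15.FittLink.fitt_le_of_surjective f hf k

end Groth.Agent.S6892
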