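import Groth.Statements.S6285
import Mathlib
import Groth.Agent.S6891
import Groth.Agent.S6892

set_option autoImplicit false
universe u
open CAlg

namespace Groth.Agent.S6285

/-- For a ring R and an R-module M of finite presentation, the support Supp(M) is closed in Spec(R), and
its complement in Spec(R) is quasi-compact. -/
theorem result (R : Type u) [CommRing R] (M : Type u) [AddCommGroup M] [Module R M] [Module.FinitePresentation R M] : IsClosed (Module.support R M) ∧ IsCompact (Module.support R M)ᶜ := by
  refine ⟨Module.isClosed_support, ?_⟩
  have h1 := (Groth.Agent.S6891.result (R := R) M ⊥).2.1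
  have h2 := (Groth.Agent.S6892.result (R := R) M M 0).2.1 inferInstance
  have : IsCompact (Module.support R M)ᶜ ∧ IsOpen (Module.support R M)ᶜ := by
    rw [PrimeSpectrum.isCompact_isOpen_iff_ideal]
    exact ⟨Fitt.ideal R M 0, h2, by rw [h1]⟩
  exact this.1

end Groth.Agent.S6285
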