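import Groth.Statements.S6286
import Mathlib

set_option autoImplicit false
universe u
open scoped TensorProduct
open CAlg

namespace Groth.Agent.S6286

lemma exists_prime_not_mem {D : Type*} [CommRing D] (x : D) (hx : ¬ IsNilpotent x) :
    ∃ P : Ideal D, P.IsPrime ∧ x ∉ P := by
  by_contra h
  push Not at h
  apply hx
  rw [← mem_nilradical, nilradical_eq_sInf, Ideal.mem_sInf]
  intro P hP
  exact h P hP


/-- Let k be a field, R and S k-algebras, S' ⊆ S a k-subalgebra and f ∈ R ⊗ₖ S', with image f again in R
⊗ₖ S. Then the images in Spec(R) of Spec((R ⊗ₖ S)_f) and of Spec((R ⊗ₖ S')_f) coincide: a prime p of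
R is the contraction of a prime of R ⊗ₖ S not containing f if and only if it is the contraction of a
prime of R ⊗ₖ S' not containing f. -/
theorem result (k : Type u) [Field k] (R S : Type u) [CommRing R] [Algebra k R] [CommRing S] [Algebra k S] (S' : Subalgebra k S) (f : R ⊗[k] S') (p : PrimeSpectrum R) : (∃ q : PrimeSpectrum (R ⊗[k] S), Algebra.TensorProduct.map (AlgHom.id k R) S'.val f ∉ q.asIdeal ∧ q.asIdeal.comap (algebraMap R (R ⊗[k] S)) = p.asIdeal) ↔ (∃ q' : PrimeSpectrum (R ⊗[k] S'), f ∉ q'.asIdeal ∧ q'.asIdeal.comap (algebraMap R (R ⊗[k] S')) = p.asIdeal) := by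
  constructor
  · rintro ⟨q, hfq, hq⟩
    refine ⟨⟨q.asIdeal.comap (Algebra.TensorProduct.map (AlgHom.id k R) S'.val).toRingHom,
      inferInstance⟩, ?_, ?_⟩
    · exact hfq
    · rw [← hq]
      ext r
      simp only [Ideal.mem_comap]
      have : (Algebra.TensorProduct.map (AlgHom.id k R) S'.val).toRingHom
          (algebraMap R (R ⊗[k] S') r) = algebraMap R (R ⊗[k] S) r := by
        simp [Algebra.TensorProduct.algebraMap_apply]
      rw [this]
  · rintro ⟨q', hfq', hq'⟩
    let L := q'.asIdeal.ResidueField
    let θ' : R ⊗[k] S' →ₐ[k] L ⊗[k] S' :=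
      Algebra.TensorProduct.map (IsScalarTower.toAlgHom k R L) (AlgHom.id k S')
    let θ : R ⊗[k] S →ₐ[k] L ⊗[k] S :=
      Algebra.TensorProduct.map (IsScalarTower.toAlgHom k R L) (AlgHom.id k S)
    let j : L ⊗[k] S' →ₐ[k] L ⊗[k] S := Algebra.TensorProduct.map (AlgHom.id k L) S'.val
    let φ : R ⊗[k] S' →ₐ[k] R ⊗[k] S := Algebra.TensorProduct.map (AlgHom.id k R) S'.val
    have hcomm : θ.comp φ = j.comp θ' := by
      apply Algebra.TensorProduct.ext'
      intro r s
      simp [θ, φ, j, θ']
    let ε : L ⊗[k] S' →ₐ[k] L :=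
      Algebra.TensorProduct.lift (AlgHom.id k L)
        ((IsScalarTower.toAlgHom k (R ⊗[k] S') L).comp Algebra.TensorProduct.includeRight)
        (fun _ _ => Commute.all _ _)
    have hε : ε.comp θ' = IsScalarTower.toAlgHom k (R ⊗[k] S') L := by
      apply Algebra.TensorProduct.ext'
      intro r s
      simp only [AlgHom.comp_apply, θ', ε, Algebra.TensorProduct.map_tmul,
        Algebra.TensorProduct.lift_tmul, IsScalarTower.coe_toAlgHom', AlgHom.coe_id, id_eq,
        Algebra.TensorProduct.includeRight_apply]
      rw [IsScalarTower.algebraMap_apply R (R ⊗[k] S') L, ← map_mul,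
        Algebra.TensorProduct.algebraMap_apply, Algebra.algebraMap_self, RingHom.id_apply,
        Algebra.TensorProduct.tmul_mul_tmul, mul_one, one_mul]
    have h1 : ε (θ' f) ≠ 0 := by
      have := AlgHom.congr_fun hε f
      rw [AlgHom.comp_apply] at this
      rw [this, IsScalarTower.coe_toAlgHom', Ne, Ideal.algebraMap_residueField_eq_zero]
      exact hfq'
    have h2 : ¬ IsNilpotent (θ' f) := by
      intro h
      exact h1 ((h.map ε).eq_zero)
    have hj : Function.Injective j := by
      have : (j : L ⊗[k] S' → L ⊗[k] S) = LinearMap.lTensor L S'.val.toLinearMap := by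
        have : j.toLinearMap = LinearMap.lTensor L S'.val.toLinearMap := by
          apply TensorProduct.ext'
          intro l s
          simp [j]
        exact congrArg DFunLike.coe this
      rw [this]
      exact Module.Flat.lTensor_preserves_injective_linearMap _ Subtype.val_injective
    have h3 : ¬ IsNilpotent (j (θ' f)) := by
      rintro ⟨n, hn⟩
      apply h2
      refine ⟨n, hj ?_⟩
      rw [map_pow, hn, map_zero]
    obtain ⟨P, hP, hfP⟩ := exists_prime_not_mem _ h3
    refine ⟨⟨P.comap θ.toRingHom, inferInstance⟩, ?_, ?_⟩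
    · change θ (φ f) ∉ P
      have := AlgHom.congr_fun hcomm f
      simp only [AlgHom.comp_apply] at this
      rw [this]
      exact hfP
    · rw [← hq']
      ext r
      simp only [Ideal.mem_comap]
      have e1 : θ.toRingHom (algebraMap R (R ⊗[k] S) r) = algebraMap L (L ⊗[k] S) (algebraMap R L r) := by
        simp [θ, Algebra.TensorProduct.algebraMap_apply]
      rw [e1]
      rw [← Ideal.algebraMap_residueField_eq_zero (I := q'.asIdeal),
        ← IsScalarTower.algebraMap_apply R (R ⊗[k] S') L]
      constructor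
      · intro h
        by_contra hne
        have hu : IsUnit (algebraMap R L r) := isUnit_iff_ne_zero.mpr hne
        exact hP.ne_top (Ideal.eq_top_of_isUnit_mem _ h (hu.map _))
      · intro h
        rw [h, map_zero]
        exact P.zero_mem

end Groth.Agent.S6286
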