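import Groth.Statements.S6288
import Mathlib
-- import your own Groth.Agent.* helpers here

set_option autoImplicit false
universe u
open CAlg

namespace Groth.Agent.S6288

/-- Let L/K be an algebraic extension of fields and B ⊆ L a valuation ring with fraction field L which
is not a field. Then A = K ∩ B is a valuation ring of K (automatic) which is again not a field, i.e.
A ≠ K. -/
theorem result (K L : Type u) [Field K] [Field L] [Algebra K L] [Algebra.IsAlgebraic K L] (B : ValuationSubring L) (hB : B ≠ ⊤) : B.comap (algebraMap K L) ≠ ⊤ := by
  intro htop
  apply hB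
  have hK : ∀ x : K, algebraMap K L x ∈ B := by
    intro x
    have : x ∈ B.comap (algebraMap K L) := by rw [htop]; trivial
    exact this
  let φ : K →+* B := (algebraMap K L).codRestrict B.toSubring hK
  letI : Algebra K B := φ.toAlgebra
  haveI : IsScalarTower K B L := IsScalarTower.of_algebraMap_eq fun x => rfl
  rw [eq_top_iff]
  intro y _
  have hy : IsIntegral K y := Algebra.IsIntegral.isIntegral y
  have hy' : IsIntegral B y := hy.tower_top
  obtain ⟨z, hz⟩ := (IsIntegrallyClosed.isIntegral_iff (R := B) (K := L)).mp hy'
  rw [← hz]
  exact z.2

end Groth.Agent.S6288
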