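import Groth.Statements.S6289
import Mathlib
-- import your own Groth.Agent.* helpers here

set_option autoImplicit false
universe u
open CAlg

namespace Groth.Agent.S6289

/-- Let A' be a valuation ring with residue field K and A ⊆ K a valuation ring with fraction field K.
Then the subring C of A' consisting of the elements whose residue class lies in A is a valuation
ring. -/
theorem result (A' : Type u) [CommRing A'] [IsDomain A'] [ValuationRing A'] (A : ValuationSubring (IsLocalRing.ResidueField A')) : ValuationRing (A.toSubring.comap (IsLocalRing.residue A')) := by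
  have key : ∀ (a b c : A'), a * c = b →
      ∃ c' : A', IsLocalRing.residue A' c' ∈ A ∧ (a * c' = b ∨ b * c' = a) := by
    intro a b c h
    by_cases hcu : IsUnit c
    · rcases A.mem_or_inv_mem (IsLocalRing.residue A' c) with h1 | h1
      · exact ⟨c, h1, Or.inl h⟩
      · refine ⟨((hcu.unit⁻¹ : A'ˣ) : A'), ?_, Or.inr ?_⟩
        · have : IsLocalRing.residue A' ((hcu.unit⁻¹ : A'ˣ) : A') =
              (IsLocalRing.residue A' c)⁻¹ := by
            have h2 : IsLocalRing.residue A' ((hcu.unit⁻¹ : A'ˣ) : A') *
                IsLocalRing.residue A' c = 1 := by
              rw [← map_mul]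
              have : ((hcu.unit⁻¹ : A'ˣ) : A') * c = 1 := by
                have := hcu.unit.inv_mul
                simpa using this
              rw [this, map_one]
            exact eq_inv_of_mul_eq_one_left h2
          rw [this]; exact h1
        · rw [← h, mul_assoc]
          have : c * ((hcu.unit⁻¹ : A'ˣ) : A') = 1 := by
            have := hcu.unit.mul_inv
            simpa using this
          rw [this, mul_one]
    · refine ⟨c, ?_, Or.inl h⟩
      have : IsLocalRing.residue A' c = 0 := by
        rw [IsLocalRing.residue_eq_zero_iff]
        exact (IsLocalRing.mem_maximalIdeal c).mpr hcu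
      rw [this]; exact A.zero_mem
  refine { cond' := fun a b => ?_ }
  obtain ⟨c, hc⟩ := ValuationRing.cond (a : A') (b : A')
  rcases hc with hc | hc
  · obtain ⟨c', hc', h⟩ := key a b c hc
    refine ⟨⟨c', hc'⟩, ?_⟩
    rcases h with h | h
    · left; exact Subtype.ext h
    · right; exact Subtype.ext h
  · obtain ⟨c', hc', h⟩ := key b a c hc
    refine ⟨⟨c', hc'⟩, ?_⟩
    rcases h with h | h
    · right; exact Subtype.ext h
    · left; exact Subtype.ext h

end Groth.Agent.S6289
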