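import Groth.Statements.S6290
import Mathlib
-- import your own Groth.Agent.* helpers here

set_option autoImplicit false
universe u
open CAlg

namespace Groth.Agent.S6290

/-- Let R be a Noetherian ring, I ⊆ R an ideal, M a finite R-module and N = ⋂ₙ IⁿM. Then for every prime
p ⊇ I there is f ∈ R, f ∉ p, with N_f = 0, i.e. every element of N is annihilated by some power of
f. -/
theorem result {R : Type u} [CommRing R] [IsNoetherianRing R] (I : Ideal R) (M : Type u) [AddCommGroup M] [Module R M] [Module.Finite R M] (p : Ideal R) [p.IsPrime] (hIp : I ≤ p) : ∃ f : R, f ∉ p ∧ ∀ x ∈ (⨅ n : ℕ, I ^ n • (⊤ : Submodule R M)), ∃ k : ℕ, f ^ k • x = 0 := by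
  classical
  set N : Submodule R M := ⨅ n : ℕ, I ^ n • (⊤ : Submodule R M) with hN
  have hfg : N.FG := IsNoetherian.noetherian N
  obtain ⟨s, hs⟩ := hfg
  have key : ∀ g ∈ s, ∃ r : I, (r : R) • g = g := by
    intro g hg
    have hg' : g ∈ N := by rw [← hs]; exact Submodule.subset_span hg
    exact (I.mem_iInf_smul_pow_eq_bot_iff g).mp hg'
  choose! r hr using key
  refine ⟨∏ g ∈ s, (1 - (r g : R)), ?_, ?_⟩
  · have hmem : (∏ g ∈ s, (1 - (r g : R))) ∈ p.primeCompl := by
      refine Submonoid.prod_mem _ fun g _ => ?_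
      intro h
      have h1 : (r g : R) ∈ p := hIp (r g).2
      have : (1 : R) ∈ p := by
        have := p.add_mem h h1
        simpa using this
      exact (Ideal.IsPrime.ne_top ‹_›) ((Ideal.eq_top_iff_one _).mpr this)
    exact hmem
  · intro x hx
    refine ⟨1, ?_⟩
    rw [pow_one]
    have hx' : x ∈ Submodule.span R (s : Set M) := by rw [hs]; exact hx
    refine Submodule.span_induction (p := fun x _ => (∏ g ∈ s, (1 - (r g : R))) • x = 0)
      ?_ ?_ ?_ ?_ hx'
    · intro g hg
      rw [← Finset.prod_erase_mul s _ hg, mul_smul, sub_smul, one_smul, hr g hg, sub_self,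
        smul_zero]
    · simp
    · intro a b _ _ ha hb
      rw [smul_add, ha, hb, add_zero]
    · intro a b _ hb
      rw [smul_comm, hb, smul_zero]

end Groth.Agent.S6290
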