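import Groth.Statements.S6292
import Mathlib
-- import your own Groth.Agent.* helpers here

set_option autoImplicit false
universe u
open CAlg

namespace Groth.Agent.S6292

theorem isNoetherian_of_surjective_algebraMap' {R S M : Type*} [CommSemiring S] [Semiring R]
    [Algebra S R] [AddCommMonoid M] [Module R M]
    [Module S M] [IsNoetherian R M] [IsScalarTower S R M]
    (H : Function.Surjective (algebraMap S R)) : IsNoetherian S M := by
  rw [isNoetherian_iff']
  have hR : WellFoundedGT (Submodule R M) := isNoetherian_iff'.mp inferInstance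
  apply (OrderEmbedding.wellFoundedGT (β := Submodule R M))
  refine ⟨⟨?_, ?_⟩, ?_⟩
  · intro N
    refine { toAddSubmonoid := N.toAddSubmonoid, smul_mem' := ?_ }
    intro c x hx
    obtain ⟨r, rfl⟩ := H c
    suffices r • x ∈ N by simpa [Algebra.algebraMap_eq_smul_one, smul_assoc]
    apply N.smul_mem _ hx
  · intro N1 N2 h
    rwa [Submodule.ext_iff] at h ⊢
  · intro N1 N2
    rfl

lemma lemmaA {R : Type u} [CommRing R] (m : Ideal R) [m.IsMaximal] (N : Type u) [AddCommGroup N]
    [Module R N] [Module.Finite R N] (h : ∀ a ∈ m, ∀ x : N, a • x = 0) : IsFiniteLength R N := by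
  have hM : Module.IsTorsionBySet R N (m : Set R) := fun x a => h a.1 a.2 x
  letI := Module.IsTorsionBySet.module hM
  haveI : IsScalarTower R (R ⧸ m) N := Module.IsTorsionBySet.isScalarTower hM
  letI : Field (R ⧸ m) := Ideal.Quotient.field m
  haveI : Module.Finite (R ⧸ m) N := Module.Finite.of_restrictScalars_finite R (R ⧸ m) N
  haveI : IsNoetherian (R ⧸ m) N := inferInstance
  haveI : IsArtinian (R ⧸ m) N := inferInstance
  rw [isFiniteLength_iff_isNoetherian_isArtinian]
  exact ⟨isNoetherian_of_surjective_algebraMap' (R := R ⧸ m) Ideal.Quotient.mk_surjective,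
    isArtinian_of_surjective_algebraMap (R := R ⧸ m) Ideal.Quotient.mk_surjective⟩

lemma main {R : Type u} [CommRing R] (m : Ideal R) [m.IsMaximal] (hm : m.FG) :
    ∀ (n : ℕ) (M : Type u) [AddCommGroup M] [Module R M] [Module.Finite R M],
      m ^ n • (⊤ : Submodule R M) = ⊥ → IsFiniteLength R M := by
  intro n
  induction n with
  | zero =>
    intro M _ _ _ h
    rw [pow_zero, Ideal.one_eq_top, Submodule.top_smul] at h
    haveI : Subsingleton M := by
      rw [← Submodule.subsingleton_iff R]
      exact subsingleton_of_bot_eq_top h.symm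
    exact IsFiniteLength.of_subsingleton
  | succ n ih =>
    intro M _ _ _ h
    set N : Submodule R M := m ^ n • (⊤ : Submodule R M) with hN
    have hNfg : N.FG := Submodule.FG.smul (Ideal.FG.pow hm) Module.Finite.fg_top
    haveI : Module.Finite R N := Module.Finite.iff_fg.mpr hNfg
    have h1 : IsFiniteLength R N := by
      apply lemmaA m
      intro a ha x
      have : a • (x : M) ∈ m ^ (n + 1) • (⊤ : Submodule R M) := by
        rw [pow_succ', mul_smul]
        exact Submodule.smul_mem_smul ha x.2
      rw [h, Submodule.mem_bot] at this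
      exact Subtype.ext this
    have h2 : IsFiniteLength R (M ⧸ N) := by
      apply ih
      rw [eq_bot_iff]
      intro y hy
      refine Submodule.smul_induction_on hy ?_ ?_
      · intro r hr y _
        obtain ⟨x, rfl⟩ := Submodule.Quotient.mk_surjective N y
        rw [← Submodule.Quotient.mk_smul, Submodule.mem_bot, Submodule.Quotient.mk_eq_zero]
        exact Submodule.smul_mem_smul hr Submodule.mem_top
      · intro a b ha hb
        exact Submodule.add_mem _ ha hb
    rw [isFiniteLength_iff_isNoetherian_isArtinian] at h1 h2 ⊢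
    obtain ⟨_, _⟩ := h1
    obtain ⟨_, _⟩ := h2
    exact ⟨isNoetherian_of_range_eq_ker N.subtype N.mkQ (by simp),
      isArtinian_of_range_eq_ker N.subtype N.mkQ (by simp)⟩

/-- Let R be a ring and m ⊆ R a finitely generated maximal ideal (for instance R Noetherian). If M is a
finite R-module with mⁿM = 0 for some n, then M has finite length. -/
theorem result {R : Type u} [CommRing R] (m : Ideal R) [m.IsMaximal] (hm : m.FG) (M : Type u) [AddCommGroup M] [Module R M] [Module.Finite R M] (n : ℕ) (hn : m ^ n • (⊤ : Submodule R M) = ⊥) : IsFiniteLength R M := by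
  exact main m hm n M hn

end Groth.Agent.S6292
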