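import Groth.Statements.S6296
import Mathlib
-- import your own Groth.Agent.* helpers here

set_option autoImplicit false
universe u
open CAlg

namespace Groth.Agent.S6296

/-- Let A → B be a local homomorphism of local rings such that (1) B is a finite A-module, (2) the
maximal ideal m_B is finitely generated, (3) the induced map of residue fields is an isomorphism,
and (4) m_A/m_A² → m_B/m_B² is surjective, i.e. m_B ⊆ m_A B + m_B². Then A → B is surjective. -/
theorem result {A B : Type u} [CommRing A] [CommRing B] [IsLocalRing A] [IsLocalRing B] [Algebra A B] [IsLocalHom (algebraMap A B)] [Module.Finite A B] (hfg : (IsLocalRing.maximalIdeal B).FG) (hres : Function.Surjective (IsLocalRing.ResidueField.map (algebraMap A B))) (hcot : IsLocalRing.maximalIdeal B ≤ (IsLocalRing.maximalIdeal A).map (algebraMap A B) ⊔ (IsLocalRing.maximalIdeal B) ^ 2) : Function.Surjective (algebraMap A B) := by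
  -- Step 1: m_B ≤ m_A B by Nakayama over B
  have h1 : IsLocalRing.maximalIdeal B ≤ (IsLocalRing.maximalIdeal A).map (algebraMap A B) := by
    refine Submodule.le_of_le_smul_of_le_jacobson_bot (R := B) (M := B)
      (I := IsLocalRing.maximalIdeal B) hfg (IsLocalRing.maximalIdeal_le_jacobson _) ?_
    rw [smul_eq_mul, ← pow_two]
    exact hcot
  -- Step 2: every element of B is congruent to an element of A mod m_B
  have h2 : ∀ b : B, ∃ a : A, b - algebraMap A B a ∈ IsLocalRing.maximalIdeal B := by
    intro b
    obtain ⟨abar, ha⟩ := hres (IsLocalRing.residue B b)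
    obtain ⟨a, rfl⟩ := IsLocalRing.residue_surjective abar
    refine ⟨a, ?_⟩
    rw [← IsLocalRing.residue_eq_zero_iff, map_sub, ← ha]
    simp
  -- Step 3: ⊤ ≤ range ⊔ m_A • ⊤
  have h3 : (⊤ : Submodule A B) ≤ LinearMap.range (Algebra.linearMap A B) ⊔
      (IsLocalRing.maximalIdeal A) • (⊤ : Submodule A B) := by
    intro b _
    obtain ⟨a, ha⟩ := h2 b
    have hb : b = algebraMap A B a + (b - algebraMap A B a) := by ring
    rw [hb]
    refine Submodule.add_mem_sup ⟨a, rfl⟩ ?_
    rw [Ideal.smul_top_eq_map]
    exact h1 ha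
  have h4 : (⊤ : Submodule A B) ≤ LinearMap.range (Algebra.linearMap A B) :=
    Submodule.le_of_le_smul_of_le_jacobson_bot Module.Finite.fg_top
      (IsLocalRing.maximalIdeal_le_jacobson _) h3
  intro b
  obtain ⟨a, ha⟩ := h4 (Submodule.mem_top : b ∈ ⊤)
  exact ⟨a, ha⟩

end Groth.Agent.S6296
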