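import Groth.Statements.S6297
import Mathlib

set_option autoImplicit false
universe u
open CAlg

namespace Groth.Agent.S6297

theorem result {R : Type u} [CommRing R] {n m : ℕ} (hmn : m ≤ n) (A : Matrix (Fin n) (Fin m) R) : (∀ f ∈ CAlgX.minorIdeal A m, ∃ B : Matrix (Fin m) (Fin n) R, B * A = f • (1 : Matrix (Fin m) (Fin m) R)) ∧ (∀ (f : R) (B : Matrix (Fin m) (Fin n) R), B * A = f • (1 : Matrix (Fin m) (Fin m) R) → f ^ m ∈ CAlgX.minorIdeal A m) := by
  classical
  constructor
  · intro f hf
    unfold CAlgX.minorIdeal at hf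
    refine Submodule.span_induction (p := fun x _ => ∃ B : Matrix (Fin m) (Fin n) R,
      B * A = x • (1 : Matrix (Fin m) (Fin m) R)) ?_ ?_ ?_ ?_ hf
    · rintro _ ⟨⟨φ, g⟩, rfl⟩
      by_cases hg : Function.Injective g
      · let σ : Equiv.Perm (Fin m) := Equiv.ofBijective g (Finite.injective_iff_bijective.mp hg)
        have h1 : A.submatrix φ g = (A.submatrix φ id).submatrix id σ := by ext i j; rfl
        refine ⟨((Equiv.Perm.sign σ : ℤ) : R) • ((A.submatrix φ id).adjugate *
          (1 : Matrix (Fin n) (Fin n) R).submatrix φ id), ?_⟩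
        have h3 : (1 : Matrix (Fin n) (Fin n) R).submatrix φ id * A = A.submatrix φ id := by
          ext i j; simp [Matrix.mul_apply, Matrix.one_apply]
        rw [Matrix.smul_mul, Matrix.mul_assoc, h3, Matrix.adjugate_mul, smul_smul]
        show _ = (A.submatrix φ g).det • _
        rw [h1, Matrix.det_permute']
      · rw [Function.not_injective_iff] at hg
        obtain ⟨i, j, hij, hne⟩ := hg
        refine ⟨0, ?_⟩
        show _ = (A.submatrix φ g).det • _
        rw [Matrix.det_zero_of_column_eq hne (fun k => by simp [hij]), zero_smul, Matrix.zero_mul]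
    · exact ⟨0, by simp⟩
    · rintro x y _ _ ⟨B₁, h₁⟩ ⟨B₂, h₂⟩
      exact ⟨B₁ + B₂, by rw [Matrix.add_mul, h₁, h₂, add_smul]⟩
    · rintro a x _ ⟨B, hB⟩
      exact ⟨a • B, by rw [Matrix.smul_mul, hB, smul_smul, smul_eq_mul]⟩
  · intro f B hB
    have h1 : (B * A).det = f ^ m := by
      rw [hB, Matrix.det_smul, Matrix.det_one, mul_one, Fintype.card_fin]
    rw [← h1]
    have h2 : (B * A).det = Matrix.detRowAlternating (fun i => ∑ k, B i k • A k) := by
      show Matrix.detRowAlternating (B * A) = _
      congr 1; ext i j; simp [Matrix.mul_apply, Finset.sum_apply]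
    rw [h2]
    have h3 : Matrix.detRowAlternating (fun i => ∑ k, B i k • A k) =
        ∑ κ : Fin m → Fin n, Matrix.detRowAlternating (fun i => B i (κ i) • A (κ i)) :=
      (Matrix.detRowAlternating (n := Fin m) (R := R)).toMultilinearMap.map_sum
        (fun i k => B i k • A k)
    rw [h3]
    refine Ideal.sum_mem _ (fun κ _ => ?_)
    have h4 : Matrix.detRowAlternating (fun i => B i (κ i) • A (κ i)) =
        (∏ i, B i (κ i)) • (A.submatrix κ id).det :=
      (Matrix.detRowAlternating (n := Fin m) (R := R)).toMultilinearMap.map_smul_univ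
        (fun i => B i (κ i)) (fun i => A (κ i))
    rw [h4, smul_eq_mul]
    exact Ideal.mul_mem_left _ _ (Ideal.subset_span ⟨(κ, id), rfl⟩)

end Groth.Agent.S6297
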