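import Groth.Statements.S6298
import Mathlib
-- import your own Groth.Agent.* helpers here

set_option autoImplicit false
universe u
open CAlg

namespace Groth.Agent.S6298

lemma aux {R : Type u} [CommRing R] (I : Ideal R) :
    ∀ (n : ℕ) (s : Finset (Ideal R)), s.card = n → (∀ p ∈ s, p.IsPrime) → ∀ x : R,
      (∀ p ∈ s, ∃ y ∈ I, x + y ∉ p) → ∃ y ∈ I, ∀ p ∈ s, x + y ∉ p := by
  classical
  intro n
  induction n using Nat.strong_induction_on with
  | _ n ih =>
    intro s hcard hprime x hx
    by_cases hincl : ∃ p ∈ s, ∃ q ∈ s, p ≠ q ∧ p ≤ q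
    · obtain ⟨p, hp, q, hq, hpq, hle⟩ := hincl
      have hc : (s.erase p).card < n := by
        rw [← hcard]; exact Finset.card_erase_lt_of_mem hp
      obtain ⟨y, hyI, hy⟩ := ih _ hc (s.erase p) rfl
        (fun a ha => hprime a (Finset.mem_of_mem_erase ha)) x
        (fun a ha => hx a (Finset.mem_of_mem_erase ha))
      refine ⟨y, hyI, fun a ha => ?_⟩
      by_cases hap : a = p
      · subst hap
        intro h
        exact hy q (Finset.mem_erase.mpr ⟨hpq.symm, hq⟩) (hle h)
      · exact hy a (Finset.mem_erase.mpr ⟨hap, ha⟩)
    · push Not at hincl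
      rcases s.eq_empty_or_nonempty with rfl | ⟨q, hq⟩
      · exact ⟨0, I.zero_mem, by simp⟩
      · have hc : (s.erase q).card < n := by
          rw [← hcard]; exact Finset.card_erase_lt_of_mem hq
        obtain ⟨y₀, hy₀I, hy₀⟩ := ih _ hc (s.erase q) rfl
          (fun a ha => hprime a (Finset.mem_of_mem_erase ha)) x
          (fun a ha => hx a (Finset.mem_of_mem_erase ha))
        by_cases hxq : x + y₀ ∉ q
        · refine ⟨y₀, hy₀I, fun a ha => ?_⟩
          by_cases haq : a = q
          · subst haq; exact hxq
          · exact hy₀ a (Finset.mem_erase.mpr ⟨haq, ha⟩)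
        · rw [not_not] at hxq
          have hqprime : q.IsPrime := hprime q hq
          -- I is not contained in q
          have hIq : ¬ I ≤ q := by
            intro hIq
            obtain ⟨y, hyI, hy⟩ := hx q hq
            apply hy
            have : x + y = (x + y₀) + (y - y₀) := by ring
            rw [this]
            exact q.add_mem hxq (hIq (I.sub_mem hyI hy₀I))
          have hJ : ¬ I * ∏ p ∈ s.erase q, p ≤ q := by
            intro hJ
            rcases (Ideal.IsPrime.mul_le hqprime).mp hJ with h | h
            · exact hIq h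
            · obtain ⟨p, hp, hpq⟩ := (Ideal.IsPrime.prod_le hqprime).mp h
              have hp' := Finset.mem_erase.mp hp
              exact hincl p hp'.2 q hq hp'.1 hpq
          obtain ⟨t, htJ, htq⟩ := SetLike.not_le_iff_exists.mp hJ
          have htI : t ∈ I := (Ideal.mul_le_left : I * (∏ p ∈ s.erase q, p) ≤ I) htJ
          have htp : ∀ p ∈ s.erase q, t ∈ p := by
            intro p hp
            have h1 : t ∈ ∏ p ∈ s.erase q, p :=
              (Ideal.mul_le_right : I * (∏ p ∈ s.erase q, p) ≤ (∏ p ∈ s.erase q, p)) htJ
            have h2 := Ideal.prod_le_inf h1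
            exact (Finset.inf_le hp : (s.erase q).inf id ≤ p) h2
          refine ⟨y₀ + t, I.add_mem hy₀I htI, fun a ha => ?_⟩
          by_cases haq : a = q
          · subst haq
            intro h
            apply htq
            have : t = (x + (y₀ + t)) - (x + y₀) := by ring
            rw [this]
            exact a.sub_mem h hxq
          · have ha' : a ∈ s.erase q := Finset.mem_erase.mpr ⟨haq, ha⟩
            intro h
            apply hy₀ a ha'
            have : x + y₀ = (x + (y₀ + t)) - t := by ring
            rw [this]
            exact a.sub_mem h (htp a ha')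

/-- Let R be a ring, x ∈ R, I ⊆ R an ideal and p₁, …, p_r prime ideals such that for each i the coset x
+ I is not contained in p_i. Then there is y ∈ I with x + y ∉ p_i for all i. -/
theorem result {R : Type u} [CommRing R] (x : R) (I : Ideal R) {r : ℕ} (p : Fin r → Ideal R) [∀ i, (p i).IsPrime] (h : ∀ i, ∃ y ∈ I, x + y ∉ p i) : ∃ y ∈ I, ∀ i, x + y ∉ p i := by
  classical
  obtain ⟨y, hyI, hy⟩ := aux I _ (Finset.univ.image p) rfl
    (by
      intro a ha
      obtain ⟨i, _, rfl⟩ := Finset.mem_image.mp ha
      infer_instance) x
    (by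
      intro a ha
      obtain ⟨i, _, rfl⟩ := Finset.mem_image.mp ha
      exact h i)
  exact ⟨y, hyI, fun i => hy (p i) (Finset.mem_image_of_mem p (Finset.mem_univ i))⟩

end Groth.Agent.S6298
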