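import Groth.Statements.S6300
import Groth.Agent.Lib.Helper24.SmoothNormal
-- import your own Groth.Agent.* helpers here

set_option autoImplicit false
universe u
open CAlg

namespace Groth.Agent.S6300

/-- Let R be a normal ring (every localization at a prime is an integrally closed domain). Then R[x] is
a normal ring. -/
theorem result (R : Type u) [CommRing R] (hR : EGA4.IsNormalRing R) : EGA4.IsNormalRing (Polynomial R) := by
  intro q hq
  haveI : Algebra.FinitePresentation R (Polynomial R) := Algebra.FinitePresentation.polynomial R R
  haveI : Algebra.Smooth R (Polynomial R) := { }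
  obtain ⟨hd, hic⟩ := hR (q.comap (algebraMap R (Polynomial R)))
  exact Groth.Agent.Lib.Helper24.SmoothNormal.isDomain_isIntegrallyClosed_atPrime_of_smooth
    R (Polynomial R) q hd hic

end Groth.Agent.S6300
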