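import Groth.Statements.S6301
import Mathlib
-- import your own Groth.Agent.* helpers here

set_option autoImplicit false
universe u
open CAlg

namespace Groth.Agent.S6301

/-- An R-module M is flat exactly when, for every finitely presented R-module P and every surjective
R-module map N → M, the induced map Hom_R(P, N) → Hom_R(P, M) is surjective (modules P, N taken in
the same universe). -/
theorem result {R : Type u} [CommRing R] (M : Type u) [AddCommGroup M] [Module R M] : Module.Flat R M ↔ ∀ (P : Type u) [AddCommGroup P] [Module R P], Module.FinitePresentation R P → ∀ (N : Type u) [AddCommGroup N] [Module R N] (g : N →ₗ[R] M), Function.Surjective g → ∀ h : P →ₗ[R] M, ∃ h' : P →ₗ[R] N, g.comp h' = h := by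
  constructor
  · intro hflat P _ _ hP N _ _ g hg h
    obtain ⟨k, h₂, h₃, rfl⟩ := Module.Flat.exists_factorization_of_finitePresentation h
    obtain ⟨l, hl⟩ := Module.projective_lifting_property g h₃ hg
    exact ⟨l ∘ₗ h₂, by rw [← LinearMap.comp_assoc, hl]⟩
  · intro H
    refine Module.Flat.of_forall_exists_factorization ?_
    intro l f x hx
    let K : Submodule R (Fin l →₀ R) := Submodule.span R {f}
    have hfp : Module.FinitePresentation R ((Fin l →₀ R) ⧸ K) :=
      Module.finitePresentation_of_surjective K.mkQ K.mkQ_surjective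
        (by rw [Submodule.ker_mkQ]; exact Submodule.fg_span_singleton f)
    have hK : K ≤ LinearMap.ker x := by
      rw [Submodule.span_le]
      intro z hz
      rw [Set.mem_singleton_iff] at hz
      rw [hz]
      exact hx
    let h : ((Fin l →₀ R) ⧸ K) →ₗ[R] M := K.liftQ x hK
    let g : (M →₀ R) →ₗ[R] M := Finsupp.linearCombination R id
    have hg : Function.Surjective g := fun m => ⟨Finsupp.single m 1, by simp [g]⟩
    obtain ⟨h', hh'⟩ := H ((Fin l →₀ R) ⧸ K) hfp (M →₀ R) g hg h
    obtain ⟨k, h₂, h₃, rfl⟩ := Module.Flat.exists_factorization_of_finitePresentation h'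
    refine ⟨k, h₂ ∘ₗ K.mkQ, g ∘ₗ h₃, ?_, ?_⟩
    · have : x = h ∘ₗ K.mkQ := by
        ext z
        simp [h]
      rw [this, ← hh']
      simp only [LinearMap.comp_assoc]
    · have : K.mkQ f = 0 := (Submodule.Quotient.mk_eq_zero K).mpr (Submodule.mem_span_singleton_self f)
      rw [LinearMap.comp_apply, this, map_zero]

end Groth.Agent.S6301
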