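import Groth.Statements.S6302
import Mathlib

set_option autoImplicit false
universe u
open CAlg

namespace Groth.Agent.S6302

open TensorProduct

theorem lin_eq_sum {R : Type u} [CommRing R] {k : ℕ} {N : Type*} [AddCommGroup N] [Module R N]
    (L : (Fin k → R) →ₗ[R] N) (x : Fin k → R) :
    L x = ∑ i, x i • L (Pi.single i 1) := by
  classical
  have hx : x = ∑ i, x i • (Pi.single i (1:R) : Fin k → R) := by
    ext t
    rw [Finset.sum_apply, Finset.sum_eq_single t]
    · rw [Pi.smul_apply, Pi.single_eq_same, smul_eq_mul, mul_one]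
    · intro b _ hb
      rw [Pi.smul_apply, Pi.single_eq_of_ne (Ne.symm hb), smul_zero]
    · intro h; exact absurd (Finset.mem_univ t) h
  conv_lhs => rw [hx]
  rw [map_sum]
  exact Finset.sum_congr rfl (fun i _ => map_smul L _ _)

theorem claimA {R : Type u} [CommRing R] {M₁ : Type u} [AddCommGroup M₁] [Module R M₁] {n m : ℕ}
    (r : Fin n → Fin m → R) (φ : (Fin n → R) →ₗ[R] (Fin m → R))
    (hφ : ∀ c, φ c = ∑ j, c j • r j) (η : M₁ ⊗[R] (Fin n → R)) (i : Fin m) :
    TensorProduct.piScalarRight R R M₁ (Fin m) ((LinearMap.lTensor M₁ φ) η) i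
      = ∑ j, r j i • TensorProduct.piScalarRight R R M₁ (Fin n) η j := by
  classical
  induction η using TensorProduct.induction_on with
  | zero =>
    rw [map_zero, map_zero, map_zero, Pi.zero_apply]
    symm
    refine Finset.sum_eq_zero (fun j _ => ?_)
    rw [Pi.zero_apply, smul_zero]
  | tmul x c =>
    rw [LinearMap.lTensor_tmul, TensorProduct.piScalarRight_apply,
      TensorProduct.piScalarRightHom_tmul, TensorProduct.piScalarRight_apply,
      TensorProduct.piScalarRightHom_tmul, hφ]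
    show ((∑ j, c j • r j) i) • x = ∑ j, r j i • (c j • x)
    rw [Finset.sum_apply, Finset.sum_smul]
    refine Finset.sum_congr rfl (fun j _ => ?_)
    rw [Pi.smul_apply, smul_eq_mul, mul_comm, mul_smul]
  | add a b ha hb =>
    rw [map_add, map_add, Pi.add_apply, ha, hb, map_add, ← Finset.sum_add_distrib]
    refine Finset.sum_congr rfl (fun j _ => ?_)
    rw [Pi.add_apply, smul_add]

theorem claimB {R : Type u} [CommRing R] {M₁ : Type u} [AddCommGroup M₁] [Module R M₁] {m : ℕ}
    (z : Fin m → M₁) (i : Fin m) :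
    TensorProduct.piScalarRight R R M₁ (Fin m)
      (∑ i', z i' ⊗ₜ[R] (Pi.single i' (1:R) : Fin m → R)) i = z i := by
  classical
  rw [map_sum, Finset.sum_apply, Finset.sum_eq_single i]
  · rw [TensorProduct.piScalarRight_apply, TensorProduct.piScalarRightHom_tmul]
    show (Pi.single i (1:R) : Fin m → R) i • z i = z i
    rw [Pi.single_eq_same, one_smul]
  · intro b _ hb
    rw [TensorProduct.piScalarRight_apply, TensorProduct.piScalarRightHom_tmul]
    show (Pi.single b (1:R) : Fin m → R) i • z b = 0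
    rw [Pi.single_eq_of_ne (Ne.symm hb), zero_smul]
  · intro h; exact absurd (Finset.mem_univ i) h

theorem key {R : Type u} [CommRing R] {M₁ M₂ : Type u} [AddCommGroup M₁] [Module R M₁]
    [AddCommGroup M₂] [Module R M₂] (f : M₁ →ₗ[R] M₂) (hf : CAlgX.UniversallyInjective R f)
    {n m : ℕ} (r : Fin n → Fin m → R) (z : Fin m → M₁) (y : Fin n → M₂)
    (h : ∀ i, f (z i) = ∑ j, r j i • y j) :
    ∃ w : Fin n → M₁, ∀ i, z i = ∑ j, r j i • w j := by
  classical
  obtain ⟨φ, hφ⟩ : ∃ φ : (Fin n → R) →ₗ[R] (Fin m → R), ∀ c, φ c = ∑ j, c j • r j :=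
    ⟨Fintype.linearCombination R r, fun c => Fintype.linearCombination_apply R r c⟩
  have hτ : (LinearMap.lTensor M₁ (LinearMap.range φ).mkQ)
      (∑ i, z i ⊗ₜ[R] (Pi.single i (1:R) : Fin m → R)) = 0 := by
    apply hf ((Fin m → R) ⧸ LinearMap.range φ)
    rw [map_zero, map_sum, map_sum]
    have h1 : ∀ i, (LinearMap.rTensor ((Fin m → R) ⧸ LinearMap.range φ) f)
        ((LinearMap.lTensor M₁ (LinearMap.range φ).mkQ)
          (z i ⊗ₜ[R] (Pi.single i (1:R) : Fin m → R)))
        = ∑ j, y j ⊗ₜ[R] (r j i • (LinearMap.range φ).mkQ (Pi.single i (1:R))) := by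
      intro i
      rw [LinearMap.lTensor_tmul, LinearMap.rTensor_tmul, h i, TensorProduct.sum_tmul]
      refine Finset.sum_congr rfl (fun j _ => ?_)
      rw [TensorProduct.smul_tmul]
    rw [Finset.sum_congr rfl (fun i _ => h1 i), Finset.sum_comm]
    refine Finset.sum_eq_zero (fun j _ => ?_)
    rw [← TensorProduct.tmul_sum]
    have h2 : ∑ i, r j i • (LinearMap.range φ).mkQ (Pi.single i (1:R)) = 0 := by
      rw [← lin_eq_sum (LinearMap.range φ).mkQ (r j)]
      rw [Submodule.mkQ_apply, Submodule.Quotient.mk_eq_zero]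
      refine ⟨Pi.single j 1, ?_⟩
      rw [hφ, Finset.sum_eq_single j]
      · rw [Pi.single_eq_same, one_smul]
      · intro b _ hb
        rw [Pi.single_eq_of_ne hb, zero_smul]
      · intro hj; exact absurd (Finset.mem_univ j) hj
    rw [h2, TensorProduct.tmul_zero]
  have hex : Function.Exact (LinearMap.lTensor M₁ φ)
      (LinearMap.lTensor M₁ (LinearMap.range φ).mkQ) :=
    lTensor_exact M₁ (LinearMap.exact_map_mkQ_range φ) (Submodule.mkQ_surjective _)
  obtain ⟨η, hη⟩ := (hex _).mp hτ
  refine ⟨fun j => TensorProduct.piScalarRight R R M₁ (Fin n) η j, fun i => ?_⟩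
  rw [← claimA r φ hφ η i, hη, claimB]


/-- Let 0 → M₁ → M₂ → M₃ → 0 be a short exact sequence of R-modules with M₃ of finite presentation. If
the sequence is universally exact (its first map is universally injective) then it is split: M₂ → M₃
admits a section. (The converse, split implies universally exact, is elementary and not stated.) -/
theorem result {R : Type u} [CommRing R] {M₁ M₂ M₃ : Type u} [AddCommGroup M₁] [Module R M₁] [AddCommGroup M₂] [Module R M₂] [AddCommGroup M₃] [Module R M₃] [Module.FinitePresentation R M₃] (f : M₁ →ₗ[R] M₂) (g : M₂ →ₗ[R] M₃) (hexact : Function.Exact f g) (hg : Function.Surjective g) (hf : CAlgX.UniversallyInjective R f) : ∃ s : M₃ →ₗ[R] M₂, g.comp s = LinearMap.id := by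
  classical
  obtain ⟨n, m, π, g₀, hπ, hg₀π⟩ := Module.FinitePresentation.exists_fin' R M₃
  obtain ⟨ξ, hξ⟩ := Module.projective_lifting_property g π hg
  have hξ' : ∀ x, g (ξ x) = π x := fun x => LinearMap.congr_fun hξ x
  have hz : ∀ i : Fin m, ∃ z : M₁, f z = ξ (g₀ (Pi.single i 1)) := by
    intro i
    have h0 : g (ξ (g₀ (Pi.single i 1))) = 0 := by
      rw [hξ']
      exact (hg₀π _).mpr ⟨_, rfl⟩
    exact (hexact _).mp h0
  choose z hz using hz
  obtain ⟨w, hw⟩ := key f hf (fun j i => g₀ (Pi.single i 1) j) z (fun j => ξ (Pi.single j 1))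
    (by intro i; rw [hz i]; exact lin_eq_sum ξ _)
  have hw' : ∀ i, z i = ∑ j, g₀ (Pi.single i 1) j • w j := hw
  obtain ⟨ω, hω⟩ : ∃ ω : (Fin n → R) →ₗ[R] M₁, ∀ c, ω c = ∑ j, c j • w j :=
    ⟨Fintype.linearCombination R w, fun c => Fintype.linearCombination_apply R w c⟩
  have hs₀ : ∀ v, (ξ - f.comp ω) (g₀ v) = 0 := by
    intro v
    rw [lin_eq_sum g₀ v, map_sum]
    refine Finset.sum_eq_zero (fun i _ => ?_)
    rw [map_smul, LinearMap.sub_apply, LinearMap.comp_apply, hω, ← hw' i, hz i, sub_self,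
      smul_zero]
  have hker : LinearMap.ker π ≤ LinearMap.ker (ξ - f.comp ω) := by
    intro x hx
    rw [LinearMap.mem_ker] at hx ⊢
    obtain ⟨v, rfl⟩ := (hg₀π x).mp hx
    exact hs₀ v
  refine ⟨((LinearMap.ker π).liftQ (ξ - f.comp ω) hker).comp
    (π.quotKerEquivOfSurjective hπ).symm.toLinearMap, ?_⟩
  ext y
  obtain ⟨x, rfl⟩ := hπ y
  have hsym : (π.quotKerEquivOfSurjective hπ).symm (π x) = Submodule.Quotient.mk x := by
    rw [LinearEquiv.symm_apply_eq, LinearMap.quotKerEquivOfSurjective_apply_mk]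
  rw [LinearMap.comp_apply, LinearMap.comp_apply, LinearEquiv.coe_coe, hsym,
    Submodule.liftQ_apply, LinearMap.sub_apply, LinearMap.comp_apply, map_sub, hξ',
    hexact.apply_apply_eq_zero, sub_zero, LinearMap.id_apply]


end Groth.Agent.S6302
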