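import Groth.Statements.S6303
import Mathlib
-- import your own Groth.Agent.* helpers here

set_option autoImplicit false
universe u
open CAlg

namespace Groth.Agent.S6303

/-- Let R be a ring, I, J ⊆ R ideals and M a flat R-module. Then IM ∩ JM = (I ∩ J)M. -/
theorem result {R : Type u} [CommRing R] (I J : Ideal R) (M : Type u) [AddCommGroup M] [Module R M] [Module.Flat R M] : (I • (⊤ : Submodule R M)) ⊓ (J • ⊤) = (I ⊓ J) • (⊤ : Submodule R M) := by
  apply le_antisymm
  · -- hard direction
    intro x hx
    obtain ⟨hxI, hxJ⟩ := hx
    -- the map μ_J : M ⊗ J → M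
    let μ : TensorProduct R M J →ₗ[R] M := (TensorProduct.rid R M).toLinearMap ∘ₗ J.subtype.lTensor M
    let q : R →ₗ[R] R ⧸ I := Submodule.mkQ I
    let q' : J →ₗ[R] R ⧸ I := q ∘ₗ J.subtype
    -- Lemma A: x = μ z
    have hA : ∀ y ∈ J • (⊤ : Submodule R M), ∃ z, μ z = y := by
      intro y hy
      refine Submodule.smul_induction_on hy ?_ ?_
      · intro j hj m _
        exact ⟨m ⊗ₜ[R] ⟨j, hj⟩, by simp [μ]⟩
      · rintro a b ⟨za, rfl⟩ ⟨zb, rfl⟩
        exact ⟨za + zb, map_add _ _ _⟩
    -- Lemma B
    have hB : ∀ y ∈ I • (⊤ : Submodule R M), q.lTensor M ((TensorProduct.rid R M).symm y) = 0 := by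
      intro y hy
      refine Submodule.smul_induction_on hy ?_ ?_
      · intro i hi m _
        have : (TensorProduct.rid R M).symm (i • m) = m ⊗ₜ[R] i := by
          rw [TensorProduct.rid_symm_apply, TensorProduct.smul_tmul, smul_eq_mul, mul_one]
        rw [this, LinearMap.lTensor_tmul]
        have : q i = 0 := (Submodule.Quotient.mk_eq_zero I).mpr hi
        rw [this, TensorProduct.tmul_zero]
      · intro a b ha hb
        rw [map_add, map_add, ha, hb, add_zero]
    obtain ⟨z, rfl⟩ := hA x hxJ
    have hz : q'.lTensor M z = 0 := by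
      have h1 := hB _ hxI
      have h2 : (TensorProduct.rid R M).symm (μ z) = J.subtype.lTensor M z := by
        simp [μ]
      rw [h2] at h1
      rw [LinearMap.lTensor_comp]
      exact h1
    have hker := Module.Flat.ker_lTensor_eq (R := R) (S := R) M q'
    have hz' : z ∈ LinearMap.range
        (TensorProduct.AlgebraTensorModule.lTensor R M (LinearMap.ker q').subtype) := by
      rw [← hker]
      exact hz
    have hC : ∀ w : TensorProduct R M (LinearMap.ker q'),
        μ ((TensorProduct.AlgebraTensorModule.lTensor R M (LinearMap.ker q').subtype) w) ∈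
          (I ⊓ J) • (⊤ : Submodule R M) := by
      intro w
      induction w using TensorProduct.induction_on with
      | zero => simp
      | tmul m k =>
        have hk : (k : J).1 ∈ I := by
          have := k.2
          rw [LinearMap.mem_ker] at this
          exact (Submodule.Quotient.mk_eq_zero I).mp this
        have : μ ((TensorProduct.AlgebraTensorModule.lTensor R M (LinearMap.ker q').subtype)
            (m ⊗ₜ[R] k)) = ((k : J) : R) • m := by
          simp [μ]
        rw [this]
        exact Submodule.smul_mem_smul ⟨hk, (k : J).2⟩ Submodule.mem_top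
      | add a b ha hb =>
        rw [map_add, map_add]
        exact Submodule.add_mem _ ha hb
    obtain ⟨w, rfl⟩ := hz'
    exact hC w
  · exact le_inf (Submodule.smul_mono_left inf_le_left) (Submodule.smul_mono_left inf_le_right)

end Groth.Agent.S6303
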