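import Groth.Statements.S6304
import Mathlib
-- import your own Groth.Agent.* helpers here

set_option autoImplicit false
universe u
open CAlg

namespace Groth.Agent.S6304

/-- In a short exact sequence 0 → M' → M → M'' → 0 of R-modules whose right-hand term M'' is flat, the
middle term M is flat when M' is, and M' is flat when M is. -/
theorem result {R : Type u} [CommRing R] {M' M M'' : Type u} [AddCommGroup M'] [Module R M'] [AddCommGroup M] [Module R M] [AddCommGroup M''] [Module R M''] (f : M' →ₗ[R] M) (g : M →ₗ[R] M'') (hf : Function.Injective f) (hexact : Function.Exact f g) (hg : Function.Surjective g) [Module.Flat R M''] : (Module.Flat R M' → Module.Flat R M) ∧ (Module.Flat R M → Module.Flat R M') := by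
  -- f ⊗ A is injective for every A since M'' is flat
  have hL : ∀ (A : Type u) [AddCommGroup A] [Module R A], Function.Injective (f.rTensor A) := by
    intro A _ _
    rw [← LinearMap.lTensor_inj_iff_rTensor_inj]
    exact LinearMap.lTensor_injective_of_exact_of_flat g hg f hf hexact A
  have hcomm1 : ∀ {N N' : Type u} [AddCommGroup N] [AddCommGroup N'] [Module R N] [Module R N']
      (φ : N →ₗ[R] N') (x : TensorProduct R M' N),
      φ.lTensor M (f.rTensor N x) = f.rTensor N' (φ.lTensor M' x) := by
    intro N N' _ _ _ _ φ x
    rw [← LinearMap.comp_apply, ← LinearMap.comp_apply, LinearMap.lTensor_comp_rTensor,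
      LinearMap.rTensor_comp_lTensor]
  have hcomm2 : ∀ {N N' : Type u} [AddCommGroup N] [AddCommGroup N'] [Module R N] [Module R N']
      (φ : N →ₗ[R] N') (x : TensorProduct R M N),
      φ.lTensor M'' (g.rTensor N x) = g.rTensor N' (φ.lTensor M x) := by
    intro N N' _ _ _ _ φ x
    rw [← LinearMap.comp_apply, ← LinearMap.comp_apply, LinearMap.lTensor_comp_rTensor,
      LinearMap.rTensor_comp_lTensor]
  constructor
  · intro hM'
    rw [Module.Flat.iff_lTensor_preserves_injective_linearMap]
    intro N N' _ _ _ _ φ hφ
    rw [injective_iff_map_eq_zero]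
    intro x hx
    have hc : Function.Injective (φ.lTensor M'') :=
      Module.Flat.lTensor_preserves_injective_linearMap φ hφ
    have ha : Function.Injective (φ.lTensor M') :=
      Module.Flat.lTensor_preserves_injective_linearMap φ hφ
    have h1 : g.rTensor N x = 0 := by
      apply hc
      rw [hcomm2, hx, map_zero, map_zero]
    have hex : Function.Exact (f.rTensor N) (g.rTensor N) := rTensor_exact N hexact hg
    obtain ⟨x', rfl⟩ := (hex x).mp h1
    have h2 : φ.lTensor M' x' = 0 := by
      apply hL N'
      rw [← hcomm1, hx, map_zero]
    have h3 : x' = 0 := by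
      apply ha
      rw [h2, map_zero]
    rw [h3, map_zero]
  · intro hM
    rw [Module.Flat.iff_lTensor_preserves_injective_linearMap]
    intro N N' _ _ _ _ φ hφ
    rw [injective_iff_map_eq_zero]
    intro x' hx'
    have hb : Function.Injective (φ.lTensor M) :=
      Module.Flat.lTensor_preserves_injective_linearMap φ hφ
    have h1 : f.rTensor N x' = 0 := by
      apply hb
      rw [hcomm1, hx', map_zero, map_zero]
    apply hL N
    rw [h1, map_zero]

end Groth.Agent.S6304
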