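import Groth.Statements.S6305
import Mathlib
-- import your own Groth.Agent.* helpers here

set_option autoImplicit false
universe u
open CAlg

namespace Groth.Agent.S6305

/-- An R-module M is flat exactly when every short exact sequence 0 → M₁ → M₂ → M → 0 of R-modules is
universally exact, i.e. its first map M₁ → M₂ is universally injective. -/
theorem result {R : Type u} [CommRing R] (M : Type u) [AddCommGroup M] [Module R M] : Module.Flat R M ↔ ∀ (M₁ M₂ : Type u) [AddCommGroup M₁] [Module R M₁] [AddCommGroup M₂] [Module R M₂] (f : M₁ →ₗ[R] M₂) (g : M₂ →ₗ[R] M), Function.Injective f → Function.Exact f g → Function.Surjective g → CAlgX.UniversallyInjective R f := by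
  have hcomm : ∀ {P' P N N' : Type u} [AddCommGroup P'] [Module R P'] [AddCommGroup P] [Module R P]
      [AddCommGroup N] [AddCommGroup N'] [Module R N] [Module R N']
      (h : P' →ₗ[R] P) (φ : N →ₗ[R] N') (x : TensorProduct R P' N),
      φ.lTensor P (h.rTensor N x) = h.rTensor N' (φ.lTensor P' x) := by
    intro P' P N N' _ _ _ _ _ _ _ _ h φ x
    rw [← LinearMap.comp_apply, ← LinearMap.comp_apply, LinearMap.lTensor_comp_rTensor,
      LinearMap.rTensor_comp_lTensor]
  constructor
  · intro hM M₁ M₂ _ _ _ _ f g hf hexact hg Q _ _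
    rw [← LinearMap.lTensor_inj_iff_rTensor_inj]
    exact LinearMap.lTensor_injective_of_exact_of_flat g hg f hf hexact Q
  · intro H
    let π : (M →₀ R) →ₗ[R] M := Finsupp.linearCombination R id
    have hπ : Function.Surjective π := fun m => ⟨Finsupp.single m 1, by simp [π]⟩
    have hexact : Function.Exact (LinearMap.ker π).subtype π := LinearMap.exact_subtype_ker_map π
    have hU := H (LinearMap.ker π) (M →₀ R) (LinearMap.ker π).subtype π (LinearMap.ker π).subtype_injective hexact hπ
    rw [Module.Flat.iff_lTensor_preserves_injective_linearMap]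
    intro N N' _ _ _ _ φ hφ
    rw [injective_iff_map_eq_zero]
    intro x hx
    -- lift x
    obtain ⟨y, rfl⟩ := LinearMap.rTensor_surjective N hπ x
    have hexN' := rTensor_exact (M := LinearMap.ker π) (f := (LinearMap.ker π).subtype) N' hexact hπ
    have h1 : π.rTensor N' (φ.lTensor (M →₀ R) y) = 0 := by
      rw [← hcomm, hx]
    obtain ⟨k', hk'⟩ := (hexN' _).mp h1
    -- the cokernel of φ
    let ρ : N' →ₗ[R] (N' ⧸ LinearMap.range φ) := (LinearMap.range φ).mkQ
    have hρ : Function.Surjective ρ := Submodule.mkQ_surjective _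
    have hφρ : Function.Exact φ ρ := LinearMap.exact_map_mkQ_range φ
    have h2 : ρ.lTensor (M →₀ R) (φ.lTensor (M →₀ R) y) = 0 := by
      rw [← LinearMap.comp_apply, ← LinearMap.lTensor_comp, hφρ.linearMap_comp_eq_zero,
        LinearMap.lTensor_zero, LinearMap.zero_apply]
    have h3 : ρ.lTensor (LinearMap.ker π) k' = 0 := by
      apply hU (N' ⧸ LinearMap.range φ)
      have e := hcomm (P' := LinearMap.ker π) (P := M →₀ R) (LinearMap.ker π).subtype ρ k'
      rw [← e, hk', h2, map_zero]
    have hexK : Function.Exact (φ.lTensor (LinearMap.ker π)) (ρ.lTensor (LinearMap.ker π)) :=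
      lTensor_exact (LinearMap.ker π) hφρ hρ
    obtain ⟨k, rfl⟩ := (hexK _).mp h3
    have hFinj : Function.Injective (φ.lTensor (M →₀ R)) :=
      Module.Flat.lTensor_preserves_injective_linearMap φ hφ
    have h4 : (LinearMap.ker π).subtype.rTensor N k = y := by
      apply hFinj
      have e := hcomm (P' := LinearMap.ker π) (P := M →₀ R) (LinearMap.ker π).subtype φ k
      rw [e, hk']
    rw [← h4]
    have hexN := rTensor_exact (M := LinearMap.ker π) (f := (LinearMap.ker π).subtype) N hexact hπ
    exact hexN.apply_apply_eq_zero k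

end Groth.Agent.S6305
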