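import Groth.Statements.S6308
import Mathlib

set_option autoImplicit false
universe u
open scoped TensorProduct
open CAlg

namespace Groth.Agent.S6308

theorem key1 {R : Type u} [CommRing R] {M N : Type u} [AddCommGroup M] [Module R M]
    [AddCommGroup N] [Module R N] (φ : M →ₗ[R] N) (p : PrimeSpectrum R) :
    Function.Surjective (LocalizedModule.map p.asIdeal.primeCompl φ) ↔
      p ∉ Module.support R (N ⧸ LinearMap.range φ) := by
  rw [LinearMap.localizedMap_surjective_iff_subsingleton_localized_coker,
    Module.notMem_support_iff]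

theorem key2 {R : Type u} [CommRing R] {M N : Type u} [AddCommGroup M] [Module R M]
    [AddCommGroup N] [Module R N] (Q : Type u) [AddCommGroup Q] [Module R Q] (φ : M →ₗ[R] N) :
    Function.Surjective (φ.lTensor Q) ↔ Subsingleton (Q ⊗[R] (N ⧸ LinearMap.range φ)) := by
  have hex : Function.Exact φ (LinearMap.range φ).mkQ := LinearMap.exact_map_mkQ_range φ
  have hsurj := Submodule.mkQ_surjective (LinearMap.range φ)
  have h1 := lTensor_exact Q hex hsurj
  have h2 := LinearMap.lTensor_surjective Q hsurj
  constructor
  · intro h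
    refine ⟨fun a b => ?_⟩
    obtain ⟨a', rfl⟩ := h2 a
    obtain ⟨b', rfl⟩ := h2 b
    obtain ⟨a'', rfl⟩ := h a'
    obtain ⟨b'', rfl⟩ := h b'
    rw [h1.apply_apply_eq_zero, h1.apply_apply_eq_zero]
  · intro h y
    exact (h1 y).mp (Subsingleton.elim _ _)


/-- Let R be a ring and φ : M → N a map of R-modules with N finite. For a prime p, the localization φ_p
: M_p → N_p is surjective if and only if φ ⊗ κ(p) : M ⊗ κ(p) → N ⊗ κ(p) is surjective; the set U of
such primes is open in Spec(R); and for every f ∈ R with D(f) ⊆ U the map M_f → N_f is surjective. -/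
theorem result {R : Type u} [CommRing R] {M N : Type u} [AddCommGroup M] [Module R M] [AddCommGroup N] [Module R N] [Module.Finite R N] (φ : M →ₗ[R] N) : (∀ p : PrimeSpectrum R, Function.Surjective (LocalizedModule.map p.asIdeal.primeCompl φ) ↔ Function.Surjective (φ.lTensor p.asIdeal.ResidueField)) ∧ IsOpen {p : PrimeSpectrum R | Function.Surjective (LocalizedModule.map p.asIdeal.primeCompl φ)} ∧ (∀ f : R, (↑(PrimeSpectrum.basicOpen f) : Set (PrimeSpectrum R)) ⊆ {p : PrimeSpectrum R | Function.Surjective (LocalizedModule.map p.asIdeal.primeCompl φ)} → Function.Surjective (LocalizedModule.map (Submonoid.powers f) φ)) := by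
  refine ⟨fun p => ?_, ?_, fun f hf => ?_⟩
  · rw [key1, key2, Module.mem_support_iff_nontrivial_residueField_tensorProduct,
      not_nontrivial_iff_subsingleton]
  · have h0 : {p : PrimeSpectrum R |
        Function.Surjective (LocalizedModule.map p.asIdeal.primeCompl φ)} =
        (Module.support R (N ⧸ LinearMap.range φ))ᶜ := by
      ext p
      exact key1 φ p
    rw [h0, Module.support_eq_zeroLocus]
    exact (PrimeSpectrum.isClosed_zeroLocus _).isOpen_compl
  · rw [LinearMap.localizedMap_surjective_iff_subsingleton_localized_coker]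
    apply LocalizedModule.subsingleton_iff_support_subset.mpr
    intro p hp
    by_contra hfp
    have hfp' : f ∉ p.asIdeal := fun h =>
      hfp (by rw [PrimeSpectrum.mem_zeroLocus, Set.singleton_subset_iff]; exact h)
    have hpU := hf (show p ∈ (↑(PrimeSpectrum.basicOpen f) : Set (PrimeSpectrum R)) from
      (PrimeSpectrum.mem_basicOpen f p).mpr hfp')
    exact (key1 φ p).mp hpU hp


end Groth.Agent.S6308
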