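import Groth.Statements.S6309
import Mathlib

set_option autoImplicit false
universe u
open scoped TensorProduct
open CAlg

namespace Groth.Agent.S6309

open TensorProduct

theorem lin_eq_sum {R : Type u} [CommRing R] {k : ℕ} {N : Type*} [AddCommGroup N] [Module R N]
    (L : (Fin k → R) →ₗ[R] N) (x : Fin k → R) :
    L x = ∑ i, x i • L (Pi.single i 1) := by
  classical
  have hx : x = ∑ i, x i • (Pi.single i (1:R) : Fin k → R) := by
    ext t
    rw [Finset.sum_apply, Finset.sum_eq_single t]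
    · rw [Pi.smul_apply, Pi.single_eq_same, smul_eq_mul, mul_one]
    · intro b _ hb
      rw [Pi.smul_apply, Pi.single_eq_of_ne (Ne.symm hb), smul_zero]
    · intro h; exact absurd (Finset.mem_univ t) h
  conv_lhs => rw [hx]
  rw [map_sum]
  exact Finset.sum_congr rfl (fun i _ => map_smul L _ _)

theorem subA {R : Type u} [CommRing R] (p : Ideal R) [hp : p.IsPrime] {P : Type u}
    [AddCommGroup P] [Module R P] (v : p.ResidueField ⊗[R] P) :
    ∃ d : R, d ∉ p ∧ ∃ x : P, d • v = (1 : p.ResidueField) ⊗ₜ[R] x := by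
  induction v using TensorProduct.induction_on with
  | zero =>
    refine ⟨1, (Ideal.ne_top_iff_one p).mp hp.ne_top, 0, ?_⟩
    rw [smul_zero, TensorProduct.tmul_zero]
  | tmul a x =>
    obtain ⟨z, rfl⟩ := IsLocalRing.residue_surjective a
    obtain ⟨⟨c, d⟩, hcd⟩ := IsLocalization.surj p.primeCompl z
    have hcd' : z * algebraMap R (Localization.AtPrime p) (d : R)
        = algebraMap R (Localization.AtPrime p) c := hcd
    have hkey : ((d : R) • (IsLocalRing.residue (Localization.AtPrime p) z) : p.ResidueField)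
        = c • (1 : p.ResidueField) := by
      rw [Algebra.smul_def, Algebra.smul_def, mul_one,
        IsScalarTower.algebraMap_apply R (Localization.AtPrime p) p.ResidueField (d : R),
        IsScalarTower.algebraMap_apply R (Localization.AtPrime p) p.ResidueField c,
        IsLocalRing.ResidueField.algebraMap_eq]
      rw [← hcd', map_mul, mul_comm]
    refine ⟨(d : R), d.2, c • x, ?_⟩
    rw [TensorProduct.smul_tmul', hkey, TensorProduct.smul_tmul]
  | add v₁ v₂ h₁ h₂ =>
    obtain ⟨d₁, hd₁, x₁, e₁⟩ := h₁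
    obtain ⟨d₂, hd₂, x₂, e₂⟩ := h₂
    refine ⟨d₁ * d₂, fun h => (hp.mem_or_mem h).elim hd₁ hd₂, d₂ • x₁ + d₁ • x₂, ?_⟩
    rw [smul_add, TensorProduct.tmul_add, TensorProduct.tmul_smul, TensorProduct.tmul_smul,
      ← e₁, ← e₂, mul_comm d₁ d₂, mul_smul, mul_comm d₂ d₁, mul_smul]

theorem subB {R : Type u} [CommRing R] (p : Ideal R) [hp : p.IsPrime] {P : Type u}
    [AddCommGroup P] [Module R P] [Module.Finite R P] [Module.Projective R P] (x : P)
    (hx : (1 : p.ResidueField) ⊗ₜ[R] x = 0) : x ∈ p • (⊤ : Submodule R P) := by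
  classical
  obtain ⟨n, r, i, -, -, hri⟩ := Module.Finite.exists_comp_eq_id_of_projective R P
  have h1 : (1 : p.ResidueField) ⊗ₜ[R] (i x) = 0 := by
    have := congrArg (LinearMap.lTensor p.ResidueField i) hx
    rwa [LinearMap.lTensor_tmul, map_zero] at this
  have h2 : ∀ j, i x j ∈ p := by
    intro j
    have := congrFun (congrArg (TensorProduct.piScalarRight R R p.ResidueField (Fin n)) h1) j
    rw [TensorProduct.piScalarRight_apply, TensorProduct.piScalarRightHom_tmul, map_zero] at this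
    have h' : algebraMap R p.ResidueField (i x j) = 0 := by
      rw [Algebra.algebraMap_eq_smul_one]
      exact this
    exact Ideal.algebraMap_residueField_eq_zero.mp h'
  have hx' : x = ∑ j, i x j • r (Pi.single j 1) :=
    calc x = r (i x) := (LinearMap.congr_fun hri x).symm
      _ = _ := lin_eq_sum r (i x)
  rw [hx']
  exact Submodule.sum_mem _ (fun j _ => Submodule.smul_mem_smul (h2 j) Submodule.mem_top)

theorem subC {R : Type u} [CommRing R] (p : Ideal R) [hp : p.IsPrime] {P : Type u}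
    [AddCommGroup P] [Module R P] [Module.Finite R P] (ε : Module.End R P)
    (hε : LinearMap.range ε ≤ p • (⊤ : Submodule R P)) (d : R) (hd : d ∉ p) :
    ∃ h : Module.End R P, ∃ s : R, s ∉ p ∧
      h * (ε + d • (1 : Module.End R P)) = s • (1 : Module.End R P) := by
  obtain ⟨q, hmonic, -, hcoef, hq⟩ :=
    LinearMap.exists_monic_and_natDegree_eq_and_coeff_mem_pow_and_aeval_eq_zero R ε p hε
  have hdiv : ∃ h₀ : Polynomial R, q = Polynomial.C (q.eval (-d))
      + h₀ * (Polynomial.X - Polynomial.C (-d)) :=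
    ⟨q /ₘ (Polynomial.X - Polynomial.C (-d)), by
      rw [mul_comm, ← Polynomial.modByMonic_X_sub_C_eq_C_eval]
      exact (Polynomial.modByMonic_add_div q (Polynomial.X - Polynomial.C (-d))).symm⟩
  obtain ⟨h₀, hh₀⟩ := hdiv
  have e1 : Polynomial.aeval ε (Polynomial.C (q.eval (-d))
      + h₀ * (Polynomial.X - Polynomial.C (-d))) = 0 := by
    rw [← hh₀]; exact hq
  have e2 : algebraMap R (Module.End R P) (q.eval (-d))
      + Polynomial.aeval ε h₀ * (ε - algebraMap R (Module.End R P) (-d)) = 0 := by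
    have := e1
    rw [map_add, map_mul, map_sub, Polynomial.aeval_C, Polynomial.aeval_C,
      Polynomial.aeval_X] at this
    exact this
  have e3 : (ε - algebraMap R (Module.End R P) (-d)) = ε + d • (1 : Module.End R P) := by
    rw [map_neg (algebraMap R (Module.End R P)) d, sub_neg_eq_add,
      Algebra.algebraMap_eq_smul_one]
  rw [e3, Algebra.algebraMap_eq_smul_one] at e2
  refine ⟨Polynomial.aeval ε h₀, -(q.eval (-d)), ?_, ?_⟩
  · intro hmem
    have hs0 : q.eval (-d) ∈ p := neg_mem_iff.mp hmem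
    rw [Polynomial.eval_eq_sum_range, Finset.sum_range_succ, hmonic.coeff_natDegree,
      one_mul] at hs0
    have hsum : ∑ k ∈ Finset.range q.natDegree, q.coeff k * (-d) ^ k ∈ p := by
      refine Ideal.sum_mem _ (fun k hk => Ideal.mul_mem_right _ _ ?_)
      have hk' : q.natDegree - k ≠ 0 := by
        have := Finset.mem_range.mp hk
        omega
      exact Ideal.pow_le_self hk' (hcoef k)
    have hpow : (-d) ^ q.natDegree ∈ p := (Submodule.add_mem_iff_right p hsum).mp hs0
    exact hd (neg_mem_iff.mp (hp.mem_of_pow_mem _ hpow))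
  · rw [neg_smul]
    exact eq_neg_of_add_eq_zero_right e2

theorem L1 {R : Type u} [CommRing R] (p : Ideal R) [hp : p.IsPrime] {P₁ P₂ : Type u}
    [AddCommGroup P₁] [Module R P₁] [AddCommGroup P₂] [Module R P₂] (φ : P₁ →ₗ[R] P₂)
    (ψ : P₂ →ₗ[R] P₁) (s : R) (hs : s ∉ p) (h : ψ ∘ₗ φ = s • LinearMap.id) :
    Function.Injective (φ.lTensor p.ResidueField) := by
  have hcomp : ∀ a, (ψ.lTensor p.ResidueField) ((φ.lTensor p.ResidueField) a) = s • a := by
    intro a
    rw [← LinearMap.comp_apply, ← LinearMap.lTensor_comp, h, LinearMap.lTensor_smul,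
      LinearMap.lTensor_id, LinearMap.smul_apply, LinearMap.id_apply]
  have hs0 : algebraMap R p.ResidueField s ≠ 0 :=
    fun h0 => hs (Ideal.algebraMap_residueField_eq_zero.mp h0)
  intro a b hab
  have h1 : s • a = s • b := by rw [← hcomp a, ← hcomp b, hab]
  have h2 : (algebraMap R p.ResidueField s) • a = (algebraMap R p.ResidueField s) • b := by
    rw [algebraMap_smul, algebraMap_smul]; exact h1
  calc a = (algebraMap R p.ResidueField s)⁻¹ • ((algebraMap R p.ResidueField s) • a) :=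
        (inv_smul_smul₀ hs0 a).symm
    _ = (algebraMap R p.ResidueField s)⁻¹ • ((algebraMap R p.ResidueField s) • b) := by rw [h2]
    _ = b := inv_smul_smul₀ hs0 b

theorem L2 {R : Type u} [CommRing R] (p : Ideal R) [hp : p.IsPrime] {P₁ P₂ : Type u}
    [AddCommGroup P₁] [Module R P₁] [AddCommGroup P₂] [Module R P₂]
    [Module.Finite R P₁] [Module.Projective R P₁] [Module.Finite R P₂] [Module.Projective R P₂]
    (φ : P₁ →ₗ[R] P₂) (hinj : Function.Injective (φ.lTensor p.ResidueField)) :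
    ∃ (ψ : P₂ →ₗ[R] P₁) (s : R), s ∉ p ∧ ψ ∘ₗ φ = s • LinearMap.id := by
  classical
  have hinj' : Function.Injective (φ.baseChange p.ResidueField) := hinj
  obtain ⟨lam, hlam⟩ := LinearMap.exists_leftInverse_of_injective
    (φ.baseChange p.ResidueField) (LinearMap.ker_eq_bot.mpr hinj')
  have hlam' : ∀ v, lam ((φ.lTensor p.ResidueField) v) = v :=
    fun v => LinearMap.congr_fun hlam v
  obtain ⟨μ, hμ⟩ : ∃ μ : P₂ →ₗ[R] p.ResidueField ⊗[R] P₁,
      ∀ y, μ y = lam ((1 : p.ResidueField) ⊗ₜ[R] y) :=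
    ⟨(lam.restrictScalars R) ∘ₗ (TensorProduct.mk R p.ResidueField P₂ 1), fun y => rfl⟩
  obtain ⟨m, r₂, i₂, -, -, h₂⟩ := Module.Finite.exists_comp_eq_id_of_projective R P₂
  have hA : ∀ j : Fin m, ∃ d : R, d ∉ p ∧ ∃ x : P₁,
      d • μ (r₂ (Pi.single j 1)) = (1 : p.ResidueField) ⊗ₜ[R] x := fun j => subA p _
  choose dd hdd xx hxx using hA
  obtain ⟨d, hd⟩ : ∃ d, d = ∏ j, dd j := ⟨_, rfl⟩
  have hdp : d ∉ p := by
    rw [hd]
    have : ∏ j, dd j ∈ p.primeCompl := Submonoid.prod_mem p.primeCompl (fun j _ => hdd j)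
    exact this
  obtain ⟨x', hx'⟩ : ∃ x' : Fin m → P₁,
      ∀ j, x' j = (∏ j' ∈ Finset.univ.erase j, dd j') • xx j := ⟨_, fun j => rfl⟩
  have hdx : ∀ j, d • μ (r₂ (Pi.single j 1)) = (1 : p.ResidueField) ⊗ₜ[R] x' j := by
    intro j
    rw [hd, ← Finset.prod_erase_mul Finset.univ dd (Finset.mem_univ j), mul_smul, hxx j, hx' j,
      TensorProduct.tmul_smul]
  obtain ⟨ψ₀, hψ₀⟩ : ∃ ψ₀ : P₂ →ₗ[R] P₁, ∀ y, ψ₀ y = ∑ j, i₂ y j • x' j :=
    ⟨(Fintype.linearCombination R x') ∘ₗ i₂, fun y => rfl⟩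
  have hψ₀μ : ∀ y, (1 : p.ResidueField) ⊗ₜ[R] ψ₀ y = d • μ y := by
    intro y
    have hy : μ y = ∑ j, i₂ y j • μ (r₂ (Pi.single j 1)) := by
      have := lin_eq_sum (μ ∘ₗ r₂) (i₂ y)
      rw [LinearMap.comp_apply, show r₂ (i₂ y) = y from LinearMap.congr_fun h₂ y] at this
      exact this
    rw [hy, Finset.smul_sum, hψ₀, TensorProduct.tmul_sum]
    refine Finset.sum_congr rfl (fun j _ => ?_)
    rw [TensorProduct.tmul_smul, smul_comm, hdx j]
  obtain ⟨θ, hθ⟩ : ∃ θ : Module.End R P₁, θ = ψ₀ ∘ₗ φ - d • (1 : Module.End R P₁) :=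
    ⟨_, rfl⟩
  have hθ0 : ∀ x, (1 : p.ResidueField) ⊗ₜ[R] θ x = 0 := by
    intro x
    rw [hθ, LinearMap.sub_apply, LinearMap.smul_apply, Module.End.one_apply,
      LinearMap.comp_apply, TensorProduct.tmul_sub, hψ₀μ, hμ, TensorProduct.tmul_smul]
    have : (1 : p.ResidueField) ⊗ₜ[R] φ x
        = (φ.lTensor p.ResidueField) ((1 : p.ResidueField) ⊗ₜ[R] x) :=
      (LinearMap.lTensor_tmul _ _ _ _).symm
    rw [this, hlam', sub_self]
  have hrange : LinearMap.range θ ≤ p • (⊤ : Submodule R P₁) := by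
    rintro _ ⟨x, rfl⟩
    exact subB p _ (hθ0 x)
  obtain ⟨h, s, hs, hh⟩ := subC p θ hrange d hdp
  have hθd : θ + d • (1 : Module.End R P₁) = ψ₀ ∘ₗ φ := by rw [hθ, sub_add_cancel]
  rw [hθd] at hh
  refine ⟨h ∘ₗ ψ₀, s, hs, ?_⟩
  rw [LinearMap.comp_assoc]
  exact hh


/-- Let R be a ring and φ : P₁ → P₂ a map of finite projective R-modules. The set U of primes p of R
such that φ ⊗ κ(p) is injective is open, and for every f ∈ R with D(f) ⊆ U the map (P₁)_f → (P₂)_f
is injective and Coker(φ)_f is a finite projective module over R_f. -/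
theorem result {R : Type u} [CommRing R] {P₁ P₂ : Type u} [AddCommGroup P₁] [Module R P₁] [AddCommGroup P₂] [Module R P₂] [Module.Finite R P₁] [Module.Projective R P₁] [Module.Finite R P₂] [Module.Projective R P₂] (φ : P₁ →ₗ[R] P₂) : IsOpen {p : PrimeSpectrum R | Function.Injective (φ.lTensor p.asIdeal.ResidueField)} ∧ ∀ f : R, (↑(PrimeSpectrum.basicOpen f) : Set (PrimeSpectrum R)) ⊆ {p : PrimeSpectrum R | Function.Injective (φ.lTensor p.asIdeal.ResidueField)} → Function.Injective (LocalizedModule.map (Submonoid.powers f) φ) ∧ Module.Finite (Localization.Away f) (LocalizedModule (Submonoid.powers f) (P₂ ⧸ LinearMap.range φ)) ∧ Module.Projective (Localization.Away f) (LocalizedModule (Submonoid.powers f) (P₂ ⧸ LinearMap.range φ)) := by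
  have hchar : ∀ q : PrimeSpectrum R,
      Function.Injective (φ.lTensor q.asIdeal.ResidueField) ↔
        ∃ (ψ : P₂ →ₗ[R] P₁) (s : R), s ∉ q.asIdeal ∧ ψ ∘ₗ φ = s • LinearMap.id := by
    intro q
    constructor
    · intro h; exact L2 q.asIdeal φ h
    · rintro ⟨ψ, s, hs, h⟩; exact L1 q.asIdeal φ ψ s hs h
  refine ⟨?_, ?_⟩
  · rw [isOpen_iff_forall_mem_open]
    intro q hq
    obtain ⟨ψ, s, hs, h⟩ := (hchar q).mp hq
    refine ⟨(PrimeSpectrum.basicOpen s : Set (PrimeSpectrum R)), ?_,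
      (PrimeSpectrum.basicOpen s).isOpen, hs⟩
    intro q' hq'
    exact (hchar q').mpr ⟨ψ, s, hq', h⟩
  · intro f hf
    obtain ⟨I, hI⟩ : ∃ I : Ideal R,
        ∀ s, s ∈ I ↔ ∃ ψ : P₂ →ₗ[R] P₁, ψ ∘ₗ φ = s • LinearMap.id := by
      refine ⟨{ carrier := {s | ∃ ψ : P₂ →ₗ[R] P₁, ψ ∘ₗ φ = s • LinearMap.id}
                add_mem' := ?_, zero_mem' := ?_, smul_mem' := ?_ }, fun s => Iff.rfl⟩
      · rintro a b ⟨ψa, ha⟩ ⟨ψb, hb⟩
        exact ⟨ψa + ψb, by rw [LinearMap.add_comp, ha, hb, add_smul]⟩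
      · exact ⟨0, by rw [LinearMap.zero_comp, zero_smul]⟩
      · rintro c a ⟨ψa, ha⟩
        exact ⟨c • ψa, by rw [LinearMap.smul_comp, ha, smul_eq_mul, mul_smul]⟩
    have hfrad : f ∈ I.radical := by
      rw [Ideal.radical_eq_sInf, Ideal.mem_sInf]
      rintro J ⟨hIJ, hJ⟩
      by_contra hfJ
      have hmem : (⟨J, hJ⟩ : PrimeSpectrum R) ∈
          (↑(PrimeSpectrum.basicOpen f) : Set (PrimeSpectrum R)) := hfJ
      obtain ⟨ψ, s, hs, h⟩ := (hchar ⟨J, hJ⟩).mp (hf hmem)
      exact hs (hIJ ((hI s).mpr ⟨ψ, h⟩))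
    obtain ⟨k, hk⟩ := hfrad
    obtain ⟨ψ, hψ⟩ := (hI _).mp hk
    have hψ' : ∀ x, ψ (φ x) = f ^ k • x := fun x => LinearMap.congr_fun hψ x
    refine ⟨(injective_iff_map_eq_zero _).mpr ?_, inferInstance, ?_⟩
    · intro x hx
      induction x using LocalizedModule.induction_on with
      | h a t =>
        rw [LocalizedModule.map_mk, ← LocalizedModule.zero_mk t, LocalizedModule.mk_eq] at hx
        obtain ⟨u, hu⟩ := hx
        have hu' : ((u:R) * (t:R)) • φ a = 0 := by
          rw [smul_zero, smul_zero, Submonoid.smul_def, Submonoid.smul_def, ← mul_smul] at hu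
          exact hu
        have h0 : ((u:R) * (t:R) * f ^ k) • a = 0 := by
          have := congrArg ψ hu'
          rw [map_smul, hψ', map_zero, ← mul_smul] at this
          exact this
        rw [← LocalizedModule.zero_mk t, LocalizedModule.mk_eq]
        refine ⟨u * ⟨f ^ k, k, rfl⟩, ?_⟩
        rw [smul_zero, smul_zero, Submonoid.smul_def, Submonoid.smul_def, ← mul_smul,
          Submonoid.coe_mul]
        show ((u:R) * f ^ k * (t:R)) • a = 0
        have : (u:R) * f ^ k * (t:R) = (u:R) * (t:R) * f ^ k := by ring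
        rw [this]
        exact h0
    · obtain ⟨ρ, hρ⟩ : ∃ ρ : P₂ →ₗ[R] P₂, ∀ y, ρ y = f ^ k • y - φ (ψ y) :=
        ⟨f ^ k • LinearMap.id - φ ∘ₗ ψ, fun y => rfl⟩
      have hρφ : LinearMap.range φ ≤ LinearMap.ker ρ := by
        rintro _ ⟨x, rfl⟩
        rw [LinearMap.mem_ker, hρ, hψ', map_smul, sub_self]
      obtain ⟨ρb, hρb⟩ : ∃ ρb : (P₂ ⧸ LinearMap.range φ) →ₗ[R] P₂,
          ∀ y, ρb (Submodule.Quotient.mk y) = ρ y :=
        ⟨(LinearMap.range φ).liftQ ρ hρφ, fun y => rfl⟩
      have hmk : ∀ c, (LinearMap.range φ).mkQ (ρb c) = f ^ k • c := by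
        intro c
        obtain ⟨y, rfl⟩ := Submodule.Quotient.mk_surjective _ c
        rw [hρb, hρ, map_sub, map_smul, Submodule.mkQ_apply, Submodule.mkQ_apply]
        have : (Submodule.Quotient.mk (φ (ψ y)) : P₂ ⧸ LinearMap.range φ) = 0 :=
          (Submodule.Quotient.mk_eq_zero _).mpr ⟨_, rfl⟩
        rw [this, sub_zero]
      have hunit : IsUnit (algebraMap R (Localization.Away f) (f ^ k)) :=
        IsLocalization.map_units (Localization.Away f)
          (⟨f ^ k, k, rfl⟩ : Submonoid.powers f)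
      obtain ⟨a, ha⟩ := hunit.exists_left_inv
      refine Module.Projective.of_split (LocalizedModule.map (Submonoid.powers f) ρb)
        (a • LocalizedModule.map (Submonoid.powers f) (LinearMap.range φ).mkQ) ?_
      apply LinearMap.ext
      intro x
      induction x using LocalizedModule.induction_on with
      | h c t =>
        rw [LinearMap.comp_apply, LocalizedModule.map_mk, LinearMap.smul_apply,
          LocalizedModule.map_mk, hmk,
          show LocalizedModule.mk (f ^ k • c) t = f ^ k • LocalizedModule.mk c t from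
            (LocalizedModule.smul'_mk (f ^ k) c t).symm,
          ← algebraMap_smul (Localization.Away f) (f ^ k) (LocalizedModule.mk c t),
          ← mul_smul, ha, one_smul, LinearMap.id_apply]


end Groth.Agent.S6309
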