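import Groth.Statements.S6310
import Mathlib

set_option autoImplicit false
universe u
open CAlg

namespace Groth.Agent.S6310



/-- Let R be a ring, S ⊆ R a multiplicative subset, I ⊆ R an ideal and M a finite R-module. If x₁, …,
x_r ∈ M have images generating S⁻¹(M/IM) as an S⁻¹R-module, then there is f ∈ S + I (f = s + i with
s ∈ S, i ∈ I) such that x₁, …, x_r generate M_f as an R_f-module. -/
theorem result {R : Type u} [CommRing R] (S : Submonoid R) (I : Ideal R) (M : Type u) [AddCommGroup M] [Module R M] [Module.Finite R M] {r : ℕ} (x : Fin r → M) (hx : Submodule.span (Localization S) (Set.range fun j => LocalizedModule.mkLinearMap S (M ⧸ (I • (⊤ : Submodule R M))) (Submodule.Quotient.mk (x j))) = ⊤) : ∃ (s : R) (i : R), s ∈ S ∧ i ∈ I ∧ Submodule.span (Localization.Away (s + i)) (Set.range fun j => LocalizedModule.mkLinearMap (Submonoid.powers (s + i)) M (x j)) = ⊤ := by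
  classical
  obtain ⟨N, hN⟩ : ∃ N, N = Submodule.span R (Set.range x) := ⟨_, rfl⟩
  obtain ⟨π, hπ⟩ : ∃ π : M →ₗ[R] (M ⧸ (I • (⊤ : Submodule R M))),
    π = Submodule.mkQ (I • (⊤ : Submodule R M)) := ⟨_, rfl⟩
  have hx' : (Submodule.map π N).localized' (Localization S) S (LocalizedModule.mkLinearMap S (M ⧸ (I • (⊤ : Submodule R M)))) = ⊤ := by
    rw [hN, Submodule.map_span, Submodule.localized'_span, ← Set.range_comp, ← Set.range_comp,
      ← hx, hπ]
    rfl
  have hpt : ∀ m : M, ∃ s ∈ S, s • m ∈ N ⊔ I • (⊤ : Submodule R M) := by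
    intro m
    have h1 : (LocalizedModule.mkLinearMap S (M ⧸ (I • (⊤ : Submodule R M)))) (π m) ∈ (Submodule.map π N).localized' (Localization S) S (LocalizedModule.mkLinearMap S (M ⧸ (I • (⊤ : Submodule R M)))) := by
      rw [hx']; exact Submodule.mem_top
    obtain ⟨nb, hnb, t, ht⟩ := (Submodule.mem_localized' (Localization S) S (LocalizedModule.mkLinearMap S (M ⧸ (I • (⊤ : Submodule R M)))) _ _).mp h1
    rw [IsLocalizedModule.mk'_eq_iff, Submonoid.smul_def, ← map_smul] at ht
    obtain ⟨u, hu⟩ := (IsLocalizedModule.eq_iff_exists S (LocalizedModule.mkLinearMap S (M ⧸ (I • (⊤ : Submodule R M))))).mp ht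
    obtain ⟨n0, hn0, rfl⟩ := hnb
    refine ⟨u * t, S.mul_mem u.2 t.2, ?_⟩
    have h2 : π (((u : R) * (t : R)) • m - (u : R) • n0) = 0 := by
      rw [map_sub, map_smul, map_smul, mul_smul, sub_eq_zero]
      rw [Submonoid.smul_def, Submonoid.smul_def] at hu
      exact hu.symm
    have hker : ((u : R) * (t : R)) • m - (u : R) • n0 ∈ I • (⊤ : Submodule R M) := by
      rw [hπ, Submodule.mkQ_apply, Submodule.Quotient.mk_eq_zero] at h2
      exact h2
    have e : ((u : R) * (t : R)) • m = (u : R) • n0 + (((u : R) * (t : R)) • m - (u : R) • n0) := by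
      abel
    rw [e]
    exact Submodule.add_mem_sup (N.smul_mem _ hn0) hker
  obtain ⟨k, gen, hgen⟩ := Module.Finite.exists_fin (R := R) (M := M)
  choose sg hsgS hsg using fun i => hpt (gen i)
  obtain ⟨s, hs⟩ : ∃ s, s = ∏ i, sg i := ⟨_, rfl⟩
  have hsS : s ∈ S := by rw [hs]; exact Submonoid.prod_mem S (fun i _ => hsgS i)
  have hsall : ∀ m : M, s • m ∈ N ⊔ I • (⊤ : Submodule R M) := by
    intro m
    have hm : m ∈ Submodule.span R (Set.range gen) := by rw [hgen]; exact Submodule.mem_top
    induction hm using Submodule.span_induction with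
    | mem y hy =>
      obtain ⟨i, rfl⟩ := hy
      rw [hs, ← Finset.mul_prod_erase Finset.univ sg (Finset.mem_univ i), mul_comm, mul_smul]
      exact Submodule.smul_mem _ _ (hsg i)
    | zero => rw [smul_zero]; exact Submodule.zero_mem _
    | add a b _ _ ha hb => rw [smul_add]; exact Submodule.add_mem _ ha hb
    | smul r a _ ha => rw [smul_comm]; exact Submodule.smul_mem _ r ha
  have hrange : LinearMap.range (s • (LinearMap.id : (M ⧸ N) →ₗ[R] (M ⧸ N))) ≤
      I • (⊤ : Submodule R (M ⧸ N)) := by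
    rintro _ ⟨q, rfl⟩
    obtain ⟨m, rfl⟩ := Submodule.Quotient.mk_surjective N q
    obtain ⟨n0, hn0, y, hy, hsum⟩ := Submodule.mem_sup.mp (hsall m)
    have e : (s • (LinearMap.id : (M ⧸ N) →ₗ[R] (M ⧸ N))) (Submodule.Quotient.mk m) =
        N.mkQ y := by
      rw [LinearMap.smul_apply, LinearMap.id_apply, ← Submodule.Quotient.mk_smul, ← hsum,
        Submodule.Quotient.mk_add, (Submodule.Quotient.mk_eq_zero N).mpr hn0, zero_add]
      rfl
    rw [e]
    have h2 : N.mkQ y ∈ Submodule.map N.mkQ (I • (⊤ : Submodule R M)) :=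
      Submodule.mem_map_of_mem hy
    rw [Submodule.map_smul''] at h2
    exact Submodule.smul_mono (le_refl I) le_top h2
  obtain ⟨p, hmon, -, hcoef, hp⟩ :=
    LinearMap.exists_monic_and_natDegree_eq_and_coeff_mem_pow_and_aeval_eq_zero R
      (s • (LinearMap.id : (M ⧸ N) →ₗ[R] (M ⧸ N))) I hrange
  rw [← Module.algebraMap_end_eq_smul_id,
    Polynomial.aeval_algebraMap_apply_eq_algebraMap_eval] at hp
  have hkill : ∀ q : M ⧸ N, (Polynomial.eval s p) • q = 0 := by
    intro q
    have := LinearMap.congr_fun hp q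
    rwa [Module.algebraMap_end_apply] at this
  obtain ⟨d, hd⟩ : ∃ d, d = p.natDegree := ⟨_, rfl⟩
  obtain ⟨i, hi⟩ : ∃ i, i = ∑ j ∈ Finset.range d, p.coeff j * s ^ j := ⟨_, rfl⟩
  have hiI : i ∈ I := by
    rw [hi]
    apply Ideal.sum_mem
    intro j hj
    rw [Finset.mem_range] at hj
    apply Ideal.mul_mem_right
    have := hcoef j
    rw [← hd] at this
    exact Ideal.pow_le_self (by omega) this
  have hf : Polynomial.eval s p = s ^ d + i := by
    rw [Polynomial.eval_eq_sum_range, ← hd, Finset.sum_range_succ, ← hi, hd,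
      Polynomial.Monic.coeff_natDegree hmon, one_mul, add_comm]
  refine ⟨s ^ d, i, pow_mem hsS d, hiI, ?_⟩
  rw [hf] at hkill
  have hfM : ∀ m : M, (s ^ d + i) • m ∈ N := by
    intro m
    have h0 := hkill (Submodule.Quotient.mk m)
    rw [← Submodule.Quotient.mk_smul, Submodule.Quotient.mk_eq_zero] at h0
    exact h0
  rw [show (fun j => LocalizedModule.mkLinearMap (Submonoid.powers (s ^ d + i)) M (x j)) =
    (LocalizedModule.mkLinearMap (Submonoid.powers (s ^ d + i)) M) ∘ x from rfl,
    Set.range_comp, ← Submodule.localized'_span (Localization.Away (s ^ d + i))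
      (Submonoid.powers (s ^ d + i))
      (LocalizedModule.mkLinearMap (Submonoid.powers (s ^ d + i)) M) (Set.range x),
    ← hN, eq_top_iff]
  intro y _
  obtain ⟨⟨m, t⟩, rfl⟩ := IsLocalizedModule.mk'_surjective (Submonoid.powers (s ^ d + i))
    (LocalizedModule.mkLinearMap (Submonoid.powers (s ^ d + i)) M) y
  rw [Submodule.mem_localized']
  refine ⟨(s ^ d + i) • m, hfM m, ⟨s ^ d + i, Submonoid.mem_powers _⟩ * t, ?_⟩
  exact IsLocalizedModule.mk'_cancel_left _ m ⟨s ^ d + i, Submonoid.mem_powers _⟩ t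


end Groth.Agent.S6310
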