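import Groth.Statements.S6311
import Mathlib
import Groth.Prelude.Def_KZero
import Groth.Agent.Lib.Helper7.K0API

set_option autoImplicit false
universe u
open CategoryTheory
open CAlg

namespace Groth.Agent.S6311

section helpers
open CategoryTheory CategoryTheory.Limits KZero Groth.Agent.Lib.helper7.K0API

variable (R : Type u) [CommRing R]

/-- the property -/
abbrev PP : ObjectProperty (ModuleCat.{u} R) := fun M : ModuleCat.{u} R => Module.Finite R M ∧ Module.Projective R M

variable {R}

lemma PP_of_equiv {M N : ModuleCat.{u} R} (e : M ≃ₗ[R] N) (h : PP R M) : PP R N := by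
  obtain ⟨h1, h2⟩ := h
  exact ⟨Module.Finite.equiv e, Module.Projective.of_equiv e⟩

lemma clSub_prod (X Y : Type u) [AddCommGroup X] [Module R X] [AddCommGroup Y] [Module R Y]
    (hX : PP R (ModuleCat.of R X)) (hY : PP R (ModuleCat.of R Y)) :
    clSub (PP R) (ModuleCat.of R (X × Y)) =
      clSub (PP R) (ModuleCat.of R X) + clSub (PP R) (ModuleCat.of R Y) := by
  let T : ShortComplex (ModuleCat.{u} R) :=
    ShortComplex.mk (ModuleCat.ofHom (LinearMap.inl R X Y)) (ModuleCat.ofHom (LinearMap.snd R X Y))
      (by ext x; simp)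
  have hsplit : T.Splitting :=
    { r := ModuleCat.ofHom (LinearMap.fst R X Y)
      s := ModuleCat.ofHom (LinearMap.inr R X Y)
      f_r := by ext x; simp [T]
      s_g := by ext x; simp [T]
      id := by
        ext x
        all_goals simp [T] }
  have hXY : PP R (ModuleCat.of R (X × Y)) := by
    obtain ⟨h1, h2⟩ := hX
    obtain ⟨h3, h4⟩ := hY
    have h1' : Module.Finite R X := h1
    have h2' : Module.Projective R X := h2
    have h3' : Module.Finite R Y := h3
    have h4' : Module.Projective R Y := h4
    exact ⟨(inferInstance : Module.Finite R (X × Y)), (inferInstance : Module.Projective R (X × Y))⟩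
  exact clSub_additive (PP R) T hsplit.shortExact hX hXY hY

lemma clSub_zero' (N : ModuleCat.{u} R) (hN : IsZero N) : clSub (PP R) N = 0 := by
  have hPN : PP R N := by
    have : Subsingleton N := ModuleCat.subsingleton_of_isZero hN
    exact ⟨inferInstance, inferInstance⟩
  let T : ShortComplex (ModuleCat.{u} R) := ShortComplex.mk (𝟙 N) (𝟙 N) (hN.eq_of_src _ _)
  have hsplit : T.Splitting :=
    { r := 𝟙 N
      s := 𝟙 N
      f_r := Category.comp_id _
      s_g := Category.comp_id _
      id := hN.eq_of_src _ _ }
  have h := clSub_additive (PP R) T hsplit.shortExact hPN hPN hPN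
  exact left_eq_add.mp h

lemma clSub_iso' {M N : ModuleCat.{u} R} (e : M ≅ N) (hM : PP R M) :
    clSub (PP R) M = clSub (PP R) N := by
  have hN : PP R N := PP_of_equiv e.toLinearEquiv hM
  obtain ⟨Z0, hz⟩ := HasZeroObject.zero (C := ModuleCat.{u} R)
  let T : ShortComplex (ModuleCat.{u} R) := ShortComplex.mk (0 : Z0 ⟶ M) e.hom zero_comp
  have hsplit : T.Splitting :=
    { r := 0
      s := e.inv
      f_r := hz.eq_of_src _ _
      s_g := e.inv_hom_id
      id := by simp [T] }
  have hPZ : PP R Z0 := by
    have : Subsingleton Z0 := ModuleCat.subsingleton_of_isZero hz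
    exact ⟨inferInstance, inferInstance⟩
  have h := clSub_additive (PP R) T hsplit.shortExact hPZ hM hN
  rw [clSub_zero' _ hz, zero_add] at h
  exact h

lemma clSub_pi (n : ℕ) : clSub (PP R) (ModuleCat.of R (Fin n → R)) =
    (n : ℤ) • clSub (PP R) (ModuleCat.of R R) := by
  induction n with
  | zero =>
    rw [Nat.cast_zero, zero_smul]
    apply clSub_zero'
    apply ModuleCat.isZero_of_subsingleton
  | succ n ih =>
    have hP1 : PP R (ModuleCat.of R R) := ⟨(inferInstance : Module.Finite R R), (inferInstance : Module.Projective R R)⟩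
    have hPn : PP R (ModuleCat.of R (Fin n → R)) :=
      ⟨(inferInstance : Module.Finite R (Fin n → R)), (inferInstance : Module.Projective R (Fin n → R))⟩
    have e : ModuleCat.of R (R × (Fin n → R)) ≅ ModuleCat.of R (Fin (n+1) → R) :=
      (Fin.consLinearEquiv R (fun _ : Fin (n+1) => R)).toModuleIso
    have hPprod : PP R (ModuleCat.of R (R × (Fin n → R))) :=
      ⟨(inferInstance : Module.Finite R (R × (Fin n → R))), (inferInstance : Module.Projective R (R × (Fin n → R)))⟩
    rw [← clSub_iso' e hPprod, clSub_prod R (Fin n → R) hP1 hPn, ih]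
    push_cast
    rw [add_smul, one_smul, add_comm]

theorem main (R : Type u) [CommRing R] [IsLocalRing R] : ∃ e : KZero.K0sub (fun M : ModuleCat.{u} R => Module.Finite R M ∧ Module.Projective R M) ≃+ ℤ, e (KZero.clSub (fun M : ModuleCat.{u} R => Module.Finite R M ∧ Module.Projective R M) (ModuleCat.of R R)) = 1 := by
  classical
  have hP1 : PP R (ModuleCat.of R R) := ⟨(inferInstance : Module.Finite R R), (inferInstance : Module.Projective R R)⟩
  obtain ⟨φ, hφ⟩ := exists_lift_K0sub (PP R) (fun M : ModuleCat.{u} R => (Module.finrank R M : ℤ)) (by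
    intro S hS h1 h2 h3
    obtain ⟨h1f, h1p⟩ := h1
    obtain ⟨h2f, h2p⟩ := h2
    obtain ⟨h3f, h3p⟩ := h3
    have hinj : Function.Injective S.f.hom := hS.moduleCat_injective_f
    have hsurj : Function.Surjective S.g.hom := hS.moduleCat_surjective_g
    have hex : Function.Exact S.f.hom S.g.hom :=
      (ShortComplex.ShortExact.moduleCat_exact_iff_function_exact S).mp hS.exact
    obtain ⟨l, hl⟩ := Module.projective_lifting_property S.g.hom LinearMap.id hsurj
    have hl' : S.g.hom ∘ₗ l = LinearMap.id := hl
    have e := (hex.splitSurjectiveEquiv hinj ⟨l, hl'⟩).1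
    have hf1 : Module.Free R S.X₁ := Module.free_of_flat_of_isLocalRing
    have hf3 : Module.Free R S.X₃ := Module.free_of_flat_of_isLocalRing
    have := e.finrank_eq
    rw [Module.finrank_prod] at this
    show (Module.finrank R S.X₂ : ℤ) = (Module.finrank R S.X₁ : ℤ) + (Module.finrank R S.X₃ : ℤ)
    rw [this]
    push_cast
    rfl)
  let ψ : ℤ →+ K0sub (PP R) := zmultiplesHom _ (clSub (PP R) (ModuleCat.of R R))
  have hφ1 : φ (clSub (PP R) (ModuleCat.of R R)) = 1 := by
    rw [hφ _ hP1]
    simp
  have hψφ : ∀ x, ψ (φ x) = x := by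
    intro x
    have hx : x ∈ AddSubgroup.closure {x : K0sub (PP R) | ∃ F : ModuleCat.{u} R, PP R F ∧ x = clSub (PP R) F} := by
      rw [closure_clSub]; trivial
    induction hx using AddSubgroup.closure_induction with
    | mem x hx =>
      obtain ⟨M, hM, rfl⟩ := hx
      rw [hφ M hM]
      obtain ⟨hMf, hMp⟩ := hM
      have hfree : Module.Free R M := Module.free_of_flat_of_isLocalRing
      let b := Module.finBasis R M
      have e : M ≅ ModuleCat.of R (Fin (Module.finrank R M) → R) := (b.equivFun).toModuleIso
      rw [clSub_iso' e ⟨hMf, hMp⟩, clSub_pi]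
      simp [ψ]
    | zero => simp
    | add x y _ _ hx hy => rw [map_add, map_add, hx, hy]
    | neg x _ hx => rw [map_neg, map_neg, hx]
  have hφψ : ∀ n, φ (ψ n) = n := by
    intro n
    simp [ψ, hφ1]
  exact ⟨AddEquiv.mk' ⟨φ, ψ, hψφ, hφψ⟩ (map_add φ), hφ1⟩


end helpers

/-- Let R be a local ring. Then K₀(R), the Grothendieck group of the category of finite projective
R-modules, is isomorphic to ℤ via the rank; precisely, there is an isomorphism K₀(R) ≅ ℤ of abelian
groups sending the class [R] to 1 (such an isomorphism is then unique, K₀(R) being generated by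
[R]). -/
theorem result (R : Type u) [CommRing R] [IsLocalRing R] : ∃ e : KZero.K0sub (fun M : ModuleCat.{u} R => Module.Finite R M ∧ Module.Projective R M) ≃+ ℤ, e (KZero.clSub (fun M : ModuleCat.{u} R => Module.Finite R M ∧ Module.Projective R M) (ModuleCat.of R R)) = 1 := by
  exact main R

end Groth.Agent.S6311
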