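import Groth.Statements.S6313
import Groth.Agent.Lib.Helper7.TorPres

set_option autoImplicit false
universe u
open CategoryTheory
open CAlg

namespace Groth.Agent.S6313


open Groth.Agent.Lib.helper7

/-- For a ring R and an R-module M, flatness of M over R is equivalent to the vanishing of Tor₁ᴿ(M, R/I)
for every finitely generated ideal I ⊆ R. -/
theorem result (R : Type u) [CommRing R] (M : Type u) [AddCommGroup M] [Module R M] : Module.Flat R M ↔ ∀ I : Ideal R, I.FG → Limits.IsZero (((CategoryTheory.Tor (ModuleCat.{u} R) 1).obj (ModuleCat.of R M)).obj (ModuleCat.of R (R ⧸ I))) := by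
  rw [Module.Flat.iff_lTensor_injective]
  constructor
  · intro h I hI
    exact (TorPres.isZero_iff_of_exact M (R ⧸ I) I.subtype (Submodule.mkQ I)
      (Submodule.subtype_injective I) (LinearMap.exact_subtype_mkQ I)
      (Submodule.mkQ_surjective I)).2 (h hI)
  · intro h I hI
    exact (TorPres.isZero_iff_of_exact M (R ⧸ I) I.subtype (Submodule.mkQ I)
      (Submodule.subtype_injective I) (LinearMap.exact_subtype_mkQ I)
      (Submodule.mkQ_surjective I)).1 (h I hI)

end Groth.Agent.S6313
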