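import Groth.Statements.S6315
import Groth.Agent.Lib.Helper7.TorAPI

set_option autoImplicit false
universe u
open CategoryTheory
open CAlg

namespace Groth.Agent.S6315


open Groth.Agent.Lib.helper7 CategoryTheory

/-- Let R be a Noetherian ring and M, N finite R-modules. Then Tor_pᴿ(M, N) is a finite R-module for all
p. -/
theorem result (R : Type u) [CommRing R] [IsNoetherianRing R] (M N : Type u) [AddCommGroup M] [Module R M] [AddCommGroup N] [Module R N] [Module.Finite R M] [Module.Finite R N] (p : ℕ) : Module.Finite R (((CategoryTheory.Tor (ModuleCat.{u} R) p).obj (ModuleCat.of R M)).obj (ModuleCat.of R N)) := by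
  classical
  induction p generalizing N with
  | zero =>
    have e : ((TorAPI.T 0 (ModuleCat.of R M)).obj (ModuleCat.of R N)) ≅
        ((TorAPI.tF (ModuleCat.of R M)).obj (ModuleCat.of R N)) :=
      (TorAPI.tor0Iso (ModuleCat.of R M)).app (ModuleCat.of R N)
    haveI : Module.Finite R ((TorAPI.tF (ModuleCat.of R M)).obj (ModuleCat.of R N)) := by
      change Module.Finite R (TensorProduct R M N)
      infer_instance
    exact Module.Finite.equiv e.symm.toLinearEquiv
  | succ p ih =>
    obtain ⟨n, f, hf⟩ := Module.Finite.exists_fin' R N
    let K := LinearMap.ker f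
    haveI : IsNoetherian R (Fin n → R) := inferInstance
    haveI : Module.Finite R K := Module.Finite.of_injective K.subtype K.injective_subtype
    let S : ShortComplex (ModuleCat.{u} R) :=
      ShortComplex.mk (ModuleCat.ofHom K.subtype) (ModuleCat.ofHom f)
        (by ext x; exact x.2)
    have hex : S.Exact := by
      rw [ShortComplex.ShortExact.moduleCat_exact_iff_function_exact]
      intro y
      change f y = 0 ↔ y ∈ Set.range K.subtype
      rw [Submodule.coe_subtype, Subtype.range_coe]
      exact Iff.rfl
    haveI : Mono S.f := by
      rw [ModuleCat.mono_iff_injective]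
      exact K.injective_subtype
    haveI : Epi S.g := by
      rw [ModuleCat.epi_iff_surjective]
      exact hf
    have hS : S.ShortExact := ⟨hex⟩
    haveI : Projective S.X₂ := by
      change Projective (ModuleCat.of R (Fin n → R))
      exact ModuleCat.projective_of_free (Pi.basisFun R (Fin n))
    obtain ⟨δ, w₁, w₂, e₁, e₂⟩ := TorAPI.T_exists_δ (ModuleCat.of R M) hS p
    haveI : Mono δ := e₁.mono_g
      ((TorAPI.isZero_T_projective (ModuleCat.of R M) S.X₂ p).eq_of_src _ _)
    have hinj : Function.Injective δ.hom := (ModuleCat.mono_iff_injective δ).1 inferInstance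
    haveI : Module.Finite R ((TorAPI.T p (ModuleCat.of R M)).obj S.X₁) := ih K
    haveI : IsNoetherian R ((TorAPI.T p (ModuleCat.of R M)).obj S.X₁) := inferInstance
    exact Module.Finite.of_injective δ.hom hinj

end Groth.Agent.S6315
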