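import Groth.Statements.S6320
import Mathlib
import Groth.Agent.Lib.Helper22.LocLength

set_option autoImplicit false
universe u
open CAlg

namespace Groth.Agent.S6320

section helpers

section helpers
open Groth.Agent.Lib.helper22

/-- the simple case -/
lemma simple_case {A B : Type u} [CommRing A] [IsLocalRing A] [CommRing B] [Algebra A B]
    [Finite (MaximalSpectrum B)]
    (hover : ∀ n : MaximalSpectrum B,
      n.asIdeal.comap (algebraMap A B) = IsLocalRing.maximalIdeal A)
    (hfin : ∀ n : MaximalSpectrum B,
      Module.Finite (A ⧸ n.asIdeal.comap (algebraMap A B)) (B ⧸ n.asIdeal))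
    (Q : Type u) [AddCommGroup Q] [Module B Q] [Module A Q] [IsScalarTower A B Q]
    [IsSimpleModule B Q] :
    Module.length A Q = ∑ᶠ n : MaximalSpectrum B,
      (Module.finrank (A ⧸ n.asIdeal.comap (algebraMap A B)) (B ⧸ n.asIdeal) : ℕ∞) *
        Module.length (Localization.AtPrime n.asIdeal)
          (LocalizedModule n.asIdeal.primeCompl Q) := by
  classical
  obtain ⟨I, hI, ⟨e⟩⟩ := isSimpleModule_iff_quot_maximal.mp (inferInstance : IsSimpleModule B Q)
  let n₀ : MaximalSpectrum B := ⟨I, hI⟩
  have hann : Module.annihilator B Q = I := by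
    rw [e.annihilator_eq, Ideal.annihilator_quotient]
  rw [finsum_eq_single _ n₀]
  · rw [length_localized_simple_eq_one n₀.asIdeal Q hann, mul_one]
    -- length_A Q = finrank
    have h1 : Module.length A Q = Module.length A (B ⧸ I) :=
      (e.restrictScalars A).length_eq
    rw [h1]
    have hmax : (I.comap (algebraMap A B)).IsMaximal := by
      rw [show I.comap (algebraMap A B) = IsLocalRing.maximalIdeal A from hover n₀]
      infer_instance
    let _ : Field (A ⧸ I.comap (algebraMap A B)) := Ideal.Quotient.field _
    have hfin' : Module.Finite (A ⧸ I.comap (algebraMap A B)) (B ⧸ I) := hfin n₀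
    have h2 : Module.length A (B ⧸ I) = Module.length (A ⧸ I.comap (algebraMap A B)) (B ⧸ I) :=
      Module.length_eq_of_surjective Ideal.Quotient.mk_surjective
    rw [h2]
    exact Module.length_eq_finrank _ _
  · intro n hn
    have hne : Module.annihilator B Q ≠ n.asIdeal := by
      rw [hann]
      intro h
      apply hn
      ext1
      exact h.symm
    rw [length_localized_simple_eq_zero n.asIdeal Q hne, mul_zero]

lemma aux {A B : Type u} [CommRing A] [IsLocalRing A] [CommRing B] [Algebra A B]
    [Finite (MaximalSpectrum B)]
    (hover : ∀ n : MaximalSpectrum B,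
      n.asIdeal.comap (algebraMap A B) = IsLocalRing.maximalIdeal A)
    (hfin : ∀ n : MaximalSpectrum B,
      Module.Finite (A ⧸ n.asIdeal.comap (algebraMap A B)) (B ⧸ n.asIdeal))
    (M : Type u) [AddCommGroup M] [Module B M] (hM : IsFiniteLength B M) :
    ∀ [Module A M] [IsScalarTower A B M], Module.length A M = ∑ᶠ n : MaximalSpectrum B,
      (Module.finrank (A ⧸ n.asIdeal.comap (algebraMap A B)) (B ⧸ n.asIdeal) : ℕ∞) *
        Module.length (Localization.AtPrime n.asIdeal)
          (LocalizedModule n.asIdeal.primeCompl M) := by
  induction hM with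
  | of_subsingleton =>
    intro _ _
    rw [Module.length_eq_zero]
    symm
    apply finsum_eq_zero_of_forall_eq_zero
    intro n
    rw [length_localized_of_subsingleton, mul_zero]
  | @of_simple_quotient M _ _ N _ hN ih =>
    intro _ _
    have hexA : Function.Exact (N.subtype.restrictScalars A) (N.mkQ.restrictScalars A) := by
      intro x
      exact (LinearMap.exact_subtype_mkQ N) x
    rw [Module.length_eq_add_of_exact (N.subtype.restrictScalars A) (N.mkQ.restrictScalars A)
      N.injective_subtype N.mkQ_surjective hexA]
    rw [ih, simple_case hover hfin (M ⧸ N)]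
    rw [← finsum_add_distrib (Set.toFinite _) (Set.toFinite _)]
    apply finsum_congr
    intro n
    rw [length_localized_add_of_exact n.asIdeal.primeCompl N.subtype N.mkQ
      N.injective_subtype N.mkQ_surjective (LinearMap.exact_subtype_mkQ N), mul_add]

end helpers


end helpers

/-- Let A be a local ring with maximal ideal m, B a semi-local ring with maximal ideals m₁, …, mₙ and A
→ B a ring map such that each mᵢ lies over m with [κ(mᵢ) : κ(m)] finite. Then for every B-module M
of finite length, length_A(M) = Σᵢ [κ(mᵢ) : κ(m)] · length_{B_{mᵢ}}(M_{mᵢ}); in particular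
length_A(M) is finite. -/
theorem result {A B : Type u} [CommRing A] [IsLocalRing A] [CommRing B] [Algebra A B] [Finite (MaximalSpectrum B)] (hover : ∀ n : MaximalSpectrum B, n.asIdeal.comap (algebraMap A B) = IsLocalRing.maximalIdeal A) (hfin : ∀ n : MaximalSpectrum B, Module.Finite (A ⧸ n.asIdeal.comap (algebraMap A B)) (B ⧸ n.asIdeal)) (M : Type u) [AddCommGroup M] [Module B M] [Module A M] [IsScalarTower A B M] (hM : IsFiniteLength B M) : Module.length A M = ∑ᶠ n : MaximalSpectrum B, (Module.finrank (A ⧸ n.asIdeal.comap (algebraMap A B)) (B ⧸ n.asIdeal) : ℕ∞) * Module.length (Localization.AtPrime n.asIdeal) (LocalizedModule n.asIdeal.primeCompl M) := by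
  exact aux hover hfin M hM

end Groth.Agent.S6320
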