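import Groth.Statements.S6321
import Mathlib

set_option autoImplicit false
universe u
open CAlg

namespace Groth.Agent.S6321

/-- Let R be a ring and (Sᵢ, φᵢⱼ) a directed system of faithfully flat R-algebras whose transition maps
are R-algebra maps. Then S = colim Sᵢ is a faithfully flat R-algebra: for any index i the composite
R → Sᵢ → S is faithfully flat. -/
theorem result {R : Type u} [CommRing R] {ι : Type u} [Preorder ι] [Nonempty ι] [IsDirected ι (· ≤ ·)] (G : ι → Type u) [∀ i, CommRing (G i)] [∀ i, Algebra R (G i)] (f : ∀ i j, i ≤ j → G i →+* G j) [DirectedSystem G fun i j h => f i j h] (hcompat : ∀ i j (h : i ≤ j), (f i j h).comp (algebraMap R (G i)) = algebraMap R (G j)) (hff : ∀ i, (algebraMap R (G i)).FaithfullyFlat) (i : ι) : ((Ring.DirectLimit.of G (fun i j h => f i j h) i).comp (algebraMap R (G i))).FaithfullyFlat := by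
  classical
  let S := Ring.DirectLimit G (fun i j h => f i j h)
  let of' : ∀ j, G j →+* S := fun j => Ring.DirectLimit.of G (fun i j h => f i j h) j
  let ψ : R →+* S := (of' i).comp (algebraMap R (G i))
  have hof_f : ∀ (j k : ι) (h : j ≤ k) (x : G j), of' k (f j k h x) = of' j x := fun j k h x =>
    Ring.DirectLimit.of_f h x
  have hcompat' : ∀ (j k : ι) (h : j ≤ k) (r : R), f j k h (algebraMap R (G j) r) = algebraMap R (G k) r :=
    fun j k h r => RingHom.congr_fun (hcompat j k h) r
  have hψ : ∀ (j : ι) (r : R), of' j (algebraMap R (G j) r) = ψ r := by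
    intro j r
    obtain ⟨k, hik, hjk⟩ := exists_ge_ge i j
    change _ = of' i (algebraMap R (G i) r)
    rw [← hof_f j k hjk, ← hof_f i k hik, hcompat', hcompat']
  -- lifting finite families
  have lift_fin : ∀ (n : ℕ) (x : Fin n → S), ∃ (J : ι) (y : Fin n → G J), ∀ a, of' J (y a) = x a := by
    intro n x
    choose j y hy using fun a => Ring.DirectLimit.exists_of (x a)
    obtain ⟨J, hJ⟩ := Finset.exists_le (Finset.univ.image j)
    have hjJ : ∀ a, j a ≤ J := fun a => hJ _ (Finset.mem_image_of_mem _ (Finset.mem_univ a))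
    refine ⟨J, fun a => f (j a) J (hjJ a) (y a), fun a => ?_⟩
    rw [hof_f]; exact hy a
  let alg : Algebra R S := ψ.toAlgebra
  have hsmul : ∀ (r : R) (s : S), r • s = ψ r * s := fun r s => rfl
  change Module.FaithfullyFlat R S
  have hffK : ∀ K, Module.FaithfullyFlat R (G K) := fun K =>
    RingHom.faithfullyFlat_algebraMap_iff.mp (hff K)
  have hflatK : ∀ K, Module.Flat R (G K) := fun K => (hffK K).toFlat
  have hflat : Module.Flat R S := by
    rw [Module.Flat.iff_forall_isTrivialRelation]
    intro l a x hax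
    obtain ⟨J, y, hy⟩ := lift_fin l x
    have h0 : of' J (∑ t, algebraMap R (G J) (a t) * y t) = 0 := by
      rw [map_sum, ← hax]
      refine Finset.sum_congr rfl fun t _ => ?_
      rw [map_mul, hψ, hy, hsmul]
    obtain ⟨K, hJK, hK⟩ := Ring.DirectLimit.of.zero_exact h0
    have hrel : ∑ t, a t • f J K hJK (y t) = 0 := by
      rw [← hK, map_sum]
      refine Finset.sum_congr rfl fun t _ => ?_
      rw [map_mul, hcompat', Algebra.smul_def]
    have := hflatK K
    obtain ⟨k, b, z, hz1, hz2⟩ := Module.Flat.isTrivialRelation_of_sum_smul_eq_zero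
      (R := R) (M := G K) (f := a) (x := fun t => f J K hJK (y t)) hrel
    refine ⟨k, b, fun j => of' K (z j), fun t => ?_, hz2⟩
    have hz1' : f J K hJK (y t) = ∑ j, b t j • z j := hz1 t
    rw [← hy t, ← hof_f J K hJK, hz1', map_sum]
    refine Finset.sum_congr rfl fun j _ => ?_
    change _ = b t j • of' K (z j)
    rw [Algebra.smul_def, map_mul, hψ, hsmul]
  refine ⟨fun m hm htop => ?_⟩
  have h1 : (1 : S) ∈ Ideal.map (algebraMap R S) m := by
    have h2 : (1 : S) ∈ m • (⊤ : Submodule R S) := by rw [htop]; trivial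
    rw [Ideal.smul_top_eq_map] at h2
    exact h2
  rw [Ideal.map, Ideal.span, Submodule.mem_span_set'] at h1
  obtain ⟨n, c, g, hcg⟩ := h1
  choose r hr hrg using fun t => (g t).2
  obtain ⟨J, y, hy⟩ := lift_fin n c
  have h0 : of' J (∑ t, y t * algebraMap R (G J) (r t) - 1) = 0 := by
    rw [map_sub, map_one, map_sum, sub_eq_zero, ← hcg]
    refine Finset.sum_congr rfl fun t _ => ?_
    rw [map_mul, hψ, hy, ← hrg t]
    rfl
  obtain ⟨K, hJK, hK⟩ := Ring.DirectLimit.of.zero_exact h0
  rw [map_sub, map_one, sub_eq_zero, map_sum] at hK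
  have h3 : (1 : G K) ∈ m • (⊤ : Submodule R (G K)) := by
    rw [← hK]
    refine Submodule.sum_mem _ fun t _ => ?_
    rw [map_mul, hcompat', mul_comm, ← Algebra.smul_def]
    exact Submodule.smul_mem_smul (hr t) Submodule.mem_top
  have h4 : m • (⊤ : Submodule R (G K)) = ⊤ := by
    rw [eq_top_iff]
    intro s _
    have : s = s • (1 : G K) := by rw [smul_eq_mul, mul_one]
    rw [this]
    rw [Ideal.smul_top_eq_map] at h3 ⊢
    exact Ideal.mul_mem_left _ s h3
  exact (hffK K).submodule_ne_top hm h4

end Groth.Agent.S6321
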