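import Groth.Statements.S6322
import Mathlib
import Groth.Agent.Lib.Helper10.CompareRes

set_option autoImplicit false
universe u
open CategoryTheory
open CAlg

namespace Groth.Agent.S6322

set_option linter.style.haveILetI false

open CategoryTheory CategoryTheory.Limits Category HomologicalComplex ChainComplex

open Groth.Agent.Lib.helper10.CompareRes



theorem main (R : Type u) [CommRing R] (M N : ModuleCat.{u} R) (g : M ⟶ N)
    (F Nc : ChainComplex (ModuleCat.{u} R) ℕ) (hF : ∀ i, Module.Free R (F.X i))
    (εF : F ⟶ (ChainComplex.single₀ (ModuleCat.{u} R)).obj M)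
    (εN : Nc ⟶ (ChainComplex.single₀ (ModuleCat.{u} R)).obj N) [QuasiIso εN] :
    (∃ φ : F ⟶ Nc, φ ≫ εN = εF ≫ (ChainComplex.single₀ (ModuleCat.{u} R)).map g) ∧
    ∀ α β : F ⟶ Nc, α ≫ εN = εF ≫ (ChainComplex.single₀ (ModuleCat.{u} R)).map g →
      β ≫ εN = εF ≫ (ChainComplex.single₀ (ModuleCat.{u} R)).map g → Nonempty (Homotopy α β) := by
  haveI : ∀ n, Projective (F.X n) := fun n => by
    haveI := hF n
    have : Module.Projective R (F.X n) := inferInstance
    exact (IsProjective.iff_projective (R := R) (F.X n)).mp this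
  exact ⟨⟨lift g F Nc εF εN, lift_commutes g F Nc εF εN⟩,
    fun α β hα hβ => ⟨liftHomotopy g F Nc εF εN α β hα hβ⟩⟩



/-- Let R be a ring, M → N a map of R-modules, N• → N a resolution (a chain complex with a
quasi-isomorphism onto N placed in degree 0) and … → F₁ → F₀ → M a complex with every Fᵢ free (F• a
chain complex with an augmentation to M in degree 0, exactness not required). Then (1) there is a
map of complexes F• → N• compatible with M → N through the augmentations, and (2) any two such maps
are homotopic. -/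
theorem result (R : Type u) [CommRing R] (M N : ModuleCat.{u} R) (g : M ⟶ N) (F Nc : ChainComplex (ModuleCat.{u} R) ℕ) (hF : ∀ i, Module.Free R (F.X i)) (εF : F ⟶ (ChainComplex.single₀ (ModuleCat.{u} R)).obj M) (εN : Nc ⟶ (ChainComplex.single₀ (ModuleCat.{u} R)).obj N) [QuasiIso εN] : (∃ φ : F ⟶ Nc, φ ≫ εN = εF ≫ (ChainComplex.single₀ (ModuleCat.{u} R)).map g) ∧ ∀ α β : F ⟶ Nc, α ≫ εN = εF ≫ (ChainComplex.single₀ (ModuleCat.{u} R)).map g → β ≫ εN = εF ≫ (ChainComplex.single₀ (ModuleCat.{u} R)).map g → Nonempty (Homotopy α β) := by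
  exact main R M N g F Nc hF εF εN

end Groth.Agent.S6322
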