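import Groth.Statements.S6324
import Mathlib

set_option autoImplicit false
universe u
open CAlg

namespace Groth.Agent.S6324

open Polynomial

section
variable {R S : Type u} [CommRing R] [CommRing S] [Algebra R S] (I : Ideal R) (s : S)

theorem ypow (j : ℕ) : (C s * X : S[X])^j = C (s^j) * X^j := by rw [mul_pow, C_pow]

theorem fwd (h : W4stkalgebra1.IsIntegralOverIdeal I s) :
    ((Polynomial.mapRingHom (algebraMap R S)).comp
      (reesAlgebra I).val.toRingHom).IsIntegralElem (C s * X) := by
  obtain ⟨p, hmon, hcoef, hroot⟩ := h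
  obtain ⟨d, hd⟩ : ∃ d, d = p.natDegree := ⟨_, rfl⟩
  rw [← hd] at hcoef
  have hc : ∀ j, monomial (d - j) (p.coeff j) ∈ reesAlgebra I := by
    intro j
    rw [reesAlgebra.monomial_mem]
    rcases lt_trichotomy j d with hj | hj | hj
    · exact hcoef j hj
    · rw [hj, Nat.sub_self, pow_zero, Ideal.one_eq_top]; exact Submodule.mem_top
    · rw [Polynomial.coeff_eq_zero_of_natDegree_lt (by rw [← hd]; exact hj)]
      exact Ideal.zero_mem _
  refine ⟨X^d + ∑ i : Fin d, C (⟨monomial (d - i) (p.coeff i), hc i⟩ : ↥(reesAlgebra I))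
    * X^(i:ℕ), Polynomial.monic_X_pow_add (Polynomial.degree_sum_fin_lt _), ?_⟩
  rw [eval₂_add, eval₂_pow, eval₂_X, eval₂_finsetSum]
  have hterm : ∀ i : Fin d, eval₂ ((Polynomial.mapRingHom (algebraMap R S)).comp
      (reesAlgebra I).val.toRingHom) (C s * X)
      (C (⟨monomial (d - i) (p.coeff i), hc i⟩ : ↥(reesAlgebra I)) * X^(i:ℕ))
      = C (algebraMap R S (p.coeff i) * s^(i:ℕ)) * X^d := by
    intro i
    rw [eval₂_mul, eval₂_C, eval₂_pow, eval₂_X, ypow]
    show Polynomial.map (algebraMap R S) (monomial (d - i) (p.coeff i)) * _ = _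
    rw [Polynomial.map_monomial, ← C_mul_X_pow_eq_monomial, C_mul]
    have h1 : (X : S[X])^(d - i) * X^(i:ℕ) = X^d := by
      rw [← pow_add, Nat.sub_add_cancel i.2.le]
    calc C (algebraMap R S (p.coeff i)) * X^(d - i) * (C (s^(i:ℕ)) * X^(i:ℕ))
        = C (algebraMap R S (p.coeff i)) * C (s^(i:ℕ)) * (X^(d - i) * X^(i:ℕ)) := by ring
      _ = _ := by rw [h1]
  rw [Finset.sum_congr rfl (fun i _ => hterm i), ypow, ← Finset.sum_mul, ← add_mul, ← map_sum,
    ← C_add]
  have h2 : s^d + ∑ i : Fin d, algebraMap R S (p.coeff i) * s^(i:ℕ)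
      = eval₂ (algebraMap R S) s p := by
    rw [eval₂_eq_sum_range, ← hd, Finset.sum_range_succ, hd, hmon.coeff_natDegree, map_one,
      one_mul, ← hd, add_comm,
      Fin.sum_univ_eq_sum_range (fun i => algebraMap R S (p.coeff i) * s^i) d]
  rw [h2, hroot, C_0, zero_mul]

theorem bwd (h : ((Polynomial.mapRingHom (algebraMap R S)).comp
      (reesAlgebra I).val.toRingHom).IsIntegralElem (C s * X)) :
    W4stkalgebra1.IsIntegralOverIdeal I s := by
  obtain ⟨Q, hQmon, hQroot⟩ := h
  obtain ⟨d, hd⟩ : ∃ d, d = Q.natDegree := ⟨_, rfl⟩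
  obtain ⟨a, ha_def⟩ : ∃ a : ℕ → R, a = fun j => (Q.coeff j).1.coeff (d - j) := ⟨_, rfl⟩
  have ha : ∀ j, a j ∈ I^(d - j) := by
    intro j; rw [ha_def]; exact (Q.coeff j).2 (d - j)
  have hdeg : (∑ i : Fin d, C (a i) * X^(i:ℕ) : R[X]).degree < d :=
    Polynomial.degree_sum_fin_lt _
  have hpmon : (X^d + ∑ i : Fin d, C (a i) * X^(i:ℕ) : R[X]).Monic :=
    Polynomial.monic_X_pow_add hdeg
  refine ⟨X^d + ∑ i : Fin d, C (a i) * X^(i:ℕ), hpmon, ?_, ?_⟩
  · intro j hj
    rcases subsingleton_or_nontrivial R with hR | hR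
    · rw [Subsingleton.elim ((X^d + ∑ i : Fin d, C (a i) * X^(i:ℕ) : R[X]).coeff j) 0]
      exact Ideal.zero_mem _
    · have hpdeg : (X^d + ∑ i : Fin d, C (a i) * X^(i:ℕ) : R[X]).natDegree = d := by
        rw [natDegree_add_eq_left_of_degree_lt (by rw [degree_X_pow]; exact hdeg),
          natDegree_X_pow]
      rw [hpdeg] at hj ⊢
      have h1 : (X^d + ∑ i : Fin d, C (a i) * X^(i:ℕ) : R[X]).coeff j = a j := by
        rw [coeff_add, coeff_X_pow, if_neg (by omega), zero_add, finsetSum_coeff]
        simp only [coeff_C_mul_X_pow]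
        rw [Finset.sum_eq_single (⟨j, hj⟩ : Fin d)]
        · simp
        · intro b _ hb
          rw [if_neg]
          intro h
          apply hb
          exact Fin.ext h.symm
        · intro h; exact absurd (Finset.mem_univ _) h
      rw [h1]; exact ha j
  · have key : (eval₂ ((Polynomial.mapRingHom (algebraMap R S)).comp
        (reesAlgebra I).val.toRingHom) (C s * X) Q).coeff d
        = eval₂ (algebraMap R S) s (X^d + ∑ i : Fin d, C (a i) * X^(i:ℕ)) := by
      rw [eval₂_eq_sum_range, ← hd, finsetSum_coeff]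
      have hterm : ∀ j ∈ Finset.range (d+1),
          (((Polynomial.mapRingHom (algebraMap R S)).comp
            (reesAlgebra I).val.toRingHom) (Q.coeff j) * (C s * X)^j).coeff d
          = algebraMap R S (a j) * s^j := by
        intro j hj
        have hjd : j ≤ d := by have := Finset.mem_range.mp hj; omega
        rw [ypow, ← mul_assoc, coeff_mul_X_pow', if_pos hjd, coeff_mul_C]
        show (Polynomial.map (algebraMap R S) (Q.coeff j).1).coeff (d - j) * s^j = _
        rw [coeff_map, ha_def]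
      rw [Finset.sum_congr rfl hterm, Finset.sum_range_succ]
      have hlead : a d = 1 := by
        rw [ha_def]
        show (Q.coeff d).1.coeff (d - d) = 1
        rw [hd, hQmon.coeff_natDegree, Nat.sub_self]
        show (1 : R[X]).coeff 0 = 1
        simp
      rw [hlead, map_one, one_mul, eval₂_add, eval₂_pow, eval₂_X, eval₂_finsetSum, add_comm]
      congr 1
      rw [← Fin.sum_univ_eq_sum_range (fun i => algebraMap R S (a i) * s^i) d]
      apply Finset.sum_congr rfl
      intro i _
      rw [eval₂_mul, eval₂_C, eval₂_pow, eval₂_X]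
    rw [← key, hQroot, coeff_zero]

end



/-- Let R → S be a ring map, I ⊆ R an ideal and A = Σ Iⁿtⁿ ⊆ R[t] the Rees algebra of I. For s ∈ S,
being integral over I is equivalent to s·t ∈ S[t] being integral over A (via A ⊆ R[t] → S[t]). -/
theorem result {R S : Type u} [CommRing R] [CommRing S] [Algebra R S] (I : Ideal R) (s : S) : W4stkalgebra1.IsIntegralOverIdeal I s ↔ ((Polynomial.mapRingHom (algebraMap R S)).comp (reesAlgebra I).val.toRingHom).IsIntegralElem (Polynomial.C s * Polynomial.X) := by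
  exact ⟨fwd I s, bwd I s⟩


end Groth.Agent.S6324
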