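import Groth.Statements.S6325
import Mathlib
import Groth.Agent.S6324

set_option autoImplicit false
universe u
open CAlg

namespace Groth.Agent.S6325



/-- Let R → S be a ring map and I ⊆ R an ideal. The elements of S integral over I form an R-submodule of
S; moreover, the product s s' is integral over I for any s ∈ S integral over R and any s' ∈ S
integral over I. -/
theorem result {R S : Type u} [CommRing R] [CommRing S] [Algebra R S] (I : Ideal R) : (∃ N : Submodule R S, ∀ s : S, s ∈ N ↔ W4stkalgebra1.IsIntegralOverIdeal I s) ∧ (∀ s s' : S, IsIntegral R s → W4stkalgebra1.IsIntegralOverIdeal I s' → W4stkalgebra1.IsIntegralOverIdeal I (s * s')) := by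
  have key : ∀ s : S, W4stkalgebra1.IsIntegralOverIdeal I s ↔
      ((Polynomial.mapRingHom (algebraMap R S)).comp
        (reesAlgebra I).val.toRingHom).IsIntegralElem (Polynomial.C s * Polynomial.X) :=
    fun s => Groth.Agent.S6324.result I s
  have hφC : ∀ r : R, ((Polynomial.mapRingHom (algebraMap R S)).comp
      (reesAlgebra I).val.toRingHom) (algebraMap R ↥(reesAlgebra I) r)
      = Polynomial.C (algebraMap R S r) := by
    intro r
    show Polynomial.map (algebraMap R S) (Polynomial.C r) = _
    rw [Polynomial.map_C]
  constructor
  · refine ⟨{ carrier := {s | W4stkalgebra1.IsIntegralOverIdeal I s}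
              add_mem' := ?_
              zero_mem' := ?_
              smul_mem' := ?_ }, fun s => Iff.rfl⟩
    · intro a b ha hb
      show W4stkalgebra1.IsIntegralOverIdeal I (a + b)
      have ha' := (key a).mp ha
      have hb' := (key b).mp hb
      rw [key]
      have := RingHom.IsIntegralElem.add _ ha' hb'
      rwa [← add_mul, ← Polynomial.C_add] at this
    · show W4stkalgebra1.IsIntegralOverIdeal I 0
      rw [key, Polynomial.C_0, zero_mul]
      exact RingHom.isIntegralElem_zero _
    · intro r a ha
      show W4stkalgebra1.IsIntegralOverIdeal I (r • a)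
      have ha' := (key a).mp ha
      rw [key]
      have h1 := RingHom.isIntegralElem_map ((Polynomial.mapRingHom (algebraMap R S)).comp
        (reesAlgebra I).val.toRingHom) (x := algebraMap R ↥(reesAlgebra I) r)
      rw [hφC] at h1
      have := RingHom.IsIntegralElem.mul _ h1 ha'
      rwa [← mul_assoc, ← Polynomial.C_mul, ← Algebra.smul_def] at this
  · intro s s' hs hs'
    have hs'' := (key s').mp hs'
    rw [key]
    have h1 : ((Polynomial.mapRingHom (algebraMap R S)).comp
        (reesAlgebra I).val.toRingHom).IsIntegralElem (Polynomial.C s) := by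
      obtain ⟨p, hp, hps⟩ := hs
      refine ⟨p.map (algebraMap R ↥(reesAlgebra I)), hp.map _, ?_⟩
      rw [Polynomial.eval₂_map]
      have h2 : ((Polynomial.mapRingHom (algebraMap R S)).comp
          (reesAlgebra I).val.toRingHom).comp (algebraMap R ↥(reesAlgebra I))
          = (Polynomial.C : S →+* Polynomial S).comp (algebraMap R S) :=
        RingHom.ext fun r => hφC r
      rw [h2, ← Polynomial.hom_eval₂, hps, map_zero]
    have := RingHom.IsIntegralElem.mul _ h1 hs''
    rwa [← mul_assoc, ← Polynomial.C_mul] at this


end Groth.Agent.S6325
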