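import Groth.Statements.S6326
import Mathlib
import Groth.Agent.Lib.Helper10.Devissage

set_option autoImplicit false
universe u
open CategoryTheory CategoryTheory.Limits
open CAlg

namespace Groth.Agent.S6326

set_option linter.style.haveILetI false

open CategoryTheory CategoryTheory.Limits Groth.Agent.Lib.helper10.Devissage

variable {R : Type u} [CommRing R] (N : Type u) [AddCommGroup N] [Module R N]

/-- the diagram of quotients by finitely generated submodules -/
noncomputable def quotDiag : FGSub (A := R) N ⥤ ModuleCat.{u} R where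
  obj P := ModuleCat.of R (N ⧸ P.1)
  map {X Y} h := ModuleCat.ofHom (Submodule.factor (leOfHom h))
  map_id X := by
    apply ModuleCat.hom_ext
    apply Submodule.linearMap_qext
    rfl
  map_comp f g := by
    apply ModuleCat.hom_ext
    apply Submodule.linearMap_qext
    rfl

/-- the quotient map as a morphism -/
noncomputable def qmap (P : FGSub (A := R) N) : ModuleCat.of R N ⟶ (quotDiag (R := R) N).obj P :=
  ModuleCat.ofHom P.1.mkQ

theorem qmap_comp_map {P P' : FGSub (A := R) N} (f : P ⟶ P') :
    qmap N P ≫ (quotDiag (R := R) N).map f = qmap N P' := by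
  apply ModuleCat.hom_ext
  apply LinearMap.ext
  intro x
  rfl

theorem qmap_apply_eq_zero (P : FGSub (A := R) N) (x : N) (hx : x ∈ P.1) :
    (qmap N P).hom x = 0 := by
  change P.1.mkQ x = 0
  rw [Submodule.mkQ_apply, Submodule.Quotient.mk_eq_zero]
  exact hx

theorem qmap_comp_ι (P : FGSub (A := R) N) :
    qmap N P ≫ colimit.ι (quotDiag (R := R) N) P = 0 := by
  apply ModuleCat.hom_ext
  apply LinearMap.ext
  intro x
  -- a bigger submodule containing x
  let P' : FGSub (A := R) N := ⟨P.1 ⊔ Submodule.span R {x}, P.2.sup (Submodule.fg_span_singleton x)⟩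
  have hle : P ≤ P' := show P.1 ≤ P.1 ⊔ Submodule.span R {x} from le_sup_left
  have h1 : qmap N P ≫ colimit.ι (quotDiag (R := R) N) P =
      qmap N P' ≫ colimit.ι (quotDiag (R := R) N) P' := by
    rw [← colimit.w (quotDiag (R := R) N) (homOfLE hle), ← Category.assoc, qmap_comp_map]
  rw [h1, ModuleCat.hom_comp, LinearMap.comp_apply, qmap_apply_eq_zero N P' x
    (Submodule.mem_sup_right (Submodule.mem_span_singleton_self x)), map_zero]
  rfl

theorem main (R : Type u) [CommRing R] (N : Type u) [AddCommGroup N] [Module R N]
    (h : ∀ (J : Type u) [SmallCategory J] [IsFiltered J] (F : J ⥤ ModuleCat.{u} R),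
      Function.Injective (colimit.post F (coyoneda.obj (Opposite.op (ModuleCat.of R N))))) :
    Module.Finite R N := by
  have hinj := h (FGSub (A := R) N) (quotDiag (R := R) N)
  let G := coyoneda.obj (Opposite.op (ModuleCat.of R N))
  let P₀ : FGSub (A := R) N := ⟨⊥, Submodule.fg_bot⟩
  let a : colimit (quotDiag (R := R) N ⋙ G) := colimit.ι (quotDiag (R := R) N ⋙ G) P₀ (qmap N P₀)
  let b : colimit (quotDiag (R := R) N ⋙ G) := colimit.ι (quotDiag (R := R) N ⋙ G) P₀
    (0 : ModuleCat.of R N ⟶ (quotDiag (R := R) N).obj P₀)
  have hpost : ∀ (f : ModuleCat.of R N ⟶ (quotDiag (R := R) N).obj P₀),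
      colimit.post (quotDiag (R := R) N) G (colimit.ι (quotDiag (R := R) N ⋙ G) P₀ f) =
        f ≫ colimit.ι (quotDiag (R := R) N) P₀ := by
    intro f
    have := ConcreteCategory.congr_hom (colimit.ι_post (quotDiag (R := R) N) G P₀) f
    exact this
  have hab : a = b := by
    apply hinj
    rw [hpost, hpost, qmap_comp_ι, zero_comp]
  obtain ⟨k, f, g, hfg⟩ := (Types.FilteredColimit.colimit_eq_iff (quotDiag (R := R) N ⋙ G)).1 hab
  have h3 : qmap N P₀ ≫ (quotDiag (R := R) N).map f = 0 := by
    have : qmap N P₀ ≫ (quotDiag (R := R) N).map f = 0 ≫ (quotDiag (R := R) N).map g := hfg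
    rw [this, zero_comp]
  -- hence `k = ⊤`
  have htop : k.1 = ⊤ := by
    rw [eq_top_iff]
    intro x _
    have := ConcreteCategory.congr_hom h3 x
    change Submodule.factor (leOfHom f) ((⊥ : Submodule R N).mkQ x) = 0 at this
    rw [Submodule.factor_mk, Submodule.mkQ_apply, Submodule.Quotient.mk_eq_zero] at this
    exact this
  rw [Module.finite_def, ← htop]
  exact k.2



/-- Let R be a ring and N an R-module such that whenever M is the colimit of a filtered diagram (Mᵢ) of
R-modules (indexed by a filtered category in the same universe), the comparison map colim Hom_R(N,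
Mᵢ) → Hom_R(N, M) is injective. Then N is finitely generated. (The implication from finite
generation back to this injectivity also holds; only the characterizing direction is stated here.) -/
theorem result (R : Type u) [CommRing R] (N : Type u) [AddCommGroup N] [Module R N] (h : ∀ (J : Type u) [SmallCategory J] [IsFiltered J] (F : J ⥤ ModuleCat.{u} R), Function.Injective (colimit.post F (coyoneda.obj (Opposite.op (ModuleCat.of R N))))) : Module.Finite R N := by
  exact main R N h

end Groth.Agent.S6326
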