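import Groth.Statements.S6327
import Mathlib
import Groth.Agent.S6326

set_option autoImplicit false
universe u
open CategoryTheory CategoryTheory.Limits
open CAlg

namespace Groth.Agent.S6327

set_option linter.style.haveILetI false

open CategoryTheory CategoryTheory.Limits

variable {R : Type u} [CommRing R] {N : Type u} [AddCommGroup N] [Module R N]
variable {n : ℕ} (p : (Fin n → R) →ₗ[R] N)

/-- finitely generated submodules of the kernel -/
abbrev JJ : Type u := {L : Submodule R (Fin n → R) // L.FG ∧ L ≤ LinearMap.ker p}

instance : Nonempty (JJ p) := ⟨⟨⊥, Submodule.fg_bot, bot_le⟩⟩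

instance : IsDirected (JJ p) (· ≤ ·) :=
  ⟨fun a b => ⟨⟨a.1 ⊔ b.1, a.2.1.sup b.2.1, sup_le a.2.2 b.2.2⟩,
    show a.1 ≤ a.1 ⊔ b.1 from le_sup_left, show b.1 ≤ a.1 ⊔ b.1 from le_sup_right⟩⟩

instance : IsFiltered (JJ p) := isFiltered_of_directed_le_nonempty _

/-- the diagram of finitely presented quotients -/
noncomputable def D : JJ p ⥤ ModuleCat.{u} R where
  obj L := ModuleCat.of R ((Fin n → R) ⧸ L.1)
  map {X Y} h := ModuleCat.ofHom (Submodule.factor (leOfHom h))
  map_id X := by
    apply ModuleCat.hom_ext
    apply Submodule.linearMap_qext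
    rfl
  map_comp f g := by
    apply ModuleCat.hom_ext
    apply Submodule.linearMap_qext
    rfl

/-- the legs of the cocone -/
noncomputable def leg (L : JJ p) : (D p).obj L ⟶ ModuleCat.of R N :=
  ModuleCat.ofHom (L.1.liftQ p L.2.2)

/-- the cocone -/
noncomputable def cocone : Cocone (D p) where
  pt := ModuleCat.of R N
  ι := { app := leg p
         naturality := fun X Y f => by
          apply ModuleCat.hom_ext
          apply Submodule.linearMap_qext
          rfl }

variable {p} in
/-- the cocone is a colimit -/
noncomputable def isColimit (hp : Function.Surjective p) : IsColimit (cocone p) := by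
  apply isColimitOfReflects (forget (ModuleCat.{u} R))
  refine Types.FilteredColimit.isColimitOf' _ _ ?_ ?_
  · intro x
    change N at x
    obtain ⟨v, rfl⟩ := hp x
    exact ⟨⟨⊥, Submodule.fg_bot, bot_le⟩, Submodule.Quotient.mk v, rfl⟩
  · intro i a b hab
    change (Fin n → R) ⧸ i.1 at a b
    obtain ⟨v, rfl⟩ := Submodule.Quotient.mk_surjective _ a
    obtain ⟨w, rfl⟩ := Submodule.Quotient.mk_surjective _ b
    have hvw : p v = p w := hab
    have hmem : v - w ∈ LinearMap.ker p := by
      rw [LinearMap.mem_ker, map_sub, hvw, sub_self]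
    let k : JJ p := ⟨i.1 ⊔ Submodule.span R {v - w},
      i.2.1.sup (Submodule.fg_span_singleton _),
      sup_le i.2.2 ((Submodule.span_singleton_le_iff_mem _ _).2 hmem)⟩
    have hik : i ≤ k := show i.1 ≤ i.1 ⊔ Submodule.span R {v - w} from le_sup_left
    refine ⟨k, homOfLE hik, ?_⟩
    change Submodule.factor hik (Submodule.Quotient.mk v) = Submodule.factor hik (Submodule.Quotient.mk w)
    change (Submodule.Quotient.mk v : (Fin n → R) ⧸ k.1) = Submodule.Quotient.mk w
    rw [Submodule.Quotient.eq]
    exact Submodule.mem_sup_right (Submodule.mem_span_singleton_self _)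

theorem main (R : Type u) [CommRing R] (N : Type u) [AddCommGroup N] [Module R N]
    (h : ∀ (J : Type u) [SmallCategory J] [IsFiltered J] (F : J ⥤ ModuleCat.{u} R),
      Function.Bijective (colimit.post F (coyoneda.obj (Opposite.op (ModuleCat.of R N))))) :
    Module.FinitePresentation R N := by
  haveI : Module.Finite R N := Groth.Agent.S6326.result R N (fun J _ _ F => (h J F).1)
  obtain ⟨n, p, hp⟩ := Module.Finite.exists_fin' R N
  have hsurj := (h (JJ p) (D p)).2
  let G := coyoneda.obj (Opposite.op (ModuleCat.of R N))
  let e : colimit (D p) ≅ ModuleCat.of R N := colimit.isoColimitCocone ⟨cocone p, isColimit hp⟩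
  obtain ⟨a, ha⟩ := hsurj e.inv
  obtain ⟨i, s, rfl⟩ := Types.jointly_surjective' a
  change ModuleCat.of R N ⟶ (D p).obj i at s
  have hpost : colimit.post (D p) G (colimit.ι (D p ⋙ G) i s) = s ≫ colimit.ι (D p) i :=
    ConcreteCategory.congr_hom (colimit.ι_post (D p) G i) s
  have h1 : s ≫ colimit.ι (D p) i = e.inv := by rw [← hpost]; exact ha
  have h2 : colimit.ι (D p) i ≫ e.hom = leg p i :=
    colimit.isoColimitCocone_ι_hom ⟨cocone p, isColimit hp⟩ i
  have hs : s ≫ leg p i = 𝟙 _ := by
    rw [← h2, ← Category.assoc, h1, e.inv_hom_id]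
  -- algebra
  let sl : N →ₗ[R] (Fin n → R) ⧸ i.1 := s.hom
  have hs' : ∀ x : N, (i.1.liftQ p i.2.2) (sl x) = x := fun x =>
    ConcreteCategory.congr_hom hs x
  haveI : Module.FinitePresentation R ((Fin n → R) ⧸ i.1) :=
    Module.finitePresentation_of_surjective i.1.mkQ (Submodule.mkQ_surjective _)
      (by rw [Submodule.ker_mkQ]; exact i.2.1)
  refine Module.finitePresentation_of_surjective (i.1.liftQ p i.2.2) ?_ ?_
  · intro x
    exact ⟨sl x, hs' x⟩
  · have : LinearMap.ker (i.1.liftQ p i.2.2) =
        LinearMap.range (LinearMap.id - sl ∘ₗ (i.1.liftQ p i.2.2)) := by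
      ext y
      constructor
      · intro hy
        refine ⟨y, ?_⟩
        rw [LinearMap.sub_apply, LinearMap.comp_apply, LinearMap.mem_ker.1 hy, map_zero]
        simp
      · rintro ⟨z, rfl⟩
        rw [LinearMap.mem_ker, LinearMap.sub_apply, LinearMap.comp_apply, map_sub, hs']
        simp
    rw [this]
    exact Submodule.fg_range _



/-- Let R be a ring and N an R-module such that whenever M is the colimit of a filtered diagram (Mᵢ) of
R-modules (indexed by a filtered category in the same universe), the comparison map colim Hom_R(N,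
Mᵢ) → Hom_R(N, M) is bijective. Then N is finitely presented. (The implication from finite
presentation back to this bijectivity also holds; only the characterizing direction is stated here.) -/
theorem result (R : Type u) [CommRing R] (N : Type u) [AddCommGroup N] [Module R N] (h : ∀ (J : Type u) [SmallCategory J] [IsFiltered J] (F : J ⥤ ModuleCat.{u} R), Function.Bijective (colimit.post F (coyoneda.obj (Opposite.op (ModuleCat.of R N))))) : Module.FinitePresentation R N := by
  exact main R N h

end Groth.Agent.S6327
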