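import Groth.Statements.S6329
import Mathlib
import Groth.Agent.Lib.Helper22.LocLength

set_option autoImplicit false
universe u
open CAlg

namespace Groth.Agent.S6329

section helpers

section helpers
open Groth.Agent.Lib.helper22

lemma step {R : Type u} [CommRing R] {M : Type u} [AddCommGroup M] [Module R M]
    (m : Ideal R) [m.IsMaximal] {A B : Submodule R M} (h : A ⋖ B) :
    Module.length (Localization.AtPrime m) (LocalizedModule m.primeCompl B) =
      Module.length (Localization.AtPrime m) (LocalizedModule m.primeCompl A) +
        (if A.colon (B : Set M) = m then 1 else 0) := by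
  have hAB : A ≤ B := h.le
  have hsimple : IsSimpleModule R (B ⧸ Submodule.comap B.subtype A) :=
    (covBy_iff_quot_is_simple hAB).mp h
  have hann : Module.annihilator R (B ⧸ Submodule.comap B.subtype A) = A.colon (B : Set M) := by
    rw [Submodule.annihilator_quotient]
    ext r
    simp only [Submodule.mem_colon, Set.mem_univ, forall_true_left, Submodule.mem_comap,
      Submodule.subtype_apply, SetLike.mem_coe]
    constructor
    · intro hr b hb
      exact hr ⟨b, hb⟩
    · intro hr b
      exact hr b.1 b.2
  have hex : Function.Exact (Submodule.inclusion hAB) (Submodule.comap B.subtype A).mkQ := by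
    rw [LinearMap.exact_iff, Submodule.ker_mkQ, Submodule.range_inclusion]
  rw [length_localized_add_of_exact m.primeCompl (Submodule.inclusion hAB)
    (Submodule.comap B.subtype A).mkQ (Submodule.inclusion_injective hAB)
    (Submodule.mkQ_surjective _) hex]
  congr 1
  split_ifs with hc
  · exact length_localized_simple_eq_one m _ (hann.trans hc)
  · exact length_localized_simple_eq_zero m _ (fun h' => hc (hann.symm.trans h'))

end helpers


end helpers

/-- Let R be a ring, M an R-module and 0 = M₀ ⊂ M₁ ⊂ … ⊂ Mₙ = M a maximal chain of submodules (a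
composition series; each Mᵢ/Mᵢ₋₁ is simple, of the form R/mᵢ with mᵢ = (Mᵢ₋₁ : Mᵢ) maximal). Then
for every maximal ideal m of R the number of indices i with mᵢ = m equals length_{R_m}(M_m). -/
theorem result {R : Type u} [CommRing R] (M : Type u) [AddCommGroup M] [Module R M] (s : CompositionSeries (Submodule R M)) (h0 : s.head = ⊥) (h1 : s.last = ⊤) (m : Ideal R) [m.IsMaximal] : ((Finset.univ.filter fun i : Fin s.length => (s i.castSucc).colon (s i.succ : Set M) = m).card : ℕ∞) = Module.length (Localization.AtPrime m) (LocalizedModule m.primeCompl M) := by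
  classical
  let L : Submodule R M → ℕ∞ := fun N =>
    Module.length (Localization.AtPrime m) (LocalizedModule m.primeCompl N)
  let P : Fin s.length → Prop := fun j => (s j.castSucc).colon (s j.succ : Set M) = m
  have key : ∀ (i : ℕ) (hi : i ≤ s.length), L (s ⟨i, Nat.lt_succ_of_le hi⟩) =
      ((Finset.univ.filter fun j : Fin s.length => (j : ℕ) < i ∧ P j).card : ℕ∞) := by
    intro i
    induction i with
    | zero =>
      intro hi
      have hs0 : s ⟨0, Nat.lt_succ_of_le hi⟩ = ⊥ := h0
      simp only [Nat.not_lt_zero, false_and, Finset.filter_false, Finset.card_empty,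
        Nat.cast_zero]
      show Module.length _ (LocalizedModule _ ↥(s ⟨0, _⟩)) = 0
      rw [hs0]
      exact Groth.Agent.Lib.helper22.length_localized_of_subsingleton _
    | succ i ih =>
      intro hi
      have hi' : i ≤ s.length := Nat.le_of_succ_le hi
      have hlt : i < s.length := hi
      have hcov : s ⟨i, Nat.lt_succ_of_le hi'⟩ ⋖ s ⟨i + 1, Nat.lt_succ_of_le hi⟩ :=
        s.step ⟨i, hlt⟩
      show Module.length _ (LocalizedModule _ ↥(s ⟨i + 1, _⟩)) = _
      rw [step m hcov]
      have ih' := ih hi'
      show L (s ⟨i, _⟩) + _ = _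
      rw [ih']
      have hfilt : (Finset.univ.filter fun j : Fin s.length => (j : ℕ) < i + 1 ∧ P j) =
          (Finset.univ.filter fun j : Fin s.length => (j : ℕ) < i ∧ P j) ∪
            (if P ⟨i, hlt⟩ then {⟨i, hlt⟩} else ∅) := by
        ext j
        simp only [Finset.mem_union, Finset.mem_filter, Finset.mem_univ, true_and]
        constructor
        · rintro ⟨hj, hPj⟩
          rcases Nat.lt_succ_iff_lt_or_eq.mp hj with hlt' | heq
          · left; exact ⟨hlt', hPj⟩
          · right
            have hje : j = ⟨i, hlt⟩ := Fin.ext heq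
            rw [if_pos (hje ▸ hPj)]
            exact Finset.mem_singleton.mpr hje
        · rintro (⟨hj, hPj⟩ | hj)
          · exact ⟨Nat.lt_succ_of_lt hj, hPj⟩
          · split_ifs at hj with hP
            · rw [Finset.mem_singleton] at hj
              subst hj
              exact ⟨Nat.lt_succ_self _, hP⟩
            · simp at hj
      have hdisj : Disjoint (Finset.univ.filter fun j : Fin s.length => (j : ℕ) < i ∧ P j)
          (if P ⟨i, hlt⟩ then {⟨i, hlt⟩} else ∅) := by
        split_ifs with hP
        · rw [Finset.disjoint_singleton_right]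
          simp
        · exact Finset.disjoint_empty_right _
      rw [hfilt, Finset.card_union_of_disjoint hdisj, Nat.cast_add]
      congr 1
      show (if (s ⟨i, _⟩).colon (s ⟨i + 1, _⟩ : Set M) = m then (1 : ℕ∞) else 0) = _
      have hPi : P ⟨i, hlt⟩ ↔ (s ⟨i, Nat.lt_succ_of_le hi'⟩).colon
          (s ⟨i + 1, Nat.lt_succ_of_le hi⟩ : Set M) = m := Iff.rfl
      by_cases hP : P ⟨i, hlt⟩
      · rw [if_pos (hPi.mp hP), if_pos hP]; simp
      · rw [if_neg (fun h' => hP (hPi.mpr h')), if_neg hP]; simp
  have hfin := key s.length le_rfl
  have hlast : s ⟨s.length, Nat.lt_succ_of_le le_rfl⟩ = ⊤ := h1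
  have hcard : (Finset.univ.filter fun j : Fin s.length => (j : ℕ) < s.length ∧ P j) =
      Finset.univ.filter fun i : Fin s.length => (s i.castSucc).colon (s i.succ : Set M) = m := by
    ext j
    simp [P]
  rw [← hcard, ← hfin]
  show Module.length _ (LocalizedModule _ ↥(s ⟨s.length, _⟩)) = _
  rw [hlast]
  exact Groth.Agent.Lib.helper22.length_localized_of_equiv m.primeCompl Submodule.topEquiv

end Groth.Agent.S6329
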