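import Groth.Statements.S6330
import Mathlib
import Groth.Agent.S6308

set_option autoImplicit false
universe u
open scoped TensorProduct
open CAlg

namespace Groth.Agent.S6330

theorem ker_part {R : Type u} [CommRing R] (S : Submonoid R) {P₁ P₂ : Type u}
    [AddCommGroup P₁] [Module R P₁] [AddCommGroup P₂] [Module R P₂] [Module.Finite R P₁]
    [Module.Projective R P₁] [Module.Projective R P₂] (φ : P₁ →ₗ[R] P₂)
    (hsurj : Function.Surjective (LocalizedModule.map S φ)) :
    Module.Finite (Localization S) (LocalizedModule S (LinearMap.ker φ)) ∧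
      Module.Projective (Localization S) (LocalizedModule S (LinearMap.ker φ)) := by
  obtain ⟨ι, hι⟩ : ∃ ι, ι = LocalizedModule.map S (LinearMap.ker φ).subtype := ⟨_, rfl⟩
  obtain ⟨ψ, hψ⟩ : ∃ ψ, ψ = LocalizedModule.map S φ := ⟨_, rfl⟩
  have hinj : Function.Injective ι := by
    rw [hι]
    exact LocalizedModule.map_injective S _ (Submodule.injective_subtype _)
  have hcomp : ∀ x, ψ (ι x) = 0 := by
    intro x
    induction x using LocalizedModule.induction_on with
    | h k s =>
      rw [hι, hψ, LocalizedModule.map_mk, LocalizedModule.map_mk]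
      have h0 : φ ((LinearMap.ker φ).subtype k) = 0 := k.2
      rw [h0, LocalizedModule.zero_mk]
  have hker : ∀ y, ψ y = 0 → y ∈ LinearMap.range ι := by
    intro y
    induction y using LocalizedModule.induction_on with
    | h m s =>
      intro hy
      rw [hψ, LocalizedModule.map_mk, ← LocalizedModule.zero_mk s, LocalizedModule.mk_eq] at hy
      obtain ⟨u, hu⟩ := hy
      rw [smul_zero, smul_zero] at hu
      have hk : ((u * s : S) • m) ∈ LinearMap.ker φ := by
        rw [LinearMap.mem_ker, Submonoid.smul_def, map_smul, Submonoid.coe_mul, mul_smul]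
        rw [Submonoid.smul_def, Submonoid.smul_def] at hu
        exact hu
      refine ⟨LocalizedModule.mk ⟨(u * s : S) • m, hk⟩ ((u * s) * s), ?_⟩
      rw [hι, LocalizedModule.map_mk]
      exact LocalizedModule.mk_cancel_common_left (u * s) s m
  obtain ⟨σ, hσ⟩ := Module.projective_lifting_property ψ LinearMap.id
    (by rw [hψ]; exact hsurj)
  have hσ' : ∀ y, ψ (σ y) = y := fun y => LinearMap.congr_fun hσ y
  obtain ⟨e, he⟩ : ∃ e : LocalizedModule S P₁ →ₗ[Localization S] LocalizedModule S P₁,
      e = LinearMap.id - σ ∘ₗ ψ := ⟨_, rfl⟩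
  have hev : ∀ x, e x = x - σ (ψ x) := by
    intro x
    rw [he]
    rfl
  have hemem : ∀ x, e x ∈ LinearMap.range ι := by
    intro x
    apply hker
    rw [hev, map_sub, hσ', sub_self]
  obtain ⟨ρ, hρ⟩ : ∃ ρ, ρ = (LinearEquiv.ofInjective ι hinj).symm.toLinearMap ∘ₗ
      (e.codRestrict (LinearMap.range ι) hemem) := ⟨_, rfl⟩
  have hρι : ρ ∘ₗ ι = LinearMap.id := by
    apply LinearMap.ext
    intro k
    rw [LinearMap.comp_apply, LinearMap.id_apply, hρ, LinearMap.comp_apply]
    have h1 : e.codRestrict (LinearMap.range ι) hemem (ι k) =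
        LinearEquiv.ofInjective ι hinj k := by
      apply Subtype.ext
      rw [LinearMap.codRestrict_apply, hev, hcomp, map_zero, sub_zero]
      rfl
    rw [h1]
    exact (LinearEquiv.ofInjective ι hinj).symm_apply_apply k
  refine ⟨?_, Module.Projective.of_split ι ρ hρι⟩
  apply Module.Finite.of_surjective ρ
  intro k
  exact ⟨ι k, LinearMap.congr_fun hρι k⟩


/-- Let R be a ring and φ : P₁ → P₂ a map of finite projective R-modules. The set W of primes p of R
such that φ ⊗ κ(p) is surjective is open, and for every f ∈ R with D(f) ⊆ W the map (P₁)_f → (P₂)_f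
is surjective and Ker(φ)_f is a finite projective module over R_f. -/
theorem result {R : Type u} [CommRing R] {P₁ P₂ : Type u} [AddCommGroup P₁] [Module R P₁] [AddCommGroup P₂] [Module R P₂] [Module.Finite R P₁] [Module.Projective R P₁] [Module.Finite R P₂] [Module.Projective R P₂] (φ : P₁ →ₗ[R] P₂) : IsOpen {p : PrimeSpectrum R | Function.Surjective (φ.lTensor p.asIdeal.ResidueField)} ∧ ∀ f : R, (↑(PrimeSpectrum.basicOpen f) : Set (PrimeSpectrum R)) ⊆ {p : PrimeSpectrum R | Function.Surjective (φ.lTensor p.asIdeal.ResidueField)} → Function.Surjective (LocalizedModule.map (Submonoid.powers f) φ) ∧ Module.Finite (Localization.Away f) (LocalizedModule (Submonoid.powers f) (LinearMap.ker φ)) ∧ Module.Projective (Localization.Away f) (LocalizedModule (Submonoid.powers f) (LinearMap.ker φ)) := by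
  obtain ⟨h1, h2, h3⟩ := Groth.Agent.S6308.result φ
  have hset : {p : PrimeSpectrum R |
      Function.Surjective (φ.lTensor p.asIdeal.ResidueField)} =
      {p : PrimeSpectrum R |
        Function.Surjective (LocalizedModule.map p.asIdeal.primeCompl φ)} := by
    ext p
    exact (h1 p).symm
  rw [hset]
  refine ⟨h2, fun f hf => ?_⟩
  have hs := h3 f hf
  exact ⟨hs, ker_part (Submonoid.powers f) φ hs⟩


end Groth.Agent.S6330
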