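import Groth.Statements.S6331
import Mathlib
-- import your own Groth.Agent.* helpers here

set_option autoImplicit false
universe u
open CAlg

namespace Groth.Agent.S6331

/-- Let R be a ring, I ⊆ R an ideal all of whose elements are nilpotent, and n ≥ 1 an integer whose
image in R/I is invertible. Then (1) raising to the n-th power is a bijection of the subset 1 + I of
R onto itself: for every y ∈ I there is exactly one x ∈ I with (1 + x)ⁿ = 1 + y; (2) a unit u of R
has an n-th root in R exactly when the residue class of u has an n-th root in R/I. -/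
theorem result {R : Type u} [CommRing R] (I : Ideal R) (hI : ∀ x ∈ I, IsNilpotent x) (n : ℕ) (hn : 1 ≤ n) (hinv : IsUnit ((n : ℕ) : R ⧸ I)) : (∀ y ∈ I, ∃! x : R, x ∈ I ∧ (1 + x) ^ n = 1 + y) ∧ (∀ u : Rˣ, (∃ v : R, v ^ n = (u : R)) ↔ ∃ w : R ⧸ I, w ^ n = Ideal.Quotient.mk I (u : R)) := by
  have hnR : IsUnit (n : R) := by
    obtain ⟨m', hm'⟩ := hinv.exists_right_inv
    obtain ⟨m, rfl⟩ := Ideal.Quotient.mk_surjective m'
    have h1 : (n : R) * m - 1 ∈ I := by
      rw [← Ideal.Quotient.eq_zero_iff_mem, map_sub, map_mul, map_natCast, map_one, hm', sub_self]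
    have h2 : IsUnit ((n : R) * m) := by
      have := (hI _ h1).isUnit_add_one
      simpa using this
    exact isUnit_of_mul_isUnit_left h2
  refine ⟨?_, ?_⟩
  · intro y hy
    let P : Polynomial R := Polynomial.X ^ n - Polynomial.C (1 + y)
    have hP1 : Polynomial.aeval (1 : R) P = -y := by simp [P]
    have hP1nil : IsNilpotent (Polynomial.aeval (1 : R) P) := by
      rw [hP1]; exact (hI y hy).neg
    have hP' : Polynomial.aeval (1 : R) (Polynomial.derivative P) = n := by
      simp [P, Polynomial.derivative_X_pow]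
    have hP'u : IsUnit (Polynomial.aeval (1 : R) (Polynomial.derivative P)) := by
      rw [hP']; exact hnR
    obtain ⟨r, ⟨hr1, hr2⟩, hruniq⟩ :=
      Polynomial.existsUnique_nilpotent_sub_and_aeval_eq_zero hP1nil hP'u
    have hr2' : r ^ n = 1 + y := by simpa [P, sub_eq_zero] using hr2
    refine ⟨r - 1, ⟨?_, by rw [add_sub_cancel]; exact hr2'⟩, ?_⟩
    · obtain ⟨k, hk⟩ := Polynomial.binomExpansion (Polynomial.X ^ n : Polynomial R) 1 (r - 1)
      simp only [add_sub_cancel, Polynomial.eval_pow, Polynomial.eval_X, one_pow,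
        Polynomial.derivative_X_pow, Polynomial.eval_mul, Polynomial.eval_C, mul_one] at hk
      have he : IsNilpotent (r - 1) := by
        have := hr1.neg; rwa [neg_sub] at this
      have hu : IsUnit ((n : R) + k * (r - 1)) :=
        IsNilpotent.isUnit_add_left_of_commute ((Commute.all _ _).isNilpotent_mul_left he)
          hnR (Commute.all _ _)
      have hy' : (r - 1) * ((n : R) + k * (r - 1)) = y := by
        have : r ^ n = 1 + y := hr2'
        rw [hk] at this
        linear_combination this
      obtain ⟨v, hv⟩ := hu.exists_right_inv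
      have : r - 1 = y * v := by
        rw [← hy', mul_assoc, hv, mul_one]
      rw [this]
      exact I.mul_mem_right _ hy
    · rintro x ⟨hxI, hx⟩
      have := hruniq (1 + x) ⟨by
        have : (1 : R) - (1 + x) = -x := by ring
        rw [this]; exact (hI x hxI).neg, by simp [P, hx]⟩
      rw [← this]; ring
  · intro u
    constructor
    · rintro ⟨v, hv⟩
      exact ⟨Ideal.Quotient.mk I v, by rw [← map_pow, hv]⟩
    · rintro ⟨w, hw⟩
      obtain ⟨v₀, rfl⟩ := Ideal.Quotient.mk_surjective w
      have h1 : v₀ ^ n - (u : R) ∈ I := by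
        rw [← Ideal.Quotient.eq_zero_iff_mem, map_sub, map_pow, hw, sub_self]
      let P : Polynomial R := Polynomial.X ^ n - Polynomial.C (u : R)
      have hPv : Polynomial.aeval v₀ P = v₀ ^ n - (u : R) := by simp [P]
      have hPnil : IsNilpotent (Polynomial.aeval v₀ P) := by rw [hPv]; exact hI _ h1
      have hv₀n : IsUnit (v₀ ^ n) := by
        have h3 : IsUnit ((u : R) + (v₀ ^ n - (u : R))) :=
          IsNilpotent.isUnit_add_left_of_commute (hI _ h1) u.isUnit (Commute.all _ _)
        have h4 : (u : R) + (v₀ ^ n - (u : R)) = v₀ ^ n := by ring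
        rwa [h4] at h3
      have hv₀ : IsUnit v₀ := (isUnit_pow_iff (by omega)).mp hv₀n
      have hP' : Polynomial.aeval v₀ (Polynomial.derivative P) = (n : R) * v₀ ^ (n - 1) := by
        simp [P, Polynomial.derivative_X_pow]
      have hP'u : IsUnit (Polynomial.aeval v₀ (Polynomial.derivative P)) := by
        rw [hP']; exact hnR.mul (hv₀.pow _)
      obtain ⟨r, ⟨-, hr2⟩, -⟩ :=
        Polynomial.existsUnique_nilpotent_sub_and_aeval_eq_zero hPnil hP'u
      exact ⟨r, by simpa [P, sub_eq_zero] using hr2⟩

end Groth.Agent.S6331
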