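import Groth.Statements.S6332
import Mathlib
-- import your own Groth.Agent.* helpers here

set_option autoImplicit false
universe u
open Fields

namespace Groth.Agent.S6332

open IntermediateField in
/-- Let L/K be a finite Galois extension of fields of characteristic p > 0 whose degree equals the prime
p (equivalently, the Galois group is cyclic of order p). Then there is an element z of L with z ^ p
- z in K which generates L over K. -/
theorem result {K L : Type u} [Field K] [Field L] [Algebra K L] (p : ℕ)
    [Fact p.Prime] [CharP K p] [FiniteDimensional K L] [IsGalois K L]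
    (hdeg : Module.finrank K L = p) :
    ∃ z : L, z ^ p - z ∈ Set.range (algebraMap K L) ∧ K⟮z⟯ = ⊤ := by
  classical
  have hp : p.Prime := Fact.out
  haveI : CharP L p := charP_of_injective_algebraMap (algebraMap K L).injective p
  -- the Galois group is cyclic of order p
  have hcard : Nat.card Gal(L/K) = p := by rw [IsGalois.card_aut_eq_finrank, hdeg]
  haveI : IsCyclic Gal(L/K) := isCyclic_of_prime_card hcard
  obtain ⟨σ, hσ⟩ := IsCyclic.exists_generator (α := Gal(L/K))
  have hord : orderOf σ = p := by rw [orderOf_eq_card_of_forall_mem_zpowers hσ, hcard]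
  have hσp : σ ^ p = 1 := by rw [← hord]; exact pow_orderOf_eq_one σ
  -- an element of trace one
  obtain ⟨θ, hθ⟩ := Algebra.trace_surjective K L 1
  have hsum : ∑ τ : Gal(L/K), τ θ = 1 := by
    rw [← trace_eq_sum_automorphisms, hθ, map_one]
  -- reindex over powers of σ
  have hbij : Function.Bijective (fun i : Fin p => σ ^ (i : ℕ)) := by
    haveI : Fintype Gal(L/K) := Fintype.ofFinite _
    rw [Fintype.bijective_iff_injective_and_card]
    refine ⟨?_, ?_⟩
    · intro i j hij
      have := pow_injOn_Iio_orderOf (x := σ) (by rw [hord]; exact i.2) (by rw [hord]; exact j.2) hij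
      exact Fin.ext this
    · rw [Fintype.card_fin, ← Nat.card_eq_fintype_card, hcard]
  have hsum' : ∑ i ∈ Finset.range p, (σ ^ i) θ = 1 := by
    rw [← hsum, ← Fin.sum_univ_eq_sum_range (fun i => (σ ^ i) θ) p]
    exact hbij.sum_comp (fun τ : Gal(L/K) => τ θ)
  set a : ℕ → L := fun i => (σ ^ i) θ with ha
  have hap : a p = a 0 := by simp only [ha, hσp, pow_zero]
  have hshift : ∀ i, σ (a i) = a (i + 1) := by
    intro i
    simp only [ha, pow_succ']
    rfl
  set z : L := ∑ i ∈ Finset.range p, (i : L) * a i with hz
  have hσz : σ z = z - 1 := by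
    have h1 : σ z = ∑ i ∈ Finset.range p, (i : L) * a (i + 1) := by
      rw [hz, map_sum]
      refine Finset.sum_congr rfl fun i _ => ?_
      rw [map_mul, map_natCast, hshift]
    have h2 : ∑ i ∈ Finset.range p, ((i + 1 : ℕ) : L) * a (i + 1) = z := by
      have := Finset.sum_range_succ' (fun j => ((j : ℕ) : L) * a j) p
      rw [Finset.sum_range_succ] at this
      simp only [Nat.cast_zero, zero_mul, add_zero, CharP.cast_eq_zero] at this
      rw [← this, hz]
    have h3 : ∑ i ∈ Finset.range p, a (i + 1) = 1 := by
      have := Finset.sum_range_succ' a p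
      rw [Finset.sum_range_succ, hap] at this
      have h4 : ∑ i ∈ Finset.range p, a i = 1 := hsum'
      rw [h4] at this
      exact (add_right_cancel this).symm
    rw [h1, ← h2, ← h3, ← Finset.sum_sub_distrib]
    refine Finset.sum_congr rfl fun i _ => ?_
    push_cast
    ring
  refine ⟨z, ?_, ?_⟩
  · rw [IsGalois.mem_range_algebraMap_iff_fixed]
    have hfix : σ (z ^ p - z) = z ^ p - z := by
      rw [map_sub, map_pow, hσz, sub_pow_char, one_pow]
      ring
    intro τ
    obtain ⟨k, rfl⟩ := Subgroup.mem_zpowers_iff.mp (hσ τ)
    have hmem : σ ∈ MulAction.stabilizer Gal(L/K) (z ^ p - z) := hfix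
    exact (Subgroup.zpow_mem _ hmem k)
  · haveI := IntermediateField.isSimpleOrder_of_finrank_prime (F := K) (E := L) (hdeg ▸ hp)
    rcases eq_bot_or_eq_top K⟮z⟯ with h | h
    · exfalso
      have hzbot : z ∈ (⊥ : IntermediateField K L) := h ▸ IntermediateField.mem_adjoin_simple_self K z
      have := (IsGalois.mem_bot_iff_fixed z).mp hzbot σ
      rw [hσz] at this
      have h10 : (1 : L) = 0 := by linear_combination -this
      exact one_ne_zero h10
    · exact h

end Groth.Agent.S6332
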