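import Groth.Statements.S6333
import Mathlib
-- import your own Groth.Agent.* helpers here

set_option autoImplicit false
universe u
open Fields

namespace Groth.Agent.S6333

open MvPolynomial in
theorem linIndep_adjoin {k K ι : Type*} [Field k] [Field K] [Algebra k K]
    (L : IntermediateField k K) (x : ι → K) (hx : AlgebraicIndependent L x)
    {m : Type*} [Fintype m] (l : m → L) (hl : LinearIndependent k l) :
    LinearIndependent (Algebra.adjoin k (Set.range x)) (fun i => (l i : K)) := by
  classical
  rw [Fintype.linearIndependent_iff]
  intro g hg
  have hmem : ∀ i, ∃ f : MvPolynomial ι k, aeval x f = (g i : K) := by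
    intro i
    have h1 : ((g i : K)) ∈ Algebra.adjoin k (Set.range x) := (g i).2
    have h2 : Algebra.adjoin k (Set.range x) = (aeval x).range :=
      Algebra.adjoin_range_eq_range_aeval k x
    have h3 : ((g i : K)) ∈ (aeval x : MvPolynomial ι k →ₐ[k] K).range := h2 ▸ h1
    exact h3
  choose f hf using hmem
  set P : MvPolynomial ι L := ∑ i, C (l i) * map (algebraMap k L) (f i) with hP
  have hP0 : aeval x P = 0 := by
    rw [hP, map_sum, ← hg]
    refine Finset.sum_congr rfl fun i _ => ?_
    rw [map_mul, aeval_C, aeval_map_algebraMap, hf, mul_comm]
    rfl
  have hPz : P = 0 := by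
    have hinj := hx
    rw [algebraicIndependent_iff_injective_aeval] at hinj
    exact hinj (by rw [hP0, map_zero])
  have hcoef : ∀ d i, coeff d (f i) = 0 := by
    intro d
    have h1 : ∑ i, coeff d (f i) • l i = 0 := by
      have := congrArg (coeff d) hPz
      rw [hP, coeff_sum, coeff_zero] at this
      rw [← this]
      refine Finset.sum_congr rfl fun i _ => ?_
      rw [coeff_C_mul, coeff_map, Algebra.smul_def, mul_comm]
    exact Fintype.linearIndependent_iff.mp hl _ h1
  intro i
  have hfi : f i = 0 := by
    ext d
    rw [hcoef, coeff_zero]
  apply Subtype.ext
  rw [← hf, hfi, map_zero]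
  rfl

open IntermediateField IntermediateField.algebraAdjoinAdjoin in
theorem main {k K : Type u} [Field k] [Field K] [Algebra k K]
    (hfg : (⊤ : IntermediateField k K).FG) :
    FiniteDimensional k (algebraicClosure k K) := by
  classical
  obtain ⟨s₀, hx⟩ := exists_isTranscendenceBasis k K
  set x : s₀ → K := Subtype.val with hxdef
  haveI : Algebra.IsAlgebraic (IntermediateField.adjoin k (Set.range x)) K := hx.isAlgebraic_field
  obtain ⟨S, hS⟩ := hfg
  haveI hfin : FiniteDimensional (IntermediateField.adjoin k (Set.range x)) K := by
    have h1 : IntermediateField.adjoin (IntermediateField.adjoin k (Set.range x)) (S : Set K) = ⊤ := by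
      rw [eq_top_iff]
      intro y _
      have : y ∈ (IntermediateField.adjoin (IntermediateField.adjoin k (Set.range x))
          (S : Set K)).restrictScalars k := by
        rw [IntermediateField.restrictScalars_adjoin]
        have : y ∈ IntermediateField.adjoin k (S : Set K) := hS ▸ IntermediateField.mem_top
        exact IntermediateField.adjoin.mono k _ _ Set.subset_union_right this
      exact this
    have h2 : FiniteDimensional (IntermediateField.adjoin k (Set.range x))
        (IntermediateField.adjoin (IntermediateField.adjoin k (Set.range x)) (S : Set K)) :=
      IntermediateField.finiteDimensional_adjoin (fun y _ => Algebra.IsIntegral.isIntegral y)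
    rw [h1] at h2
    exact (IntermediateField.topEquiv (F := IntermediateField.adjoin k (Set.range x))
      (E := K)).toLinearEquiv.finiteDimensional
  have hxL : AlgebraicIndependent (algebraicClosure k K) x := hx.1.extendScalars _
  have hbound : ∀ s : Finset (algebraicClosure k K),
      (LinearIndependent k fun i : s => (i : algebraicClosure k K)) →
      s.card ≤ Module.finrank (IntermediateField.adjoin k (Set.range x)) K := by
    intro s hs
    have h1 := linIndep_adjoin (algebraicClosure k K) x hxL (fun i : s => (i : algebraicClosure k K)) hs
    have h2 : LinearIndependent (IntermediateField.adjoin k (Set.range x))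
        (fun i : s => ((i : algebraicClosure k K) : K)) :=
      (LinearIndependent.iff_fractionRing (Algebra.adjoin k (Set.range x))
        (IntermediateField.adjoin k (Set.range x))).mp h1
    have := h2.fintype_card_le_finrank
    simpa using this
  have hrank := rank_le hbound
  exact Module.rank_lt_aleph0_iff.mp (lt_of_le_of_lt hrank Cardinal.natCast_lt_aleph0)

/-- For a finitely generated field extension K/k, the algebraic closure of k inside K is a finite
extension of k. -/
theorem result {k K : Type u} [Field k] [Field K] [Algebra k K]
    (hfg : (⊤ : IntermediateField k K).FG) :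
    FiniteDimensional k (algebraicClosure k K) := by
  exact main hfg

end Groth.Agent.S6333
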