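import Groth.Statements.S6334
import Mathlib
-- import your own Groth.Agent.* helpers here

set_option autoImplicit false
universe u
open Fields

namespace Groth.Agent.S6334

open IntermediateField Polynomial in
theorem step {F E : Type u} [Field F] [Field E] [Algebra F E] (p : ℕ)
    [Fact p.Prime] [CharP F p] [IsPurelyInseparable F E]
    (hne : (⊥ : IntermediateField F E) ≠ ⊤) :
    ∃ a₀ : E, a₀ ∉ (⊥ : IntermediateField F E) ∧ a₀ ^ p ∈ (⊥ : IntermediateField F E) ∧
      Module.finrank F F⟮a₀⟯ = p := by
  classical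
  have hp : p.Prime := Fact.out
  haveI : ExpChar F p := ExpChar.prime hp
  haveI : CharP E p := charP_of_injective_algebraMap (algebraMap F E).injective p
  obtain ⟨x, hx⟩ : ∃ x : E, x ∉ (⊥ : IntermediateField F E) := by
    by_contra h
    push Not at h
    exact hne (eq_top_iff.mpr fun x _ => h x)
  have hex := IsPurelyInseparable.pow_mem F p x
  set n := Nat.find hex with hn
  have hn_spec : x ^ p ^ n ∈ (algebraMap F E).range := Nat.find_spec hex
  have hn0 : n ≠ 0 := by
    intro h0
    rw [h0, pow_zero, pow_one] at hn_spec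
    exact hx (IntermediateField.mem_bot.mpr hn_spec)
  obtain ⟨m, hm⟩ := Nat.exists_eq_succ_of_ne_zero hn0
  have hmin : x ^ p ^ m ∉ (algebraMap F E).range := Nat.find_min hex (by omega)
  refine ⟨x ^ p ^ m, fun h => hmin (IntermediateField.mem_bot.mp h), ?_, ?_⟩
  · rw [← pow_mul, ← pow_succ, ← Nat.succ_eq_add_one, ← hm]
    exact IntermediateField.mem_bot.mpr hn_spec
  · obtain ⟨c, hc⟩ : ∃ c : F, algebraMap F E c = (x ^ p ^ m) ^ p := by
      rw [← pow_mul, ← pow_succ, ← Nat.succ_eq_add_one, ← hm]
      exact hn_spec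
    have hirr : Irreducible (X ^ p - C c : F[X]) := by
      apply X_pow_sub_C_irreducible_of_prime hp
      intro b hb
      apply hmin
      refine ⟨b, ?_⟩
      have : (algebraMap F E b) ^ p = (x ^ p ^ m) ^ p := by rw [← map_pow, hb, hc]
      exact frobenius_inj E p this
    have hroot : aeval (x ^ p ^ m) (X ^ p - C c : F[X]) = 0 := by
      simp [hc]
    have hmonic : (X ^ p - C c : F[X]).Monic := monic_X_pow_sub_C c hp.ne_zero
    have hmin' := minpoly.eq_of_irreducible_of_monic hirr hroot hmonic
    have hint : IsIntegral F (x ^ p ^ m) := ⟨_, hmonic, by rw [← aeval_def]; exact hroot⟩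
    rw [IntermediateField.adjoin.finrank hint, ← hmin', natDegree_X_pow_sub_C]

open IntermediateField in
theorem mem_adjoin_adjoin_iff {F E : Type u} [Field F] [Field E] [Algebra F E] (a₀ : E) (S : Set E)
    (x : E) : x ∈ adjoin F⟮a₀⟯ S ↔ x ∈ adjoin F ({a₀} ∪ S) := by
  rw [← adjoin_adjoin_left F {a₀} S]
  rfl

theorem image_cons_succ {E : Type u} {m : ℕ} (a₀ : E) (b : Fin m → E) (i : Fin m) :
    (Fin.cons a₀ b : Fin (m + 1) → E) '' {j | j < i.succ} = {a₀} ∪ b '' {j | j < i} := by
  ext y
  constructor
  · rintro ⟨j, hj, rfl⟩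
    refine Fin.cases ?_ (fun j' => ?_) j hj
    · intro _; left; simp
    · intro hj'
      right
      exact ⟨j', Fin.succ_lt_succ_iff.mp hj', by simp⟩
  · rintro (hy | ⟨j, hj, rfl⟩)
    · rw [Set.mem_singleton_iff] at hy
      exact ⟨0, Fin.succ_pos i, by simp [hy]⟩
    · exact ⟨j.succ, Fin.succ_lt_succ_iff.mpr hj, by simp⟩

open IntermediateField in
theorem main (E : Type u) [Field E] (p : ℕ) [Fact p.Prime] : ∀ (d : ℕ) (F : Type u) [Field F]
    [Algebra F E] [CharP F p] [FiniteDimensional F E] [IsPurelyInseparable F E],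
    Module.finrank F E = d →
    ∃ (n : ℕ) (a : Fin n → E), adjoin F (Set.range a) = ⊤ ∧
      (∀ i : Fin n, a i ^ p ∈ adjoin F (a '' {j | j < i}) ∧ a i ∉ adjoin F (a '' {j | j < i})) ∧
      Module.finrank F E = p ^ n := by
  intro d
  induction d using Nat.strong_induction_on with
  | _ d ih =>
    intro F _ _ _ _ _ hd
    by_cases hbt : (⊥ : IntermediateField F E) = ⊤
    · refine ⟨0, Fin.elim0, ?_, fun i => i.elim0, ?_⟩
      · rw [Set.range_eq_empty, adjoin_empty]; exact hbt
      · rw [pow_zero]; exact bot_eq_top_iff_finrank_eq_one.mp hbt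
    · obtain ⟨a₀, ha₀, ha₀p, hfr⟩ := step p hbt
      have hmul := Module.finrank_mul_finrank F F⟮a₀⟯ E
      have hlt : Module.finrank F⟮a₀⟯ E < d := by
        rw [hfr, hd] at hmul
        have hpos : 0 < Module.finrank F⟮a₀⟯ E := Module.finrank_pos
        nlinarith [(Fact.out : p.Prime).two_le]
      haveI : CharP F⟮a₀⟯ p := charP_of_injective_algebraMap (algebraMap F F⟮a₀⟯).injective p
      obtain ⟨m, b, hb1, hb2, hb3⟩ := ih _ hlt F⟮a₀⟯ rfl
      refine ⟨m + 1, Fin.cons a₀ b, ?_, ?_, ?_⟩
      · rw [Fin.range_cons, eq_top_iff]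
        intro x _
        have : x ∈ adjoin F⟮a₀⟯ (Set.range b) := hb1 ▸ mem_top
        rw [mem_adjoin_adjoin_iff] at this
        rw [Set.insert_eq]
        exact this
      · intro i
        refine Fin.cases ?_ (fun i' => ?_) i
        · have hempty : (Fin.cons a₀ b : Fin (m + 1) → E) '' {j | j < 0} = ∅ := by
            rw [Set.image_eq_empty]
            ext j
            simp
          rw [hempty, adjoin_empty]
          simpa using ⟨ha₀p, ha₀⟩
        · rw [image_cons_succ, ← mem_adjoin_adjoin_iff, ← mem_adjoin_adjoin_iff]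
          simpa using hb2 i'
      · rw [← hmul, hfr, hb3, pow_succ']

open IntermediateField in
/-- Let E/F be a finite purely inseparable extension of fields of characteristic p > 0. Then there are
elements a_1, ..., a_n of E generating E over F such that for each i the p-th power of a_i lies in
F(a_1, ..., a_{i-1}) while a_i itself does not (so each step adjoins a p-th root and has degree p);
in particular [E : F] = p ^ n. -/
theorem result {F E : Type u} [Field F] [Field E] [Algebra F E] (p : ℕ)
    [Fact p.Prime] [CharP F p] [FiniteDimensional F E] [IsPurelyInseparable F E] :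
    ∃ (n : ℕ) (a : Fin n → E), adjoin F (Set.range a) = ⊤ ∧
      (∀ i : Fin n, a i ^ p ∈ adjoin F (a '' {j | j < i}) ∧ a i ∉ adjoin F (a '' {j | j < i})) ∧
      Module.finrank F E = p ^ n := by
  exact main E p _ F rfl

end Groth.Agent.S6334
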