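import Groth.Statements.S6335
import Mathlib

set_option autoImplicit false
universe u
open Fields

namespace Groth.Agent.S6335

/-- Let K be a field of characteristic p > 0, L/K a separable algebraic extension and a an element of L.
If a is a root of a polynomial P over K which is separable (pairwise distinct roots in an algebraic
closure) and all of whose coefficients are p-th powers in K, then a is a p-th power in L. (Part (1),
the case where P is the minimal polynomial of a, is a special case.) -/
theorem result {K L : Type u} [Field K] [Field L] [Algebra K L]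
    (p : ℕ) [Fact p.Prime] [CharP K p] [Algebra.IsSeparable K L] (a : L) (P : Polynomial K)
    (hroot : Polynomial.aeval a P = 0) (hsep : P.Separable) (hcoeff : ∀ i : ℕ, ∃ b : K, b ^ p = P.coeff i) :
    ∃ c : L, c ^ p = a := by
  classical
  have hp : p.Prime := Fact.out
  have : ExpChar K p := ExpChar.prime hp
  let Ω := AlgebraicClosure L
  have : CharP Ω p := charP_of_injective_algebraMap (algebraMap K Ω).injective p
  choose b hb using hcoeff
  set n := P.natDegree with hn
  set Q : Polynomial K := ∑ i ∈ Finset.range (n + 1), Polynomial.monomial i (b i) with hQ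
  have hQcoeff : ∀ i, Q.coeff i = if i < n + 1 then b i else 0 := by
    intro i
    rw [hQ, Polynomial.finsetSum_coeff]
    simp only [Polynomial.coeff_monomial]
    rw [Finset.sum_ite_eq' (Finset.range (n + 1)) i (fun j => b j)]
    simp only [Finset.mem_range]
  have hQP : Q.map (frobenius K p) = P := by
    ext i
    rw [Polynomial.coeff_map, hQcoeff]
    split_ifs with h
    · rw [frobenius_def, hb]
    · rw [map_zero]
      symm
      apply Polynomial.coeff_eq_zero_of_natDegree_lt
      omega
  have hQsep : Q.Separable := by
    rw [← Polynomial.separable_map (frobenius K p), hQP]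
    exact hsep
  obtain ⟨c, hc⟩ := IsAlgClosed.exists_pow_nat_eq (algebraMap L Ω a) hp.pos
  -- `c` is a root of `Q`
  have hcQ : Polynomial.aeval c Q = 0 := by
    have h1 : (Polynomial.aeval c Q) ^ p = Polynomial.aeval (algebraMap L Ω a) P := by
      rw [hQ, map_sum, sum_pow_char, Polynomial.aeval_eq_sum_range, ← hn]
      refine Finset.sum_congr rfl (fun i _ => ?_)
      rw [Polynomial.aeval_monomial, mul_pow, ← map_pow, hb, Algebra.smul_def, ← hc, ← pow_mul,
        ← pow_mul, mul_comm i p]
    have h2 : Polynomial.aeval (algebraMap L Ω a) P = 0 := by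
      rw [Polynomial.aeval_algebraMap_apply, hroot, map_zero]
    rw [h2] at h1
    exact pow_eq_zero_iff (hp.ne_zero) |>.1 h1
  have hcsep : IsSeparable K c := by
    have hQ0 : Q ≠ 0 := hQsep.ne_zero
    exact hQsep.of_dvd (minpoly.dvd K c hcQ)
  have hadj : IntermediateField.adjoin K {c} = IntermediateField.adjoin K {c ^ p} :=
    IntermediateField.adjoin_simple_eq_adjoin_pow_expChar_of_isSeparable K Ω hcsep p
  have hcmem : c ∈ IntermediateField.adjoin K {c ^ p} := by
    rw [← hadj]
    exact IntermediateField.mem_adjoin_simple_self K c
  have hle : IntermediateField.adjoin K {c ^ p} ≤ (IsScalarTower.toAlgHom K L Ω).fieldRange := by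
    rw [IntermediateField.adjoin_le_iff]
    rintro _ rfl
    exact ⟨a, hc.symm⟩
  obtain ⟨c', hc'⟩ := hle hcmem
  refine ⟨c', (algebraMap L Ω).injective ?_⟩
  rw [map_pow]
  have hc'' : algebraMap L Ω c' = c := hc'
  rw [hc'', hc]

end Groth.Agent.S6335
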