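import Groth.Statements.S6336
import Mathlib.FieldTheory.PrimitiveElement
import Mathlib.Tactic.Ring
import Mathlib.Tactic.LinearCombination
import Mathlib.Tactic.FieldSimp

set_option autoImplicit false
universe u
open Fields

namespace Groth.Agent.S6336

open Polynomial IntermediateField in
lemma prod_aux {K L : Type u} [Field K] [Field L] [Algebra K L] (a : L) (s : Multiset L)
    (hs : ∀ r ∈ s, ∃ μ : K, μ ≠ 0 ∧ r = algebraMap K L μ * a) :
    ∃ ν : K, ν ≠ 0 ∧ s.prod = algebraMap K L ν * a ^ (Multiset.card s) := by
  induction s using Multiset.induction_on with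
  | empty => exact ⟨1, one_ne_zero, by simp⟩
  | cons r s ih =>
    obtain ⟨ν, hν, hprod⟩ := ih (fun r' hr' => hs r' (Multiset.mem_cons_of_mem hr'))
    obtain ⟨μ, hμ, rfl⟩ := hs r (Multiset.mem_cons_self r s)
    refine ⟨μ * ν, mul_ne_zero hμ hν, ?_⟩
    rw [Multiset.prod_cons, hprod, Multiset.card_cons, map_mul, pow_succ]
    ring

open IntermediateField Polynomial in
/-- With an added hypothesis: let L/K be a finite extension of degree e generated by a single element a
whose e-th power lies in K, and assume that the polynomial X ^ e - 1 splits into linear factors over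
K (so every e-th root of unity of any extension of K already lies in K; this holds when K contains a
primitive e-th root of unity, and when e is a power of the characteristic). Then every intermediate
field of L/K is generated by a ^ d for some divisor d of e. (The published statement has no
hypothesis on roots of unity; for K the rationals and a a primitive 8-th root of unity, e = 4 and a
^ 4 = -1, the intermediate field generated by a + a⁻¹, a square root of 2, is none of K(a), K(a ^
2), K(a ^ 4); the published proof uses that the e-th roots of unity met are fixed by the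
automorphisms it constructs, which the splitting hypothesis guarantees.) -/
theorem result {K L : Type u} [Field K] [Field L] [Algebra K L]
    [FiniteDimensional K L] (a : L) (ha : K⟮a⟯ = ⊤)
    (hpow : a ^ Module.finrank K L ∈ Set.range (algebraMap K L))
    (hroots : (X ^ Module.finrank K L - 1 : K[X]).Splits) (L' : IntermediateField K L) :
    ∃ d : ℕ, d ∣ Module.finrank K L ∧ L' = K⟮a ^ d⟯ := by
  classical
  set e := Module.finrank K L with he
  have he1 : 0 < e := Module.finrank_pos
  obtain ⟨b, hb⟩ := hpow
  by_cases ha0 : a = 0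
  · refine ⟨1, one_dvd _, ?_⟩
    have htb : (⊤ : IntermediateField K L) = ⊥ := by
      rw [← ha, ha0]; exact IntermediateField.adjoin_zero
    rw [pow_one, ha]
    exact le_antisymm le_top (htb ▸ bot_le)
  set d := Module.finrank L' L with hd
  have hd1 : 0 < d := Module.finrank_pos
  have hde : d ∣ e := ⟨Module.finrank K L', by rw [he, hd, mul_comm]; exact (Module.finrank_mul_finrank K L' L).symm⟩
  have htop : L'⟮a⟯ = ⊤ := IntermediateField.adjoin_eq_top_of_adjoin_eq_top (F := K) ha
  have hdeg : (minpoly L' a).natDegree = d :=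
    (Field.primitive_element_iff_minpoly_natDegree_eq L' a).1 htop
  -- the polynomial `X ^ e - a ^ e` over `L` splits
  set P : L[X] := X ^ e - C (a ^ e) with hP
  have hPsplit : P.Splits := by
    have h1 : ((X ^ e - 1 : K[X]).map (algebraMap K L)).Splits := hroots.map _
    have h2 : (C a⁻¹ * X : L[X]).natDegree ≤ 1 := by
      rw [natDegree_C_mul_X _ (inv_ne_zero ha0)]
    have hlc : (C a⁻¹ * X : L[X]).leadingCoeff = a⁻¹ := by
      rw [leadingCoeff_mul, leadingCoeff_C, leadingCoeff_X, mul_one]
    have h3 : Invertible (C a⁻¹ * X : L[X]).leadingCoeff := by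
      rw [hlc]; exact invertibleOfNonzero (inv_ne_zero ha0)
    have h4 := (h1.comp_of_natDegree_le_one_of_invertible h2 h3).C_mul (a ^ e)
    have h5 : C (a ^ e) * ((X ^ e - 1 : K[X]).map (algebraMap K L)).comp (C a⁻¹ * X) = P := by
      rw [hP, Polynomial.map_sub, Polynomial.map_pow, map_X, Polynomial.map_one, sub_comp, pow_comp,
        X_comp, one_comp, mul_pow, ← C_pow, mul_sub, ← mul_assoc, ← C_mul, mul_one]
      congr 2
      rw [inv_pow, mul_inv_cancel₀ (pow_ne_zero _ ha0), C_1, one_mul]
    rwa [h5] at h4
  have hP0 : P ≠ 0 := by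
    have : P.Monic := monic_X_pow_sub_C _ he1.ne'
    exact this.ne_zero
  -- the minimal polynomial of `a` over `L'`, mapped to `L`
  set g' : L[X] := (minpoly L' a).map (algebraMap L' L) with hg'
  have hgmonic : g'.Monic := (minpoly.monic (IsIntegral.of_finite L' a)).map _
  have hgdvd : g' ∣ P := by
    have h1 : minpoly L' a ∣ (X ^ e - C (algebraMap K L' b) : L'[X]) := by
      apply minpoly.dvd
      rw [map_sub, map_pow, aeval_X, aeval_C, ← IsScalarTower.algebraMap_apply, hb, sub_self]
    have h2 := Polynomial.map_dvd (algebraMap L' L) h1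
    rwa [Polynomial.map_sub, Polynomial.map_pow, map_X, map_C,
      ← IsScalarTower.algebraMap_apply, hb] at h2
  have hgsplit : g'.Splits := hPsplit.of_dvd hP0 hgdvd
  have hgdeg : g'.natDegree = d := by
    rw [hg', (minpoly.monic (IsIntegral.of_finite L' a)).natDegree_map, hdeg]
  have hroots' : ∀ r ∈ g'.roots, ∃ μ : K, μ ≠ 0 ∧ r = algebraMap K L μ * a := by
    intro r hr
    have hr0 : g'.IsRoot r := (mem_roots hgmonic.ne_zero).1 hr
    have hPr : P.eval r = 0 := by
      obtain ⟨q, hq⟩ := hgdvd
      rw [hq, eval_mul, hr0.eq_zero, zero_mul]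
    have hre : r ^ e = a ^ e := by
      rw [hP, eval_sub, eval_pow, eval_X, eval_C] at hPr
      exact sub_eq_zero.1 hPr
    have hμe : (r / a) ^ e = 1 := by
      rw [div_pow, hre, div_self (pow_ne_zero _ ha0)]
    have hX0 : (X ^ e - 1 : K[X]) ≠ 0 := by
      have : (X ^ e - 1 : K[X]).Monic := by
        have := monic_X_pow_sub_C (1 : K) he1.ne'
        rwa [C_1] at this
      exact this.ne_zero
    obtain ⟨μ, hμ⟩ := hroots.mem_range_of_isRoot hX0 (i := algebraMap K L) (x := r / a) (by
      rw [IsRoot, Polynomial.map_sub, Polynomial.map_pow, map_X, Polynomial.map_one, eval_sub,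
        eval_pow, eval_X, eval_one, hμe, sub_self])
    refine ⟨μ, ?_, ?_⟩
    · rintro rfl
      rw [map_zero] at hμ
      have : (0 : L) ^ e = 1 := by rw [hμ]; exact hμe
      rw [zero_pow he1.ne'] at this
      exact zero_ne_one this
    · rw [hμ, div_mul_cancel₀ _ ha0]
  obtain ⟨ν, hν, hprod⟩ := prod_aux a g'.roots hroots'
  rw [← hgsplit.natDegree_eq_card_roots, hgdeg] at hprod
  have hc0 := hgsplit.coeff_zero_eq_prod_roots_of_monic hgmonic
  rw [hgdeg, hprod, hg', coeff_map] at hc0
  have hνL : algebraMap K L ν ≠ 0 := by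
    rw [Ne, map_eq_zero_iff _ (algebraMap K L).injective]; exact hν
  have hadL' : a ^ d ∈ L' := by
    have : a ^ d = (algebraMap K L ν)⁻¹ *
        ((-1) ^ d * algebraMap L' L ((minpoly L' a).coeff 0)) := by
      rw [hc0, ← mul_assoc ((-1 : L) ^ d), ← mul_pow, neg_mul_neg, one_mul, one_pow, one_mul,
        ← mul_assoc, inv_mul_cancel₀ hνL, one_mul]
    rw [this]
    exact L'.mul_mem (L'.inv_mem (L'.algebraMap_mem ν))
      (L'.mul_mem (pow_mem (neg_mem L'.one_mem) d) ((minpoly L' a).coeff 0).2)
  refine ⟨d, hde, ?_⟩
  set M : IntermediateField K L := K⟮a ^ d⟯ with hM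
  have hML' : M ≤ L' := by
    rw [hM, IntermediateField.adjoin_simple_le_iff]
    exact hadL'
  have htopM : M⟮a⟯ = ⊤ := IntermediateField.adjoin_eq_top_of_adjoin_eq_top (F := K) ha
  have hdegM : (minpoly M a).natDegree = Module.finrank M L :=
    (Field.primitive_element_iff_minpoly_natDegree_eq M a).1 htopM
  have hadM : a ^ d ∈ M := IntermediateField.mem_adjoin_simple_self K _
  have hle : Module.finrank M L ≤ d := by
    rw [← hdegM]
    have hq : (X ^ d - C (⟨a ^ d, hadM⟩ : M) : M[X]).Monic := monic_X_pow_sub_C _ hd1.ne'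
    have h1 := minpoly.min M a hq (by
      rw [map_sub, map_pow, aeval_X, aeval_C]
      exact sub_self _)
    have h2 := natDegree_le_natDegree h1
    rwa [natDegree_X_pow_sub_C] at h2
  have h1 := Module.finrank_mul_finrank K L' L
  have h2 := Module.finrank_mul_finrank K M L
  have hfin : Module.finrank K L' ≤ Module.finrank K M := by
    have hMpos : 0 < Module.finrank M L := Module.finrank_pos
    have : Module.finrank K L' * d ≤ Module.finrank K M * d := by
      rw [hd, h1, ← h2]
      exact Nat.mul_le_mul_left _ hle
    exact Nat.le_of_mul_le_mul_right this hd1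
  exact (IntermediateField.eq_of_le_of_finrank_le hML' hfin).symm

end Groth.Agent.S6336
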