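import Groth.Statements.S6337
import Mathlib
import Groth.Agent.Lib.Helper28.MittagLeffler
-- import your own Groth.Agent.* helpers here

set_option autoImplicit false
universe u
open CAlg

namespace Groth.Agent.S6337

theorem component_directSumLeft {R : Type u} [CommRing R] {ι : Type u} [DecidableEq ι] (M : ι → Type u)
    [∀ i, AddCommGroup (M i)] [∀ i, Module R (M i)] (P : Type u) [AddCommGroup P] [Module R P]
    (i : ι) (x : TensorProduct R (DirectSum ι M) P) :
    (TensorProduct.directSumLeft R R M P x) i = (DirectSum.component R ι M i).rTensor P x := by
  induction x using TensorProduct.induction_on with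
  | zero => simp
  | tmul m p => rw [TensorProduct.directSumLeft_tmul]; rfl
  | add a b ha hb => rw [map_add, map_add, DirectSum.add_apply, ha, hb]

/-- A direct sum of modules is Mittag-Leffler if and only if each summand is Mittag-Leffler. -/
theorem result (R : Type u) [CommRing R] {ι : Type u} (M : ι → Type u)
    [∀ i, AddCommGroup (M i)] [∀ i, Module R (M i)] :
    CAlg.IsMittagLeffler R (DirectSum ι M) ↔ ∀ i, CAlg.IsMittagLeffler R (M i) := by
  classical
  constructor
  · intro h i κ Q _ _
    have h2 := h κ Q
    have hinj : ∀ P : Type u, ∀ [AddCommGroup P] [Module R P],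
        Function.Injective ((DirectSum.lof R ι M i).rTensor P) := by
      intro P _ _
      apply Function.LeftInverse.injective (g := (DirectSum.component R ι M i).rTensor P)
      intro x
      rw [← LinearMap.comp_apply, ← LinearMap.rTensor_comp]
      have : (DirectSum.component R ι M i) ∘ₗ (DirectSum.lof R ι M i) = LinearMap.id := by
        ext m
        simp
      rw [this, LinearMap.rTensor_id, LinearMap.id_apply]
    intro x y hxy
    apply hinj (∀ k, Q k)
    apply h2
    rw [Groth.Agent.Lib.helper28.piRightHom_rTensor, Groth.Agent.Lib.helper28.piRightHom_rTensor, hxy]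
  · intro h κ Q _ _
    rw [← LinearMap.coe_coe, injective_iff_map_eq_zero]
    intro x hx
    have hxi : ∀ i, (DirectSum.component R ι M i).rTensor (∀ k, Q k) x = 0 := by
      intro i
      apply h i κ Q
      rw [Groth.Agent.Lib.helper28.piRightHom_rTensor, map_zero]
      have hx' : TensorProduct.piRightHom R R (DirectSum ι M) Q x = 0 := hx
      rw [hx']
      funext k
      simp
    apply (TensorProduct.directSumLeft R R M (∀ k, Q k)).injective
    rw [map_zero]
    apply DirectSum.ext
    intro i
    rw [component_directSumLeft, hxi i]
    rfl

end Groth.Agent.S6337
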