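import Groth.Statements.S6339
import Mathlib
import Groth.Agent.Lib.Helper28.MittagLeffler
-- import your own Groth.Agent.* helpers here

set_option autoImplicit false
universe u
open CAlg

namespace Groth.Agent.S6339

/-- Let 0 → M₁ → M₂ → M₃ → 0 be a universally exact short exact sequence of modules over a commutative
ring (the first map is universally injective, the second is surjective with kernel the image of the
first). If M₁ and M₃ are Mittag-Leffler then so is M₂. -/
theorem result (R : Type u) [CommRing R] {M₁ M₂ M₃ : Type u}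
    [AddCommGroup M₁] [Module R M₁] [AddCommGroup M₂] [Module R M₂] [AddCommGroup M₃] [Module R M₃]
    (f : M₁ →ₗ[R] M₂) (g : M₂ →ₗ[R] M₃) (hf : CAlgX.UniversallyInjective R f)
    (hg : Function.Surjective g) (hfg : LinearMap.range f = LinearMap.ker g)
    (h₁ : CAlg.IsMittagLeffler R M₁) (h₃ : CAlg.IsMittagLeffler R M₃) :
    CAlg.IsMittagLeffler R M₂ := by
  intro ι Q _ _
  rw [injective_iff_map_eq_zero]
  intro x hx
  have hexact : Function.Exact f g := LinearMap.exact_iff.mpr hfg.symm
  -- step 1
  have h1 : g.rTensor (∀ i, Q i) x = 0 := by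
    apply h₃ ι Q
    rw [Groth.Agent.Lib.helper28.piRightHom_rTensor, hx, map_zero]
    funext i
    simp
  -- step 2
  have hex : Function.Exact (f.rTensor (∀ i, Q i)) (g.rTensor (∀ i, Q i)) :=
    rTensor_exact (∀ i, Q i) hexact hg
  obtain ⟨x₁, rfl⟩ := (hex x).mp h1
  -- step 3
  rw [Groth.Agent.Lib.helper28.piRightHom_rTensor] at hx
  have h3 : TensorProduct.piRightHom R R M₁ Q x₁ = 0 := by
    funext i
    apply hf (Q i)
    rw [Pi.zero_apply, map_zero]
    exact congrFun hx i
  have h4 : x₁ = 0 := by
    apply h₁ ι Q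
    rw [h3, map_zero]
  rw [h4, map_zero]

end Groth.Agent.S6339
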