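import Groth.Statements.S6341
import Mathlib
import Groth.Agent.Lib.Helper28.MittagLeffler
-- import your own Groth.Agent.* helpers here

set_option autoImplicit false
universe u
open CAlg

namespace Groth.Agent.S6341

/-- The colimit of a directed system of Mittag-Leffler modules with universally injective transition
maps is Mittag-Leffler. -/
theorem result (R : Type u) [CommRing R] {ι : Type u}
    [Preorder ι] [IsDirected ι (· ≤ ·)] [DecidableEq ι] (G : ι → Type u) [∀ i, AddCommGroup (G i)]
    [∀ i, Module R (G i)] (f : ∀ i j, i ≤ j → G i →ₗ[R] G j) [DirectedSystem G fun i j h => f i j h]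
    (hf : ∀ i j (h : i ≤ j), CAlgX.UniversallyInjective R (f i j h))
    (hG : ∀ i, CAlg.IsMittagLeffler R (G i)) :
    CAlg.IsMittagLeffler R (Module.DirectLimit G f) := by
  intro κ Q _ _
  rcases isEmpty_or_nonempty ι with hι | hι
  · have h0 : Subsingleton (DirectSum ι G) :=
      inferInstanceAs (Subsingleton (Π₀ i, G i))
    have h1 : Subsingleton (Module.DirectLimit G f) := by
      refine ⟨fun a b => ?_⟩
      induction a using Quotient.inductionOn' with | _ a => ?_
      induction b using Quotient.inductionOn' with | _ b => ?_
      rw [Subsingleton.elim a b]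
    exact Function.injective_of_subsingleton _
  · rw [injective_iff_map_eq_zero]
    intro x hx
    obtain ⟨i, xi, hxi⟩ := Module.DirectLimit.exists_of
      (TensorProduct.directLimitLeft f (∀ k, Q k) x)
    have hx' : x = (Module.DirectLimit.of R ι G f i).rTensor (∀ k, Q k) xi := by
      apply (TensorProduct.directLimitLeft f _).injective
      rw [TensorProduct.directLimitLeft_rTensor_of, hxi]
    have hof : ∀ (P : Type u) [AddCommGroup P] [Module R P] (y : TensorProduct R (G i) P),
        (Module.DirectLimit.of R ι G f i).rTensor P y = 0 → y = 0 := by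
      intro P _ _ y hy
      have h1 : Module.DirectLimit.of R ι (fun j => TensorProduct R (G j) P)
          (fun i j h => (f i j h).rTensor P) i y = 0 := by
        rw [← TensorProduct.directLimitLeft_rTensor_of, hy, map_zero]
      obtain ⟨j, hij, hj⟩ := Module.DirectLimit.of.zero_exact h1
      exact hf i j hij P (hj.trans (map_zero _).symm)
    subst hx'
    rw [Groth.Agent.Lib.helper28.piRightHom_rTensor] at hx
    have h2 : TensorProduct.piRightHom R R (G i) Q xi = 0 := by
      funext k
      exact hof (Q k) _ (congrFun hx k)
    have h3 : xi = 0 := hG i κ Q (h2.trans (map_zero _).symm)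
    rw [h3, map_zero]

end Groth.Agent.S6341
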