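import Groth.Statements.S6342
import Mathlib
-- import your own Groth.Agent.* helpers here

set_option autoImplicit false
universe u
open CAlg

namespace Groth.Agent.S6342

/-- Let R → S be a ring map such that S is Mittag-Leffler as an R-module, and let M be an S-module which
is flat and Mittag-Leffler over S. Then M is Mittag-Leffler as an R-module. -/
theorem result (R S : Type u) [CommRing R] [CommRing S] [Algebra R S]
    (M : Type u) [AddCommGroup M] [Module S M] [Module R M] [IsScalarTower R S M]
    (hS : CAlg.IsMittagLeffler R S) [Module.Flat S M] (hM : CAlg.IsMittagLeffler S M) :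
    CAlg.IsMittagLeffler R M := by
  intro ι Q _ _
  let piS : TensorProduct R S (∀ i, Q i) →ₗ[S] ∀ i, TensorProduct R S (Q i) := TensorProduct.piRightHom R S S Q
  have hpiS : Function.Injective piS := hS ι Q
  have hlT : Function.Injective (piS.lTensor M) :=
    Module.Flat.lTensor_preserves_injective_linearMap piS hpiS
  have hM' := hM ι (fun i => TensorProduct R S (Q i))
  let c := TensorProduct.AlgebraTensorModule.cancelBaseChange R S S M (∀ i, Q i)
  let ci := fun i => TensorProduct.AlgebraTensorModule.cancelBaseChange R S S M (Q i)
  have hcomm : ∀ x' : TensorProduct S M (TensorProduct R S (∀ i, Q i)),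
      TensorProduct.piRightHom R R M Q (c x') =
        fun i => ci i (TensorProduct.piRightHom S S M (fun i => TensorProduct R S (Q i)) (piS.lTensor M x') i) := by
    intro x'
    induction x' using TensorProduct.induction_on with
    | zero =>
      funext i
      simp
    | tmul m z =>
      induction z using TensorProduct.induction_on with
      | zero =>
        funext i
        simp
      | tmul s q =>
        funext i
        simp [c, ci, piS]
      | add a b ha hb =>
        rw [TensorProduct.tmul_add, map_add, map_add, ha, hb, map_add, map_add]
        funext i
        simp
    | add a b ha hb =>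
      rw [map_add, map_add, ha, hb, map_add, map_add]
      funext i
      simp
  rw [injective_iff_map_eq_zero]
  intro x hx
  obtain ⟨x', rfl⟩ := c.surjective x
  rw [hcomm] at hx
  have h1 : TensorProduct.piRightHom S S M (fun i => TensorProduct R S (Q i)) (piS.lTensor M x') = 0 := by
    funext i
    apply (ci i).injective
    rw [Pi.zero_apply, map_zero]
    exact congrFun hx i
  have h2 : piS.lTensor M x' = 0 := by
    apply hM'
    rw [h1, map_zero]
  have h3 : x' = 0 := by
    apply hlT
    rw [h2, map_zero]
  rw [h3, map_zero]

end Groth.Agent.S6342
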