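import Groth.Statements.S6345
import Mathlib
import Groth.Agent.Lib.Helper13.MLfp
-- import your own Groth.Agent.* helpers here

set_option autoImplicit false
universe u
open CAlg

namespace Groth.Agent.S6345

/-- Let I be a finitely generated ideal of a commutative ring R and M an R/I-module. Then M is
Mittag-Leffler over R if and only if it is Mittag-Leffler over R/I. -/
theorem result (R : Type u) [CommRing R] (I : Ideal R) (hI : I.FG)
    (M : Type u) [AddCommGroup M] [Module (R ⧸ I) M] [Module R M] [IsScalarTower R (R ⧸ I) M] :
    CAlg.IsMittagLeffler R M ↔ CAlg.IsMittagLeffler (R ⧸ I) M := by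
  constructor
  · intro hM ι Q _ _
    letI instR : ∀ i, Module R (Q i) := fun i => Module.compHom (Q i) (algebraMap R (R ⧸ I))
    haveI : ∀ i, IsScalarTower R (R ⧸ I) (Q i) := fun i =>
      IsScalarTower.of_algebraMap_smul fun r x => rfl
    have hsurj : Function.Surjective (algebraMap R (R ⧸ I)) := Ideal.Quotient.mk_surjective
    haveI : TensorProduct.CompatibleSMul R (R ⧸ I) M (∀ i, Q i) :=
      TensorProduct.CompatibleSMul.of_algebraMap_surjective _ _ hsurj
    haveI : ∀ i, TensorProduct.CompatibleSMul R (R ⧸ I) M (Q i) := fun i =>
      TensorProduct.CompatibleSMul.of_algebraMap_surjective _ _ hsurj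
    let E := TensorProduct.equivOfCompatibleSMul R (R ⧸ I) R M (∀ i, Q i)
    let Ei := fun i => TensorProduct.equivOfCompatibleSMul R (R ⧸ I) R M (Q i)
    have hcomm : ∀ x : TensorProduct (R ⧸ I) M (∀ i, Q i),
        TensorProduct.piRightHom R R M Q (E x) =
          fun i => Ei i (TensorProduct.piRightHom (R ⧸ I) (R ⧸ I) M Q x i) := by
      intro x
      induction x using TensorProduct.induction_on with
      | zero => funext i; simp
      | tmul m q => funext i; rfl
      | add a b ha hb =>
        rw [map_add, map_add, ha, hb, map_add]
        funext i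
        simp
    rw [injective_iff_map_eq_zero]
    intro x hx
    have h1 : TensorProduct.piRightHom R R M Q (E x) = 0 := by
      rw [hcomm, hx]
      funext i
      simp
    have h2 : E x = 0 := hM ι Q (h1.trans (map_zero _).symm)
    exact E.injective (h2.trans (map_zero _).symm)
  · intro hM
    have : Module.FinitePresentation R (R ⧸ I) :=
      Module.finitePresentation_of_surjective (Submodule.mkQ I) (Submodule.mkQ_surjective I)
        (by rw [Submodule.ker_mkQ]; exact hI)
    exact Groth.Agent.Lib.helper13.ml_restrictScalars_of_finitePresentation R (R ⧸ I) M hM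

end Groth.Agent.S6345
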