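import Groth.Statements.S6347
import Mathlib
import Groth.Agent.Lib.Helper13.MLfp
-- import your own Groth.Agent.* helpers here

set_option autoImplicit false
universe u
open CAlg

namespace Groth.Agent.S6347


open TensorProduct Groth.Agent.Lib.helper13 in
/-- Over a Noetherian ring, `P ⊗ R^A → (P ⊗ R)^A` is injective for every module `P`. -/
theorem piRightHom_const_injective (R : Type u) [CommRing R] [IsNoetherianRing R] (A : Type u)
    (P : Type u) [AddCommGroup P] [Module R P] :
    Function.Injective (TensorProduct.piRightHom R R P (fun _ : A => R)) := by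
  rw [injective_iff_map_eq_zero]
  intro x hx
  obtain ⟨J, hJ, y, rfl⟩ := Submodule.exists_fg_le_eq_rTensor_subtype x
  have : Module.Finite R J := Module.Finite.iff_fg.mpr hJ
  have : Module.FinitePresentation R J := Module.finitePresentation_of_finite R J
  rw [Groth.Agent.Lib.helper28.piRightHom_rTensor] at hx
  have hinj : Function.Injective (J.subtype.rTensor R) :=
    Module.Flat.rTensor_preserves_injective_linearMap _ J.injective_subtype
  have h1 : TensorProduct.piRightHom R R J (fun _ : A => R) y = 0 := by
    funext a
    apply hinj
    rw [Pi.zero_apply, map_zero]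
    exact congrFun hx a
  have h2 : y = 0 := ml_of_finitePresentation R J A (fun _ => R) (h1.trans (map_zero _).symm)
  rw [h2, map_zero]

open TensorProduct Groth.Agent.Lib.helper13 in
theorem flat_pi (R : Type u) [CommRing R] [IsNoetherianRing R] (A : Type u) :
    Module.Flat R (A → R) := by
  rw [Module.Flat.iff_rTensor_injective']
  intro I
  rw [injective_iff_map_eq_zero]
  intro x hx
  have : Module.FinitePresentation R I := Module.finitePresentation_of_finite R I
  have h0 := Groth.Agent.Lib.helper28.piRightHom_rTensor (I.subtype) (fun _ : A => R) x
  rw [hx, map_zero] at h0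
  have hinj : Function.Injective (I.subtype.rTensor R) :=
    Module.Flat.rTensor_preserves_injective_linearMap _ I.injective_subtype
  have h1 : TensorProduct.piRightHom R R I (fun _ : A => R) x = 0 := by
    funext a
    apply hinj
    rw [Pi.zero_apply, map_zero]
    exact (congrFun h0 a).symm
  exact ml_of_finitePresentation R I A (fun _ => R) (h1.trans (map_zero _).symm)

open TensorProduct Groth.Agent.Lib.helper13 in
theorem ml_pi (R : Type u) [CommRing R] [IsNoetherianRing R] (A : Type u) :
    CAlg.IsMittagLeffler R (A → R) := by
  intro ι Q _ _
  rw [injective_iff_map_eq_zero]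
  intro x hx
  have key : ∀ (z : (A → R) ⊗[R] (∀ i, Q i)) (a : A) (i : ι),
      (TensorProduct.rid R (∀ i, Q i) (TensorProduct.piRightHom R R (∀ i, Q i) (fun _ : A => R)
        (TensorProduct.comm R _ _ z) a)) i
      = TensorProduct.rid R (Q i) (TensorProduct.piRightHom R R (Q i) (fun _ : A => R)
        (TensorProduct.comm R _ _ (TensorProduct.piRightHom R R (A → R) Q z i)) a) := by
    intro z a i
    induction z using TensorProduct.induction_on with
    | zero => simp
    | tmul f q => simp
    | add z1 z2 h1 h2 => simp only [map_add, Pi.add_apply, h1, h2]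
  apply (TensorProduct.comm R (A → R) (∀ i, Q i)).injective
  rw [map_zero]
  apply piRightHom_const_injective R A (∀ i, Q i)
  rw [map_zero]
  funext a
  apply (TensorProduct.rid R (∀ i, Q i)).injective
  funext i
  rw [key, hx]
  simp

/-- Over a Noetherian ring R, the product module R^A (functions from any set A to R) is flat and
Mittag-Leffler. -/
theorem result (R : Type u) [CommRing R] [IsNoetherianRing R]
    (A : Type u) : Module.Flat R (A → R) ∧ CAlg.IsMittagLeffler R (A → R) := by
  exact ⟨flat_pi R A, ml_pi R A⟩

end Groth.Agent.S6347
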