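import Groth.Statements.S6348
import Mathlib
-- import your own Groth.Agent.* helpers here

set_option autoImplicit false
universe u
open scoped TensorProduct
open CAlg

namespace Groth.Agent.S6348

/-- For a ring map R → S and a Mittag-Leffler R-module M, the S-module S ⊗_R M is Mittag-Leffler. (The
companion parts on flat modules, projective modules and direct sums of countably generated modules
are standard base-change facts.) -/
theorem result (R S : Type u) [CommRing R] [CommRing S] [Algebra R S] (M : Type u)
    [AddCommGroup M] [Module R M] (hM : CAlg.IsMittagLeffler R M) :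
    CAlg.IsMittagLeffler S (S ⊗[R] M) := by
  intro ι Q _ _
  letI instR : ∀ i, Module R (Q i) := fun i => Module.compHom (Q i) (algebraMap R S)
  haveI instT : ∀ i, IsScalarTower R S (Q i) := fun i => IsScalarTower.of_compHom R S (Q i)
  -- the comparison equivalence
  let e : ∀ (P : Type u) [AddCommGroup P] [Module S P] [Module R P] [IsScalarTower R S P],
      ((S ⊗[R] M) ⊗[S] P) ≃+ (M ⊗[R] P) := fun P _ _ _ _ =>
    ((TensorProduct.comm S (S ⊗[R] M) P).toAddEquiv.trans
      (TensorProduct.AlgebraTensorModule.cancelBaseChange R S S P M).toAddEquiv).trans
      (TensorProduct.comm R P M).toAddEquiv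
  have he : ∀ (P : Type u) [AddCommGroup P] [Module S P] [Module R P] [IsScalarTower R S P]
      (s : S) (m : M) (p : P), e P ((s ⊗ₜ[R] m) ⊗ₜ[S] p) = m ⊗ₜ[R] (s • p) := by
    intro P _ _ _ _ s m p
    simp [e]
  have hcomm : ∀ x : (S ⊗[R] M) ⊗[S] (∀ i, Q i),
      TensorProduct.piRightHom R R M Q (e (∀ i, Q i) x) =
        fun i => e (Q i) (TensorProduct.piRightHom S S (S ⊗[R] M) Q x i) := by
    intro x
    induction x using TensorProduct.induction_on with
    | zero =>
      funext i
      simp
    | tmul y q =>
      induction y using TensorProduct.induction_on with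
      | zero =>
        funext i
        simp
      | tmul s m =>
        funext i
        rw [he, TensorProduct.piRightHom_tmul, TensorProduct.piRightHom_tmul, he]
        rfl
      | add a b ha hb =>
        rw [TensorProduct.add_tmul, map_add, map_add, ha, hb, map_add]
        funext i
        simp
    | add a b ha hb =>
      rw [map_add, map_add, ha, hb, map_add]
      funext i
      simp
  rw [injective_iff_map_eq_zero]
  intro x hx
  have h1 : TensorProduct.piRightHom R R M Q (e (∀ i, Q i) x) = 0 := by
    rw [hcomm, hx]
    funext i
    simp
  have h2 : e (∀ i, Q i) x = 0 := by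
    apply hM ι Q
    rw [h1, map_zero]
  exact (e (∀ i, Q i)).injective (by rw [h2, map_zero])

end Groth.Agent.S6348
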