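import Groth.Statements.S6351
import Mathlib.LinearAlgebra.TensorProduct.Quotient
import Mathlib.LinearAlgebra.Finsupp.LinearCombination
import Mathlib.Tactic.Abel
import Mathlib.LinearAlgebra.TensorProduct.RightExactness

set_option autoImplicit false
universe u
open scoped TensorProduct
open CAlg

namespace Groth.Agent.S6351

open TensorProduct

section
variable {R : Type u} [CommRing R] (I : Ideal R) {M : Type u} [AddCommGroup M] [Module R M]

/-- nilpotent Nakayama -/
lemma nak_sup (hI : IsNilpotent I) (N : Submodule R M) (h : (⊤ : Submodule R M) ≤ N ⊔ I • ⊤) : N = ⊤ := by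
  have key : ∀ k : ℕ, (⊤ : Submodule R M) ≤ N ⊔ I ^ k • ⊤ := by
    intro k
    induction k with
    | zero => simp
    | succ k ih =>
      calc (⊤ : Submodule R M) ≤ N ⊔ I ^ k • ⊤ := ih
        _ ≤ N ⊔ I ^ k • (N ⊔ I • ⊤) := sup_le_sup_left (Submodule.smul_mono le_rfl h) _
        _ ≤ N ⊔ I ^ (k + 1) • ⊤ := by
          rw [Submodule.smul_sup, ← mul_smul, ← pow_succ]
          exact sup_le le_sup_left (sup_le (le_sup_of_le_left Submodule.smul_le_right) le_sup_right)
  obtain ⟨n, hn⟩ := hI
  have := key n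
  rw [hn, Submodule.zero_eq_bot, Submodule.bot_smul, sup_bot_eq] at this
  exact eq_top_iff.2 this

lemma nak_le (hI : IsNilpotent I) (K : Submodule R M) (h : K ≤ I • K) : K = ⊥ := by
  have key : ∀ k : ℕ, K ≤ I ^ k • K := by
    intro k
    induction k with
    | zero => simp
    | succ k ih =>
      calc K ≤ I • K := h
        _ ≤ I • (I ^ k • K) := Submodule.smul_mono le_rfl ih
        _ = I ^ (k + 1) • K := by rw [← mul_smul, ← pow_succ']
  obtain ⟨n, hn⟩ := hI
  have := key n
  rw [hn, Submodule.zero_eq_bot, Submodule.bot_smul] at this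
  exact eq_bot_iff.2 this

lemma span_part {A : Type u} (x : A → M)
    (hsp : Submodule.span (R ⧸ I) (Set.range fun a => (1 : R ⧸ I) ⊗ₜ[R] x a) = ⊤) :
    (⊤ : Submodule R M) ≤ Submodule.span R (Set.range x) ⊔ I • ⊤ := by
  intro m _
  have hm : (1 : R ⧸ I) ⊗ₜ[R] m ∈ Submodule.span (R ⧸ I) (Set.range fun a => (1 : R ⧸ I) ⊗ₜ[R] x a) := by
    rw [hsp]; trivial
  have key : ∀ t ∈ Submodule.span (R ⧸ I) (Set.range fun a => (1 : R ⧸ I) ⊗ₜ[R] x a),
      ∃ n ∈ Submodule.span R (Set.range x), t = (1 : R ⧸ I) ⊗ₜ[R] n := by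
    intro t ht
    induction ht using Submodule.span_induction with
    | mem t ht =>
      obtain ⟨a, rfl⟩ := ht
      exact ⟨x a, Submodule.subset_span ⟨a, rfl⟩, rfl⟩
    | zero => exact ⟨0, zero_mem _, by simp⟩
    | add t₁ t₂ _ _ h₁ h₂ =>
      obtain ⟨n₁, hn₁, rfl⟩ := h₁
      obtain ⟨n₂, hn₂, rfl⟩ := h₂
      exact ⟨n₁ + n₂, add_mem hn₁ hn₂, by rw [TensorProduct.tmul_add]⟩
    | smul q t _ h =>
      obtain ⟨n, hn, rfl⟩ := h
      obtain ⟨r, rfl⟩ := Ideal.Quotient.mk_surjective q
      refine ⟨r • n, Submodule.smul_mem _ _ hn, ?_⟩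
      rw [TensorProduct.smul_tmul', smul_eq_mul, mul_one, ← TensorProduct.smul_tmul]
      congr 1
      rw [← Ideal.Quotient.algebraMap_eq, Algebra.smul_def, mul_one]
  obtain ⟨n, hn, hmn⟩ := key _ hm
  have h0 : (1 : R ⧸ I) ⊗ₜ[R] (m - n) = 0 := by rw [TensorProduct.tmul_sub, hmn, sub_self]
  have h1 := congrArg (TensorProduct.quotTensorEquivQuotSMul M I) h0
  rw [TensorProduct.quotTensorEquivQuotSMul_mk_one_tmul, map_zero, Submodule.Quotient.mk_eq_zero] at h1
  have : m = n + (m - n) := by abel
  rw [this]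
  exact Submodule.add_mem_sup hn h1


/-- multiplication `I ⊗ F → F`. -/
noncomputable def muF (F : Type u) [AddCommGroup F] [Module R F] : (I ⊗[R] F) →ₗ[R] F :=
  TensorProduct.lift ((LinearMap.lsmul R F).comp I.subtype)

@[simp] lemma muF_tmul (F : Type u) [AddCommGroup F] [Module R F] (i : I) (f : F) :
    muF I F (i ⊗ₜ f) = (i : R) • f := by
  simp [muF]

lemma exists_muF (F : Type u) [AddCommGroup F] [Module R F] (f : F) (hf : f ∈ (I • ⊤ : Submodule R F)) :
    ∃ t, muF I F t = f := by
  refine Submodule.smul_induction_on hf ?_ ?_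
  · intro i hi g _
    exact ⟨(⟨i, hi⟩ : I) ⊗ₜ g, by simp⟩
  · rintro _ _ ⟨t₁, rfl⟩ ⟨t₂, rfl⟩
    exact ⟨t₁ + t₂, map_add _ _ _⟩

lemma muF_nat {F : Type u} [AddCommGroup F] [Module R F] (π : F →ₗ[R] M) (t : I ⊗[R] F) :
    (I.subtype.rTensor M) (π.lTensor I t) = (1 : R) ⊗ₜ[R] π (muF I F t) := by
  induction t using TensorProduct.induction_on with
  | zero => simp
  | add x y hx hy => simp only [map_add, hx, hy, TensorProduct.tmul_add]
  | tmul i f =>
    simp only [LinearMap.lTensor_tmul, LinearMap.rTensor_tmul, Submodule.subtype_apply, muF_tmul,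
      map_smul]
    rw [TensorProduct.tmul_smul, TensorProduct.smul_tmul', smul_eq_mul, mul_one]

lemma muF_mem {F : Type u} [AddCommGroup F] [Module R F] (K : Submodule R F) (y : I ⊗[R] K) :
    muF I F (K.subtype.lTensor I y) ∈ I • K := by
  induction y using TensorProduct.induction_on with
  | zero => simp
  | add x y hx hy => rw [map_add, map_add]; exact add_mem hx hy
  | tmul i κ =>
    simp only [LinearMap.lTensor_tmul, Submodule.subtype_apply, muF_tmul]
    exact Submodule.smul_mem_smul i.2 κ.2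

lemma li_part (hI : IsNilpotent I) (htor : Function.Injective ((Submodule.subtype I).rTensor M))
    {A : Type u} (x : A → M)
    (hli : LinearIndependent (R ⧸ I) (fun a => (1 : R ⧸ I) ⊗ₜ[R] x a))
    (hsurj : Submodule.span R (Set.range x) = ⊤) : LinearIndependent R x := by
  classical
  rw [linearIndependent_iff_ker]
  set π := Finsupp.linearCombination R x with hπ
  have hπs : Function.Surjective π := by
    rw [← LinearMap.range_eq_top, hπ, Finsupp.range_linearCombination, hsurj]
  apply nak_le I hI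
  intro k hk
  rw [LinearMap.mem_ker] at hk
  -- all coordinates in I
  have hcoord : ∀ a, k a ∈ I := by
    intro a
    rw [linearIndependent_iff] at hli
    have h0 : Finsupp.linearCombination (R ⧸ I) (fun a => (1 : R ⧸ I) ⊗ₜ[R] x a)
        (k.mapRange (Ideal.Quotient.mk I) (map_zero _)) = 0 := by
      rw [Finsupp.linearCombination_apply, Finsupp.sum_mapRange_index (by simp)]
      have : (k.sum fun a r => (Ideal.Quotient.mk I r) • ((1 : R ⧸ I) ⊗ₜ[R] x a)) =
          (1 : R ⧸ I) ⊗ₜ[R] (π k) := by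
        rw [hπ, Finsupp.linearCombination_apply, Finsupp.sum, Finsupp.sum, TensorProduct.tmul_sum]
        apply Finset.sum_congr rfl
        intro a _
        rw [TensorProduct.smul_tmul', smul_eq_mul, mul_one, TensorProduct.tmul_smul,
          TensorProduct.smul_tmul', ← Ideal.Quotient.algebraMap_eq, Algebra.smul_def, mul_one]
      rw [this, hk, TensorProduct.tmul_zero]
    have h1 := hli _ h0
    have h2 := DFunLike.congr_fun h1 a
    rw [Finsupp.mapRange_apply, Finsupp.zero_apply, Ideal.Quotient.eq_zero_iff_mem] at h2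
    exact h2
  have hkI : k ∈ (I • ⊤ : Submodule R (A →₀ R)) := by
    rw [← Finsupp.sum_single k, Finsupp.sum]
    refine Submodule.sum_mem _ fun a _ => ?_
    have : Finsupp.single a (k a) = (k a) • Finsupp.single a (1 : R) := by
      rw [Finsupp.smul_single, smul_eq_mul, mul_one]
    rw [this]
    exact Submodule.smul_mem_smul (hcoord a) trivial
  obtain ⟨t, ht⟩ := exists_muF I (A →₀ R) k hkI
  have h3 : (I.subtype.rTensor M) (π.lTensor I t) = 0 := by
    rw [muF_nat, ht, hk, TensorProduct.tmul_zero]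
  have h4 : π.lTensor I t = 0 := by
    apply htor
    rw [h3, map_zero]
  have hfg : Function.Exact (LinearMap.ker π).subtype π := LinearMap.exact_subtype_ker_map π
  have hex := lTensor_exact (M := ↥(LinearMap.ker π)) (N := A →₀ R) (P := M) I hfg hπs
  obtain ⟨y, hy⟩ := (hex t).1 h4
  rw [← ht, ← hy]
  exact muF_mem I (LinearMap.ker π) y

end


/-- Let I be a nilpotent ideal of a commutative ring R and M an R-module with Tor_1^R(R/I, M) = 0, i.e.
I ⊗_R M → M injective. If a family of elements of M maps to a basis of the R/I-module M/IM = R/I ⊗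
M, then it is a basis of M over R. -/
theorem result (R : Type u) [CommRing R] (I : Ideal R)
    (hI : IsNilpotent I) (M : Type u) [AddCommGroup M] [Module R M]
    (htor : Function.Injective ((Submodule.subtype I).rTensor M)) {A : Type u} (x : A → M)
    (hli : LinearIndependent (R ⧸ I) (fun a => (1 : R ⧸ I) ⊗ₜ[R] x a))
    (hsp : Submodule.span (R ⧸ I) (Set.range fun a => (1 : R ⧸ I) ⊗ₜ[R] x a) = ⊤) :
    LinearIndependent R x ∧ Submodule.span R (Set.range x) = ⊤ := by
  have hspan : Submodule.span R (Set.range x) = ⊤ := nak_sup I hI _ (span_part I x hsp)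
  exact ⟨li_part I hI htor x hli hspan, hspan⟩

end Groth.Agent.S6351
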