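import Groth.Statements.S6352
import Mathlib
import Groth.Agent.Lib.Helper8.LocalFlat

set_option autoImplicit false
universe u
open scoped TensorProduct
open CAlg

namespace Groth.Agent.S6352

section Aux

open Groth.Agent.Lib.helper8

variable {R R' : Type u} [CommRing R] [CommRing R'] [Algebra R R'] (I : Ideal R)

/-- The filtration `I_k = I ∩ (I R')^k` of `I`. -/
def Ik (k : ℕ) : Ideal R := I ⊓ ((I.map (algebraMap R R')) ^ k).comap (algebraMap R R')

theorem Ik_succ_le (k : ℕ) : Ik (R' := R') I (k + 1) ≤ Ik (R' := R') I k := by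
  intro r hr
  exact ⟨hr.1, Ideal.pow_le_pow_right (Nat.le_succ k) hr.2⟩

/-- The map `I_k → (I R')^k`. -/
def gk (k : ℕ) : ↥(Ik (R' := R') I k) →ₗ[R] ↥((I.map (algebraMap R R')) ^ k) where
  toFun r := ⟨algebraMap R R' r.1, r.2.2⟩
  map_add' x y := by ext; simp
  map_smul' c x := by ext; simp [Algebra.smul_def]

/-- The map `I_k → R'`. -/
def jk (k : ℕ) : ↥(Ik (R' := R') I k) →ₗ[R] R' :=
  (((I.map (algebraMap R R')) ^ k).subtype.restrictScalars R) ∘ₗ gk I k

theorem jk_apply (k : ℕ) (r : ↥(Ik (R' := R') I k)) : jk I k r = algebraMap R R' r.1 := rfl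

variable (M : Type u) [AddCommGroup M] [Module R M]

theorem claim (hinj : Function.Injective (algebraMap R R'))
    [Module.Flat (R ⧸ I) ((R ⧸ I) ⊗[R] M)] [Module.Flat R' (R' ⊗[R] M)]
    (n : ℕ) (hn : I ^ n = ⊥) :
    ∀ d k : ℕ, n ≤ k + d → Function.Injective ((jk (R' := R') I k).rTensor M) := by
  intro d
  induction d with
  | zero =>
    intro k hk
    have hbot : Ik (R' := R') I k = ⊥ := by
      rw [eq_bot_iff]
      intro r hr
      have h1 : (I.map (algebraMap R R')) ^ k = ⊥ := by
        rw [← Ideal.map_pow, show I ^ k = ⊥ from ?_, Ideal.map_bot]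
        rw [eq_bot_iff, ← hn]
        exact Ideal.pow_le_pow_right (by omega)
      have h2 : algebraMap R R' r ∈ (⊥ : Ideal R') := h1 ▸ hr.2
      rw [Ideal.mem_bot] at h2
      rw [Ideal.mem_bot]
      exact hinj (by rw [h2, map_zero])
    haveI : Subsingleton ↥(Ik (R' := R') I k) := by
      rw [hbot]; infer_instance
    haveI : Subsingleton (↥(Ik (R' := R') I k) ⊗[R] M) := inferInstance
    exact Function.injective_of_subsingleton _
  | succ d ih =>
    intro k hk
    have ihk := ih (k + 1) (by omega)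
    set I' := I.map (algebraMap R R') with hI'
    let ι : ↥(Ik (R' := R') I (k + 1)) →ₗ[R] ↥(Ik (R' := R') I k) :=
      Submodule.inclusion (Ik_succ_le I k)
    let ι' : ↥(I' ^ (k + 1)) →ₗ[R] ↥(I' ^ k) :=
      (Submodule.inclusion (Ideal.pow_le_pow_right (Nat.le_succ k))).restrictScalars R
    let π := (LinearMap.range ι).mkQ
    let π' := (LinearMap.range ι').mkQ
    have hle : LinearMap.range ι ≤ (LinearMap.range ι').comap (gk (R' := R') I k) := by
      rintro _ ⟨r, rfl⟩
      exact ⟨⟨algebraMap R R' r.1, r.2.2⟩, rfl⟩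
    let gbar := Submodule.mapQ (LinearMap.range ι) (LinearMap.range ι') (gk (R' := R') I k) hle
    have hgbar : Function.Injective gbar := by
      rw [injective_iff_map_eq_zero]
      intro q hq
      obtain ⟨r, rfl⟩ := Submodule.mkQ_surjective _ q
      rw [Submodule.mkQ_apply, Submodule.mapQ_apply, Submodule.Quotient.mk_eq_zero] at hq
      obtain ⟨y, hy⟩ := hq
      rw [Submodule.mkQ_apply, Submodule.Quotient.mk_eq_zero]
      have hmem : algebraMap R R' r.1 ∈ I' ^ (k + 1) := by
        have := congrArg Subtype.val hy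
        simp only [ι'] at this
        have h2 : (y : R') = algebraMap R R' r.1 := this
        rw [← h2]; exact y.2
      exact ⟨⟨r.1, r.2.1, hmem⟩, rfl⟩
    have htor₁ : ∀ a ∈ I, ∀ q : ↥(Ik (R' := R') I k) ⧸ LinearMap.range ι, a • q = 0 := by
      intro a ha q
      obtain ⟨r, rfl⟩ := Submodule.mkQ_surjective _ q
      rw [← map_smul, Submodule.mkQ_apply, Submodule.Quotient.mk_eq_zero]
      refine ⟨⟨a * r.1, I.mul_mem_right _ ha, ?_⟩, rfl⟩
      show algebraMap R R' (a * r.1) ∈ I' ^ (k + 1)
      rw [map_mul, pow_succ']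
      exact Ideal.mul_mem_mul (Ideal.mem_map_of_mem _ ha) r.2.2
    have htor₂ : ∀ a ∈ I, ∀ q : ↥(I' ^ k) ⧸ LinearMap.range ι', a • q = 0 := by
      intro a ha q
      obtain ⟨y, rfl⟩ := Submodule.mkQ_surjective _ q
      rw [← map_smul, Submodule.mkQ_apply, Submodule.Quotient.mk_eq_zero]
      refine ⟨⟨algebraMap R R' a * y.1, ?_⟩, ?_⟩
      · rw [pow_succ']
        exact Ideal.mul_mem_mul (Ideal.mem_map_of_mem _ ha) y.2
      · ext
        simp [ι', Algebra.smul_def]
    have hG : Function.Injective (gbar.rTensor M) :=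
      Mil.rTensor_injective_of_torsion I M htor₁ htor₂ gbar hgbar
    have hF : Function.Injective (((I' ^ k).subtype.restrictScalars R).rTensor M) :=
      Mil.rTensor_injective_of_flat_baseChange (R := R) (S := R') M (I' ^ k).subtype
        Subtype.val_injective
    have hex : Function.Exact (ι.rTensor M) (π.rTensor M) :=
      rTensor_exact M (LinearMap.exact_map_mkQ_range ι) (Submodule.mkQ_surjective _)
    have hsq : gbar ∘ₗ π = π' ∘ₗ gk (R' := R') I k := Submodule.mapQ_mkQ _ _ _
    have hcomp : jk (R' := R') I (k + 1) = jk (R' := R') I k ∘ₗ ι := LinearMap.ext fun _ => rfl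
    rw [injective_iff_map_eq_zero]
    intro x hx
    have h1 : (gk (R' := R') I k).rTensor M x = 0 := by
      apply hF
      rw [map_zero, ← LinearMap.comp_apply, ← LinearMap.rTensor_comp]
      exact hx
    have h2 : π.rTensor M x = 0 := by
      apply hG
      rw [map_zero, ← LinearMap.comp_apply, ← LinearMap.rTensor_comp, hsq, LinearMap.rTensor_comp,
        LinearMap.comp_apply, h1, map_zero]
    obtain ⟨x₁, rfl⟩ := (hex x).mp h2
    have h3 : (jk (R' := R') I (k + 1)).rTensor M x₁ = 0 := by
      rw [hcomp, LinearMap.rTensor_comp, LinearMap.comp_apply]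
      exact hx
    rw [(injective_iff_map_eq_zero _).mp ihk x₁ h3, map_zero]

end Aux

/-- Let R → R' be an injective ring map, I ⊆ R a nilpotent ideal and M an R-module. Then flatness of M
over R follows from flatness of M/IM over R/I together with flatness of R' ⊗_R M over R'. -/
theorem result (R R' : Type u) [CommRing R] [CommRing R']
    [Algebra R R'] (hinj : Function.Injective (algebraMap R R')) (I : Ideal R) (hI : IsNilpotent I)
    (M : Type u) [AddCommGroup M] [Module R M] [Module.Flat (R ⧸ I) ((R ⧸ I) ⊗[R] M)]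
    [Module.Flat R' (R' ⊗[R] M)] : Module.Flat R M := by
  obtain ⟨n, hn⟩ := hI
  have hn' : I ^ n = ⊥ := hn
  have h0 := claim (R' := R') I M hinj n hn' n 0 (by omega)
  have hle : I ≤ Ik (R' := R') I 0 := by
    intro r hr
    refine ⟨hr, ?_⟩
    rw [pow_zero, Ideal.one_eq_top]
    trivial
  have hge : Ik (R' := R') I 0 ≤ I := inf_le_left
  have h1 : Function.Injective (I.subtype.rTensor M) := by
    rw [injective_iff_map_eq_zero]
    intro x hx
    have h2 : (jk (R' := R') I 0).rTensor M ((Submodule.inclusion hle).rTensor M x) = 0 := by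
      rw [← LinearMap.comp_apply, ← LinearMap.rTensor_comp]
      have : jk (R' := R') I 0 ∘ₗ Submodule.inclusion hle = Algebra.linearMap R R' ∘ₗ I.subtype :=
        LinearMap.ext fun _ => rfl
      rw [this, LinearMap.rTensor_comp, LinearMap.comp_apply, hx, map_zero]
    have h3 := (injective_iff_map_eq_zero _).mp h0 _ h2
    have h4 : (Submodule.inclusion hge) ∘ₗ (Submodule.inclusion hle) = LinearMap.id :=
      LinearMap.ext fun _ => rfl
    have h5 := congrArg ((Submodule.inclusion hge).rTensor M) h3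
    rw [← LinearMap.comp_apply, ← LinearMap.rTensor_comp, h4, LinearMap.rTensor_id,
      LinearMap.id_apply, map_zero] at h5
    exact h5
  exact Groth.Agent.Lib.helper8.LocalFlat.flat_of_isNilpotent I M h1 ⟨n, hn⟩

end Groth.Agent.S6352
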