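import Groth.Statements.S6353
import Mathlib

set_option autoImplicit false
universe u
open CAlg

namespace Groth.Agent.S6353



open PrimeSpectrum in
/-- For a commutative ring R, I ↦ V(I) is a bijection between pure ideals (R/I flat over R) and closed
subsets of Spec R stable under generalization. Stated here as: V(I) is stable under generalization
for I pure, and every closed generalization-stable subset is V(I) for some pure I (injectivity on
pure ideals being the standard fact that pure ideals with the same zero locus coincide). -/
theorem result (R : Type u) [CommRing R] :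
    (∀ I : Ideal R, I.Pure → StableUnderGeneralization (zeroLocus (I : Set R))) ∧
      ∀ Z : Set (PrimeSpectrum R), IsClosed Z → StableUnderGeneralization Z →
        ∃ I : Ideal R, I.Pure ∧ zeroLocus (I : Set R) = Z := by
  refine ⟨?_, ?_⟩
  · intro I hI x y hyx hx
    have : I.Pure := hI
    rw [mem_zeroLocus] at hx ⊢
    have hle : y.asIdeal ≤ x.asIdeal := (PrimeSpectrum.le_iff_specializes y x).mpr hyx
    intro a ha
    obtain ⟨b, hb, hab⟩ := Ideal.exists_eq_mul_of_pure (I := I) ha
    have h0 : a * (1 - b) ∈ y.asIdeal := by
      have : a * (1 - b) = 0 := by linear_combination hab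
      rw [this]
      exact zero_mem _
    rcases y.isPrime.mem_or_mem h0 with h | h
    · exact h
    · exfalso
      apply x.isPrime.ne_top
      rw [Ideal.eq_top_iff_one]
      have h1 : (1 : R) = (1 - b) + b := by ring
      rw [h1]
      exact x.asIdeal.add_mem (hle h) (hx hb)
  · intro Z hZc hZg
    set J : Ideal R := vanishingIdeal Z with hJ
    have hZJ : zeroLocus (J : Set R) = Z := by
      rw [hJ, zeroLocus_vanishingIdeal_eq_closure, hZc.closure_eq]
    let I : Ideal R :=
      { carrier := {x | ∃ f ∈ J, x = x * f}
        zero_mem' := ⟨0, J.zero_mem, by simp⟩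
        add_mem' := by
          rintro x y ⟨f, hf, hxf⟩ ⟨g, hg, hyg⟩
          refine ⟨f + g - f * g, J.sub_mem (J.add_mem hf hg) (J.mul_mem_left f hg), ?_⟩
          linear_combination (1 - g) * hxf + (1 - f) * hyg
        smul_mem' := by
          rintro a x ⟨f, hf, hxf⟩
          exact ⟨f, hf, by rw [smul_eq_mul, mul_assoc, ← hxf]⟩ }
    have hIJ : I ≤ J := by
      rintro x ⟨f, hf, hxf⟩
      rw [hxf]
      exact J.mul_mem_left x hf
    have hVI : zeroLocus (I : Set R) = Z := by
      apply le_antisymm
      · intro p hp
        rw [mem_zeroLocus] at hp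
        let S : Submonoid R :=
          { carrier := {t | ∃ s j, s ∉ p.asIdeal ∧ j ∈ J ∧ t = s * (1 + j)}
            one_mem' := ⟨1, 0, (Ideal.ne_top_iff_one _).mp p.isPrime.ne_top, J.zero_mem, by simp⟩
            mul_mem' := by
              rintro _ _ ⟨s, j, hs, hj, rfl⟩ ⟨s', j', hs', hj', rfl⟩
              refine ⟨s * s', j + j' + j * j', ?_, ?_, by ring⟩
              · exact fun h => (p.isPrime.mem_or_mem h).elim hs hs'
              · exact J.add_mem (J.add_mem hj hj') (J.mul_mem_left j hj') }
        have h0 : (0 : R) ∉ S := by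
          rintro ⟨s, j, hs, hj, h0⟩
          apply hs
          apply hp
          exact ⟨-j, J.neg_mem hj, by linear_combination (-1 : R) * h0⟩
        obtain ⟨q, hqprime, -, hqS⟩ := Ideal.exists_le_prime_disjoint (⊥ : Ideal R) S (by
          rw [Set.disjoint_left]
          intro x hx hxS
          rw [SetLike.mem_coe, Ideal.mem_bot] at hx
          exact h0 (hx ▸ hxS))
        have hqp : q ≤ p.asIdeal := by
          intro x hx
          by_contra hxp
          exact Set.disjoint_left.mp hqS hx ⟨x, 0, hxp, J.zero_mem, by simp⟩
        have hqJ : q ⊔ J ≠ ⊤ := by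
          intro htop
          have h1 : (1 : R) ∈ q ⊔ J := htop ▸ Submodule.mem_top
          obtain ⟨a, ha, j, hj, haj⟩ := Submodule.mem_sup.mp h1
          exact Set.disjoint_left.mp hqS ha
            ⟨1, -j, (Ideal.ne_top_iff_one _).mp p.isPrime.ne_top, J.neg_mem hj,
              by linear_combination haj⟩
        obtain ⟨m, hm, hle⟩ := Ideal.exists_le_maximal _ hqJ
        have hmZ : (⟨m, hm.isPrime⟩ : PrimeSpectrum R) ∈ Z := by
          rw [← hZJ, mem_zeroLocus]
          exact fun x hx => hle (Ideal.mem_sup_right hx)
        have hqZ : (⟨q, hqprime⟩ : PrimeSpectrum R) ∈ Z := by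
          refine hZg ?_ hmZ
          rw [← PrimeSpectrum.le_iff_specializes]
          exact fun x hx => hle (Ideal.mem_sup_left hx)
        rw [← hZJ, mem_zeroLocus] at hqZ ⊢
        exact fun x hx => hqp (hqZ hx)
      · rw [← hZJ]
        exact zeroLocus_anti_mono_ideal hIJ
    have hJrad : J ≤ I.radical := by
      rw [← vanishingIdeal_zeroLocus_eq_radical, hVI]
    have hpure : I.Pure := by
      refine Ideal.Pure.of_inf_eq_mul I fun K _ => le_antisymm ?_ Ideal.mul_le_inf
      rintro x ⟨hxI, hxK⟩
      obtain ⟨f, hf, hxf⟩ := hxI
      obtain ⟨n, hn⟩ := hJrad hf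
      have hxn : ∀ k : ℕ, x = x * f ^ k := by
        intro k
        induction k with
        | zero => simp
        | succ k ih =>
          rw [pow_succ, ← mul_assoc, ← ih]
          exact hxf
      have hx' : x = f ^ n * x := by
        rw [mul_comm]
        exact hxn n
      rw [hx']
      exact Ideal.mul_mem_mul hn hxK
    exact ⟨I, hpure, hVI⟩


end Groth.Agent.S6353
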