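import Groth.Statements.S6354
import Mathlib.RingTheory.Ideal.IdempotentFG
import Mathlib.Tactic.TFAE

set_option autoImplicit false
universe u
open CAlg

namespace Groth.Agent.S6354

section
variable {R : Type u} [CommRing R]

lemma pure_span_idem (e : R) (he : IsIdempotentElem e) : (Ideal.span {e}).Pure := by
  apply Ideal.Pure.of_isIdempotentElem ⟨{e}, by simp⟩
  rw [Ideal.isIdempotentElem_iff_of_fg _ ⟨{e}, by simp⟩]
  exact ⟨e, he, rfl⟩

lemma proj_of_idem (e : R) (he : IsIdempotentElem e) :
    Module.Projective R (R ⧸ Ideal.span {e}) := by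
  -- section s : R/(e) → R, x ↦ x (1 - e)
  let s : (R ⧸ Ideal.span {e}) →ₗ[R] R :=
    Submodule.liftQ (Ideal.span {e}) (LinearMap.mulRight R (1 - e)) (by
      rw [Ideal.span, Submodule.span_le]
      intro x hx
      have hx' : x = e := hx
      change x * (1 - e) = 0
      rw [hx', mul_sub, mul_one, he.eq, sub_self])
  refine Module.Projective.of_split s (Submodule.mkQ (Ideal.span {e})) ?_
  ext
  change Ideal.Quotient.mk _ (1 * (1 - e)) = Ideal.Quotient.mk _ 1
  rw [one_mul, Ideal.Quotient.eq, sub_sub_cancel_left]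
  exact neg_mem (Ideal.subset_span rfl)

lemma idem_of_proj (I : Ideal R) (h : Module.Projective R (R ⧸ I)) :
    ∃ e : R, IsIdempotentElem e ∧ I = Ideal.span {e} := by
  obtain ⟨s, hs⟩ := Module.projective_lifting_property (Submodule.mkQ I) LinearMap.id
    (Submodule.mkQ_surjective I)
  let e' : R := s (Ideal.Quotient.mk I 1)
  have h1 : Ideal.Quotient.mk I e' = 1 := by
    have := LinearMap.congr_fun hs (Ideal.Quotient.mk I 1)
    exact this
  have h2 : 1 - e' ∈ I := by
    rw [← Ideal.Quotient.eq, h1, map_one]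
  have h3 : ∀ x ∈ I, x * e' = 0 := by
    intro x hx
    have : x • e' = s (x • Ideal.Quotient.mk I 1) := (map_smul s x _).symm
    rw [smul_eq_mul] at this
    rw [this]
    have : x • Ideal.Quotient.mk I (1 : R) = 0 := by
      rw [← Ideal.Quotient.mk_eq_mk, ← Submodule.Quotient.mk_smul]
      rw [smul_eq_mul, mul_one, Submodule.Quotient.mk_eq_zero]
      exact hx
    rw [this, map_zero]
  have h4 : (1 - e') * e' = 0 := h3 _ h2
  refine ⟨1 - e', ?_, ?_⟩
  · change (1 - e') * (1 - e') = 1 - e'
    rw [mul_sub, mul_one, h4, sub_zero]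
  · apply le_antisymm
    · intro x hx
      rw [Ideal.mem_span_singleton']
      exact ⟨x, by rw [mul_sub, mul_one, h3 x hx, sub_zero]⟩
    · rw [Ideal.span_le]
      rintro _ rfl
      exact h2

end


open PrimeSpectrum in
/-- For an ideal I of a commutative ring R these four conditions are equivalent: (1) I is finitely
generated and pure; (2) I = (e) for some idempotent e; (3) I is pure with V(I) open in Spec R; (4)
R/I is projective as an R-module. -/
theorem result (R : Type u) [CommRing R] (I : Ideal R) :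
    List.TFAE [I.Pure ∧ I.FG, ∃ e : R, IsIdempotentElem e ∧ I = Ideal.span {e},
      I.Pure ∧ IsOpen (zeroLocus (I : Set R)), Module.Projective R (R ⧸ I)] := by
  tfae_have 1 → 2 := by
    rintro ⟨hp, hfg⟩
    haveI := hp
    exact (Ideal.isIdempotentElem_iff_of_fg I hfg).1 (Ideal.isIdempotentElem_of_pure I)
  tfae_have 2 → 1 := by
    rintro ⟨e, he, rfl⟩
    exact ⟨pure_span_idem e he, ⟨{e}, by simp⟩⟩
  tfae_have 2 → 3 := by
    rintro ⟨e, he, rfl⟩
    refine ⟨pure_span_idem e he, ?_⟩
    rw [PrimeSpectrum.zeroLocus_span, PrimeSpectrum.zeroLocus_eq_basicOpen_of_isIdempotentElem e he]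
    exact (PrimeSpectrum.basicOpen (1 - e)).2
  tfae_have 3 → 2 := by
    rintro ⟨hp, ho⟩
    haveI := hp
    have hc : IsClopen (PrimeSpectrum.zeroLocus (I : Set R)) := ⟨PrimeSpectrum.isClosed_zeroLocus _, ho⟩
    obtain ⟨e, he, h⟩ := PrimeSpectrum.isClopen_iff_zeroLocus.1 hc
    refine ⟨e, he, ?_⟩
    haveI := pure_span_idem e he
    rw [← Ideal.zeroLocus_inj_of_pure, h, PrimeSpectrum.zeroLocus_span]
  tfae_have 2 → 4 := by
    rintro ⟨e, he, rfl⟩
    exact proj_of_idem e he
  tfae_have 4 → 2 := idem_of_proj I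
  tfae_finish

end Groth.Agent.S6354
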