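import Groth.Statements.S6355
import Mathlib
import Groth.Agent.S6353
import Groth.Agent.S6354

set_option autoImplicit false
universe u
open CAlg

namespace Groth.Agent.S6355

open PrimeSpectrum Module in
attribute [local instance] Module.free_of_flat_of_isLocalRing in
/-- A map from a free module of rank `r(p)` which is surjective near `p`. -/
theorem exists_phi {R : Type u} [CommRing R] (M : Type u) [AddCommGroup M] [Module R M]
    [Module.Finite R M] [Module.Flat R M] (p : PrimeSpectrum R) :
    ∃ φ : (Fin (rankAtStalk M p) →₀ R) →ₗ[R] M,
      p ∉ Module.support R (M ⧸ LinearMap.range φ) := by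
  let Rₚ := Localization.AtPrime p.asIdeal
  let n := rankAtStalk M p
  let f : (Fin n →₀ R) →ₗ[R] Fin n →₀ Rₚ := Finsupp.mapRange.linearMap (Algebra.linearMap R Rₚ)
  let g : M →ₗ[R] LocalizedModule.AtPrime p.asIdeal M :=
    LocalizedModule.mkLinearMap p.asIdeal.primeCompl M
  obtain ⟨φ, -, -, hφps⟩ :=
    Module.exists_localizedMap_surjective_of_surjective p.asIdeal.primeCompl f g
      ((Module.finBasis Rₚ
        (LocalizedModule.AtPrime p.asIdeal M)).repr.restrictScalars R).symm.surjective
  have hφp : Function.Surjective (LocalizedModule.map p.asIdeal.primeCompl φ) :=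
    (IsLocalizedModule.map_surjective_iff_localizedModuleMap_surjective f g).mp hφps
  refine ⟨φ, ?_⟩
  rw [Module.notMem_support_iff]
  exact (φ.localizedMap_surjective_iff_subsingleton_localized_coker _).mp hφp

open PrimeSpectrum Module in
theorem rank_le_of_notMem_support {R : Type u} [CommRing R] (M : Type u) [AddCommGroup M]
    [Module R M] [Module.Finite R M] [Module.Flat R M] {n : ℕ} (φ : (Fin n →₀ R) →ₗ[R] M)
    (q : PrimeSpectrum R) (hq : q ∉ Module.support R (M ⧸ LinearMap.range φ)) :
    rankAtStalk M q ≤ n := by
  rw [Module.notMem_support_iff] at hq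
  have hsurj : Function.Surjective (LocalizedModule.map q.asIdeal.primeCompl φ) :=
    (φ.localizedMap_surjective_iff_subsingleton_localized_coker _).mpr hq
  have h1 := LinearMap.finrank_le_finrank_of_surjective hsurj
  have h2 : Module.finrank (Localization.AtPrime q.asIdeal)
      (LocalizedModule q.asIdeal.primeCompl (Fin n →₀ R)) = Module.finrank R (Fin n →₀ R) :=
    Module.finrank_of_isLocalizedModule_of_free (Localization.AtPrime q.asIdeal)
      (Mₛ := LocalizedModule q.asIdeal.primeCompl (Fin n →₀ R))
      q.asIdeal.primeCompl (LocalizedModule.mkLinearMap q.asIdeal.primeCompl (Fin n →₀ R))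
  have : Nontrivial R := q.nontrivial
  rw [h2, Module.finrank_finsupp_self, Fintype.card_fin] at h1
  exact h1

open PrimeSpectrum Module in
set_option backward.isDefEq.respectTransparency.types true in
theorem rank_away {R : Type u} [CommRing R] (M : Type u) [AddCommGroup M]
    [Module R M] [Module.Finite R M] [Module.Flat R M] (c : R)
    (m : PrimeSpectrum (Localization.Away c)) :
    rankAtStalk (LocalizedModule.Away c M) m =
      rankAtStalk M (PrimeSpectrum.comap (algebraMap R (Localization.Away c)) m) := by
  exact rankAtStalk_isBaseChange (LocalizedModule.isBaseChange (Submonoid.powers c) M) m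

open PrimeSpectrum Module in
theorem free_away {R : Type u} [CommRing R] (M : Type u) [AddCommGroup M]
    [Module R M] [Module.Finite R M] [Module.Flat R M] {n : ℕ} (φ : (Fin n →₀ R) →ₗ[R] M)
    (c : R) (hc : ∀ q ∈ (basicOpen c : Set (PrimeSpectrum R)),
      q ∉ Module.support R (M ⧸ LinearMap.range φ) ∧ rankAtStalk M q = n) :
    Module.Free (Localization.Away c) (LocalizedModule.Away c M) := by
  -- `c` is nilpotent on the cokernel
  have hcoker : Subsingleton (LocalizedModule (Submonoid.powers c) (M ⧸ LinearMap.range φ)) := by
    have hsub : Module.support R (M ⧸ LinearMap.range φ) ⊆ zeroLocus {c} := by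
      intro q hq
      by_contra hqc
      have hqc' : q ∈ (basicOpen c : Set (PrimeSpectrum R)) := by
        rw [mem_zeroLocus, Set.singleton_subset_iff] at hqc
        exact hqc
      exact (hc q hqc').1 hq
    rw [Module.support_eq_zeroLocus] at hsub
    have hrad : c ∈ (Module.annihilator R (M ⧸ LinearMap.range φ)).radical := by
      rw [← vanishingIdeal_zeroLocus_eq_radical]
      rw [mem_vanishingIdeal]
      intro q hq
      have := hsub hq
      rw [mem_zeroLocus, Set.singleton_subset_iff] at this
      exact this
    obtain ⟨k, hk⟩ := hrad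
    rw [LocalizedModule.subsingleton_iff]
    intro m
    exact ⟨c ^ k, ⟨k, rfl⟩, Module.mem_annihilator.mp hk m⟩
  have hsurj : Function.Surjective (LocalizedModule.map (Submonoid.powers c) φ) :=
    (φ.localizedMap_surjective_iff_subsingleton_localized_coker _).mpr hcoker
  have : Module.Free (Localization.Away c) (LocalizedModule.Away c (Fin n →₀ R)) :=
    Module.free_of_isLocalizedModule (Rₛ := Localization.Away c)
      (Mₛ := LocalizedModule.Away c (Fin n →₀ R)) (Submonoid.powers c)
      (LocalizedModule.mkLinearMap (Submonoid.powers c) (Fin n →₀ R))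
  let φc : LocalizedModule.Away c (Fin n →₀ R) →ₗ[Localization.Away c] LocalizedModule.Away c M :=
    LocalizedModule.map (Submonoid.powers c) φ
  have hsurj' : Function.Surjective φc := hsurj
  suffices hbij : Function.Bijective φc from
    Module.Free.of_equiv (LinearEquiv.ofBijective φc hbij)
  refine Module.bijective_of_surjective_of_rankAtStalk_eq (R := Localization.Away c)
    (M := LocalizedModule.Away c (Fin n →₀ R)) (N := LocalizedModule.Away c M)
    (φ := φc) hsurj' fun m _ ↦ ?_
  have hq : PrimeSpectrum.comap (algebraMap R (Localization.Away c)) ⟨m, inferInstance⟩ ∈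
      (basicOpen c : Set (PrimeSpectrum R)) := by
    show c ∉ (PrimeSpectrum.comap (algebraMap R (Localization.Away c)) ⟨m, inferInstance⟩).asIdeal
    intro hmem
    have hmem' : algebraMap R (Localization.Away c) c ∈ m := hmem
    have hunit : IsUnit (algebraMap R (Localization.Away c) c) :=
      IsLocalization.Away.algebraMap_isUnit c
    exact (Ideal.IsPrime.ne_top inferInstance) (Ideal.eq_top_of_isUnit_mem _ hmem' hunit)
  have e1 := rank_away M c ⟨m, inferInstance⟩
  have e2 := rank_away (Fin n →₀ R) c ⟨m, inferInstance⟩
  have : Nontrivial R :=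
    (PrimeSpectrum.comap (algebraMap R (Localization.Away c)) ⟨m, inferInstance⟩).nontrivial
  have e3 : rankAtStalk (Fin n →₀ R)
      (PrimeSpectrum.comap (algebraMap R (Localization.Away c)) ⟨m, inferInstance⟩) = n := by
    rw [rankAtStalk_eq_finrank_of_free]
    simp
  exact (e2.trans (e3.trans (hc _ hq).2.symm)).trans e1.symm



/-- For a commutative ring R the following are equivalent: (1) every subset of Spec R which is closed
and stable under generalization is open; (2) every finite flat R-module is finite locally free, i.e.
(for finite modules) projective. -/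
theorem result (R : Type u) [CommRing R] :
    (∀ Z : Set (PrimeSpectrum R), IsClosed Z → StableUnderGeneralization Z → IsOpen Z) ↔
      ∀ (M : Type u) [AddCommGroup M] [Module R M], Module.Finite R M → Module.Flat R M →
        Module.Projective R M := by
  constructor
  · intro h1 M _ _ hfin hflat
    have hA : ∀ q : PrimeSpectrum R, ∃ U : Set (PrimeSpectrum R), IsOpen U ∧ q ∈ U ∧
        ∀ q' ∈ U, Module.rankAtStalk M q' ≤ Module.rankAtStalk M q := by
      intro q
      obtain ⟨φ, hφ⟩ := exists_phi M q
      refine ⟨(Module.support R (M ⧸ LinearMap.range φ))ᶜ, ?_, hφ, fun q' hq' =>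
        rank_le_of_notMem_support M φ q' hq'⟩
      rw [isOpen_compl_iff, Module.support_eq_zeroLocus]
      exact PrimeSpectrum.isClosed_zeroLocus _
    have hfree : ∀ p : PrimeSpectrum R, ∃ c : R, c ∉ p.asIdeal ∧
        Module.Free (Localization.Away c) (LocalizedModule.Away c M) := by
      intro p
      obtain ⟨φ, hφ⟩ := exists_phi M p
      set Z : Set (PrimeSpectrum R) := {q | Module.rankAtStalk M p ≤ Module.rankAtStalk M q}
        with hZ
      have hZc : IsClosed Z := by
        rw [← isOpen_compl_iff, isOpen_iff_forall_mem_open]
        intro x hx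
        obtain ⟨U, hUo, hxU, hU⟩ := hA x
        refine ⟨U, ?_, hUo, hxU⟩
        intro y hy
        have h1 := hU y hy
        have h2 : ¬ (Module.rankAtStalk M p ≤ Module.rankAtStalk M x) := hx
        show ¬ (Module.rankAtStalk M p ≤ Module.rankAtStalk M y)
        omega
      have hZg : StableUnderGeneralization Z := by
        intro x y hyx hx
        have hle : y ≤ x := (PrimeSpectrum.le_iff_specializes y x).mpr hyx
        have := Module.rankAtStalk_eq_of_le_of_finite_of_flat M hle
        show Module.rankAtStalk M p ≤ Module.rankAtStalk M y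
        rw [this]
        exact hx
      have hZo : IsOpen Z := h1 Z hZc hZg
      have hSo : IsOpen (Module.support R (M ⧸ LinearMap.range φ))ᶜ := by
        rw [isOpen_compl_iff, Module.support_eq_zeroLocus]
        exact PrimeSpectrum.isClosed_zeroLocus _
      have hpZ : p ∈ Z := by
        show Module.rankAtStalk M p ≤ Module.rankAtStalk M p
        exact le_rfl
      have hpW : p ∈ Z ∩ (Module.support R (M ⧸ LinearMap.range φ))ᶜ := ⟨hpZ, hφ⟩
      obtain ⟨v, ⟨c, rfl⟩, hpc, hcW⟩ :=
        PrimeSpectrum.isTopologicalBasis_basic_opens.exists_subset_of_mem_open hpW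
          (hZo.inter hSo)
      refine ⟨c, hpc, free_away M φ c fun q hq => ?_⟩
      obtain ⟨hqZ, hqS⟩ := hcW hq
      exact ⟨hqS, le_antisymm (rank_le_of_notMem_support M φ q hqS) hqZ⟩
    set s : Set R := {c | Module.Free (Localization.Away c) (LocalizedModule.Away c M)} with hs
    have hspan : Ideal.span s = ⊤ := by
      by_contra hne
      obtain ⟨m, hm, hle⟩ := Ideal.exists_le_maximal _ hne
      obtain ⟨c, hc, hcfree⟩ := hfree ⟨m, hm.isPrime⟩
      exact hc (hle (Ideal.subset_span hcfree))
    have hfp : Module.FinitePresentation R M := by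
      refine Module.FinitePresentation.of_localizationSpan s hspan fun g => ?_
      have : Module.Free (Localization.Away g.1) (LocalizedModule.Away g.1 M) := g.2
      exact Module.finitePresentation_of_projective _ _
    exact Module.Flat.projective_of_finitePresentation
  · intro h2 Z hZc hZg
    obtain ⟨I, hI, rfl⟩ := (Groth.Agent.S6353.result R).2 Z hZc hZg
    have hproj : Module.Projective R (R ⧸ I) := h2 (R ⧸ I) inferInstance hI
    have h := (Groth.Agent.S6354.result R I).out 3 2
    exact (h.mp hproj).2


end Groth.Agent.S6355
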