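import Groth.Statements.S6360
import Mathlib
import Groth.Agent.Lib.Helper6.MLDomB

set_option autoImplicit false
universe u
open CAlg

namespace Groth.Agent.S6360

open TensorProduct in
theorem rTensor_comm_apply {R : Type u} [CommRing R] {N P Q : Type u} [AddCommGroup N] [Module R N]
    [AddCommGroup P] [Module R P] [AddCommGroup Q] [Module R Q] (k : P →ₗ[R] Q) (y : N ⊗[R] P) :
    k.rTensor N (TensorProduct.comm R N P y) = TensorProduct.comm R N Q (k.lTensor N y) := by
  induction y using TensorProduct.induction_on with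
  | zero => simp only [map_zero]
  | tmul a b =>
    rw [TensorProduct.comm_tmul, LinearMap.rTensor_tmul, LinearMap.lTensor_tmul,
      TensorProduct.comm_tmul]
  | add a b ha hb => simp only [map_add, ha, hb]

open TensorProduct in
theorem exists_factor_fp' {R : Type u} [CommRing R] {N P Q : Type u} [AddCommGroup N] [Module R N]
    [AddCommGroup P] [Module R P] [Module.FinitePresentation R P] [AddCommGroup Q] [Module R Q]
    (k : P →ₗ[R] Q) (y : N ⊗[R] P) (hy : k.lTensor N y = 0) :
    ∃ (P' : Type u) (_ : AddCommGroup P') (_ : Module R P') (_ : Module.FinitePresentation R P')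
      (k' : P →ₗ[R] P') (h : P' →ₗ[R] Q), k = h ∘ₗ k' ∧ k'.lTensor N y = 0 := by
  have h1 : k.rTensor N (TensorProduct.comm R N P y) = 0 := by
    rw [rTensor_comm_apply, hy, map_zero]
  obtain ⟨P', i1, i2, i3, k', h, hk, hk'⟩ :=
    Groth.Agent.Lib.helper6.MLDom.exists_factor_fp R k (TensorProduct.comm R N P y) h1
  refine ⟨P', i1, i2, i3, k', h, hk, ?_⟩
  rw [rTensor_comm_apply] at hk'
  exact (LinearEquiv.map_eq_zero_iff _).mp hk'

open TensorProduct in
theorem exists_fin_lift' {R : Type u} [CommRing R] {M Q : Type u} [AddCommGroup M] [Module R M]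
    [AddCommGroup Q] [Module R Q] (x : M ⊗[R] Q) :
    ∃ (n : ℕ) (k : (Fin n → R) →ₗ[R] Q) (x₀ : M ⊗[R] (Fin n → R)), k.lTensor M x₀ = x := by
  obtain ⟨n, k, ξ', hξ'⟩ :=
    Groth.Agent.Lib.helper6.MLDom.exists_fin_lift (TensorProduct.comm R M Q x)
  refine ⟨n, k, (TensorProduct.comm R M (Fin n → R)).symm ξ', ?_⟩
  apply (TensorProduct.comm R M Q).injective
  rw [← rTensor_comm_apply, LinearEquiv.apply_symm_apply, hξ']



/-- For maps of R-modules f : M → N and g : M → M', g dominates f (the kernel of f ⊗ id_Q is contained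
in that of g ⊗ id_Q for every module Q) if and only if this containment holds for every finitely
presented module Q. -/
theorem result (R : Type u) [CommRing R] {M N M' : Type u}
    [AddCommGroup M] [Module R M] [AddCommGroup N] [Module R N] [AddCommGroup M'] [Module R M']
    (f : M →ₗ[R] N) (g : M →ₗ[R] M') :
    (∀ (Q : Type u) [AddCommGroup Q] [Module R Q], LinearMap.ker (f.rTensor Q) ≤ LinearMap.ker (g.rTensor Q)) ↔
      ∀ (Q : Type u) [AddCommGroup Q] [Module R Q], Module.FinitePresentation R Q →
        LinearMap.ker (f.rTensor Q) ≤ LinearMap.ker (g.rTensor Q) := by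
  constructor
  · intro H Q _ _ _
    exact H Q
  · intro H Q _ _ x hx
    rw [LinearMap.mem_ker] at hx ⊢
    obtain ⟨n, k₀, x₀, rfl⟩ := exists_fin_lift' x
    have h1 : k₀.lTensor N (f.rTensor (Fin n → R) x₀) = 0 := by
      rw [← LinearMap.comp_apply, LinearMap.lTensor_comp_rTensor, ← LinearMap.rTensor_comp_lTensor,
        LinearMap.comp_apply]
      exact hx
    obtain ⟨P', _, _, hP', k', h', hk, hk'⟩ := exists_factor_fp' k₀ (f.rTensor (Fin n → R) x₀) h1
    have h2 : f.rTensor P' (k'.lTensor M x₀) = 0 := by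
      rw [← LinearMap.comp_apply, LinearMap.rTensor_comp_lTensor, ← LinearMap.lTensor_comp_rTensor,
        LinearMap.comp_apply]
      exact hk'
    have h3 : g.rTensor P' (k'.lTensor M x₀) = 0 :=
      LinearMap.mem_ker.mp (H P' hP' (LinearMap.mem_ker.mpr h2))
    rw [hk, LinearMap.lTensor_comp, LinearMap.comp_apply, ← LinearMap.comp_apply,
      LinearMap.rTensor_comp_lTensor, ← LinearMap.lTensor_comp_rTensor, LinearMap.comp_apply, h3,
      map_zero]


end Groth.Agent.S6360
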