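import Groth.Statements.S6362
import Mathlib

set_option autoImplicit false
universe u
open scoped TensorProduct
open Fields

namespace Groth.Agent.S6362

/-- Let K/F be a finite separable extension and L/F an extension with L algebraically closed. Then the
L-algebra map K ⊗_F L → ∏_σ L, indexed by the F-algebra maps σ : K → L and sending a ⊗ b to (σ(a)
b)_σ, is an isomorphism; stated as bijectivity of that map. -/
theorem result {F K L : Type u} [Field F] [Field K] [Field L]
    [Algebra F K] [Algebra F L] [FiniteDimensional F K] [Algebra.IsSeparable F K] [IsAlgClosed L] :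
    Function.Bijective (fun x : K ⊗[F] L => fun σ : K →ₐ[F] L =>
      Algebra.TensorProduct.lift σ (AlgHom.id F L) (fun a b => Commute.all (σ a) b) x) := by
  classical
  haveI : Fintype (K →ₐ[F] L) := minpoly.AlgHom.fintype F K L
  let ψ : (K →ₐ[F] L) → (L ⊗[F] K →ₐ[L] L) := fun σ =>
    Algebra.TensorProduct.lift (AlgHom.id L L) σ (fun _ _ => Commute.all _ _)
  let Ψ : L ⊗[F] K →ₗ[L] ((K →ₐ[F] L) → L) := LinearMap.pi (fun σ => (ψ σ).toLinearMap)
  have hΨ : ∀ (b : L) (a : K) (σ : K →ₐ[F] L), Ψ (b ⊗ₜ a) σ = b * σ a := by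
    intro b a σ
    simp [Ψ, ψ]
  have hsurj : Function.Surjective Ψ := by
    rw [← LinearMap.range_eq_top]
    by_contra hne
    obtain ⟨f, hf0, hle⟩ := Submodule.exists_le_ker_of_lt_top _ (lt_top_iff_ne_top.mpr hne)
    apply hf0
    have hsum : ∀ a : K, ∑ σ : K →ₐ[F] L,
        (f fun τ => if σ = τ then 1 else 0) * σ a = 0 := by
      intro a
      have hmem : Ψ (1 ⊗ₜ a) ∈ LinearMap.ker f := hle ⟨_, rfl⟩
      rw [LinearMap.mem_ker, LinearMap.pi_apply_eq_sum_univ f] at hmem
      refine Eq.trans ?_ hmem
      refine Finset.sum_congr rfl fun σ _ => ?_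
      rw [hΨ, one_mul, smul_eq_mul, mul_comm]
    have hli := linearIndependent_toLinearMap F K L
    rw [Fintype.linearIndependent_iff] at hli
    have hc := hli (fun σ => f fun τ => if σ = τ then 1 else 0) (by
      ext a
      simp only [LinearMap.coe_sum, Finset.sum_apply, LinearMap.smul_apply, AlgHom.toLinearMap_apply,
        smul_eq_mul, LinearMap.zero_apply]
      exact hsum a)
    refine LinearMap.ext fun w => ?_
    rw [LinearMap.pi_apply_eq_sum_univ f w]
    simp [hc]
  have hfin : Module.finrank L (L ⊗[F] K) = Module.finrank L ((K →ₐ[F] L) → L) := by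
    rw [Module.finrank_baseChange, Module.finrank_fintype_fun_eq_card, Fintype.card_eq_nat_card,
      AlgHom.natCard_of_splits F K L (fun _ => IsAlgClosed.splits _)]
  have hinj : Function.Injective Ψ :=
    (LinearMap.injective_iff_surjective_of_finrank_eq_finrank hfin).mpr hsurj
  have hG : (fun x : K ⊗[F] L => fun σ : K →ₐ[F] L =>
      Algebra.TensorProduct.lift σ (AlgHom.id F L) (fun a b => Commute.all (σ a) b) x) =
      Ψ ∘ (Algebra.TensorProduct.comm F K L) := by
    funext x σ
    induction x using TensorProduct.induction_on with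
    | zero => simp
    | tmul a b =>
      simp only [Function.comp_apply, Algebra.TensorProduct.comm_tmul, hΨ,
        Algebra.TensorProduct.lift_tmul, AlgHom.coe_id, id_eq, mul_comm]
    | add x y hx hy =>
      simp only [map_add, Function.comp_apply, Pi.add_apply] at hx hy ⊢
      rw [hx, hy]
  rw [hG]
  exact (show Function.Bijective Ψ from ⟨hinj, hsurj⟩).comp
    (Algebra.TensorProduct.comm F K L).bijective

end Groth.Agent.S6362
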