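import Groth.Statements.S6363
import Mathlib
-- import your own Groth.Agent.* helpers here

set_option autoImplicit false
universe u
open scoped TensorProduct
open Fields

namespace Groth.Agent.S6363

/-- For a finite field extension L/K and a normal closure M of L/K, some K-algebra homomorphism from the
n-fold tensor power L ⊗_K ⋯ ⊗_K L to M is surjective, where n = [L : K]_s is the separable degree
(so n ≤ [L : K]). -/
theorem result {K L M : Type u} [Field K] [Field L] [Field M]
    [Algebra K L] [Algebra K M] [Algebra L M] [IsScalarTower K L M] [FiniteDimensional K L]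
    [IsNormalClosure K L M] :
    ∃ f : (⨂[K] _ : Fin (Field.finSepDegree K L), L) →ₐ[K] M, Function.Surjective f := by
  classical
  haveI : Normal K M := IsNormalClosure.normal (F := K) (K := L)
  haveI : Algebra.IsAlgebraic K M := inferInstance
  have hnc : IntermediateField.normalClosure K L M = ⊤ :=
    ((Algebra.IsAlgebraic.isNormalClosure_iff (F := K) (K := L) (L := M)).mp inferInstance).2
  have hcard : Field.finSepDegree K L = Nat.card (L →ₐ[K] M) :=
    Field.finSepDegree_eq_of_adjoin_splits K L M (S := Set.univ) (IntermediateField.adjoin_univ K L)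
      (fun s _ => ⟨Algebra.IsIntegral.isIntegral s, IsNormalClosure.splits s⟩)
  haveI : Finite (L →ₐ[K] M) := inferInstance
  obtain ⟨e⟩ : Nonempty (Fin (Field.finSepDegree K L) ≃ (L →ₐ[K] M)) := by
    rw [hcard]; exact ⟨(Finite.equivFin _).symm⟩
  let mm : MultilinearMap K (fun _ : Fin (Field.finSepDegree K L) => L) M :=
    (MultilinearMap.mkPiAlgebra K (Fin (Field.finSepDegree K L)) M).compLinearMap
      (fun i => (e i).toLinearMap)
  have hmm : ∀ x, mm x = ∏ i, e i (x i) := fun x => rfl
  let f : (⨂[K] _ : Fin (Field.finSepDegree K L), L) →ₐ[K] M :=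
    PiTensorProduct.liftAlgHom mm (by rw [hmm]; simp)
      (fun x y => by rw [hmm, hmm, hmm, ← Finset.prod_mul_distrib]; simp)
  refine ⟨f, ?_⟩
  have hrange : ∀ (i : Fin (Field.finSepDegree K L)) (x : L), e i x ∈ f.range := by
    intro i x
    refine ⟨PiTensorProduct.tprod K (Pi.mulSingle i x), ?_⟩
    have : f (PiTensorProduct.tprod K (Pi.mulSingle i x)) = mm (Pi.mulSingle i x) :=
      PiTensorProduct.lift.tprod _
    change f _ = _
    rw [this, hmm, Finset.prod_eq_single i]
    · simp
    · intro j _ hji
      rw [Pi.mulSingle_eq_of_ne hji, map_one]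
    · intro h; exact absurd (Finset.mem_univ i) h
  let E : IntermediateField K M := subalgebraEquivIntermediateField f.range
  have hE : E = ⊤ := by
    rw [eq_top_iff, ← hnc, normalClosure_def, iSup_le_iff]
    rintro σ _ ⟨x, rfl⟩
    have := hrange (e.symm σ) x
    rw [Equiv.apply_symm_apply] at this
    exact this
  intro y
  have hy : y ∈ E := hE ▸ IntermediateField.mem_top
  exact hy

end Groth.Agent.S6363
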