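import Groth.Statements.S6364
import Mathlib
-- import your own Groth.Agent.* helpers here

set_option autoImplicit false
universe u
open Fields

namespace Groth.Agent.S6364

open Matrix Polynomial in
theorem charpoly_blockDiagonal_const {R : Type*} [CommRing R] {n o : Type*} [Fintype n] [DecidableEq n]
    [Fintype o] [DecidableEq o] (A : Matrix n n R) :
    (Matrix.blockDiagonal (fun _ : o => A)).charpoly = A.charpoly ^ Fintype.card o := by
  have h : (Matrix.blockDiagonal (fun _ : o => A)).charmatrix
      = Matrix.blockDiagonal (fun _ : o => A.charmatrix) := by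
    ext ⟨i, k⟩ ⟨j, l⟩
    by_cases hkl : k = l
    · subst hkl
      by_cases hij : i = j
      · subst hij
        simp [Matrix.charmatrix_apply, Matrix.blockDiagonal_apply, Matrix.diagonal_apply]
      · simp [Matrix.charmatrix_apply, Matrix.blockDiagonal_apply, Matrix.diagonal_apply, hij]
    · simp [Matrix.charmatrix_apply, Matrix.blockDiagonal_apply, Matrix.diagonal_apply, hkl]
  rw [Matrix.charpoly, h, Matrix.det_blockDiagonal, Finset.prod_const, Finset.card_univ]
  rfl

open IntermediateField in
/-- Let L/K be a finite extension and a ∈ L with minimal polynomial P over K. Then P ^ e, with e = [L :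
K(a)], is the characteristic polynomial of multiplication by a (the K-linear map x ↦ a x on L), and
e · deg P = [L : K]. -/
theorem result {K L : Type u} [Field K] [Field L] [Algebra K L] [FiniteDimensional K L]
    (a : L) :
    (Algebra.lmul K L a).charpoly = minpoly K a ^ Module.finrank K⟮a⟯ L ∧
      Module.finrank K⟮a⟯ L * (minpoly K a).natDegree = Module.finrank K L := by
  classical
  have hint : IsIntegral K a := Algebra.IsIntegral.isIntegral a
  have h2 : Module.finrank K⟮a⟯ L * (minpoly K a).natDegree = Module.finrank K L := by
    rw [← IntermediateField.adjoin.finrank hint, mul_comm, Module.finrank_mul_finrank]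
  refine ⟨?_, h2⟩
  let pb := IntermediateField.adjoin.powerBasis hint
  let c := Module.Free.chooseBasis K⟮a⟯ L
  have ha : algebraMap K⟮a⟯ L pb.gen = a := by
    rw [IntermediateField.adjoin.powerBasis_gen, IntermediateField.AdjoinSimple.algebraMap_gen]
  rw [← LinearMap.charpoly_toMatrix (Algebra.lmul K L a) (pb.basis.smulTower c)]
  have : LinearMap.toMatrix (pb.basis.smulTower c) (pb.basis.smulTower c) (Algebra.lmul K L a)
      = Algebra.leftMulMatrix (pb.basis.smulTower c) (algebraMap K⟮a⟯ L pb.gen) := by
    rw [ha]; rfl
  rw [this, Algebra.smulTower_leftMulMatrix_algebraMap, charpoly_blockDiagonal_const,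
    charpoly_leftMulMatrix, IntermediateField.adjoin.powerBasis_gen, IntermediateField.minpoly_gen,
    Module.finrank_eq_card_chooseBasisIndex]

end Groth.Agent.S6364
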