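import Groth.Statements.S6367
import Mathlib.Algebra.Module.FinitePresentation

set_option autoImplicit false
universe u
open CAlg

namespace Groth.Agent.S6367

/-- Let 0 → M₁ → M₂ → M₃ → 0 be a short exact sequence of R-modules (f injective, g surjective, image of
f = kernel of g). If M₁ and M₃ are coherent — finitely generated with every finitely generated
submodule finitely presented — then so is M₂. -/
theorem result (R : Type u) [CommRing R] {M₁ M₂ M₃ : Type u}
    [AddCommGroup M₁] [Module R M₁] [AddCommGroup M₂] [Module R M₂] [AddCommGroup M₃] [Module R M₃]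
    (f : M₁ →ₗ[R] M₂) (g : M₂ →ₗ[R] M₃) (hf : Function.Injective f) (hg : Function.Surjective g)
    (hfg : LinearMap.range f = LinearMap.ker g)
    (h₁ : (Module.Finite R M₁ ∧ ∀ N : Submodule R M₁, N.FG → Module.FinitePresentation R N))
    (h₃ : (Module.Finite R M₃ ∧ ∀ N : Submodule R M₃, N.FG → Module.FinitePresentation R N)) :
    (Module.Finite R M₂ ∧ ∀ N : Submodule R M₂, N.FG → Module.FinitePresentation R N) := by
  classical
  obtain ⟨hfin1, hcoh1⟩ := h₁
  obtain ⟨hfin3, hcoh3⟩ := h₃
  have hgf : ∀ x, g (f x) = 0 := by
    intro x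
    have : f x ∈ LinearMap.ker g := hfg ▸ LinearMap.mem_range_self f x
    exact this
  constructor
  · rw [Module.finite_def]
    apply Submodule.fg_of_fg_map_of_fg_inf_ker g
    · rw [Submodule.map_top, LinearMap.range_eq_top.mpr hg]
      exact Module.Finite.fg_top
    · rw [top_inf_eq, ← hfg, ← Submodule.map_top]
      exact (Module.Finite.fg_top).map f
  · intro N hN
    have hN₃ : (N.map g).FG := hN.map g
    have hfp3 : Module.FinitePresentation R (N.map g) := hcoh3 _ hN₃
    obtain ⟨l, hl⟩ : ∃ l : N →ₗ[R] (N.map g), ∀ x : N, (l x : M₃) = g x :=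
      ⟨g.restrict (p := N) (q := N.map g) (fun x hx => Submodule.mem_map_of_mem hx),
        fun x => rfl⟩
    have hlsurj : Function.Surjective l := by
      rintro ⟨_, x, hx, rfl⟩
      exact ⟨⟨x, hx⟩, Subtype.ext (hl _)⟩
    have hNfin : Module.Finite R N := Module.Finite.iff_fg.mpr hN
    have hker : (LinearMap.ker l).FG := Module.FinitePresentation.fg_ker l hlsurj
    -- the comparison map
    have hmem : ∀ x : N.comap f, (⟨f x, x.2⟩ : N) ∈ LinearMap.ker l := by
      intro x
      rw [LinearMap.mem_ker]
      apply Subtype.ext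
      rw [hl]
      exact hgf x
    let e₀ : N.comap f →ₗ[R] LinearMap.ker l :=
      { toFun := fun x => ⟨⟨f x, x.2⟩, hmem x⟩
        map_add' := fun x y => by
          apply Subtype.ext; apply Subtype.ext
          simp
        map_smul' := fun r x => by
          apply Subtype.ext; apply Subtype.ext
          simp }
    have he₀inj : Function.Injective e₀ := by
      intro x y hxy
      have h1 : f x = f y := congrArg (fun z : LinearMap.ker l => ((z : N) : M₂)) hxy
      exact Subtype.ext (hf h1)
    have he₀surj : Function.Surjective e₀ := by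
      rintro ⟨⟨m, hm⟩, hmk⟩
      have h1 : g m = 0 := by
        rw [LinearMap.mem_ker] at hmk
        have := congrArg Subtype.val hmk
        rwa [hl] at this
      have h2 : m ∈ LinearMap.range f := hfg ▸ (LinearMap.mem_ker.mpr h1)
      obtain ⟨x, rfl⟩ := h2
      exact ⟨⟨x, hm⟩, rfl⟩
    let e : N.comap f ≃ₗ[R] LinearMap.ker l := LinearEquiv.ofBijective e₀ ⟨he₀inj, he₀surj⟩
    have hN₁fg : (N.comap f).FG := by
      rw [← Module.Finite.iff_fg]
      have : Module.Finite R (LinearMap.ker l) := Module.Finite.iff_fg.mpr hker
      exact Module.Finite.equiv e.symm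
    have hfp1 : Module.FinitePresentation R (N.comap f) := hcoh1 _ hN₁fg
    have hfpk : Module.FinitePresentation R (LinearMap.ker l) :=
      Module.FinitePresentation.of_equiv e
    exact Module.finitePresentation_of_ker l hlsurj

end Groth.Agent.S6367
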