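import Groth.Statements.S6366
import Groth.Agent.S6367
import Mathlib.Algebra.Module.FinitePresentation
import Mathlib.RingTheory.Finiteness.Cardinality

set_option autoImplicit false
universe u
open CAlg

namespace Groth.Agent.S6366

/-- Coherent module. -/
def Coh (R : Type u) [CommRing R] (M : Type u) [AddCommGroup M] [Module R M] : Prop :=
  Module.Finite R M ∧ ∀ N : Submodule R M, N.FG → Module.FinitePresentation R N

lemma coh_self (R : Type u) [CommRing R]
    (hR : ∀ I : Ideal R, I.FG → Module.FinitePresentation R I) : Coh R R :=
  ⟨inferInstance, fun N hN => hR N hN⟩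

lemma coh_pi (R : Type u) [CommRing R]
    (hR : ∀ I : Ideal R, I.FG → Module.FinitePresentation R I) :
    ∀ n : ℕ, Coh R (Fin n → R) := by
  intro n
  induction n with
  | zero =>
    refine ⟨inferInstance, fun N _ => ?_⟩
    infer_instance
  | succ n ih =>
    refine Groth.Agent.S6367.result R (M₁ := R) (M₂ := Fin (n + 1) → R) (M₃ := Fin n → R)
      (LinearMap.single R (fun _ : Fin (n + 1) => R) 0) (LinearMap.funLeft R R Fin.succ)
      ?_ ?_ ?_ (coh_self R hR) ih
    · intro a b hab
      have := congrFun hab 0
      simpa using this
    · intro w
      refine ⟨Fin.cons 0 w, ?_⟩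
      ext i
      simp [LinearMap.funLeft_apply]
    · ext v
      simp only [LinearMap.mem_range, LinearMap.mem_ker]
      constructor
      · rintro ⟨r, rfl⟩
        ext i
        simp [LinearMap.funLeft_apply, Fin.succ_ne_zero]
      · intro hv
        refine ⟨v 0, ?_⟩
        ext i
        refine Fin.cases ?_ (fun j => ?_) i
        · simp
        · have := congrFun hv j
          simp only [LinearMap.funLeft_apply, Pi.zero_apply] at this
          simp [this, Fin.succ_ne_zero]

lemma coh_of_fp (R : Type u) [CommRing R]
    (hR : ∀ I : Ideal R, I.FG → Module.FinitePresentation R I) (M : Type u) [AddCommGroup M]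
    [Module R M] [Module.FinitePresentation R M] : Coh R M := by
  classical
  refine ⟨inferInstance, fun N hN => ?_⟩
  obtain ⟨n, π, hπ⟩ := Module.Finite.exists_fin' R M
  have hK : (LinearMap.ker π).FG := Module.FinitePresentation.fg_ker π hπ
  have hkerle : LinearMap.ker π ≤ N.comap π := fun x hx => by
    rw [Submodule.mem_comap, LinearMap.mem_ker.mp hx]
    exact N.zero_mem
  have hN' : (N.comap π).FG := by
    apply Submodule.fg_of_fg_map_of_fg_inf_ker π
    · rw [Submodule.map_comap_eq_of_surjective hπ]
      exact hN
    · rw [inf_eq_right.mpr hkerle]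
      exact hK
  have hfp' : Module.FinitePresentation R (N.comap π) := (coh_pi R hR n).2 _ hN'
  obtain ⟨l, hl⟩ : ∃ l : N.comap π →ₗ[R] N, ∀ x, (l x : M) = π x :=
    ⟨π.restrict (p := N.comap π) (q := N) (fun x hx => hx), fun x => rfl⟩
  have hlsurj : Function.Surjective l := by
    rintro ⟨y, hy⟩
    obtain ⟨x, rfl⟩ := hπ y
    exact ⟨⟨x, hy⟩, Subtype.ext (hl _)⟩
  have hkerl : (LinearMap.ker l).FG := by
    apply Submodule.fg_of_fg_map_injective (N.comap π).subtype (Submodule.injective_subtype _)
    have : (LinearMap.ker l).map (N.comap π).subtype = LinearMap.ker π := by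
      ext x
      simp only [Submodule.mem_map, LinearMap.mem_ker, Submodule.subtype_apply]
      constructor
      · rintro ⟨y, hy, rfl⟩
        have := congrArg Subtype.val hy
        rwa [hl] at this
      · intro hx
        refine ⟨⟨x, hkerle hx⟩, ?_, rfl⟩
        apply Subtype.ext
        rw [hl]
        exact hx
    rw [this]
    exact hK
  exact Module.finitePresentation_of_surjective l hlsurj hkerl

/-- Let R be a coherent ring, i.e. every finitely generated ideal of R is finitely presented. Then an
R-module is coherent (finitely generated, and every finitely generated submodule is finitely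
presented) if and only if it is finitely presented. -/
theorem result (R : Type u) [CommRing R]
    (hR : ∀ I : Ideal R, I.FG → Module.FinitePresentation R I) (M : Type u) [AddCommGroup M] [Module R M] :
    (Module.Finite R M ∧ ∀ N : Submodule R M, N.FG → Module.FinitePresentation R N) ↔ Module.FinitePresentation R M := by
  constructor
  · rintro ⟨_, hcoh⟩
    have h1 : Module.FinitePresentation R (⊤ : Submodule R M) := hcoh ⊤ Module.Finite.fg_top
    exact Module.FinitePresentation.of_equiv (Submodule.topEquiv (R := R) (M := M))
  · intro h
    exact coh_of_fp R hR M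

end Groth.Agent.S6366
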