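import Groth.Statements.S6368
import Mathlib.LinearAlgebra.TensorProduct.Finiteness

set_option autoImplicit false
universe u
open scoped TensorProduct
open CAlg

namespace Groth.Agent.S6368

/-- Let R → S be faithfully flat and M an R-module. If the S-module S ⊗_R M is countably generated then
M is countably generated. -/
theorem result (R S : Type u) [CommRing R] [CommRing S] [Algebra R S]
    [Module.FaithfullyFlat R S] (M : Type u) [AddCommGroup M] [Module R M]
    (h : CAlg.IsCountablyGenerated S (S ⊗[R] M)) : CAlg.IsCountablyGenerated R M := by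
  classical
  obtain ⟨s, hs, hspan⟩ := h
  have hrep : ∀ y : S ⊗[R] M, ∃ F : Finset (S × M), y = ∑ i ∈ F, i.1 ⊗ₜ[R] i.2 :=
    TensorProduct.exists_finset
  choose F hF using hrep
  refine ⟨⋃ y ∈ s, (Prod.snd '' (F y : Set (S × M))),
    hs.biUnion (fun y _ => ((F y).finite_toSet.image _).countable), ?_⟩
  apply Submodule.baseChange_injective (A := S)
  rw [Submodule.baseChange_top, eq_top_iff, ← hspan, Submodule.span_le]
  intro y hy
  rw [hF y]
  refine Submodule.sum_mem _ (fun i hi => ?_)
  apply Submodule.tmul_mem_baseChange_of_mem
  apply Submodule.subset_span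
  exact Set.mem_biUnion hy ⟨i, hi, rfl⟩

end Groth.Agent.S6368
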