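import Groth.Statements.S6369
import Mathlib
-- import your own Groth.Agent.* helpers here

set_option autoImplicit false
universe u
open CAlg

namespace Groth.Agent.S6369

open FractionalIdeal in
lemma unit_of_mem_of_prod_eq_span {S : Type*} [CommRing S] [IsDomain S] (s : Multiset (Ideal S))
    (b : S) (hb : b ≠ 0) (hs : s.prod = Ideal.span {b}) :
    ∀ Q ∈ s, IsUnit (Q : FractionalIdeal (nonZeroDivisors S) (FractionRing S)) := by
  have hb' : algebraMap S (FractionRing S) b ≠ 0 := by
    intro h0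
    exact hb ((injective_iff_map_eq_zero (algebraMap S (FractionRing S))).1
      (IsFractionRing.injective S (FractionRing S)) b h0)
  have hu : IsUnit ((Ideal.span {b} : Ideal S) :
      FractionalIdeal (nonZeroDivisors S) (FractionRing S)) := by
    rw [coeIdeal_span_singleton]
    refine IsUnit.of_mul_eq_one (spanSingleton (nonZeroDivisors S) (algebraMap S (FractionRing S) b)⁻¹) ?_
    rw [spanSingleton_mul_spanSingleton, mul_inv_cancel₀ hb', spanSingleton_one]
  intro Q hQ
  obtain ⟨C, hC⟩ := Multiset.dvd_prod hQ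
  have h1 : (Q : FractionalIdeal (nonZeroDivisors S) (FractionRing S)) *
      (C : FractionalIdeal (nonZeroDivisors S) (FractionRing S)) =
      ((Ideal.span {b} : Ideal S) : FractionalIdeal (nonZeroDivisors S) (FractionRing S)) := by
    rw [← coeIdeal_mul, ← hC, hs]
  rw [← h1] at hu
  exact isUnit_of_mul_isUnit_left hu

open FractionalIdeal in
lemma uniq_of_units {S : Type*} [CommRing S] [IsDomain S] :
    ∀ (n : ℕ) (s t : Multiset (Ideal S)), Multiset.card s = n →
      (∀ Q ∈ s, Q.IsPrime ∧ IsUnit (Q : FractionalIdeal (nonZeroDivisors S) (FractionRing S))) →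
      (∀ Q ∈ t, Q.IsPrime ∧ IsUnit (Q : FractionalIdeal (nonZeroDivisors S) (FractionRing S))) →
      s.prod = t.prod → s = t := by
  classical
  intro n
  induction n with
  | zero =>
    intro s t hs _ ht hprod
    rw [Multiset.card_eq_zero] at hs
    subst hs
    by_contra hne
    obtain ⟨Q, hQ⟩ := Multiset.exists_mem_of_ne_zero (Ne.symm hne)
    have h1 : t.prod ≤ Q := Ideal.le_of_dvd (Multiset.dvd_prod hQ)
    rw [← hprod, Multiset.prod_zero, Ideal.one_eq_top] at h1
    exact (ht Q hQ).1.ne_top (eq_top_iff.2 h1)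
  | succ n ih =>
    intro s t hs hsp htp hprod
    have hsne : s ≠ 0 := by
      intro h0; rw [h0] at hs; simp at hs
    have hne : s.toFinset.Nonempty := by
      obtain ⟨Q, hQ⟩ := Multiset.exists_mem_of_ne_zero hsne
      exact ⟨Q, Multiset.mem_toFinset.2 hQ⟩
    obtain ⟨P₀, hP₀⟩ := s.toFinset.exists_minimal hne
    have hP₀s : P₀ ∈ s := Multiset.mem_toFinset.1 hP₀.1
    have hP₀prime := (hsp P₀ hP₀s).1
    have hP₀unit := (hsp P₀ hP₀s).2
    have h1 : t.prod ≤ P₀ := by
      rw [← hprod]; exact Ideal.le_of_dvd (Multiset.dvd_prod hP₀s)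
    obtain ⟨Q, hQt, hQP⟩ := (Ideal.IsPrime.multiset_prod_le hP₀prime).1 h1
    have h2 : s.prod ≤ Q := by
      rw [hprod]; exact Ideal.le_of_dvd (Multiset.dvd_prod hQt)
    obtain ⟨P', hP's, hP'Q⟩ := (Ideal.IsPrime.multiset_prod_le (htp Q hQt).1).1 h2
    have h3 : P₀ ≤ P' := hP₀.2 (Multiset.mem_toFinset.2 hP's) (hP'Q.trans hQP)
    have hQeq : Q = P₀ := le_antisymm hQP (h3.trans hP'Q)
    subst hQeq
    have cancel : ∀ A B : Ideal S, Q * A = Q * B → A = B := by
      intro A B hAB
      apply coeIdeal_injective (K := FractionRing S)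
      have := congrArg (fun I : Ideal S =>
        (I : FractionalIdeal (nonZeroDivisors S) (FractionRing S))) hAB
      simp only [coeIdeal_mul] at this
      exact hP₀unit.mul_left_cancel this
    have hs' : s = Q ::ₘ s.erase Q := (Multiset.cons_erase hP₀s).symm
    have ht' : t = Q ::ₘ t.erase Q := (Multiset.cons_erase hQt).symm
    have hprod' : (s.erase Q).prod = (t.erase Q).prod := by
      apply cancel
      rw [← Multiset.prod_cons, ← Multiset.prod_cons, ← hs', ← ht', hprod]
    have hcard : Multiset.card (s.erase Q) = n := by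
      rw [Multiset.card_erase_of_mem hP₀s, hs]; rfl
    have := ih (s.erase Q) (t.erase Q) hcard
      (fun R hR => hsp R (Multiset.mem_of_mem_erase hR))
      (fun R hR => htp R (Multiset.mem_of_mem_erase hR)) hprod'
    rw [hs', ht', this]

open FractionalIdeal in
lemma maximal_of_unit (R : Type u) [CommRing R] [IsDomain R]
    (h : ∀ I : Ideal R, I ≠ ⊥ → ∃ s : Multiset (Ideal R), (∀ p ∈ s, p.IsPrime ∧ p ≠ ⊥) ∧ s.prod = I)
    (P : Ideal R) (hP : P.IsPrime)
    (hu : IsUnit (P : FractionalIdeal (nonZeroDivisors R) (FractionRing R))) : P.IsMaximal := by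
  classical
  have hPne : P ≠ ⊥ := by
    rintro rfl
    rw [coeIdeal_bot] at hu
    exact not_isUnit_zero hu
  have key : ∀ a, a ∉ P → P ⊔ Ideal.span {a} = ⊤ := by
    intro a ha
    have hI₁ : P ⊔ Ideal.span {a} ≠ ⊥ := ne_bot_of_le_ne_bot hPne le_sup_left
    have hI₂ : P ⊔ Ideal.span {a ^ 2} ≠ ⊥ := ne_bot_of_le_ne_bot hPne le_sup_left
    obtain ⟨s₁, hs₁p, hs₁⟩ := h _ hI₁
    obtain ⟨s₂, hs₂p, hs₂⟩ := h _ hI₂
    have hπ : Function.Surjective (Ideal.Quotient.mk P) := Ideal.Quotient.mk_surjective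
    have hker : RingHom.ker (Ideal.Quotient.mk P) = P := Ideal.mk_ker
    have hab : (Ideal.Quotient.mk P) a ≠ 0 := by
      rwa [Ne, Ideal.Quotient.eq_zero_iff_mem]
    have hmapP : Ideal.map (Ideal.Quotient.mk P) P = ⊥ := Ideal.map_quotient_self P
    have hm₁ : (s₁.map (Ideal.map (Ideal.Quotient.mk P))).prod = Ideal.span {(Ideal.Quotient.mk P) a} := by
      have := map_multiset_prod (Ideal.mapHom (Ideal.Quotient.mk P)) s₁
      simp only [Ideal.mapHom_apply] at this
      rw [← this, hs₁, Ideal.map_sup, hmapP, bot_sup_eq, Ideal.map_span, Set.image_singleton]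
    have hm₂ : (s₂.map (Ideal.map (Ideal.Quotient.mk P))).prod =
        Ideal.span {(Ideal.Quotient.mk P) a ^ 2} := by
      have := map_multiset_prod (Ideal.mapHom (Ideal.Quotient.mk P)) s₂
      simp only [Ideal.mapHom_apply] at this
      rw [← this, hs₂, Ideal.map_sup, hmapP, bot_sup_eq, Ideal.map_span, Set.image_singleton, map_pow]
    have hle₁ : ∀ Q ∈ s₁, P ≤ Q := by
      intro Q hQ
      have h1 : s₁.prod ≤ Q := Ideal.le_of_dvd (Multiset.dvd_prod hQ)
      rw [hs₁] at h1
      exact le_sup_left.trans h1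
    have hle₂ : ∀ Q ∈ s₂, P ≤ Q := by
      intro Q hQ
      have h1 : s₂.prod ≤ Q := Ideal.le_of_dvd (Multiset.dvd_prod hQ)
      rw [hs₂] at h1
      exact le_sup_left.trans h1
    have hprime : ∀ Q : Ideal R, Q.IsPrime → P ≤ Q → (Ideal.map (Ideal.Quotient.mk P) Q).IsPrime := by
      intro Q hQ hPQ
      haveI := hQ
      exact Ideal.map_isPrime_of_surjective hπ (by rw [hker]; exact hPQ)
    have hab2 : (Ideal.Quotient.mk P) a ^ 2 ≠ 0 := pow_ne_zero 2 hab
    have hm₁₁ : ((s₁ + s₁).map (Ideal.map (Ideal.Quotient.mk P))).prod =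
        Ideal.span {(Ideal.Quotient.mk P) a ^ 2} := by
      rw [Multiset.map_add, Multiset.prod_add, hm₁, Ideal.span_singleton_mul_span_singleton, pow_two]
    have hU₂ := unit_of_mem_of_prod_eq_span _ _ hab2 hm₂
    have hU₁ := unit_of_mem_of_prod_eq_span _ _ hab2 hm₁₁
    have heq : s₂.map (Ideal.map (Ideal.Quotient.mk P)) =
        (s₁ + s₁).map (Ideal.map (Ideal.Quotient.mk P)) := by
      apply uniq_of_units _ _ _ rfl
      · intro Q hQ
        refine ⟨?_, hU₂ Q hQ⟩
        obtain ⟨Q', hQ', rfl⟩ := Multiset.mem_map.1 hQ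
        exact hprime Q' (hs₂p Q' hQ').1 (hle₂ Q' hQ')
      · intro Q hQ
        refine ⟨?_, hU₁ Q hQ⟩
        obtain ⟨Q', hQ', rfl⟩ := Multiset.mem_map.1 hQ
        rcases Multiset.mem_add.1 hQ' with h' | h'
        · exact hprime Q' (hs₁p Q' h').1 (hle₁ Q' h')
        · exact hprime Q' (hs₁p Q' h').1 (hle₁ Q' h')
      · rw [hm₂, hm₁₁]
    have hcm : ∀ Q : Ideal R, P ≤ Q →
        Ideal.comap (Ideal.Quotient.mk P) (Ideal.map (Ideal.Quotient.mk P) Q) = Q := by
      intro Q hPQ
      rw [Ideal.comap_map_of_surjective _ hπ]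
      have : Ideal.comap (Ideal.Quotient.mk P) ⊥ = P := hker
      rw [this]
      exact sup_eq_left.2 hPQ
    have heq' : s₂ = s₁ + s₁ := by
      have h1 := congrArg (Multiset.map (Ideal.comap (Ideal.Quotient.mk P))) heq
      rw [Multiset.map_map, Multiset.map_map] at h1
      have e2 : Multiset.map (Ideal.comap (Ideal.Quotient.mk P) ∘ Ideal.map (Ideal.Quotient.mk P)) s₂ = s₂ := by
        conv_rhs => rw [← Multiset.map_id s₂]
        exact Multiset.map_congr rfl (fun Q hQ => hcm Q (hle₂ Q hQ))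
      have e1 : Multiset.map (Ideal.comap (Ideal.Quotient.mk P) ∘ Ideal.map (Ideal.Quotient.mk P)) (s₁ + s₁)
          = s₁ + s₁ := by
        conv_rhs => rw [← Multiset.map_id (s₁ + s₁)]
        refine Multiset.map_congr rfl (fun Q hQ => ?_)
        rcases Multiset.mem_add.1 hQ with h' | h'
        · exact hcm Q (hle₁ Q h')
        · exact hcm Q (hle₁ Q h')
      rw [e2, e1] at h1
      exact h1
    have hsq : P ⊔ Ideal.span {a ^ 2} = (P ⊔ Ideal.span {a}) * (P ⊔ Ideal.span {a}) := by
      rw [← hs₂, heq', Multiset.prod_add, hs₁]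
    -- P ≤ P * (P ⊔ span {a})
    have hPle : P ≤ P * (P ⊔ Ideal.span {a}) := by
      intro x hx
      have hx2 : x ∈ (P ⊔ Ideal.span {a}) * (P ⊔ Ideal.span {a}) := by
        rw [← hsq]; exact Ideal.mem_sup_left hx
      have hle : (P ⊔ Ideal.span {a}) * (P ⊔ Ideal.span {a}) ≤ P * P ⊔ Ideal.span {a} := by
        rw [Ideal.sup_mul, Ideal.mul_sup, Ideal.mul_sup]
        refine sup_le (sup_le le_sup_left ?_) (sup_le ?_ ?_)
        · exact Ideal.mul_le_right.trans le_sup_right
        · exact Ideal.mul_le_left.trans le_sup_right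
        · exact Ideal.mul_le_right.trans le_sup_right
      obtain ⟨y, hy, w, hw, rfl⟩ := Submodule.mem_sup.1 (hle hx2)
      obtain ⟨z, rfl⟩ := Ideal.mem_span_singleton'.1 hw
      have hyP : y ∈ P := Ideal.mul_le_left hy
      have hzaP : z * a ∈ P := by
        have := P.sub_mem hx hyP
        simpa using this
      have hzP : z ∈ P := (hP.mem_or_mem hzaP).resolve_right ha
      rw [Ideal.mul_sup]
      refine Ideal.add_mem _ (Ideal.mem_sup_left hy) (Ideal.mem_sup_right ?_)
      rw [mul_comm z a]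
      have : a * z = z * a := mul_comm a z
      rw [this]
      exact Ideal.mul_mem_mul hzP (Ideal.mem_span_singleton_self a)
    -- cancel P
    have h1 : (P : FractionalIdeal (nonZeroDivisors R) (FractionRing R)) ≤
        (P : FractionalIdeal (nonZeroDivisors R) (FractionRing R)) *
          ((P ⊔ Ideal.span {a} : Ideal R) : FractionalIdeal (nonZeroDivisors R) (FractionRing R)) := by
      rw [← coeIdeal_mul]
      exact (coeIdeal_le_coeIdeal (FractionRing R)).2 hPle
    obtain ⟨u, hu'⟩ := hu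
    have h2 : (↑u⁻¹ : FractionalIdeal (nonZeroDivisors R) (FractionRing R)) *
        (P : FractionalIdeal (nonZeroDivisors R) (FractionRing R)) ≤
        (↑u⁻¹ : FractionalIdeal (nonZeroDivisors R) (FractionRing R)) *
        ((P : FractionalIdeal (nonZeroDivisors R) (FractionRing R)) *
          ((P ⊔ Ideal.span {a} : Ideal R) : FractionalIdeal (nonZeroDivisors R) (FractionRing R))) :=
      mul_le_mul_right h1 _
    rw [← hu', ← mul_assoc, Units.inv_mul, one_mul] at h2
    rw [eq_top_iff, ← coeIdeal_le_coeIdeal (FractionRing R), coeIdeal_top]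
    exact h2
  refine Ideal.isMaximal_def.2 ⟨hP.ne_top, fun M hM => ?_⟩
  obtain ⟨a, haM, haP⟩ := SetLike.exists_of_lt hM
  rw [eq_top_iff, ← key a haP]
  exact sup_le hM.le ((Ideal.span_singleton_le_iff_mem M).2 haM)

/-- (1) ⇒ (3): let R be a domain such that every nonzero ideal is a product of nonzero prime ideals,
uniquely up to permutation of the factors. Then R is Noetherian, integrally closed and of dimension
at most one, i.e. a Dedekind domain in the Noetherian sense. (The converse and the description by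
discrete valuation rings at maximal ideals are the standard equivalences.) -/
theorem result (R : Type u) [CommRing R] [IsDomain R]
    (h : ∀ I : Ideal R, I ≠ ⊥ → ∃! s : Multiset (Ideal R), (∀ p ∈ s, p.IsPrime ∧ p ≠ ⊥) ∧ s.prod = I) :
    IsDedekindDomain R := by
  classical
  have h' : ∀ I : Ideal R, I ≠ ⊥ → ∃ s : Multiset (Ideal R),
      (∀ p ∈ s, p.IsPrime ∧ p ≠ ⊥) ∧ s.prod = I := by
    intro I hI
    obtain ⟨s, hs, -⟩ := h I hI
    exact ⟨s, hs⟩
  -- every nonzero prime is a unit
  have hC : ∀ P : Ideal R, P.IsPrime → P ≠ ⊥ →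
      IsUnit (P : FractionalIdeal (nonZeroDivisors R) (FractionRing R)) := by
    intro P hP hPne
    obtain ⟨b, hbP, hb0⟩ := Submodule.exists_mem_ne_zero_of_ne_bot hPne
    have hsp : Ideal.span {b} ≠ ⊥ := by
      rw [Ne, Ideal.span_singleton_eq_bot]; exact hb0
    obtain ⟨s, hs, hprod⟩ := h' _ hsp
    have hU := unit_of_mem_of_prod_eq_span s b hb0 hprod
    have hle : s.prod ≤ P := by
      rw [hprod]; exact (Ideal.span_singleton_le_iff_mem P).2 hbP
    obtain ⟨Q, hQ, hQP⟩ := (Ideal.IsPrime.multiset_prod_le hP).1 hle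
    have hQmax := maximal_of_unit R h' Q (hs Q hQ).1 (hU Q hQ)
    have : Q = P := hQmax.eq_of_le hP.ne_top hQP
    rw [← this]; exact hU Q hQ
  -- every nonzero ideal is a unit
  have hD : ∀ I : Ideal R, I ≠ ⊥ →
      IsUnit (I : FractionalIdeal (nonZeroDivisors R) (FractionRing R)) := by
    intro I hI
    obtain ⟨s, hs, hprod⟩ := h' I hI
    rw [← hprod]
    have := map_multiset_prod (FractionalIdeal.coeIdealHom (nonZeroDivisors R) (FractionRing R)) s
    rw [FractionalIdeal.coeIdealHom_apply] at this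
    rw [this]
    apply Multiset.prod_induction (p := IsUnit)
    · intro a b ha hb; exact ha.mul hb
    · exact isUnit_one
    · intro x hx
      obtain ⟨Q, hQ, rfl⟩ := Multiset.mem_map.1 hx
      exact hC Q (hs Q hQ).1 (hs Q hQ).2
  rw [isDedekindDomain_iff_mul_inv_cancel (K := FractionRing R)]
  intro I hI
  rw [FractionalIdeal.mul_inv_cancel_iff_isUnit]
  obtain ⟨a, J, ha, hJ⟩ := FractionalIdeal.exists_eq_spanSingleton_mul I
  have ha' : algebraMap R (FractionRing R) a ≠ 0 := by
    intro h0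
    exact ha ((injective_iff_map_eq_zero (algebraMap R (FractionRing R))).1
      (IsFractionRing.injective R (FractionRing R)) a h0)
  have hJne : J ≠ ⊥ := by
    rintro rfl
    apply hI
    rw [hJ, FractionalIdeal.coeIdeal_bot, mul_zero]
    rfl
  rw [hJ]
  refine IsUnit.mul ?_ (hD J hJne)
  refine IsUnit.of_mul_eq_one (FractionalIdeal.spanSingleton (nonZeroDivisors R)
    (algebraMap R (FractionRing R) a)) ?_
  rw [FractionalIdeal.spanSingleton_mul_spanSingleton, inv_mul_cancel₀ ha',
    FractionalIdeal.spanSingleton_one]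

end Groth.Agent.S6369
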