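import Groth.Statements.S6371
import Mathlib.Algebra.Category.Ring.Epi
import Mathlib.RingTheory.Localization.AtPrime.Basic
import Mathlib.RingTheory.Localization.Basic

set_option autoImplicit false
universe u
open CAlg

namespace Groth.Agent.S6371

open CategoryTheory in
lemma isEpi_iff_ringHom {A B : Type u} [CommRing A] [CommRing B] [Algebra A B] :
    Algebra.IsEpi A B ↔ ∀ (T : Type u) [CommRing T] (f g : B →+* T),
      f.comp (algebraMap A B) = g.comp (algebraMap A B) → f = g := by
  rw [← CommRingCat.epi_iff_epi]
  constructor
  · intro h T _ f g e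
    have h1 : CommRingCat.ofHom (algebraMap A B) ≫ CommRingCat.ofHom f =
        CommRingCat.ofHom (algebraMap A B) ≫ CommRingCat.ofHom g := by
      rw [← CommRingCat.ofHom_comp, ← CommRingCat.ofHom_comp, e]
    have h2 := (cancel_epi _).mp h1
    exact congrArg CommRingCat.Hom.hom h2
  · intro H
    constructor
    intro Z u v e
    apply CommRingCat.hom_ext
    apply H Z u.hom v.hom
    have := congrArg CommRingCat.Hom.hom e
    simpa using this

section
variable (R S : Type u) [CommRing R] [CommRing S] [Algebra R S]

lemma forward (h : Algebra.IsEpi R S) (p : Ideal R) [p.IsPrime] :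
    Algebra.IsEpi (Localization.AtPrime p)
      (Localization (Algebra.algebraMapSubmonoid S p.primeCompl)) := by
  rw [isEpi_iff_ringHom] at h ⊢
  intro T _ f g e
  apply IsLocalization.ringHom_ext (Algebra.algebraMapSubmonoid S p.primeCompl)
  apply h T
  ext r
  simp only [RingHom.comp_apply]
  rw [← IsScalarTower.algebraMap_apply R S (Localization (Algebra.algebraMapSubmonoid S p.primeCompl)),
    IsScalarTower.algebraMap_apply R (Localization.AtPrime p)
      (Localization (Algebra.algebraMapSubmonoid S p.primeCompl))]
  exact RingHom.congr_fun e _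

lemma backward (h : ∀ (p : Ideal R) [p.IsPrime], Algebra.IsEpi (Localization.AtPrime p)
      (Localization (Algebra.algebraMapSubmonoid S p.primeCompl))) : Algebra.IsEpi R S := by
  classical
  rw [isEpi_iff_ringHom]
  intro T _ f g hfg
  ext s
  by_contra hne
  have hfgr : ∀ r : R, g (algebraMap R S r) = f (algebraMap R S r) :=
    fun r => (RingHom.congr_fun hfg r).symm
  -- the ideal of `r` with `r • f s = r • g s`
  let I : Ideal R :=
    { carrier := {r | f (algebraMap R S r) * f s = f (algebraMap R S r) * g s}
      add_mem' := by
        intro a b ha hb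
        simp only [Set.mem_ofPred_eq] at ha hb ⊢
        rw [map_add, map_add, add_mul, add_mul, ha, hb]
      zero_mem' := by simp
      smul_mem' := by
        intro c a ha
        simp only [Set.mem_ofPred_eq, smul_eq_mul] at ha ⊢
        rw [map_mul, map_mul, mul_assoc, mul_assoc, ha] }
  have hI : I ≠ ⊤ := by
    intro htop
    have h1 : (1 : R) ∈ I := htop ▸ Submodule.mem_top
    have h2 : f (algebraMap R S 1) * f s = f (algebraMap R S 1) * g s := h1
    rw [map_one, map_one, one_mul, one_mul] at h2
    exact hne h2
  obtain ⟨P, hPmax, hIP⟩ := Ideal.exists_le_maximal I hI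
  have hPprime : P.IsPrime := hPmax.isPrime
  obtain ⟨MT, hMT⟩ : ∃ MT : Submonoid T,
      MT = Submonoid.map (f.comp (algebraMap R S)) P.primeCompl := ⟨_, rfl⟩
  have hyf : Algebra.algebraMapSubmonoid S P.primeCompl ≤ MT.comap f := by
    rintro _ ⟨r, hr, rfl⟩
    rw [Submonoid.mem_comap, hMT]
    exact ⟨r, hr, rfl⟩
  have hyg : Algebra.algebraMapSubmonoid S P.primeCompl ≤ MT.comap g := by
    rintro _ ⟨r, hr, rfl⟩
    rw [Submonoid.mem_comap, hMT]
    exact ⟨r, hr, (hfgr r).symm⟩
  have hP := h P
  rw [isEpi_iff_ringHom] at hP
  have heq : (IsLocalization.map (Localization MT) f hyf :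
      Localization (Algebra.algebraMapSubmonoid S P.primeCompl) →+* Localization MT) =
      IsLocalization.map (Localization MT) g hyg := by
    apply hP (Localization MT)
    apply IsLocalization.ringHom_ext P.primeCompl
    ext r
    simp only [RingHom.comp_apply]
    rw [← IsScalarTower.algebraMap_apply R (Localization.AtPrime P)
      (Localization (Algebra.algebraMapSubmonoid S P.primeCompl)),
      IsScalarTower.algebraMap_apply R S
        (Localization (Algebra.algebraMapSubmonoid S P.primeCompl)),
      IsLocalization.map_eq, IsLocalization.map_eq, hfgr]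
  have h1 : algebraMap T (Localization MT) (f s) = algebraMap T (Localization MT) (g s) := by
    rw [← IsLocalization.map_eq (S := Localization (Algebra.algebraMapSubmonoid S P.primeCompl)) hyf,
      ← IsLocalization.map_eq (S := Localization (Algebra.algebraMapSubmonoid S P.primeCompl)) hyg,
      heq]
  obtain ⟨⟨c, hc⟩, hcs⟩ := (IsLocalization.eq_iff_exists MT (Localization MT)).mp h1
  rw [hMT] at hc
  obtain ⟨r, hr, rfl⟩ := hc
  have hrI : r ∈ I := hcs
  exact hr (hIP hrI)

end

/-- A ring map R → S is an epimorphism of rings if and only if for every prime p of R the localized map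
R_p → S_p is an epimorphism, where S_p is S localized at the image of R ∖ p. -/
theorem result (R S : Type u) [CommRing R] [CommRing S] [Algebra R S] :
    Algebra.IsEpi R S ↔ ∀ (p : Ideal R) [p.IsPrime],
      Algebra.IsEpi (Localization.AtPrime p) (Localization (Algebra.algebraMapSubmonoid S p.primeCompl)) := by
  exact ⟨fun h p _ => forward R S h p, fun h => backward R S h⟩

end Groth.Agent.S6371
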