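import Groth.Statements.S6372
import Mathlib
-- import your own Groth.Agent.* helpers here

set_option autoImplicit false
universe u
open CAlg

namespace Groth.Agent.S6372

/-- A faithfully flat epimorphism of rings is an isomorphism: if R → S is faithfully flat and an
epimorphism in the category of rings then it is bijective. -/
theorem result (R S : Type u) [CommRing R] [CommRing S] [Algebra R S]
    [Module.FaithfullyFlat R S] [Algebra.IsEpi R S] : Function.Bijective (algebraMap R S) := by
  have hmul_inj : Function.Injective (TensorProduct.lift (LinearMap.mul R S)) :=
    Algebra.IsEpi.injective_lift_mul
  have key : ∀ x : TensorProduct R S R,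
      TensorProduct.lift (LinearMap.mul R S) ((Algebra.linearMap R S).lTensor S x)
        = TensorProduct.rid R S x := by
    intro x
    induction x using TensorProduct.induction_on with
    | zero => simp
    | tmul s r => simp [Algebra.smul_def, mul_comm]
    | add a b ha hb => rw [map_add, map_add, map_add, ha, hb]
  have hbij : Function.Bijective ((Algebra.linearMap R S).lTensor S) := by
    constructor
    · intro x y hxy
      apply (TensorProduct.rid R S).injective
      rw [← key, ← key, hxy]
    · intro z
      refine ⟨(TensorProduct.rid R S).symm (TensorProduct.lift (LinearMap.mul R S) z), ?_⟩
      apply hmul_inj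
      rw [key, LinearEquiv.apply_symm_apply]
  exact (Module.FaithfullyFlat.lTensor_bijective_iff_bijective R S (Algebra.linearMap R S)).mp hbij

end Groth.Agent.S6372
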