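import Groth.Statements.S6374
import Groth.Agent.S6373

set_option autoImplicit false
universe u
open CAlg

namespace Groth.Agent.S6374

open TensorProduct

/-- base change of an epimorphism is an epimorphism. -/
lemma isEpi_baseChange (R S K : Type u) [CommRing R] [CommRing S] [Algebra R S] [CommRing K] [Algebra R K]
    [Algebra.IsEpi R S] : Algebra.IsEpi K (K ⊗[R] S) := by
  rw [Algebra.isEpi_iff_forall_one_tmul_eq]
  have hS := (Algebra.isEpi_iff_forall_one_tmul_eq R S).1 inferInstance
  -- the map S ⊗[R] S → T ⊗[K] T
  let ι : S →ₐ[R] K ⊗[R] S := Algebra.TensorProduct.includeRight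
  let α : S ⊗[R] S →ₐ[R] (K ⊗[R] S) ⊗[K] (K ⊗[R] S) :=
    Algebra.TensorProduct.lift
      ((Algebra.TensorProduct.includeLeft (R := K) (S := K) (A := K ⊗[R] S) (B := K ⊗[R] S)).restrictScalars R |>.comp ι)
      ((Algebra.TensorProduct.includeRight (R := K) (A := K ⊗[R] S) (B := K ⊗[R] S)).restrictScalars R |>.comp ι)
      (fun _ _ => Commute.all _ _)
  have hα : ∀ s : S, (1 : K ⊗[R] S) ⊗ₜ[K] ((1 : K) ⊗ₜ[R] s) = ((1 : K) ⊗ₜ[R] s) ⊗ₜ[K] (1 : K ⊗[R] S) := by
    intro s
    have := congrArg α (hS s)
    simp only [α, ι, Algebra.TensorProduct.lift_tmul, AlgHom.comp_apply, AlgHom.coe_restrictScalars',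
      Algebra.TensorProduct.includeRight_apply, Algebra.TensorProduct.includeLeft_apply, map_one,
      one_mul, mul_one] at this
    rw [Algebra.TensorProduct.one_def]
    exact this
  intro t
  induction t using TensorProduct.induction_on with
  | zero => simp
  | add x y hx hy => rw [TensorProduct.tmul_add, TensorProduct.add_tmul, hx, hy]
  | tmul k s =>
    have e : k ⊗ₜ[R] s = k • ((1 : K) ⊗ₜ[R] s) := by
      rw [TensorProduct.smul_tmul', smul_eq_mul, mul_one]
    rw [e, TensorProduct.tmul_smul, hα, TensorProduct.smul_tmul']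


/-- For an epimorphism of rings R → S, the induced map Spec S → Spec R is injective and induces trivial
residue field extensions; stated in the form the proof gives: for every prime p of R the fibre ring
S ⊗_R κ(p) is either zero or κ(p) → S ⊗_R κ(p) is bijective, together with injectivity of Spec S →
Spec R. -/
theorem result (R S : Type u) [CommRing R] [CommRing S] [Algebra R S]
    [Algebra.IsEpi R S] :
    Function.Injective (PrimeSpectrum.comap (algebraMap R S)) ∧
      ∀ (p : Ideal R) [p.IsPrime],
        Subsingleton (p.Fiber S) ∨ Function.Bijective (algebraMap p.ResidueField (p.Fiber S)) := by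
  have key : ∀ (p : Ideal R) [p.IsPrime],
      Subsingleton (p.Fiber S) ∨ Function.Bijective (algebraMap p.ResidueField (p.Fiber S)) := by
    intro p _
    haveI := isEpi_baseChange R S p.ResidueField
    exact Groth.Agent.S6373.result p.ResidueField (p.Fiber S)
  refine ⟨?_, fun p _ => key p⟩
  intro q₁ q₂ h
  set p := PrimeSpectrum.comap (algebraMap R S) q₁ with hp
  have hsub : Subsingleton (PrimeSpectrum (p.asIdeal.Fiber S)) := by
    rcases key p.asIdeal with h1 | h1
    · constructor
      intro a b
      exact (a.2.ne_top (Ideal.eq_top_iff_one _ |>.2 (by rw [Subsingleton.elim (1 : p.asIdeal.Fiber S) 0]; exact zero_mem _))).elim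
    · constructor
      have hbot : ∀ a : PrimeSpectrum (p.asIdeal.Fiber S), a.asIdeal = ⊥ := by
        intro a
        rw [eq_bot_iff]
        intro x hx
        obtain ⟨k, rfl⟩ := h1.2 x
        by_cases hk : k = 0
        · rw [hk, map_zero]; exact zero_mem _
        · exfalso
          apply a.2.ne_top
          rw [Ideal.eq_top_iff_one]
          have : (1 : p.asIdeal.Fiber S) = algebraMap _ _ k⁻¹ * algebraMap _ _ k := by
            rw [← map_mul, inv_mul_cancel₀ hk, map_one]
          rw [this]
          exact Ideal.mul_mem_left _ _ hx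
      intro a b
      apply PrimeSpectrum.ext
      rw [hbot a, hbot b]
  let e := PrimeSpectrum.preimageEquivFiber R S p
  have h2 : e ⟨q₁, rfl⟩ = e ⟨q₂, h.symm⟩ := Subsingleton.elim _ _
  have h3 := e.injective h2
  exact congrArg Subtype.val h3

end Groth.Agent.S6374
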