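import Groth.Statements.S6375
import Mathlib

set_option autoImplicit false
universe u
open CAlg

namespace Groth.Agent.S6375

open TensorProduct Cardinal

variable {R S : Type u} [CommRing R] [CommRing S] [Algebra R S]

/-- The data attached to an element: sizes and a matrix over `R`. -/
abbrev D (R : Type u) : Type u := Σ p : ℕ × ℕ, (Fin (p.1 + 2) × Fin p.2 → R)

/-- The vector `(g, -1, 0, …, 0)`. -/
def nvec (k : ℕ) (g : S) : Fin (k + 2) → S :=
  Fin.cons (α := fun _ => S) g (Fin.cons (α := fun _ => S) (-1) (fun _ => 0))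

theorem sum_mul_nvec (k : ℕ) (g : S) (mm : Fin (k + 2) → S) :
    ∑ i, mm i * nvec k g i = mm 0 * g - mm 1 := by
  rw [Fin.sum_univ_succ, Fin.sum_univ_succ]
  simp only [nvec, Fin.cons_zero, Fin.cons_succ, mul_zero, Finset.sum_const_zero, add_zero,
    mul_neg, mul_one]
  rw [← sub_eq_add_neg]
  rfl

/-- Witness relation. -/
def W (g : S) (d : D R) : Prop :=
  ∃ (mm : Fin (d.1.1 + 2) → S) (y : Fin d.1.2 → S), mm 0 = 1 ∧ mm 1 = g ∧
    (∀ i, nvec d.1.1 g i = ∑ j, d.2 (i, j) • y j) ∧ ∀ j, ∑ i, d.2 (i, j) • mm i = 0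

theorem W_unique {g g' : S} {d : D R} (h : W g d) (h' : W g' d) : g = g' := by
  obtain ⟨mm, y, h0, h1, hn, hm⟩ := h
  obtain ⟨mm', y', h0', h1', hn', hm'⟩ := h'
  have e1 : ∑ i, ∑ j, mm i * (d.2 (i, j) • y' j) = g' - g := by
    have : ∀ i, ∑ j, mm i * (d.2 (i, j) • y' j) = mm i * nvec d.1.1 g' i := by
      intro i
      rw [hn' i, Finset.mul_sum]
    rw [Finset.sum_congr rfl (fun i _ => this i), sum_mul_nvec, h0, h1, one_mul]
  have e2 : ∑ i, ∑ j, mm i * (d.2 (i, j) • y' j) = 0 := by
    rw [Finset.sum_comm]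
    apply Finset.sum_eq_zero
    intro j _
    have : ∀ i, mm i * (d.2 (i, j) • y' j) = (d.2 (i, j) • mm i) * y' j := by
      intro i
      rw [mul_smul_comm, smul_mul_assoc]
    rw [Finset.sum_congr rfl (fun i _ => this i), ← Finset.sum_mul, hm j, zero_mul]
  rw [e1] at e2
  exact (sub_eq_zero.mp e2).symm

theorem exists_W [Algebra.IsEpi R S] (g : S) : ∃ d : D R, W g d := by
  classical
  have h : (1 : S) ⊗ₜ[R] g = g ⊗ₜ[R] 1 :=
    (Algebra.isEpi_iff_forall_one_tmul_eq R S).mp inferInstance g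
  let P : Submodule R S := Submodule.span R {1, g}
  have hP : P.FG := Submodule.fg_span (Set.toFinite _)
  have h1P : (1 : S) ∈ P := Submodule.subset_span (by simp)
  have hgP : g ∈ P := Submodule.subset_span (by simp)
  let t : P ⊗[R] S := (⟨1, h1P⟩ : P) ⊗ₜ[R] g - (⟨g, hgP⟩ : P) ⊗ₜ[R] (1 : S)
  have ht : LinearMap.rTensor S P.subtype t = 0 := by
    simp only [t, map_sub, LinearMap.rTensor_tmul, Submodule.subtype_apply]
    rw [h, sub_self]
  obtain ⟨Q, hPQ, hQ, hQt⟩ := TensorProduct.eq_zero_of_fg_of_subtype_eq_zero hP ht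
  obtain ⟨k, m', hm'⟩ := Submodule.fg_iff_exists_fin_generating_family.mp hQ
  have hm'Q : ∀ i, m' i ∈ Q := by
    intro i
    rw [← hm']
    exact Submodule.subset_span ⟨i, rfl⟩
  let m : Fin (k + 2) → Q :=
    Fin.cons (α := fun _ => ↥Q) ⟨1, hPQ h1P⟩
      (Fin.cons (α := fun _ => ↥Q) ⟨g, hPQ hgP⟩ (fun i => ⟨m' i, hm'Q i⟩))
  have hspan : Submodule.span R (Set.range m) = ⊤ := by
    apply Submodule.map_injective_of_injective Q.injective_subtype
    rw [Submodule.map_subtype_top, Submodule.map_span, ← Set.range_comp]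
    apply le_antisymm
    · rw [Submodule.span_le]
      rintro _ ⟨i, rfl⟩
      exact (m i).2
    · intro x hx
      have hx' : x ∈ Submodule.span R (Set.range m') := by rw [hm']; exact hx
      refine Submodule.span_mono ?_ hx'
      rintro _ ⟨i, rfl⟩
      exact ⟨i.succ.succ, by simp [m]⟩
  have hmn : ∑ i, m i ⊗ₜ[R] nvec k g i = 0 := by
    rw [Fin.sum_univ_succ, Fin.sum_univ_succ]
    simp only [nvec, m, Fin.cons_zero, Fin.cons_succ, TensorProduct.tmul_zero,
      Finset.sum_const_zero, add_zero, TensorProduct.tmul_neg]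
    have h2 := hQt
    simp only [t, map_sub, LinearMap.rTensor_tmul] at h2
    exact (sub_eq_add_neg _ _).symm.trans h2
  obtain ⟨k', a, y, hay, ham⟩ := TensorProduct.vanishesTrivially_of_sum_tmul_eq_zero R hspan hmn
  refine ⟨⟨(k, k'), fun p => a p.1 p.2⟩, fun i => (m i : S), y, ?_, ?_, ?_, ?_⟩
  · simp [m]
  · show ((m 1 : Q) : S) = g
    have : (1 : Fin (k + 2)) = Fin.succ 0 := rfl
    rw [this]
    simp [m]
  · intro i
    exact hay i
  · intro j
    have h3 := congrArg Q.subtype (ham j)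
    rw [map_sum, map_zero] at h3
    rw [← h3]
    apply Finset.sum_congr rfl
    intro i _
    rw [map_smul]
    rfl

theorem card_D_le [Infinite R] : #(D R) ≤ #R := by
  have hR : ℵ₀ ≤ #R := Cardinal.aleph0_le_mk R
  have hfib : ∀ p : ℕ × ℕ, #(Fin (p.1 + 2) × Fin p.2 → R) ≤ #R := by
    intro p
    rw [Cardinal.mk_arrow, Cardinal.mk_fintype (Fin (p.1 + 2) × Fin p.2)]
    simp only [Cardinal.lift_natCast, Cardinal.lift_uzero]
    exact Cardinal.power_nat_le hR
  calc #(D R) = Cardinal.sum fun p : ℕ × ℕ => #(Fin (p.1 + 2) × Fin p.2 → R) :=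
        Cardinal.mk_sigma _
    _ ≤ Cardinal.sum fun _ : ℕ × ℕ => #R := Cardinal.sum_le_sum _ _ hfib
    _ = #R := by
        rw [Cardinal.sum_const, Cardinal.mk_eq_aleph0 (ℕ × ℕ)]
        simp only [Cardinal.lift_aleph0, Cardinal.lift_uzero]
        exact Cardinal.aleph0_mul_eq hR



/-- For an infinite source ring: if R → S is an epimorphism of rings with R infinite, then |S| ≤ |R| as
cardinals. (For finite R the published statement also asserts |S| ≤ |R|, but its proof only gives
that S is countable and omits the rest, so that case is not included.) -/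
theorem result (R S : Type u) [CommRing R] [CommRing S] [Algebra R S] [Algebra.IsEpi R S]
    [Infinite R] : Cardinal.mk S ≤ Cardinal.mk R := by
  classical
  choose f hf using fun g : S => exists_W (R := R) g
  have hinj : Function.Injective f := by
    intro g g' hgg'
    have h1 := hf g
    have h2 := hf g'
    rw [← hgg'] at h2
    exact W_unique h1 h2
  exact (Cardinal.mk_le_of_injective hinj).trans card_D_le


end Groth.Agent.S6375
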