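import Groth.Statements.S6378
import Groth.Agent.Lib.Helper7.TorPres
import Groth.Agent.Lib.Helper7.GlueFlat
import Mathlib.RingTheory.FiniteLength
import Mathlib.RingTheory.SimpleModule.Basic

set_option autoImplicit false
universe u
open CategoryTheory
open CAlg

namespace Groth.Agent.S6378


open Groth.Agent.Lib.helper7 TensorProduct

/-- Let (R, m, κ) be a local ring and M an R-module with Tor_1^R(κ, M) = 0. Then Tor_1^R(N, M) = 0 for
every finite length R-module N. -/
theorem result (R : Type u) [CommRing R] [IsLocalRing R]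
    (M : Type u) [AddCommGroup M] [Module R M]
    (h : Limits.IsZero (((CategoryTheory.Tor (ModuleCat.{u} R) 1).obj (ModuleCat.of R (IsLocalRing.ResidueField R))).obj (ModuleCat.of R M)))
    (N : Type u) [AddCommGroup N] [Module R N] (hN : IsFiniteLength R N) :
    Limits.IsZero (((CategoryTheory.Tor (ModuleCat.{u} R) 1).obj (ModuleCat.of R N)).obj (ModuleCat.of R M)) := by
  classical
  obtain ⟨π, hπdef⟩ : ∃ π : (M →₀ R) →ₗ[R] M, π = Finsupp.linearCombination R id := ⟨_, rfl⟩
  have hπ : Function.Surjective π := by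
    intro x
    exact ⟨Finsupp.single x 1, by rw [hπdef]; simp⟩
  obtain ⟨K, _, _, j, hjinj, hex⟩ : ∃ (K : Type u) (_ : AddCommGroup K) (_ : Module R K)
      (j : K →ₗ[R] (M →₀ R)), Function.Injective j ∧ Function.Exact j π :=
    ⟨LinearMap.ker π, inferInstance, inferInstance, (LinearMap.ker π).subtype,
      Submodule.subtype_injective _, LinearMap.exact_subtype_ker_map π⟩
  have hj : Function.Injective (LinearMap.lTensor (IsLocalRing.ResidueField R) j) :=
    (TorPres.isZero_iff_of_exact (IsLocalRing.ResidueField R) M j π hjinj hex hπ).1 h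
  apply (TorPres.isZero_iff_of_exact N M j π hjinj hex hπ).2
  clear h
  induction hN with
  | of_subsingleton =>
    rename_i N _ _ _
    intro a b _
    have hz : ∀ z : N ⊗[R] K, z = 0 := by
      intro z
      induction z using TensorProduct.induction_on with
      | zero => rfl
      | tmul x k => rw [Subsingleton.elim x 0, TensorProduct.zero_tmul]
      | add x y hx hy => rw [hx, hy, add_zero]
    rw [hz a, hz b]
  | of_simple_quotient hN' ih =>
    rename_i N _ _ N₁ hs
    obtain ⟨𝔪, h𝔪, ⟨e⟩⟩ := isSimpleModule_iff_quot_maximal.1 hs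
    have h𝔪' : 𝔪 = IsLocalRing.maximalIdeal R := IsLocalRing.eq_maximalIdeal h𝔪
    subst h𝔪'
    have h3 : Function.Injective (LinearMap.lTensor (N ⧸ N₁) j) :=
      GlueFlat.lTensor_injective_of_equiv j e hj
    obtain ⟨T, _, _, a, b, hab, hb, ha, h1⟩ : ∃ (T : Type u) (_ : AddCommGroup T) (_ : Module R T)
        (a : T →ₗ[R] N) (b : N →ₗ[R] N ⧸ N₁), Function.Exact a b ∧ Function.Surjective b ∧
        Function.Injective a ∧ Function.Injective (LinearMap.lTensor T j) :=
      ⟨N₁, inferInstance, inferInstance, N₁.subtype, N₁.mkQ, LinearMap.exact_subtype_mkQ N₁,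
        Submodule.mkQ_surjective N₁, Submodule.subtype_injective N₁, ih⟩
    exact GlueFlat.lTensor_injective_of_ses a b hab hb ha j h1 h3

end Groth.Agent.S6378
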