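import Groth.Statements.S6381
import Groth.Agent.Lib.Helper22.ResFieldExt

set_option autoImplicit false
universe u
open CAlg

namespace Groth.Agent.S6381

/-- Let R be a ring, p ⊆ R a prime and L a finite extension of the residue field κ(p). Then one can find
a ring map R → S, with S finite free over R, for which q = pS is a prime of S and the residue field
κ(q) is isomorphic to L over κ(p) (stated as a ring isomorphism κ(q) ≅ L compatible with the maps
from R, which determines compatibility with κ(p)). -/
theorem result (R : Type u) [CommRing R] (p : Ideal R) [p.IsPrime]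
    (L : Type u) [Field L] [Algebra p.ResidueField L] [FiniteDimensional p.ResidueField L]
    [Algebra R L] [IsScalarTower R p.ResidueField L] :
    ∃ (S : Type u) (_ : CommRing S) (_ : Algebra R S) (_ : Module.Finite R S) (_ : Module.Free R S)
      (_ : (p.map (algebraMap R S)).IsPrime)
      (e : (p.map (algebraMap R S)).ResidueField ≃+* L),
      ∀ r : R, e (algebraMap R (p.map (algebraMap R S)).ResidueField r) = algebraMap R L r := by
  classical
  obtain ⟨D⟩ := Groth.Agent.Lib.helper22.ResFieldExt.exists_datum_top (R := R) (p := p) (L := L)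
  have hq : (p.map (algebraMap R D.S)).IsPrime := D.ker_eq ▸ RingHom.ker_isPrime D.ψ
  have hf₁ : p.map (algebraMap R D.S) ≤ RingHom.ker (D.ψ : D.S →+* L) := le_of_eq D.ker_eq.symm
  have hf₂ : (p.map (algebraMap R D.S)).primeCompl ≤
      (IsUnit.submonoid L).comap (D.ψ : D.S →+* L) := by
    intro s hs
    rw [Submonoid.mem_comap]
    show IsUnit _
    rw [isUnit_iff_ne_zero]
    intro h0
    apply hs
    show s ∈ p.map (algebraMap R D.S)
    rw [← D.ker_eq]
    exact h0
  let e₀ : (p.map (algebraMap R D.S)).ResidueField →+* L :=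
    Ideal.ResidueField.lift (p.map (algebraMap R D.S)) (D.ψ : D.S →+* L) hf₁ hf₂
  have he₀ : ∀ s : D.S, e₀ (algebraMap D.S _ s) = D.ψ s := fun s =>
    Ideal.ResidueField.lift_algebraMap _ _ hf₁ hf₂ s
  have hbij : Function.Bijective e₀ := by
    refine ⟨e₀.injective, fun y => ?_⟩
    obtain ⟨s, t, ht, h⟩ := D.frac y (IntermediateField.mem_top)
    refine ⟨algebraMap D.S _ s / algebraMap D.S _ t, ?_⟩
    rw [map_div₀, he₀, he₀, ← h, mul_div_cancel_right₀ _ ht]
  refine ⟨D.S, inferInstance, inferInstance, inferInstance, inferInstance, hq,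
    RingEquiv.ofBijective e₀ hbij, fun r => ?_⟩
  rw [RingEquiv.ofBijective_apply,
    IsScalarTower.algebraMap_apply R D.S (p.map (algebraMap R D.S)).ResidueField, he₀]
  exact D.ψ.commutes r

end Groth.Agent.S6381
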