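import Groth.Statements.S6382
import Mathlib
import Groth.Agent.Lib.Helper8.LocalFlat

set_option autoImplicit false
universe u
open CAlg

namespace Groth.Agent.S6382

open TensorProduct IsLocalRing Groth.Agent.Lib.helper8.LocalFlat


lemma flat_tensor {R S : Type*} [CommRing R] [CommRing S] [Algebra R S]
    (X : Type*) [AddCommGroup X] [Module S X] [Module R X] [IsScalarTower R S X] [Module.Flat S X]
    (M : Type*) [AddCommGroup M] [Module S M] [Module R M] [IsScalarTower R S M]
    [Module.Flat R M] :
    Module.Flat R (X ⊗[S] M) := by
  rw [Module.Flat.iff_lTensor_injective']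
  intro 𝔞
  have key : ∀ z, AlgebraTensorModule.assoc R S S X M R (𝔞.subtype.lTensor (X ⊗[S] M) z) =
      (AlgebraTensorModule.lTensor S M 𝔞.subtype).lTensor X
        (AlgebraTensorModule.assoc R S S X M 𝔞 z) := by
    intro z
    induction z using TensorProduct.induction_on with
    | zero => simp
    | add a b ha hb => simp only [map_add, ha, hb]
    | tmul w a =>
      induction w using TensorProduct.induction_on with
      | zero => simp
      | add a b ha hb => simp only [add_tmul, map_add, ha, hb]
      | tmul x m => simp
  have h1 : Function.Injective (AlgebraTensorModule.lTensor S M 𝔞.subtype) := by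
    rw [AlgebraTensorModule.coe_lTensor]
    exact Module.Flat.lTensor_preserves_injective_linearMap _ Subtype.val_injective
  have h2 : Function.Injective ((AlgebraTensorModule.lTensor S M 𝔞.subtype).lTensor X) :=
    Module.Flat.lTensor_preserves_injective_linearMap _ h1
  intro x y hxy
  apply (AlgebraTensorModule.assoc R S S X M 𝔞).injective
  apply h2
  rw [← key, ← key, hxy]



/-- Consider a commutative square of local rings and local homomorphisms R → S, R → R', S → S', R' → S',
and a finite S-module M. Assume the maps R → R' and S → S' are flat, M is flat over R, the maximal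
ideal of R generates the maximal ideal of R', and R', S' are Noetherian. Then M' = M ⊗_S S' (any
base change of M along S → S') is flat over R'. -/
theorem result (R S R' S' : Type u) [CommRing R] [CommRing S]
    [CommRing R'] [CommRing S'] [IsLocalRing R] [IsLocalRing S] [IsLocalRing R'] [IsLocalRing S']
    [Algebra R S] [Algebra R R'] [Algebra S S'] [Algebra R' S'] [Algebra R S']
    [IsScalarTower R S S'] [IsScalarTower R R' S']
    [IsLocalHom (algebraMap R S)] [IsLocalHom (algebraMap R R')] [IsLocalHom (algebraMap S S')]
    [IsLocalHom (algebraMap R' S')] [Module.Flat R R'] [Module.Flat S S']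
    [IsNoetherianRing R'] [IsNoetherianRing S']
    (hm : (IsLocalRing.maximalIdeal R).map (algebraMap R R') = IsLocalRing.maximalIdeal R')
    (M : Type u) [AddCommGroup M] [Module S M] [Module R M] [IsScalarTower R S M] [Module.Finite S M]
    [Module.Flat R M]
    (M' : Type u) [AddCommGroup M'] [Module S' M'] [Module S M'] [IsScalarTower S S' M'] [Module R' M']
    [IsScalarTower R' S' M'] (j : M →ₗ[S] M') (hj : IsBaseChange S' j) :
    Module.Flat R' M' := by
  letI : Module R M' := Module.compHom M' (algebraMap R R')
  haveI : IsScalarTower R R' M' := IsScalarTower.of_algebraMap_smul (fun r m => rfl)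
  haveI : IsScalarTower R S' M' := by
    refine IsScalarTower.of_algebraMap_smul (fun r m => ?_)
    rw [IsScalarTower.algebraMap_apply R R' S', algebraMap_smul]; rfl
  haveI : Module.Flat R (S' ⊗[S] M) := flat_tensor S' M
  have e : (S' ⊗[S] M) ≃ₗ[R] M' := hj.equiv.restrictScalars R
  haveI : Module.Flat R M' := Module.Flat.of_linearEquiv e.symm
  haveI : Module.Finite S' M' := Module.Finite.equiv hj.equiv
  have h1R : Function.Injective ((maximalIdeal R).subtype.rTensor M') :=
    Module.Flat.rTensor_preserves_injective_linearMap _ Subtype.val_injective
  have h1' := map_subtype_rTensor_injective (S := R') (maximalIdeal R) M' h1R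
  have key : ∀ J : Ideal R', (maximalIdeal R).map (algebraMap R R') = J →
      Function.Injective (J.subtype.rTensor M') := by
    rintro J rfl; exact h1'
  have h1 := key _ hm
  letI : Field (R' ⧸ maximalIdeal R') := Ideal.Quotient.field (maximalIdeal R')
  haveI : Module.Flat (R' ⧸ maximalIdeal R') ((R' ⧸ maximalIdeal R') ⊗[R'] M') := inferInstance
  have hJ : (maximalIdeal R').map (algebraMap R' S') ≤ Ideal.jacobson ⊥ := by
    refine le_trans ?_ (IsLocalRing.maximalIdeal_le_jacobson ⊥)
    exact IsLocalRing.map_maximalIdeal_le (algebraMap R' S')
  exact flat_of_forall_flat_quotient_pow (R := R') (S := S') (M := M') (maximalIdeal R') hJ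
    (fun k _ => flat_quotient_pow (maximalIdeal R') M' h1 k)

end Groth.Agent.S6382
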