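import Groth.Statements.S6384
import Mathlib
import Groth.Agent.S6352

set_option autoImplicit false
universe u
open scoped TensorProduct
open CAlg

namespace Groth.Agent.S6384

/-- flatness of the base change to `A` passes to the base change to an `A`-algebra `B` -/
theorem flat_tower (R A B N : Type u) [CommRing R] [CommRing A] [CommRing B] [Algebra R A]
    [Algebra R B] [Algebra A B] [IsScalarTower R A B] [AddCommGroup N] [Module R N]
    [Module.Flat A (A ⊗[R] N)] : Module.Flat B (B ⊗[R] N) :=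
  Module.Flat.of_linearEquiv
    (TensorProduct.AlgebraTensorModule.cancelBaseChange R A B B N).symm

/-- flatness of `B ⊗[R] N` over `B` gives flatness of `B ⊗[A] (A ⊗[R] N)` -/
theorem flat_tower' (R A B N : Type u) [CommRing R] [CommRing A] [CommRing B] [Algebra R A]
    [Algebra R B] [Algebra A B] [IsScalarTower R A B] [AddCommGroup N] [Module R N]
    [Module.Flat B (B ⊗[R] N)] : Module.Flat B (B ⊗[A] (A ⊗[R] N)) :=
  Module.Flat.of_linearEquiv
    (TensorProduct.AlgebraTensorModule.cancelBaseChange R A B B N)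

/-- Let φ : R → R' be a ring map, I ⊆ R an ideal and M an R-module such that M/IM is R/I-flat and R' ⊗_R
M is R'-flat. Put I₂ = φ⁻¹(φ(I²) R'). Then M/I₂M is flat over R/I₂. -/
theorem result (R R' : Type u) [CommRing R] [CommRing R'] [Algebra R R']
    (I : Ideal R) (M : Type u) [AddCommGroup M] [Module R M] [Module.Flat (R ⧸ I) ((R ⧸ I) ⊗[R] M)]
    [Module.Flat R' (R' ⊗[R] M)] :
    Module.Flat (R ⧸ ((I ^ 2).map (algebraMap R R')).comap (algebraMap R R'))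
      ((R ⧸ ((I ^ 2).map (algebraMap R R')).comap (algebraMap R R')) ⊗[R] M) := by
  classical
  -- notation
  let K : Ideal R' := (I ^ 2).map (algebraMap R R')
  let I₂ : Ideal R := K.comap (algebraMap R R')
  let q : R ⧸ I₂ →+* R' ⧸ K := Ideal.quotientMap K (algebraMap R R') le_rfl
  have hq : Function.Injective q := Ideal.quotientMap_injective
  letI algQ : Algebra (R ⧸ I₂) (R' ⧸ K) := q.toAlgebra
  haveI tow1 : IsScalarTower R (R ⧸ I₂) (R' ⧸ K) :=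
    IsScalarTower.of_algebraMap_eq (fun r => rfl)
  -- the nilpotent ideal
  let Ibar : Ideal (R ⧸ I₂) := I.map (Ideal.Quotient.mk I₂)
  have hI2 : I ^ 2 ≤ I₂ := Ideal.le_comap_map
  have hnil : IsNilpotent Ibar := by
    refine ⟨2, ?_⟩
    show Ibar ^ 2 = ⊥
    rw [← Ideal.map_pow, eq_bot_iff]
    refine (Ideal.map_mono hI2).trans ?_
    rw [Ideal.map_quotient_self]
  -- the quotient `T = (R/I₂)/Ī` as an `R/I`-algebra
  have hkill : ∀ a ∈ I, algebraMap R ((R ⧸ I₂) ⧸ Ibar) a = 0 := by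
    intro a ha
    show Ideal.Quotient.mk Ibar (Ideal.Quotient.mk I₂ a) = 0
    rw [Ideal.Quotient.eq_zero_iff_mem]
    exact Ideal.mem_map_of_mem _ ha
  letI algT : Algebra (R ⧸ I) ((R ⧸ I₂) ⧸ Ibar) :=
    (Ideal.Quotient.lift I (algebraMap R ((R ⧸ I₂) ⧸ Ibar)) hkill).toAlgebra
  haveI tow2 : IsScalarTower R (R ⧸ I) ((R ⧸ I₂) ⧸ Ibar) :=
    IsScalarTower.of_algebraMap_eq (fun r => rfl)
  -- flatness over `T`
  haveI f1 : Module.Flat ((R ⧸ I₂) ⧸ Ibar) (((R ⧸ I₂) ⧸ Ibar) ⊗[R] M) :=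
    flat_tower R (R ⧸ I) ((R ⧸ I₂) ⧸ Ibar) M
  haveI f2 : Module.Flat ((R ⧸ I₂) ⧸ Ibar) (((R ⧸ I₂) ⧸ Ibar) ⊗[R ⧸ I₂] ((R ⧸ I₂) ⊗[R] M)) :=
    flat_tower' R (R ⧸ I₂) ((R ⧸ I₂) ⧸ Ibar) M
  -- flatness over `R'/K`
  haveI f3 : Module.Flat (R' ⧸ K) ((R' ⧸ K) ⊗[R] M) := flat_tower R R' (R' ⧸ K) M
  haveI f4 : Module.Flat (R' ⧸ K) ((R' ⧸ K) ⊗[R ⧸ I₂] ((R ⧸ I₂) ⊗[R] M)) :=
    flat_tower' R (R ⧸ I₂) (R' ⧸ K) M
  exact Groth.Agent.S6352.result (R ⧸ I₂) (R' ⧸ K) hq Ibar hnil ((R ⧸ I₂) ⊗[R] M)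

end Groth.Agent.S6384
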