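import Groth.Statements.S6385
import Mathlib
import Groth.Agent.Lib.Helper19.FibreCone2

set_option autoImplicit false
universe u
open CAlg

namespace Groth.Agent.S6385


section aux

theorem dim_mvPoly (k : Type u) [Field k] (s : ℕ) :
    ringKrullDim (MvPolynomial (Fin s) k) = s := by
  rw [MvPolynomial.ringKrullDim_of_isNoetherianRing, ringKrullDim_eq_zero_of_field]
  simp

theorem nn_aux (k T : Type u) [Field k] [CommRing T] [Nontrivial T] [Algebra k T]
    [Algebra.FiniteType k T] :
    ∃ (d : ℕ), ringKrullDim T = d ∧ ∃ φ : MvPolynomial (Fin d) k →ₐ[k] T,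
      Function.Injective φ ∧ φ.toRingHom.Finite := by
  obtain ⟨s, φ, hinj, hfin⟩ := exists_finite_inj_algHom_of_fg k T
  refine ⟨s, ?_, φ, hinj, hfin⟩
  have hint : φ.toRingHom.IsIntegral := RingHom.Finite.to_isIntegral hfin
  apply le_antisymm
  · rw [← dim_mvPoly k s]
    exact Groth.Agent.Lib.helper19.FibreCone.ringKrullDim_le_of_isIntegral φ.toRingHom hint
  · rw [← dim_mvPoly k s]
    exact Groth.Agent.Lib.helper19.FibreCone.ringKrullDim_le_of_isIntegral_of_injective
      φ.toRingHom hint hinj

end aux


/-- Let k be a field, S a finite type k-algebra, q a prime of S and x the corresponding point of X =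
Spec S. Then there is g ∈ S, g ∉ q, such that dim S_g equals dim_x X — the minimum of dim S_{g'}
over all g' ∉ q — and, writing d for this dimension, a finite injective k-algebra map from the
polynomial ring k[y_1, ..., y_d] to S_g. -/
theorem result (k S : Type u) [Field k] [CommRing S] [Algebra k S]
    [Algebra.FiniteType k S] (q : Ideal S) [q.IsPrime] :
    ∃ (g : S) (d : ℕ), g ∉ q ∧ ringKrullDim (Localization.Away g) = d ∧
      (∀ g' : S, g' ∉ q → ringKrullDim (Localization.Away g) ≤ ringKrullDim (Localization.Away g')) ∧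
      ∃ φ : MvPolynomial (Fin d) k →ₐ[k] Localization.Away g, Function.Injective φ ∧ φ.toRingHom.Finite := by
  classical
  let V : Set (WithBot ℕ∞) := {x | ∃ g : S, g ∉ q ∧ x = ringKrullDim (Localization.Away g)}
  have hV : V.Nonempty :=
    ⟨_, 1, fun h => (Ideal.IsPrime.ne_top inferInstance) ((Ideal.eq_top_iff_one q).mpr h), rfl⟩
  obtain ⟨x, ⟨g, hg, rfl⟩, hmin⟩ := WellFounded.has_min (wellFounded_lt (α := WithBot ℕ∞)) V hV
  have hnt : Nontrivial (Localization.Away g) := by
    have hu : IsUnit (algebraMap S (Localization.AtPrime q) g) :=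
      IsLocalization.map_units (M := q.primeCompl) _ ⟨g, hg⟩
    let ψ : Localization.Away g →+* Localization.AtPrime q := IsLocalization.Away.lift g hu
    exact ψ.domain_nontrivial
  obtain ⟨d, hd, φ, hinj, hfin⟩ := nn_aux k (Localization.Away g)
  refine ⟨g, d, hg, hd, ?_, φ, hinj, hfin⟩
  intro g' hg'
  exact not_lt.mp (hmin _ ⟨g', hg', rfl⟩)


end Groth.Agent.S6385
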