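import Groth.Statements.S6386
import Mathlib

set_option autoImplicit false
universe u
open CAlg

namespace Groth.Agent.S6386

open Cardinal

variable {A B : Type u} [CommRing A] [CommRing B] [Algebra A B]

/-- Index type of potential relations with entries in a set `S`. -/
abbrev RelIdx (A : Type u) {B : Type u} (S : Set B) : Type u :=
  Σ l : ℕ, (Fin l → A) × (Fin l → S)

theorem exists_triv [Module.Flat A B] (S : Set B) (r : RelIdx A S) :
    ∃ T : Set B, T.Finite ∧ (∑ i, r.2.1 i • ((r.2.2 i : S) : B) = 0 →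
      ∃ (k : ℕ) (a : Fin r.1 → Fin k → A) (y : Fin k → B), (∀ j, y j ∈ T) ∧
        (∀ i, ((r.2.2 i : S) : B) = ∑ j, a i j • y j) ∧ ∀ j, ∑ i, r.2.1 i * a i j = 0) := by
  by_cases h : ∑ i, r.2.1 i • ((r.2.2 i : S) : B) = 0
  · obtain ⟨k, a, y, h1, h2⟩ :=
      Module.Flat.isTrivialRelation_of_sum_smul_eq_zero (R := A) (M := B) h
    exact ⟨Set.range y, Set.finite_range y, fun _ => ⟨k, a, y, fun j => ⟨j, rfl⟩, h1, h2⟩⟩
  · exact ⟨∅, Set.finite_empty, fun h' => absurd h' h⟩

/-- All chosen witnesses. -/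
noncomputable def Yall [Module.Flat A B] (S : Set B) : Set B :=
  ⋃ r : RelIdx A S, Classical.choose (exists_triv S r)

/-- The next subalgebra. -/
noncomputable def nextAlg [Module.Flat A B] (C : Subalgebra A B) : Subalgebra A B :=
  Algebra.adjoin A ((C : Set B) ∪ Yall (A := A) (C : Set B))

theorem le_nextAlg [Module.Flat A B] (C : Subalgebra A B) : C ≤ nextAlg C := by
  intro x hx
  exact Algebra.subset_adjoin (Or.inl hx)

/-- The chain. -/
noncomputable def chain [Module.Flat A B] (E : Subalgebra A B) : ℕ → Subalgebra A B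
  | 0 => E
  | n + 1 => nextAlg (chain E n)

theorem chain_mono [Module.Flat A B] (E : Subalgebra A B) : Monotone (chain E) :=
  monotone_nat_of_le_succ (fun n => le_nextAlg (chain E n))

theorem card_fun_le (X : Type u) (l : ℕ) (κ : Cardinal.{u}) (hκ : ℵ₀ ≤ κ) (hX : #X ≤ κ) :
    #(Fin l → X) ≤ κ := by
  rw [Cardinal.mk_arrow, Cardinal.mk_fintype (Fin l)]
  simp only [Fintype.card_fin, Cardinal.lift_natCast, Cardinal.lift_uzero]
  exact (Cardinal.power_le_power_right hX).trans (Cardinal.power_nat_le hκ)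

theorem card_relIdx_le (S : Set B) (κ : Cardinal.{u}) (hκ : ℵ₀ ≤ κ) (hA : #A ≤ κ)
    (hS : #S ≤ κ) : #(RelIdx A S) ≤ κ := by
  have hfib : ∀ l : ℕ, #((Fin l → A) × (Fin l → S)) ≤ κ := by
    intro l
    rw [Cardinal.mk_prod, Cardinal.lift_id, Cardinal.lift_id]
    exact (mul_le_mul' (card_fun_le A l κ hκ hA) (card_fun_le S l κ hκ hS)).trans
      (Cardinal.mul_eq_self hκ).le
  calc #(RelIdx A S) = Cardinal.sum fun l : ℕ => #((Fin l → A) × (Fin l → S)) :=
        Cardinal.mk_sigma _
    _ ≤ Cardinal.sum fun _ : ℕ => κ := Cardinal.sum_le_sum _ _ hfib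
    _ = κ := by
        rw [Cardinal.sum_const, Cardinal.mk_nat]
        simp only [Cardinal.lift_aleph0, Cardinal.lift_uzero]
        exact Cardinal.aleph0_mul_eq hκ

theorem card_Yall_le [Module.Flat A B] (S : Set B) (κ : Cardinal.{u}) (hκ : ℵ₀ ≤ κ)
    (hA : #A ≤ κ) (hS : #S ≤ κ) : #(Yall (A := A) S) ≤ κ := by
  unfold Yall
  refine Cardinal.mk_iUnion_le_sum_mk.trans ?_
  have h1 : ∀ r : RelIdx A S, #((Classical.choose (exists_triv S r) : Set B)) ≤ ℵ₀ := fun r =>
    (Cardinal.lt_aleph0_iff_set_finite.mpr (Classical.choose_spec (exists_triv S r)).1).le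
  refine (Cardinal.sum_le_sum _ _ h1).trans ?_
  rw [Cardinal.sum_const']
  exact (mul_le_mul' (card_relIdx_le S κ hκ hA hS) hκ).trans (Cardinal.mul_eq_self hκ).le

theorem card_nextAlg_le [Module.Flat A B] (C : Subalgebra A B) (κ : Cardinal.{u}) (hκ : ℵ₀ ≤ κ)
    (hA : #A ≤ κ) (hC : #C ≤ κ) : #(nextAlg C) ≤ κ := by
  unfold nextAlg
  refine (Algebra.cardinalMk_adjoin_le A _).trans ?_
  refine max_le (max_le hA ?_) hκ
  refine (Cardinal.mk_union_le _ _).trans ?_
  have h2 : #(Yall (A := A) (C : Set B)) ≤ κ := card_Yall_le (C : Set B) κ hκ hA hC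
  exact (add_le_add hC h2).trans (Cardinal.add_eq_self hκ).le

theorem card_chain_le [Module.Flat A B] (E : Subalgebra A B) (κ : Cardinal.{u}) (hκ : ℵ₀ ≤ κ)
    (hA : #A ≤ κ) (hE : #E ≤ κ) : ∀ n, #(chain E n) ≤ κ := by
  intro n
  induction n with
  | zero => exact hE
  | succ n ih => exact card_nextAlg_le (chain E n) κ hκ hA ih



/-- The key step of its proof: let A be a ring, κ = max(|A|, ℵ₀), and B a flat A-algebra. Then every
A-subalgebra E ⊆ B with at most κ elements lies inside a flat A-subalgebra B' ⊆ B with at most κ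
elements. Consequently B is the filtered colimit (union) of its flat A-subalgebras of cardinality at
most κ. -/
theorem result (A B : Type u) [CommRing A] [CommRing B] [Algebra A B]
    [Module.Flat A B] (E : Subalgebra A B) (hE : Cardinal.mk E ≤ max (Cardinal.mk A) Cardinal.aleph0) :
    ∃ B' : Subalgebra A B, E ≤ B' ∧ Module.Flat A B' ∧ Cardinal.mk B' ≤ max (Cardinal.mk A) Cardinal.aleph0 := by
  classical
  set κ : Cardinal.{u} := max (Cardinal.mk A) Cardinal.aleph0 with hκdef
  have hκ : Cardinal.aleph0 ≤ κ := le_max_right _ _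
  have hA : Cardinal.mk A ≤ κ := le_max_left _ _
  have dir : Directed (· ≤ ·) (chain E) := (chain_mono E).directed_le
  have hmem : ∀ x : B, x ∈ (⨆ n, chain E n) ↔ ∃ n, x ∈ chain E n := by
    intro x
    rw [← SetLike.mem_coe, Subalgebra.coe_iSup_of_directed dir, Set.mem_iUnion]
    rfl
  refine ⟨⨆ n, chain E n, le_iSup (chain E) 0, ?_, ?_⟩
  · apply Module.Flat.of_forall_isTrivialRelation
    intro l f x hfx
    have h1 : ∀ i, ∃ n, (x i : B) ∈ chain E n := fun i => (hmem _).mp (x i).2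
    choose nn hnn using h1
    let n := ∑ i, nn i
    have hx : ∀ i, (x i : B) ∈ chain E n := fun i =>
      chain_mono E (Finset.single_le_sum (fun _ _ => Nat.zero_le _) (Finset.mem_univ i)) (hnn i)
    let r : RelIdx A ((chain E n : Subalgebra A B) : Set B) := ⟨l, f, fun i => ⟨x i, hx i⟩⟩
    have hrel : ∑ i, r.2.1 i • ((r.2.2 i : ((chain E n : Subalgebra A B) : Set B)) : B) = 0 := by
      have h2 := congrArg (Subalgebra.val (⨆ n, chain E n)) hfx
      rw [map_sum, map_zero] at h2
      rw [← h2]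
      apply Finset.sum_congr rfl
      intro i _
      rw [map_smul]
      rfl
    obtain ⟨k, a, y, hyT, hxy, hfa⟩ := (Classical.choose_spec (exists_triv _ r)).2 hrel
    have hyB' : ∀ j, y j ∈ (⨆ n, chain E n) := by
      intro j
      refine (hmem _).mpr ⟨n + 1, ?_⟩
      show y j ∈ nextAlg (chain E n)
      exact Algebra.subset_adjoin (Or.inr (Set.mem_iUnion.mpr ⟨r, hyT j⟩))
    refine ⟨k, a, fun j => ⟨y j, hyB' j⟩, ?_, hfa⟩
    intro i
    apply Subtype.ext
    have h3 : ((∑ j, a i j • (⟨y j, hyB' j⟩ : ↥(⨆ n, chain E n)) : ↥(⨆ n, chain E n)) : B) =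
        ∑ j, a i j • y j := by
      rw [← Subalgebra.coe_val, map_sum]
      apply Finset.sum_congr rfl
      intro j _
      rw [map_smul]
      rfl
    rw [h3]
    exact hxy i
  · have hcoe : Cardinal.mk ↥(⨆ n, chain E n) =
        Cardinal.mk ↥(⋃ n, ((chain E n : Subalgebra A B) : Set B)) := by
      rw [← Subalgebra.coe_iSup_of_directed dir]
      rfl
    rw [hcoe]
    have h4 := Cardinal.mk_iUnion_le_lift (fun n : ℕ => ((chain E n : Subalgebra A B) : Set B))
    simp only [Cardinal.lift_uzero, Cardinal.mk_nat, Cardinal.lift_aleph0] at h4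
    refine h4.trans ?_
    have h5 : (⨆ n : ℕ, Cardinal.mk ↥((chain E n : Subalgebra A B) : Set B)) ≤ κ :=
      ciSup_le' (fun n => card_chain_le E κ hκ hA hE n)
    exact (mul_le_mul' le_rfl h5).trans (Cardinal.aleph0_mul_eq hκ).le


end Groth.Agent.S6386
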