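import Groth.Statements.S6387
import Groth.Agent.S0393
import Mathlib

set_option autoImplicit false
universe u
open CategoryTheory
open CAlg

namespace Groth.Agent.S6387

section aux
open TensorProduct IsLocalRing

theorem smul_top_coe' {R S N : Type u} [CommRing R] [CommRing S] [Algebra R S]
    [AddCommGroup N] [Module R N] [Module S N] [IsScalarTower R S N] (I : Ideal R) (x : N) :
    x ∈ I • (⊤ : Submodule R N) ↔ x ∈ (I.map (algebraMap R S)) • (⊤ : Submodule S N) := by
  have := Ideal.smul_restrictScalars (R := R) (S := S) (M := N) I (⊤ : Submodule S N)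
  rw [Submodule.restrictScalars_top] at this
  rw [← this, Submodule.restrictScalars_mem]

theorem core {R S : Type u} [CommRing R] [CommRing S] [IsLocalRing R] [IsLocalRing S]
    [IsNoetherianRing S] [Algebra R S] [IsLocalHom (algebraMap R S)]
    {F2 F1 F0 : Type u} [AddCommGroup F2] [Module S F2]
    [AddCommGroup F1] [Module S F1] [Module R F1] [IsScalarTower R S F1] [Module.Finite S F1]
    [AddCommGroup F0] [Module S F0] [Module R F0] [IsScalarTower R S F0] [Module.Flat R F0]
    (d2 : F2 →ₗ[S] F1) (d1 : F1 →ₗ[S] F0) (hdd : ∀ x, d1 (d2 x) = 0)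
    (hex : ∀ x : (S ⧸ (maximalIdeal R).map (algebraMap R S)) ⊗[S] F1,
      d1.lTensor _ x = 0 → ∃ y, d2.lTensor _ y = x) :
    (∀ x, d1 x = 0 → ∃ y, d2 y = x) ∧ Module.Flat R (F0 ⧸ LinearMap.range d1) := by
  set J : Ideal S := (maximalIdeal R).map (algebraMap R S) with hJ
  have hle : LinearMap.range d2 ≤ LinearMap.ker d1 := by
    rintro _ ⟨x, rfl⟩
    exact hdd x
  set uS : (F1 ⧸ LinearMap.range d2) →ₗ[S] F0 := (LinearMap.range d2).liftQ d1 hle with huS
  set u : (F1 ⧸ LinearMap.range d2) →ₗ[R] F0 := uS.restrictScalars R with hu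
  have hP : ∀ n, u n ∈ maximalIdeal R • (⊤ : Submodule R F0) →
      n ∈ maximalIdeal R • (⊤ : Submodule R (F1 ⧸ LinearMap.range d2)) := by
    intro n hn
    obtain ⟨x1, rfl⟩ := Submodule.Quotient.mk_surjective _ n
    have h1 : d1 x1 ∈ J • (⊤ : Submodule S F0) := by
      rw [← smul_top_coe' (R := R)]
      exact hn
    rw [← LinearMap.ker_tensorProductMk, LinearMap.mem_ker] at h1
    have h2 : d1.lTensor (S ⧸ J) ((1 : S ⧸ J) ⊗ₜ[S] x1) = 0 := by
      rw [LinearMap.lTensor_tmul]
      exact h1
    obtain ⟨y, hy⟩ := hex _ h2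
    obtain ⟨x2, rfl⟩ := TensorProduct.mk_surjective S F2 (S ⧸ J) Ideal.Quotient.mk_surjective y
    have h3 : (TensorProduct.mk S (S ⧸ J) F1 1) (x1 - d2 x2) = 0 := by
      rw [map_sub, sub_eq_zero]
      simpa using hy.symm
    rw [← LinearMap.mem_ker, LinearMap.ker_tensorProductMk, ← smul_top_coe' (R := R)] at h3
    have h4 : Submodule.Quotient.mk (p := LinearMap.range d2) x1 =
        ((LinearMap.range d2).mkQ.restrictScalars R) (x1 - d2 x2) := by
      simp only [LinearMap.coe_restrictScalars, Submodule.mkQ_apply, Submodule.Quotient.mk_sub]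
      rw [(Submodule.Quotient.mk_eq_zero (LinearMap.range d2)).mpr (LinearMap.mem_range_self d2 x2), sub_zero]
    rw [h4]
    have h5 : Submodule.map ((LinearMap.range d2).mkQ.restrictScalars R)
        (maximalIdeal R • (⊤ : Submodule R F1)) ≤ maximalIdeal R • ⊤ := by
      rw [Submodule.map_smul'']
      exact Submodule.smul_mono le_rfl le_top
    exact h5 ⟨_, h3, rfl⟩
  have hinj : Function.Injective (LinearMap.lTensor (IsLocalRing.ResidueField R) u) :=
    Groth.Agent.Lib.Helper19.FlatIndep.inj_of_P u (maximalIdeal R) hP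
  obtain ⟨h1, h2⟩ := Groth.Agent.S0393.result (S := S) u hinj
  constructor
  · intro x hx
    have : u (Submodule.Quotient.mk x) = 0 := hx
    have h3 := h1 (this.trans (map_zero u).symm)
    exact (Submodule.Quotient.mk_eq_zero _).mp h3
  · have hr : LinearMap.range u = (LinearMap.range d1).restrictScalars R := by
      ext z
      constructor
      · rintro ⟨n, rfl⟩
        obtain ⟨x1, rfl⟩ := Submodule.Quotient.mk_surjective _ n
        exact ⟨x1, rfl⟩
      · rintro ⟨x1, rfl⟩
        exact ⟨Submodule.Quotient.mk x1, rfl⟩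
    have e : (F0 ⧸ LinearMap.range u) ≃ₗ[R] (F0 ⧸ LinearMap.range d1) :=
      (Submodule.quotEquivOfEq _ _ hr).trans
        (Submodule.Quotient.restrictScalarsEquiv R (LinearMap.range d1))
    exact Module.Flat.of_linearEquiv e.symm

end aux


/-- Let R and S be Noetherian local rings, R → S a local ring map, and m the maximal ideal of R. Take a
bounded complex F_e → … → F_1 → F_0 of finitely generated S-modules, zero to the left of F_e (a
chain complex C with C_j = 0 for j > e) such that every F_j is flat over R and the complex 0 →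
F_e/mF_e → … → F_0/mF_0 (C tensored over S with S/mS) is exact at F_e, …, F_1. Then 0 → F_e → … →
F_0 is exact at F_e, …, F_1 and the cokernel of F_1 → F_0 (the homology of C in degree 0) is flat
over R. -/
theorem result {R S : Type u} [CommRing R] [CommRing S]
    [IsLocalRing R] [IsLocalRing S] [IsNoetherianRing R] [IsNoetherianRing S] [Algebra R S]
    [IsLocalHom (algebraMap R S)] (C : ChainComplex (ModuleCat.{u} S) ℕ) (e : ℕ)
    (hzero : ∀ j, e < j → Limits.IsZero (C.X j)) (hfin : ∀ j, Module.Finite S (C.X j))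
    (hflat : ∀ j, Module.Flat R ((ModuleCat.restrictScalars (algebraMap R S)).obj (C.X j)))
    (hex : ∀ j, 1 ≤ j → j ≤ e →
      (((MonoidalCategory.tensorLeft
          (ModuleCat.of S (S ⧸ (IsLocalRing.maximalIdeal R).map (algebraMap R S)))).mapHomologicalComplex
          (ComplexShape.down ℕ)).obj C).ExactAt j) :
    (∀ j, 1 ≤ j → j ≤ e → C.ExactAt j) ∧
      Module.Flat R ((ModuleCat.restrictScalars (algebraMap R S)).obj (C.homology 0)) := by
  classical
  let modR : ∀ j, Module R (C.X j) := fun j => Module.compHom (C.X j) (algebraMap R S)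
  have tower : ∀ j, IsScalarTower R S (C.X j) := fun j =>
    IsScalarTower.of_algebraMap_smul (fun r x => rfl)
  have flat : ∀ j, Module.Flat R (C.X j) := fun j => hflat j
  have fin : ∀ j, Module.Finite S (C.X j) := hfin
  have key : ∀ j, j + 1 ≤ e →
      (∀ x, (C.d (j + 1) j).hom x = 0 → ∃ y, (C.d (j + 2) (j + 1)).hom y = x) ∧
        Module.Flat R (C.X j ⧸ LinearMap.range (C.d (j + 1) j).hom) := by
    intro j hj
    refine core (C.d (j + 2) (j + 1)).hom (C.d (j + 1) j).hom ?_ ?_
    · intro x
      have := C.d_comp_d (j + 2) (j + 1) j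
      exact congrArg (fun f => f.hom x) this
    · intro x hx
      have hE := hex (j + 1) (by omega) hj
      rw [HomologicalComplex.exactAt_iff' _ (j + 2) (j + 1) j (by simp) (by simp),
        ShortComplex.moduleCat_exact_iff] at hE
      exact hE x hx
  constructor
  · intro j hj1 hje
    obtain ⟨j', rfl⟩ : ∃ j', j = j' + 1 := ⟨j - 1, by omega⟩
    rw [HomologicalComplex.exactAt_iff' _ (j' + 2) (j' + 1) j' (by simp) (by simp),
      ShortComplex.moduleCat_exact_iff]
    intro x hx
    exact (key j' hje).1 x hx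
  · have hQ : Module.Flat R (C.X 0 ⧸ LinearMap.range (C.d 1 0).hom) := by
      rcases Nat.eq_zero_or_pos e with he | he
      · have hz : Subsingleton (C.X 1) :=
          ModuleCat.subsingleton_of_isZero (hzero 1 (by omega))
        have hbot : LinearMap.range (C.d 1 0).hom = ⊥ := by
          rw [eq_bot_iff]
          rintro _ ⟨x, rfl⟩
          rw [Subsingleton.elim x 0, map_zero]
          exact Submodule.zero_mem _
        have e0 : (C.X 0 ⧸ LinearMap.range (C.d 1 0).hom) ≃ₗ[R] C.X 0 :=
          ((Submodule.quotEquivOfEqBot _ hbot).restrictScalars R)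
        exact Module.Flat.of_linearEquiv e0
      · exact (key 0 (by omega)).2
    have φ : C.homology 0 ≅ ModuleCat.of S (C.X 0 ⧸ LinearMap.range (C.d 1 0).hom) :=
      C.isoHomologyι 0 0 (by simp) (C.shape 0 0 (by simp)) ≪≫
        C.opcyclesIsoSc' 1 0 0 (by simp) (by simp) ≪≫
        (C.sc' 1 0 0).moduleCatOpcyclesIso
    have ψ := ((ModuleCat.restrictScalars (algebraMap R S)).mapIso φ).toLinearEquiv
    have χ : ((ModuleCat.restrictScalars (algebraMap R S)).obj
        (ModuleCat.of S (C.X 0 ⧸ LinearMap.range (C.d 1 0).hom))) ≃ₗ[R]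
        (C.X 0 ⧸ LinearMap.range (C.d 1 0).hom) :=
      { toFun := fun x => x
        invFun := fun x => x
        left_inv := fun _ => rfl
        right_inv := fun _ => rfl
        map_add' := fun _ _ => rfl
        map_smul' := by
          intro r x
          induction x using Submodule.Quotient.induction_on with
          | H x => rfl }
    exact Module.Flat.of_linearEquiv (ψ.trans χ)

end Groth.Agent.S6387
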