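import Groth.Statements.S6388
import Mathlib
-- import your own Groth.Agent.* helpers here

set_option autoImplicit false
universe u
open CAlg

namespace Groth.Agent.S6388

/-- Let f : M → N and g : M → M' be maps of R-modules and let N' be their pushout, realised as the
quotient of M' × N by the submodule of elements (g x, -f x). Then g dominates f — for every module Q
the kernel of f ⊗ id_Q is contained in the kernel of g ⊗ id_Q — if and only if the canonical map M'
→ N' is universally injective. -/
theorem result (R : Type u) [CommRing R] {M N M' : Type u}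
    [AddCommGroup M] [Module R M] [AddCommGroup N] [Module R N] [AddCommGroup M'] [Module R M']
    (f : M →ₗ[R] N) (g : M →ₗ[R] M') :
    (∀ (Q : Type u) [AddCommGroup Q] [Module R Q], LinearMap.ker (f.rTensor Q) ≤ LinearMap.ker (g.rTensor Q)) ↔
      CAlgX.UniversallyInjective R
        ((LinearMap.range (g.prod (-f))).mkQ ∘ₗ LinearMap.inl R M' N) := by
  set P := LinearMap.range (g.prod (-f)) with hP
  set f' : M' →ₗ[R] (M' × N) ⧸ P := P.mkQ ∘ₗ LinearMap.inl R M' N with hf'
  constructor
  · intro hdom Q _ _
    rw [injective_iff_map_eq_zero]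
    intro s hs
    have hex : Function.Exact ((g.prod (-f)).rTensor Q) (P.mkQ.rTensor Q) :=
      rTensor_exact Q (LinearMap.exact_map_mkQ_range (g.prod (-f))) (Submodule.mkQ_surjective _)
    rw [hf', LinearMap.rTensor_comp, LinearMap.comp_apply] at hs
    obtain ⟨t, ht⟩ := (hex _).mp hs
    have h1 := congrArg ((LinearMap.fst R M' N).rTensor Q) ht
    have h2 := congrArg ((LinearMap.snd R M' N).rTensor Q) ht
    rw [← LinearMap.comp_apply, ← LinearMap.rTensor_comp, ← LinearMap.comp_apply,
      ← LinearMap.rTensor_comp] at h1 h2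
    have e1 : LinearMap.fst R M' N ∘ₗ g.prod (-f) = g := by ext; simp
    have e2 : LinearMap.fst R M' N ∘ₗ LinearMap.inl R M' N = LinearMap.id := by ext; simp
    have e3 : LinearMap.snd R M' N ∘ₗ g.prod (-f) = -f := by ext; simp
    have e4 : LinearMap.snd R M' N ∘ₗ LinearMap.inl R M' N = 0 := by ext; simp
    rw [e1, e2, LinearMap.rTensor_id, LinearMap.id_apply] at h1
    rw [e3, e4, LinearMap.rTensor_zero, LinearMap.zero_apply, LinearMap.rTensor_neg,
      LinearMap.neg_apply, neg_eq_zero] at h2
    rw [← h1]
    exact hdom Q h2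
  · intro huniv Q _ _ t ht
    rw [LinearMap.mem_ker] at ht ⊢
    apply huniv Q
    rw [map_zero, ← LinearMap.comp_apply, ← LinearMap.rTensor_comp]
    have e : f' ∘ₗ g = (P.mkQ ∘ₗ LinearMap.inr R M' N) ∘ₗ f := by
      ext x
      simp only [hf', LinearMap.comp_apply, LinearMap.inl_apply, LinearMap.inr_apply,
        Submodule.mkQ_apply]
      rw [Submodule.Quotient.eq]
      refine ⟨x, ?_⟩
      simp
    rw [e, LinearMap.rTensor_comp, LinearMap.comp_apply, ht, map_zero]

end Groth.Agent.S6388
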