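import Groth.Statements.S6389
import Mathlib


set_option autoImplicit false
universe u
open CAlg

namespace Groth.Agent.S6389

set_option linter.style.haveILetI false

section
variable {R : Type u} [CommRing R] {M : Type u} [AddCommGroup M] [Module R M]

/-- complement ≃ quotient -/
noncomputable def complEquiv (A B C : Submodule R M) (h1 : A ⊓ C = ⊥) (h2 : A ⊔ C = B) :
    ↥C ≃ₗ[R] (↥B ⧸ Submodule.comap B.subtype A) := by
  have hCB : C ≤ B := h2 ▸ le_sup_right
  refine LinearEquiv.ofBijective ((Submodule.mkQ _) ∘ₗ (Submodule.inclusion hCB)) ⟨?_, ?_⟩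
  · rw [← LinearMap.ker_eq_bot, eq_bot_iff]
    intro c hc
    rw [LinearMap.mem_ker, LinearMap.comp_apply, Submodule.mkQ_apply,
      Submodule.Quotient.mk_eq_zero, Submodule.mem_comap] at hc
    have hcA : (c : M) ∈ A := hc
    have : (c : M) ∈ A ⊓ C := ⟨hcA, c.2⟩
    rw [h1] at this
    rw [Submodule.mem_bot]
    exact Subtype.ext this
  · intro q
    obtain ⟨⟨b, hb⟩, rfl⟩ := Submodule.Quotient.mk_surjective _ q
    rw [← h2] at hb
    obtain ⟨a, ha, c, hc, hac⟩ := Submodule.mem_sup.1 hb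
    refine ⟨⟨c, hc⟩, ?_⟩
    rw [LinearMap.comp_apply, Submodule.mkQ_apply]
    symm
    rw [Submodule.Quotient.eq, Submodule.mem_comap]
    change b - c ∈ A
    rw [← hac, add_sub_cancel_right]
    exact ha

end

theorem main (R : Type u) [CommRing R] (M : Type u)
    [AddCommGroup M] [Module R M] (S : Type u) [LinearOrder S] [WellFoundedLT S] (Mf : S → Submodule R M)
    (hmono : Monotone Mf) :
    (∀ s : S, Order.IsSuccPrelimit s → Mf s = ⨆ t : {t : S // t < s}, Mf t.1) →
      (⨆ s, Mf s) = ⊤ →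
      (∀ s t : S, s ⋖ t → ∃ C : Submodule R M, Mf s ⊓ C = ⊥ ∧ Mf s ⊔ C = Mf t) →
      Nonempty (M ≃ₗ[R] DirectSum {p : S × S // p.1 ⋖ p.2}
        fun p => ↥(Mf p.1.2) ⧸ Submodule.comap (Mf p.1.2).subtype (Mf p.1.1)) := by
  classical
  intro hlim htop hcompl
  let P := {p : S × S // p.1 ⋖ p.2}
  have hex : ∀ p : P, ∃ C : Submodule R M, Mf p.1.1 ⊓ C = ⊥ ∧ Mf p.1.1 ⊔ C = Mf p.1.2 :=
    fun p => hcompl p.1.1 p.1.2 p.2
  choose C hC1 hC2 using hex
  have hCle : ∀ p : P, C p ≤ Mf p.1.2 := fun p => (hC2 p) ▸ le_sup_right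
  -- second components determine the pair
  have hinj2 : ∀ p q : P, p.1.2 = q.1.2 → p = q := by
    intro p q h
    have hp := p.2
    have hq := q.2
    rw [h] at hp
    have h1 : p.1.1 = q.1.1 := by
      rcases lt_trichotomy p.1.1 q.1.1 with hlt | heq | hgt
      · exact absurd hq.1 (hp.2 hlt)
      · exact heq
      · exact absurd hp.1 (hq.2 hgt)
    exact Subtype.ext (Prod.ext h1 h)
  let Φ : (Π₀ p : P, ↥(C p)) →ₗ[R] M := DFinsupp.lsum ℕ (fun p : P => (C p).subtype)
  -- surjectivity
  have hsup : ∀ s : S, Mf s ≤ ⨆ p : P, C p := by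
    intro s
    induction s using WellFoundedLT.induction with
    | ind s ih =>
      by_cases hs : Order.IsSuccPrelimit s
      · rw [hlim s hs]
        exact iSup_le (fun t => ih t.1 t.2)
      · unfold Order.IsSuccPrelimit at hs
        push Not at hs
        obtain ⟨b, hb⟩ := hs
        let p : P := ⟨(b, s), hb⟩
        have : Mf s = Mf b ⊔ C p := (hC2 p).symm
        rw [this]
        exact sup_le (ih b hb.1) (le_iSup C p)
  have hΦsurj : Function.Surjective Φ := by
    rw [← LinearMap.range_eq_top, ← Submodule.iSup_eq_range_dfinsupp_lsum, eq_top_iff, ← htop]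
    exact iSup_le hsup
  -- injectivity
  have hΦinj : Function.Injective Φ := by
    rw [injective_iff_map_eq_zero]
    intro v hv
    by_contra hne
    have hsupp : v.support.Nonempty := by
      rw [Finset.nonempty_iff_ne_empty]
      intro h
      exact hne (DFinsupp.support_eq_empty.1 h)
    obtain ⟨q, hq, hmax⟩ := Finset.exists_max_image v.support (fun p : P => p.1.2) hsupp
    have hsum : Φ v = ∑ p ∈ v.support, ((v p : ↥(C p)) : M) := by
      change DFinsupp.lsum ℕ (fun p : P => (C p).subtype) v = _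
      rw [DFinsupp.lsum_apply_apply, DFinsupp.sumAddHom_apply]
      rfl
    rw [hsum, ← Finset.add_sum_erase _ _ hq] at hv
    have hrest : ∑ p ∈ v.support.erase q, ((v p : ↥(C p)) : M) ∈ Mf q.1.1 := by
      refine Submodule.sum_mem _ (fun p hp => ?_)
      have hpq : p ≠ q := Finset.ne_of_mem_erase hp
      have hps : p ∈ v.support := Finset.mem_of_mem_erase hp
      have hle : p.1.2 ≤ q.1.2 := hmax p hps
      have hlt : p.1.2 < q.1.2 := lt_of_le_of_ne hle (fun h => hpq (hinj2 p q h))
      have hle' : p.1.2 ≤ q.1.1 := not_lt.1 (fun h => q.2.2 h hlt)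
      exact hmono hle' (hCle p (v p).2)
    have hq0 : ((v q : ↥(C q)) : M) ∈ Mf q.1.1 := by
      have : ((v q : ↥(C q)) : M) = -∑ p ∈ v.support.erase q, ((v p : ↥(C p)) : M) :=
        eq_neg_of_add_eq_zero_left hv
      rw [this]
      exact Submodule.neg_mem _ hrest
    have hq1 : ((v q : ↥(C q)) : M) ∈ Mf q.1.1 ⊓ C q := ⟨hq0, (v q).2⟩
    rw [hC1 q, Submodule.mem_bot] at hq1
    exact (DFinsupp.mem_support_iff.1 hq) (Subtype.ext hq1)
  let e1 : (Π₀ p : P, ↥(C p)) ≃ₗ[R] M := LinearEquiv.ofBijective Φ ⟨hΦinj, hΦsurj⟩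
  let e2 : (Π₀ p : P, ↥(C p)) ≃ₗ[R]
      (Π₀ p : P, ↥(Mf p.1.2) ⧸ Submodule.comap (Mf p.1.2).subtype (Mf p.1.1)) :=
    DFinsupp.mapRange.linearEquiv (fun p : P => complEquiv (Mf p.1.1) (Mf p.1.2) (C p) (hC1 p) (hC2 p))
  exact ⟨e1.symm.trans e2⟩



/-- Let (M_s)_{s ∈ S} be a direct sum dévissage of an R-module M: an increasing family of submodules
indexed by a well-ordered set S with M_s = ⋃_{t<s} M_t at every index s that is not a successor (in
particular the first term is 0), ⋃_s M_s = M, and M_s a direct summand of M_t whenever t is the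
successor of s. Then M is isomorphic to the direct sum, over the successor steps s ⋖ t, of the
quotients M_t/M_s (existence of an isomorphism; the map in the source depends on chosen
complements). -/
theorem result (R : Type u) [CommRing R] (M : Type u)
    [AddCommGroup M] [Module R M] (S : Type u) [LinearOrder S] [WellFoundedLT S] (Mf : S → Submodule R M)
    (hmono : Monotone Mf) :
    (∀ s : S, Order.IsSuccPrelimit s → Mf s = ⨆ t : {t : S // t < s}, Mf t.1) →
      (⨆ s, Mf s) = ⊤ →
      (∀ s t : S, s ⋖ t → ∃ C : Submodule R M, Mf s ⊓ C = ⊥ ∧ Mf s ⊔ C = Mf t) →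
      Nonempty (M ≃ₗ[R] DirectSum {p : S × S // p.1 ⋖ p.2}
        fun p => ↥(Mf p.1.2) ⧸ Submodule.comap (Mf p.1.2).subtype (Mf p.1.1)) := by
  exact main R M S Mf hmono

end Groth.Agent.S6389
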