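import Groth.Statements.S6390
import Mathlib
import Groth.Agent.S6389

set_option autoImplicit false
universe u
open scoped Classical
open CAlg

namespace Groth.Agent.S6390

set_option linter.style.haveILetI false

section
variable {R : Type u} [CommRing R] {M : Type u} [AddCommGroup M] [Module R M]

theorem cg_of_equiv {X Y : Type u} [AddCommGroup X] [Module R X] [AddCommGroup Y] [Module R Y]
    (e : X ≃ₗ[R] Y) (h : CAlg.IsCountablyGenerated R X) : CAlg.IsCountablyGenerated R Y := by
  obtain ⟨s, hs, hspan⟩ := h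
  refine ⟨e '' s, hs.image _, ?_⟩
  have : Submodule.span R (e '' s) = (Submodule.span R s).map e.toLinearMap := by
    rw [Submodule.map_span]; rfl
  rw [this, hspan, Submodule.map_top, LinearMap.range_eq_top]
  exact e.surjective

/-- the internal form of the dévissage decomposition -/
theorem internal_of_devissage (S : Type u) [LinearOrder S] [WellFoundedLT S]
    (Mf : S → Submodule R M) (hmono : Monotone Mf)
    (hlim : ∀ s : S, Order.IsSuccPrelimit s → Mf s = ⨆ t : {t : S // t < s}, Mf t.1)
    (htop : (⨆ s, Mf s) = ⊤)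
    (C : {p : S × S // p.1 ⋖ p.2} → Submodule R M)
    (hC1 : ∀ p, Mf p.1.1 ⊓ C p = ⊥) (hC2 : ∀ p, Mf p.1.1 ⊔ C p = Mf p.1.2) :
    iSupIndep C ∧ iSup C = ⊤ := by
  let P := {p : S × S // p.1 ⋖ p.2}
  have hCle : ∀ p : P, C p ≤ Mf p.1.2 := fun p => (hC2 p) ▸ le_sup_right
  have hinj2 : ∀ p q : P, p.1.2 = q.1.2 → p = q := by
    intro p q h
    have hp := p.2
    have hq := q.2
    rw [h] at hp
    have h1 : p.1.1 = q.1.1 := by
      rcases lt_trichotomy p.1.1 q.1.1 with hlt | heq | hgt
      · exact absurd hq.1 (hp.2 hlt)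
      · exact heq
      · exact absurd hp.1 (hq.2 hgt)
    exact Subtype.ext (Prod.ext h1 h)
  let Φ : (Π₀ p : P, ↥(C p)) →ₗ[R] M := DFinsupp.lsum ℕ (fun p : P => (C p).subtype)
  have hsup : ∀ s : S, Mf s ≤ ⨆ p : P, C p := by
    intro s
    induction s using WellFoundedLT.induction with
    | ind s ih =>
      by_cases hs : Order.IsSuccPrelimit s
      · rw [hlim s hs]
        exact iSup_le (fun t => ih t.1 t.2)
      · unfold Order.IsSuccPrelimit at hs
        push Not at hs
        obtain ⟨b, hb⟩ := hs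
        let p : P := ⟨(b, s), hb⟩
        have : Mf s = Mf b ⊔ C p := (hC2 p).symm
        rw [this]
        exact sup_le (ih b hb.1) (le_iSup C p)
  have hΦinj : Function.Injective Φ := by
    rw [injective_iff_map_eq_zero]
    intro v hv
    by_contra hne
    have hsupp : v.support.Nonempty := by
      rw [Finset.nonempty_iff_ne_empty]
      intro h
      exact hne (DFinsupp.support_eq_empty.1 h)
    obtain ⟨q, hq, hmax⟩ := Finset.exists_max_image v.support (fun p : P => p.1.2) hsupp
    have hsum : Φ v = ∑ p ∈ v.support, ((v p : ↥(C p)) : M) := by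
      change DFinsupp.lsum ℕ (fun p : P => (C p).subtype) v = _
      rw [DFinsupp.lsum_apply_apply, DFinsupp.sumAddHom_apply]
      rfl
    rw [hsum, ← Finset.add_sum_erase _ _ hq] at hv
    have hrest : ∑ p ∈ v.support.erase q, ((v p : ↥(C p)) : M) ∈ Mf q.1.1 := by
      refine Submodule.sum_mem _ (fun p hp => ?_)
      have hpq : p ≠ q := Finset.ne_of_mem_erase hp
      have hps : p ∈ v.support := Finset.mem_of_mem_erase hp
      have hle : p.1.2 ≤ q.1.2 := hmax p hps
      have hlt : p.1.2 < q.1.2 := lt_of_le_of_ne hle (fun h => hpq (hinj2 p q h))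
      have hle' : p.1.2 ≤ q.1.1 := not_lt.1 (fun h => q.2.2 h hlt)
      exact hmono hle' (hCle p (v p).2)
    have hq0 : ((v q : ↥(C q)) : M) ∈ Mf q.1.1 := by
      have : ((v q : ↥(C q)) : M) = -∑ p ∈ v.support.erase q, ((v p : ↥(C p)) : M) :=
        eq_neg_of_add_eq_zero_left hv
      rw [this]
      exact Submodule.neg_mem _ hrest
    have hq1 : ((v q : ↥(C q)) : M) ∈ Mf q.1.1 ⊓ C q := ⟨hq0, (v q).2⟩
    rw [hC1 q, Submodule.mem_bot] at hq1
    exact (DFinsupp.mem_support_iff.1 hq) (Subtype.ext hq1)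
  refine ⟨iSupIndep_of_dfinsupp_lsum_injective C hΦinj, ?_⟩
  rw [eq_top_iff, ← htop]
  exact iSup_le hsup

end

theorem main (R : Type u) [CommRing R] (M : Type u)
    [AddCommGroup M] [Module R M] :
    (∃ (ι : Type u) (N : ι → Submodule R M), DirectSum.IsInternal N ∧ ∀ i, CAlg.IsCountablyGenerated R (N i)) ↔
      ∃ (S : Type u) (_ : LinearOrder S) (_ : WellFoundedLT S) (Mf : S → Submodule R M), Monotone Mf ∧
        (∀ s : S, Order.IsSuccPrelimit s → Mf s = ⨆ t : {t : S // t < s}, Mf t.1) ∧
        (⨆ s, Mf s) = ⊤ ∧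
        (∀ s t : S, s ⋖ t → ∃ C : Submodule R M, Mf s ⊓ C = ⊥ ∧ Mf s ⊔ C = Mf t ∧
          CAlg.IsCountablyGenerated R (↥(Mf t) ⧸ Submodule.comap (Mf t).subtype (Mf s))) := by
  constructor
  · rintro ⟨ι, N, hint, hcg⟩
    have hindep : iSupIndep N := hint.submodule_iSupIndep
    have hNtop : iSup N = ⊤ := hint.submodule_iSup_eq_top
    clear hint
    obtain ⟨lo, wf⟩ := exists_wellFoundedLT (α := ι)
    let Mf : WithTop ι → Submodule R M := fun s => ⨆ (i : ι) (_ : (i : WithTop ι) < s), N i
    have hmono : Monotone Mf := by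
      intro s t hst
      exact iSup₂_le (fun i hi => le_iSup₂_of_le i (lt_of_lt_of_le hi hst) le_rfl)
    refine ⟨WithTop ι, inferInstance, inferInstance, Mf, hmono, ?_, ?_, ?_⟩
    · intro s hs
      apply le_antisymm
      · refine iSup₂_le (fun i hi => ?_)
        obtain ⟨c, hic, hcs⟩ := (not_covBy_iff hi).1 (hs _)
        exact le_trans (le_iSup₂_of_le (f := fun (j : ι) (_ : (j : WithTop ι) < c) => N j) i hic le_rfl)
          (le_iSup (fun t : {t : WithTop ι // t < s} => Mf t.1) ⟨c, hcs⟩)
      · exact iSup_le (fun t => hmono t.2.le)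
    · rw [eq_top_iff, ← hNtop]
      refine iSup_le (fun i => ?_)
      refine le_trans ?_ (le_iSup Mf ⊤)
      exact le_iSup₂_of_le (f := fun (j : ι) (_ : (j : WithTop ι) < ⊤) => N j) i (WithTop.coe_lt_top i) le_rfl
    · intro s t hst
      have hsne : s ≠ ⊤ := ne_top_of_lt hst.1
      obtain ⟨i, rfl⟩ := WithTop.ne_top_iff_exists.1 hsne
      have hMs : Mf (i : WithTop ι) ≤ ⨆ (j : ι) (_ : j ≠ i), N j := by
        refine iSup₂_le (fun j hj => ?_)
        have hji : j < i := WithTop.coe_lt_coe.1 hj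
        exact le_iSup₂_of_le (f := fun (j : ι) (_ : j ≠ i) => N j) j hji.ne le_rfl
      have h1 : Mf (i : WithTop ι) ⊓ N i = ⊥ := by
        rw [inf_comm, ← disjoint_iff]
        exact (hindep i).mono_right hMs
      have h2 : Mf (i : WithTop ι) ⊔ N i = Mf t := by
        apply le_antisymm
        · refine sup_le (hmono hst.1.le) ?_
          exact le_iSup₂_of_le (f := fun (j : ι) (_ : (j : WithTop ι) < t) => N j) i hst.1 le_rfl
        · refine iSup₂_le (fun j hj => ?_)
          have hji : (j : WithTop ι) ≤ i := not_lt.1 (fun h => hst.2 h hj)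
          rcases lt_or_eq_of_le hji with hlt | heq
          · exact le_trans (le_iSup₂_of_le (f := fun (k : ι) (_ : (k : WithTop ι) < i) => N k) j hlt le_rfl)
              le_sup_left
          · have : j = i := WithTop.coe_injective heq
            rw [this]
            exact le_sup_right
      refine ⟨N i, h1, h2, ?_⟩
      exact cg_of_equiv (Groth.Agent.S6389.complEquiv _ _ _ h1 h2) (hcg i)
  · rintro ⟨S, lo, wf, Mf, hmono, hlim, htop, hstep⟩
    let P := {p : S × S // p.1 ⋖ p.2}
    have hex : ∀ p : P, ∃ C : Submodule R M, Mf p.1.1 ⊓ C = ⊥ ∧ Mf p.1.1 ⊔ C = Mf p.1.2 ∧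
        CAlg.IsCountablyGenerated R (↥(Mf p.1.2) ⧸ Submodule.comap (Mf p.1.2).subtype (Mf p.1.1)) :=
      fun p => hstep p.1.1 p.1.2 p.2
    choose C hC1 hC2 hC3 using hex
    obtain ⟨hind, hsup⟩ := internal_of_devissage S Mf hmono hlim htop C hC1 hC2
    refine ⟨P, C, ?_, ?_⟩
    · have h := DirectSum.isInternal_submodule_of_iSupIndep_of_iSup_eq_top hind hsup
      convert h
    · intro p
      exact cg_of_equiv (Groth.Agent.S6389.complEquiv _ _ _ (hC1 p) (hC2 p)).symm (hC3 p)



/-- An R-module M is a direct sum of countably generated modules if and only if it admits a Kaplansky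
dévissage, i.e. an increasing family of submodules (M_s) indexed by a well-ordered set S with M_s =
⋃_{t<s} M_t at non-successor indices (so the first term is 0), ⋃_s M_s = M, and, whenever t is the
successor of s, M_s a direct summand of M_t with M_t/M_s countably generated. -/
theorem result (R : Type u) [CommRing R] (M : Type u)
    [AddCommGroup M] [Module R M] :
    (∃ (ι : Type u) (N : ι → Submodule R M), DirectSum.IsInternal N ∧ ∀ i, CAlg.IsCountablyGenerated R (N i)) ↔
      ∃ (S : Type u) (_ : LinearOrder S) (_ : WellFoundedLT S) (Mf : S → Submodule R M), Monotone Mf ∧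
        (∀ s : S, Order.IsSuccPrelimit s → Mf s = ⨆ t : {t : S // t < s}, Mf t.1) ∧
        (⨆ s, Mf s) = ⊤ ∧
        (∀ s t : S, s ⋖ t → ∃ C : Submodule R M, Mf s ⊓ C = ⊥ ∧ Mf s ⊔ C = Mf t ∧
          CAlg.IsCountablyGenerated R (↥(Mf t) ⧸ Submodule.comap (Mf t).subtype (Mf s))) := by
  exact main R M

end Groth.Agent.S6390
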