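import Groth.Statements.S6391
import Groth.Agent.Lib.Helper24.IndEtaleProps
-- import your own Groth.Agent.* helpers here

set_option autoImplicit false
universe u
open CAlg

namespace Groth.Agent.S6391

/-- Let R be a ring, S and S' henselian local rings which are filtered colimits of étale R-algebras, and
K a field together with R-algebra maps S → K and S' → K identifying K with the residue field of each
(surjective with kernel the maximal ideal). Then exactly one isomorphism of R-algebras S → S'
commutes with the two maps to K. -/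
theorem result (R S S' K : Type u) [CommRing R]
    [CommRing S] [CommRing S'] [Field K] [HenselianLocalRing S] [HenselianLocalRing S']
    [Algebra R S] [Algebra R S'] [Algebra R K] (hS : EtPBC.IsIndEtale R S) (hS' : EtPBC.IsIndEtale R S')
    (u : S →ₐ[R] K) (u' : S' →ₐ[R] K) (hu : Function.Surjective u) (hu' : Function.Surjective u')
    (hku : RingHom.ker u.toRingHom = IsLocalRing.maximalIdeal S)
    (hku' : RingHom.ker u'.toRingHom = IsLocalRing.maximalIdeal S') :
    ∃! e : S ≃ₐ[R] S', u'.comp (e : S →ₐ[R] S') = u := by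
  have hk : RingHom.ker u ≤ IsLocalRing.maximalIdeal S := by
    intro x hx
    rw [← hku]
    exact hx
  have hk' : RingHom.ker u' ≤ IsLocalRing.maximalIdeal S' := by
    intro x hx
    rw [← hku']
    exact hx
  obtain ⟨g, hg, -⟩ :=
    Groth.Agent.Lib.Helper24.IndEtaleProps.existsUnique_algHom_of_isIndEtale S hS S' K u' hu' hk' u
  obtain ⟨g', hg', -⟩ :=
    Groth.Agent.Lib.Helper24.IndEtaleProps.existsUnique_algHom_of_isIndEtale S' hS' S K u hu hk u'
  obtain ⟨i₁, -, hi₁⟩ :=
    Groth.Agent.Lib.Helper24.IndEtaleProps.existsUnique_algHom_of_isIndEtale S hS S K u hu hk u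
  obtain ⟨i₂, -, hi₂⟩ :=
    Groth.Agent.Lib.Helper24.IndEtaleProps.existsUnique_algHom_of_isIndEtale S' hS' S' K u' hu' hk' u'
  have h1 : g'.comp g = AlgHom.id R S := by
    have a1 : g'.comp g = i₁ := hi₁ _ (by show u.comp (g'.comp g) = u; rw [← AlgHom.comp_assoc, hg', hg])
    have a2 : AlgHom.id R S = i₁ := hi₁ _ (AlgHom.comp_id u)
    rw [a1, a2]
  have h2 : g.comp g' = AlgHom.id R S' := by
    have a1 : g.comp g' = i₂ := hi₂ _ (by show u'.comp (g.comp g') = u'; rw [← AlgHom.comp_assoc, hg, hg'])
    have a2 : AlgHom.id R S' = i₂ := hi₂ _ (AlgHom.comp_id u')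
    rw [a1, a2]
  refine ⟨AlgEquiv.ofAlgHom g g' h2 h1, hg, ?_⟩
  intro e' he'
  obtain ⟨g₀, -, hg₀⟩ :=
    Groth.Agent.Lib.Helper24.IndEtaleProps.existsUnique_algHom_of_isIndEtale S hS S' K u' hu' hk' u
  have b1 : (e' : S →ₐ[R] S') = g₀ := hg₀ _ he'
  have b2 : g = g₀ := hg₀ _ hg
  apply AlgEquiv.ext
  intro x
  have := congrArg (fun F : S →ₐ[R] S' => F x) (b1.trans b2.symm)
  exact this

end Groth.Agent.S6391
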