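import Groth.Statements.S6392
import Mathlib
import Groth.Agent.Lib.Helper6.MLDomE

set_option autoImplicit false
universe u
open CAlg

namespace Groth.Agent.S6392



/-- Suppose M is the colimit of finitely presented R-modules G_i along a directed system over a nonempty
directed index set (transition maps f_ij), and M is both Mittag-Leffler and countably generated.
Then some countable directed subset I' of the indices already computes M: the canonical map from the
colimit of the G_i with i ∈ I' to M is bijective. -/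
theorem result (R : Type u) [CommRing R]
    {ι : Type u} [Preorder ι] [IsDirected ι (· ≤ ·)] [Nonempty ι] [DecidableEq ι] (G : ι → Type u)
    [∀ i, AddCommGroup (G i)] [∀ i, Module R (G i)] [∀ i, Module.FinitePresentation R (G i)]
    (f : ∀ i j, i ≤ j → G i →ₗ[R] G j) [DirectedSystem G fun i j h => f i j h]
    (hML : CAlg.IsMittagLeffler R (Module.DirectLimit G f))
    (hc : CAlg.IsCountablyGenerated R (Module.DirectLimit G f)) :
    ∃ I' : Set ι, I'.Countable ∧ DirectedOn (· ≤ ·) I' ∧
      Function.Bijective (Module.DirectLimit.lift R I' (fun i : I' => G i.1)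
        (fun (i j : I') (h : i ≤ j) => f i.1 j.1 h)
        (fun i : I' => Module.DirectLimit.of R ι G f i.1)
        (fun (i j : I') (h : i ≤ j) (x : G i.1) => Module.DirectLimit.of_f)) := by
  classical
  obtain ⟨S, hS1, hS2⟩ := hc
  obtain ⟨x, hx⟩ := (hS1.union (Set.countable_singleton (0 : Module.DirectLimit G f))).exists_eq_range
    ⟨0, Or.inr rfl⟩
  have hxspan : Submodule.span R (Set.range x) = ⊤ := by
    rw [← hx, eq_top_iff, ← hS2]
    exact Submodule.span_mono Set.subset_union_left
  -- choice functions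
  have ha : ∀ n, ∃ (i : ι) (y : G i), Module.DirectLimit.of R ι G f i y = x n :=
    fun n => Module.DirectLimit.exists_of (x n)
  choose a y hy using ha
  have hJ : ∀ i, ∃ j, ∃ hij : i ≤ j, ∀ z : G i,
      Module.DirectLimit.of R ι G f i z = 0 → f i j hij z = 0 := by
    intro i
    obtain ⟨j, hij, hj⟩ := Groth.Agent.Lib.helper6.MLDom.ml_directLimit_imp G f hML i
    refine ⟨j, hij, fun z hz => ?_⟩
    obtain ⟨k, hik, hk⟩ := Module.DirectLimit.of.zero_exact hz
    obtain ⟨h, hh⟩ := hj k hik
    rw [hh, LinearMap.comp_apply, hk, map_zero]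
  choose J hJ1 hJ2 using hJ
  choose ub hub1 hub2 using (fun i j : ι => exists_ge_ge i j)
  let s : ℕ → ι := fun n => Nat.rec (a 0) (fun n prev => ub (J prev) (a (n + 1))) n
  have hs0 : s 0 = a 0 := rfl
  have hsS : ∀ n, s (n + 1) = ub (J (s n)) (a (n + 1)) := fun n => rfl
  have hsJ : ∀ n, J (s n) ≤ s (n + 1) := fun n => by rw [hsS]; exact hub1 _ _
  have hsa : ∀ n, a n ≤ s n := by
    intro n
    cases n with
    | zero => exact le_of_eq hs0.symm
    | succ n => rw [hsS]; exact hub2 _ _
  have hmono : Monotone s := monotone_nat_of_le_succ fun n => (hJ1 (s n)).trans (hsJ n)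
  refine ⟨Set.range s, Set.countable_range s, ?_, ?_⟩
  · exact directedOn_range.mpr hmono.directed_le
  · have : Nonempty ↥(Set.range s) := ⟨⟨s 0, 0, rfl⟩⟩
    have : IsDirected ↥(Set.range s) (· ≤ ·) := by
      refine ⟨?_⟩
      rintro ⟨_, m, rfl⟩ ⟨_, n, rfl⟩
      exact ⟨⟨s (max m n), max m n, rfl⟩, hmono (le_max_left m n), hmono (le_max_right m n)⟩
    constructor
    · -- injective
      rw [injective_iff_map_eq_zero]
      intro z hz
      obtain ⟨⟨_, n, rfl⟩, w, rfl⟩ := Module.DirectLimit.exists_of z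
      rw [Module.DirectLimit.lift_of] at hz
      have h1 : f (s n) (J (s n)) (hJ1 (s n)) w = 0 := hJ2 (s n) w hz
      have h2 : f (s n) (s (n + 1)) ((hJ1 (s n)).trans (hsJ n)) w = 0 := by
        rw [← DirectedSystem.map_map' f (hJ1 (s n)) (hsJ n) w, h1, map_zero]
      have hle : (⟨s n, n, rfl⟩ : ↥(Set.range s)) ≤ ⟨s (n + 1), n + 1, rfl⟩ :=
        (hJ1 (s n)).trans (hsJ n)
      have h3 := Module.DirectLimit.of_f (R := R) (ι := ↥(Set.range s))
        (G := fun i : ↥(Set.range s) => G i.1)
        (f := fun (i j : ↥(Set.range s)) (h : i ≤ j) => f i.1 j.1 h) (hij := hle) (x := w)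
      rw [← h3]
      have h4 : f (s n) (s (n + 1)) hle w = 0 := h2
      exact (congrArg (Module.DirectLimit.of R ↥(Set.range s) (fun i : ↥(Set.range s) => G i.1)
        (fun (i j : ↥(Set.range s)) (h : i ≤ j) => f i.1 j.1 h) ⟨s (n + 1), n + 1, rfl⟩) h4).trans
        (map_zero _)
    · -- surjective
      rw [← LinearMap.range_eq_top, eq_top_iff, ← hxspan, Submodule.span_le]
      rintro _ ⟨n, rfl⟩
      refine ⟨Module.DirectLimit.of R _ _ _ ⟨s n, n, rfl⟩ (f (a n) (s n) (hsa n) (y n)), ?_⟩
      rw [Module.DirectLimit.lift_of]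
      show Module.DirectLimit.of R ι G f (s n) (f (a n) (s n) (hsa n) (y n)) = x n
      rw [Module.DirectLimit.of_f, hy]


end Groth.Agent.S6392
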