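import Groth.Statements.S6393
-- import your own Groth.Agent.* helpers here

set_option autoImplicit false
open CategoryTheory
universe v₂ u₂ v u
open FibCat

namespace Groth.Agent.S6393

/-- Given `p : S ⥤ C`, saying that p is fibred in groupoids is equivalent to saying that p is a fibred
functor whose fibre category over every object of C is a groupoid. -/
theorem result {C : Type u} [Category.{v} C] {S : Type u₂} [Category.{v₂} S] (p : S ⥤ C) :
    FibCat.IsFibGrpd p ↔ (p.IsFibered ∧ ∀ U : C, IsGroupoid (p.Fiber U)) := by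
  constructor
  · intro h
    refine ⟨Functor.IsFibered.of_exists_isStronglyCartesian ?_, fun U => ⟨fun {x y} φ => ?_⟩⟩
    · intro a R f
      obtain ⟨b, φ, hφ⟩ := h.exists_lift (x := a) f
      refine ⟨b, φ, ?_⟩
      have h1 : p.obj b = R := IsHomLift.domain_eq p f φ
      subst h1
      have e1 : f = p.map φ := IsHomLift.eq_of_isHomLift p f φ
      subst e1
      exact h.isStronglyCartesian φ
    · have hφ : p.IsHomLift (𝟙 U) φ.1 := φ.2
      have hsc : p.IsStronglyCartesian (p.map φ.1) φ.1 := h.isStronglyCartesian φ.1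
      have h1 := IsHomLift.fac' p (𝟙 U) φ.1
      have h2 : IsIso (p.map φ.1) := by
        rw [h1]; infer_instance
      have h3 : IsIso φ.1 := Functor.IsStronglyCartesian.isIso_of_base_isIso p (p.map φ.1) φ.1
      have h4 : p.IsHomLift (𝟙 U) (inv φ.1) := inferInstance
      let ψ : y ⟶ x := ⟨inv φ.1, h4⟩
      refine ⟨⟨ψ, ?_, ?_⟩⟩
      · apply Subtype.ext
        exact IsIso.hom_inv_id φ.1
      · apply Subtype.ext
        exact IsIso.inv_hom_id φ.1
  · rintro ⟨hfib, hgrp⟩
    refine { exists_lift := ?_, isStronglyCartesian := ?_ }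
    · intro x V f
      obtain ⟨b, φ, hφ⟩ := IsPreFibered.exists_isCartesian p (a := x) rfl f
      exact ⟨b, φ, inferInstance⟩
    · intro y x φ
      let f : p.obj y ⟶ p.obj x := p.map φ
      let ψ := Functor.IsPreFibered.pullbackMap (p := p) (rfl : p.obj x = p.obj x) f
      let χ := Functor.IsCartesian.map p f ψ φ
      have hχ : χ ≫ ψ = φ := Functor.IsCartesian.fac p f ψ φ
      have hx' : p.obj (Functor.IsPreFibered.pullbackObj (p := p) (rfl : p.obj x = p.obj x) f) =
          p.obj y := Functor.IsPreFibered.pullbackObj_proj _ _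
      let X : p.Fiber (p.obj y) := ⟨y, rfl⟩
      let X' : p.Fiber (p.obj y) := ⟨_, hx'⟩
      let F : X ⟶ X' := ⟨χ, inferInstance⟩
      have hF : IsIso F := (hgrp (p.obj y)).all_isIso F
      have hF' : IsIso (Functor.Fiber.fiberInclusion.map F) := inferInstance
      have hχiso : IsIso χ := hF'
      have hlift : p.IsHomLift (𝟙 (p.obj y)) (asIso χ).hom := by
        show p.IsHomLift (𝟙 (p.obj y)) χ
        infer_instance
      have hc : p.IsCartesian f ((asIso χ).hom ≫ ψ) := Functor.IsCartesian.of_iso_comp p f ψ (asIso χ)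
      have hc' : p.IsCartesian f φ := by
        have : (asIso χ).hom ≫ ψ = φ := hχ
        rwa [this] at hc
      exact Functor.IsFibered.isStronglyCartesian_of_isCartesian p f φ

end Groth.Agent.S6393
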