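import Groth.Statements.S6398
import Mathlib
import Groth.Agent.FibFiberwise
import Groth.Agent.S5140
-- import your own Groth.Agent.* helpers here

set_option autoImplicit false
set_option backward.isDefEq.respectTransparency false
set_option backward.isDefEq.respectTransparency.types false
open CategoryTheory
universe v u
open FibCat

namespace Groth.Agent.S6398

/-- A functor `G` over `C` between categories fibred in groupoids is an equivalence of categories if and
only if each induced functor of fibre categories `𝒳_U ⥤ 𝒴_U` is an equivalence of categories. -/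
theorem result {C : Type u} [Category.{v} C] {𝒳 𝒴 : BasedCategory.{v, max u v} C} (G : 𝒳 ⥤ᵇ 𝒴) (h𝒳 : FibCat.IsFibGrpd 𝒳.p) (h𝒴 : FibCat.IsFibGrpd 𝒴.p) :
    G.toFunctor.IsEquivalence ↔ ∀ U : C, (FibCat.fiberFunctor G U).IsEquivalence := by
  have : 𝒳.p.IsFibered := Groth.Agent.FibFiberwise.isFibered_of_isFibGrpd 𝒳.p h𝒳
  have hG : ∀ ⦃a b : 𝒳.obj⦄ (φ : a ⟶ b), 𝒳.p.IsStronglyCartesian (𝒳.p.map φ) φ →
      𝒴.p.IsStronglyCartesian (𝒳.p.map φ) (G.toFunctor.map φ) :=
    fun a b φ _ => Groth.Agent.FibFiberwise.preserves_of_isFibGrpd G h𝒴 φ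
  constructor
  · intro h U
    have hE : FibCat.IsEquivOver G :=
      Groth.Agent.S5140.result
        (fun T S α ξ hξ => Groth.Agent.FibFiberwise.transportable_of_isFibGrpd 𝒳.p h𝒳 α ξ hξ) G
    obtain ⟨⟨hfull, hfaith⟩, hess⟩ := Groth.Agent.FibEquiv.of_isEquivOver G hE
    exact { faithful := Groth.Agent.FibFiberwise.fiberFunctor_faithful G U
            full := Groth.Agent.FibFiberwise.fiberFunctor_full G U
            essSurj := Groth.Agent.FibFiberwise.fiberFunctor_essSurj G hess U }
  · intro h
    have hfull : G.toFunctor.Full :=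
      Groth.Agent.FibFiberwise.full_of_fiberwise G hG (fun U => (h U).full)
    have hfaith : G.toFunctor.Faithful :=
      Groth.Agent.FibFiberwise.faithful_of_fiberwise G hG (fun U => (h U).faithful)
    have hess := Groth.Agent.FibFiberwise.essSurj_over_id_of_fiberwise G (fun U => (h U).essSurj)
    exact { faithful := hfaith, full := hfull
            essSurj := ⟨fun η => by obtain ⟨ξ, e, -⟩ := hess η; exact ⟨ξ, ⟨e⟩⟩⟩ }

end Groth.Agent.S6398
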