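import Groth.Statements.S6399
import Mathlib
import Groth.Agent.FibFiberwise
-- import your own Groth.Agent.* helpers here

set_option autoImplicit false
set_option backward.isDefEq.respectTransparency false
set_option backward.isDefEq.respectTransparency.types false
open CategoryTheory
universe v u
open FibCat CategoryTheory.Functor CategoryTheory.Limits Groth.Agent.FibEquiv Groth.Agent.FibFiberwise

namespace Groth.Agent.S6399

/-- A functor `G : 𝒳 ⟶ 𝒴` over `C` between categories fibred in groupoids is fully faithful if and only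
if the diagonal `𝒳 ⟶ 𝒳 ×_𝒴 𝒳` is an equivalence over `C`. -/
theorem result {C : Type u} [Category.{v} C] {𝒳 𝒴 : BasedCategory.{v, max u v} C} (G : 𝒳 ⥤ᵇ 𝒴) (h𝒳 : FibCat.IsFibGrpd 𝒳.p) (h𝒴 : FibCat.IsFibGrpd 𝒴.p) :
    (G.toFunctor.Full ∧ G.toFunctor.Faithful) ↔ FibCat.IsEquivOver (FibCat.diag G) := by
  -- basic facts about the diagonal
  have diag_fst : ∀ {x y : 𝒳.obj} (f : x ⟶ y), ((FibCat.diag G).toFunctor.map f).hom.fst = f := fun f => rfl
  have diag_snd : ∀ {x y : 𝒳.obj} (f : x ⟶ y), ((FibCat.diag G).toFunctor.map f).hom.snd = f := fun f => rfl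
  have diag_w : ∀ {x y : 𝒳.obj} (m : (FibCat.diag G).toFunctor.obj x ⟶ (FibCat.diag G).toFunctor.obj y),
      G.toFunctor.map m.hom.fst = G.toFunctor.map m.hom.snd := by
    intro x y m
    have := m.hom.w
    simp only [FibCat.diag, FibCat.fpLift] at this
    exact (Category.comp_id _).symm.trans (this.trans (Category.id_comp _))
  constructor
  · rintro ⟨hfull, hfaith⟩
    have hF : (FibCat.diag G).toFunctor.Faithful := by
      constructor
      intro x y f g hfg
      have := congrArg (fun m => m.hom.fst) hfg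
      simpa [diag_fst] using this
    have hFu : (FibCat.diag G).toFunctor.Full := by
      constructor
      intro x y m
      refine ⟨m.hom.fst, ?_⟩
      apply ObjectProperty.hom_ext
      apply CategoricalPullback.hom_ext
      · rfl
      · rw [diag_snd]
        exact G.toFunctor.map_injective (diag_w m)
    apply isEquivOver_of
    intro t
    let x : 𝒳.obj := t.obj.fst
    let y : 𝒳.obj := t.obj.snd
    let θ : G.toFunctor.obj x ≅ G.toFunctor.obj y := t.obj.iso
    let b : x ≅ y := G.toFunctor.preimageIso θ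
    have hb : G.toFunctor.map b.hom = θ.hom := by simp [b]
    have w : G.toFunctor.map (Iso.refl x).hom ≫ t.obj.iso.hom =
        ((FibCat.diag G).toFunctor.obj x).obj.iso.hom ≫ G.toFunctor.map b.hom := by
      rw [hb]
      simp only [FibCat.diag, FibCat.fpLift]
      exact ((G.toFunctor.map_id x).symm ▸ Category.id_comp _).trans (Category.id_comp _).symm
    let e : (FibCat.diag G).toFunctor.obj x ≅ t :=
      ObjectProperty.isoMk _ (CategoricalPullback.mkIso (Iso.refl x) b w)
    refine ⟨x, e, ?_⟩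
    have h := IsHomLift.map (FibCat.fp G G).p e.hom
    have h' : (FibCat.fp G G).p.map e.hom = 𝟙 ((FibCat.fp G G).p.obj t) := 𝒳.p.map_id x
    rwa [h'] at h
  · intro h
    obtain ⟨⟨hfull, hfaith⟩, hess⟩ := of_isEquivOver (FibCat.diag G) h
    have h𝒳f : 𝒳.p.IsFibered := isFibered_of_isFibGrpd 𝒳.p h𝒳
    have hGp : ∀ ⦃a b : 𝒳.obj⦄ (φ : a ⟶ b), 𝒳.p.IsStronglyCartesian (𝒳.p.map φ) φ →
        𝒴.p.IsStronglyCartesian (𝒳.p.map φ) (G.toFunctor.map φ) :=
      fun a b φ _ => preserves_of_isFibGrpd G h𝒴 φ
    constructor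
    · constructor
      intro x y ψ
      let f : 𝒳.p.obj x ⟶ 𝒳.p.obj y :=
        eqToHom (G.w_obj x).symm ≫ 𝒴.p.map ψ ≫ eqToHom (G.w_obj y)
      have hψ : 𝒴.p.IsHomLift f ψ := by
        apply IsHomLift.of_fac 𝒴.p f ψ (G.w_obj x) (G.w_obj y)
        simp [f]
      obtain ⟨b', φ₀, h1, h2⟩ := key_lift G hGp x y f
      obtain ⟨χ, ⟨hχ1, hχ2⟩, -⟩ :=
        IsStronglyCartesian.universal_property (p := 𝒴.p) (f := f) (φ := G.toFunctor.map φ₀)
          (𝟙 (𝒳.p.obj x)) f (Category.id_comp f).symm ψ
      have hχsc : 𝒴.p.IsStronglyCartesian (𝟙 (𝒳.p.obj x)) χ :=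
        isStronglyCartesian_of_isHomLift 𝒴.p χ (h𝒴.isStronglyCartesian χ) _
      have hχiso : IsIso χ := IsStronglyCartesian.isIso_of_base_isIso 𝒴.p (𝟙 (𝒳.p.obj x)) χ
      let t : (FibCat.fp G G).obj := ⟨⟨x, b', asIso χ⟩, hχ1⟩
      obtain ⟨ξ, e, -⟩ := hess t
      have hw := e.hom.hom.w
      have hw' : G.toFunctor.map e.hom.hom.fst ≫ χ = G.toFunctor.map e.hom.hom.snd := by
        simp only [FibCat.diag, FibCat.fpLift] at hw
        exact hw.trans (Category.id_comp _)
      have hiso1 : IsIso e.hom.hom := inferInstance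
      have hiso2 : IsIso e.hom.hom.fst := inferInstance
      refine ⟨inv e.hom.hom.fst ≫ e.hom.hom.snd ≫ φ₀, ?_⟩
      rw [Functor.map_comp, Functor.map_comp, ← hw', Functor.map_inv, Category.assoc, hχ2,
        IsIso.inv_hom_id_assoc]
    · constructor
      intro x y a b hab
      have w : G.toFunctor.map a ≫ ((FibCat.diag G).toFunctor.obj y).obj.iso.hom =
          ((FibCat.diag G).toFunctor.obj x).obj.iso.hom ≫ G.toFunctor.map b := by
        simp only [FibCat.diag, FibCat.fpLift]
        exact (Category.comp_id _).trans (hab.trans (Category.id_comp _).symm)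
      let m : (FibCat.diag G).toFunctor.obj x ⟶ (FibCat.diag G).toFunctor.obj y :=
        ObjectProperty.homMk ⟨a, b, w⟩
      obtain ⟨f, hf⟩ := hfull.map_surjective m
      have e1 : a = f := by
        have := congrArg (fun m => m.hom.fst) hf
        exact this.symm
      have e2 : b = f := by
        have := congrArg (fun m => m.hom.snd) hf
        exact this.symm
      rw [e1, e2]

end Groth.Agent.S6399
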