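import Groth.Statements.S6402
import Mathlib
import Groth.Agent.FibFpProj
import Groth.Agent.FibInertia
-- import your own Groth.Agent.* helpers here

set_option autoImplicit false
set_option backward.isDefEq.respectTransparency false
set_option backward.isDefEq.respectTransparency.types false
open CategoryTheory
universe v u
open FibCat

namespace Groth.Agent.S6402

/-- For a functor `F : 𝒳 ⟶ 𝒴` of fibred categories over `C` preserving strongly cartesian morphisms, the
relative inertia `I_{𝒳/𝒴}` (pairs `(x, α)` with `α` an automorphism of `x` sent to the identity by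
`F`) is equivalent over `C` to `𝒳 ×_{Δ, 𝒳 ×_𝒴 𝒳, Δ} 𝒳`, by a functor over `C` whose composite with
either projection is the forgetful functor `(x, α) ↦ x`. (Only the two projections of the
equivalence are pinned here; its 2-cell component at `(x, α)` is `(α, 𝟙)`.) -/
theorem result {C : Type u} [Category.{v} C] {𝒳 𝒴 : BasedCategory.{v, max u v} C} [𝒳.p.IsFibered] [𝒴.p.IsFibered] (F : 𝒳 ⥤ᵇ 𝒴) (hF : FibCat.PreservesStronglyCartesian F) :
    ∃ E : FibCat.inertia F ⥤ᵇ FibCat.fp (FibCat.diag F) (FibCat.diag F),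
      FibCat.IsEquivOver E ∧ BasedFunctor.comp E (FibCat.fpFst _ _) = FibCat.inertiaToBase F ∧
        BasedFunctor.comp E (FibCat.fpSnd _ _) = FibCat.inertiaToBase F := by
  classical
  let D := FibCat.diag F
  -- the iso (α, 𝟙) : D x ≅ D x
  have hDobj : ∀ x : 𝒳.obj, (D.obj x).obj.iso.hom = 𝟙 _ := fun x => rfl
  let ι : ∀ t : (FibCat.inertia F).obj, D.obj t.pt ≅ D.obj t.pt := fun t =>
    { hom := ObjectProperty.homMk ⟨t.aut.hom, 𝟙 _, by
        change F.toFunctor.map t.aut.hom ≫ 𝟙 _ = 𝟙 _ ≫ F.toFunctor.map (𝟙 _)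
        have := t.map_aut
        change F.toFunctor.map t.aut.hom = 𝟙 _ at this
        rw [this]; simp⟩
      inv := ObjectProperty.homMk ⟨t.aut.inv, 𝟙 _, by
        change F.toFunctor.map t.aut.inv ≫ 𝟙 _ = 𝟙 _ ≫ F.toFunctor.map (𝟙 _)
        have := t.map_aut
        change F.toFunctor.map t.aut.hom = 𝟙 _ at this
        have h2 : F.toFunctor.map t.aut.inv = 𝟙 _ := by
          rw [← cancel_epi (F.toFunctor.map t.aut.hom), ← Functor.map_comp, Iso.hom_inv_id, this]
          simp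
        rw [h2]; simp⟩
      hom_inv_id := by
        apply ObjectProperty.hom_ext
        apply Limits.CategoricalPullback.hom_ext
        · exact t.aut.hom_inv_id
        · exact Category.comp_id _
      inv_hom_id := by
        apply ObjectProperty.hom_ext
        apply Limits.CategoricalPullback.hom_ext
        · exact t.aut.inv_hom_id
        · exact Category.comp_id _ }
  have hι : ∀ t : (FibCat.inertia F).obj, (FibCat.fp F F).p.IsHomLift (𝟙 (𝒳.p.obj t.pt)) (ι t).hom := by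
    intro t
    have := Groth.Agent.FibInertia.aut_isHomLift F t
    exact Groth.Agent.FibFp.lift_to F F _ (ι t).hom this
  let Ef : (FibCat.inertia F).obj ⥤ (FibCat.fp D D).obj :=
    { obj := fun t => ⟨⟨t.pt, t.pt, ι t⟩, hι t⟩
      map := fun {t t'} φ => ObjectProperty.homMk ⟨φ.hom, φ.hom, by
        apply ObjectProperty.hom_ext
        apply Limits.CategoricalPullback.hom_ext
        · exact φ.comm.symm
        · change φ.hom ≫ 𝟙 _ = 𝟙 _ ≫ φ.hom
          simp⟩
      map_id := fun t => rfl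
      map_comp := fun f g => rfl }
  let E : FibCat.inertia F ⥤ᵇ FibCat.fp D D := ⟨Ef, rfl⟩
  refine ⟨E, ?_, rfl, rfl⟩
  have hfaith : E.toFunctor.Faithful := by
    refine ⟨fun {t t'} φ φ' h => ?_⟩
    have h1 := congrArg (fun k => k.hom.fst) h
    exact FibCat.InertiaObj.hom_ext h1
  have hfull : E.toFunctor.Full := by
    refine ⟨fun {t t'} m => ?_⟩
    have hw := m.hom.w
    have hw1 : m.hom.fst ≫ t'.aut.hom = t.aut.hom ≫ m.hom.snd := congrArg (fun k => k.hom.fst) hw
    have hw2 : m.hom.fst ≫ 𝟙 _ = 𝟙 _ ≫ m.hom.snd := congrArg (fun k => k.hom.snd) hw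
    simp only [Category.comp_id, Category.id_comp] at hw2
    refine ⟨⟨m.hom.fst, by rw [hw1, hw2]⟩, ?_⟩
    apply ObjectProperty.hom_ext
    apply Limits.CategoricalPullback.hom_ext
    · rfl
    · exact hw2
  apply Groth.Agent.FibEquiv.isEquivOver_of E
  intro η
  let x₁ : 𝒳.obj := η.obj.fst
  let x₂ : 𝒳.obj := η.obj.snd
  let κ : D.obj x₁ ≅ D.obj x₂ := η.obj.iso
  let ι₁ : x₁ ≅ x₂ := (FibCat.fpFst F F).toFunctor.mapIso κ
  let ι₂ : x₁ ≅ x₂ := (FibCat.fpSnd F F).toFunctor.mapIso κ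
  have hι₁ : ι₁.hom = κ.hom.hom.fst := rfl
  have hι₂ : ι₂.hom = κ.hom.hom.snd := rfl
  have hF : F.toFunctor.map ι₁.hom = F.toFunctor.map ι₂.hom := by
    have hw := κ.hom.hom.w
    have h1 : (D.obj x₁).obj.iso.hom = 𝟙 _ := rfl
    have h2 : (D.obj x₂).obj.iso.hom = 𝟙 _ := rfl
    rw [h1, h2] at hw
    simp only [Category.comp_id, Category.id_comp] at hw
    exact hw
  let ξ : (FibCat.inertia F).obj := ⟨x₁, ι₁ ≪≫ ι₂.symm, by
    change F.toFunctor.map (ι₁.hom ≫ ι₂.inv) = 𝟙 _
    rw [Functor.map_comp, hF, ← Functor.map_comp, Iso.hom_inv_id, CategoryTheory.Functor.map_id]⟩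
  let e₀ : (E.toFunctor.obj ξ).obj ≅ η.obj := Limits.CategoricalPullback.mkIso (Iso.refl x₁) ι₂ (by
    apply ObjectProperty.hom_ext
    apply Limits.CategoricalPullback.hom_ext
    · change 𝟙 _ ≫ ι₁.hom = (ι₁.hom ≫ ι₂.inv) ≫ ι₂.hom
      simp
    · change 𝟙 _ ≫ ι₂.hom = 𝟙 _ ≫ ι₂.hom
      rfl)
  refine ⟨ξ, ObjectProperty.isoMk _ e₀, ?_⟩
  apply Groth.Agent.FibFp.lift_to D D
  change 𝒳.p.IsHomLift (𝟙 (𝒳.p.obj x₁)) (𝟙 x₁)
  infer_instance

end Groth.Agent.S6402
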