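import Groth.Statements.S6404
import Mathlib
import Groth.Agent.FibFiberwise
-- import your own Groth.Agent.* helpers here

set_option autoImplicit false
set_option backward.isDefEq.respectTransparency false
set_option backward.isDefEq.respectTransparency.types false
open CategoryTheory
universe v u
open FibCat CategoryTheory.Functor CategoryTheory.Limits Groth.Agent.FibEquiv Groth.Agent.FibFiberwise

namespace Groth.Agent.S6404

/-- The inertia of a category fibred in groupoids over `C` is fibred in groupoids over `C`. -/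
theorem result {C : Type u} [Category.{v} C] {𝒳 : BasedCategory.{v, max u v} C} (h𝒳 : FibCat.IsFibGrpd 𝒳.p) :
    FibCat.IsFibGrpd (FibCat.inertia (FibCat.toSelf 𝒳)).p := by
  -- automorphisms of inertia objects lift identities
  have haut : ∀ x : (FibCat.inertia (FibCat.toSelf 𝒳)).obj, 𝒳.p.IsHomLift (𝟙 (𝒳.p.obj x.pt)) x.aut.hom := by
    intro x
    have h1 : 𝒳.p.IsHomLift (𝒳.p.map x.aut.hom) x.aut.hom := inferInstance
    have h2 : 𝒳.p.map x.aut.hom = 𝟙 (𝒳.p.obj x.pt) := x.map_aut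
    rwa [h2] at h1
  -- transfer of IsHomLift between the inertia and 𝒳
  have hlift_to : ∀ {R S : C} (f : R ⟶ S) {a b : (FibCat.inertia (FibCat.toSelf 𝒳)).obj} (m : a ⟶ b),
      𝒳.p.IsHomLift f m.hom → (FibCat.inertia (FibCat.toSelf 𝒳)).p.IsHomLift f m := by
    intro R S f a b m h
    exact IsHomLift.of_fac' _ f m (IsHomLift.domain_eq 𝒳.p f m.hom) (IsHomLift.codomain_eq 𝒳.p f m.hom)
      (IsHomLift.fac' 𝒳.p f m.hom)
  have hlift_from : ∀ {R S : C} (f : R ⟶ S) {a b : (FibCat.inertia (FibCat.toSelf 𝒳)).obj} (m : a ⟶ b),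
      (FibCat.inertia (FibCat.toSelf 𝒳)).p.IsHomLift f m → 𝒳.p.IsHomLift f m.hom := by
    intro R S f a b m h
    exact IsHomLift.of_fac' 𝒳.p f m.hom (IsHomLift.domain_eq (FibCat.inertia (FibCat.toSelf 𝒳)).p f m)
      (IsHomLift.codomain_eq (FibCat.inertia (FibCat.toSelf 𝒳)).p f m)
      (IsHomLift.fac' (FibCat.inertia (FibCat.toSelf 𝒳)).p f m)
  refine ⟨?_, ?_⟩
  · intro x V f₀
    obtain ⟨f, hf⟩ : ∃ f : V ⟶ 𝒳.p.obj x.pt, f = f₀ := ⟨f₀, rfl⟩
    subst hf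
    obtain ⟨y, φ, hφ⟩ := h𝒳.exists_lift (x := x.pt) f
    have hsc : 𝒳.p.IsStronglyCartesian f φ :=
      isStronglyCartesian_of_isHomLift 𝒳.p φ (h𝒳.isStronglyCartesian φ) f
    have := haut x
    have h1 : 𝒳.p.IsHomLift f (φ ≫ x.aut.hom) := inferInstance
    obtain ⟨β, ⟨hβ1, hβ2⟩, -⟩ :=
      IsStronglyCartesian.universal_property (p := 𝒳.p) (f := f) (φ := φ) (𝟙 V) f
        (Category.id_comp f).symm (φ ≫ x.aut.hom)
    have hβsc : 𝒳.p.IsStronglyCartesian (𝟙 V) β :=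
      isStronglyCartesian_of_isHomLift 𝒳.p β (h𝒳.isStronglyCartesian β) _
    have hβiso : IsIso β := IsStronglyCartesian.isIso_of_base_isIso 𝒳.p (𝟙 V) β
    have hβmap : 𝒳.p.map β = 𝟙 (𝒳.p.obj y) := by
      rw [IsHomLift.fac' 𝒳.p (𝟙 V) β]
      simp
    let y' : (FibCat.inertia (FibCat.toSelf 𝒳)).obj := ⟨y, asIso β, hβmap⟩
    let m : y' ⟶ x := ⟨φ, hβ2⟩
    exact ⟨y', m, hlift_to f m hφ⟩
  · intro y x m
    have hsc : 𝒳.p.IsStronglyCartesian (𝒳.p.map m.hom) m.hom := h𝒳.isStronglyCartesian m.hom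
    refine { toIsHomLift := inferInstance, universal_property' := ?_ }
    intro z g₀ ψ hψ
    obtain ⟨g, hg⟩ : ∃ g : 𝒳.p.obj z.pt ⟶ 𝒳.p.obj y.pt, g = g₀ := ⟨g₀, rfl⟩
    subst hg
    have hψ' : 𝒳.p.IsHomLift (g ≫ 𝒳.p.map m.hom) ψ.hom := hlift_from _ ψ hψ
    obtain ⟨χ₀, ⟨hχ1, hχ2⟩, huniq⟩ :=
      IsStronglyCartesian.universal_property (p := 𝒳.p) (f := 𝒳.p.map m.hom) (φ := m.hom) g
        (g ≫ 𝒳.p.map m.hom) rfl ψ.hom
    have hz := haut z
    have hy := haut y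
    have hx := haut x
    have hcomm : z.aut.hom ≫ χ₀ = χ₀ ≫ y.aut.hom := by
      have h3 : 𝒳.p.IsHomLift (g ≫ 𝒳.p.map m.hom) (ψ.hom ≫ x.aut.hom) := inferInstance
      obtain ⟨κ, -, hκ⟩ :=
        IsStronglyCartesian.universal_property (p := 𝒳.p) (f := 𝒳.p.map m.hom) (φ := m.hom) g
          (g ≫ 𝒳.p.map m.hom) rfl (ψ.hom ≫ x.aut.hom)
      have e1 : z.aut.hom ≫ χ₀ = κ := by
        apply hκ
        refine ⟨inferInstance, ?_⟩
        rw [Category.assoc, hχ2, ψ.comm]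
      have e2 : χ₀ ≫ y.aut.hom = κ := by
        apply hκ
        refine ⟨inferInstance, ?_⟩
        rw [Category.assoc, m.comm, ← Category.assoc, hχ2]
      rw [e1, e2]
    let χ : z ⟶ y := ⟨χ₀, hcomm⟩
    refine ⟨χ, ⟨hlift_to g χ hχ1, ?_⟩, ?_⟩
    · apply FibCat.InertiaObj.hom_ext
      exact hχ2
    · rintro χ' ⟨h1, h2⟩
      apply FibCat.InertiaObj.hom_ext
      apply huniq
      refine ⟨hlift_from g χ' h1, ?_⟩
      exact congrArg FibCat.InertiaObj.Hom.hom h2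

end Groth.Agent.S6404
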