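import Groth.Statements.S6405
import Mathlib
import Groth.Agent.FibFiberwise
-- import your own Groth.Agent.* helpers here

set_option autoImplicit false
set_option backward.isDefEq.respectTransparency false
set_option backward.isDefEq.respectTransparency.types false
open CategoryTheory
universe v u
open FibCat

namespace Groth.Agent.S6405

/-- (2) ⇒ (1): if `𝒳` is fibred in groupoids over `C` and the canonical functor `I_𝒳 ⟶ 𝒳` from its
inertia is an equivalence over `C`, then `𝒳` is fibred in setoids. (The published statement is an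
equivalence; this row states only that the inertia condition implies that `𝒳` is fibred in setoids.) -/
theorem result {C : Type u} [Category.{v} C] {𝒳 : BasedCategory.{v, max u v} C} (h𝒳 : FibCat.IsFibGrpd 𝒳.p)
    (h : FibCat.IsEquivOver (FibCat.inertiaToBase (FibCat.toSelf 𝒳))) : FibCat.IsFibSetoid 𝒳.p := by
  obtain ⟨⟨hfull, hfaith⟩, hess⟩ :=
    Groth.Agent.FibEquiv.of_isEquivOver (FibCat.inertiaToBase (FibCat.toSelf 𝒳)) h
  refine ⟨h𝒳, ?_⟩
  -- every automorphism over an identity is trivial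
  have haut : ∀ (x : 𝒳.obj) (α : x ≅ x), 𝒳.p.map α.hom = 𝟙 (𝒳.p.obj x) → α.hom = 𝟙 x := by
    intro x α hα
    let a : (FibCat.inertia (FibCat.toSelf 𝒳)).obj := ⟨x, α, hα⟩
    let b : (FibCat.inertia (FibCat.toSelf 𝒳)).obj := ⟨x, Iso.refl x, 𝒳.p.map_id x⟩
    obtain ⟨m, hm⟩ := hfull.map_surjective (X := a) (Y := b) (𝟙 x)
    have hm' : m.hom = 𝟙 x := hm
    have := m.comm
    rw [hm'] at this
    exact (Category.comp_id _).symm.trans (this.trans (Category.id_comp _))
  intro U a b
  constructor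
  intro f g
  -- morphisms of the fibre are isomorphisms
  have hiso : ∀ {a b : 𝒳.p.Fiber U} (k : a ⟶ b), IsIso (Functor.Fiber.fiberInclusion.map k) := by
    intro a b k
    have h1 : 𝒳.p.IsStronglyCartesian (𝟙 U) (Functor.Fiber.fiberInclusion.map k) :=
      Groth.Agent.FibFiberwise.isStronglyCartesian_of_isHomLift 𝒳.p _ (h𝒳.isStronglyCartesian _) _
    exact Functor.IsStronglyCartesian.isIso_of_base_isIso 𝒳.p (𝟙 U) _
  have hf := hiso f
  have hg := hiso g
  let f' : a.1 ⟶ b.1 := Functor.Fiber.fiberInclusion.map f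
  let g' : a.1 ⟶ b.1 := Functor.Fiber.fiberInclusion.map g
  have hf' : IsIso f' := hf
  have hg' : IsIso g' := hg
  let α : a.1 ≅ a.1 := asIso f' ≪≫ (asIso g').symm
  have h1 : 𝒳.p.IsHomLift (𝟙 U) (inv g') := inferInstance
  have h2 : 𝒳.p.IsHomLift (𝟙 U) (f' ≫ inv g') := inferInstance
  have hα : 𝒳.p.map α.hom = 𝟙 (𝒳.p.obj a.1) := by
    have h3 : 𝒳.p.IsHomLift (𝟙 U) α.hom := h2
    have := CategoryTheory.IsHomLift.fac' 𝒳.p (𝟙 U) α.hom
    rw [this]
    simp
  have := haut a.1 α hα
  apply Functor.Fiber.hom_ext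
  change f' = g'
  have h4 : f' ≫ inv g' = 𝟙 _ := this
  calc f' = (f' ≫ inv g') ≫ g' := by simp
    _ = g' := by rw [h4]; simp

end Groth.Agent.S6405
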