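import Groth.Statements.S6406
import Mathlib
import Groth.Agent.FibFpProj
-- import your own Groth.Agent.* helpers here

set_option autoImplicit false
set_option backward.isDefEq.respectTransparency false
set_option backward.isDefEq.respectTransparency.types false
open CategoryTheory
universe v u
open FibCat

namespace Groth.Agent.S6406

/-- A category fibred in setoids over `C` admits an equivalence over `C` to a category fibred in sets
over `C`. (The target is taken in the same universes as the slices `C/U`; its morphism sets are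
essentially as small as those of `C`.) -/
theorem result {C : Type u} [Category.{v} C] {𝒳 : BasedCategory.{v, max u v} C} (h𝒳 : FibCat.IsFibSetoid 𝒳.p) :
    ∃ (𝒴 : BasedCategory.{v, max u v} C) (F : 𝒳 ⥤ᵇ 𝒴), FibCat.IsFibSet 𝒴.p ∧ FibCat.IsEquivOver F := by
  classical
  obtain ⟨hG, hthin⟩ := h𝒳
  -- the relation "isomorphic over an identity"
  let r : Setoid 𝒳.obj :=
    { r := fun x y => ∃ e : x ≅ y, 𝒳.p.IsHomLift (𝟙 (𝒳.p.obj y)) e.hom
      iseqv :=
        { refl := fun x => ⟨Iso.refl x, by simp only [Iso.refl_hom]; infer_instance⟩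
          symm := by
            rintro x y ⟨e, he⟩
            have hxy : 𝒳.p.obj x = 𝒳.p.obj y := IsHomLift.domain_eq 𝒳.p (𝟙 (𝒳.p.obj y)) e.hom
            have h1 : 𝒳.p.IsHomLift (𝟙 (𝒳.p.obj y)) e.inv := IsHomLift.lift_id_inv _ _ _
            exact ⟨e.symm, Groth.Agent.FibEquiv.isHomLift_of_eq 𝒳.p hxy.symm e.inv⟩
          trans := by
            rintro x y z ⟨e, he⟩ ⟨e', he'⟩
            have hyz : 𝒳.p.obj y = 𝒳.p.obj z := IsHomLift.domain_eq 𝒳.p (𝟙 (𝒳.p.obj z)) e'.hom
            have h1 : 𝒳.p.IsHomLift (𝟙 (𝒳.p.obj z)) e.hom := Groth.Agent.FibEquiv.isHomLift_of_eq 𝒳.p hyz e.hom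
            refine ⟨e ≪≫ e', ?_⟩
            simp only [Iso.trans_hom]
            infer_instance } }
  let rep : 𝒳.obj → 𝒳.obj := fun x => (Quotient.mk r x).out
  have hrep : ∀ x, r.r (rep x) x := fun x => Quotient.mk_out (s := r) x
  have hreprep : ∀ x, rep (rep x) = rep x := by
    intro x
    change (Quotient.mk r (Quotient.mk r x).out).out = (Quotient.mk r x).out
    rw [Quotient.out_eq]
  have hrep_eq : ∀ {x y}, r.r x y → rep x = rep y := by
    intro x y h
    change (Quotient.mk r x).out = (Quotient.mk r y).out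
    rw [Quotient.sound h]
  let P : ObjectProperty 𝒳.obj := fun x => rep x = x
  let 𝒴 : BasedCategory.{v, max u v} C := { obj := P.FullSubcategory, p := P.ι ⋙ 𝒳.p }
  let I : 𝒴 ⥤ᵇ 𝒳 := ⟨P.ι, rfl⟩
  have hIfull : I.toFunctor.Full := inferInstanceAs (P.ι.Full)
  have hIfaith : I.toFunctor.Faithful := inferInstanceAs (P.ι.Faithful)
  have hIess : ∀ η : 𝒳.obj, ∃ (ξ : 𝒴.obj) (e : I.toFunctor.obj ξ ≅ η), 𝒳.p.IsHomLift (𝟙 (𝒳.p.obj η)) e.hom := by
    intro η
    obtain ⟨e, he⟩ := hrep η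
    exact ⟨⟨rep η, hreprep η⟩, e, he⟩
  have hIeq : FibCat.IsEquivOver I := Groth.Agent.FibEquiv.isEquivOver_of I hIess
  obtain ⟨F, ⟨α⟩, ⟨β⟩⟩ := hIeq
  refine ⟨𝒴, F, ⟨?_, ?_⟩, ⟨I, ⟨β⟩, ⟨α⟩⟩⟩
  · refine ⟨?_, ?_⟩
    · intro y V f
      obtain ⟨x', φ, hφ⟩ := hG.exists_lift (p := 𝒳.p) (x := y.obj) f
      have hV : 𝒳.p.obj x' = V := IsHomLift.domain_eq 𝒳.p f φ
      subst hV
      obtain ⟨e, he⟩ := hrep x'
      have h1 : 𝒳.p.IsHomLift f (e.hom ≫ φ) := inferInstance
      let y' : 𝒴.obj := ⟨rep x', hreprep x'⟩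
      let m : y' ⟶ y := ObjectProperty.homMk (e.hom ≫ φ)
      refine ⟨y', m, ?_⟩
      exact IsHomLift.of_fac' _ f m (IsHomLift.domain_eq 𝒳.p f (e.hom ≫ φ))
        (IsHomLift.codomain_eq 𝒳.p f (e.hom ≫ φ)) (IsHomLift.fac' 𝒳.p f (e.hom ≫ φ))
    · intro y' y m
      have : 𝒳.p.IsStronglyCartesian (𝒴.p.map m) (I.toFunctor.map m) := hG.isStronglyCartesian m.hom
      exact Groth.Agent.FibEquiv.isStronglyCartesian_of_map I (𝒴.p.map m) m
  · intro U
    have key : ∀ {a b : 𝒴.obj} (n : a ⟶ b), 𝒴.p.IsHomLift (𝟙 U) n → 𝒳.p.IsHomLift (𝟙 U) n.hom := by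
      intro a b n hn
      exact IsHomLift.of_fac' 𝒳.p (𝟙 U) n.hom (IsHomLift.domain_eq 𝒴.p (𝟙 U) n)
        (IsHomLift.codomain_eq 𝒴.p (𝟙 U) n) (IsHomLift.fac' 𝒴.p (𝟙 U) n)
    refine { subsingleton := fun a b => ⟨fun m m' => ?_⟩, eq_of_hom := fun {a b} m => ?_ }
    · apply Functor.Fiber.hom_ext
      have hm : 𝒴.p.IsHomLift (𝟙 U) (Functor.Fiber.fiberInclusion.map m) := inferInstance
      have hm' : 𝒴.p.IsHomLift (𝟙 U) (Functor.Fiber.fiberInclusion.map m') := inferInstance
      generalize (Functor.Fiber.fiberInclusion.map m) = n at hm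
      generalize (Functor.Fiber.fiberInclusion.map m') = n' at hm'
      have h2 := key n hm
      have h2' := key n' hm'
      have hth := hthin U
      have := Subsingleton.elim (Functor.Fiber.homMk 𝒳.p U n.hom) (Functor.Fiber.homMk 𝒳.p U n'.hom)
      have h3 : n.hom = n'.hom := congrArg (fun k => Functor.Fiber.fiberInclusion.map k) this
      exact ObjectProperty.hom_ext _ h3
    · have hm : 𝒴.p.IsHomLift (𝟙 U) (Functor.Fiber.fiberInclusion.map m) := inferInstance
      have h2 := key _ hm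
      have hsc : 𝒳.p.IsStronglyCartesian (𝟙 U) (Functor.Fiber.fiberInclusion.map m).hom :=
        Groth.Agent.FibFpProj.isStronglyCartesian_of_isFibGrpd 𝒳.p hG _ _
      have hiso : IsIso (Functor.Fiber.fiberInclusion.map m).hom :=
        Functor.IsStronglyCartesian.isIso_of_base_isIso 𝒳.p (𝟙 U) _
      have hb : 𝒳.p.obj b.1.obj = U := b.2
      have hr : r.r a.1.obj b.1.obj :=
        ⟨asIso (Functor.Fiber.fiberInclusion.map m).hom,
          Groth.Agent.FibEquiv.isHomLift_of_eq 𝒳.p hb.symm (Functor.Fiber.fiberInclusion.map m).hom⟩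
      have h3 : a.1.obj = b.1.obj := by
        rw [← a.1.property, ← b.1.property]
        exact hrep_eq hr
      apply Subtype.ext
      exact ObjectProperty.FullSubcategory.ext h3

end Groth.Agent.S6406
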