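import Groth.Statements.S6407
import Mathlib
import Groth.Agent.FibFpProj
-- import your own Groth.Agent.* helpers here

set_option autoImplicit false
set_option backward.isDefEq.respectTransparency false
set_option backward.isDefEq.respectTransparency.types false
open CategoryTheory
universe v u
open FibCat

namespace Groth.Agent.S6407

/-- For categories `𝒳, 𝒴` fibred in setoids over `C` and functors `f, g : 𝒳 ⟶ 𝒴` over `C` that agree on
isomorphism classes of objects of each fibre category, there is a unique 2-isomorphism `f ≅ g` over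
`C`. -/
theorem result {C : Type u} [Category.{v} C] {𝒳 𝒴 : BasedCategory.{v, max u v} C} (h𝒳 : FibCat.IsFibSetoid 𝒳.p) (h𝒴 : FibCat.IsFibSetoid 𝒴.p) (f g : 𝒳 ⥤ᵇ 𝒴)
    (hfg : ∀ (U : C) (x : 𝒳.p.Fiber U), Nonempty ((FibCat.fiberFunctor f U).obj x ≅ (FibCat.fiberFunctor g U).obj x)) :
    Nonempty (Unique (f ≅ g)) := by
  classical
  -- parallel morphisms over the same base morphism coincide
  have keyA : ∀ {R S : C} (h : R ⟶ S) {a b : 𝒴.obj} (φ φ' : a ⟶ b), 𝒴.p.IsHomLift h φ → 𝒴.p.IsHomLift h φ' → φ = φ' := by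
    intro R S h a b φ φ' h1 h2
    have hsc : 𝒴.p.IsStronglyCartesian h φ' := Groth.Agent.FibFpProj.isStronglyCartesian_of_isFibGrpd 𝒴.p h𝒴.1 h φ'
    obtain ⟨χ, ⟨hχ1, hχ2⟩, -⟩ :=
      Functor.IsStronglyCartesian.universal_property (p := 𝒴.p) (f := h) (φ := φ') (𝟙 R) h (by simp) φ
    have hthin := h𝒴.2 R
    have hR : 𝒴.p.obj a = R := IsHomLift.domain_eq 𝒴.p h φ
    have hid : 𝒴.p.IsHomLift (𝟙 R) (𝟙 a) := IsHomLift.id hR
    have h3 := Subsingleton.elim (Functor.Fiber.homMk 𝒴.p R χ) (Functor.Fiber.homMk 𝒴.p R (𝟙 a))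
    have h4 : χ = 𝟙 a := congrArg (fun k => Functor.Fiber.fiberInclusion.map k) h3
    rw [← hχ2, h4, Category.id_comp]
  let ε : ∀ x : 𝒳.obj, (FibCat.fiberFunctor f (𝒳.p.obj x)).obj ⟨x, rfl⟩ ≅ (FibCat.fiberFunctor g (𝒳.p.obj x)).obj ⟨x, rfl⟩ :=
    fun x => Classical.choice (hfg (𝒳.p.obj x) ⟨x, rfl⟩)
  let εi : ∀ x : 𝒳.obj, f.toFunctor.obj x ≅ g.toFunctor.obj x := fun x =>
    Functor.Fiber.fiberInclusion.mapIso (ε x)
  have hεi : ∀ x, 𝒴.p.IsHomLift (𝟙 (𝒳.p.obj x)) (εi x).hom := fun x => by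
    change 𝒴.p.IsHomLift (𝟙 (𝒳.p.obj x)) (Functor.Fiber.fiberInclusion.map (ε x).hom)
    infer_instance
  let α : f.toFunctor ≅ g.toFunctor := NatIso.ofComponents εi (by
    intro x x' φ
    have h1 := hεi x
    have h2 := hεi x'
    apply keyA (𝒳.p.map φ)
    · have : 𝒴.p.IsHomLift (𝒳.p.map φ ≫ 𝟙 _) (f.toFunctor.map φ ≫ (εi x').hom) := inferInstance
      simpa using this
    · have : 𝒴.p.IsHomLift (𝟙 _ ≫ 𝒳.p.map φ) ((εi x).hom ≫ g.toFunctor.map φ) := inferInstance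
      simpa using this)
  let α' : f ≅ g := BasedNatIso.mkNatIso α (fun x => hεi x)
  refine ⟨⟨⟨α'⟩, fun β => ?_⟩⟩
  apply Iso.ext
  apply BasedNatTrans.homCategory.ext
  refine NatTrans.ext (funext fun x => ?_)
  exact keyA (𝟙 (𝒳.p.obj x)) _ _ (β.hom.isHomLift' x) (α'.hom.isHomLift' x)

end Groth.Agent.S6407
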