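import Groth.Statements.S6408
import Mathlib
import Groth.Agent.FibFiberwise
-- import your own Groth.Agent.* helpers here

set_option autoImplicit false
set_option backward.isDefEq.respectTransparency false
set_option backward.isDefEq.respectTransparency.types false
open CategoryTheory
universe v u
open FibCat

namespace Groth.Agent.S6408

/-- Between categories fibred in sets over `C` the only 2-morphisms over `C` are identities. -/
theorem result {C : Type u} [Category.{v} C] {𝒳 𝒴 : BasedCategory.{v, max u v} C} (h𝒳 : FibCat.IsFibSet 𝒳.p) (h𝒴 : FibCat.IsFibSet 𝒴.p) {F G : 𝒳 ⥤ᵇ 𝒴} (α : F ⟶ G) :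
    ∃ h : F = G, α = eqToHom h := by
  obtain ⟨h𝒴g, h𝒴d⟩ := h𝒴
  -- components are identities
  have happ : ∀ x : 𝒳.obj, ∃ hx : F.toFunctor.obj x = G.toFunctor.obj x,
      α.toNatTrans.app x = eqToHom hx := by
    intro x
    let U := 𝒳.p.obj x
    have := h𝒴d U
    let a : 𝒴.p.Fiber U := ⟨F.toFunctor.obj x, F.w_obj x⟩
    let b : 𝒴.p.Fiber U := ⟨G.toFunctor.obj x, G.w_obj x⟩
    let k : a ⟶ b := Functor.Fiber.homMk 𝒴.p U (α.toNatTrans.app x)
    have e : a = b := IsDiscrete.eq_of_hom k
    have hk : k = eqToHom e := Subsingleton.elim _ _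
    refine ⟨congrArg Subtype.val e, ?_⟩
    have := congrArg (fun m => Functor.Fiber.fiberInclusion.map m) hk
    simp only [eqToHom_map] at this
    exact this
  choose hobj happ' using happ
  have hfun : F.toFunctor = G.toFunctor := by
    refine CategoryTheory.Functor.ext hobj ?_
    intro x y f
    have := α.toNatTrans.naturality f
    rw [happ' x, happ' y] at this
    rw [← reassoc_of% this]
    simp
  have hFG : F = G := by
    cases F; cases G
    simp only at hfun
    subst hfun
    rfl
  refine ⟨hFG, ?_⟩
  subst hFG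
  apply BasedNatTrans.ext
  ext x
  rw [happ' x]
  simp

end Groth.Agent.S6408
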