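import Groth.Statements.S6418
-- import your own Groth.Agent.* helpers here

set_option autoImplicit false
open CategoryTheory
universe v₁ u₁ v₂ u₂
open FibCat

namespace Groth.Agent.S6418

theorem over_ext {C : Type u₂} [Category.{v₂} C] {U : C} (X Y : Over U) (h : X.left = Y.left)
    (h' : X.hom = eqToHom h ≫ Y.hom) : X = Y := by
  obtain ⟨l, ⟨⟨⟩⟩, hom⟩ := X
  obtain ⟨l', ⟨⟨⟩⟩, hom'⟩ := Y
  have h0 : l = l' := h
  subst h0
  have h1 : hom = hom' := by simpa using h'
  subst h1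
  rfl

/-- A lift along `p'` is a lift along `p' ⋙ Over.forget U`. -/
theorem isHomLift_forget {𝒮 : Type u₁} [Category.{v₁} 𝒮] {C : Type u₂} [Category.{v₂} C] {U : C}
    (p' : 𝒮 ⥤ Over U) {A B : Over U} (g : A ⟶ B) {x y : 𝒮} (χ : x ⟶ y)
    [h : p'.IsHomLift g χ] : (p' ⋙ Over.forget U).IsHomLift g.left χ := by
  obtain ⟨⟩ := h
  exact Functor.IsHomLift.map (p := p' ⋙ Over.forget U) χ

/-- A lift along `p' ⋙ Over.forget U` is a lift along `p'`, if the objects match. -/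
theorem isHomLift_of_forget {𝒮 : Type u₁} [Category.{v₁} 𝒮] {C : Type u₂} [Category.{v₂} C] {U : C}
    (p' : 𝒮 ⥤ Over U) {A B : Over U} (g : A ⟶ B) {x y : 𝒮} (χ : x ⟶ y)
    (hx : p'.obj x = A) (hy : p'.obj y = B)
    [h : (p' ⋙ Over.forget U).IsHomLift g.left χ] : p'.IsHomLift g χ := by
  subst hx hy
  have h1 : g.left = (p' ⋙ Over.forget U).map χ :=
    @IsHomLift.eq_of_isHomLift _ _ _ _ (p' ⋙ Over.forget U) x y g.left χ h
  have h2 : g = p'.map χ := by
    ext
    exact h1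
  subst h2
  exact Functor.IsHomLift.map (p := p') χ

/-- If `p' : 𝒮 ⥤ C/U` composed with the forgetful functor `C/U ⥤ C` is a fibred category, then so is
`p'`. -/
theorem result {𝒮 : Type u₁} [Category.{v₁} 𝒮] {C : Type u₂} [Category.{v₂} C] {U : C} (p' : 𝒮 ⥤ Over U) [(p' ⋙ Over.forget U).IsFibered] : p'.IsFibered := by
  apply Functor.IsFibered.of_exists_isStronglyCartesian
  intro a R f
  obtain ⟨b, φ, hφ⟩ := IsPreFibered.exists_isCartesian (p' ⋙ Over.forget U)
    (a := a) rfl f.left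
  have hφs : (p' ⋙ Over.forget U).IsStronglyCartesian f.left φ :=
    @Functor.IsFibered.isStronglyCartesian_of_isCartesian _ _ _ _ (p' ⋙ Over.forget U) _ _ _
      f.left _ _ φ hφ
  have hb : (p'.obj b).left = R.left := IsHomLift.domain_eq (p' ⋙ Over.forget U) f.left φ
  have hfac : (p'.map φ).left = eqToHom hb ≫ f.left := by
    have := IsHomLift.fac' (p' ⋙ Over.forget U) f.left φ
    simpa using this
  have hR : p'.obj b = R := by
    apply over_ext _ _ hb
    rw [← Over.w (p'.map φ), hfac, Category.assoc, Over.w f]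
  subst hR
  have hf : f = p'.map φ := by
    ext
    simpa using hfac.symm
  subst hf
  refine ⟨b, φ, ?_⟩
  refine { toIsHomLift := Functor.IsHomLift.map (p := p') φ, universal_property' := ?_ }
  intro a' g φ' hφ'
  have h1 : (p' ⋙ Over.forget U).IsHomLift (g.left ≫ (p'.map φ).left) φ' :=
    isHomLift_forget p' (g ≫ p'.map φ) φ'
  obtain ⟨χ, ⟨hχ1, hχ2⟩, hχu⟩ :=
    @Functor.IsStronglyCartesian.universal_property' _ _ _ _ (p' ⋙ Over.forget U) _ _ _ _
      (p'.map φ).left φ hφs a' g.left φ' h1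
  refine ⟨χ, ⟨@isHomLift_of_forget _ _ _ _ _ p' _ _ g _ _ χ rfl rfl hχ1, hχ2⟩, ?_⟩
  rintro χ' ⟨hχ'1, hχ'2⟩
  exact hχu χ' ⟨isHomLift_forget p' g χ', hχ'2⟩

end Groth.Agent.S6418
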