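import Groth.Statements.S6419
import Groth.Agent.S6418

set_option autoImplicit false
open CategoryTheory
universe v₁ u₁ v₂ u₂
open FibCat

namespace Groth.Agent.S6419

open Groth.Agent.S6418 in
theorem isStronglyCartesian_of_forget {𝒮 : Type u₁} [Category.{v₁} 𝒮] {C : Type u₂}
    [Category.{v₂} C] {U : C} (p' : 𝒮 ⥤ Over U) {y x : 𝒮} (φ : y ⟶ x)
    (hφs : (p' ⋙ Over.forget U).IsStronglyCartesian ((p' ⋙ Over.forget U).map φ) φ) :
    p'.IsStronglyCartesian (p'.map φ) φ := by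
  refine { toIsHomLift := Functor.IsHomLift.map (p := p') φ, universal_property' := ?_ }
  intro a' g φ' hφ'
  have h1 : (p' ⋙ Over.forget U).IsHomLift (g.left ≫ (p'.map φ).left) φ' :=
    isHomLift_forget p' (g ≫ p'.map φ) φ'
  obtain ⟨χ, ⟨hχ1, hχ2⟩, hχu⟩ :=
    @Functor.IsStronglyCartesian.universal_property' _ _ _ _ (p' ⋙ Over.forget U) _ _ _ _
      (p'.map φ).left φ hφs a' g.left φ' h1
  refine ⟨χ, ⟨@isHomLift_of_forget _ _ _ _ _ p' _ _ g _ _ χ rfl rfl hχ1, hχ2⟩, ?_⟩
  rintro χ' ⟨hχ'1, hχ'2⟩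
  exact hχu χ' ⟨isHomLift_forget p' g χ', hχ'2⟩

/-- If `p' : 𝒮 ⥤ C/U` composed with the forgetful functor `C/U ⥤ C` is fibred in groupoids, then so is
`p'`. -/
theorem result {𝒮 : Type u₁} [Category.{v₁} 𝒮] {C : Type u₂} [Category.{v₂} C] {U : C} (p' : 𝒮 ⥤ Over U) (h : FibCat.IsFibGrpd (p' ⋙ Over.forget U)) : FibCat.IsFibGrpd p' := by
  refine { exists_lift := ?_, isStronglyCartesian := ?_ }
  · intro x V f
    obtain ⟨y, φ, hφ⟩ := h.exists_lift (x := x) f.left
    have hb : (p'.obj y).left = V.left :=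
      @IsHomLift.domain_eq _ _ _ _ (p' ⋙ Over.forget U) _ _ _ _ f.left φ hφ
    have hfac : (p'.map φ).left = eqToHom hb ≫ f.left := by
      have := @IsHomLift.fac' _ _ _ _ (p' ⋙ Over.forget U) _ _ _ _ f.left φ hφ
      simpa using this
    have hR : p'.obj y = V := by
      apply Groth.Agent.S6418.over_ext _ _ hb
      rw [← Over.w (p'.map φ), hfac, Category.assoc, Over.w f]
    subst hR
    have hf : f = p'.map φ := by
      ext
      simpa using hfac.symm
    subst hf
    exact ⟨y, φ, Functor.IsHomLift.map (p := p') φ⟩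
  · intro y x φ
    exact isStronglyCartesian_of_forget p' φ (h.isStronglyCartesian φ)

end Groth.Agent.S6419
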