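import Groth.Statements.S6412
import Groth.Agent.Lib.Helper4.FibRep

set_option autoImplicit false
open CategoryTheory CategoryTheory.Limits
universe v u
open FibCat

namespace Groth.Agent.S6412

/-- For `C` with binary products and fibre products and `𝒮` fibred in groupoids over `C`, the diagonal
`𝒮 ⟶ 𝒮 ×_C 𝒮` is representable if and only if every functor `C/U ⟶ 𝒮` over `C` is representable.
(Representability of each base change to a slice `C/V` is taken as a category over `C`; for
categories fibred in groupoids this agrees with representability over `C/V`.) -/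
theorem result {C : Type u} [Category.{v} C] [HasBinaryProducts C] [HasPullbacks C] {𝒮 : BasedCategory.{v, max u v} C} (h𝒮 : FibCat.IsFibGrpd 𝒮.p) :
    FibCat.IsRepresentable1 (FibCat.diag (FibCat.toSelf 𝒮)) ↔ ∀ (U : C) (G : FibCat.overCat U ⥤ᵇ 𝒮), FibCat.IsRepresentable1 G := by
  constructor
  · intro hΔ U G V H
    exact Groth.Agent.Lib.helper4.FibPaste.isRepresentable_of_isEquivOver'
      (Groth.Agent.Lib.helper4.FibRep.compare H G)
      (Groth.Agent.Lib.helper4.FibRep.compare_isEquivOver H G)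
      (hΔ (V ⨯ U) (Groth.Agent.Lib.helper4.FibRep.pairK H G))
  · intro h U K
    have hEq : HasEqualizers C := hasEqualizers_of_hasPullbacks_and_binary_products
    obtain ⟨ω, ⟨hω⟩⟩ := Groth.Agent.Lib.helper4.FibRep.exists_isTerminal_of_isRepresentable
      (h U (BasedFunctor.comp K (Groth.Agent.Lib.helper4.FibRep.sqSnd 𝒮)) U
        (BasedFunctor.comp K (Groth.Agent.Lib.helper4.FibRep.sqFst 𝒮)))
    obtain ⟨τ, ⟨hτ⟩⟩ := Groth.Agent.Lib.helper4.FibRep.exists_isTerminal_fp_diag K h𝒮 ω hω
    have hsq : FibCat.IsFibGrpd (Groth.Agent.Lib.helper4.FibRep.sq 𝒮).p :=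
      Groth.Agent.FibFpProj.isFibGrpd_fp _ _ h𝒮 h𝒮 Groth.Agent.FibFpProj.isFibGrpd_selfOver
    have hfib : FibCat.IsFibGrpd (FibCat.fp K (FibCat.diag (FibCat.toSelf 𝒮))).p :=
      Groth.Agent.FibFpProj.isFibGrpd_fp K _ (Groth.Agent.FibOver.isFibGrpd_overCat U) h𝒮 hsq
    exact Groth.Agent.Lib.helper4.FibRep.isRepresentable_of_isTerminal hfib hτ

end Groth.Agent.S6412
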