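import Groth.Statements.S6417
-- import your own Groth.Agent.* helpers here

set_option autoImplicit false
open CategoryTheory CategoryTheory.Limits
universe v₁ u₁ v₂ u₂
open FibCat

namespace Groth.Agent.S6417

theorem aux {𝒮 : Type u₁} [Category.{v₁} 𝒮] {C : Type u₂} [Category.{v₂} C] (p : 𝒮 ⥤ C)
    {x y z w : 𝒮} (φ : x ⟶ y) (ψ : z ⟶ y) [hφ : p.IsStronglyCartesian (p.map φ) φ]
    {P : C} (f₁ : P ⟶ p.obj x) (f₂ : P ⟶ p.obj z)
    (hP : IsPullback f₁ f₂ (p.map φ) (p.map ψ)) (a : w ⟶ z)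
    [ha : p.IsStronglyCartesian f₂ a] :
    ∃ b : w ⟶ x, p.IsHomLift f₁ b ∧ IsPullback b a φ ψ := by
  have h : p.obj w = P := IsHomLift.domain_eq p f₂ a
  subst h
  have e : f₂ = p.map a := IsHomLift.eq_of_isHomLift p f₂ a
  subst e
  -- construct `b`
  have hw : p.map (a ≫ ψ) = f₁ ≫ p.map φ := by rw [p.map_comp, hP.w]
  obtain ⟨b, ⟨hb1, hb2⟩, -⟩ :=
    Functor.IsStronglyCartesian.universal_property p (p.map φ) φ f₁ (p.map (a ≫ ψ)) hw (a ≫ ψ)
  have hf₁ : f₁ = p.map b := IsHomLift.eq_of_isHomLift p f₁ b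
  subst hf₁
  refine ⟨b, hb1, ⟨⟨hb2⟩, ⟨?_⟩⟩⟩
  -- the lift
  have hcond : ∀ s : PullbackCone φ ψ, p.map s.fst ≫ p.map φ = p.map s.snd ≫ p.map ψ := by
    intro s
    rw [← p.map_comp, ← p.map_comp, s.condition]
  let u : ∀ s : PullbackCone φ ψ, p.obj s.pt ⟶ p.obj w := fun s =>
    hP.lift (p.map s.fst) (p.map s.snd) (hcond s)
  have hu1 : ∀ s, u s ≫ p.map b = p.map s.fst := fun s => hP.lift_fst _ _ _
  have hu2 : ∀ s, u s ≫ p.map a = p.map s.snd := fun s => hP.lift_snd _ _ _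
  let l : ∀ s : PullbackCone φ ψ, s.pt ⟶ w := fun s =>
    Functor.IsStronglyCartesian.map p (p.map a) a (hu2 s).symm s.snd
  have hl1 : ∀ s, p.IsHomLift (u s) (l s) := fun s =>
    Functor.IsStronglyCartesian.map_isHomLift p (p.map a) a (hu2 s).symm s.snd
  have hl2 : ∀ s, l s ≫ a = s.snd := fun s =>
    Functor.IsStronglyCartesian.fac p (p.map a) a (hu2 s).symm s.snd
  refine PullbackCone.IsLimit.mk hb2 l ?_ hl2 ?_
  · intro s
    have h1 : p.IsHomLift (p.map s.fst) (l s ≫ b) := by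
      rw [← hu1 s]
      have := hl1 s
      infer_instance
    have h2 : p.IsHomLift (p.map s.fst) s.fst := inferInstance
    apply Functor.IsStronglyCartesian.ext p (p.map φ) φ (p.map s.fst)
    rw [Category.assoc, hb2, ← Category.assoc, hl2, s.condition]
  · intro s m hm1 hm2
    have hmu : p.map m = u s := by
      apply hP.hom_ext
      · rw [hu1, ← p.map_comp, hm1]
      · rw [hu2, ← p.map_comp, hm2]
    have hm : p.IsHomLift (u s) m := by
      rw [← hmu]; infer_instance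
    exact Functor.IsStronglyCartesian.map_uniq p (p.map a) a (hu2 s).symm s.snd m hm2

/-- For `p : 𝒮 ⥤ C`, a strongly cartesian `φ : x ⟶ y`, any `ψ : z ⟶ y`, and a strongly cartesian `a : w
⟶ z` lying over the second projection of `p x ×_{p y} p z`, the object `w` is a fibre product `x ×_y
z`: there is `b : w ⟶ x` over the first projection with `(b, a)` a pullback square. -/
theorem result {𝒮 : Type u₁} [Category.{v₁} 𝒮] {C : Type u₂} [Category.{v₂} C] (p : 𝒮 ⥤ C) {x y z w : 𝒮} (φ : x ⟶ y) (ψ : z ⟶ y)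
    [p.IsStronglyCartesian (p.map φ) φ] [HasPullback (p.map φ) (p.map ψ)] (a : w ⟶ z)
    [p.IsStronglyCartesian (pullback.snd (p.map φ) (p.map ψ)) a] :
    ∃ b : w ⟶ x, p.IsHomLift (pullback.fst (p.map φ) (p.map ψ)) b ∧ IsPullback b a φ ψ :=
  aux p φ ψ _ _ (IsPullback.of_hasPullback (p.map φ) (p.map ψ)) a

end Groth.Agent.S6417
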