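import Groth.Statements.S6421
import Mathlib
-- import your own Groth.Agent.* helpers here

set_option autoImplicit false
open CategoryTheory CategoryTheory.Limits
universe v u
open FibCat

namespace Groth.Agent.S6421

/-- For a 2-commutative morphism of cospans of categories whose outer functors `X ⥤ A`, `Y ⥤ B` are
fully faithful and whose middle functor `Z ⥤ C` is faithful, the induced functor `X ×_Z Y ⥤ A ×_C B`
is fully faithful. -/
theorem result {X Y Z A B C : Type u} [Category.{v} X] [Category.{v} Y] [Category.{v} Z] [Category.{v} A] [Category.{v} B] [Category.{v} C] {H : X ⥤ Z} {I : Y ⥤ Z} {F : A ⥤ C} {G : B ⥤ C} (ψ : CatCospanTransform H I F G) [ψ.left.Full] [ψ.left.Faithful] [ψ.right.Full] [ψ.right.Faithful] [ψ.base.Faithful] :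
    (FibCat.categoricalPullbackMap ψ).Full ∧ (FibCat.categoricalPullbackMap ψ).Faithful := by
  constructor
  · constructor
    intro x y g
    have hw := g.w
    simp [FibCat.categoricalPullbackMap] at hw
    let gf : ψ.left.obj x.fst ⟶ ψ.left.obj y.fst := g.fst
    let gs : ψ.right.obj x.snd ⟶ ψ.right.obj y.snd := g.snd
    let a : x.fst ⟶ y.fst := ψ.left.preimage gf
    let b : x.snd ⟶ y.snd := ψ.right.preimage gs
    have ha : ψ.left.map a = gf := ψ.left.map_preimage gf
    have hb : ψ.right.map b = gs := ψ.right.map_preimage gs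
    have hw' : F.map (ψ.left.map a) ≫ ψ.squareLeft.iso.inv.app y.fst ≫
        ψ.base.map y.iso.hom ≫ ψ.squareRight.iso.hom.app y.snd =
      (ψ.squareLeft.iso.inv.app x.fst ≫ ψ.base.map x.iso.hom ≫
        ψ.squareRight.iso.hom.app x.snd) ≫ G.map (ψ.right.map b) := by
      rw [ha, hb]; exact hw
    have n1 : F.map (ψ.left.map a) ≫ ψ.squareLeft.iso.inv.app y.fst =
        ψ.squareLeft.iso.inv.app x.fst ≫ ψ.base.map (H.map a) :=
      ψ.squareLeft.iso.inv.naturality a
    have n2 : ψ.squareRight.iso.hom.app x.snd ≫ G.map (ψ.right.map b) =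
        ψ.base.map (I.map b) ≫ ψ.squareRight.iso.hom.app y.snd :=
      (ψ.squareRight.iso.hom.naturality b).symm
    have w : H.map a ≫ y.iso.hom = x.iso.hom ≫ I.map b := by
      apply ψ.base.map_injective
      rw [Functor.map_comp, Functor.map_comp]
      rw [← cancel_epi (ψ.squareLeft.iso.inv.app x.fst),
        ← cancel_mono (ψ.squareRight.iso.hom.app y.snd)]
      simp only [Category.assoc] at hw' ⊢
      rw [← reassoc_of% n1, hw', n2]
    refine ⟨⟨a, b, w⟩, ?_⟩
    apply CategoricalPullback.hom_ext
    · exact ha
    · exact hb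
  · constructor
    intro x y f g hfg
    apply CategoricalPullback.hom_ext
    · apply ψ.left.map_injective
      exact congrArg CategoricalPullback.Hom.fst hfg
    · apply ψ.right.map_injective
      exact congrArg CategoricalPullback.Hom.snd hfg

end Groth.Agent.S6421
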