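import Groth.Statements.S6423
import Mathlib

set_option autoImplicit false
open CategoryTheory CategoryTheory.Limits
universe v u
open CatLim

namespace Groth.Agent.S6423

section

variable {C : Type u} [Category.{v} C]

/-- joint equalizer of a finite list of parallel pairs out of `P` -/
theorem exists_joint_equalizer [HasEqualizers C] {P : C}
    (L : List (Σ X : C, (P ⟶ X) × (P ⟶ X))) :
    ∃ (E : C) (e : E ⟶ P), Mono e ∧ (∀ c ∈ L, e ≫ c.2.1 = e ≫ c.2.2) ∧
      ∀ (T : C) (t : T ⟶ P), (∀ c ∈ L, t ≫ c.2.1 = t ≫ c.2.2) → ∃ t' : T ⟶ E, t' ≫ e = t := by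
  induction L with
  | nil => exact ⟨P, 𝟙 P, inferInstance, by simp, fun T t _ => ⟨t, by simp⟩⟩
  | cons c L ih =>
    obtain ⟨E, e, hmono, heq, huniv⟩ := ih
    refine ⟨equalizer (e ≫ c.2.1) (e ≫ c.2.2), equalizer.ι _ _ ≫ e, mono_comp _ _, ?_, ?_⟩
    · intro d hd
      rcases List.mem_cons.1 hd with rfl | hd
      · rw [Category.assoc, Category.assoc]
        exact equalizer.condition _ _
      · rw [Category.assoc, Category.assoc, heq d hd]
    · intro T t ht
      obtain ⟨t', ht'⟩ := huniv T t (fun d hd => ht d (List.mem_cons_of_mem _ hd))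
      have h : t' ≫ (e ≫ c.2.1) = t' ≫ (e ≫ c.2.2) := by
        rw [← Category.assoc, ← Category.assoc, ht']
        exact ht c List.mem_cons_self
      exact ⟨equalizer.lift t' h, by rw [← Category.assoc, equalizer.lift_ι, ht']⟩

variable {J : Type} [SmallCategory J]

/-- a jointly monic family of maps to the `K j`, `j ∈ S`, through which every cone factors -/
def Good (K : J ⥤ C) (S : Finset J) : Prop :=
  ∃ (L : C) (ρ : ∀ j, j ∈ S → (L ⟶ K.obj j)),
    (∀ (T : C) (m m' : T ⟶ L), (∀ j hj, m ≫ ρ j hj = m' ≫ ρ j hj) → m = m') ∧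
    (∀ (τ : Cone K), ∃ m : τ.pt ⟶ L, ∀ j hj, m ≫ ρ j hj = τ.π.app j)

theorem good_singleton (K : J ⥤ C) (j0 : J) : Good K {j0} := by
  refine ⟨K.obj j0, fun j hj => eqToHom (by rw [Finset.mem_singleton.1 hj]), ?_, ?_⟩
  · intro T m m' h
    simpa using h j0 (Finset.mem_singleton_self j0)
  · intro τ
    refine ⟨τ.π.app j0, ?_⟩
    intro j hj
    obtain rfl := Finset.mem_singleton.1 hj
    simp

theorem good_insert_of_hom_to [HasPullbacks C] [DecidableEq J] (K : J ⥤ C) (S : Finset J)
    (hS : Good K S) {a b : J} (ha : a ∈ S) (hb : b ∉ S) (f : b ⟶ a) : Good K (insert b S) := by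
  obtain ⟨L, ρ, hmono, huniv⟩ := hS
  refine ⟨pullback (ρ a ha) (K.map f),
    fun j hj => if h : j = b then pullback.snd _ _ ≫ eqToHom (by rw [h])
      else pullback.fst _ _ ≫ ρ j ((Finset.mem_insert.1 hj).resolve_left h), ?_, ?_⟩
  · intro T m m' h
    apply pullback.hom_ext
    · apply hmono
      intro j hj
      have hjb : j ≠ b := fun e => hb (e ▸ hj)
      have := h j (Finset.mem_insert_of_mem hj)
      simpa [dif_neg hjb] using this
    · have := h b (Finset.mem_insert_self b S)
      simpa using this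
  · intro τ
    obtain ⟨m, hm⟩ := huniv τ
    refine ⟨pullback.lift m (τ.π.app b) (by rw [hm a ha]; exact (τ.w f).symm), ?_⟩
    intro j hj
    by_cases h : j = b
    · subst h
      simp only [dif_pos, eqToHom_refl, Category.comp_id]
      exact pullback.lift_snd _ _ _
    · simp only [dif_neg h]
      rw [← Category.assoc, pullback.lift_fst]
      exact hm j _

theorem good_insert_of_hom_from [DecidableEq J] (K : J ⥤ C) (S : Finset J)
    (hS : Good K S) {a b : J} (ha : a ∈ S) (hb : b ∉ S) (f : a ⟶ b) : Good K (insert b S) := by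
  obtain ⟨L, ρ, hmono, huniv⟩ := hS
  refine ⟨L,
    fun j hj => if h : j = b then ρ a ha ≫ K.map f ≫ eqToHom (by rw [h])
      else ρ j ((Finset.mem_insert.1 hj).resolve_left h), ?_, ?_⟩
  · intro T m m' h
    apply hmono
    intro j hj
    have hjb : j ≠ b := fun e => hb (e ▸ hj)
    have := h j (Finset.mem_insert_of_mem hj)
    simpa [dif_neg hjb] using this
  · intro τ
    obtain ⟨m, hm⟩ := huniv τ
    refine ⟨m, ?_⟩
    intro j hj
    by_cases h : j = b
    · subst h
      simp only [dif_pos, eqToHom_refl, Category.comp_id]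
      rw [← Category.assoc, hm a ha]
      exact τ.w f
    · simp [dif_neg h, hm]

theorem good_univ [HasPullbacks C] [Fintype J] [IsConnected J] (K : J ⥤ C) :
    Good K Finset.univ := by
  classical
  obtain ⟨j0⟩ := (inferInstance : Nonempty J)
  obtain ⟨S, hS, hmax⟩ := Finset.exists_max_image
    ((Finset.univ : Finset (Finset J)).filter (fun S => S.Nonempty ∧ Good K S)) Finset.card
    ⟨{j0}, Finset.mem_filter.2 ⟨Finset.mem_univ _, ⟨j0, Finset.mem_singleton_self j0⟩,
      good_singleton K j0⟩⟩
  obtain ⟨-, hSne, hSgood⟩ := Finset.mem_filter.1 hS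
  suffices hSu : S = Finset.univ by rw [← hSu]; exact hSgood
  by_contra hne
  -- there is an arrow between S and its complement
  have hadj : ∃ a b : J, a ∈ S ∧ b ∉ S ∧ (Nonempty (a ⟶ b) ∨ Nonempty (b ⟶ a)) := by
    by_contra hno
    have hpres : ∀ (j j' : J) (_ : j ⟶ j'), (j ∈ S) = (j' ∈ S) := by
      intro j j' f
      apply propext
      constructor
      · intro hj
        by_contra hj'
        exact hno ⟨j, j', hj, hj', Or.inl ⟨f⟩⟩
      · intro hj'
        by_contra hj
        exact hno ⟨j', j, hj', hj, Or.inr ⟨f⟩⟩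
    have hconst := constant_of_preserves_morphisms (fun j => (j ∈ S : Prop)) hpres
    obtain ⟨a0, ha0⟩ := hSne
    apply hne
    apply Finset.eq_univ_of_forall
    intro j
    have := hconst a0 j
    exact this.mp ha0
  obtain ⟨a, b, ha, hb, hab⟩ := hadj
  have hgood : Good K (insert b S) := by
    rcases hab with hf | hf
    · obtain ⟨f⟩ := hf
      exact good_insert_of_hom_from K S hSgood ha hb f
    · obtain ⟨f⟩ := hf
      exact good_insert_of_hom_to K S hSgood ha hb f
  have hle := hmax (insert b S) (Finset.mem_filter.2 ⟨Finset.mem_univ _,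
    Finset.insert_nonempty b S, hgood⟩)
  rw [Finset.card_insert_of_notMem hb] at hle
  omega

theorem hasLimit_of_good [HasEqualizers C] [FinCategory J] (K : J ⥤ C)
    (h : Good K Finset.univ) : HasLimit K := by
  classical
  obtain ⟨L, ρ, hmono, huniv⟩ := h
  let conds : List (Σ X : C, (L ⟶ X) × (L ⟶ X)) :=
    ((Finset.univ : Finset (Σ j : J, Σ j' : J, (j ⟶ j'))).toList).map
      (fun x => ⟨K.obj x.2.1, (ρ x.1 (Finset.mem_univ _) ≫ K.map x.2.2, ρ x.2.1 (Finset.mem_univ _))⟩)
  obtain ⟨E, e, he, heq, hEuniv⟩ := exists_joint_equalizer conds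
  have hcond : ∀ {j j' : J} (f : j ⟶ j'),
      e ≫ ρ j (Finset.mem_univ _) ≫ K.map f = e ≫ ρ j' (Finset.mem_univ _) := by
    intro j j' f
    exact heq ⟨K.obj j', (ρ j (Finset.mem_univ _) ≫ K.map f, ρ j' (Finset.mem_univ _))⟩
      (List.mem_map.2 ⟨⟨j, j', f⟩, Finset.mem_toList.2 (Finset.mem_univ _), rfl⟩)
  let c : Cone K :=
    { pt := E
      π :=
        { app := fun j => e ≫ ρ j (Finset.mem_univ _)
          naturality := by
            intro j j' f
            simp only [Functor.const_obj_obj, Functor.const_obj_map, Category.id_comp,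
              Category.assoc]
            exact (hcond f).symm } }
  have hlift : ∀ τ : Cone K, ∃ m' : τ.pt ⟶ E, ∀ j, m' ≫ e ≫ ρ j (Finset.mem_univ _) = τ.π.app j := by
    intro τ
    obtain ⟨m, hm⟩ := huniv τ
    have hmc : ∀ cd ∈ conds, m ≫ cd.2.1 = m ≫ cd.2.2 := by
      intro cd hcd
      obtain ⟨x, -, rfl⟩ := List.mem_map.1 hcd
      simp only
      rw [← Category.assoc, hm, hm]
      exact τ.w x.2.2
    obtain ⟨m', hm'⟩ := hEuniv τ.pt m hmc
    refine ⟨m', fun j => ?_⟩
    rw [← Category.assoc, hm', hm]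
  choose lift hliftspec using hlift
  refine ⟨⟨⟨c, ?_⟩⟩⟩
  exact
    { lift := fun τ => lift τ
      fac := fun τ j => hliftspec τ j
      uniq := by
        intro τ m hm
        rw [← cancel_mono e]
        apply hmono
        intro j _
        have h1 := hm j
        have h2 := hliftspec τ j
        simp only [Category.assoc]
        exact h1.trans h2.symm }

end

end Groth.Agent.S6423

namespace Groth.Agent.S6423

/-- (2) ⇒ (1): a category with equalizers and fibre products has all finite connected limits. -/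
theorem result {C : Type u} [Category.{v} C] [HasEqualizers C] [HasPullbacks C]
    (J : Type) [SmallCategory J] [FinCategory J] [IsConnected J] : HasLimitsOfShape J C := by
  exact ⟨fun K => hasLimit_of_good K (good_univ K)⟩

end Groth.Agent.S6423
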