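import Groth.Statements.S6425
import Mathlib.CategoryTheory.Limits.Types.Products
import Mathlib.CategoryTheory.Limits.Preserves.Shapes.BinaryProducts

set_option autoImplicit false
open CategoryTheory CategoryTheory.Limits
universe v
open CatLim

namespace Groth.Agent.S6425

/-- Over an index category in which any two objects map to a common object, the comparison map `colim (M
× N) → colim M × colim N` for diagrams of sets is surjective. -/
theorem result {I : Type v} [SmallCategory I]
    (hI : ∀ x y : I, ∃ (z : I) (_ : x ⟶ z) (_ : y ⟶ z), True) (M N : I ⥤ Type v) :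
    Function.Surjective (prodComparison (colim : (I ⥤ Type v) ⥤ Type v) M N) := by
  intro p
  -- the two components of `p`
  obtain ⟨i, m, hm⟩ := Types.jointly_surjective' (F := M)
    ((prod.fst : colim.obj M ⨯ colim.obj N ⟶ colim.obj M) p)
  obtain ⟨j, n, hn⟩ := Types.jointly_surjective' (F := N)
    ((prod.snd : colim.obj M ⨯ colim.obj N ⟶ colim.obj N) p)
  obtain ⟨z, a, b, -⟩ := hI i j
  -- evaluation at `z` preserves the product
  have hlim : IsLimit (BinaryFan.mk ((prod.fst : M ⨯ N ⟶ M).app z)
      ((prod.snd : M ⨯ N ⟶ N).app z)) :=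
    (isLimitMapConeBinaryFanEquiv ((evaluation I (Type v)).obj z) _ _).toFun
      (isLimitOfPreserves ((evaluation I (Type v)).obj z) (prodIsProd M N))
  let c : BinaryFan (M.obj z) (N.obj z) :=
    BinaryFan.mk (P := PUnit.{v + 1}) (↾fun _ => M.map a m) (↾fun _ => N.map b n)
  let q : (M ⨯ N).obj z := hlim.lift c PUnit.unit
  have hq1 : (prod.fst : M ⨯ N ⟶ M).app z q = M.map a m := by
    have h := hlim.fac c ⟨WalkingPair.left⟩
    have h' := congrArg (fun f => (ConcreteCategory.hom f) PUnit.unit) h
    exact h'
  have hq2 : (prod.snd : M ⨯ N ⟶ N).app z q = N.map b n := by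
    have h := hlim.fac c ⟨WalkingPair.right⟩
    have h' := congrArg (fun f => (ConcreteCategory.hom f) PUnit.unit) h
    exact h'
  have e1 : colimit.ι (M ⨯ N) z ≫ prodComparison colim M N ≫ prod.fst =
      (prod.fst : M ⨯ N ⟶ M).app z ≫ colimit.ι M z := by
    rw [prodComparison_fst]
    exact ι_colimMap _ _
  have e2 : colimit.ι (M ⨯ N) z ≫ prodComparison colim M N ≫ prod.snd =
      (prod.snd : M ⨯ N ⟶ N).app z ≫ colimit.ι N z := by
    rw [prodComparison_snd]
    exact ι_colimMap _ _
  have w1 : M.map a ≫ colimit.ι M z = colimit.ι M i := colimit.w M a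
  have w2 : N.map b ≫ colimit.ι N z = colimit.ι N j := colimit.w N b
  have f1 : (prod.fst : colim.obj M ⨯ colim.obj N ⟶ colim.obj M)
      (prodComparison colim M N (colimit.ι (M ⨯ N) z q)) =
      (prod.fst : colim.obj M ⨯ colim.obj N ⟶ colim.obj M) p := by
    have h1 := congrArg (fun f => (ConcreteCategory.hom f) q) e1
    have h2 := congrArg (fun f => (ConcreteCategory.hom f) m) w1
    refine h1.trans ?_
    refine Eq.trans ?_ (h2.trans hm)
    exact congrArg (fun t => (ConcreteCategory.hom (colimit.ι M z)) t) hq1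
  have f2 : (prod.snd : colim.obj M ⨯ colim.obj N ⟶ colim.obj N)
      (prodComparison colim M N (colimit.ι (M ⨯ N) z q)) =
      (prod.snd : colim.obj M ⨯ colim.obj N ⟶ colim.obj N) p := by
    have h1 := congrArg (fun f => (ConcreteCategory.hom f) q) e2
    have h2 := congrArg (fun f => (ConcreteCategory.hom f) n) w2
    refine h1.trans ?_
    refine Eq.trans ?_ (h2.trans hn)
    exact congrArg (fun t => (ConcreteCategory.hom (colimit.ι N z)) t) hq2
  refine ⟨colimit.ι (M ⨯ N) z q, ?_⟩
  apply (Types.binaryProductIso _ _).toEquiv.injective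
  have key1 : ∀ x : (colim.obj M ⨯ colim.obj N : Type v),
      ((Types.binaryProductIso (colim.obj M) (colim.obj N)).toEquiv x).1 =
        (prod.fst : colim.obj M ⨯ colim.obj N ⟶ colim.obj M) x := fun x =>
    congrArg (fun f => (ConcreteCategory.hom f) x)
      (Types.binaryProductIso_hom_comp_fst (colim.obj M) (colim.obj N))
  have key2 : ∀ x : (colim.obj M ⨯ colim.obj N : Type v),
      ((Types.binaryProductIso (colim.obj M) (colim.obj N)).toEquiv x).2 =
        (prod.snd : colim.obj M ⨯ colim.obj N ⟶ colim.obj N) x := fun x =>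
    congrArg (fun f => (ConcreteCategory.hom f) x)
      (Types.binaryProductIso_hom_comp_snd (colim.obj M) (colim.obj N))
  apply Prod.ext
  · rw [key1, key1]
    exact f1
  · rw [key2, key2]
    exact f2

end Groth.Agent.S6425
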