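import Groth.Statements.S6426
-- import your own Groth.Agent.* helpers here

set_option autoImplicit false
open CategoryTheory CategoryTheory.Limits
universe v
open CatLim

namespace Groth.Agent.S6426

/-- Over a nonempty index category in which any two objects map to a common object, the set-theoretic
colimit of a diagram of abelian groups surjects onto its colimit in abelian groups. (The published
statement does not require the index category to be nonempty; this row assumes it, because for the
empty index category the colimit of sets is empty while the colimit of abelian groups is the zero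
group.) -/
theorem result {I : Type v} [SmallCategory I] [Nonempty I]
    (hI : ∀ x y : I, ∃ (z : I) (_ : x ⟶ z) (_ : y ⟶ z), True) (M : I ⥤ AddCommGrpCat.{v}) :
    Function.Surjective (colimit.post M (forget AddCommGrpCat.{v})) := by
  -- the subgroup of elements coming from some `M.obj i`
  have hw : ∀ {i z : I} (f : i ⟶ z) (m : M.obj i),
      (colimit.ι M z) ((M.map f) m) = (colimit.ι M i) m := by
    intro i z f m
    have := colimit.w M f
    exact congr($this m)
  let H : AddSubgroup (colimit M : AddCommGrpCat.{v}) :=
    { carrier := {y | ∃ (i : I) (m : M.obj i), (colimit.ι M i) m = y}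
      zero_mem' := ⟨Classical.arbitrary I, 0, map_zero _⟩
      add_mem' := by
        rintro _ _ ⟨i, m, rfl⟩ ⟨j, m', rfl⟩
        obtain ⟨z, f, g, -⟩ := hI i j
        refine ⟨z, (M.map f) m + (M.map g) m', ?_⟩
        rw [map_add, hw, hw]
      neg_mem' := by
        rintro _ ⟨i, m, rfl⟩
        exact ⟨i, -m, map_neg _ _⟩ }
  have hH : ∀ x : (colimit M : AddCommGrpCat.{v}), x ∈ H := by
    let q : colimit M ⟶ AddCommGrpCat.of ((colimit M : AddCommGrpCat.{v}) ⧸ H) :=
      AddCommGrpCat.ofHom (QuotientAddGroup.mk' H)
    have hq : q = 0 := by
      apply colimit.hom_ext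
      intro i
      ext m
      have : (colimit.ι M i) m ∈ H := ⟨i, m, rfl⟩
      simpa [q] using (QuotientAddGroup.eq_zero_iff _).mpr this
    intro x
    have : q x = 0 := by rw [hq]; rfl
    exact (QuotientAddGroup.eq_zero_iff x).mp this
  intro x
  obtain ⟨i, m, hm⟩ := hH x
  refine ⟨colimit.ι (M ⋙ forget AddCommGrpCat.{v}) i m, ?_⟩
  have := colimit.ι_post M (forget AddCommGrpCat.{v}) i
  have h2 := congr($this m)
  rw [← hm]
  exact h2

end Groth.Agent.S6426
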