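import Groth.Statements.S6427
-- import your own Groth.Agent.* helpers here

set_option autoImplicit false
open CategoryTheory CategoryTheory.Limits
universe v
open CatLim

namespace Groth.Agent.S6427

theorem rel_of_eqvGen {I : Type v} [SmallCategory I]
    (hI : ∀ ⦃x y z : I⦄ (f : x ⟶ y) (g : x ⟶ z), ∃ (w : I) (f' : y ⟶ w) (g' : z ⟶ w), f ≫ f' = g ≫ g')
    (F : I ⥤ Type v) (p p' : Σ j, F.obj j)
    (h : Relation.EqvGen F.ColimitTypeRel p p') :
    ∃ (k : I) (f : p.1 ⟶ k) (g : p'.1 ⟶ k), F.map f p.2 = F.map g p'.2 := by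
  induction h with
  | rel a b hab =>
    obtain ⟨f, hf⟩ := hab
    exact ⟨b.1, f, 𝟙 _, by simp [hf]⟩
  | refl a => exact ⟨a.1, 𝟙 _, 𝟙 _, rfl⟩
  | symm a b _ ih =>
    obtain ⟨k, f, g, h⟩ := ih
    exact ⟨k, g, f, h.symm⟩
  | trans a b c _ _ ih1 ih2 =>
    obtain ⟨k, f, g, h1⟩ := ih1
    obtain ⟨k', g', h', h2⟩ := ih2
    obtain ⟨w, a', b', hw⟩ := hI g g'
    refine ⟨w, f ≫ a', h' ≫ b', ?_⟩
    rw [F.map_comp, F.map_comp, comp_apply, comp_apply, h1, ← h2, ← comp_apply, ← comp_apply,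
      ← F.map_comp, ← F.map_comp, hw]

/-- Over an index category in which every pair of morphisms with common source can be completed to a
commutative square, colimits of sets preserve injective morphisms of diagrams. -/
theorem result {I : Type v} [SmallCategory I]
    (hI : ∀ ⦃x y z : I⦄ (f : x ⟶ y) (g : x ⟶ z), ∃ (w : I) (f' : y ⟶ w) (g' : z ⟶ w), f ≫ f' = g ≫ g')
    {M N : I ⥤ Type v} (φ : M ⟶ N) (hφ : ∀ i, Function.Injective (φ.app i)) :
    Function.Injective (colimMap φ) := by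
  intro x y hxy
  obtain ⟨i, m, rfl⟩ := Types.jointly_surjective' x
  obtain ⟨j, m', rfl⟩ := Types.jointly_surjective' y
  have e1 : colimMap φ (colimit.ι M i m) = colimit.ι N i (φ.app i m) :=
    ConcreteCategory.congr_hom (ι_colimMap φ i) m
  have e2 : colimMap φ (colimit.ι M j m') = colimit.ι N j (φ.app j m') :=
    ConcreteCategory.congr_hom (ι_colimMap φ j) m'
  rw [e1, e2] at hxy
  obtain ⟨k, f, g, hfg⟩ := rel_of_eqvGen hI N ⟨i, φ.app i m⟩ ⟨j, φ.app j m'⟩
    (Types.colimit_eq hxy)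
  have n1 : N.map f (φ.app i m) = φ.app k (M.map f m) := (ConcreteCategory.congr_hom (φ.naturality f) m).symm
  have n2 : N.map g (φ.app j m') = φ.app k (M.map g m') := (ConcreteCategory.congr_hom (φ.naturality g) m').symm
  simp only at hfg
  rw [n1, n2] at hfg
  exact Types.colimit_sound' f g (hφ k hfg)

end Groth.Agent.S6427
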