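import Groth.Statements.S6428
import Mathlib

set_option autoImplicit false
open CategoryTheory CategoryTheory.Limits
universe v₁ u₁ v₂ u₂ v₃ u₃
open CatLim

namespace Groth.Agent.S6428

section aux

variable {I : Type u₁} [Category.{v₁} I] {I' : Type u₂} [Category.{v₂} I'] (F : I ⥤ I')

/-- The object of `StructuredArrow x' F` attached to an object of the fibre over `S` and an arrow
`x' ⟶ S`. -/
def sobj {x' S : I'} (a : F.Fiber S) (u : x' ⟶ S) : StructuredArrow x' F :=
  StructuredArrow.mk (Y := a.1) (u ≫ eqToHom a.2.symm)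

/-- Functoriality of `sobj` in the fibre. -/
def sfun {x' S : I'} (u : x' ⟶ S) : F.Fiber S ⥤ StructuredArrow x' F where
  obj a := sobj F a u
  map {a b} φ := StructuredArrow.homMk φ.1 (by
    haveI := φ.2
    have h := CategoryTheory.IsHomLift.fac' F (𝟙 S) φ.1
    simp only [sobj, StructuredArrow.mk_hom_eq_self, Category.assoc]
    rw [h]
    simp)
  map_id a := by
    apply StructuredArrow.hom_ext
    rfl
  map_comp φ ψ := by
    apply StructuredArrow.hom_ext
    rfl

lemma zigzag_sobj {x' S : I'} [IsConnected (F.Fiber S)] (a b : F.Fiber S) (u : x' ⟶ S) :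
    Zigzag (sobj F a u) (sobj F b u) :=
  zigzag_obj_of_zigzag (sfun F u) (isPreconnected_zigzag a b)

lemma final_of_fibers
    (h1 : ∀ x' : I', IsConnected (F.Fiber x'))
    (h2 : ∀ ⦃x' y' : I'⦄ (α' : x' ⟶ y'), ∃ (x y : I) (hx : F.obj x = x') (hy : F.obj y = y')
      (α : x ⟶ y), F.map α = eqToHom hx ≫ α' ≫ eqToHom hy.symm) : F.Final := by
  constructor
  intro x'
  haveI := h1 x'
  obtain ⟨a₀⟩ : Nonempty (F.Fiber x') := inferInstance
  have key : ∀ j : StructuredArrow x' F, Zigzag j (sobj F a₀ (𝟙 x')) := by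
    intro j
    haveI := h1 (F.obj j.right)
    obtain ⟨x, y, hx, hy, α, hα⟩ := h2 j.hom
    -- j = sobj ⟨j.right, rfl⟩ j.hom
    have e1 : j = sobj F (⟨j.right, rfl⟩ : F.Fiber (F.obj j.right)) j.hom := by
      simp only [sobj, eqToHom_refl, Category.comp_id]
      exact StructuredArrow.eq_mk j
    have z1 : Zigzag j (sobj F (⟨y, hy⟩ : F.Fiber (F.obj j.right)) j.hom) := by
      conv_lhs => rw [e1]
      exact zigzag_sobj F _ _ _
    have z2 : Zigzag (sobj F (⟨x, hx⟩ : F.Fiber x') (𝟙 x'))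
        (sobj F (⟨y, hy⟩ : F.Fiber (F.obj j.right)) j.hom) := by
      refine Zigzag.of_hom (StructuredArrow.homMk α ?_)
      simp only [sobj, StructuredArrow.mk_hom_eq_self, Category.id_comp]
      rw [hα]
      simp
    have z3 : Zigzag (sobj F (⟨x, hx⟩ : F.Fiber x') (𝟙 x')) (sobj F a₀ (𝟙 x')) :=
      zigzag_sobj F _ _ _
    exact z1.trans (z2.symm.trans z3)
  haveI : Nonempty (StructuredArrow x' F) := ⟨sobj F a₀ (𝟙 x')⟩
  exact zigzag_isConnected (fun j₁ j₂ => (key j₁).trans (key j₂).symm)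

end aux

/-- If `F : I ⥤ I'` has connected fibre categories and is surjective on morphisms, then for every
diagram `M : I' ⥤ C` the colimit of `F ⋙ M` exists if and only if that of `M` does, and the
canonical comparison between them is then an isomorphism. -/
theorem result {I : Type u₁} [Category.{v₁} I] {I' : Type u₂} [Category.{v₂} I'] {C : Type u₃} [Category.{v₃} C] (F : I ⥤ I')
    (h1 : ∀ x' : I', IsConnected (F.Fiber x'))
    (h2 : ∀ ⦃x' y' : I'⦄ (α' : x' ⟶ y'), ∃ (x y : I) (hx : F.obj x = x') (hy : F.obj y = y') (α : x ⟶ y), F.map α = eqToHom hx ≫ α' ≫ eqToHom hy.symm)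
    (M : I' ⥤ C) :
    (HasColimit (F ⋙ M) ↔ HasColimit M) ∧ ∀ [HasColimit (F ⋙ M)] [HasColimit M], IsIso (colimit.pre M F) := by
  haveI : F.Final := final_of_fibers F h1 h2
  refine ⟨⟨fun _ => Functor.Final.hasColimit_of_comp F, fun _ => inferInstance⟩, ?_⟩
  intro _ _
  infer_instance

end Groth.Agent.S6428
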