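import Groth.Statements.S6430
-- import your own Groth.Agent.* helpers here

set_option autoImplicit false
open CategoryTheory
universe v₂ u₂ v u
open FibCat

namespace Groth.Agent.S6430

/-- For a fibred category `p : 𝒮 ⥤ C`, the wide subcategory of `𝒮` on the strongly cartesian morphisms
is fibred in groupoids over `C`. -/
theorem result {C : Type u} [Category.{v} C] {𝒮 : Type u₂} [Category.{v₂} 𝒮] (p : 𝒮 ⥤ C) [p.IsFibered] :
    FibCat.IsFibGrpd (FibCat.cartSubProj p) := by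
  refine { exists_lift := ?_, isStronglyCartesian := ?_ }
  · intro x V f
    obtain ⟨a, φ, hφ⟩ := IsPreFibered.exists_isCartesian p (a := x.obj) rfl f
    have hsc : p.IsStronglyCartesian f φ :=
      @Functor.IsFibered.isStronglyCartesian_of_isCartesian _ _ _ _ p _ _ _ f _ _ φ hφ
    have hd : p.obj a = V := @IsHomLift.domain_eq _ _ _ _ p _ _ _ _ f φ hsc.toIsHomLift
    subst hd
    have he : f = p.map φ := @IsHomLift.eq_of_isHomLift _ _ _ _ p _ _ f φ hsc.toIsHomLift
    subst he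
    refine ⟨⟨a⟩, ⟨φ, hsc⟩, ?_⟩
    exact Functor.IsHomLift.map (p := FibCat.cartSubProj p) (a := ⟨a⟩) (b := x) ⟨φ, hsc⟩
  · intro y x φ
    have hφ : p.IsStronglyCartesian (p.map φ.1) φ.1 := φ.2
    refine { toIsHomLift := Functor.IsHomLift.map (p := FibCat.cartSubProj p) φ,
             universal_property' := ?_ }
    intro a' g φ' hφ'
    change p.obj a'.obj ⟶ p.obj y.obj at g
    have e1 : g ≫ p.map φ.1 = p.map φ'.1 :=
      @IsHomLift.eq_of_isHomLift _ _ _ _ (FibCat.cartSubProj p) _ _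
        (g ≫ (FibCat.cartSubProj p).map φ) φ' hφ'
    have h1 : p.IsHomLift (g ≫ p.map φ.1) φ'.1 := by
      rw [e1]; exact Functor.IsHomLift.map (p := p) φ'.1
    obtain ⟨χ, ⟨hχ1, hχ2⟩, hχu⟩ :=
      @Functor.IsStronglyCartesian.universal_property' _ _ _ _ p _ _ _ _ (p.map φ.1) φ.1 hφ
        a'.obj g φ'.1 h1
    have e2 : g = p.map χ := @IsHomLift.eq_of_isHomLift _ _ _ _ p _ _ g χ hχ1
    have hχsc : p.IsStronglyCartesian (p.map χ) χ := by
      have hφ'' : p.IsStronglyCartesian (p.map χ ≫ p.map φ.1) (χ ≫ φ.1) := by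
        rw [hχ2, ← e2, e1]; exact φ'.2
      exact @Functor.IsStronglyCartesian.of_comp _ _ _ _ p _ _ _ _ _ _ (p.map χ) (p.map φ.1)
        χ φ.1 hφ hφ'' (Functor.IsHomLift.map (p := p) χ)
    refine ⟨⟨χ, hχsc⟩, ⟨?_, ?_⟩, ?_⟩
    · rw [e2]
      exact Functor.IsHomLift.map (p := FibCat.cartSubProj p) (a := a') (b := y) ⟨χ, hχsc⟩
    · exact WideSubcategory.hom_ext _ hχ2
    · rintro χ' ⟨hχ'1, hχ'2⟩
      apply WideSubcategory.hom_ext
      apply hχu
      refine ⟨?_, ?_⟩
      · have e4 : g = p.map χ'.1 :=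
          @IsHomLift.eq_of_isHomLift _ _ _ _ (FibCat.cartSubProj p) _ _ g χ' hχ'1
        rw [e4]; exact Functor.IsHomLift.map (p := p) χ'.1
      · have := congrArg (fun t => t.1) hχ'2
        exact this

end Groth.Agent.S6430
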