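import Groth.Statements.S6433
import Mathlib
-- import your own Groth.Agent.* helpers here

set_option autoImplicit false
open CategoryTheory
universe v u v' u'
open CatLoc

namespace Groth.Agent.S6433

section helpers
theorem finset_case {C : Type u} [Category.{v} C] {D : Type u'} [Category.{v'} D] (W : MorphismProperty C) (L : C ⥤ D) [L.IsLocalization W] [W.HasLeftCalculusOfFractions]
    (Y : C) (S : Finset (Σ X : C, (L.obj X ⟶ L.obj Y))) :
    ∃ (Y' : C) (s : Y ⟶ Y') (_ : W s), ∀ p ∈ S, ∃ f : p.1 ⟶ Y', p.2 ≫ L.map s = L.map f := by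
  classical
  induction S using Finset.induction_on with
  | empty => exact ⟨Y, 𝟙 Y, W.id_mem Y, by simp⟩
  | insert p S _ ih =>
    obtain ⟨Y', t, ht, hf⟩ := ih
    obtain ⟨φ, hφ⟩ := Localization.exists_leftFraction L W p.2
    have hp : p.2 ≫ L.map φ.s = L.map φ.f := by
      rw [hφ]; exact φ.map_comp_map_s L (Localization.inverts L W)
    let ρ : W.RightFraction Y' φ.Y' := ⟨t, ht, φ.s⟩
    obtain ⟨ψ, hψ⟩ := ρ.exists_leftFraction
    have hψ' : φ.s ≫ ψ.s = t ≫ ψ.f := hψ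
    refine ⟨ψ.Y', t ≫ ψ.f, ?_, ?_⟩
    · rw [← hψ']; exact W.comp_mem _ _ φ.hs ψ.hs
    · intro q hq
      rcases Finset.mem_insert.1 hq with rfl | hq
      · refine ⟨φ.f ≫ ψ.s, ?_⟩
        rw [← hψ', L.map_comp, reassoc_of% hp, L.map_comp]
      · obtain ⟨f, hf⟩ := hf q hq
        exact ⟨f ≫ ψ.f, by rw [L.map_comp, reassoc_of% hf, L.map_comp]⟩

theorem main {C : Type u} [Category.{v} C] {D : Type u'} [Category.{v'} D] (W : MorphismProperty C) (L : C ⥤ D) [L.IsLocalization W] [W.HasLeftCalculusOfFractions]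
    {ι : Type} [Finite ι] (X : ι → C) (Y : C) (g : ∀ i, L.obj (X i) ⟶ L.obj Y) :
    ∃ (Y' : C) (s : Y ⟶ Y') (_ : W s) (f : ∀ i, X i ⟶ Y'), ∀ i, g i ≫ L.map s = L.map (f i) := by
  classical
  have := Fintype.ofFinite ι
  obtain ⟨Y', s, hs, h⟩ := finset_case W L Y
    (Finset.univ.image (fun i : ι => (⟨X i, g i⟩ : Σ X : C, (L.obj X ⟶ L.obj Y))))
  have h' : ∀ i, ∃ f : X i ⟶ Y', g i ≫ L.map s = L.map f := fun i =>
    h ⟨X i, g i⟩ (Finset.mem_image_of_mem _ (Finset.mem_univ i))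
  choose f hf using h'
  exact ⟨Y', s, hs, f, hf⟩
end helpers

/-- For a left multiplicative system `W` and a localization functor `L`, any finite family of morphisms
`L X_i ⟶ L Y` admits a common denominator: some `s : Y ⟶ Y'` in `W` and morphisms `f_i : X_i ⟶ Y'`
with `g_i = L(s)⁻¹ L(f_i)`. -/
theorem result {C : Type u} [Category.{v} C] {D : Type u'} [Category.{v'} D] (W : MorphismProperty C) (L : C ⥤ D) [L.IsLocalization W] [W.HasLeftCalculusOfFractions]
    {ι : Type} [Finite ι] (X : ι → C) (Y : C) (g : ∀ i, L.obj (X i) ⟶ L.obj Y) :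
    ∃ (Y' : C) (s : Y ⟶ Y') (_ : W s) (f : ∀ i, X i ⟶ Y'), ∀ i, g i ≫ L.map s = L.map (f i) := by
  exact main W L X Y g

end Groth.Agent.S6433
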