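import Groth.Statements.S6434
import Mathlib
import Groth.Agent.S6433
-- import your own Groth.Agent.* helpers here

set_option autoImplicit false
open CategoryTheory
universe v u v' u'
open CatLoc

namespace Groth.Agent.S6434

section helpers
section
variable {C : Type u} [Category.{v} C] {D : Type u'} [Category.{v'} D] (W : MorphismProperty C)
  (L : C ⥤ D) [L.IsLocalization W] [W.HasLeftCalculusOfFractions]

/-- common equalizing denominator for a finite set of parallel pairs -/
theorem lemmaE_finset (Y : C) (S : Finset (Σ A : C, (A ⟶ Y) × (A ⟶ Y)))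
    (h : ∀ p ∈ S, L.map p.2.1 = L.map p.2.2) :
    ∃ (Z : C) (u : Y ⟶ Z) (_ : W u), ∀ p ∈ S, p.2.1 ≫ u = p.2.2 ≫ u := by
  classical
  induction S using Finset.induction_on with
  | empty => exact ⟨Y, 𝟙 Y, W.id_mem Y, by simp⟩
  | insert p S _ ih =>
    obtain ⟨Z, u, hu, hS⟩ := ih (fun q hq => h q (Finset.mem_insert_of_mem hq))
    have hp : L.map (p.2.1 ≫ u) = L.map (p.2.2 ≫ u) := by
      rw [L.map_comp, L.map_comp, h p (Finset.mem_insert_self _ _)]
    obtain ⟨Z', u', hu', hpu⟩ := (MorphismProperty.map_eq_iff_postcomp L W _ _).1 hp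
    refine ⟨Z', u ≫ u', W.comp_mem _ _ hu hu', ?_⟩
    intro q hq
    rcases Finset.mem_insert.1 hq with rfl | hq
    · simpa only [Category.assoc] using hpu
    · rw [← Category.assoc, hS q hq, Category.assoc]

theorem lemmaE {ι : Type} [Finite ι] (Y : C) (A : ι → C) (p q : ∀ i, A i ⟶ Y)
    (h : ∀ i, L.map (p i) = L.map (q i)) :
    ∃ (Z : C) (u : Y ⟶ Z) (_ : W u), ∀ i, p i ≫ u = q i ≫ u := by
  classical
  have := Fintype.ofFinite ι
  obtain ⟨Z, u, hu, hS⟩ := lemmaE_finset W L Y
    (Finset.univ.image (fun i : ι => (⟨A i, (p i, q i)⟩ : Σ A : C, (A ⟶ Y) × (A ⟶ Y))))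
    (by
      intro x hx
      obtain ⟨i, _, rfl⟩ := Finset.mem_image.1 hx
      exact h i)
  exact ⟨Z, u, hu, fun i => hS ⟨A i, (p i, q i)⟩ (Finset.mem_image_of_mem _ (Finset.mem_univ i))⟩

include W in
theorem isColimit_mapCocone {J : Type} [SmallCategory J] [FinCategory J] (K : J ⥤ C)
    (c : Limits.Cocone K) (hc : Limits.IsColimit c) :
    Nonempty (Limits.IsColimit (L.mapCocone c)) := by
  classical
  refine ⟨Limits.IsColimit.ofExistsUnique fun s => ?_⟩
  have := Localization.essSurj L W
  obtain ⟨Y, ⟨e⟩⟩ : ∃ Y : C, Nonempty (L.obj Y ≅ s.pt) := ⟨_, ⟨L.objObjPreimageIso s.pt⟩⟩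
  -- uniqueness first, as a general fact
  have huniq : ∀ m m' : L.obj c.pt ⟶ s.pt,
      (∀ j, L.map (c.ι.app j) ≫ m = L.map (c.ι.app j) ≫ m') → m = m' := by
    intro m m' hmm
    obtain ⟨Y', t, ht, f, hf⟩ := Groth.Agent.S6433.result W L (ι := Bool)
      (fun _ => c.pt) Y (fun b => if b then m ≫ e.inv else m' ≫ e.inv)
    have h1 : (m ≫ e.inv) ≫ L.map t = L.map (f true) := by simpa using hf true
    have h2 : (m' ≫ e.inv) ≫ L.map t = L.map (f false) := by simpa using hf false
    have hj : ∀ j, L.map (c.ι.app j ≫ f true) = L.map (c.ι.app j ≫ f false) := by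
      intro j
      rw [L.map_comp, L.map_comp, ← h1, ← h2]
      simp only [← Category.assoc]
      rw [hmm j]
    obtain ⟨Z, u, hu, hpu⟩ := lemmaE W L Y' (fun j => K.obj j) _ _ hj
    have hpp : f true ≫ u = f false ≫ u := by
      apply hc.hom_ext
      intro j
      simpa only [Category.assoc] using hpu j
    have hiu : IsIso (L.map u) := Localization.inverts L W u hu
    have hit : IsIso (L.map t) := Localization.inverts L W t ht
    have hLp : L.map (f true) = L.map (f false) := by
      rw [← cancel_mono (L.map u), ← L.map_comp, ← L.map_comp, hpp]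
    rw [← h1, ← h2, cancel_mono, cancel_mono] at hLp
    exact hLp
  -- existence
  obtain ⟨Y', t, ht, f, hf⟩ := Groth.Agent.S6433.result W L (ι := J)
    (fun j => K.obj j) Y (fun j => s.ι.app j ≫ e.inv)
  have harr : ∀ a : (Σ j j' : J, (j ⟶ j')),
      L.map (K.map a.2.2 ≫ f a.2.1) = L.map (f a.1) := by
    rintro ⟨j, j', α⟩
    dsimp only
    rw [L.map_comp, ← hf j', ← hf j]
    have := s.ι.naturality α
    simp only [Functor.comp_map, Functor.const_obj_obj, Functor.const_obj_map, Category.comp_id]
      at this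
    rw [← this]
    simp only [Category.assoc]
  have : Finite (Σ j j' : J, (j ⟶ j')) := by
    have : ∀ j j' : J, Finite (j ⟶ j') := fun j j' => Finite.of_fintype _
    infer_instance
  obtain ⟨Z, u, hu, hpu⟩ := lemmaE W L Y' (fun a : (Σ j j' : J, (j ⟶ j')) => K.obj a.1) _ _ harr
  let c' : Limits.Cocone K :=
    { pt := Z
      ι := { app := fun j => f j ≫ u
             naturality := by
               intro j j' α
               have := hpu ⟨j, j', α⟩
               dsimp only at this
               simp only [Functor.const_obj_obj, Functor.const_obj_map, Category.comp_id]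
               simpa only [Category.assoc] using this } }
  have hitu : IsIso (L.map (t ≫ u)) := Localization.inverts L W _ (W.comp_mem _ _ ht hu)
  refine ⟨L.map (hc.desc c') ≫ inv (L.map (t ≫ u)) ≫ e.hom, ?_, ?_⟩
  · intro j
    change L.map (c.ι.app j) ≫ _ = _
    rw [← Category.assoc, ← L.map_comp, hc.fac]
    change L.map (f j ≫ u) ≫ _ = _
    rw [L.map_comp, ← hf j]
    simp only [Category.assoc]
    rw [← L.map_comp_assoc t u, IsIso.hom_inv_id_assoc, e.inv_hom_id]
    exact Category.comp_id _
  · intro m' hm'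
    apply huniq
    intro j
    have := hm' j
    change L.map (c.ι.app j) ≫ _ = _ at this
    rw [this]
    rw [← Category.assoc, ← L.map_comp, hc.fac]
    change _ = L.map (f j ≫ u) ≫ _
    rw [L.map_comp, ← hf j]
    simp only [Category.assoc]
    rw [← L.map_comp_assoc t u, IsIso.hom_inv_id_assoc, e.inv_hom_id]
    exact (Category.comp_id _).symm

include W in
theorem main : Limits.PreservesFiniteColimits L :=
  ⟨fun _ _ _ => ⟨fun {K} => ⟨fun {c} hc => isColimit_mapCocone W L K c hc⟩⟩⟩

end
end helpers

/-- The localization functor at a left multiplicative system commutes with finite colimits. -/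
theorem result {C : Type u} [Category.{v} C] {D : Type u'} [Category.{v'} D] (W : MorphismProperty C) (L : C ⥤ D) [L.IsLocalization W] [W.HasLeftCalculusOfFractions] :
    Limits.PreservesFiniteColimits L := by
  exact main W L

end Groth.Agent.S6434
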