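import Groth.Statements.S6448
import Mathlib

set_option autoImplicit false
open CategoryTheory
universe v u
open CatLim

namespace Groth.Agent.S6448

/-- Under the span condition, two objects joined by a zigzag have a common target. -/
lemma exists_cospan_of_zigzag {I : Type u} [Category.{v} I]
    (h1 : ∀ ⦃w x y : I⦄ (a : w ⟶ x) (b : w ⟶ y), ∃ (z : I) (c : x ⟶ z) (d : y ⟶ z), a ≫ c = b ≫ d)
    {x y : I} (h : Zigzag x y) : ∃ z : I, Nonempty (x ⟶ z) ∧ Nonempty (y ⟶ z) := by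
  induction h with
  | refl => exact ⟨x, ⟨𝟙 x⟩, ⟨𝟙 x⟩⟩
  | tail _ hzag ih =>
    rename_i y w
    obtain ⟨z, ⟨a⟩, ⟨b⟩⟩ := ih
    rcases hzag with ⟨⟨f⟩⟩ | ⟨⟨f⟩⟩
    · -- f : y ⟶ w
      obtain ⟨z', c, d, _⟩ := h1 b f
      exact ⟨z', ⟨a ≫ c⟩, ⟨d⟩⟩
    · -- f : w ⟶ y
      exact ⟨z, ⟨a⟩, ⟨f ≫ b⟩⟩

/-- In a category where spans complete to commutative squares and parallel pairs are coequalized by a
later arrow, every connected component is filtered (so the category is a disjoint union of filtered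
categories). -/
theorem result {I : Type u} [Category.{v} I]
    (h1 : ∀ ⦃w x y : I⦄ (a : w ⟶ x) (b : w ⟶ y), ∃ (z : I) (c : x ⟶ z) (d : y ⟶ z), a ≫ c = b ≫ d)
    (h2 : ∀ ⦃x y : I⦄ (a b : x ⟶ y), ∃ (z : I) (c : y ⟶ z), a ≫ c = b ≫ c)
    (j : ConnectedComponents I) : IsFiltered j.Component := by
  have : IsFilteredOrEmpty j.Component := by
    refine ⟨?_, ?_⟩
    · rintro ⟨x, hx⟩ ⟨y, hy⟩
      have hzz : Zigzag x y := Quotient.exact' (hx.trans hy.symm)
      obtain ⟨z, ⟨a⟩, ⟨b⟩⟩ := exists_cospan_of_zigzag h1 hzz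
      have hz : j.objectProperty z := by
        have : Zigzag z x := Zigzag.symm (Zigzag.of_hom a)
        exact (Quotient.sound' this).trans hx
      exact ⟨⟨z, hz⟩, ObjectProperty.homMk a, ObjectProperty.homMk b, trivial⟩
    · rintro ⟨x, hx⟩ ⟨y, hy⟩ f g
      obtain ⟨z, c, hc⟩ := h2 f.hom g.hom
      have hz : j.objectProperty z := by
        have : Zigzag z y := Zigzag.symm (Zigzag.of_hom c)
        exact (Quotient.sound' this).trans hy
      refine ⟨⟨z, hz⟩, ObjectProperty.homMk c, ?_⟩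
      ext
      exact hc
  exact { }

end Groth.Agent.S6448
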