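import Groth.Statements.S6437
import Mathlib
import Groth.Agent.S6427
import Groth.Agent.S6448

set_option autoImplicit false
open CategoryTheory CategoryTheory.Limits
universe v
open CatLim

namespace Groth.Agent.S6437

open CategoryTheory.Category CategoryTheory.Limits.Types CategoryTheory.Functor CategoryTheory.Prod

section

variable {I : Type v} [SmallCategory I]

theorem colimit_eq_iff'
    (h1 : ∀ ⦃w x y : I⦄ (a : w ⟶ x) (b : w ⟶ y), ∃ (z : I) (c : x ⟶ z) (d : y ⟶ z), a ≫ c = b ≫ d)
    (F : I ⥤ Type v) {i j : I} {xi : F.obj i} {xj : F.obj j} :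
    colimit.ι F i xi = colimit.ι F j xj ↔
      ∃ (k : I) (f : i ⟶ k) (g : j ⟶ k), F.map f xi = F.map g xj := by
  constructor
  · intro h
    exact Groth.Agent.S6427.rel_of_eqvGen h1 F ⟨i, xi⟩ ⟨j, xj⟩ (Types.colimit_eq h)
  · rintro ⟨k, f, g, h⟩
    exact Types.colimit_sound' f g h

theorem sup_exists_of_component (c : ConnectedComponents I)
    [IsFiltered c.Component] (O : Finset I)
    (hO : ∀ X ∈ O, (Quotient.mk'' X : ConnectedComponents I) = c)
    (H : Finset (Σ' (X Y : I) (_ : X ∈ O) (_ : Y ∈ O), X ⟶ Y)) :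
    ∃ (S : I) (T : ∀ {X : I}, X ∈ O → (X ⟶ S)),
      ∀ {X Y : I} (mX : X ∈ O) (mY : Y ∈ O) {f : X ⟶ Y},
        (⟨X, Y, mX, mY, f⟩ : Σ' (X Y : I) (_ : X ∈ O) (_ : Y ∈ O), X ⟶ Y) ∈ H →
          f ≫ T mY = T mX := by
  classical
  let lift : ∀ X, X ∈ O → c.Component := fun X hX => ⟨X, hO X hX⟩
  let O' : Finset c.Component := O.attach.image (fun x => lift x.1 x.2)
  have memO' : ∀ X (hX : X ∈ O), lift X hX ∈ O' := fun X hX =>
    Finset.mem_image.2 ⟨⟨X, hX⟩, Finset.mem_attach _ _, rfl⟩
  let H' : Finset (Σ' (X Y : c.Component) (_ : X ∈ O') (_ : Y ∈ O'), X ⟶ Y) :=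
    H.image (fun h => ⟨lift h.1 h.2.2.1, lift h.2.1 h.2.2.2.1, memO' h.1 h.2.2.1,
      memO' h.2.1 h.2.2.2.1, ObjectProperty.homMk h.2.2.2.2⟩)
  obtain ⟨S', T', W'⟩ := IsFiltered.sup_exists O' H'
  refine ⟨S'.obj, fun {X} hX => (T' (memO' X hX)).hom, ?_⟩
  intro X Y mX mY f hf
  have := W' (memO' X mX) (memO' Y mY) (f := ObjectProperty.homMk f)
    (Finset.mem_image.2 ⟨⟨X, Y, mX, mY, f⟩, hf, rfl⟩)
  exact congrArg (fun g => g.hom) this

end

theorem mk_eq_of_hom {I : Type v} [SmallCategory I] {X Y : I} (f : X ⟶ Y) :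
    (Quotient.mk'' X : ConnectedComponents I) = Quotient.mk'' Y :=
  Quotient.sound' (Zigzag.of_hom f)

section

variable {J : Type} [SmallCategory J] [FinCategory J] {I : Type v} [SmallCategory I]
variable (h1 : ∀ ⦃w x y : I⦄ (a : w ⟶ x) (b : w ⟶ y), ∃ (z : I) (c : x ⟶ z) (d : y ⟶ z), a ≫ c = b ≫ d)
variable (h2 : ∀ ⦃x y : I⦄ (a b : x ⟶ y), ∃ (z : I) (c : y ⟶ z), a ≫ c = b ≫ c)
variable (F : J × I ⥤ Type v)

include h1 h2 in
set_option backward.isDefEq.respectTransparency.types false in
theorem inj [Nonempty J] : Function.Injective (colimitLimitToLimitColimit F) := by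
  classical
    intro x y h
    obtain ⟨kx, x, rfl⟩ := jointly_surjective' x
    obtain ⟨ky, y, rfl⟩ := jointly_surjective' y
    dsimp at x y
    have h (j : J) :
        (colimit.ι ((curry.obj F).obj j) kx)
          ((limit.π ((curry.obj (swap I J ⋙ F)).obj kx) j) x) =
        (colimit.ι ((curry.obj F).obj j) ky)
          ((limit.π ((curry.obj (swap I J ⋙ F)).obj ky) j) y) := by
      simpa using! ConcreteCategory.congr_arg (limit.π (curry.obj F ⋙ colim) j) h
    simp only [colimit_eq_iff' h1] at h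
    let k j := (h j).choose
    let f : ∀ j, kx ⟶ k j := fun j => (h j).choose_spec.choose
    let g : ∀ j, ky ⟶ k j := fun j => (h j).choose_spec.choose_spec.choose
    have w :
      ∀ j, F.map (𝟙 j ×ₘ f j) (limit.π ((curry.obj (swap I J ⋙ F)).obj kx) j x) =
          F.map (𝟙 j ×ₘ g j) (limit.π ((curry.obj (swap I J ⋙ F)).obj ky) j y) :=
      fun j => (h j).choose_spec.choose_spec.choose_spec
    let O : Finset I := Finset.univ.image k ∪ {kx, ky}
    have kxO : kx ∈ O := Finset.mem_union.mpr (Or.inr (by simp))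
    have kyO : ky ∈ O := Finset.mem_union.mpr (Or.inr (by simp))
    have kjO : ∀ j, k j ∈ O := fun j => Finset.mem_union.mpr (Or.inl (by simp))
    let H : Finset (Σ' (X Y : I) (_ : X ∈ O) (_ : Y ∈ O), X ⟶ Y) :=
      (Finset.univ.image fun j : J =>
          ⟨kx, k j, kxO, Finset.mem_union.mpr (Or.inl (by simp)), f j⟩) ∪
        Finset.univ.image fun j : J => ⟨ky, k j, kyO, Finset.mem_union.mpr (Or.inl (by simp)), g j⟩
    let c : ConnectedComponents I := Quotient.mk'' kx
    haveI : IsFiltered c.Component := Groth.Agent.S6448.result h1 h2 c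
    have hO : ∀ X ∈ O, (Quotient.mk'' X : ConnectedComponents I) = c := by
      intro X hX
      rcases Finset.mem_union.1 hX with hX | hX
      · obtain ⟨j, -, rfl⟩ := Finset.mem_image.1 hX
        exact (mk_eq_of_hom (f j)).symm
      · rcases Finset.mem_insert.1 hX with rfl | hX
        · rfl
        · obtain rfl := Finset.mem_singleton.1 hX
          obtain ⟨j⟩ := (inferInstance : Nonempty J)
          exact (mk_eq_of_hom (g j)).trans (mk_eq_of_hom (f j)).symm
    obtain ⟨S, T, W⟩ := sup_exists_of_component c O hO H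
    have fH : ∀ j, (⟨kx, k j, kxO, kjO j, f j⟩ : Σ' (X Y : I) (_ : X ∈ O) (_ : Y ∈ O), X ⟶ Y) ∈ H :=
      fun j =>
      Finset.mem_union.mpr
        (Or.inl
          (by
            simp only [true_and, Finset.mem_univ,
              Finset.mem_image]
            refine ⟨j, ?_⟩
            simp only))
    have gH :
      ∀ j, (⟨ky, k j, kyO, kjO j, g j⟩ : Σ' (X Y : I) (_ : X ∈ O) (_ : Y ∈ O), X ⟶ Y) ∈ H :=
      fun j =>
      Finset.mem_union.mpr
        (Or.inr
          (by
            simp only [true_and, Finset.mem_univ,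
              Finset.mem_image]
            refine ⟨j, ?_⟩
            simp only))
    apply colimit_sound' (T kxO) (T kyO)
    ext j
    simp only [Functor.comp_map]
    rw [← W _ _ (fH j), ← W _ _ (gH j)]
    simpa [-curry_obj_obj_obj] using! congrArg _ (w j)

include h1 h2 in
set_option backward.isDefEq.respectTransparency false in
theorem surj [IsConnected J] : Function.Surjective (colimitLimitToLimitColimit F) := by
  classical
    intro x
    have z := fun j => jointly_surjective' (limit.π (curry.obj F ⋙ Limits.colim) j x)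
    let k : J → I := fun j => (z j).choose
    let y : ∀ j, F.obj (j, k j) := fun j => (z j).choose_spec.choose
    have e : ∀ j,
        colimit.ι ((curry.obj F).obj j) (k j) (y j) = limit.π (curry.obj F ⋙ Limits.colim) j x :=
      fun j => (z j).choose_spec.choose_spec
    clear_value k y
    clear z
    -- all the `k j` lie in the same connected component
    have hkk : ∀ {j j' : J} (f : j ⟶ j'),
        (Quotient.mk'' (k j) : ConnectedComponents I) = Quotient.mk'' (k j') := by
      intro j j' f
      have hw : colimit.ι ((curry.obj F).obj j') (k j') (y j') =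
          colimit.ι ((curry.obj F).obj j') (k j) (F.map (f ×ₘ 𝟙 (k j)) (y j)) := by
        rw [e, ← limit.w_apply _ f, ← e]
        simp [← comp_apply, -types_comp_apply]
      rw [colimit_eq_iff' h1] at hw
      obtain ⟨m, a, b, -⟩ := hw
      exact (mk_eq_of_hom b).trans (mk_eq_of_hom a).symm
    obtain ⟨j₀⟩ := (inferInstance : Nonempty J)
    let c : ConnectedComponents I := Quotient.mk'' (k j₀)
    have hkc : ∀ j, (Quotient.mk'' (k j) : ConnectedComponents I) = c := fun j =>
      constant_of_preserves_morphisms (fun j => (Quotient.mk'' (k j) : ConnectedComponents I))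
        (fun _ _ f => hkk f) j j₀
    have : IsFiltered c.Component := Groth.Agent.S6448.result h1 h2 c
    obtain ⟨k', g₀, -⟩ := sup_exists_of_component c (Finset.univ.image k)
      (fun X hX => by obtain ⟨j, -, rfl⟩ := Finset.mem_image.1 hX; exact hkc j) ∅
    have g : ∀ j, k j ⟶ k' := fun j => g₀ (by simp)
    have hk'c : (Quotient.mk'' k' : ConnectedComponents I) = c :=
      (mk_eq_of_hom (g j₀)).symm
    clear g₀
    have w :
      ∀ {j j' : J} (f : j ⟶ j'),
        colimit.ι ((curry.obj F).obj j') k' (F.map (𝟙 j' ×ₘ g j') (y j')) =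
          colimit.ι ((curry.obj F).obj j') k' (F.map (f ×ₘ g j) (y j)) := by
      intro j j' f
      nth_rw 2 [← Bifunctor.diagonal']
      simp only [← curry_obj_obj_map, ← curry_obj_obj_obj, comp_apply, colimit.w_apply]
      rw [e, ← limit.w_apply _ f, ← e]
      simp [← comp_apply, -types_comp_apply]
    simp_rw [colimit_eq_iff' h1] at w
    let kf : ∀ {j j'} (_ : j ⟶ j'), I := fun f => (w f).choose
    let gf : ∀ {j j'} (f : j ⟶ j'), k' ⟶ kf f := fun f => (w f).choose_spec.choose
    let hf : ∀ {j j'} (f : j ⟶ j'), k' ⟶ kf f := fun f =>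
      (w f).choose_spec.choose_spec.choose
    have wf :
      ∀ {j j'} (f : j ⟶ j'),
        F.map (𝟙 j' ×ₘ (g j' ≫ gf f)) (y j') = F.map (f ×ₘ (g j ≫ hf f)) (y j) :=
      fun {j j'} f => by
      have q :
        ((curry.obj F).obj j').map (gf f) (F.map (𝟙 j' ×ₘ g j') (y j')) =
          ((curry.obj F).obj j').map (hf f) (F.map (f ×ₘ g j) (y j)) :=
        (w f).choose_spec.choose_spec.choose_spec
      convert! q using 1
      · simp [← comp_apply, -types_comp_apply]
      · simp [← comp_apply, -types_comp_apply, ← F.map_comp]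
    clear_value kf gf hf
    clear w
    let O :=
      (Finset.univ.biUnion fun j => Finset.univ.biUnion fun j' => Finset.univ.image
        (@kf j j')) ∪ {k'}
    have kfO : ∀ {j j'} (f : j ⟶ j'), kf f ∈ O := fun {j} {j'} f =>
      Finset.mem_union.mpr
        (Or.inl
          (Finset.mem_biUnion.mpr ⟨j, Finset.mem_univ j,
            Finset.mem_biUnion.mpr ⟨j', Finset.mem_univ j',
              Finset.mem_image.mpr ⟨f, Finset.mem_univ _, rfl⟩⟩⟩))
    have k'O : k' ∈ O := Finset.mem_union.mpr (Or.inr (Finset.mem_singleton.mpr rfl))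
    let H : Finset (Σ' (X Y : I) (_ : X ∈ O) (_ : Y ∈ O), X ⟶ Y) :=
      Finset.univ.biUnion fun j : J =>
        Finset.univ.biUnion fun j' : J =>
          Finset.univ.biUnion fun f : j ⟶ j' =>
            {⟨k', kf f, k'O, kfO f, gf f⟩, ⟨k', kf f, k'O, kfO f, hf f⟩}
    have hO : ∀ X ∈ O, (Quotient.mk'' X : ConnectedComponents I) = c := by
      intro X hX
      rcases Finset.mem_union.1 hX with hX | hX
      · obtain ⟨j, -, hX⟩ := Finset.mem_biUnion.1 hX
        obtain ⟨j', -, hX⟩ := Finset.mem_biUnion.1 hX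
        obtain ⟨f, -, rfl⟩ := Finset.mem_image.1 hX
        exact (mk_eq_of_hom (gf f)).symm.trans hk'c
      · obtain rfl := Finset.mem_singleton.1 hX
        exact hk'c
    obtain ⟨k'', i', s'⟩ := sup_exists_of_component c O hO H
    let i : ∀ {j j'} (f : j ⟶ j'), kf f ⟶ k'' := fun {j} {j'} f => i' (kfO f)
    have s : ∀ {j₁ j₂ j₃ j₄} (f : j₁ ⟶ j₂) (f' : j₃ ⟶ j₄), gf f ≫ i f = hf f' ≫ i f' := by
      intro j₁ j₂ j₃ j₄ f f'
      rw [s', s']
      · exact k'O
      · exact Finset.mem_biUnion.mpr ⟨j₃, Finset.mem_univ _,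
          Finset.mem_biUnion.mpr ⟨j₄, Finset.mem_univ _,
            Finset.mem_biUnion.mpr ⟨f', Finset.mem_univ _, by
              rw [Finset.mem_insert, PSigma.mk.injEq, heq_eq_eq, PSigma.mk.injEq, heq_eq_eq,
                PSigma.mk.injEq, heq_eq_eq, PSigma.mk.injEq, heq_eq_eq, eq_self, true_and, eq_self,
                true_and, eq_self, true_and, eq_self, true_and, Finset.mem_singleton, eq_self,
                or_true]
              trivial⟩⟩⟩
      · exact Finset.mem_biUnion.mpr ⟨j₁, Finset.mem_univ _,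
          Finset.mem_biUnion.mpr ⟨j₂, Finset.mem_univ _,
            Finset.mem_biUnion.mpr ⟨f, Finset.mem_univ _, by
              rw [Finset.mem_insert, PSigma.mk.injEq, heq_eq_eq, PSigma.mk.injEq, heq_eq_eq,
                PSigma.mk.injEq, heq_eq_eq, PSigma.mk.injEq, heq_eq_eq, eq_self, true_and, eq_self,
                true_and, eq_self, true_and, eq_self, true_and, Finset.mem_singleton, eq_self,
                true_or]
              trivial⟩⟩⟩
    clear_value i
    clear s' i' H kfO k'O hO O
    fconstructor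
    · apply colimit.ι (curry.obj (swap I J ⋙ F) ⋙ Limits.lim) k'' _
      dsimp
      apply Limit.mk
      swap
      · exact fun j => F.map (𝟙 j ×ₘ (g j ≫ gf (𝟙 j) ≫ i (𝟙 j))) (y j)
      · dsimp
        intro j j' f
        simp only [← comp_apply, ← Functor.map_comp, prod_comp, id_comp, comp_id]
        calc
          F.map (f ×ₘ (g j ≫ gf (𝟙 j) ≫ i (𝟙 j))) (y j) =
              F.map (f ×ₘ (g j ≫ hf f ≫ i f)) (y j) := by
            rw [s (𝟙 j) f]
          _ =
              F.map (𝟙 j' ×ₘ i f) (F.map (f ×ₘ (g j ≫ hf f)) (y j)) := by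
            rw [← comp_apply, ← Functor.map_comp, prod_comp, comp_id, assoc]
          _ =
              F.map (𝟙 j' ×ₘ i f) (F.map (𝟙 j' ×ₘ (g j' ≫ gf f)) (y j')) := by
            rw [← wf f]
          _ = F.map (𝟙 j' ×ₘ (g j' ≫ gf f ≫ i f)) (y j') := by
            rw [← comp_apply, ← Functor.map_comp, prod_comp, id_comp, assoc]
          _ = F.map (𝟙 j' ×ₘ (g j' ≫ gf (𝟙 j') ≫ i (𝟙 j'))) (y j') := by
            rw [s f (𝟙 j'), ← s (𝟙 j') (𝟙 j')]
    · apply limit_ext
      intro j
      simp only [comp_obj, colim_obj, lim_obj, Bifunctor.map_id_comp, id_eq, ← comp_apply, assoc,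
        ι_colimitLimitToLimitColimit_π, curry_obj_obj_obj, swap_obj]
      generalize_proofs _ _ h
      dsimp
      rw [← dsimp% e j, dsimp% Limit.π_mk _ _ h]
      dsimp only [comp_obj, colim_obj, ← curry_obj_obj_obj]
      rw [colimit_eq_iff' h1]
      refine ⟨k'', 𝟙 k'', g j ≫ gf (𝟙 j) ≫ i (𝟙 j), ?_⟩
      simp

end

end Groth.Agent.S6437

namespace Groth.Agent.S6437

/-- Over an index category in which spans can be completed to commutative squares and parallel pairs can
be coequalized (a disjoint union of filtered categories), colimits of sets commute with finite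
connected limits. -/
theorem result {I : Type v} [SmallCategory I]
    (h1 : ∀ ⦃w x y : I⦄ (a : w ⟶ x) (b : w ⟶ y), ∃ (z : I) (c : x ⟶ z) (d : y ⟶ z), a ≫ c = b ≫ d)
    (h2 : ∀ ⦃x y : I⦄ (a b : x ⟶ y), ∃ (z : I) (c : y ⟶ z), a ≫ c = b ≫ c)
    (J : Type) [SmallCategory J] [FinCategory J] [IsConnected J] :
    PreservesLimitsOfShape J (colim : (I ⥤ Type v) ⥤ Type v) := by
  have hiso : ∀ (G : J ⥤ I ⥤ Type v), IsIso (colimitLimitToLimitColimitCone G) := by
    intro G
    have hb : IsIso (colimitLimitToLimitColimit (Functor.uncurry.obj G)) :=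
      (isIso_iff_bijective _).mpr ⟨inj h1 h2 _, surj h1 h2 _⟩
    have : IsIso (colimitLimitToLimitColimitCone G).hom := by
      suffices IsIso (colimitLimitToLimitColimit (Functor.uncurry.obj G) ≫
          lim.map (Functor.whiskerRight (Functor.currying.unitIso.app G).inv colim)) by
        apply IsIso.comp_isIso
      infer_instance
    apply Cone.cone_iso_of_hom_iso
  refine ⟨fun {G} => ⟨fun {c} hc => ⟨IsLimit.ofIsoLimit (limit.isLimit _) ?_⟩⟩⟩
  symm
  trans colim.mapCone (limit.cone G)
  · exact Functor.mapIso _ (hc.uniqueUpToIso (limit.isLimit G))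
  · haveI := hiso G
    exact asIso (colimitLimitToLimitColimitCone G)

end Groth.Agent.S6437
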