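import Groth.Statements.S6438
import Mathlib

set_option autoImplicit false
open CategoryTheory
universe v u
open CatLim

namespace Groth.Agent.S6438

section Quiv

variable {V E : Type} (s t : E → V)

/-- The vertices and edges. -/
def QObj (_s _t : E → V) : Type := V ⊕ E

/-- Arrows: only from an edge to its source (`false`) and to its target (`true`). -/
def QHom : V ⊕ E → V ⊕ E → Type
  | .inr k, .inl v => {b : Bool // (bif b then t k else s k) = v}
  | _, _ => PEmpty

instance : Quiver (QObj s t) := ⟨QHom s t⟩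

theorem no_comp {a b c : QObj s t} (e : a ⟶ b) (e' : b ⟶ c) : False := by
  rcases a with v | k <;> rcases b with v' | k' <;> rcases c with v'' | k''
  all_goals first | exact PEmpty.elim e | exact PEmpty.elim e'

instance finite_hom (a b : QObj s t) : Finite (a ⟶ b) := by
  rcases a with v | k <;> rcases b with v' | k'
  · exact inferInstanceAs (Finite PEmpty)
  · exact inferInstanceAs (Finite PEmpty)
  · exact inferInstanceAs (Finite {b : Bool // (bif b then t k else s k) = v'})
  · exact inferInstanceAs (Finite PEmpty)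

theorem path_cases {a b : QObj s t} (p : Quiver.Path a b) :
    (∃ h : a = b, p = h ▸ Quiver.Path.nil) ∨ ∃ e : a ⟶ b, p = e.toPath := by
  cases p with
  | nil => exact Or.inl ⟨rfl, rfl⟩
  | cons q e' =>
    cases q with
    | nil => exact Or.inr ⟨e', rfl⟩
    | cons q' e => exact (no_comp s t e e').elim

instance finite_path (a b : QObj s t) : Finite (Quiver.Path a b) := by
  let g : PLift (a = b) ⊕ (a ⟶ b) → Quiver.Path a b := fun x =>
    match x with
    | .inl h => h.down ▸ Quiver.Path.nil
    | .inr e => e.toPath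
  apply Finite.of_surjective g
  intro p
  rcases path_cases s t p with ⟨h, rfl⟩ | ⟨e, rfl⟩
  · exact ⟨.inl ⟨h⟩, rfl⟩
  · exact ⟨.inr e, rfl⟩

/-- A vertex. -/
abbrev vt (v : V) : QObj s t := Sum.inl v

/-- An edge. -/
abbrev ed (k : E) : QObj s t := Sum.inr k

/-- A vertex, in the path category. -/
abbrev vtP (v : V) : Paths (QObj s t) := Sum.inl v

/-- An edge, in the path category. -/
abbrev edP (k : E) : Paths (QObj s t) := Sum.inr k

/-- The source arrow. -/
def srcArr (k : E) : ed s t k ⟶ vt s t (s k) := ⟨false, rfl⟩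

/-- The target arrow. -/
def tgtArr (k : E) : ed s t k ⟶ vt s t (t k) := ⟨true, rfl⟩

end Quiv

section Fun

variable {I : Type u} [Category.{v} I] {V E : Type} (s t : E → V) (vert : V → I)
  (γ : ∀ k, vert (s k) ⟶ vert (t k))

/-- Object map. -/
def objFun : QObj s t → I := Sum.elim vert (fun k => vert (s k))

/-- Arrow map. -/
def mapFun : ∀ {a b : QObj s t}, (a ⟶ b) → (objFun s t vert a ⟶ objFun s t vert b)
  | .inr _, .inl _, ⟨false, h⟩ => eqToHom (congrArg vert h)
  | .inr k, .inl _, ⟨true, h⟩ => γ k ≫ eqToHom (congrArg vert h)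
  | .inl _, .inl _, e => PEmpty.elim e
  | .inl _, .inr _, e => PEmpty.elim e
  | .inr _, .inr _, e => PEmpty.elim e

/-- The prefunctor. -/
def preF : QObj s t ⥤q I where
  obj := objFun s t vert
  map := mapFun s t vert γ

/-- The functor from the (finite) path category. -/
def F : Paths (QObj s t) ⥤ I := Paths.lift (preF s t vert γ)

theorem F_src (k : E) : (F s t vert γ).map (srcArr s t k).toPath = 𝟙 (vert (s k)) := by
  unfold F
  rw [Paths.lift_toPath]
  rfl

theorem F_tgt (k : E) : (F s t vert γ).map (tgtArr s t k).toPath = γ k := by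
  unfold F
  rw [Paths.lift_toPath]
  exact Category.comp_id _

end Fun

section Final

variable {I : Type u} [Category.{v} I] {V E : Type} (s t : E → V) (vert : V → I)
  (γ : ∀ k, vert (s k) ⟶ vert (t k))

/-- The source arrow in the path category. -/
def srcP (k : E) : edP s t k ⟶ vtP s t (s k) := (srcArr s t k).toPath

/-- The target arrow in the path category. -/
def tgtP (k : E) : edP s t k ⟶ vtP s t (t k) := (tgtArr s t k).toPath

/-- Structured arrow to a vertex. -/
abbrev sv (i : I) (a : V) (ψ : i ⟶ vert a) : StructuredArrow i (F s t vert γ) :=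
  StructuredArrow.mk (T := F s t vert γ) (Y := vtP s t a) ψ

/-- Structured arrow to an edge. -/
abbrev se (i : I) (k : E) (ψ : i ⟶ vert (s k)) : StructuredArrow i (F s t vert γ) :=
  StructuredArrow.mk (T := F s t vert γ) (Y := edP s t k) ψ

/-- The property used to prove finality. -/
def PF : MorphismProperty I := fun x y φ =>
  ∀ (i : I) (ψ : i ⟶ x) (a b : V) (ha : vert a = x) (hb : vert b = y),
    Zigzag (sv s t vert γ i a (ψ ≫ eqToHom ha.symm)) (sv s t vert γ i b (ψ ≫ φ ≫ eqToHom hb.symm))

theorem se_zigzag (i : I) (k : E) (ψ : i ⟶ vert (s k)) :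
    Zigzag (sv s t vert γ i (s k) ψ) (se s t vert γ i k ψ) :=
  Zigzag.of_inv (StructuredArrow.homMk (f := se s t vert γ i k ψ) (f' := sv s t vert γ i (s k) ψ)
    (srcP s t k) (by
    change ψ ≫ (F s t vert γ).map (srcArr s t k).toPath = ψ
    exact (congrArg (fun x => ψ ≫ x) (F_src s t vert γ k)).trans (Category.comp_id ψ)))

theorem se_zigzag' (i : I) (k : E) (ψ : i ⟶ vert (s k)) :
    Zigzag (se s t vert γ i k ψ) (sv s t vert γ i (t k) (ψ ≫ γ k)) :=
  Zigzag.of_hom (StructuredArrow.homMk (f := se s t vert γ i k ψ)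
    (f' := sv s t vert γ i (t k) (ψ ≫ γ k)) (tgtP s t k) (by
    change ψ ≫ (F s t vert γ).map (tgtArr s t k).toPath = ψ ≫ γ k
    exact congrArg (fun x => ψ ≫ x) (F_tgt s t vert γ k)))

variable (hinj : Function.Injective vert) (hsurj : Function.Surjective vert)

include hinj hsurj in
theorem PF_mult : (PF s t vert γ).IsMultiplicative where
  id_mem x := by
    intro i ψ a b ha hb
    obtain rfl : a = b := hinj (ha.trans hb.symm)
    subst ha
    simp only [eqToHom_refl, Category.comp_id]
    exact Zigzag.refl _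
  comp_mem {x y z} φ₁ φ₂ h₁ h₂ := by
    intro i ψ a b ha hb
    obtain ⟨c, hc⟩ := hsurj y
    have z1 := h₁ i ψ a c ha hc
    have z2 := h₂ i (ψ ≫ φ₁) c b hc hb
    simp only [Category.assoc] at z2 ⊢
    exact z1.trans z2

include hinj in
theorem PF_gen (k : E) : PF s t vert γ (γ k) := by
  intro i ψ a b ha hb
  obtain rfl : a = s k := hinj ha
  obtain rfl : b = t k := hinj hb
  simp only [eqToHom_refl, Category.comp_id]
  exact (se_zigzag s t vert γ i k ψ).trans (se_zigzag' s t vert γ i k ψ)

include hinj hsurj in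
theorem final (hgen : ∀ P : MorphismProperty I, P.IsMultiplicative → (∀ k, P (γ k)) → P = ⊤) :
    (F s t vert γ).Final := by
  have hP : PF s t vert γ = ⊤ :=
    hgen _ (PF_mult s t vert γ hinj hsurj) (PF_gen s t vert γ hinj)
  constructor
  intro i
  obtain ⟨v₀, rfl⟩ := hsurj i
  have hne : Nonempty (StructuredArrow (vert v₀) (F s t vert γ)) :=
    ⟨sv s t vert γ (vert v₀) v₀ (𝟙 _)⟩
  have keyv : ∀ (v : V) (ψ : vert v₀ ⟶ vert v),
      Zigzag (sv s t vert γ (vert v₀) v₀ (𝟙 _)) (sv s t vert γ (vert v₀) v ψ) := by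
    intro v ψ
    have h : PF s t vert γ ψ := by rw [hP]; trivial
    have h' := h (vert v₀) (𝟙 _) v₀ v rfl rfl
    simpa using h'
  have key : ∀ X : StructuredArrow (vert v₀) (F s t vert γ),
      Zigzag (sv s t vert γ (vert v₀) v₀ (𝟙 _)) X := by
    rintro ⟨⟨⟨⟩⟩, j, ψ⟩
    rcases j with v | k
    · exact keyv v ψ
    · exact (keyv (s k) ψ).trans (se_zigzag s t vert γ (vert v₀) k ψ)
  exact zigzag_isConnected fun X Y => (key X).symm.trans (key Y)

end Final

section Initial

variable {I : Type u} [Category.{v} I] {V E : Type} (s t : E → V) (vert : V → I)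
  (γ : ∀ k, vert (s k) ⟶ vert (t k))

/-- Costructured arrow from a vertex. -/
abbrev cv (i : I) (a : V) (ψ : vert a ⟶ i) : CostructuredArrow (F s t vert γ) i :=
  CostructuredArrow.mk (S := F s t vert γ) (Y := vtP s t a) ψ

/-- Costructured arrow from an edge. -/
abbrev ce (i : I) (k : E) (ψ : vert (s k) ⟶ i) : CostructuredArrow (F s t vert γ) i :=
  CostructuredArrow.mk (S := F s t vert γ) (Y := edP s t k) ψ

/-- The property used to prove initiality. -/
def PI : MorphismProperty I := fun x y φ =>
  ∀ (i : I) (ψ : y ⟶ i) (a b : V) (ha : vert a = x) (hb : vert b = y),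
    Zigzag (cv s t vert γ i b (eqToHom hb ≫ ψ)) (cv s t vert γ i a (eqToHom ha ≫ φ ≫ ψ))

theorem ce_zigzag (i : I) (k : E) (ψ : vert (s k) ⟶ i) :
    Zigzag (ce s t vert γ i k ψ) (cv s t vert γ i (s k) ψ) :=
  Zigzag.of_hom (CostructuredArrow.homMk (f := ce s t vert γ i k ψ) (f' := cv s t vert γ i (s k) ψ)
    (srcP s t k) (by
    change (F s t vert γ).map (srcArr s t k).toPath ≫ ψ = ψ
    exact (congrArg (fun x => x ≫ ψ) (F_src s t vert γ k)).trans (Category.id_comp ψ)))

theorem ce_zigzag' (i : I) (k : E) (ψ : vert (t k) ⟶ i) :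
    Zigzag (cv s t vert γ i (t k) ψ) (ce s t vert γ i k (γ k ≫ ψ)) :=
  Zigzag.of_inv (CostructuredArrow.homMk (f := ce s t vert γ i k (γ k ≫ ψ))
    (f' := cv s t vert γ i (t k) ψ) (tgtP s t k) (by
    change (F s t vert γ).map (tgtArr s t k).toPath ≫ ψ = γ k ≫ ψ
    exact congrArg (fun x => x ≫ ψ) (F_tgt s t vert γ k)))

variable (hinj : Function.Injective vert) (hsurj : Function.Surjective vert)

include hinj hsurj in
theorem PI_mult : (PI s t vert γ).IsMultiplicative where
  id_mem x := by
    intro i ψ a b ha hb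
    obtain rfl : a = b := hinj (ha.trans hb.symm)
    subst ha
    simp only [eqToHom_refl, Category.id_comp]
    exact Zigzag.refl _
  comp_mem {x y z} φ₁ φ₂ h₁ h₂ := by
    intro i ψ a b ha hb
    obtain ⟨c, hc⟩ := hsurj y
    have z2 := h₂ i ψ c b hc hb
    have z1 := h₁ i (φ₂ ≫ ψ) a c ha hc
    simp only [Category.assoc] at z1 ⊢
    exact z2.trans z1

include hinj in
theorem PI_gen (k : E) : PI s t vert γ (γ k) := by
  intro i ψ a b ha hb
  obtain rfl : a = s k := hinj ha
  obtain rfl : b = t k := hinj hb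
  simp only [eqToHom_refl, Category.id_comp]
  exact (ce_zigzag' s t vert γ i k ψ).trans (ce_zigzag s t vert γ i k (γ k ≫ ψ))

include hinj hsurj in
theorem initial (hgen : ∀ P : MorphismProperty I, P.IsMultiplicative → (∀ k, P (γ k)) → P = ⊤) :
    (F s t vert γ).Initial := by
  have hP : PI s t vert γ = ⊤ :=
    hgen _ (PI_mult s t vert γ hinj hsurj) (PI_gen s t vert γ hinj)
  constructor
  intro i
  obtain ⟨v₀, rfl⟩ := hsurj i
  have hne : Nonempty (CostructuredArrow (F s t vert γ) (vert v₀)) :=
    ⟨cv s t vert γ (vert v₀) v₀ (𝟙 _)⟩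
  have keyv : ∀ (v : V) (ψ : vert v ⟶ vert v₀),
      Zigzag (cv s t vert γ (vert v₀) v₀ (𝟙 _)) (cv s t vert γ (vert v₀) v ψ) := by
    intro v ψ
    have h : PI s t vert γ ψ := by rw [hP]; trivial
    have h' := h (vert v₀) (𝟙 _) v v₀ rfl rfl
    simpa using h'
  have key : ∀ X : CostructuredArrow (F s t vert γ) (vert v₀),
      Zigzag (cv s t vert γ (vert v₀) v₀ (𝟙 _)) X := by
    rintro ⟨j, ⟨⟨⟩⟩, ψ⟩
    rcases j with v | k
    · exact keyv v ψ
    · exact (keyv (s k) ψ).trans (ce_zigzag s t vert γ (vert v₀) k ψ).symm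
  exact zigzag_isConnected fun X Y => (key X).symm.trans (key Y)

end Initial

/-- A category with finitely many objects whose morphisms are generated under composition by finitely
many of them receives a functor from a finite category which is both final and initial, the finite
category being connected (resp. nonempty) exactly when the given one is. (The published statement
says that limits and colimits of every diagram are computed after restriction along the functor;
this is expressed here through finality and initiality.) -/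
theorem result {I : Type u} [Category.{v} I] [Finite I]
    (gen : Finset (Σ x y : I, x ⟶ y))
    (hgen : ∀ P : MorphismProperty I, P.IsMultiplicative → (∀ a ∈ gen, P a.2.2) → P = ⊤) :
    ∃ (J : Type) (_ : SmallCategory J) (_ : FinCategory J) (F : J ⥤ I),
      F.Final ∧ F.Initial ∧ (IsConnected J ↔ IsConnected I) ∧ (Nonempty J ↔ Nonempty I) := by
  classical
  obtain ⟨n, ⟨e⟩⟩ := Finite.exists_equiv_fin I
  let g : Fin gen.card → Σ x y : I, x ⟶ y := fun k => (gen.equivFin.symm k).1
  have hg : ∀ a ∈ gen, ∃ k, g k = a := fun a ha => ⟨gen.equivFin ⟨a, ha⟩, by simp [g]⟩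
  let vert : Fin n → I := e.symm
  let s : Fin gen.card → Fin n := fun k => e (g k).1
  let t : Fin gen.card → Fin n := fun k => e (g k).2.1
  let γ : ∀ k, vert (s k) ⟶ vert (t k) := fun k =>
    eqToHom (e.symm_apply_apply _) ≫ (g k).2.2 ≫ eqToHom (e.symm_apply_apply _).symm
  have hgen' : ∀ P : MorphismProperty I, P.IsMultiplicative → (∀ k, P (γ k)) → P = ⊤ := by
    intro P hP hk
    have hE : ∀ {x y : I} (h : x = y), P (eqToHom h) := by
      intro x y h; subst h; exact P.id_mem x
    apply hgen P hP
    intro a ha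
    obtain ⟨k, rfl⟩ := hg a ha
    have h1 : (g k).2.2 = eqToHom (e.symm_apply_apply _).symm ≫ γ k ≫
        eqToHom (e.symm_apply_apply _) := by
      simp [γ]
    rw [h1]
    exact P.comp_mem _ _ (hE _) (P.comp_mem _ _ (hk k) (hE _))
  have hinj : Function.Injective vert := e.symm.injective
  have hsurj : Function.Surjective vert := e.symm.surjective
  have hF := final s t vert γ hinj hsurj hgen'
  have hI := initial s t vert γ hinj hsurj hgen'
  have hfin : Finite (Paths (QObj s t)) := inferInstanceAs (Finite (Fin n ⊕ Fin gen.card))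
  refine ⟨Paths (QObj s t), inferInstance,
    { fintypeObj := Fintype.ofFinite _
      fintypeHom := fun a b => @Fintype.ofFinite _ (finite_path s t a b) },
    F s t vert γ, hF, hI, ?_, ?_⟩
  · exact Functor.isConnected_iff_of_final (F s t vert γ)
  · constructor
    · rintro ⟨j⟩; exact ⟨(F s t vert γ).obj j⟩
    · rintro ⟨i⟩
      have hc : IsConnected (StructuredArrow i (F s t vert γ)) := hF.out i
      obtain ⟨X⟩ := hc.is_nonempty
      exact ⟨X.right⟩

end Groth.Agent.S6438
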