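import Groth.Statements.S6441
import Groth.Agent.Lib.Helper14.AlmostCocont1

set_option autoImplicit false
open CategoryTheory CategoryTheory.Limits Opposite
universe u
open SiteMisc

namespace Groth.Agent.S6441

/-- For a continuous and almost cocontinuous functor `u` between small sites and a presheaf of sets `G`
taking singleton values on sheaf theoretically empty objects, sheafification commutes with `u^p`:
the canonical comparison `(u^p G)^# ⟶ u^p(G^#)` is an isomorphism. -/
theorem result {C D : Type u} [SmallCategory C] [SmallCategory D]
    (J : GrothendieckTopology C) (K : GrothendieckTopology D) (u : C ⥤ D) [u.IsContinuous J K]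
    (hu : BigSite.IsAlmostCocontinuous u J K) (G : Dᵒᵖ ⥤ Type u)
    (hG : ∀ V : D, (⊥ : Sieve V) ∈ K V → Nonempty (Unique (G.obj (op V)))) :
    IsIso (((sheafificationAdjunction J (Type u)).homEquiv (u.op ⋙ G)
      ((u.sheafPushforwardContinuous (Type u) J K).obj ((presheafToSheaf K (Type u)).obj G))).symm
        (Functor.whiskerLeft u.op (toSheafify K G))) := by
  have h1 := Groth.Agent.Lib.Helper14.AlmostCocont.isLocallyInjective_whiskerLeft J K u hu G hG
  have h2 := Groth.Agent.Lib.Helper14.AlmostCocont.isLocallySurjective_whiskerLeft J K u hu G hG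
  exact @Groth.Agent.Lib.Helper14.AlmostCocont.isIso_homEquiv_symm_of_locallyBijective C _ J
    (u.op ⋙ G)
    ((u.sheafPushforwardContinuous (Type u) J K).obj ((presheafToSheaf K (Type u)).obj G))
    (Functor.whiskerLeft u.op (toSheafify K G)) h1 h2

end Groth.Agent.S6441
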