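import Groth.Statements.S6443
import Groth.Agent.Lib.Helper4.FibRep

set_option autoImplicit false
open CategoryTheory
universe v u
open FibCat CategoryTheory.Limits Groth.Agent.FibEquiv

namespace Groth.Agent.S6443

/-- If a category `𝒮` fibred in groupoids over `C` is represented by `X` via `j : 𝒮 ⟶ C/X` and by `X'`
via `j' : 𝒮 ⟶ C/X'` (equivalences over `C`), then there is an isomorphism `X' ≅ X` under which `j'`
becomes 2-isomorphic to `j` over `C`. -/
theorem result {C : Type u} [Category.{v} C] {𝒮 : BasedCategory.{v, max u v} C} (h𝒮 : FibCat.IsFibGrpd 𝒮.p)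
    {X X' : C} (j : 𝒮 ⥤ᵇ FibCat.overCat X) (j' : 𝒮 ⥤ᵇ FibCat.overCat X') (hj : FibCat.IsEquivOver j) (hj' : FibCat.IsEquivOver j') :
    ∃ e : X' ≅ X, Nonempty (BasedFunctor.comp j' (⟨Over.map e.hom, Over.mapForget_eq e.hom⟩ : FibCat.overCat X' ⥤ᵇ FibCat.overCat X) ≅ j) := by
  obtain ⟨⟨hfull, hfaith⟩, hess⟩ := of_isEquivOver j hj
  obtain ⟨⟨hfull', hfaith'⟩, hess'⟩ := of_isEquivOver j' hj'
  obtain ⟨t, e₀, -⟩ := hess (Over.mk (𝟙 X))
  have ht1 : IsTerminal (j.toFunctor.obj t) := IsTerminal.ofIso Over.mkIdTerminal e₀.symm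
  have ht : IsTerminal t := IsTerminal.isTerminalOfObj j.toFunctor t ht1
  obtain ⟨t', e₀', -⟩ := hess' (Over.mk (𝟙 X'))
  have ht1' : IsTerminal (j'.toFunctor.obj t') := IsTerminal.ofIso Over.mkIdTerminal e₀'.symm
  have ht' : IsTerminal t' := IsTerminal.isTerminalOfObj j'.toFunctor t' ht1'
  let τ : t ≅ t' := ht.uniqueUpToIso ht'
  let e₁ : j'.toFunctor.obj t ≅ Over.mk (𝟙 X') := j'.toFunctor.mapIso τ ≪≫ e₀'
  let a₀ : (j.toFunctor.obj t).left ≅ X := (Over.forget X).mapIso e₀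
  let a₁ : (j'.toFunctor.obj t).left ≅ X' := (Over.forget X').mapIso e₁
  have ha₀ : (j.toFunctor.obj t).hom = a₀.hom := by
    have := Over.w e₀.hom
    rw [← this]
    exact Category.comp_id _
  have ha₁ : (j'.toFunctor.obj t).hom = a₁.hom := by
    have := Over.w e₁.hom
    rw [← this]
    exact Category.comp_id _
  have h0 : ∀ s : 𝒮.obj, (j.toFunctor.obj s).left = 𝒮.p.obj s := fun s => j.w_obj s
  have h1 : ∀ s : 𝒮.obj, (j'.toFunctor.obj s).left = 𝒮.p.obj s := fun s => j'.w_obj s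
  let e : X' ≅ X := a₁.symm ≪≫ eqToIso ((h1 t).trans (h0 t).symm) ≪≫ a₀
  have hmap : ∀ {s s' : 𝒮.obj} (m : s ⟶ s'),
      (j.toFunctor.map m).left = eqToHom (h0 s) ≫ 𝒮.p.map m ≫ eqToHom (h0 s').symm := by
    intro s s' m
    exact Functor.congr_hom j.w m
  have hmap' : ∀ {s s' : 𝒮.obj} (m : s ⟶ s'),
      (j'.toFunctor.map m).left = eqToHom (h1 s) ≫ 𝒮.p.map m ≫ eqToHom (h1 s').symm := by
    intro s s' m
    exact Functor.congr_hom j'.w m
  have hA : ∀ s : 𝒮.obj, (j.toFunctor.obj s).hom =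
      eqToHom (h0 s) ≫ 𝒮.p.map (ht.from s) ≫ eqToHom (h0 t).symm ≫ a₀.hom := by
    intro s
    have := Over.w (j.toFunctor.map (ht.from s))
    rw [hmap, ha₀] at this
    simpa using this.symm
  have hA' : ∀ s : 𝒮.obj, (j'.toFunctor.obj s).hom =
      eqToHom (h1 s) ≫ 𝒮.p.map (ht.from s) ≫ eqToHom (h1 t).symm ≫ a₁.hom := by
    intro s
    have := Over.w (j'.toFunctor.map (ht.from s))
    rw [hmap', ha₁] at this
    simpa using this.symm
  refine ⟨e, ⟨BasedNatIso.mkNatIso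
    (NatIso.ofComponents
      (fun s => Over.isoMk (eqToIso ((h1 s).trans (h0 s).symm)) (by
        change eqToHom ((h1 s).trans (h0 s).symm) ≫ (j.toFunctor.obj s).hom = (j'.toFunctor.obj s).hom ≫ e.hom
        rw [hA, hA']
        simp [e]))
      (fun {s s'} m => by
        apply Over.OverMorphism.ext
        change (j'.toFunctor.map m).left ≫ eqToHom ((h1 s').trans (h0 s').symm) =
          eqToHom ((h1 s).trans (h0 s).symm) ≫ (j.toFunctor.map m).left
        rw [hmap, hmap']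
        simp))
    (fun s => by
      have ha : (FibCat.overCat X).p.obj ((Over.map e.hom).obj (j'.toFunctor.obj s)) = 𝒮.p.obj s := h1 s
      have hb : (FibCat.overCat X).p.obj (j.toFunctor.obj s) = 𝒮.p.obj s := h0 s
      apply IsHomLift.of_fac' (FibCat.overCat X).p _ _ ha hb
      change eqToHom ((h1 s).trans (h0 s).symm) = eqToHom (h1 s) ≫ 𝟙 _ ≫ eqToHom (h0 s).symm
      simp)⟩⟩

end Groth.Agent.S6443
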