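import Groth.Statements.S6444
import Mathlib
-- import your own Groth.Agent.* helpers here

set_option autoImplicit false
open CategoryTheory
universe v u v' u'
open CatLoc

namespace Groth.Agent.S6444

section helpers
theorem main {C : Type u} [Category.{v} C] {D : Type u'} [Category.{v'} D] (W : MorphismProperty C) (L : C ⥤ D) [L.IsLocalization W] [W.HasLeftCalculusOfFractions]
    {X Y X' Y' : C} (f : X ⟶ Y) (f' : X' ⟶ Y') (a : L.obj X ⟶ L.obj X') (b : L.obj Y ⟶ L.obj Y') (w : L.map f ≫ b = a ≫ L.map f') :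
    ∃ (X'' Y'' : C) (f'' : X'' ⟶ Y'') (g : X ⟶ X'') (h : Y ⟶ Y'') (s : X' ⟶ X'') (t : Y' ⟶ Y''),
      W s ∧ W t ∧ f ≫ h = g ≫ f'' ∧ f' ≫ t = s ≫ f'' ∧ L.map g = a ≫ L.map s ∧ L.map h = b ≫ L.map t := by
  obtain ⟨φa, hφa⟩ := Localization.exists_leftFraction L W a
  obtain ⟨φb, hφb⟩ := Localization.exists_leftFraction L W b
  have ha : a ≫ L.map φa.s = L.map φa.f := by
    rw [hφa]; exact φa.map_comp_map_s L (Localization.inverts L W)
  have hb : b ≫ L.map φb.s = L.map φb.f := by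
    rw [hφb]; exact φb.map_comp_map_s L (Localization.inverts L W)
  -- right fraction X₁ ← X' → Y₁
  let ρ : W.RightFraction φa.Y' φb.Y' := ⟨φa.s, φa.hs, f' ≫ φb.s⟩
  obtain ⟨ψ, hψ⟩ := ρ.exists_leftFraction
  have hψ' : (f' ≫ φb.s) ≫ ψ.s = φa.s ≫ ψ.f := hψ
  have hL : L.map (f ≫ φb.f ≫ ψ.s) = L.map (φa.f ≫ ψ.f) := by
    have e1 : L.map (φa.f ≫ ψ.f) = a ≫ L.map f' ≫ L.map φb.s ≫ L.map ψ.s := by
      rw [L.map_comp, ← ha, Category.assoc, ← L.map_comp φa.s, ← hψ']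
      simp only [Functor.map_comp, Category.assoc]
    rw [e1, ← reassoc_of% w]
    simp only [Functor.map_comp, ← reassoc_of% hb]
  obtain ⟨Z, u, hu, hfu⟩ := (MorphismProperty.map_eq_iff_postcomp L W _ _).1 hL
  refine ⟨φa.Y', Z, ψ.f ≫ u, φa.f, (φb.f ≫ ψ.s) ≫ u, φa.s, (φb.s ≫ ψ.s) ≫ u, φa.hs, ?_, ?_, ?_, ?_, ?_⟩
  · exact W.comp_mem _ _ (W.comp_mem _ _ φb.hs ψ.hs) hu
  · simpa only [Category.assoc] using hfu
  · rw [← Category.assoc, ← Category.assoc, hψ', Category.assoc]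
  · exact ha.symm
  · simp only [Functor.map_comp, ← reassoc_of% hb, Category.assoc]
end helpers

/-- For a left multiplicative system, a commutative square in the localization between the images of two
morphisms `f, f'` of `C` lifts to a commutative diagram `X → X'' ← X'`, `Y → Y'' ← Y'` in `C` over a
third morphism `f''`, the backward arrows lying in `W`. -/
theorem result {C : Type u} [Category.{v} C] {D : Type u'} [Category.{v'} D] (W : MorphismProperty C) (L : C ⥤ D) [L.IsLocalization W] [W.HasLeftCalculusOfFractions]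
    {X Y X' Y' : C} (f : X ⟶ Y) (f' : X' ⟶ Y') (a : L.obj X ⟶ L.obj X') (b : L.obj Y ⟶ L.obj Y') (w : L.map f ≫ b = a ≫ L.map f') :
    ∃ (X'' Y'' : C) (f'' : X'' ⟶ Y'') (g : X ⟶ X'') (h : Y ⟶ Y'') (s : X' ⟶ X'') (t : Y' ⟶ Y''),
      W s ∧ W t ∧ f ≫ h = g ≫ f'' ∧ f' ≫ t = s ≫ f'' ∧ L.map g = a ≫ L.map s ∧ L.map h = b ≫ L.map t := by
  exact main W L f f' a b w

end Groth.Agent.S6444
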