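import Groth.Statements.S6447
import Mathlib
import Groth.Agent.FibFp
-- import your own Groth.Agent.* helpers here

set_option autoImplicit false
set_option backward.isDefEq.respectTransparency false
set_option backward.isDefEq.respectTransparency.types false
open CategoryTheory CategoryTheory.Limits
universe v u
open FibCat

namespace Groth.Agent.S6447

/-- For a 2-fibre product `U = X ×_Y V` of categories, the square formed by `U ⟶ X`, the diagonals `U ⟶
U ×_V U`, `X ⟶ X ×_Y X` and the induced functor `U ×_V U ⟶ X ×_Y X` is 2-cartesian. (The filling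
2-isomorphism is the one whose two components at every object are identities; it exists and is
unique with that property.) -/
theorem result {X Y V : Type u} [Category.{v} X] [Category.{v} Y] [Category.{v} V] (p : X ⥤ Y) (q : V ⥤ Y) :
    ∃ e, (∀ u, (e.hom.app u).fst = 𝟙 _ ∧ (e.hom.app u).snd = 𝟙 _) ∧ FibCat.IsTwoCart
      (CategoricalPullback.π₁ p q)
      ((CategoricalPullback.CatCommSqOver.toFunctorToCategoricalPullback (CategoricalPullback.π₂ p q) (CategoricalPullback.π₂ p q) (CategoricalPullback p q)).obj ⟨𝟭 _, 𝟭 _, Iso.refl _⟩)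
      ((CategoricalPullback.CatCommSqOver.toFunctorToCategoricalPullback p p X).obj ⟨𝟭 _, 𝟭 _, Iso.refl _⟩)
      (FibCat.categoricalPullbackMap (⟨CategoricalPullback.π₁ p q, q, CategoricalPullback.π₁ p q, ⟨(CatCommSq.iso (CategoricalPullback.π₁ p q) (CategoricalPullback.π₂ p q) p q).symm⟩, ⟨(CatCommSq.iso (CategoricalPullback.π₁ p q) (CategoricalPullback.π₂ p q) p q).symm⟩⟩ : CatCospanTransform (CategoricalPullback.π₂ p q) (CategoricalPullback.π₂ p q) p p))
      e := by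
  classical
  let U := CategoricalPullback p q
  let T : U ⥤ X := CategoricalPullback.π₁ p q
  let L : U ⥤ CategoricalPullback (CategoricalPullback.π₂ p q) (CategoricalPullback.π₂ p q) :=
    (CategoricalPullback.CatCommSqOver.toFunctorToCategoricalPullback (CategoricalPullback.π₂ p q) (CategoricalPullback.π₂ p q) (CategoricalPullback p q)).obj ⟨𝟭 _, 𝟭 _, Iso.refl _⟩
  let F : X ⥤ CategoricalPullback p p :=
    (CategoricalPullback.CatCommSqOver.toFunctorToCategoricalPullback p p X).obj ⟨𝟭 _, 𝟭 _, Iso.refl _⟩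
  let ψ : CatCospanTransform (CategoricalPullback.π₂ p q) (CategoricalPullback.π₂ p q) p p :=
    ⟨CategoricalPullback.π₁ p q, q, CategoricalPullback.π₁ p q, ⟨(CatCommSq.iso (CategoricalPullback.π₁ p q) (CategoricalPullback.π₂ p q) p q).symm⟩, ⟨(CatCommSq.iso (CategoricalPullback.π₁ p q) (CategoricalPullback.π₂ p q) p q).symm⟩⟩
  let G := FibCat.categoricalPullbackMap ψ
  have hGfst : ∀ w, (G.obj w).fst = w.fst.fst := fun w => rfl
  have hGsnd : ∀ w, (G.obj w).snd = w.snd.fst := fun w => rfl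
  have hGiso : ∀ w, (G.obj w).iso.hom = w.fst.iso.hom ≫ q.map w.iso.hom ≫ w.snd.iso.inv := by
    intro w
    simp [G, FibCat.categoricalPullbackMap, ψ]
    rfl
  have hGmapfst : ∀ {w w'} (f : w ⟶ w'), (G.map f).fst = f.fst.fst := fun f => rfl
  have hGmapsnd : ∀ {w w'} (f : w ⟶ w'), (G.map f).snd = f.snd.fst := fun f => rfl
  have hLfst : ∀ u, (L.obj u).fst = u := fun u => rfl
  have hLsnd : ∀ u, (L.obj u).snd = u := fun u => rfl
  have hLiso : ∀ u, (L.obj u).iso.hom = 𝟙 _ := fun u => rfl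
  have hFiso : ∀ x, (F.obj x).iso.hom = 𝟙 _ := fun u => rfl
  have hobj : ∀ u : U, (G.obj (L.obj u)).iso.hom = 𝟙 _ := by
    intro u
    have h1 : (G.obj (L.obj u)).iso.hom = u.iso.hom ≫ q.map (𝟙 u.snd) ≫ u.iso.inv := hGiso (L.obj u)
    rw [h1]
    simp
    rfl
  let e : T ⋙ F ≅ L ⋙ G :=
    NatIso.ofComponents (fun u => CategoricalPullback.mkIso (Iso.refl u.fst) (Iso.refl u.fst) (by
      have h1 : ((L ⋙ G).obj u).iso.hom = 𝟙 _ := hobj u
      have h2 : ((T ⋙ F).obj u).iso.hom = 𝟙 _ := rfl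
      rw [h1, h2]
      simp)) (by
      intro u u' f
      apply CategoricalPullback.hom_ext
      · change f.fst ≫ 𝟙 _ = 𝟙 _ ≫ f.fst
        simp
      · change f.fst ≫ 𝟙 _ = 𝟙 _ ≫ f.fst
        simp)
  refine ⟨e, fun u => ⟨rfl, rfl⟩, ?_⟩
  unfold FibCat.IsTwoCart
  set Φ := (CategoricalPullback.CatCommSqOver.toFunctorToCategoricalPullback F G U).obj ⟨T, L, e⟩ with hΦ
  have hΦfst : ∀ u, (Φ.obj u).fst = u.fst := fun u => rfl
  have hΦsnd : ∀ u, (Φ.obj u).snd = L.obj u := fun u => rfl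
  have hΦmapfst : ∀ {u u'} (f : u ⟶ u'), (Φ.map f).fst = f.fst := fun f => rfl
  have hΦmapsnd : ∀ {u u'} (f : u ⟶ u'), (Φ.map f).snd = L.map f := fun f => rfl
  have hLmapfst : ∀ {u u'} (f : u ⟶ u'), (L.map f).fst = f := fun f => rfl
  have hLmapsnd : ∀ {u u'} (f : u ⟶ u'), (L.map f).snd = f := fun f => rfl
  refine { faithful := ⟨fun {u u'} f f' h => ?_⟩, full := ⟨fun {u u'} m => ?_⟩, essSurj := ⟨fun t => ?_⟩ }
  · have h1 := congrArg (fun k => k.snd.fst) h
    exact h1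
  · have hw := m.w
    have hΦiso : ∀ u, (Φ.obj u).iso.hom = e.hom.app u := fun u => rfl
    have hw1 : m.fst ≫ 𝟙 _ = 𝟙 _ ≫ m.snd.fst.fst := congrArg (fun k => k.fst) hw
    have hw2 : m.fst ≫ 𝟙 _ = 𝟙 _ ≫ m.snd.snd.fst := congrArg (fun k => k.snd) hw
    have hw3 : m.snd.fst.snd ≫ 𝟙 _ = 𝟙 _ ≫ m.snd.snd.snd := m.snd.w
    simp only [Category.comp_id, Category.id_comp] at hw1 hw2 hw3
    have hff : m.snd.fst = m.snd.snd := by
      apply CategoricalPullback.hom_ext
      · rw [← hw1, ← hw2]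
      · exact hw3
    refine ⟨m.snd.fst, ?_⟩
    apply CategoricalPullback.hom_ext
    · exact hw1.symm
    · apply CategoricalPullback.hom_ext
      · rfl
      · exact hff
  · let u₁ : U := t.snd.fst
    let u₂ : U := t.snd.snd
    let A₁ : t.fst ≅ u₁.fst := (CategoricalPullback.π₁ p p).mapIso t.iso
    let A₂ : t.fst ≅ u₂.fst := (CategoricalPullback.π₂ p p).mapIso t.iso
    have hA₁ : A₁.hom = t.iso.hom.fst := rfl
    have hA₂ : A₂.hom = t.iso.hom.snd := rfl
    have hcomp : p.map A₁.hom ≫ u₁.iso.hom ≫ q.map t.snd.iso.hom ≫ u₂.iso.inv = p.map A₂.hom := by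
      have hw := t.iso.hom.w
      have h1 : (G.obj t.snd).iso.hom = u₁.iso.hom ≫ q.map t.snd.iso.hom ≫ u₂.iso.inv := hGiso t.snd
      have h2 : (F.obj t.fst).iso.hom = 𝟙 _ := rfl
      rw [h1, h2, Category.id_comp] at hw
      exact hw
    let c₂ : u₁ ≅ u₂ := CategoricalPullback.mkIso (A₁.symm ≪≫ A₂) t.snd.iso (by
      simp only [Iso.trans_hom, Iso.symm_hom, Functor.map_comp, Category.assoc]
      rw [← hcomp]
      simp)
    let eᵣ : L.obj u₁ ≅ t.snd := CategoricalPullback.mkIso (Iso.refl u₁) c₂ (by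
      change 𝟙 _ ≫ t.snd.iso.hom = 𝟙 _ ≫ t.snd.iso.hom
      rfl)
    refine ⟨u₁, ⟨CategoricalPullback.mkIso A₁.symm eᵣ ?_⟩⟩
    apply CategoricalPullback.hom_ext
    · change A₁.inv ≫ t.iso.hom.fst = 𝟙 _ ≫ 𝟙 _
      rw [← hA₁]
      simp
    · change A₁.inv ≫ t.iso.hom.snd = 𝟙 _ ≫ (A₁.inv ≫ A₂.hom)
      rw [← hA₂]
      simp

end Groth.Agent.S6447
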