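import Groth.Statements.S6459
import Mathlib.AlgebraicGeometry.Stalk
import Mathlib.AlgebraicGeometry.FunctionField
import Mathlib.Order.KrullDimension

set_option autoImplicit false
universe u
open CategoryTheory AlgebraicGeometry
open Cyc

namespace Groth.Agent.S6459

/-- Generalizations of `x` are images of primes of the local ring at `x`. -/
theorem exists_prime_of_specializes {X : Scheme.{u}} {x y : X} (h : y ⤳ x) :
    ∃ p : PrimeSpectrum (X.presheaf.stalk x), (X.fromSpecStalk x) p = y := by
  have : y ∈ Set.range (X.fromSpecStalk x) := by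
    rw [Scheme.range_fromSpecStalk]; exact h
  exact this

theorem fromSpecStalk_specializes {X : Scheme.{u}} (x : X) (p : PrimeSpectrum (X.presheaf.stalk x)) :
    (X.fromSpecStalk x) p ⤳ x := by
  have : (X.fromSpecStalk x) p ∈ Set.range (X.fromSpecStalk x) := ⟨p, rfl⟩
  rw [Scheme.range_fromSpecStalk] at this
  exact this

theorem le_iff_fromSpecStalk_specializes {X : Scheme.{u}} (x : X)
    (p q : PrimeSpectrum (X.presheaf.stalk x)) :
    p ≤ q ↔ (X.fromSpecStalk x) p ⤳ (X.fromSpecStalk x) q := by
  rw [PrimeSpectrum.le_iff_specializes]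
  exact ((X.fromSpecStalk x).isEmbedding.isInducing.specializes_iff).symm

theorem fromSpecStalk_injective {X : Scheme.{u}} (x : X) :
    Function.Injective (X.fromSpecStalk x) :=
  (X.fromSpecStalk x).isEmbedding.injective

/-- (b) ⇔ (c): let X be integral with generic point η and Z ⊂ X an integral closed subscheme with
generic point ξ. Then Z has codimension 1 in X (the local ring O_{X,ξ} is one-dimensional; Z is a
prime divisor) if and only if dim_δ(Z) = dim_δ(X) − 1. Here a pair (X, δ) with Cyc.IsSetup plays the
role of a scheme locally of finite type over the base (S, δ) (X locally Noetherian with universally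
catenary local rings, δ a dimension function). -/
theorem result (X : Scheme.{u}) [IsIntegral X] (δ : X → ℤ) (hX : Cyc.IsSetup X δ) (ξ : X) : ringKrullDim ↑(X.presheaf.stalk ξ) = 1 ↔ δ ξ = δ (genericPoint X) - 1 := by
  obtain ⟨-, -, hδ⟩ := hX
  set η := genericPoint X with hη
  have hηξ : η ⤳ ξ := genericPoint_specializes ξ
  have hgen : ∀ z : X, z ⤳ η → z = η := fun z hz => (hz.antisymm (genericPoint_specializes z)).eq
  obtain ⟨pη, hpη⟩ := exists_prime_of_specializes hηξ
  obtain ⟨pξ, hpξ⟩ := exists_prime_of_specializes (specializes_rfl : ξ ⤳ ξ)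
  unfold ringKrullDim
  constructor
  · intro hdim
    have hle : Order.krullDim (PrimeSpectrum (X.presheaf.stalk ξ)) ≤ 1 := hdim.le
    rw [Order.krullDim_le_one_iff] at hle
    have hne : η ≠ ξ := by
      intro h
      have h1 : (1 : WithBot ℕ∞) ≤ Order.krullDim (PrimeSpectrum (X.presheaf.stalk ξ)) := hdim.ge
      rw [Order.one_le_krullDim_iff] at h1
      obtain ⟨p, q, hpq⟩ := h1
      have hp := (fromSpecStalk_specializes ξ p).trans (specializes_of_eq h.symm)
      have hq := (fromSpecStalk_specializes ξ q).trans (specializes_of_eq h.symm)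
      have := (hgen _ hp).trans (hgen _ hq).symm
      exact hpq.ne (fromSpecStalk_injective ξ this)
    obtain ⟨-, h2⟩ := hδ η ξ hηξ hne
    have := h2 (by
      intro z hz1 hz2
      obtain ⟨pz, hpz⟩ := exists_prime_of_specializes hz2
      by_contra hcon
      push Not at hcon
      have h1 : pη ≤ pz := by
        rw [le_iff_fromSpecStalk_specializes, hpη, hpz]; exact hz1
      have h2 : pz ≤ pξ := by
        rw [le_iff_fromSpecStalk_specializes, hpξ, hpz]; exact hz2
      rcases hle pz with hmin | hmax
      · have := le_antisymm (hmin h1) h1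
        apply hcon.1
        exact hpz.symm.trans ((congrArg (X.fromSpecStalk ξ) this).trans hpη)
      · have := le_antisymm h2 (hmax h2)
        apply hcon.2
        exact hpz.symm.trans ((congrArg (X.fromSpecStalk ξ) this).trans hpξ))
    omega
  · intro hdim
    have hne : η ≠ ξ := by
      intro h
      rw [h] at hdim
      omega
    apply le_antisymm
    · rw [Order.krullDim_le_one_iff]
      intro p
      set z := (X.fromSpecStalk ξ) p with hz
      have hzξ : z ⤳ ξ := fromSpecStalk_specializes ξ p
      have hηz : η ⤳ z := genericPoint_specializes z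
      by_cases hzξ' : z = ξ
      · right
        intro q hpq
        rw [le_iff_fromSpecStalk_specializes] at hpq ⊢
        rw [← hz, hzξ'] at hpq ⊢
        have := fromSpecStalk_specializes ξ q
        rw [(this.antisymm hpq).eq]
      · left
        have h1 := (hδ z ξ hzξ hzξ').1
        have hzη : z = η := by
          by_contra hcon
          have := (hδ η z hηz (Ne.symm hcon)).1
          omega
        intro q hqp
        rw [le_iff_fromSpecStalk_specializes] at hqp ⊢
        rw [← hz, hzη] at hqp ⊢
        rw [hgen _ hqp]
    · rw [Order.one_le_krullDim_iff]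
      refine ⟨pη, pξ, lt_of_le_of_ne ?_ ?_⟩
      · rw [le_iff_fromSpecStalk_specializes, hpη, hpξ]; exact hηξ
      · intro h
        apply hne
        exact hpη.symm.trans ((congrArg (X.fromSpecStalk ξ) h).trans hpξ)

end Groth.Agent.S6459
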