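import Groth.Statements.S6460
import Mathlib.AlgebraicGeometry.Noetherian
import Mathlib.Topology.NoetherianSpace
import Mathlib.Topology.Sober

set_option autoImplicit false
universe u
open CategoryTheory AlgebraicGeometry
open Cyc

namespace Groth.Agent.S6460

/-- (3) ⇒ (1): suppose that for every x ∈ X there is an integer n_x with δ(ξ) = n_x for every generic
point ξ of an irreducible component of X containing x. Then X decomposes into open and closed
subschemes X_n (n ∈ ℤ) such that every irreducible component of X_n has δ-dimension n; stated as the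
existence of a locally constant c : X → ℤ with δ(ξ) = c(ξ) for every point ξ that is maximal under
specialization. (The converse implications are immediate and not stated.) Here a pair (X, δ) with
Cyc.IsSetup plays the role of a scheme locally of finite type over the base (S, δ) (X locally
Noetherian with universally catenary local rings, δ a dimension function). -/
theorem result (X : Scheme.{u}) (δ : X → ℤ) (hX : Cyc.IsSetup X δ) (h3 : ∀ x : X, ∃ n : ℤ, ∀ ξ : X, (∀ ξ' : X, ξ' ⤳ ξ → ξ' = ξ) → ξ ⤳ x → δ ξ = n) : ∃ c : X → ℤ, IsLocallyConstant c ∧ ∀ ξ : X, (∀ ξ' : X, ξ' ⤳ ξ → ξ' = ξ) → δ ξ = c ξ := by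
  have hN : IsLocallyNoetherian X := hX.1
  choose c hc using h3
  -- every point has a maximal generalization
  have hmax : ∀ y : X, ∃ ξ : X, (∀ ξ' : X, ξ' ⤳ ξ → ξ' = ξ) ∧ ξ ⤳ y := by
    intro y
    obtain ⟨ξ, hξ⟩ := QuasiSober.sober (isIrreducible_irreducibleComponent (x := y))
      isClosed_irreducibleComponent
    refine ⟨ξ, ?_, ?_⟩
    · intro ξ' h
      have h1 : irreducibleComponent y ⊆ closure {ξ'} := by
        rw [← hξ.def]
        exact (specializes_iff_closure_subset.mp h)
      have h2 : closure {ξ'} = irreducibleComponent y :=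
        eq_irreducibleComponent (isIrreducible_singleton.closure.isPreirreducible) h1
      exact IsGenericPoint.eq h2 hξ
    · rw [specializes_iff_mem_closure, hξ.def]
      exact mem_irreducibleComponent
  -- c is constant along specializations
  have hspec : ∀ y x : X, y ⤳ x → c y = c x := by
    intro y x hyx
    obtain ⟨ξ, hξ, hξy⟩ := hmax y
    rw [← hc y ξ hξ hξy, ← hc x ξ hξ (hξy.trans hyx)]
  refine ⟨c, ?_, fun ξ hξ => hc ξ ξ hξ specializes_rfl⟩
  rw [IsLocallyConstant.iff_exists_open]
  intro x
  obtain ⟨_, ⟨U, hU, rfl⟩, hxU, -⟩ :=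
    X.isBasis_affineOpens.exists_subset_of_mem_open (Set.mem_univ x) isOpen_univ
  have hNR : IsNoetherianRing Γ(X, U) := IsLocallyNoetherian.component_noetherian ⟨U, hU⟩
  have hNS : TopologicalSpace.NoetherianSpace U := noetherianSpace_of_isAffineOpen U hU
  have hQS : QuasiSober U := U.isOpenEmbedding'.quasiSober
  -- c is constant on irreducible components of U
  have hconst : ∀ Z ∈ irreducibleComponents U, ∀ y ∈ Z, ∀ y' ∈ Z, c y.1 = c y'.1 := by
    intro Z hZ y hy y' hy'
    obtain ⟨ζ, hζ⟩ := QuasiSober.sober hZ.1 (isClosed_of_mem_irreducibleComponents Z hZ)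
    have h1 : ζ ⤳ y := by rw [specializes_iff_mem_closure, hζ.def]; exact hy
    have h2 : ζ ⤳ y' := by rw [specializes_iff_mem_closure, hζ.def]; exact hy'
    rw [← hspec _ _ (h1.map continuous_subtype_val), ← hspec _ _ (h2.map continuous_subtype_val)]
  let W : Set U := {y | c y.1 = c x}
  have hWc : Wᶜ = ⋃₀ {Z | Z ∈ irreducibleComponents U ∧ ∃ y ∈ Z, c y.1 ≠ c x} := by
    ext y
    constructor
    · intro hy
      exact ⟨irreducibleComponent y, ⟨irreducibleComponent_mem_irreducibleComponents y, y,
        mem_irreducibleComponent, hy⟩, mem_irreducibleComponent⟩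
    · rintro ⟨Z, ⟨hZ, y', hy'Z, hy'⟩, hyZ⟩
      change c y.1 ≠ c x
      rw [hconst Z hZ y hyZ y' hy'Z]
      exact hy'
  have hWclosed : IsClosed Wᶜ := by
    rw [hWc, Set.sUnion_eq_biUnion]
    refine Set.Finite.isClosed_biUnion ?_ ?_
    · exact (TopologicalSpace.NoetherianSpace.finite_irreducibleComponents (α := U)).subset fun Z hZ => hZ.1
    · intro Z hZ
      exact isClosed_of_mem_irreducibleComponents Z hZ.1
  have hWopen : IsOpen W := by
    rw [← isClosed_compl_iff]; exact hWclosed
  refine ⟨Subtype.val '' W, U.2.isOpenMap_subtype_val W hWopen, ⟨⟨x, hxU⟩, ?_, rfl⟩, ?_⟩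
  · change c x = c x
    rfl
  · rintro _ ⟨y, hy, rfl⟩
    exact hy

end Groth.Agent.S6460
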