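import Groth.Statements.S6461
import Mathlib
import Groth.Agent.Lib.Helper26.CMCat2
import Groth.Agent.Lib.Helper26.GenericNhd


set_option autoImplicit false
universe u
open CategoryTheory AlgebraicGeometry
open Cyc

namespace Groth.Agent.S6461


open Groth.Agent.Lib.helper26 in
open IsLocalRing in
theorem aux (X : Scheme.{u}) (δ : X → ℤ) (hX : Cyc.IsSetup X δ) (hCM : ∀ x : X, LocCoh.IsCohenMacaulayLocalRing ↑(X.presheaf.stalk x)) (x : X) : ∃ (U : X.Opens) (n : ℤ), x ∈ U ∧ ∀ ξ : X, ξ ∈ U → (∀ ξ' : X, ξ' ⤳ ξ → ξ' = ξ) → δ ξ = n := by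
  obtain ⟨hLN, -, hδ⟩ := hX
  obtain ⟨_, ⟨V, hV, rfl⟩, hxV, -⟩ :=
    X.isBasis_affineOpens.exists_subset_of_mem_open (Set.mem_univ x) isOpen_univ
  have hV' : IsAffineOpen V := hV
  have hnoeth : IsNoetherianRing Γ(X, V) := IsLocallyNoetherian.component_noetherian ⟨V, hV'⟩
  have hNS : TopologicalSpace.NoetherianSpace V := noetherianSpace_of_isAffineOpen V hV'
  have hNS' : TopologicalSpace.NoetherianSpace ↥(V : Set X) := hNS
  obtain ⟨U, hUo, hxU, hU⟩ := GenericNhd.exists_open_nhd (V : Set X) V.isOpen x hxV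
  have hCMx := hCM x
  have hR : LocCoh.IsCohenMacaulayModule (X.presheaf.stalk x) (X.presheaf.stalk x) :=
    hCMx.supportDim_eq_depth
  refine ⟨⟨U, hUo⟩, δ x + CMCat.ht (closedPoint (X.presheaf.stalk x)), hxU, ?_⟩
  intro ξ hξU hgen
  have hξx : ξ ⤳ x := hU ξ hξU hgen
  have hemb : Topology.IsEmbedding (X.fromSpecStalk x) := (X.fromSpecStalk x).isEmbedding
  have hrange : ∀ y : X, y ⤳ x → ∃ P : PrimeSpectrum (X.presheaf.stalk x),
      X.fromSpecStalk x P = y := by
    intro y hy
    have : y ∈ Set.range (X.fromSpecStalk x) := by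
      rw [Scheme.range_fromSpecStalk]; exact hy
    exact this
  have hrange' : ∀ P : PrimeSpectrum (X.presheaf.stalk x), X.fromSpecStalk x P ⤳ x := by
    intro P
    have : X.fromSpecStalk x P ∈ Set.range (X.fromSpecStalk x) := ⟨P, rfl⟩
    rw [Scheme.range_fromSpecStalk] at this
    exact this
  have hspec : ∀ P Q : PrimeSpectrum (X.presheaf.stalk x),
      X.fromSpecStalk x P ⤳ X.fromSpecStalk x Q ↔ P ≤ Q := by
    intro P Q
    rw [PrimeSpectrum.le_iff_specializes]
    exact hemb.toIsInducing.specializes_iff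
  obtain ⟨P₀, hP₀⟩ := hrange ξ hξx
  let g : PrimeSpectrum (X.presheaf.stalk x) → ℤ := fun P => δ (X.fromSpecStalk x P)
  have hg : ∀ P Q : PrimeSpectrum (X.presheaf.stalk x), P ⋖ Q → g P = g Q + 1 := by
    intro P Q hPQ
    have h1 : X.fromSpecStalk x P ⤳ X.fromSpecStalk x Q := (hspec P Q).mpr hPQ.1.le
    have h2 : X.fromSpecStalk x P ≠ X.fromSpecStalk x Q := fun e => hPQ.1.ne (hemb.injective e)
    refine (hδ _ _ h1 h2).2 ?_
    intro z hz1 hz2
    obtain ⟨Z, rfl⟩ := hrange z (hz2.trans (hrange' Q))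
    rcases hPQ.eq_or_eq ((hspec P Z).mp hz1) ((hspec Z Q).mp hz2) with h | h
    · left; rw [h]
    · right; rw [h]
  have hmin : ∀ Q : PrimeSpectrum (X.presheaf.stalk x), Q ≤ P₀ → Q = P₀ := by
    intro Q hQ
    have h1 : X.fromSpecStalk x Q ⤳ X.fromSpecStalk x P₀ := (hspec Q P₀).mpr hQ
    rw [hP₀] at h1
    have h2 := hgen _ h1
    exact hemb.injective (h2.trans hP₀.symm)
  have h := CMCat.dimFun_minimal hR g hg P₀ hmin
  have hcl : X.fromSpecStalk x (closedPoint (X.presheaf.stalk x)) = x :=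
    Scheme.fromSpecStalk_closedPoint
  simp only [g] at h
  rw [hP₀, hcl] at h
  exact h


/-- If all local rings of X are Cohen–Macaulay then every x ∈ X has an open neighbourhood U and an
integer n with δ(ξ) = n for every generic point ξ of an irreducible component of U (every point of U
maximal under specialization). Here a pair (X, δ) with Cyc.IsSetup plays the role of a scheme
locally of finite type over the base (S, δ) (X locally Noetherian with universally catenary local
rings, δ a dimension function). -/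
theorem result (X : Scheme.{u}) (δ : X → ℤ) (hX : Cyc.IsSetup X δ) (hCM : ∀ x : X, LocCoh.IsCohenMacaulayLocalRing ↑(X.presheaf.stalk x)) (x : X) : ∃ (U : X.Opens) (n : ℤ), x ∈ U ∧ ∀ ξ : X, ξ ∈ U → (∀ ξ' : X, ξ' ⤳ ξ → ξ' = ξ) → δ ξ = n := by
  exact aux X δ hX hCM x

end Groth.Agent.S6461
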