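import Groth.Statements.S6465
import Groth.Agent.Lib.Helper16.GysinFlat3
import Groth.Agent.Lib.Helper16.CycClosed4


set_option autoImplicit false
universe u
open CategoryTheory AlgebraicGeometry
open Cyc

namespace Groth.Agent.S6465

open Groth.Agent.Lib.helper16.OrdGen Groth.Agent.Lib.helper16.GenFib
  Groth.Agent.Lib.helper16.DivSum Groth.Agent.Lib.helper16.SecOrd
  Groth.Agent.Lib.helper16.CycClosed Groth.Agent.Lib.helper16.CycFlat
  Groth.Agent.Lib.helper16.ShiftPull Groth.Agent.Lib.helper17.FibreStalk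
  Groth.Agent.Lib.helper16.CIPull Groth.Agent.Lib.helper16.PullStalk
  Groth.Agent.Lib.helper16.C1Pull Groth.Agent.Lib.helper16.GysinFlat


/-- Let (L, s, i : D → X) be a triple defining a Gysin map. Then i^* i_* : CH_k(D) → CH_{k−1}(D) sends
the class of a k-cycle α on D to c_1(L|_D) ∩ α: the (k − 1)-cycle i^*(i_* α) is rationally
equivalent on D to c_1(i^*L) ∩ α computed with any nonzero rational sections. Here i : D → X is the
zero scheme of a global section s of the invertible module L (Cyc.IsZeroSchemeOf), the Gysin map i^*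
: Z_{k+1}(X) → CH_k(D) is computed on coefficient functions as c_1(L) ∩ − with the rational sections
taken to be s where it is nonzero and a nonzero fallback elsewhere (Cyc.gysinChoice), restricted to
the points of D, and classes on D are compared up to rational equivalence on D for the restricted
dimension function; (X, δ) with Cyc.IsSetup stands for a scheme locally of finite type over the base
(S, δ). -/
theorem result (X D : Scheme.{u}) (δ : X → ℤ) (hX : Cyc.IsSetup X δ) (L : X.Modules) (hL : PicF.IsInvertible L) (s : L.presheaf.obj (Opposite.op ⊤)) (i : D ⟶ X) [IsClosedImmersion i] (hD : Cyc.IsZeroSchemeOf i L s) (k : ℤ) (α : AlgebraicCycle D ℤ) (hα : α ∈ Cyc.Zk D (fun d => δ (i d)) k) (w : (ξ : X) → Cyc.secFibre L ξ) (hw : ∀ ξ, w ξ ≠ 0) (t : (d : D) → Cyc.secFibre ((Scheme.Modules.pullback i).obj L) d) (ht : ∀ d, t d ≠ 0) (ζ₁ ζ₂ : AlgebraicCycle D ℤ) (h₁ : ∀ d, ζ₁ d = Cyc.c1CapFun δ L ⇑(AlgebraicCycle.map i (fun d => δ (i d)) δ α) (Cyc.gysinChoice L s w) (i d)) (h₂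 : ⇑ζ₂ = Cyc.c1CapFun (fun d => δ (i d)) ((Scheme.Modules.pullback i).obj L) ⇑α t) : Cyc.RatEquiv (fun d => δ (i d)) (k - 1) ζ₁ ζ₂ := by
  classical
  haveI : IsLocallyNoetherian X := hX.1
  haveI : IsLocallyNoetherian D := isLocallyNoetherian_of_isClosedImmersion i
  have hLc := isLocCyc_of_isInvertible L hL
  have hL' : PicF.IsInvertible ((Scheme.Modules.pullback i).obj L) :=
    (Groth.Agent.Lib.helper16.FLF.isInvertible_iff_isFinLocFreeOfRank_one _).2
      (Groth.Agent.Lib.helper16.FLF.isFinLocFreeOfRank_pullback i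
        ((Groth.Agent.Lib.helper16.FLF.isInvertible_iff_isFinLocFreeOfRank_one L).1 hL))
  have hL'c := isLocCyc_of_isInvertible _ hL'
  have hu := gysinChoice_ne_zero L s w hw
  have hv : ∀ d₀ : D, pullSec i d₀ L (Cyc.gysinChoice L s w (i d₀)) ≠ 0 := by
    intro d₀
    obtain ⟨g, hg⟩ := hLc.cyc (i d₀)
    exact pullSec_ne_zero i d₀ L g hg _ (ht d₀) _ (hu (i d₀))
  have hinj : Function.Injective i := i.isClosedEmbedding.injective
  have hζ₁ : ⇑ζ₁ = Cyc.c1CapFun (fun d => δ (i d)) ((Scheme.Modules.pullback i).obj L) ⇑α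
      (fun d₀ => pullSec i d₀ L (Cyc.gysinChoice L s w (i d₀))) := by
    funext d
    rw [h₁ d]
    unfold Cyc.c1CapFun
    have hF0 : ∀ ξ : X, ξ ∉ Set.range i →
        (AlgebraicCycle.map i (fun d => δ (i d)) δ α) ξ *
          Cyc.secDivFun δ L ξ (Cyc.gysinChoice L s w ξ) (i d) = 0 := by
      intro ξ hξ
      rw [map_apply_of_notMem_range i _ δ α ξ hξ, zero_mul]
    have e1 : (∑ᶠ ξ : X, (AlgebraicCycle.map i (fun d => δ (i d)) δ α) ξ *
          Cyc.secDivFun δ L ξ (Cyc.gysinChoice L s w ξ) (i d)) =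
        ∑ᶠ ξ ∈ Set.range i, (AlgebraicCycle.map i (fun d => δ (i d)) δ α) ξ *
          Cyc.secDivFun δ L ξ (Cyc.gysinChoice L s w ξ) (i d) := by
      rw [finsum_mem_def]
      apply finsum_congr
      intro ξ
      by_cases h : ξ ∈ Set.range i
      · rw [Set.indicator_of_mem h]
      · rw [Set.indicator_of_notMem h, hF0 ξ h]
    rw [e1, finsum_mem_range hinj]
    apply finsum_congr
    intro d₀
    rw [map_apply i (fun d => δ (i d)) δ (fun _ => rfl) α d₀,
      secDivFun_closedImmersion i δ L hLc d₀ d _ (hu (i d₀)) (hv d₀)]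
  have hα' : α ∈ Cyc.Zk D (fun d => δ (i d)) (k - 1 + 1) := by
    rw [sub_add_cancel]
    exact hα
  exact ratEquiv_c1CapFun_of_sections D (fun d => δ (i d)) ((Scheme.Modules.pullback i).obj L)
    hL'c (k - 1) α hα' _ t hv ht ζ₁ ζ₂ hζ₁ h₂

end Groth.Agent.S6465
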