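import Groth.Statements.S6472
import Groth.Agent.LibSecRegDim29
-- import your own Groth.Agent.* helpers here

set_option autoImplicit false
universe u
open CategoryTheory CategoryTheory.Limits AlgebraicGeometry
open IntMult

namespace Groth.Agent.S6472

/-- Let X be a nonsingular variety of dimension n over the algebraically closed field K. Then Δ : X → X
×_K X, the diagonal, is regular of codimension n as an immersion (RegImm.IsRegularImmersionOfCodim
of kind regular: an immersion which, around every point, in an affine open where it is closed, is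
cut out by a regular sequence of length n). Nonsingular variety: X → Spec K smooth, separated,
quasi-compact, X integral; n = Krull dimension of X. -/
theorem result (K : Type u) [Field K] [IsAlgClosed K] (X : Scheme.{u}) (f : X ⟶ Spec (CommRingCat.of K)) [Smooth f] [IsSeparated f] [QuasiCompact f] [IsIntegral X] (n : ℕ) (hn : topologicalKrullDim X = n) : RegImm.IsRegularImmersionOfCodim RegImm.Kind.regular n (pullback.diagonal f) := by
  have hrel : Cyc.HasRelDim f n := by
    intro y T hT
    have huniv : f ⁻¹' {y} = Set.univ := by
      ext x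
      simp only [Set.mem_preimage, Set.mem_singleton_iff, Set.mem_univ, iff_true]
      exact Subsingleton.elim _ _
    let e1 : f.fiber y ≃ₜ f ⁻¹' {y} := f.fiberHomeo y
    let e2 : f ⁻¹' {y} ≃ₜ (Set.univ : Set X) := Homeomorph.setCongr huniv
    let e3 : (Set.univ : Set X) ≃ₜ X := Homeomorph.Set.univ X
    let e : f.fiber y ≃ₜ X := (e1.trans e2).trans e3
    haveI : IrreducibleSpace X := inferInstance
    haveI : IrreducibleSpace (f.fiber y) := by
      have hne : Nonempty (f.fiber y) := ⟨e.symm (Classical.arbitrary X)⟩
      have h1 : IsPreirreducible (Set.univ : Set X) := (IrreducibleSpace.isIrreducible_univ X).2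
      have h2 : IsPreirreducible (e.symm '' (Set.univ : Set X)) :=
        h1.image e.symm e.symm.continuous.continuousOn
      rw [Set.image_univ, e.symm.surjective.range_eq] at h2
      haveI : PreirreducibleSpace (f.fiber y) := ⟨h2⟩
      exact ⟨hne⟩
    rw [irreducibleComponents_eq_singleton, Set.mem_singleton_iff] at hT
    subst hT
    rw [← hn, ← IsHomeomorph.topologicalKrullDim_eq _ e.isHomeomorph,
      IsHomeomorph.topologicalKrullDim_eq _ (Homeomorph.Set.univ (f.fiber y)).isHomeomorph]
  have hfd : ∀ x : X, FlatMor.fibreDimAt f x = (n : WithBot ℕ∞) :=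
    Groth.Agent.Lib.helper3.RelDim.fibreDimAt_eq_of_hasRelDim f n hrel
  refine ⟨inferInstance, fun z => ?_⟩
  obtain ⟨W, hW1, hW2, rs, hrs, hker, hlen⟩ :=
    Groth.Agent.LibSecRegDim29.exists_regular_of_section_length (pullback.fst f f)
      (pullback.diagonal f) (pullback.diagonal_fst f) z
  refine ⟨W, hW1, hW2, rs, ?_, hrs, hker⟩
  have h1 := Groth.Agent.Lib.helper3.FibreDimBC.fibreDimAt_eq_of_isPullback f f (pullback.snd f f)
    (pullback.fst f f) (IsPullback.of_hasPullback f f).flip (pullback.diagonal f z)
  rw [h1, hfd] at hlen
  exact_mod_cast hlen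

end Groth.Agent.S6472
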