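import Groth.Statements.S6476
import Mathlib

set_option autoImplicit false
universe u v
open CycAlg

namespace Groth.Agent.S6476

theorem isArtinian_of_supportDim_le_zero (R : Type*) [CommRing R] [IsNoetherianRing R]
    (N : Type*) [AddCommGroup N] [Module R N] [Module.Finite R N]
    (h : Module.supportDim R N ≤ 0) : IsArtinian R N := by
  rw [Module.supportDim_eq_ringKrullDim_quotient_annihilator] at h
  have hB : IsArtinianRing (R ⧸ Module.annihilator R N) := by
    rw [isArtinianRing_iff_krullDimLE_zero, Ring.krullDimLE_iff]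
    exact_mod_cast h
  let _ : Module (R ⧸ Module.annihilator R N) N := Module.quotientAnnihilator
  have hst : IsScalarTower R (R ⧸ Module.annihilator R N) N := by
    constructor
    intro r b n
    obtain ⟨b, rfl⟩ := Ideal.Quotient.mk_surjective b
    change (r • b) • n = r • (b • n)
    rw [smul_assoc]
  have hfin : Module.Finite (R ⧸ Module.annihilator R N) N := Module.Finite.of_restrictScalars_finite R _ _
  have : IsArtinian (R ⧸ Module.annihilator R N) N := inferInstance
  exact isArtinian_of_surjective_algebraMap (R := R ⧸ Module.annihilator R N)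
    Ideal.Quotient.mk_surjective

theorem comap_mem_support (R : Type*) [CommRing R] (N : Type*) [AddCommGroup N] [Module R N]
    (q : Ideal R) [q.IsPrime]
    (P : PrimeSpectrum (Localization.AtPrime q))
    (hP : P ∈ Module.support (Localization.AtPrime q) (LocalizedModule q.primeCompl N)) :
    (PrimeSpectrum.comap (algebraMap R (Localization.AtPrime q)) P) ∈ Module.support R N := by
  rw [Module.mem_support_iff_exists_annihilator] at hP ⊢
  obtain ⟨x, hx⟩ := hP
  induction x using LocalizedModule.induction_on with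
  | h m s =>
    refine ⟨m, fun a ha => ?_⟩
    rw [Submodule.mem_annihilator_span_singleton] at ha
    change algebraMap R _ a ∈ P.asIdeal
    apply hx
    rw [Submodule.mem_annihilator_span_singleton]
    rw [algebraMap_smul, LocalizedModule.smul'_mk, ha, LocalizedModule.zero_mk]

theorem not_mem_support_of_min {A : Type u} [CommRing A] [IsNoetherianRing A] {M : Type v}
    [AddCommGroup M] [Module A M] [Module.Finite A M] (χ : M →ₗ[A] M)
    (hχ : Function.Injective χ)
    (q : PrimeSpectrum A) (hmin : ∀ p ∈ Module.support A M, p ≤ q → q ≤ p) :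
    q ∉ Module.support A (M ⧸ LinearMap.range χ) := by
  set S := q.asIdeal.primeCompl with hS
  have key : ∀ P ∈ Module.support (Localization.AtPrime q.asIdeal) (LocalizedModule S M),
      P = IsLocalRing.closedPoint _ := by
    intro P hP
    have h1 := comap_mem_support A M q.asIdeal P hP
    have h2 : PrimeSpectrum.comap (algebraMap A (Localization.AtPrime q.asIdeal)) P ≤ q := by
      intro a ha
      by_contra hnot
      have hu : IsUnit (algebraMap A (Localization.AtPrime q.asIdeal) a) :=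
        IsLocalization.map_units (M := q.asIdeal.primeCompl) _ ⟨a, hnot⟩
      exact P.2.ne_top (Ideal.eq_top_of_isUnit_mem _ ha hu)
    have h3 := hmin _ h1 h2
    have h4 : IsLocalRing.maximalIdeal (Localization.AtPrime q.asIdeal) ≤ P.asIdeal := by
      rw [← Localization.AtPrime.map_eq_maximalIdeal, Ideal.map_le_iff_le_comap]
      exact h3
    apply PrimeSpectrum.ext
    exact le_antisymm (IsLocalRing.le_maximalIdeal P.2.ne_top) h4
  have hdim : Module.supportDim (Localization.AtPrime q.asIdeal) (LocalizedModule S M) ≤ 0 := by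
    unfold Module.supportDim
    rw [Order.krullDim_nonpos_iff_forall_isMin]
    rintro ⟨P, hP⟩ ⟨P', hP'⟩ _
    have e1 := key P hP
    have e2 := key P' hP'
    subst e1
    subst e2
    exact le_rfl
  have hart : IsArtinian (Localization.AtPrime q.asIdeal) (LocalizedModule S M) :=
    isArtinian_of_supportDim_le_zero _ _ hdim
  have hsurj := IsArtinian.surjective_of_injective_endomorphism (LocalizedModule.map S χ)
    (LocalizedModule.map_injective S χ hχ)
  rw [Module.notMem_support_iff]
  suffices h : ∀ x : LocalizedModule S (M ⧸ LinearMap.range χ), x = 0 from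
    ⟨fun x y => (h x).trans (h y).symm⟩
  intro x
  induction x using LocalizedModule.induction_on with
  | h y s =>
    obtain ⟨m, rfl⟩ := Submodule.Quotient.mk_surjective _ y
    obtain ⟨z, hz⟩ := hsurj (LocalizedModule.mk m s)
    induction z using LocalizedModule.induction_on with
    | h m' s' =>
      rw [LocalizedModule.map_mk, LocalizedModule.mk_eq] at hz
      obtain ⟨u, hu⟩ := hz
      rw [← LocalizedModule.zero_mk (1 : S), LocalizedModule.mk_eq]
      refine ⟨u * s', ?_⟩
      rw [smul_zero, smul_zero, one_smul, ← Submodule.Quotient.mk_smul,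
        Submodule.Quotient.mk_eq_zero, mul_smul, ← hu]
      refine ⟨u • s • m', ?_⟩
      simp only [Submonoid.smul_def, map_smul]

theorem length_lt_top {A : Type u} [CommRing A] [IsNoetherianRing A] {M : Type v}
    [AddCommGroup M] [Module A M] [Module.Finite A M]
    (hdim : Module.supportDim A M ≤ 1) (χ : M →ₗ[A] M) (hχ : Function.Injective χ) :
    Module.length A (M ⧸ LinearMap.range χ) < ⊤ := by
  have hsub : Module.support A (M ⧸ LinearMap.range χ) ⊆ Module.support A M :=
    Module.support_subset_of_surjective (LinearMap.range χ).mkQ (Submodule.mkQ_surjective _)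
  have hdimQ : Module.supportDim A (M ⧸ LinearMap.range χ) ≤ 0 := by
    unfold Module.supportDim
    rw [Order.krullDim_nonpos_iff_forall_isMin]
    rintro ⟨x, hx⟩ ⟨y, hy⟩ hle
    by_contra hnot
    have hy' : ¬ (∀ p ∈ Module.support A M, p ≤ y → y ≤ p) :=
      fun h => not_mem_support_of_min χ hχ y h hy
    push Not at hy'
    obtain ⟨p, hp, hpy, hyp⟩ := hy'
    have h1 := (Order.krullDim_le_one_iff (α := Module.support A M)).1 hdim ⟨y, hsub hy⟩
    rcases h1 with h1 | h1
    · exact hyp (h1 (b := ⟨p, hp⟩) hpy)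
    · exact hnot (h1 (b := ⟨x, hsub hx⟩) hle)
  have hart := isArtinian_of_supportDim_le_zero A _ hdimQ
  have : IsNoetherian A (M ⧸ LinearMap.range χ) := inferInstance
  exact lt_top_iff_ne_top.2 Module.length_ne_top


/-- Let A be a Noetherian local ring, M a finite A-module of dimension 1, and φ, ψ : M → M injective
with φ(ψ(M)) = ψ(φ(M)) (e.g. φ, ψ commute). Then length_A(M/φψM) is finite and (M/φψM, φ, ψ) is an
exact (2, 1)-periodic complex; here φ', ψ' denote the endomorphisms of M/φψM induced by φ and ψ, and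
exactness says both cohomology modules (CycAlg.perH) are trivial. -/
theorem result {A : Type u} [CommRing A] [IsNoetherianRing A] [IsLocalRing A] {M : Type v} [AddCommGroup M] [Module A M] [Module.Finite A M] (hdim : Module.supportDim A M = 1) (φ ψ : M →ₗ[A] M) (hφ : Function.Injective φ) (hψ : Function.Injective ψ) (hcomm : Submodule.map φ (LinearMap.range ψ) = Submodule.map ψ (LinearMap.range φ)) (φ' ψ' : (M ⧸ LinearMap.range (φ ∘ₗ ψ)) →ₗ[A] (M ⧸ LinearMap.range (φ ∘ₗ ψ))) (hφ' : φ' ∘ₗ (LinearMap.range (φ ∘ₗ ψ)).mkQ = (LinearMap.range (φ ∘ₗ ψ)).mkQ ∘ₗ φ) (hψ' : ψ' ∘ₗ (LinearMap.range (φ ∘ₗ ψ)).mkQ = (LinearMap.range (φ ∘ₗ ψ)).mkQ ∘ₗ ψ) : Module.length A (M ⧸ LinearMap.range (φ ∘ₗ ψ)) < ⊤ ∧ CycAlg.IsPeriodic φ' ψ' ∧ Subsingleton (CycAlg.perH φ' ψ') ∧ Subsingleton (CycAlg.perH ψ' φ') := by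
  have hX : ∀ m : M, (LinearMap.range (φ ∘ₗ ψ)).mkQ m = 0 ↔ ∃ m', φ (ψ m') = m := by
    intro m
    rw [Submodule.mkQ_apply, Submodule.Quotient.mk_eq_zero, LinearMap.mem_range]
    rfl
  have hφ'' : ∀ m, φ' ((LinearMap.range (φ ∘ₗ ψ)).mkQ m) = (LinearMap.range (φ ∘ₗ ψ)).mkQ (φ m) :=
    fun m => LinearMap.congr_fun hφ' m
  have hψ'' : ∀ m, ψ' ((LinearMap.range (φ ∘ₗ ψ)).mkQ m) = (LinearMap.range (φ ∘ₗ ψ)).mkQ (ψ m) :=
    fun m => LinearMap.congr_fun hψ' m
  have hc1 : ∀ m, ∃ m', φ (ψ m') = ψ (φ m) := by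
    intro m
    have : ψ (φ m) ∈ Submodule.map ψ (LinearMap.range φ) := ⟨φ m, ⟨m, rfl⟩, rfl⟩
    rw [← hcomm] at this
    obtain ⟨_, ⟨m', rfl⟩, h⟩ := this
    exact ⟨m', h⟩
  have hc2 : ∀ m, ∃ m', ψ (φ m') = φ (ψ m) := by
    intro m
    have : φ (ψ m) ∈ Submodule.map φ (LinearMap.range ψ) := ⟨ψ m, ⟨m, rfl⟩, rfl⟩
    rw [hcomm] at this
    obtain ⟨_, ⟨m', rfl⟩, h⟩ := this
    exact ⟨m', h⟩
  refine ⟨?_, ⟨?_, ?_⟩, ?_, ?_⟩
  · exact length_lt_top hdim.le (φ ∘ₗ ψ) (hφ.comp hψ)
  · apply LinearMap.ext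
    intro q
    obtain ⟨m, rfl⟩ := Submodule.mkQ_surjective _ q
    rw [LinearMap.comp_apply, hψ'', hφ'', LinearMap.zero_apply, hX]
    exact ⟨m, rfl⟩
  · apply LinearMap.ext
    intro q
    obtain ⟨m, rfl⟩ := Submodule.mkQ_surjective _ q
    rw [LinearMap.comp_apply, hφ'', hψ'', LinearMap.zero_apply, hX]
    exact hc1 m
  · rw [Submodule.Quotient.subsingleton_iff, Submodule.submoduleOf, Submodule.comap_subtype_eq_top]
    intro q hq
    obtain ⟨m, rfl⟩ := Submodule.mkQ_surjective _ q
    rw [LinearMap.mem_ker, hφ'', hX] at hq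
    obtain ⟨m', hm'⟩ := hq
    have := hφ hm'
    exact ⟨(LinearMap.range (φ ∘ₗ ψ)).mkQ m', by rw [hψ'', this]⟩
  · rw [Submodule.Quotient.subsingleton_iff, Submodule.submoduleOf, Submodule.comap_subtype_eq_top]
    intro q hq
    obtain ⟨m, rfl⟩ := Submodule.mkQ_surjective _ q
    rw [LinearMap.mem_ker, hψ'', hX] at hq
    obtain ⟨m', hm'⟩ := hq
    obtain ⟨m'', hm''⟩ := hc2 m'
    rw [← hm''] at hm'
    have := hψ hm'
    exact ⟨(LinearMap.range (φ ∘ₗ ψ)).mkQ m'', by rw [hφ'', this]⟩

end Groth.Agent.S6476
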