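import Groth.Statements.S6477
import Groth.Agent.Lib.Helper16.CycFlat5
import Groth.Agent.Lib.Helper16.GenFib

set_option autoImplicit false
universe u
open CategoryTheory AlgebraicGeometry
open CategoryTheory.Limits
open Cyc

namespace Groth.Agent.S6477

/-- Let F be a coherent O_X-module with dim_δ Supp(F) ≤ k and F' = p^*F its base change to X'. Then
dim_{δ'} Supp(F') ≤ k + c and g^*[F]_k = [F']_{k+c} in Z_{k+c}(X') (coefficientwise; support bounds
through nontrivial stalks). Setting: p : X' → X is flat (not necessarily of finite type), (X, δ) and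
(X', δ') satisfy Cyc.IsSetup, and δ'(x') = δ(p x') + c whenever x' is maximal under generalization
inside its fibre p⁻¹(p x'); g^* : Z_k(X) → Z_{k+c}(X') is the coefficientwise flat pullback
Cyc.pullFun p δ' δ c. (The published statement takes X′ = X ×_S S′ for a flat S′ → S and X locally
of finite type over S; this row allows any flat p : X′ → X with the shift condition. The published
statement also has a part for closed subschemes, which follows with [Z]_k = [O_Z]_k; this row does
not restate it.) -/
theorem result (X X' : Scheme.{u}) (p : X' ⟶ X) [Flat p] (δ : X → ℤ) (δ' : X' → ℤ) (hX : Cyc.IsSetup X δ) (hX' : Cyc.IsSetup X' δ') (c : ℤ) (hc : ∀ x' : X', (∀ y, p y = p x' → y ⤳ x' → y = x') → δ' x' = δ (p x') + c) (k : ℤ) (F : X.Modules) (hF : Coh.IsCoh F) (hdim : ∀ x : X, Nontrivial (F.presheaf.stalk x) → δ x ≤ k) : (∀ x' : X', Nontrivial (((Scheme.Modules.pullback p).obj F).presheaf.stalk x') → δ' x' ≤ k + c) ∧ Cyc.pullFun p δ' δ c (Cyc.sheafFun δ k F) = Cyc.sheafFun δ' (k + c) ((Scheme.Modules.pullback p).obj F) := by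
  haveI : IsLocallyNoetherian X := hX.1
  haveI : IsLocallyNoetherian X' := hX'.1
  haveI : F.IsQuasicoherent := hF.1
  have hle : ∀ x' : X', δ' x' ≤ δ (p x') + c :=
    fun x' => Groth.Agent.Lib.helper16.GenFib.delta_le_of_generic p δ' δ c hX'.2.2 hc x'
  have hnt : ∀ x' : X', Nontrivial (((Scheme.Modules.pullback p).obj F).presheaf.stalk x') →
      Nontrivial (F.presheaf.stalk (p x')) := by
    intro x' hx'
    by_contra hcon
    rw [not_nontrivial_iff_subsingleton] at hcon
    have := Groth.Agent.Lib.helper16.CycFlat.subsingleton_stalk_pullback p F x' hcon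
    exact not_subsingleton _ this
  refine ⟨fun x' hx' => ?_, ?_⟩
  · have := hdim (p x') (hnt x' hx')
    have := hle x'
    omega
  · funext x'
    have hflat : (p.stalkMap x').hom.Flat := (Flat.iff_flat_stalkMap (f := p)).1 inferInstance x'
    show (if δ' x' = δ (p x') + c then
        (if δ (p x') = k then
          ((Module.length (X.presheaf.stalk (p x')) (F.presheaf.stalk (p x'))).toNat : ℤ) else 0) *
          ((Module.length (X'.presheaf.stalk x')
            (Groth.Agent.Lib.helper17.FibreStalk.FibRing p x')).toNat : ℤ) else 0) =
      (if δ' x' = k + c then ((Module.length (X'.presheaf.stalk x')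
          (((Scheme.Modules.pullback p).obj F).presheaf.stalk x')).toNat : ℤ) else 0)
    have hlex := hle x'
    by_cases hA : δ' x' = k + c
    · rw [if_pos hA]
      by_cases hnF : Nontrivial (F.presheaf.stalk (p x'))
      · have hle' := hdim (p x') hnF
        have hk : δ (p x') = k := by omega
        rw [if_pos (by omega), if_pos hk]
        have hmax : ∀ y : X, Nontrivial (F.presheaf.stalk y) → y ⤳ p x' → y = p x' := by
          intro y hy hyx
          by_contra hne
          have h3 := (hX.2.2 y (p x') hyx hne).1
          have h4 := hdim y hy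
          omega
        have hfin := ((Groth.Agent.Lib.helper8.StalkLen.minimal_iff_isFiniteLength F hF
          (p x')).mp ⟨hnF, hmax⟩).2
        rw [Groth.Agent.Lib.helper16.CycFlat.length_stalk_pullback p F x' hflat hfin,
          ENat.toNat_mul]
        push_cast
        rfl
      · rw [not_nontrivial_iff_subsingleton] at hnF
        haveI := hnF
        haveI := Groth.Agent.Lib.helper16.CycFlat.subsingleton_stalk_pullback p F x' hnF
        have e1 : Module.length (X.presheaf.stalk (p x')) (F.presheaf.stalk (p x')) = 0 :=
          Module.length_eq_zero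
        have e2 : Module.length (X'.presheaf.stalk x')
            (((Scheme.Modules.pullback p).obj F).presheaf.stalk x') = 0 := Module.length_eq_zero
        rw [e1, e2]
        simp
    · rw [if_neg hA]
      by_cases hB : δ' x' = δ (p x') + c
      · rw [if_pos hB, if_neg (by omega), zero_mul]
      · rw [if_neg hB]
end Groth.Agent.S6477
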