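import Groth.Statements.S6480
import Groth.Agent.Lib.Helper15.HerbLen2

set_option autoImplicit false
universe u
open CycAlg

namespace Groth.Agent.S6480


open Groth.Agent.Lib.helper15.RelLen Groth.Agent.Lib.helper15.HerbLen
open Groth.Agent.Lib.helper26.HS (locLen)
open Pointwise

set_option linter.style.haveILetI false

/-- the arithmetic of the final step -/
theorem arith_aux {ι : Type*} (s : Finset ι) (u v w : ι → ℕ) (α β : ℕ)
    (h : (α : ℕ∞) + ∑ q ∈ s, ((u q : ℕ∞) * (w q : ℕ∞)) =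
      (β : ℕ∞) + ∑ q ∈ s, ((v q : ℕ∞) * (w q : ℕ∞))) :
    (β : ℤ) - (α : ℤ) = ∑ q ∈ s, (w q : ℤ) * ((u q : ℤ) - (v q : ℤ)) := by
  have h' : α + ∑ q ∈ s, u q * w q = β + ∑ q ∈ s, v q * w q := by
    have : ((α + ∑ q ∈ s, u q * w q : ℕ) : ℕ∞) = ((β + ∑ q ∈ s, v q * w q : ℕ) : ℕ∞) := by
      push_cast
      exact h
    exact_mod_cast this
  have h'' : (α : ℤ) + ∑ q ∈ s, (u q : ℤ) * (w q : ℤ) =
      (β : ℤ) + ∑ q ∈ s, (v q : ℤ) * (w q : ℤ) := by
    exact_mod_cast h'
  have e : ∑ q ∈ s, (w q : ℤ) * ((u q : ℤ) - (v q : ℤ)) =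
      ∑ q ∈ s, (u q : ℤ) * (w q : ℤ) - ∑ q ∈ s, (v q : ℤ) * (w q : ℤ) := by
    rw [← Finset.sum_sub_distrib]
    refine Finset.sum_congr rfl fun q _ => ?_
    ring
  rw [e]
  linarith

/-- Let A be a Noetherian local ring of dimension 1, a, b ∈ A nonzerodivisors, A without embedded
primes, M a finite A-module without embedded associated primes and with Supp(M) = Spec(A). Put I =
{x ∈ A | x·(a/b) ∈ A}, and write 𝔮_1, …, 𝔮_t for the minimal prime ideals of A. The conclusion is
that M contains (a/b)IM, and that the difference length_A(M/(a/b)IM) minus length_A(M/IM) equals the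
sum over i of length_{A_{𝔮_i}}(M_{𝔮_i}) multiplied by ord_{A/𝔮_i}(a/b). Encoding: I is the ideal
quotient (bA : aA); '(a/b)IM ⊂ M' is aIM ⊆ bM; (a/b)IM is the submodule of m with bm ∈ aIM (b acts
injectively on M); ord_{A/𝔮}(a/b) is CycAlg.ordFrac on κ(𝔮) = Frac(A/𝔮); lengths are truncated to ℕ
(they are finite here). -/
theorem result {A : Type u} [CommRing A] [IsNoetherianRing A] [IsLocalRing A] (hA : ringKrullDim A = 1) {M : Type u} [AddCommGroup M] [Module A M] [Module.Finite A M] (a b : A) (ha : a ∈ nonZeroDivisors A) (hb : b ∈ nonZeroDivisors A) (hAemb : ∀ p ∈ associatedPrimes A A, p ∈ minimalPrimes A) (hMemb : ∀ p ∈ associatedPrimes A M, p ∈ minimalPrimes A) (hsupp : Module.support A M = Set.univ) (I : Ideal A) (hI : I = (Ideal.span {b}).colon (Ideal.span {a})) (P : Submodule A M) (hP : P = Submodule.comap (LinearMap.lsmul A M b) ((Ideal.span {a} * I) • (⊤ : Submodule A M))) : (Ideal.span {a} * I) • (⊤ : Submodule A M) ≤ LinearMap.range (LinearMap.lsmul A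 M b) ∧ ((Module.length A (M ⧸ P)).toNat : ℤ) - ((Module.length A (M ⧸ I • (⊤ : Submodule A M))).toNat : ℤ) = ∑ᶠ (q : PrimeSpectrum A) (_ : q.asIdeal ∈ minimalPrimes A), ((Module.length (Localization.AtPrime q.asIdeal) (LocalizedModule q.asIdeal.primeCompl M)).toNat : ℤ) * CycAlg.ordFrac (A ⧸ q.asIdeal) q.asIdeal.ResidueField (algebraMap A q.asIdeal.ResidueField a / algebraMap A q.asIdeal.ResidueField b) := by
  classical
  subst hP
  -- the ideal J = aI lies in bA
  have hbI : b ∈ I := by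
    rw [hI, Ideal.mem_colon_span_singleton]
    exact Ideal.mem_span_singleton.mpr (dvd_mul_right b a)
  have hJb : Ideal.span {a} * I ≤ Ideal.span {b} := by
    rw [Ideal.mul_le]
    intro r hr s hs
    obtain ⟨t, rfl⟩ := Ideal.mem_span_singleton'.mp hr
    rw [hI, Ideal.mem_colon_span_singleton] at hs
    have : t * a * s = t * (s * a) := by ring
    rw [this]
    exact Ideal.mul_mem_left _ t hs
  have h1 : (Ideal.span {a} * I) • (⊤ : Submodule A M) ≤
      LinearMap.range (LinearMap.lsmul A M b) := by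
    rw [Submodule.smul_le]
    intro r hr n _
    obtain ⟨y, rfl⟩ := Ideal.mem_span_singleton'.mp (hJb hr)
    exact ⟨y • n, by simp [mul_smul, smul_comm b y n]⟩
  refine ⟨h1, ?_⟩
  set JM : Submodule A M := (Ideal.span {a} * I) • (⊤ : Submodule A M) with hJM
  set N₁ : Submodule A M := I • (⊤ : Submodule A M) with hN₁
  set P : Submodule A M := Submodule.comap (LinearMap.lsmul A M b) JM with hP
  have hareg : IsSMulRegular M a := isSMulRegular_of_nzd hMemb ha
  have hbreg : IsSMulRegular M b := isSMulRegular_of_nzd hMemb hb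
  have haN : a • N₁ = JM := by
    rw [hJM, hN₁, Submodule.mul_smul, Submodule.ideal_span_singleton_smul]
  have hbP : b • P = JM := by
    ext y
    rw [Submodule.mem_smul_pointwise_iff_exists]
    constructor
    · rintro ⟨z, hz, rfl⟩
      exact hz
    · intro hy
      obtain ⟨z, rfl⟩ := h1 hy
      exact ⟨z, hy, rfl⟩
  have hbN₁ : ∀ m : M, b • m ∈ N₁ := fun m => Submodule.smul_mem_smul hbI Submodule.mem_top
  have habJ : a * b ∈ Ideal.span {a} * I :=
    Ideal.mul_mem_mul (Ideal.mem_span_singleton_self a) hbI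
  have habJM : ∀ m : M, (a * b) • m ∈ JM := fun m =>
    Submodule.smul_mem_smul habJ Submodule.mem_top
  have haP : ∀ m : M, a • m ∈ P := by
    intro m
    change b • (a • m) ∈ JM
    rw [smul_smul, mul_comm]
    exact habJM m
  have hJN : JM ≤ N₁ := by
    rw [← haN]
    rintro y hy
    obtain ⟨z, hz, rfl⟩ := (Submodule.mem_smul_pointwise_iff_exists _ _ _).1 hy
    exact N₁.smul_mem a hz
  have hJP : JM ≤ P := by
    rw [← hbP]
    rintro y hy
    obtain ⟨z, hz, rfl⟩ := (Submodule.mem_smul_pointwise_iff_exists _ _ _).1 hy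
    exact P.smul_mem b hz
  have e1 : rl JM ⊤ = rl N₁ ⊤ + rl JM N₁ := rl_add hJN le_top
  have e2 : rl JM ⊤ = rl P ⊤ + rl JM P := rl_add hJP le_top
  have hfin : rl JM ⊤ < ⊤ := by
    rw [rl_top]
    exact length_quot_lt_top hA JM (mul_mem ha hb) habJM
  have sa := rl_smul_eq_finsum hA hsupp N₁ hb hbN₁ ha hareg
  have sb := rl_smul_eq_finsum hA hsupp P ha haP hb hbreg
  rw [haN] at sa
  rw [hbP] at sb
  rw [rl_top, rl_top] at e1 e2
  rw [rl_top] at hfin
  -- the finite set of minimal primes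
  have hS : {q : PrimeSpectrum A | q.asIdeal ∈ minimalPrimes A}.Finite := by
    have hfin' : (minimalPrimes A).Finite := minimalPrimes.finite_of_isNoetherianRing A
    exact Set.Finite.preimage (fun x _ y _ hxy => PrimeSpectrum.ext hxy) hfin'
  have sa' : rl JM N₁ = ∑ q ∈ hS.toFinset,
      Ring.ord (A ⧸ q.asIdeal) (Ideal.Quotient.mk q.asIdeal a) * locLen M q := by
    rw [sa]
    exact finsum_mem_eq_finite_toFinset_sum _ hS
  have sb' : rl JM P = ∑ q ∈ hS.toFinset,
      Ring.ord (A ⧸ q.asIdeal) (Ideal.Quotient.mk q.asIdeal b) * locLen M q := by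
    rw [sb]
    exact finsum_mem_eq_finite_toFinset_sum _ hS
  have rhs : (∑ᶠ (q : PrimeSpectrum A) (_ : q.asIdeal ∈ minimalPrimes A),
      ((Module.length (Localization.AtPrime q.asIdeal)
        (LocalizedModule q.asIdeal.primeCompl M)).toNat : ℤ) *
        CycAlg.ordFrac (A ⧸ q.asIdeal) q.asIdeal.ResidueField
          (algebraMap A q.asIdeal.ResidueField a / algebraMap A q.asIdeal.ResidueField b)) =
      ∑ q ∈ hS.toFinset, ((Module.length (Localization.AtPrime q.asIdeal)
        (LocalizedModule q.asIdeal.primeCompl M)).toNat : ℤ) *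
        CycAlg.ordFrac (A ⧸ q.asIdeal) q.asIdeal.ResidueField
          (algebraMap A q.asIdeal.ResidueField a / algebraMap A q.asIdeal.ResidueField b) :=
    finsum_mem_eq_finite_toFinset_sum _ hS
  rw [rhs]
  -- facts at a minimal prime
  have hq_facts : ∀ q ∈ hS.toFinset,
      locLen M q ≠ ⊤ ∧
      Ring.ord (A ⧸ q.asIdeal) (Ideal.Quotient.mk q.asIdeal a) ≠ ⊤ ∧
      Ring.ord (A ⧸ q.asIdeal) (Ideal.Quotient.mk q.asIdeal b) ≠ ⊤ ∧
      CycAlg.ordFrac (A ⧸ q.asIdeal) q.asIdeal.ResidueField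
          (algebraMap A q.asIdeal.ResidueField a / algebraMap A q.asIdeal.ResidueField b) =
        ((Ring.ord (A ⧸ q.asIdeal) (Ideal.Quotient.mk q.asIdeal a)).toNat : ℤ) -
          ((Ring.ord (A ⧸ q.asIdeal) (Ideal.Quotient.mk q.asIdeal b)).toNat : ℤ) := by
    intro q hq
    have hqmin : q.asIdeal ∈ minimalPrimes A := by
      rw [Set.Finite.mem_toFinset] at hq
      exact hq
    haveI : Ring.KrullDimLE 1 (A ⧸ q.asIdeal) := by
      rw [Ring.krullDimLE_iff]
      exact (ringKrullDim_quotient_le q.asIdeal).trans (le_of_eq hA)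
    have hane : Ideal.Quotient.mk q.asIdeal a ≠ 0 := by
      rw [Ne, Ideal.Quotient.eq_zero_iff_mem]
      exact fun h => Set.disjoint_left.mp
        (Ideal.disjoint_nonZeroDivisors_of_mem_minimalPrimes hqmin) h ha
    have hbne : Ideal.Quotient.mk q.asIdeal b ≠ 0 := by
      rw [Ne, Ideal.Quotient.eq_zero_iff_mem]
      exact fun h => Set.disjoint_left.mp
        (Ideal.disjoint_nonZeroDivisors_of_mem_minimalPrimes hqmin) h hb
    refine ⟨locLen_ne_top_of_minimal q hqmin,
      Ring.ord_ne_top (mem_nonZeroDivisors_iff_ne_zero.mpr hane),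
      Ring.ord_ne_top (mem_nonZeroDivisors_iff_ne_zero.mpr hbne), ?_⟩
    have := ordFrac_div (A ⧸ q.asIdeal) q.asIdeal.ResidueField hane hbne
    rw [← this]
    rfl
  -- lift everything to natural numbers
  have hα : Module.length A (M ⧸ N₁) ≠ ⊤ := by
    intro h
    rw [e1, h, top_add] at hfin
    exact lt_irrefl _ hfin
  have hβ : Module.length A (M ⧸ P) ≠ ⊤ := by
    intro h
    rw [e2, h, top_add] at hfin
    exact lt_irrefl _ hfin
  have key := arith_aux hS.toFinset
    (fun q => (Ring.ord (A ⧸ q.asIdeal) (Ideal.Quotient.mk q.asIdeal a)).toNat)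
    (fun q => (Ring.ord (A ⧸ q.asIdeal) (Ideal.Quotient.mk q.asIdeal b)).toNat)
    (fun q => (locLen M q).toNat)
    (Module.length A (M ⧸ N₁)).toNat (Module.length A (M ⧸ P)).toNat ?_
  · rw [key]
    refine Finset.sum_congr rfl fun q hq => ?_
    rw [(hq_facts q hq).2.2.2]
    rfl
  · rw [ENat.natCast_toNat hα, ENat.natCast_toNat hβ]
    have ca : ∑ q ∈ hS.toFinset,
        (((Ring.ord (A ⧸ q.asIdeal) (Ideal.Quotient.mk q.asIdeal a)).toNat : ℕ∞) *
          ((locLen M q).toNat : ℕ∞)) = rl JM N₁ := by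
      rw [sa']
      refine Finset.sum_congr rfl fun q hq => ?_
      rw [ENat.natCast_toNat (hq_facts q hq).1, ENat.natCast_toNat (hq_facts q hq).2.1]
    have cb : ∑ q ∈ hS.toFinset,
        (((Ring.ord (A ⧸ q.asIdeal) (Ideal.Quotient.mk q.asIdeal b)).toNat : ℕ∞) *
          ((locLen M q).toNat : ℕ∞)) = rl JM P := by
      rw [sb']
      refine Finset.sum_congr rfl fun q hq => ?_
      rw [ENat.natCast_toNat (hq_facts q hq).1, ENat.natCast_toNat (hq_facts q hq).2.2.1]
    rw [ca, cb, ← e1, ← e2]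

end Groth.Agent.S6480
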