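import Groth.Statements.S6483
import Groth.Agent.Lib.Helper2.EnvSeq3
import Groth.Prelude.Def_Bivar

set_option autoImplicit false
universe u
open CategoryTheory AlgebraicGeometry
open CategoryTheory.Limits
open Cyc

namespace Groth.Agent.S6483

/-- Let f : Y → X be an envelope and p, q : Y ×_X Y → Y the two projections. If a k-cycle β on Y has
f_*β ∼_rat 0 on X, then β ∼_rat p_*γ − q_*γ for some k-cycle γ on Y ×_X Y. Together with
surjectivity of f_* and f_* p_* = f_* q_*, this is the exact sequence CH_k(Y ×_X Y) → CH_k(Y) →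
CH_k(X) → 0. An envelope is a proper, completely decomposed morphism (every point of the target has
a point over it with trivial residue field extension; this prelude's Cyc.IsCompletelyDecomposed).
Here a pair (X, δ) with Cyc.IsSetup plays the role of a scheme locally of finite type over the base
(S, δ) (X locally Noetherian with universally catenary local rings, δ a dimension function), and
Cyc.DeltaCompat records that the dimension function upstairs is the induced one. -/
theorem result (X Y : Scheme.{u}) (δ : X → ℤ) (δY : Y → ℤ) (hX : Cyc.IsSetup X δ) (hY : Cyc.IsSetup Y δY) (f : Y ⟶ X) [IsProper f] (hcd : Cyc.IsCompletelyDecomposed f) (hδ : Cyc.DeltaCompat f δY δ) (δ2 : ↥(pullback f f) → ℤ) (h2 : Cyc.IsSetup (pullback f f) δ2) (hδ2 : Cyc.DeltaCompat (pullback.fst f f) δ2 δY) (k : ℤ) (β : AlgebraicCycle Y ℤ) (hβ : β ∈ Cyc.Zk Y δY k) (h0 : Cyc.RatEquivZero δ k (AlgebraicCycle.map f δY δ β)) : ∃ γ : AlgebraicCycle (pullback f f) ℤ, γ ∈ Cyc.Zk (pullback f f) δ2 k ∧ Cyc.RatEquiv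 δY k β (AlgebraicCycle.map (pullback.fst f f) δ2 δY γ - AlgebraicCycle.map (pullback.snd f f) δ2 δY γ) := by
  classical
  haveI := hX.1
  haveI := hY.1
  choose σ hσ1 hσ2 using hcd
  obtain ⟨ι, ξ, r, hξ, hr, hlf, hsum⟩ := h0
  obtain ⟨β', hβ'k, hβ'r, hβ'⟩ :=
    Groth.Agent.Lib.helper2.EnvSeq.exists_lift_of_family δ δY hX hY f hδ σ hσ1 hσ2 k ξ r hξ hr hlf
  obtain ⟨b, hb⟩ : ∃ b : AlgebraicCycle Y ℤ, b = β - β' := ⟨_, rfl⟩
  have hby : ∀ y, b y = β y - β' y := by
    intro y
    rw [hb]
    rfl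
  have hbk : b ∈ Cyc.Zk Y δY k := by
    intro y hy
    rw [hby, hβ y hy, hβ'k y hy, sub_zero]
  have hfb : ∀ x, AlgebraicCycle.map f δY δ b x = 0 := by
    intro x
    have h1 : AlgebraicCycle.map f δY δ b =
        AlgebraicCycle.map f δY δ β + -AlgebraicCycle.map f δY δ β' := by
      rw [hb, sub_eq_add_neg, Bivar.cycMap_add, Bivar.cycMap_neg]
    rw [h1]
    show AlgebraicCycle.map f δY δ β x + -(AlgebraicCycle.map f δY δ β' x) = 0
    rw [hβ' x, hsum x]
    ring
  choose Z hZ1 hZ2 hZ3 using fun y =>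
    Groth.Agent.Lib.helper2.EnvSeq.exists_point f y (σ (f y)) (hσ1 (f y)) (hσ2 (f y))
  obtain ⟨γ, hγ⟩ := Groth.Agent.Lib.helper2.EnvSeq.exists_cycle_gam f Z b
  refine ⟨γ, ?_, ?_⟩
  · intro z hz
    rw [hγ]
    by_cases he : z = Z (pullback.fst f f z)
    · rw [if_pos he]
      apply hbk
      intro hk
      apply hz
      have hbij : Function.Bijective ((pullback.fst f f).residueFieldMap z).hom := by
        rw [he]
        exact hZ3 _
      rw [(Groth.Agent.Lib.helper2.EnvSeq.delta_eq_and_residueDegree (pullback.fst f f) δ2 δY hδ2 z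
        hbij.2).1]
      exact hk
    · rw [if_neg he]
  · have hcyc : β - (AlgebraicCycle.map (pullback.fst f f) δ2 δY γ -
        AlgebraicCycle.map (pullback.snd f f) δ2 δY γ) = β' := by
      ext y
      show β y - (AlgebraicCycle.map (pullback.fst f f) δ2 δY γ y -
        AlgebraicCycle.map (pullback.snd f f) δ2 δY γ y) = β' y
      rw [Groth.Agent.Lib.helper2.EnvSeq.map_fst_gam f δY δ2 hδ2 Z hZ1 hZ3 b γ hγ y,
        Groth.Agent.Lib.helper2.EnvSeq.map_snd_gam f δ δY δ2 hδ hδ2 σ hσ1 hσ2 Z hZ1 hZ2 hZ3 b γ hγ y]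
      have h0' : (if y = σ (f y) then AlgebraicCycle.map f δY δ b (f y) else 0) = 0 := by
        split_ifs
        · exact hfb _
        · rfl
      rw [h0', hby y]
      ring
    show Cyc.RatEquivZero δY k _
    rw [hcyc]
    exact hβ'r

end Groth.Agent.S6483
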