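import Groth.Statements.S6493
import Mathlib

set_option autoImplicit false
universe u
open CategoryTheory AlgebraicGeometry
open Cyc

namespace Groth.Agent.S6493

/-- Suppose Z ⊂ X is a closed subscheme whose δ-dimension is at most k, and pick a point ξ of Z
satisfying δ(ξ) = k. In that case Z has an irreducible component whose generic point is ξ; and at
every generic point ξ' of an irreducible component of Z (every point of Z maximal under
generalization) the length of O_{Z,ξ'} over O_{X,ξ'} (= its length over itself) is finite. Here a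
pair (X, δ) with Cyc.IsSetup plays the role of a scheme locally of finite type over the base (S, δ)
(X locally Noetherian with universally catenary local rings, δ a dimension function). -/
theorem result (X Z : Scheme.{u}) (δ : X → ℤ) (hX : Cyc.IsSetup X δ) (i : Z ⟶ X) [IsClosedImmersion i] (k : ℤ) (hZ : ∀ z : Z, δ (i z) ≤ k) (ξ : Z) (hξ : δ (i ξ) = k) : (∀ z : Z, z ⤳ ξ → z = ξ) ∧ ∀ ξ' : Z, (∀ z : Z, z ⤳ ξ' → z = ξ') → Module.length ↑(Z.presheaf.stalk ξ') ↑(Z.presheaf.stalk ξ') < ⊤ := by
  obtain ⟨hLN, -, hdim⟩ := hX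
  haveI := hLN
  haveI : IsLocallyNoetherian Z := LocallyOfFiniteType.isLocallyNoetherian i
  refine ⟨fun z hz => ?_, fun ξ' hξ' => ?_⟩
  · by_contra hne
    have h1 : i z ⤳ i ξ := hz.map i.continuous
    have h2 : i z ≠ i ξ := fun h => hne (i.isEmbedding.injective h)
    have h3 := (hdim (i z) (i ξ) h1 h2).1
    have h4 := hZ z
    omega
  · haveI : Ring.KrullDimLE 0 ↑(Z.presheaf.stalk ξ') := by
      refine Ring.krullDimLE_zero_iff.mpr fun q hq => ?_
      have h1 : Z.fromSpecStalk ξ' ⟨q, hq⟩ ⤳ ξ' := by
        have : Z.fromSpecStalk ξ' ⟨q, hq⟩ ∈ Set.range (Z.fromSpecStalk ξ') := ⟨_, rfl⟩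
        rw [Scheme.range_fromSpecStalk] at this
        exact this
      have h2 := hξ' _ h1
      have h3 : Z.fromSpecStalk ξ' ⟨q, hq⟩ =
          Z.fromSpecStalk ξ' (IsLocalRing.closedPoint (Z.presheaf.stalk ξ')) := by
        rw [h2, Scheme.fromSpecStalk_closedPoint]
      have h4 := (Z.fromSpecStalk ξ').isEmbedding.injective h3
      have h5 : q = IsLocalRing.maximalIdeal (Z.presheaf.stalk ξ') :=
        congrArg PrimeSpectrum.asIdeal h4
      rw [h5]
      exact IsLocalRing.maximalIdeal.isMaximal _
    haveI : IsArtinianRing ↑(Z.presheaf.stalk ξ') :=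
      isArtinianRing_iff_krullDimLE_zero.mpr inferInstance
    exact (Module.length_ne_top_iff.mpr ((isArtinianRing_iff_isFiniteLength _).mp inferInstance)).lt_top

end Groth.Agent.S6493
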