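import Groth.Statements.S6501
import Mathlib
import Groth.Agent.Lib.Helper22.DPPullback

set_option autoImplicit false
universe u
open DPow

namespace Groth.Agent.S6501

section helpers

section helpers
open Finset TensorProduct

/-- the family of "divided powers" of an element -/
def HasDP {A : Type u} [CommRing A] (I : Ideal A) (x : A) : Prop :=
  ∃ a : ℕ → A, a 0 = 1 ∧ (∀ k, 1 ≤ k → a k ∈ I) ∧ ∀ k, (k.factorial : A) * a k = x ^ k

lemma hasDP_zero {A : Type u} [CommRing A] (I : Ideal A) : HasDP I 0 := by
  refine ⟨fun k => if k = 0 then 1 else 0, by simp, ?_, ?_⟩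
  · intro k hk
    have : k ≠ 0 := by omega
    simp [this]
  · intro k
    by_cases hk : k = 0
    · simp [hk]
    · simp [hk]

lemma hasDP_smul {A : Type u} [CommRing A] (I : Ideal A) (c x : A) (h : HasDP I x) :
    HasDP I (c * x) := by
  obtain ⟨a, ha0, haI, ha⟩ := h
  refine ⟨fun k => c ^ k * a k, by simp [ha0], fun k hk => I.mul_mem_left _ (haI k hk), ?_⟩
  intro k
  rw [mul_pow, ← ha k]; ring

lemma hasDP_add {A : Type u} [CommRing A] (I : Ideal A) (x y : A) (hx : HasDP I x)
    (hy : HasDP I y) : HasDP I (x + y) := by
  obtain ⟨a, ha0, haI, ha⟩ := hx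
  obtain ⟨b, hb0, hbI, hb⟩ := hy
  refine ⟨fun n => ∑ k ∈ range (n + 1), a k * b (n - k), by simp [ha0, hb0], ?_, ?_⟩
  · intro n hn
    apply I.sum_mem
    intro k hk
    by_cases hk0 : 1 ≤ k
    · exact I.mul_mem_right _ (haI k hk0)
    · have : 1 ≤ n - k := by omega
      exact I.mul_mem_left _ (hbI _ this)
  · intro n
    rw [add_pow, Finset.mul_sum]
    apply Finset.sum_congr rfl
    intro k hk
    have hkn : k ≤ n := Nat.lt_succ_iff.mp (Finset.mem_range.mp hk)
    rw [← ha k, ← hb (n - k)]
    have h1 : (n.factorial : A) = (n.choose k : A) * (k.factorial : A) * ((n - k).factorial : A) := by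
      rw [← Nat.choose_mul_factorial_mul_factorial hkn]; push_cast; ring
    rw [h1]; ring

end helpers


end helpers

/-- Let A be a commutative ring whose additive group is torsion free and I an ideal of A. Then I carries
at most one divided power structure, and it carries one if and only if I is generated by a set S
such that for every x in S and every n ≥ 1 the power x^n lies in the ideal generated by the products
of n! with elements of I. -/
theorem result {A : Type u} [CommRing A] [IsAddTorsionFree A] (I : Ideal A) :
    Subsingleton (DividedPowers I) ∧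
    (Nonempty (DividedPowers I) ↔ ∃ S : Set A, Ideal.span S = I ∧
      ∀ x ∈ S, ∀ n : ℕ, 1 ≤ n → x ^ n ∈ Ideal.span {(Nat.factorial n : A)} * I) := by
  classical
  refine ⟨⟨fun γ γ' => ?_⟩, ⟨?_, ?_⟩⟩
  · apply DividedPowers.ext
    intro n x hx
    have h1 := γ.factorial_mul_dpow_eq_pow (n := n) hx
    have h2 := γ'.factorial_mul_dpow_eq_pow (n := n) hx
    rw [← nsmul_eq_mul] at h1 h2
    exact nsmul_right_injective (Nat.factorial_ne_zero n) (h1.trans h2.symm)
  · rintro ⟨γ⟩
    refine ⟨I, Ideal.span_eq I, fun x hx n hn => ?_⟩
    rw [← γ.factorial_mul_dpow_eq_pow hx]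
    exact Ideal.mul_mem_mul (Ideal.mem_span_singleton_self _) (γ.dpow_mem (by omega) hx)
  · rintro ⟨S, hS, hpow⟩
    have hSI : S ⊆ I := by rw [← hS]; exact Ideal.subset_span
    -- every element of `I` has divided powers
    have hall : ∀ x ∈ I, HasDP I x := by
      intro x hx
      rw [← hS] at hx
      refine Submodule.span_induction (p := fun x _ => HasDP I x) ?_ (hasDP_zero I) ?_ ?_ hx
      · intro x hx
        have : ∀ n : ℕ, ∃ y : A, (1 ≤ n → y ∈ I) ∧ (n.factorial : A) * y = x ^ n := by
          intro n
          by_cases hn : 1 ≤ n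
          · obtain ⟨z, hz, hzx⟩ := Ideal.mem_span_singleton_mul.mp (hpow x hx n hn)
            exact ⟨z, fun _ => hz, hzx⟩
          · have : n = 0 := by omega
            subst this
            exact ⟨1, fun h => absurd h hn, by simp⟩
        choose a ha using this
        refine ⟨fun n => if n = 0 then 1 else a n, by simp, ?_, ?_⟩
        · intro k hk
          have : k ≠ 0 := by omega
          simp only [this, if_false]
          exact (ha k).1 hk
        · intro k
          by_cases hk : k = 0
          · simp [hk]
          · simp only [hk, if_false]; exact (ha k).2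
      · intro x y _ _ hx hy; exact hasDP_add I x y hx hy
      · intro c x _ hx; exact hasDP_smul I c x hx
    -- the rational model
    have hflat : Module.Flat ℤ A := inferInstance
    let f : A →+* (TensorProduct ℤ ℚ A) :=
      (Algebra.TensorProduct.includeRight : A →ₐ[ℤ] TensorProduct ℤ ℚ A).toRingHom
    have hf : Function.Injective f :=
      Algebra.TensorProduct.includeRight_injective (R := ℤ) (A := ℚ) (B := A)
        (by intro a b h; exact_mod_cast h)
    let J : Ideal (TensorProduct ℤ ℚ A) := I.map f
    let δ : DividedPowers J := DividedPowers.RatAlgebra.dividedPowers J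
    obtain ⟨γ, -⟩ := Groth.Agent.Lib.helper22.exists_dividedPowers_of_injective f hf I δ
      (fun x hx => Ideal.mem_map_of_mem f hx) (by
        intro x hx n hn
        obtain ⟨a, -, haI, ha⟩ := hall x hx
        refine ⟨a n, haI n (by omega), ?_⟩
        have hxJ : f x ∈ J := Ideal.mem_map_of_mem f hx
        show f (a n) = (DividedPowers.RatAlgebra.dividedPowers J).dpow n (f x)
        rw [DividedPowers.RatAlgebra.dpow_apply, if_pos hxJ, ← map_pow, ← ha n, map_mul,
          map_natCast]
        rw [Ring.inverse_mul_cancel_left _ _ (IsUnit.natCast_factorial_of_algebra ℚ n)])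
    exact ⟨γ⟩

end Groth.Agent.S6501
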