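import Groth.Statements.S6512
import Groth.Agent.Lib.Helper25.MVDer

set_option autoImplicit false
universe u
open CategoryTheory
attribute [local instance] HasDerivedCategory.standard
open DCoh

namespace Groth.Agent.S6512

open AlgebraicGeometry CategoryTheory.Limits in
/-- `Γ(X, j_{T*} M) = Γ(T, M)` -/
noncomputable def gammaIso {X : Scheme.{u}} (T : X.Opens) :
    Scheme.Modules.pushforward T.ι ⋙ DCoh.gammaAb X ≅ DCoh.gammaAb (T : Scheme.{u}) :=
  NatIso.ofComponents (fun _ => Iso.refl _) (fun _ => by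
    simp only [Iso.refl_hom, Category.comp_id, Category.id_comp]
    rfl)

open AlgebraicGeometry CategoryTheory.Limits in
/-- If a scheme X is the union of two opens U and V, then for every E ∈ D(O_X) there is a distinguished
triangle RΓ(X, E) → RΓ(U, E) ⊕ RΓ(V, E) → RΓ(U ∩ V, E) → RΓ(X, E)[1] in D(Ab), where RΓ(U, E) means
RΓ(U, E|_U). The objects are the stated ones; the morphisms are only asserted to exist (the long
exact cohomology sequence follows by applying the homological functor H^0). (The published statement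
is for ringed spaces; this row is for schemes.) -/
theorem result {X : Scheme.{u}} (U V : X.Opens) (hUV : U ⊔ V = ⊤)
    [DCoh.HasRΓ X] [DCoh.HasRΓ (U : Scheme.{u})] [DCoh.HasRΓ (V : Scheme.{u})] [DCoh.HasRΓ (U ⊓ V : X.Opens)]
    [PreservesFiniteLimits (Scheme.Modules.restrictFunctor U.ι)]
    [PreservesFiniteLimits (Scheme.Modules.restrictFunctor V.ι)]
    [PreservesFiniteLimits (Scheme.Modules.restrictFunctor (U ⊓ V).ι)] (E : DCoh.D X) :
    ∃ (a : (DCoh.RΓ X).obj E ⟶ ((DCoh.RΓ (U : Scheme.{u})).obj ((DCoh.restrictD U.ι).obj E) ⊞ (DCoh.RΓ (V : Scheme.{u})).obj ((DCoh.restrictD V.ι).obj E))) (b : ((DCoh.RΓ (U : Scheme.{u})).obj ((DCoh.restrictD U.ι).obj E) ⊞ (DCoh.RΓ (V : Scheme.{u})).obj ((DCoh.restrictD V.ι).obj E)) ⟶ (DCoh.RΓ (U ⊓ V : X.Opens)).obj ((DCoh.restrictD (U ⊓ V).ι).obj E)) (c : (DCoh.RΓ (U ⊓ V : X.Opens)).obj ((DCoh.restrictD (U ⊓ V).ι).obj E) ⟶ ((DCoh.RΓ X).obj E)⟦(1 : ℤ)⟧),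
      Pretriangulated.Triangle.mk a b c ∈ Pretriangulated.distinguishedTriangles := by
  exact Groth.Agent.Lib.Helper25.MVDer.exists_mv_triangle (DCoh.gammaAb X) hUV
    (DCoh.gammaAb (U : Scheme.{u})) (gammaIso U)
    (DCoh.RΓ (U : Scheme.{u})) _
    (Groth.Agent.Lib.Helper25.MVDer.isIso_totalRightDerivedUnit (DCoh.gammaAb (U : Scheme.{u})))
    (DCoh.gammaAb (V : Scheme.{u})) (gammaIso V)
    (DCoh.RΓ (V : Scheme.{u})) _
    (Groth.Agent.Lib.Helper25.MVDer.isIso_totalRightDerivedUnit (DCoh.gammaAb (V : Scheme.{u})))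
    (DCoh.gammaAb ((U ⊓ V : X.Opens) : Scheme.{u})) (gammaIso (U ⊓ V))
    (DCoh.RΓ ((U ⊓ V : X.Opens) : Scheme.{u})) _
    (Groth.Agent.Lib.Helper25.MVDer.isIso_totalRightDerivedUnit
      (DCoh.gammaAb ((U ⊓ V : X.Opens) : Scheme.{u})))
    E ((DCoh.RΓ X).obj E)
    (fun I hI e => Groth.Agent.Lib.Helper25.MVDer.nonempty_iso_totalRightDerived
      (DCoh.gammaAb X) E I hI e)

end Groth.Agent.S6512
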