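import Groth.Statements.S6518
import Mathlib
import Groth.Agent.Lib.Helper25.DCohSingle
import Groth.Agent.S0890
-- import your own Groth.Agent.* helpers here

set_option autoImplicit false
universe u
open CategoryTheory
attribute [local instance] HasDerivedCategory.standard
open DCoh

namespace Groth.Agent.S6518

open AlgebraicGeometry CategoryTheory.Limits Groth.Agent.Lib.helper25.DCohPC
  Groth.Agent.Lib.helper25.DCohSingle in
lemma isZero_HD_inD {X : Scheme.{u}} (F : X.Modules) (i : ℤ) (hi : i ≠ 0) :
    IsZero (DCoh.HD (DCoh.inD X F) i) :=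
  isZero_homology_Q_single F i hi

open AlgebraicGeometry CategoryTheory.Limits Groth.Agent.Lib.helper25.DCohPC
  Groth.Agent.Lib.helper25.DCohSingle in
noncomputable def HD_inD_iso {X : Scheme.{u}} (F : X.Modules) : DCoh.HD (DCoh.inD X F) 0 ≅ F :=
  (singleH0Iso (C := X.Modules)).app F

open AlgebraicGeometry CategoryTheory.Limits Groth.Agent.Lib.helper25.DCohPC
  Groth.Agent.Lib.helper25.DCohSingle in
noncomputable def restrictD_inD_iso {X : Scheme.{u}} (F : X.Modules) (V : X.Opens) :
    (DCoh.restrictD V.ι).obj (DCoh.inD X F) ≅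
      DerivedCategory.Q.obj ((HomologicalComplex.single (V : Scheme.{u}).Modules (ComplexShape.up ℤ) 0).obj
        ((Scheme.Modules.restrictFunctor V.ι).obj F)) :=
  ((Scheme.Modules.restrictFunctor V.ι).mapDerivedCategorySingleFunctor 0).app F


open AlgebraicGeometry in
/-- Let X be a scheme and F an O_X-module, viewed as an object of D(O_X) placed in degree 0. Then (1)
finite type of the O_X-module F is equivalent to F being 0-pseudo-coherent, and (2) F admits a
finite presentation as an O_X-module exactly when it is (−1)-pseudo-coherent. (The published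
statement is for ringed spaces; this row is for schemes.) -/
theorem result {X : Scheme.{u}} (F : X.Modules) :
    (DCoh.IsPseudoCoherentD 0 (DCoh.inD X F) ↔ CohB1.IsFT F) ∧
    (DCoh.IsPseudoCoherentD (-1) (DCoh.inD X F) ↔ CohB1.IsFP F) := by
  refine ⟨⟨fun hpc => ?_, fun hFT => ?_⟩, ⟨fun hpc => ?_, fun hFP => ?_⟩⟩
  · have h := (Groth.Agent.S0890.result 0 (DCoh.inD X F) hpc).1
      (fun i hi => isZero_HD_inD F i (by omega))
    exact Groth.Agent.Lib.helper7.CohKer.isFiniteType_of_epi (HD_inD_iso F).hom h
  · refine Groth.Agent.Lib.helper25.DCohPC.isPseudoCoherentD_of_pcData (fun x => ?_)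
    obtain ⟨ι, U, G, hfin, hcov, -⟩ :=
      Groth.Agent.Lib.helper16.CohFinite.exists_isOpenCover_generators F hFT
    have hx : x ∈ (⨆ i, U i : X.Opens) := by rw [hcov.iSup_eq_top]; trivial
    obtain ⟨i, hi⟩ := TopologicalSpace.Opens.mem_iSup.mp hx
    have := hfin i
    exact ⟨U i, hi, Groth.Agent.Lib.helper25.DCohPC.PCData.of_iso
      (Groth.Agent.Lib.helper25.DCohSingle.pcData_zero_of_generators _ (G i))
      (restrictD_inD_iso F (U i)).symm⟩
  · have h := (Groth.Agent.S0890.result (-1) (DCoh.inD X F) hpc).2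
      (fun i hi => isZero_HD_inD F i (by omega))
    have h0 : ((-1 : ℤ) + 1) = 0 := by norm_num
    rw [h0] at h
    exact (SheafOfModules.isFinitePresentation X.ringCatSheaf).prop_of_iso (HD_inD_iso F) h
  · refine Groth.Agent.Lib.helper25.DCohPC.isPseudoCoherentD_of_pcData (fun x => ?_)
    obtain ⟨ι, U, P, hfin, hcov, -⟩ :=
      Groth.Agent.Lib.helper16.CohFP.exists_isOpenCover_presentations F hFP
    have hx : x ∈ (⨆ i, U i : X.Opens) := by rw [hcov.iSup_eq_top]; trivial
    obtain ⟨i, hi⟩ := TopologicalSpace.Opens.mem_iSup.mp hx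
    have := hfin i
    exact ⟨U i, hi, Groth.Agent.Lib.helper25.DCohPC.PCData.of_iso
      (Groth.Agent.Lib.helper25.DCohSingle.pcData_negOne_of_presentation _ (P i))
      (restrictD_inD_iso F (U i)).symm⟩

end Groth.Agent.S6518
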