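import Groth.Statements.S6524
import Groth.Agent.Lib.Helper1.BaerAbstract
import Groth.Agent.Lib.Helper7.FreeYoneda

set_option autoImplicit false
universe u
open CategoryTheory
open CohSite

namespace Groth.Agent.S6524

open CategoryTheory.Limits Groth.Agent.Lib Groth.Agent.H1 Opposite

variable {C : Type u} [SmallCategory C] (J : GrothendieckTopology C)

/-- the inclusions of the subsheaves of the free abelian sheaves `ℤ_X`. -/
def genMono : MorphismProperty (Sheaf J AddCommGrpCat.{u}) :=
  MorphismProperty.ofHoms
    (fun (p : Σ X : C, Subobject (CohCx.freeSheaf J X)) => p.2.arrow)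

/-- a monomorphism of abelian sheaves through which all maps from the `ℤ_X` factor is an
isomorphism. -/
lemma isIso_of_factor {A B : Sheaf J AddCommGrpCat.{u}} (p : A ⟶ B) [Mono p]
    (h : ∀ (X : C) (f : CohCx.freeSheaf J X ⟶ B), ∃ a : CohCx.freeSheaf J X ⟶ A, a ≫ p = f) :
    IsIso p := by
  have hmono : Mono p.hom := (inferInstance : Mono ((sheafToPresheaf J _).map p))
  have happ : ∀ X : Cᵒᵖ, IsIso (p.hom.app X) := by
    intro X
    have hm : Mono (p.hom.app X) := by
      rw [NatTrans.mono_iff_mono_app] at hmono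
      exact hmono X
    have he : Epi (p.hom.app X) := by
      rw [AddCommGrpCat.epi_iff_surjective]
      intro s
      obtain ⟨a, ha⟩ := h X.unop ((helper7.FreeYoneda.homEquiv J X.unop B).symm s)
      refine ⟨helper7.FreeYoneda.homEquiv J X.unop A a, ?_⟩
      have := helper7.FreeYoneda.homEquiv_naturality_right J X.unop p a
      rw [ha, Equiv.apply_symm_apply] at this
      exact this.symm
    exact isIso_of_mono_of_epi _
  have : IsIso p.hom := NatIso.isIso_of_isIso_app _
  have : IsIso ((sheafToPresheaf J AddCommGrpCat.{u}).map p) := this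
  exact isIso_of_reflects_iso p (sheafToPresheaf J AddCommGrpCat.{u})

lemma genMono_arrow (X : C) (S : Subobject (CohCx.freeSheaf J X)) : genMono J S.arrow :=
  MorphismProperty.ofHoms.mk (f := fun (p : Σ X : C, Subobject (CohCx.freeSheaf J X)) => p.2.arrow)
    (⟨X, S⟩ : Σ X : C, Subobject (CohCx.freeSheaf J X))

set_option backward.isDefEq.respectTransparency false in
lemma hyp_genMono (X₀ : C) : Baer.Hyp (genMono J) where
  iso_le := MorphismProperty.isomorphisms_le_pushouts _
    (fun _ => ⟨_, _, _, genMono_arrow J X₀ ⊤, 0, inferInstance⟩)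
  exists_pushouts {A B} p _ hp := by
    have : ∃ (X : C) (f : CohCx.freeSheaf J X ⟶ B),
        ¬ ∃ a : CohCx.freeSheaf J X ⟶ A, a ≫ p = f := by
      by_contra hcon
      push Not at hcon
      exact hp (isIso_of_factor J p hcon)
    obtain ⟨X, f, hf⟩ := this
    refine ⟨pushout (pullback.fst p f) (pullback.snd p f), pushout.inl _ _,
      pushout.desc p f pullback.condition,
      ⟨_, _, _, (Subobject.underlyingIso _).hom ≫ pullback.fst _ _,
      pushout.inr _ _, genMono_arrow J X (Subobject.mk (pullback.snd p f)),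
      (IsPushout.of_hasPushout (pullback.fst p f) (pullback.snd p f)).of_iso
        ((Subobject.underlyingIso _).symm) (Iso.refl _) (Iso.refl _)
        (Iso.refl _) (by simp) (by simp) (by simp) (by simp)⟩, ?_, ?_, by simp⟩
    · intro h
      apply hf
      refine ⟨pushout.inr _ _ ≫ inv (pushout.inl (pullback.fst p f) (pullback.snd p f)), ?_⟩
      have e : inv (pushout.inl (pullback.fst p f) (pullback.snd p f)) ≫ p =
          pushout.desc p f pullback.condition := by
        rw [IsIso.inv_comp_eq, pushout.inl_desc]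
      rw [Category.assoc, e, pushout.inr_desc]
    · exact (IsPushout.of_hasPushout _ _).mono_of_isPullback_of_mono
        (IsPullback.of_hasPullback p f) _ (by simp) (by simp)

theorem main (I : Sheaf J AddCommGrpCat.{u})
    (h : ∀ (X : C) (S : Sheaf J AddCommGrpCat.{u}) (i : S ⟶ CohCx.freeSheaf J X) [Mono i] (φ : S ⟶ I),
      ∃ ψ : CohCx.freeSheaf J X ⟶ I, i ≫ ψ = φ) :
    Injective I := by
  by_cases hC : Nonempty C
  · obtain ⟨X₀⟩ := hC
    apply Baer.injective_of_rlp.{u} (hyp_genMono J X₀) I
    rintro _ _ _ ⟨⟨X, S⟩⟩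
    constructor
    intro a b sq
    obtain ⟨ψ, hψ⟩ := h X _ S.arrow a
    exact ⟨⟨{ l := ψ, fac_left := hψ, fac_right := (isZero_zero _).eq_of_tgt _ _ }⟩⟩
  · have hE : IsEmpty C := not_nonempty_iff.1 hC
    constructor
    intro A B g f _
    refine ⟨0, ?_⟩
    apply Sheaf.hom_ext
    ext X
    exact (hE.false X.unop).elim

/-- Let (C, J) be a small site and I an abelian sheaf. Suppose that for every object X of C, every
abelian subsheaf S of the free abelian sheaf Z_X^# on X (given as a monomorphism S → Z_X^#) and
every morphism S → I, the morphism extends to Z_X^# → I. Then I is an injective abelian sheaf. -/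
theorem result {C : Type u} [SmallCategory C]
    (J : GrothendieckTopology C) (I : Sheaf J AddCommGrpCat.{u})
    (h : ∀ (X : C) (S : Sheaf J AddCommGrpCat.{u}) (i : S ⟶ CohCx.freeSheaf J X) [Mono i] (φ : S ⟶ I),
      ∃ ψ : CohCx.freeSheaf J X ⟶ I, i ≫ ψ = φ) :
    Injective I := by
  exact main J I h

end Groth.Agent.S6524
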