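import Groth.Statements.S6538
import Mathlib
import Groth.Agent.Lib.Helper18.CurveSerre
import Groth.Agent.Lib.Lead.CurveEuler
import Groth.Agent.Lib.Helper12.InvDual2
import Groth.Agent.Lib.Helper20.TensorEquiv
import Groth.Agent.Lib.Helper20.GGDescent
import Groth.Agent.S1534

set_option autoImplicit false
universe u
open CategoryTheory CategoryTheory.Limits AlgebraicGeometry
attribute [local instance] HasDerivedCategory.standard
open Curves

namespace Groth.Agent.S6538

open Groth.Agent.Lib.Lead.ModTensor Groth.Agent.Lib.Helper20.TensorEquiv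

/-- on a scheme over `k` with `h^0(O) = 1`, an invertible globally generated module which is not trivial has no
nonzero map to `O` -/
theorem hom_eq_zero (k : Type u) [Field k] (X : Scheme.{u}) [X.Over (Spec (CommRingCat.of k))]
    (h0 : Module.finrank k (Coh.HH X (Coh.structureModule X) 0) = 1)
    (L : X.Modules) (hL : PicF.IsInvertible L) (hgg : Curv2.IsGloballyGenerated L)
    (hnt : IsEmpty (L ≅ Coh.structureModule X)) (ψ : L ⟶ Coh.structureModule X) : ψ = 0 := by
  obtain ⟨ι, p, hp⟩ := hgg
  haveI := hp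
  have hfr : Module.finrank k (Coh.structureModule X ⟶ Coh.structureModule X) = 1 := by
    rw [(Groth.Agent.Lib.Helper18.ExtUnit.ρLin k (Coh.structureModule X)).finrank_eq, h0]
  have hid : (𝟙 (Coh.structureModule X)) ≠ 0 := by
    intro h1
    have : Subsingleton (Coh.structureModule X ⟶ Coh.structureModule X) := by
      refine subsingleton_of_forall_eq 0 (fun f => ?_)
      rw [← Category.id_comp f, h1, zero_comp]
    have := Module.finrank_zero_of_subsingleton (R := k)
      (M := (Coh.structureModule X ⟶ Coh.structureModule X))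
    omega
  have key : ∀ i : ι, (SheafOfModules.ιFree i ≫ p) ≫ ψ = 0 := by
    intro i
    by_contra hne
    obtain ⟨c, hc⟩ := (finrank_eq_one_iff_of_nonzero' _ hid).mp hfr ((SheafOfModules.ιFree i ≫ p) ≫ ψ)
    have hc0 : c ≠ 0 := by
      rintro rfl
      rw [zero_smul] at hc
      exact hne hc.symm
    -- `ψ` is a split epimorphism
    let s : Coh.structureModule X ⟶ L := SheafOfModules.ιFree i ≫ p
    have hc' : c • 𝟙 (Coh.structureModule X) = s ≫ ψ := hc
    have hsplit : (c⁻¹ • s) ≫ ψ = 𝟙 _ := by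
      rw [Linear.smul_comp, ← hc', smul_smul, inv_mul_cancel₀ hc0, one_smul]
    haveI : Epi ψ := by
      haveI : IsSplitEpi ψ := ⟨⟨⟨_, hsplit⟩⟩⟩
      infer_instance
    haveI := Groth.Agent.Lib.helper12.InvDual.isIso_of_epi_of_isInvertible hL ψ
    exact hnt.false (asIso ψ)
  have h2 : p ≫ ψ = 0 := by
    refine Groth.Agent.Lib.helper20.GGDescent.free_hom_ext _ _ (fun i => ?_)
    rw [comp_zero, ← Category.assoc]
    exact key i
  exact (cancel_epi p).1 (h2.trans comp_zero.symm)

/-- Let X be proper over the field k, of dimension one, with H^0(X, O_X) = k, and let ω_X be its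
dualizing module (the degree -1 cohomology sheaf of f^! O for the structure morphism f, assuming
Rf_* on D_QCoh and its right adjoint exist). If L is an invertible O_X-module generated by its
global sections and L is not isomorphic to O_X, then ω_X ⊗ L has no first cohomology: H^1(X, ω_X ⊗
L) = 0. -/
theorem result (k : Type u) [Field k] (X : Scheme.{u}) [X.Over (Spec (CommRingCat.of k))] [IsProper (X ↘ (Spec (CommRingCat.of k)))] (hdim : topologicalKrullDim X = 1)
    (h0 : Module.finrank k (Coh.HH X (Coh.structureModule X) 0) = 1)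
    [DCoh.HasRpush (X ↘ (Spec (CommRingCat.of k)))] (h : DCoh.RpushPreservesQCoh (X ↘ (Spec (CommRingCat.of k)))) [DCoh.HasShriek (X ↘ (Spec (CommRingCat.of k))) h]
    (OY : DCoh.DQCoh (Spec (CommRingCat.of k))) (hOY : Nonempty (OY.obj ≅ DCoh.inD (Spec (CommRingCat.of k)) (Coh.structureModule (Spec (CommRingCat.of k)))))
    (L : X.Modules) (hL : PicF.IsInvertible L) (hgg : Curv2.IsGloballyGenerated L) (hnt : IsEmpty (L ≅ Coh.structureModule X)) :
    Subsingleton (Coh.HH X (CohB1.tensorMod (DCoh.dualizingMod (X ↘ (Spec (CommRingCat.of k))) h OY 1) L) 1) := by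
  obtain ⟨-, hCM, hequi⟩ := Groth.Agent.S1534.result k X hdim h0
  haveI : HasExt.{u} X.Modules := Groth.Agent.Lib.Helper20.LargeTwist.hasExt_modules X
  haveI : EnoughInjectives X.Modules :=
    Groth.Agent.Lib.Helper21.ModGroth.enoughInjectives_mod X.ringCatSheaf
  obtain ⟨M, hM, ⟨eLM⟩, ⟨eML⟩⟩ := Groth.Agent.Lib.helper12.InvDual.exists_inverse hL
  set ω := DCoh.dualizingMod (X ↘ (Spec (CommRingCat.of k))) h OY 1 with hω
  -- `H^0(M) = 0`
  have hM0 : Subsingleton (Coh.HH X M 0) := by
    refine subsingleton_of_forall_eq 0 (fun x => ?_)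
    obtain ⟨σ, rfl⟩ := (Groth.Agent.Lib.Helper20.SheafHomExt.ρ_bijective M).2 x
    have hψ := hom_eq_zero k X h0 L hL hgg hnt
      ((leftUnitor L).inv ≫ tensorMap σ (𝟙 L) ≫ eML.hom)
    have h1 : tensorMap σ (𝟙 L) = 0 := by
      have h2 : (leftUnitor L).hom ≫ ((leftUnitor L).inv ≫ tensorMap σ (𝟙 L) ≫ eML.hom) ≫ eML.inv
          = tensorMap σ (𝟙 L) := by simp
      rw [← h2, hψ, zero_comp, comp_zero]
    haveI := isEquivalence_tensorRight eLM
    have h3 : σ = 0 := by
      apply (tensorRight L).map_injective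
      rw [tensorRight_map, h1]
      exact (tensorMap_zero eLM _ _).symm
    rw [h3]
    exact (Groth.Agent.Lib.Helper18.ExtUnit.ρLin k M).map_zero
  -- `Ext^1(M, ω) = 0`
  have hMcoh : Coh.IsCoh M :=
    Groth.Agent.Lib.Lead.RankAdd.isCoh_of_isFinLocFreeOfRank
      ((Groth.Agent.Lib.helper16.FLF.isInvertible_iff_isFinLocFreeOfRank_one M).mp hM)
  obtain ⟨e1⟩ := (Groth.Agent.Lib.Helper18.CurveSerre.ext_dual k X h OY hOY hdim
    (fun x _ => hCM x) hequi M hMcoh 1).1 le_rfl
  have hExt : Subsingleton (Abelian.Ext.{u} M ω 1) := by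
    have : Subsingleton (Module.Dual k (Coh.HH X M (1 - 1))) := by
      show Subsingleton (Module.Dual k (Coh.HH X M 0))
      infer_instance
    exact e1.toEquiv.subsingleton
  -- `Ext^1(O, ω ⊗ L) = 0`
  haveI := isEquivalence_tensorRight eML
  have hExt2 : Subsingleton (Abelian.Ext.{u} (Coh.structureModule X) (CohB1.tensorMod ω L) 1) :=
    Groth.Agent.Lib.Helper20.ExtDim.subsingleton_ext_of_equivalence (tensorRight M)
      (leftUnitor M) ((compIso eLM).app ω) 1 hExt
  obtain ⟨u1⟩ := Groth.Agent.Lib.Helper18.ExtUnit.ext_unit_linearEquiv k (CohB1.tensorMod ω L) 1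
  exact u1.symm.toEquiv.subsingleton

end Groth.Agent.S6538
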