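import Groth.Statements.S6540
import Groth.Agent.Lib.Lead.CurveSec
-- import your own Groth.Agent.* helpers here

set_option autoImplicit false
set_option backward.isDefEq.respectTransparency false
universe u
open CategoryTheory CategoryTheory.Limits AlgebraicGeometry
open Curves

namespace Groth.Agent.S6540

/-- Let X be a proper curve over the field k (proper, integral, of dimension one) with H^0(X, O_X) = k
and genus 0. Then every invertible O_X-module of degree 0 is trivial, i.e. isomorphic to O_X. -/
theorem result (k : Type u) [Field k] (X : Scheme.{u}) [X.Over (Spec (CommRingCat.of k))]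
    [IsIntegral X] [IsProper (X ↘ (Spec (CommRingCat.of k)))] (hdim : topologicalKrullDim X = 1)
    (h0 : Module.finrank k (Coh.HH X (Coh.structureModule X) 0) = 1) (hg : Curv2.genus k X = 0)
    (L : X.Modules) (hL : PicF.IsInvertible L) (hdeg : Curv2.deg k X L 1 = 0) :
    Nonempty (L ≅ Coh.structureModule X) := by
  have hLc := Groth.Agent.Lib.Lead.CurveInv.isCoh_of_isInvertible X hL
  have hrr := Groth.Agent.Lib.Lead.CurveEuler.riemann_roch' k X hdim.le h0 L hLc.1 1
  rw [hdeg, hg] at hrr
  have hpos : 0 < Module.finrank k (Coh.HH X L 0) := by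
    by_contra hcon
    have : Module.finrank k (Coh.HH X L 0) = 0 := by omega
    rw [this] at hrr
    have hnn : (0 : ℤ) ≤ (Module.finrank k (Coh.HH X L 1) : ℤ) := Int.natCast_nonneg _
    simp at hrr
    omega
  obtain ⟨s, hs⟩ := Groth.Agent.Lib.Lead.CurveSec.exists_hom_ne_zero_of_finrank_pos k X L hpos
  have hO := Groth.Agent.Lib.helper11.InvMod.isInvertible_structureModule X
  have heq : Curv2.deg k X (Coh.structureModule X) 1 = Curv2.deg k X L 1 := by
    rw [Groth.Agent.Lib.Lead.CurveEuler.deg_structureModule k X, hdeg]
  have hiso := Groth.Agent.Lib.Lead.CurveInv.isIso_of_deg_eq k X hdim.le hO hL s hs heq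
  exact ⟨(asIso s).symm⟩

end Groth.Agent.S6540
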