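import Groth.Statements.S6542
import Mathlib
import Groth.Agent.S6541
import Groth.Agent.Lib.Helper18.ResDeg

set_option autoImplicit false
universe u
open CategoryTheory CategoryTheory.Limits AlgebraicGeometry
attribute [local instance] Curv2.resAlgebra
open Curves

namespace Groth.Agent.S6542



/-- Let X be a proper curve over the field k (proper, integral, of dimension one). If H^1(X, O_X) = 0
and there are closed points x_1, ..., x_n of X whose local rings are normal and whose residue-field
degrees over k have greatest common divisor 1, then X is isomorphic to P^1_k over k. -/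
theorem result (k : Type u) [Field k] (X : Scheme.{u}) [X.Over (Spec (CommRingCat.of k))]
    [IsIntegral X] [IsProper (X ↘ (Spec (CommRingCat.of k)))] (hdim : topologicalKrullDim X = 1)
    (h1 : Subsingleton (Coh.HH X (Coh.structureModule X) 1))
    (s : Finset X) (hcl : ∀ x ∈ s, IsClosed ({x} : Set X)) (hn : ∀ x ∈ s, IsIntegrallyClosed (X.presheaf.stalk x))
    (hgcd : s.gcd (fun x => Module.finrank k (X.residueField x)) = 1) :
    ∃ e : X ≅ CohB1.ProjSpace 1 k, e.hom ≫ CohB1.ProjSpace.toSpec 1 k = X ↘ (Spec (CommRingCat.of k)) := by
  have h := Groth.Agent.Lib.Helper18.ResDeg.natCast_gcd_mem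
    (Groth.Agent.Lib.Helper18.ResDeg.degSubgroup k X hdim.le) s
    (fun x => Module.finrank k (X.residueField x))
    (fun x hx => Groth.Agent.Lib.Helper18.ResDeg.finrank_residueField_mem_degSubgroup k X hdim
      (hcl x hx) (hn x hx))
  rw [hgcd] at h
  obtain ⟨L, hL, hdeg⟩ := h
  exact Groth.Agent.S6541.result k X hdim h1 L hL (by exact_mod_cast hdeg)

end Groth.Agent.S6542
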