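import Groth.Statements.S6559
import Mathlib
import Groth.Agent.Lib.Helper4.ExtValPoint

set_option autoImplicit false
universe u
open CategoryTheory CategoryTheory.Limits AlgebraicGeometry
open Curves

namespace Groth.Agent.S6559

/-- Let k be a field, X a curve over k (integral, separated and of finite type over k, of dimension
one), Y a proper variety over k (integral, proper over k), U ⊆ X a nonempty open and f : U → Y a
morphism over k. If the local ring of X at a closed point x is a discrete valuation ring, then f
extends to a k-morphism U' → Y on some open U' ⊇ U of X containing x. -/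
theorem result (k : Type u) [Field k]
    (X Y : Scheme.{u}) [X.Over (Spec (CommRingCat.of k))] [Y.Over (Spec (CommRingCat.of k))]
    [IsIntegral X] [IsSeparated (X ↘ (Spec (CommRingCat.of k)))] [LocallyOfFiniteType (X ↘ (Spec (CommRingCat.of k)))] [QuasiCompact (X ↘ (Spec (CommRingCat.of k)))] (hdX : topologicalKrullDim X = 1)
    [IsIntegral Y] [IsProper (Y ↘ (Spec (CommRingCat.of k)))]
    (U : X.Opens) (hU : (U : Set X).Nonempty) (f : (U : Scheme.{u}) ⟶ Y) (hf : f ≫ (Y ↘ (Spec (CommRingCat.of k))) = U.ι ≫ (X ↘ (Spec (CommRingCat.of k))))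
    (x : X) (hx : IsClosed ({x} : Set X)) (hdvr : IsDiscreteValuationRing (X.presheaf.stalk x)) :
    ∃ (U' : X.Opens) (hUU' : U ≤ U') (f' : (U' : Scheme.{u}) ⟶ Y), x ∈ U' ∧
      f' ≫ (Y ↘ (Spec (CommRingCat.of k))) = U'.ι ≫ (X ↘ (Spec (CommRingCat.of k))) ∧ X.homOfLE hUU' ≫ f' = f := by
  have hirr : (irreducibleComponents ↥X).Finite := by
    have : irreducibleComponents ↥X = {Set.univ} := by
      ext Z
      constructor
      · intro hZ
        have h1 : Z ⊆ Set.univ := Set.subset_univ Z
        have h2 := hZ.2 (IrreducibleSpace.isIrreducible_univ (X := ↥X)) h1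
        exact Set.mem_singleton_iff.mpr (subset_antisymm h1 h2)
      · intro hZ
        rw [Set.mem_singleton_iff] at hZ
        subst hZ
        exact ⟨IrreducibleSpace.isIrreducible_univ (X := ↥X), fun _ _ h ↦ Set.subset_univ _⟩
    rw [this]
    exact Set.finite_singleton _
  have hxcl : x ∈ closure (U : Set ↥X) := by
    have hd : Dense (U : Set ↥X) := U.2.dense hU
    exact hd x
  obtain ⟨U', hUU', hxU', f', hf'1, hf'2⟩ :=
    Groth.Agent.Lib.Helper4.ExtValPoint.exists_extension (X ↘ (Spec (CommRingCat.of k)))
      (Y ↘ (Spec (CommRingCat.of k))) x U f hf hxcl (Or.inl ⟨inferInstance, hirr⟩)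
      inferInstance inferInstance
  exact ⟨U', hUU', f', hxU', hf'1, hf'2⟩

end Groth.Agent.S6559
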