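import Groth.Statements.S6566
import Mathlib
import Groth.Agent.Lib.Helper13.CurveDual14
-- import your own Groth.Agent.* helpers here

set_option autoImplicit false
universe u
open CategoryTheory CategoryTheory.Limits AlgebraicGeometry
attribute [local instance] HasDerivedCategory.standard
open Curves

namespace Groth.Agent.S6566

open Groth.Agent.Lib.Helper18.HH Groth.Agent.Lib.Helper20.DualDev in
theorem main {X : Scheme.{u}} (k : Type u) [Field k] [X.Over (Spec (CommRingCat.of k))]
    [CompactSpace X] [QuasiSeparatedSpace X]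
    {ω : X.Modules} (t : Coh.HH X ω 1 →ₗ[k] k)
    (ht : ∀ F : X.Modules, F.IsQuasicoherent → Good k t F)
    (hωq : ω.IsQuasicoherent)
    (hfin : Module.Finite k (Coh.HH X ω 1)) (hle : Module.finrank k (Coh.HH X ω 1) ≤ 1)
    (F Q : X.Modules) (hF : Coh.IsCoh F)
    (f : ω ⟶ F) (g : F ⟶ Q) [Epi g] (w : f ≫ g = 0) (hex : (ShortComplex.mk f g w).Exact)
    (hQ1 : Subsingleton (Coh.HH X Q 1)) (hF1 : ¬ Subsingleton (Coh.HH X F 1))
    (hdim : topologicalKrullDim X ≤ 1) :
    ∃ r : F ⟶ ω, f ≫ r = 𝟙 ω := by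
  classical
  let p : ω ⟶ kernel g := kernel.lift g f w
  haveI : Epi p := hex.epi_kernelLift
  have hS₁ : (ShortComplex.mk (kernel.ι g) g (kernel.condition g)).ShortExact :=
    { exact := ShortComplex.exact_kernel g }
  have hS₂ : (ShortComplex.mk (kernel.ι p) p (kernel.condition p)).ShortExact :=
    { exact := ShortComplex.exact_kernel p }
  have hs1 : Function.Surjective (map (kernel.ι g) 1) := surjective_map_f hS₁ 1 hQ1
  have hs2 : Function.Surjective (map p 1) :=
    surjective_map_g hS₂ 1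
      (Groth.Agent.Lib.Lead.GrothVanish.subsingleton_HH_of_dim_le X 1 hdim _ 2 (by omega))
  have hfp : f = p ≫ kernel.ι g := (kernel.lift_ι g f w).symm
  have hsurj : Function.Surjective (mapOver k f 1) := by
    intro y
    obtain ⟨y1, hy1⟩ := hs1 y
    obtain ⟨y2, hy2⟩ := hs2 y1
    refine ⟨y2, ?_⟩
    change map f 1 y2 = y
    rw [hfp, map_comp_apply, hy2, hy1]
  haveI := hfin
  haveI : Module.Finite k (Coh.HH X F 1) := Module.Finite.of_surjective (mapOver k f 1) hsurj
  haveI : Nontrivial (Coh.HH X F 1) := not_subsingleton_iff_nontrivial.1 hF1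
  have hpos : 0 < Module.finrank k (Coh.HH X F 1) := Module.finrank_pos
  have hrk := LinearMap.finrank_range_add_finrank_ker (mapOver k f 1)
  rw [LinearMap.range_eq_top.2 hsurj, finrank_top] at hrk
  have hker : Module.finrank k (LinearMap.ker (mapOver k f 1)) = 0 := by omega
  have hinj : Function.Injective (mapOver k f 1) :=
    LinearMap.ker_eq_bot.1 (Submodule.finrank_eq_zero.1 hker)
  let E : Coh.HH X ω 1 ≃ₗ[k] Coh.HH X F 1 :=
    LinearEquiv.ofBijective (mapOver k f 1) ⟨hinj, hsurj⟩
  obtain ⟨r, hr⟩ := (ht F hF.1).2 (t ∘ₗ E.symm.toLinearMap)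
  refine ⟨r, ?_⟩
  apply (ht ω hωq).1
  rw [Φ_comp, hr]
  ext x
  have h1 : E.symm (mapOver k f 1 x) = x := E.symm_apply_apply x
  have h2 : mapOver k (𝟙 ω) 1 x = x := by
    change map (𝟙 ω) 1 x = x
    rw [map_id]
    rfl
  simp only [Φ, LinearMap.comp_apply, LinearEquiv.coe_coe, h1, h2]


/-- Let X be proper over the field k, of dimension one, with H^0(X, O_X) = k, and ω_X its dualizing
module (the degree -1 cohomology sheaf of f^! O for the structure morphism f, assuming Rf_* on
D_QCoh and its right adjoint exist). For coherent O_X-modules F and Q and an exact sequence ω_X → F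
→ Q → 0 in which Q has no first cohomology, F has no first cohomology unless the map ω_X → F admits
a retraction (so that F splits as ω_X ⊕ Q): that is, H^1(X, F) = 0 or ω_X → F has a left inverse. -/
theorem result (k : Type u) [Field k] (X : Scheme.{u}) [X.Over (Spec (CommRingCat.of k))] [IsProper (X ↘ (Spec (CommRingCat.of k)))] (hdim : topologicalKrullDim X = 1)
    (h0 : Module.finrank k (Coh.HH X (Coh.structureModule X) 0) = 1)
    [DCoh.HasRpush (X ↘ (Spec (CommRingCat.of k)))] (h : DCoh.RpushPreservesQCoh (X ↘ (Spec (CommRingCat.of k)))) [DCoh.HasShriek (X ↘ (Spec (CommRingCat.of k))) h]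
    (OY : DCoh.DQCoh (Spec (CommRingCat.of k))) (hOY : Nonempty (OY.obj ≅ DCoh.inD (Spec (CommRingCat.of k)) (Coh.structureModule (Spec (CommRingCat.of k)))))
    (F Q : X.Modules) (hF : Coh.IsCoh F) (hQ : Coh.IsCoh Q)
    (f : DCoh.dualizingMod (X ↘ (Spec (CommRingCat.of k))) h OY 1 ⟶ F) (g : F ⟶ Q) [Epi g] (w : f ≫ g = 0) (hex : (ShortComplex.mk f g w).Exact)
    (hQ1 : Subsingleton (Coh.HH X Q 1)) :
    Subsingleton (Coh.HH X F 1) ∨ ∃ r : F ⟶ DCoh.dualizingMod (X ↘ (Spec (CommRingCat.of k))) h OY 1, f ≫ r = 𝟙 (DCoh.dualizingMod (X ↘ (Spec (CommRingCat.of k))) h OY 1) := by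
  classical
  have hdim' : topologicalKrullDim X ≤ 1 := hdim.le
  obtain ⟨t, ht⟩ := Groth.Agent.Lib.helper13.CurveDual.exists_dualizing_pair k X hdim' h OY hOY
  have hωq : (DCoh.dualizingMod (X ↘ (Spec (CommRingCat.of k))) h OY 1).IsQuasicoherent :=
    ((DCoh.shriek (X ↘ Spec (CommRingCat.of k)) h).obj OY).property (-1)
  haveI : Module.Finite k (Coh.HH X (Coh.structureModule X) 0) :=
    Module.finite_of_finrank_pos (by omega)
  obtain ⟨hfin, hle⟩ :=
    Groth.Agent.Lib.helper13.CurveDual.finrank_h1_dualizing_le k X hdim' h OY hOY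
  rw [h0] at hle
  by_cases hF1 : Subsingleton (Coh.HH X F 1)
  · exact Or.inl hF1
  right
  haveI : CompactSpace X :=
    QuasiCompact.compactSpace_of_compactSpace (X ↘ Spec (CommRingCat.of k))
  haveI : X.IsSeparated := by
    refine ⟨?_⟩
    rw [← terminal.comp_from (X ↘ Spec (CommRingCat.of k))]
    infer_instance
  haveI : QuasiSeparatedSpace X := inferInstance
  exact main k t ht hωq hfin hle F Q hF f g w hex hQ1 hF1 hdim'

end Groth.Agent.S6566
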