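import Groth.Statements.S6567
import Mathlib
import Groth.Agent.S6566
import Groth.Agent.Lib.Helper18.Punctual
import Groth.Agent.Lib.Helper12.AmpleBasis
import Groth.Agent.Lib.Helper25.StalkExact
import Groth.Agent.Lib.Lead.DimOneVanish
import Groth.Agent.Lib.Helper18.HHZero
import Groth.Agent.Lib.Helper25.QCohCoprod
import Groth.Agent.Lib.Helper7.RestrictSupport
import Groth.Agent.Lib.Helper7.CohKer
-- import your own Groth.Agent.* helpers here

set_option autoImplicit false
universe u
open CategoryTheory CategoryTheory.Limits AlgebraicGeometry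
attribute [local instance] HasDerivedCategory.standard
open Curves

namespace Groth.Agent.S6567

section CatLemmas

variable {𝒜 : Type*} [Category 𝒜] [Abelian 𝒜]

/-- exactness restricted to a subobject containing the image -/
lemma mono_cokernel_desc_of_exact {A B B' C : 𝒜} (f : A ⟶ B) (g : B ⟶ C) (w : f ≫ g = 0)
    (hex : (ShortComplex.mk f g w).Exact) (i : B' ⟶ B) [Mono i] (f' : A ⟶ B') (hf' : f' ≫ i = f) :
    Mono (cokernel.desc f' (i ≫ g) (by rw [← Category.assoc, hf', w])) := by
  have w' : f' ≫ (i ≫ g) = 0 := by rw [← Category.assoc, hf', w]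
  have hex' : (ShortComplex.mk f' (i ≫ g) w').Exact := by
    rw [ShortComplex.exact_iff_exact_up_to_refinements]
    intro T x₂ hx₂
    rw [ShortComplex.exact_iff_exact_up_to_refinements] at hex
    obtain ⟨T', π, hπ, x₁, hx₁⟩ := hex (x₂ ≫ i) (by simpa using hx₂)
    refine ⟨T', π, hπ, x₁, ?_⟩
    dsimp at hx₁ ⊢
    rw [← cancel_mono i, Category.assoc, Category.assoc, hf', hx₁]
  exact hex'.mono_cokernelDesc

/-- for a split mono `f'` with retraction `r`, `ker r → coker f'` is a monomorphism -/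
lemma mono_kernel_ι_comp_cokernel_π {A B : 𝒜} (f' : A ⟶ B) (r : B ⟶ A) (h : f' ≫ r = 𝟙 A) :
    Mono (kernel.ι r ≫ cokernel.π f') := by
  haveI : Mono f' := mono_of_mono_fac h
  refine Preadditive.mono_of_cancel_zero _ (fun {T} a ha => ?_)
  rw [← Category.assoc] at ha
  have hb := Abelian.monoLift_comp f' (a ≫ kernel.ι r) ha
  have hb0 : Abelian.monoLift f' (a ≫ kernel.ι r) ha = 0 := by
    have h1 : Abelian.monoLift f' (a ≫ kernel.ι r) ha ≫ f' ≫ r = 0 := by
      rw [← Category.assoc, hb, Category.assoc, kernel.condition, comp_zero]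
    rwa [h, Category.comp_id] at h1
  rw [hb0, zero_comp] at hb
  rw [← cancel_mono (kernel.ι r), zero_comp]
  exact hb.symm

/-- a split mono whose retraction has zero kernel is an epimorphism -/
lemma epi_of_retraction_kernel_isZero {A B : 𝒜} (f' : A ⟶ B) (r : B ⟶ A) (h : f' ≫ r = 𝟙 A)
    (hz : IsZero (kernel r)) : Epi f' := by
  haveI : Mono r := Preadditive.mono_of_kernel_zero (hz.eq_of_src _ _)
  have h1 : r ≫ f' = 𝟙 B := by
    rw [← cancel_mono r, Category.assoc, h, Category.comp_id, Category.id_comp]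
  exact epi_of_epi_fac h1

end CatLemmas

section Sections

open Groth.Agent.Lib.Helper18.HH Groth.Agent.Lib.helper12.AmpleBasis
  Groth.Agent.Lib.helper12.TwistExtend Opposite

variable {X : Scheme.{u}}

/-- the canonical map from the free module on the global sections -/
noncomputable def secMap (F : X.Modules) :
    (SheafOfModules.free (F.val.obj (op ⊤)) : X.Modules) ⟶ F :=
  Sigma.desc (fun σ : F.val.obj (op ⊤) => homOfSec F σ)

lemma map_eq_zero_of_secMap_comp {F G : X.Modules} (u : F ⟶ G)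
    (hu : secMap F ≫ u = 0) (x : Coh.HH X F 0) : map u 0 x = 0 := by
  let σ := equiv₀ F x
  have h1 : homOfSec F σ ≫ u = 0 := by
    have h : SheafOfModules.ιFree σ ≫ secMap F = homOfSec F σ := Sigma.ι_desc _ _
    calc homOfSec F σ ≫ u = (SheafOfModules.ιFree σ ≫ secMap F) ≫ u :=
          congrArg (fun z => z ≫ u) h.symm
      _ = SheafOfModules.ιFree σ ≫ (secMap F ≫ u) := Category.assoc _ _ _
      _ = SheafOfModules.ιFree σ ≫ 0 := congrArg (fun z => SheafOfModules.ιFree σ ≫ z) hu
      _ = 0 := comp_zero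
  have h3 : SecTwist.val (homOfSec F σ) ⊤ = σ := by
    rw [val_homOfSec]
    have : (homOfLE (le_top : (⊤ : X.Opens) ≤ ⊤)).op = 𝟙 (op (⊤ : X.Opens)) := rfl
    unfold res
    rw [this, F.val.map_id]
    rfl
  have h4 : (u.val.app (op ⊤)).hom (SecTwist.val (homOfSec F σ) ⊤) =
      SecTwist.val (homOfSec F σ ≫ u) ⊤ := rfl
  have h2 : (u.val.app (op ⊤)).hom σ = 0 := by
    rw [← h3, h4, h1]
    rfl
  apply (equiv₀ G).injective
  rw [equiv₀_naturality, _root_.map_zero]
  exact h2

theorem exists_global' [IsLocallyNoetherian X] (M : X.Modules) (U : X.Opens)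
    (hU : ∀ x : X, x ∉ U → IsClosed ({x} : Set X))
    (h0 : ∀ O : X.Opens, O ≤ U → Subsingleton Γ(M, O)) (V : X.Opens) (s : M.val.obj (op V)) :
    ∃ σ : M.val.obj (op ⊤), res M (le_top : V ≤ ⊤) σ = s := by
  have hfl := Groth.Agent.Lib.Lead.DimOneVanish.isFlasque_of_sections_vanish M U hU h0
  have hepi : Epi ((Coh.toAb M).obj.map (homOfLE (le_top : V ≤ ⊤)).op) := hfl.epi _
  have hsurj := (AddCommGrpCat.epi_iff_surjective _).mp hepi
  obtain ⟨σ, hσ⟩ := hsurj s
  exact ⟨σ, hσ⟩

theorem isQuasicoherent_free' (ι : Type u) :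
    (SheafOfModules.free ι : X.Modules).IsQuasicoherent :=
  Groth.Agent.Lib.helper25.QCohCoprod.isQuasicoherent_coproduct X
    (fun _ : ι => SheafOfModules.unit X.ringCatSheaf)
    (fun _ => Groth.Agent.Lib.helper12.AmpleBasis.structureModule_qcoh X)

end Sections


/-- Let X be proper over the field k, of dimension one, with H^0(X, O_X) = k, and ω_X its dualizing
module (the degree -1 cohomology sheaf of f^! O for the structure morphism f, assuming Rf_* on
D_QCoh and its right adjoint exist). Suppose ω_X → F → Q → 0 is exact, with F and Q coherent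
O_X-modules, where Q has zero-dimensional support and dim_k H^0(X, Q) ≥ 2, and suppose no nonzero
submodule Q' ⊆ F maps injectively into Q. Then the global sections of F together map onto Q: for
some index type ι and some map p from the free module O_X^{(ι)} to F, the composite O_X^{(ι)} → F →
Q is an epimorphism. -/
theorem result (k : Type u) [Field k] (X : Scheme.{u}) [X.Over (Spec (CommRingCat.of k))] [IsProper (X ↘ (Spec (CommRingCat.of k)))] (hdim : topologicalKrullDim X = 1)
    (h0 : Module.finrank k (Coh.HH X (Coh.structureModule X) 0) = 1)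
    [DCoh.HasRpush (X ↘ (Spec (CommRingCat.of k)))] (h : DCoh.RpushPreservesQCoh (X ↘ (Spec (CommRingCat.of k)))) [DCoh.HasShriek (X ↘ (Spec (CommRingCat.of k))) h]
    (OY : DCoh.DQCoh (Spec (CommRingCat.of k))) (hOY : Nonempty (OY.obj ≅ DCoh.inD (Spec (CommRingCat.of k)) (Coh.structureModule (Spec (CommRingCat.of k)))))
    (F Q : X.Modules) (hF : Coh.IsCoh F) (hQ : Coh.IsCoh Q)
    (f : DCoh.dualizingMod (X ↘ (Spec (CommRingCat.of k))) h OY 1 ⟶ F) (g : F ⟶ Q) [Epi g] (w : f ≫ g = 0) (hex : (ShortComplex.mk f g w).Exact)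
    (hQ0 : topologicalKrullDim (CohB1.support Q) ≤ 0) (hQ2 : 2 ≤ Module.finrank k (Coh.HH X Q 0))
    (hno : ∀ (Q' : X.Modules) (i : Q' ⟶ F), Mono i → Mono (i ≫ g) → IsZero Q') :
    ∃ (ι : Type u) (p : (SheafOfModules.free ι : X.Modules) ⟶ F), Epi (p ≫ g) := by
  classical
  have hdim' : topologicalKrullDim X ≤ 1 := hdim.le
  obtain ⟨t, ht⟩ := Groth.Agent.Lib.helper13.CurveDual.exists_dualizing_pair k X hdim' h OY hOY
  have hωq : (DCoh.dualizingMod (X ↘ (Spec (CommRingCat.of k))) h OY 1).IsQuasicoherent :=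
    ((DCoh.shriek (X ↘ Spec (CommRingCat.of k)) h).obj OY).property (-1)
  haveI : Module.Finite k (Coh.HH X (Coh.structureModule X) 0) :=
    Module.finite_of_finrank_pos (by omega)
  obtain ⟨hfin, hle⟩ :=
    Groth.Agent.Lib.helper13.CurveDual.finrank_h1_dualizing_le k X hdim' h OY hOY
  rw [h0] at hle
  haveI : CompactSpace X :=
    QuasiCompact.compactSpace_of_compactSpace (X ↘ Spec (CommRingCat.of k))
  haveI : X.IsSeparated := by
    refine ⟨?_⟩
    rw [← terminal.comp_from (X ↘ Spec (CommRingCat.of k))]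
    infer_instance
  haveI : QuasiSeparatedSpace X := inferInstance
  haveI := Groth.Agent.Lib.Lead.CurveEuler.isNoetherian k X
  obtain ⟨W, hWeq, hQW, -, hcl⟩ :=
    Groth.Agent.Lib.Helper18.Punctual.exists_open_of_support_dim_le_zero Q hQ hQ0
  -- the canonical map
  let p := secMap F
  refine ⟨F.val.obj (Opposite.op ⊤), p, ?_⟩
  let C : X.Modules := cokernel (p ≫ g)
  let πC : Q ⟶ C := cokernel.π (p ≫ g)
  haveI hπC : Epi πC := inferInstanceAs (Epi (cokernel.π (p ≫ g)))
  let q : F ⟶ C := g ≫ πC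
  haveI : Epi q := epi_comp _ _
  have hpq : p ≫ q = 0 :=
    (Category.assoc p g πC).symm.trans (cokernel.condition (p ≫ g))
  have hfq : f ≫ q = 0 :=
    (Category.assoc f g πC).symm.trans (by rw [w, zero_comp])
  suffices hC : IsZero C from Preadditive.epi_of_isZero_cokernel _ hC
  haveI hFq : F.IsQuasicoherent := hF.1
  haveI hQq : Q.IsQuasicoherent := hQ.1
  haveI hfree : (SheafOfModules.free (F.val.obj (Opposite.op ⊤)) : X.Modules).IsQuasicoherent :=
    isQuasicoherent_free' _
  have hCq : C.IsQuasicoherent := Groth.Agent.Lib.helper7.CohKer.isQuasicoherent_cokernel (p ≫ g)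
  have hCcoh : Coh.IsCoh C := ⟨hCq, Groth.Agent.Lib.helper7.CohKer.isFiniteType_of_epi πC hQ.2⟩
  let F' : X.Modules := kernel q
  let ι' : F' ⟶ F := kernel.ι q
  have hF'coh : Coh.IsCoh F' := Groth.Agent.Lib.helper7.CohKer.isCoh_kernel hF hCcoh q
  let f' : DCoh.dualizingMod (X ↘ (Spec (CommRingCat.of k))) h OY 1 ⟶ F' := kernel.lift q f hfq
  have hf' : f' ≫ ι' = f := kernel.lift_ι q f hfq
  let p' : (SheafOfModules.free (F.val.obj (Opposite.op ⊤)) : X.Modules) ⟶ F' :=
    kernel.lift q p hpq
  have hp' : p' ≫ ι' = p := kernel.lift_ι q p hpq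
  let Q' : X.Modules := cokernel f'
  let g' : F' ⟶ Q' := cokernel.π f'
  have w' : f' ≫ (ι' ≫ g) = 0 := by rw [← Category.assoc, hf', w]
  let j : Q' ⟶ Q := cokernel.desc f' (ι' ≫ g) w'
  haveI hj : Mono j := mono_cokernel_desc_of_exact f g w hex ι' f' hf'
  have hg'j : g' ≫ j = ι' ≫ g := cokernel.π_desc _ _ _
  -- sections of C vanish on opens ≤ W
  have hCW : ∀ P : X.Opens, P ≤ W → Subsingleton Γ(C, P) := by
    intro P hP
    refine ⟨fun s t => ?_⟩
    refine TopCat.Presheaf.section_ext ⟨C.presheaf, C.isSheaf⟩ P _ _ (fun x hx => ?_)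
    have hxW : x ∈ (W : Set X) := hP hx
    rw [hWeq] at hxW
    have h2 : Subsingleton (Q.presheaf.stalk x) := by
      by_contra h2
      exact hxW h2
    haveI : Subsingleton ((DerSch.stalkFunctor X x).obj Q) := h2
    have h3 : IsZero ((DerSch.stalkFunctor X x).obj Q) := ModuleCat.isZero_of_subsingleton _
    have h4 : IsZero ((DerSch.stalkFunctor X x).obj C) :=
      IsZero.of_epi ((DerSch.stalkFunctor X x).map πC) h3
    have h5 : Subsingleton (C.presheaf.stalk x) := ModuleCat.subsingleton_of_isZero h4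
    exact h5.elim _ _
  have hQ'W : ∀ P : X.Opens, P ≤ W → Subsingleton Γ(Q', P) := by
    intro P hP
    haveI := hQW P hP
    exact (Groth.Agent.Lib.Helper25.StalkExact.app_injective_of_mono j P).subsingleton
  have hQ'1 : Subsingleton (Coh.HH X Q' 1) :=
    Groth.Agent.Lib.Lead.DimOneVanish.subsingleton_HH_of_sections_vanish Q' W hcl hQ'W 0
  have hex' : (ShortComplex.mk f' g' (cokernel.condition f')).Exact :=
    ShortComplex.exact_cokernel f'
  by_cases hF'1 : Subsingleton (Coh.HH X F' 1)
  · -- case 1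
    have hS : (ShortComplex.mk ι' q (kernel.condition q)).ShortExact :=
      { exact := ShortComplex.exact_kernel q }
    have hsurj : Function.Surjective (Groth.Agent.Lib.Helper18.HH.map q 0) :=
      Groth.Agent.Lib.Helper18.HH.surjective_map_g hS 0 hF'1
    have hzero : ∀ x, Groth.Agent.Lib.Helper18.HH.map q 0 x = 0 :=
      map_eq_zero_of_secMap_comp q hpq
    have hH0 : Subsingleton (Coh.HH X C 0) := ⟨fun a b => by
      obtain ⟨a', rfl⟩ := hsurj a
      obtain ⟨b', rfl⟩ := hsurj b
      rw [hzero, hzero]⟩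
    have hΓ : Subsingleton (C.val.obj (Opposite.op ⊤)) :=
      (Groth.Agent.Lib.Helper18.HH.equiv₀ C).symm.injective.subsingleton
    rw [Groth.Agent.Lib.helper7.RestrictSupport.isZero_iff_subsingleton_sections]
    intro V
    refine ⟨fun a b => ?_⟩
    obtain ⟨σa, ha⟩ := exists_global' C W hcl hCW V a
    obtain ⟨σb, hb⟩ := exists_global' C W hcl hCW V b
    rw [← ha, ← hb, Subsingleton.elim σa σb]
  · exfalso
    obtain ⟨r, hr⟩ := Groth.Agent.S6566.main k t ht hωq hfin hle F' Q' hF'coh f' g'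
      (cokernel.condition f') hex' hQ'1 hF'1 hdim'
    have hm1 : Mono (kernel.ι r ≫ ι') := mono_comp _ _
    have hm2 : Mono ((kernel.ι r ≫ ι') ≫ g) := by
      have e : (kernel.ι r ≫ ι') ≫ g = (kernel.ι r ≫ g') ≫ j := by
        rw [Category.assoc, Category.assoc, hg'j]
      rw [e]
      haveI := mono_kernel_ι_comp_cokernel_π f' r hr
      exact mono_comp _ _
    have hz : IsZero (kernel r) := hno _ _ hm1 hm2
    haveI : Epi f' := epi_of_retraction_kernel_isZero f' r hr hz
    have hιg : ι' ≫ g = 0 := by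
      rw [← cancel_epi f', comp_zero]
      exact w'
    have hpg : p ≫ g = 0 := by
      calc p ≫ g = (p' ≫ ι') ≫ g := congrArg (fun z => z ≫ g) hp'.symm
        _ = p' ≫ (ι' ≫ g) := Category.assoc _ _ _
        _ = p' ≫ 0 := congrArg (fun z => p' ≫ z) hιg
        _ = 0 := comp_zero
    have hzero : ∀ x, Groth.Agent.Lib.Helper18.HH.map g 0 x = 0 :=
      map_eq_zero_of_secMap_comp g hpg
    let pω : DCoh.dualizingMod (X ↘ (Spec (CommRingCat.of k))) h OY 1 ⟶ (kernel g : X.Modules) := kernel.lift g f w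
    haveI : Epi pω := hex.epi_kernelLift
    have hS₁ : (ShortComplex.mk (kernel.ι g) g (kernel.condition g)).ShortExact :=
      { exact := ShortComplex.exact_kernel g }
    have hS₂ : (ShortComplex.mk (kernel.ι pω) pω (kernel.condition pω)).ShortExact :=
      { exact := ShortComplex.exact_kernel pω }
    have hs2 : Function.Surjective (Groth.Agent.Lib.Helper18.HH.mapOver k pω 1) :=
      Groth.Agent.Lib.Helper18.HH.surjective_map_g hS₂ 1
        (Groth.Agent.Lib.Lead.GrothVanish.subsingleton_HH_of_dim_le X 1 hdim' _ 2 (by omega))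
    have hinj : Function.Injective (Groth.Agent.Lib.Helper18.HH.δOver hS₁ k 0) := by
      rw [injective_iff_map_eq_zero]
      intro y hy
      obtain ⟨x, rfl⟩ := (Groth.Agent.Lib.Helper18.HH.exactOver₃ hS₁ k 0 y).1 hy
      exact hzero x
    haveI := hfin
    haveI : Module.Finite k (Coh.HH X (kernel g) 1) :=
      Module.Finite.of_surjective (Groth.Agent.Lib.Helper18.HH.mapOver k pω 1) hs2
    have h1 : Module.finrank k (Coh.HH X Q 0) ≤ Module.finrank k (Coh.HH X (kernel g) 1) :=
      LinearMap.finrank_le_finrank_of_injective hinj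
    have h2 : Module.finrank k (Coh.HH X (kernel g) 1) ≤ Module.finrank k (Coh.HH X (DCoh.dualizingMod (X ↘ (Spec (CommRingCat.of k))) h OY 1) 1) :=
      LinearMap.finrank_le_finrank_of_surjective hs2
    omega

end Groth.Agent.S6567
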