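import Groth.Statements.S6568
import Mathlib
import Groth.Agent.S6567
import Groth.Agent.S1534
import Groth.Agent.Lib.Helper18.CurveOmegaRank
import Groth.Agent.Lib.Helper18.CurveSerre
import Groth.Agent.Lib.Helper20.GGDescent
import Groth.Agent.Lib.Helper20.SplitH1
import Groth.Agent.Lib.Helper7.TwistAmpleIff
import Groth.Agent.Lib.Lead.ProperEuler
import Groth.Agent.Lib.Lead.CurveEuler

set_option autoImplicit false
universe u
open CategoryTheory CategoryTheory.Limits AlgebraicGeometry
attribute [local instance] HasDerivedCategory.standard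
open Curves

namespace Groth.Agent.S6568

open Groth.Agent.Lib.Helper18.GenericRank Groth.Agent.Lib.Helper18.HH
  Groth.Agent.Lib.helper12.AmpleBasis Groth.Agent.Lib.helper12.TwistExtend Opposite
  Groth.Agent.Lib.Helper20.DualDev

section Factor

variable {X : Scheme.{u}}

/-- every morphism from a free module factors through the canonical map from the free module on the global
sections -/
theorem exists_factor_secMap {F : X.Modules} {ι : Type u}
    (p : (SheafOfModules.free ι : X.Modules) ⟶ F) :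
    ∃ r : (SheafOfModules.free ι : X.Modules) ⟶
        (SheafOfModules.free (F.val.obj (op ⊤)) : X.Modules),
      r ≫ Groth.Agent.S6567.secMap F = p := by
  let σ : ι → F.val.obj (op ⊤) := fun i =>
    ((SheafOfModules.ιFree i ≫ p : (Coh.structureModule X : X.Modules) ⟶ F).val.app
      (op ⊤)).hom (1 : X.ringCatSheaf.obj.obj (op ⊤))
  refine ⟨Sigma.desc (fun i => SheafOfModules.ιFree (σ i)), ?_⟩
  apply Groth.Agent.Lib.helper20.GGDescent.free_hom_ext
  intro i
  have h1 : SheafOfModules.ιFree i ≫ Sigma.desc (fun i => SheafOfModules.ιFree (σ i)) =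
      (SheafOfModules.ιFree (σ i) : _ ⟶ (SheafOfModules.free (F.val.obj (op ⊤)) : X.Modules)) :=
    Sigma.ι_desc _ _
  have h2 : SheafOfModules.ιFree (σ i) ≫ Groth.Agent.S6567.secMap F = homOfSec F (σ i) :=
    Sigma.ι_desc _ _
  rw [← Category.assoc, h1, h2]
  apply Groth.Agent.Lib.Helper20.SplitH1.hom_ext_top
  have h3 : SecTwist.val (homOfSec F (σ i)) ⊤ = σ i := by
    rw [val_homOfSec]
    have : (homOfLE (le_top : (⊤ : X.Opens) ≤ ⊤)).op = 𝟙 (op (⊤ : X.Opens)) := rfl
    unfold res
    rw [this, F.val.map_id]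
    rfl
  exact h3

end Factor

/-- Let X be proper and integral over the field k, of dimension one, with H^0(X, O_X) = k, and ω_X its
dualizing module (the degree -1 cohomology sheaf of f^! O for the structure morphism f, assuming
Rf_* on D_QCoh and its right adjoint exist). Suppose F is a torsion-free coherent O_X-module
(stalkwise: a · m = 0 forces a = 0 or m = 0) containing ω_X as a submodule, with coherent quotient Q
= F/ω_X supported in dimension zero and with dim_k H^0(X, Q) ≥ 2 (so 0 → ω_X → F → Q → 0 is short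
exact). Then F is generated by its global sections. -/
theorem result (k : Type u) [Field k] (X : Scheme.{u}) [X.Over (Spec (CommRingCat.of k))] [IsIntegral X] [IsProper (X ↘ (Spec (CommRingCat.of k)))] (hdim : topologicalKrullDim X = 1)
    (h0 : Module.finrank k (Coh.HH X (Coh.structureModule X) 0) = 1)
    [DCoh.HasRpush (X ↘ (Spec (CommRingCat.of k)))] (h : DCoh.RpushPreservesQCoh (X ↘ (Spec (CommRingCat.of k)))) [DCoh.HasShriek (X ↘ (Spec (CommRingCat.of k))) h]
    (OY : DCoh.DQCoh (Spec (CommRingCat.of k))) (hOY : Nonempty (OY.obj ≅ DCoh.inD (Spec (CommRingCat.of k)) (Coh.structureModule (Spec (CommRingCat.of k)))))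
    (F Q : X.Modules) (hF : Coh.IsCoh F) (hQ : Coh.IsCoh Q)
    (f : DCoh.dualizingMod (X ↘ (Spec (CommRingCat.of k))) h OY 1 ⟶ F) (g : F ⟶ Q) (w : f ≫ g = 0) (hex : (ShortComplex.mk f g w).ShortExact)
    (htf : ∀ (x : X) (a : X.presheaf.stalk x) (m : F.presheaf.stalk x), a • m = 0 → a = 0 ∨ m = 0)
    (hQ0 : topologicalKrullDim (CohB1.support Q) ≤ 0) (hQ2 : 2 ≤ Module.finrank k (Coh.HH X Q 0)) :
    Curv2.IsGloballyGenerated F := by
  classical
  have hdim' : topologicalKrullDim X ≤ 1 := hdim.le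
  haveI : CompactSpace X :=
    QuasiCompact.compactSpace_of_compactSpace (X ↘ Spec (CommRingCat.of k))
  haveI : X.IsSeparated := by
    refine ⟨?_⟩
    rw [← terminal.comp_from (X ↘ Spec (CommRingCat.of k))]
    infer_instance
  haveI : QuasiSeparatedSpace X := inferInstance
  haveI := Groth.Agent.Lib.Lead.CurveEuler.isNoetherian k X
  have hωq : (DCoh.dualizingMod (X ↘ (Spec (CommRingCat.of k))) h OY 1).IsQuasicoherent :=
    ((DCoh.shriek (X ↘ Spec (CommRingCat.of k)) h).obj OY).property (-1)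
  haveI := hωq
  have hωcoh : Coh.IsCoh (DCoh.dualizingMod (X ↘ (Spec (CommRingCat.of k))) h OY 1) :=
    Groth.Agent.Lib.Helper18.CurveDualizing.isCoh_dualizingMod k X h OY hOY hdim'
  obtain ⟨t, ht⟩ := Groth.Agent.Lib.helper13.CurveDual.exists_dualizing_pair k X hdim' h OY hOY
  have hrkω := Groth.Agent.Lib.Helper18.CurveOmegaRank.rk_dualizingMod k X h OY hOY hdim
  haveI hFq : F.IsQuasicoherent := hF.1
  haveI hQq : Q.IsQuasicoherent := hQ.1
  have hFtf : TorSh.IsTorsionFree F := isTorsionFree_of_forall F htf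
  haveI : Mono f := hex.mono_f
  haveI : Epi g := hex.epi_g
  have hωtf : TorSh.IsTorsionFree (DCoh.dualizingMod (X ↘ (Spec (CommRingCat.of k))) h OY 1) :=
    Groth.Agent.Lib.Lead.TorsPure.isTorsionFree_of_mono f hFtf
  have hrkQ : rk Q = 0 := rk_eq_zero_of_dim_support_lt Q hQ (by
    rw [hdim]
    exact lt_of_le_of_lt hQ0 (by decide))
  have hrkF : rk F = 1 := by
    have h1 : rk F = rk (DCoh.dualizingMod (X ↘ (Spec (CommRingCat.of k))) h OY 1) + rk Q :=
      rk_add (ShortComplex.mk f g w) hex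
    rw [h1, hrkω, hrkQ, add_zero]
  have hno : ∀ (Q' : X.Modules) (i : Q' ⟶ F), Mono i → Mono (i ≫ g) → IsZero Q' := by
    intro Q' i hi hig
    exact isZero_of_mono_of_rk_eq_zero hFtf i (rk_eq_zero_of_mono (i ≫ g) hrkQ)
  obtain ⟨ι, p, hp⟩ := Groth.Agent.S6567.result k X hdim h0 h OY hOY F Q hF hQ f g w hex.exact
    hQ0 hQ2 hno
  obtain ⟨r, hr⟩ := exists_factor_secMap p
  have hsg : Epi (Groth.Agent.S6567.secMap F ≫ g) := by
    have h1 : Epi (r ≫ (Groth.Agent.S6567.secMap F ≫ g)) := by
      rw [← Category.assoc, hr]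
      exact hp
    exact epi_of_epi r (Groth.Agent.S6567.secMap F ≫ g)
  refine ⟨F.val.obj (op ⊤), Groth.Agent.S6567.secMap F, ?_⟩
  let s := Groth.Agent.S6567.secMap F
  let C : X.Modules := cokernel s
  let c : F ⟶ C := cokernel.π s
  have hsc : s ≫ c = 0 := cokernel.condition s
  suffices hC : IsZero C from Preadditive.epi_of_isZero_cokernel _ hC
  haveI hfree : (SheafOfModules.free (F.val.obj (op ⊤)) : X.Modules).IsQuasicoherent :=
    Groth.Agent.S6567.isQuasicoherent_free' _
  haveI hCq : C.IsQuasicoherent := Groth.Agent.Lib.helper7.CohKer.isQuasicoherent_cokernel s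
  haveI hcepi : Epi c := inferInstanceAs (Epi (cokernel.π s))
  have hCcoh : Coh.IsCoh C := ⟨hCq, Groth.Agent.Lib.helper7.CohKer.isFiniteType_of_epi c hF.2⟩
  let F' : X.Modules := kernel c
  let ι' : F' ⟶ F := kernel.ι c
  have hF'coh : Coh.IsCoh F' := Groth.Agent.Lib.helper7.CohKer.isCoh_kernel hF hCcoh c
  haveI hF'q : F'.IsQuasicoherent := hF'coh.1
  let s' : (SheafOfModules.free (F.val.obj (op ⊤)) : X.Modules) ⟶ F' := kernel.lift c s hsc
  have hs' : s' ≫ ι' = s := kernel.lift_ι c s hsc
  have hS : (ShortComplex.mk ι' c (kernel.condition c)).ShortExact :=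
    { exact := ShortComplex.exact_kernel c }
  have hF'nz : ¬ IsZero F' := by
    intro hz
    have h1 : s ≫ g = 0 := by
      have e1 : s' = 0 := hz.eq_of_tgt s' 0
      calc s ≫ g = (s' ≫ ι') ≫ g := congrArg (fun z => z ≫ g) hs'.symm
        _ = s' ≫ (ι' ≫ g) := Category.assoc _ _ _
        _ = 0 ≫ (ι' ≫ g) := congrArg (fun z => z ≫ (ι' ≫ g)) e1
        _ = 0 := zero_comp
    have hQz : IsZero Q := @IsZero.of_epi_eq_zero _ _ _ _ _ (s ≫ g) hsg h1
    haveI := Groth.Agent.Lib.helper7.TwistAmpleIff.subsingleton_HH_of_isZero hQz 0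
    rw [Module.finrank_zero_of_subsingleton] at hQ2
    omega
  obtain ⟨hrkF', hrkC⟩ := rk_sub_and_quot_of_rk_one hFtf hrkF ι' c (kernel.condition c) hS hF'nz
  obtain ⟨W', hCW, hcl'⟩ := exists_open_of_rk_eq_zero hdim' C hCcoh hrkC
  have hzero : ∀ x, map c 0 x = 0 := Groth.Agent.S6567.map_eq_zero_of_secMap_comp c hsc
  by_cases hF'1 : Subsingleton (Coh.HH X F' 1)
  · have hsurj : Function.Surjective (map c 0) := surjective_map_g hS 0 hF'1
    have hH0 : Subsingleton (Coh.HH X C 0) := ⟨fun a b => by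
      obtain ⟨a', rfl⟩ := hsurj a
      obtain ⟨b', rfl⟩ := hsurj b
      rw [hzero, hzero]⟩
    have hΓ : Subsingleton (C.val.obj (op ⊤)) := (equiv₀ C).symm.injective.subsingleton
    exact Groth.Agent.Lib.Lead.DimOneVanish.isZero_of_sections_vanish C W' hcl' hCW hΓ
  · exfalso
    haveI : Nontrivial (Coh.HH X F' 1) := not_subsingleton_iff_nontrivial.1 hF'1
    obtain ⟨x, hx⟩ := exists_ne (0 : Coh.HH X F' 1)
    obtain ⟨ψ, hψ⟩ : ∃ ψ : Module.Dual k (Coh.HH X F' 1), ψ x ≠ 0 := by
      haveI : Module.Free k (Coh.HH X F' 1) := Module.Free.of_divisionRing k _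
      haveI : Module.Projective k (Coh.HH X F' 1) := Module.Projective.of_free
      by_contra hcon
      push Not at hcon
      exact hx ((Module.forall_dual_apply_eq_zero_iff k x).mp hcon)
    obtain ⟨φ, hφ⟩ := (ht F' hF'q).2 ψ
    have hφnz : φ ≠ 0 := by
      rintro rfl
      apply hψ
      rw [← hφ, Φ_zero]
      rfl
    have hF'tf : TorSh.IsTorsionFree F' :=
      Groth.Agent.Lib.Lead.TorsPure.isTorsionFree_of_mono ι' hFtf
    haveI : Mono φ := mono_of_rk_one_of_ne_zero hF'tf hωtf hrkF' φ hφnz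
    obtain ⟨-, hCM, hequi⟩ := Groth.Agent.S1534.result k X hdim h0
    obtain ⟨hω0, hω1⟩ := Groth.Agent.Lib.Helper18.CurveSerre.finrank_HH_dualizingMod k X h OY hOY
      hdim (fun x _ => hCM x) hequi
    have hχω := Groth.Agent.Lib.Lead.CurveEuler.euler_eq k X hdim'
      (DCoh.dualizingMod (X ↘ (Spec (CommRingCat.of k))) h OY 1) hωq
    have hχF := Groth.Agent.Lib.Lead.CurveEuler.euler_eq k X hdim' F hFq
    obtain ⟨W, hWeq, hQW, -, hcl⟩ :=
      Groth.Agent.Lib.Helper18.Punctual.exists_open_of_support_dim_le_zero Q hQ hQ0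
    have hχQ := Groth.Agent.Lib.Helper18.Punctual.euler_eq_finrank_H0 k Q W hQW hcl
    have hadd : Curv2.euler k X F =
        Curv2.euler k X (DCoh.dualizingMod (X ↘ (Spec (CommRingCat.of k))) h OY 1) +
          Curv2.euler k X Q :=
      Groth.Agent.Lib.Lead.ProperEuler.euler_additive k (S := ShortComplex.mk f g w) hex hωcoh hQ
    have hsurjι : Function.Surjective (mapOver k ι' 0) := by
      intro y
      exact (exactOver₂ hS k 0 y).1 (hzero y)
    haveI := Groth.Agent.Lib.Lead.ProperEuler.finite_HH k X F' hF'coh 0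
    haveI := Groth.Agent.Lib.Lead.ProperEuler.finite_HH k X _ hωcoh 0
    have h1 : Module.finrank k (Coh.HH X F 0) ≤ Module.finrank k (Coh.HH X F' 0) :=
      LinearMap.finrank_le_finrank_of_surjective hsurjι
    have hSφ : (ShortComplex.mk φ (cokernel.π φ) (cokernel.condition φ)).ShortExact :=
      { exact := ShortComplex.exact_cokernel φ }
    have hinj : Function.Injective (mapOver k φ 0) := injective_mapOver_f_zero hSφ k
    have h2 : Module.finrank k (Coh.HH X F' 0) ≤
        Module.finrank k (Coh.HH X (DCoh.dualizingMod (X ↘ (Spec (CommRingCat.of k))) h OY 1) 0) :=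
      LinearMap.finrank_le_finrank_of_injective hinj
    omega

end Groth.Agent.S6568
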