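import Groth.Statements.S6575
import Mathlib
import Groth.Agent.Lib.Helper22.WeakCB

set_option autoImplicit false
universe u
open Curves

namespace Groth.Agent.S6575

section aux
open Groth.Agent.Lib.helper22.WeakCB

variable {k : Type u} [Field k] {n : ℕ}

lemma le_of_le (r : ℕ) {m l : ℕ} (f : Fin m → MvPowerSeries (Fin n) k)
    (g : Fin l → MvPowerSeries (Fin n) k)
    (hfg : Ideal.span (Set.range f) ≤ Ideal.span (Set.range g)) :
    Ideal.span {d : MvPowerSeries (Fin n) k | ∃ (ρ : Fin r → Fin m) (γ : Fin r → Fin n),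
        Function.Injective ρ ∧ Function.Injective γ ∧
          d = ((Matrix.of fun (j : Fin m) (i : Fin n) =>
            MvPowerSeries.pderiv k i (f j)).submatrix ρ γ).det}
      ≤ Ideal.span {d : MvPowerSeries (Fin n) k | ∃ (ρ : Fin r → Fin l) (γ : Fin r → Fin n),
        Function.Injective ρ ∧ Function.Injective γ ∧
          d = ((Matrix.of fun (j : Fin l) (i : Fin n) =>
            MvPowerSeries.pderiv k i (g j)).submatrix ρ γ).det} ⊔ Ideal.span (Set.range g) := by
  classical
  rw [Ideal.span_le]
  rintro _ ⟨ρ, γ, hρ, hγ, rfl⟩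
  have hc : ∀ j, ∃ c : Fin l → MvPowerSeries (Fin n) k, ∑ s, c s * g s = f j := fun j =>
    (Ideal.mem_span_range_iff_exists_fun).1 (hfg (Ideal.subset_span ⟨j, rfl⟩))
  choose c hc using hc
  set I := Ideal.span (Set.range g) with hI
  set Jf : Matrix (Fin m) (Fin n) (MvPowerSeries (Fin n) k) :=
    Matrix.of fun j i => MvPowerSeries.pderiv k i (f j) with hJf
  set Jg : Matrix (Fin l) (Fin n) (MvPowerSeries (Fin n) k) :=
    Matrix.of fun j i => MvPowerSeries.pderiv k i (g j) with hJg
  set C : Matrix (Fin m) (Fin l) (MvPowerSeries (Fin n) k) := Matrix.of c with hC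
  have hJ : Jf.map (Ideal.Quotient.mk I) = (C.map (Ideal.Quotient.mk I)) *
      (Jg.map (Ideal.Quotient.mk I)) := by
    ext j i
    simp only [Matrix.map_apply, Matrix.mul_apply, Matrix.of_apply, hJf, hJg, hC]
    rw [← hc j, map_sum, map_sum]
    refine Finset.sum_congr rfl (fun s _ => ?_)
    rw [Derivation.leibniz, map_add, smul_eq_mul, smul_eq_mul, map_mul, map_mul]
    have h0 : Ideal.Quotient.mk I (g s) = 0 :=
      Ideal.Quotient.eq_zero_iff_mem.2 (Ideal.subset_span ⟨s, rfl⟩)
    rw [h0, zero_mul, add_zero]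
  have hdet : Ideal.Quotient.mk I ((Jf.submatrix ρ γ).det) = Ideal.Quotient.mk I
      (∑ φ : Fin r → Fin l, (∏ i, C (ρ i) (φ i)) * (Jg.submatrix φ γ).det) := by
    rw [RingHom.map_det, RingHom.mapMatrix_apply, ← Matrix.submatrix_map, hJ, submatrix_mul_eq,
      det_mul_eq_sum, map_sum]
    refine Finset.sum_congr rfl (fun φ _ => ?_)
    rw [map_mul, map_prod, RingHom.map_det]
    rfl
  have hmem : (Jf.submatrix ρ γ).det
      - ∑ φ : Fin r → Fin l, (∏ i, C (ρ i) (φ i)) * (Jg.submatrix φ γ).det ∈ I :=
    Ideal.Quotient.eq.1 hdet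
  have hsum : ∑ φ : Fin r → Fin l, (∏ i, C (ρ i) (φ i)) * (Jg.submatrix φ γ).det ∈
      Ideal.span {d : MvPowerSeries (Fin n) k | ∃ (ρ : Fin r → Fin l) (γ : Fin r → Fin n),
        Function.Injective ρ ∧ Function.Injective γ ∧ d = (Jg.submatrix ρ γ).det} := by
    apply Ideal.sum_mem
    intro φ _
    apply Ideal.mul_mem_left
    by_cases hφ : Function.Injective φ
    · exact Ideal.subset_span ⟨φ, γ, hφ, hγ, rfl⟩
    · rw [Function.Injective] at hφ
      push Not at hφ
      obtain ⟨i, j, hij, hne⟩ := hφ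
      rw [Matrix.det_zero_of_row_eq hne (by
        funext x; simp only [Matrix.submatrix_apply, hij])]
      exact zero_mem _
  have : (Jf.submatrix ρ γ).det = ((Jf.submatrix ρ γ).det
      - ∑ φ : Fin r → Fin l, (∏ i, C (ρ i) (φ i)) * (Jg.submatrix φ γ).det)
      + ∑ φ : Fin r → Fin l, (∏ i, C (ρ i) (φ i)) * (Jg.submatrix φ γ).det := by ring
  rw [this]
  exact add_mem (Ideal.mem_sup_right hmem) (Ideal.mem_sup_left hsum)

end aux

/-- Let k be a field, A = k[[x_1, …, x_n]] and I ⊆ A an ideal generated by f_1, …, f_m and also by g_1,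
…, g_l. Then for every r ≥ 0 the ideal of A/I generated by the r × r minors of (∂f_j/∂x_i) equals
the one generated by the r × r minors of (∂g_s/∂x_i); stated in A as equality of the ideals
generated by the minors together with I. (The published result also asserts independence of the
regular system of parameters x_1, …, x_n, which is not stated here.) -/
theorem result (k : Type u) [Field k] (n m l r : ℕ)
    (f : Fin m → MvPowerSeries (Fin n) k) (g : Fin l → MvPowerSeries (Fin n) k)
    (hfg : Ideal.span (Set.range f) = Ideal.span (Set.range g)) :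
    Ideal.span {d : MvPowerSeries (Fin n) k | ∃ (ρ : Fin r → Fin m) (γ : Fin r → Fin n), Function.Injective ρ ∧ Function.Injective γ ∧
          d = ((Matrix.of fun (j : Fin m) (i : Fin n) => MvPowerSeries.pderiv k i (f j)).submatrix ρ γ).det} ⊔ Ideal.span (Set.range f) =
      Ideal.span {d : MvPowerSeries (Fin n) k | ∃ (ρ : Fin r → Fin l) (γ : Fin r → Fin n), Function.Injective ρ ∧ Function.Injective γ ∧
          d = ((Matrix.of fun (j : Fin l) (i : Fin n) => MvPowerSeries.pderiv k i (g j)).submatrix ρ γ).det} ⊔ Ideal.span (Set.range g) := by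
  apply le_antisymm
  · apply sup_le
    · exact le_of_le r f g hfg.le
    · rw [hfg]; exact le_sup_right
  · apply sup_le
    · exact le_of_le r g f hfg.ge
    · rw [← hfg]; exact le_sup_right

end Groth.Agent.S6575
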