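import Groth.Statements.S6577
import Mathlib
import Groth.Agent.Lib.Helper18.CurveDualizing
import Groth.Agent.Lib.Helper20.ClosedImmHHLin
import Groth.Agent.Lib.Helper21.ShHomCoh2
import Groth.Agent.Lib.Helper8.DevCore
import Groth.Agent.Lib.Helper16.QCohAffinePush

set_option autoImplicit false
universe u
open CategoryTheory CategoryTheory.Limits AlgebraicGeometry
attribute [local instance] HasDerivedCategory.standard
open Curves

namespace Groth.Agent.S6577

open Groth.Agent.Lib.Helper20.DualDev Groth.Agent.Lib.Helper20.ClosedImmAdj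
  Groth.Agent.Lib.Helper20.ClosedImmHH Groth.Agent.Lib.Helper18.HH

/-- transfer of a dualizing pair (in the same degree) along a closed immersion: if `(ω, t)` satisfies duality in
degree `n` for quasi-coherent modules on `X`, then `i^! ω` with the induced trace satisfies duality in degree `n`
for quasi-coherent modules on `Y`. -/
theorem exists_good_shriek (k : Type u) [Field k] {X Y : Scheme.{u}} [X.Over (Spec (CommRingCat.of k))]
    [Y.Over (Spec (CommRingCat.of k))] (i : Y ⟶ X) [IsClosedImmersion i]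
    [i.IsOver (Spec (CommRingCat.of k))] {n : ℕ} {ω : X.Modules} (t : Coh.HH X ω n →ₗ[k] k)
    (ht : ∀ F : X.Modules, F.IsQuasicoherent → Good k t F) :
    ∃ t' : Coh.HH Y ((shriek i).obj ω) n →ₗ[k] k,
      ∀ G : Y.Modules, G.IsQuasicoherent → Good k t' G := by
  let ε := (shriekAdj i).counit.app ω
  let t' : Coh.HH Y ((shriek i).obj ω) n →ₗ[k] k :=
    t ∘ₗ mapOver k ε n ∘ₗ (pushEquivLin i k ((shriek i).obj ω) n).symm.toLinearMap
  refine ⟨t', fun G hG => ?_⟩
  haveI := hG
  have hpG : ((Scheme.Modules.pushforward i).obj G).IsQuasicoherent :=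
    Groth.Agent.Lib.helper16.QCohAffinePush.isQuasicoherent_push i G
  have key : ∀ φ : G ⟶ (shriek i).obj ω, Φ k t' G φ =
      (Φ k t _ (((shriekAdj i).homEquiv G ω).symm φ)) ∘ₗ
        (pushEquivLin i k G n).symm.toLinearMap := by
    intro φ
    ext x
    have hy : (pushEquivLin i k ((shriek i).obj ω) n).symm (mapOver k φ n x) =
        mapOver k ((Scheme.Modules.pushforward i).map φ) n ((pushEquivLin i k G n).symm x) := by
      apply (pushEquivLin i k ((shriek i).obj ω) n).injective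
      rw [pushEquivLin_natural, LinearEquiv.apply_symm_apply, LinearEquiv.apply_symm_apply]
    have h1 : ((shriekAdj i).homEquiv G ω).symm φ = (Scheme.Modules.pushforward i).map φ ≫ ε :=
      (shriekAdj i).homEquiv_counit G ω φ
    show t (mapOver k ε n ((pushEquivLin i k ((shriek i).obj ω) n).symm (mapOver k φ n x))) =
      t (mapOver k (((shriekAdj i).homEquiv G ω).symm φ) n ((pushEquivLin i k G n).symm x))
    rw [hy, h1]
    exact congrArg t (map_comp_apply _ _ n _).symm
  constructor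
  · intro φ₁ φ₂ hφ
    change Φ k t' G φ₁ = Φ k t' G φ₂ at hφ
    rw [key, key] at hφ
    have h2 : Φ k t _ (((shriekAdj i).homEquiv G ω).symm φ₁) =
        Φ k t _ (((shriekAdj i).homEquiv G ω).symm φ₂) := by
      ext y
      have := congrArg (fun f => f (pushEquivLin i k G n y)) hφ
      simpa using this
    exact ((shriekAdj i).homEquiv G ω).symm.injective ((ht _ hpG).1 h2)
  · intro ψ
    obtain ⟨α, hα⟩ := (ht _ hpG).2 (ψ ∘ₗ (pushEquivLin i k G n).toLinearMap)
    refine ⟨(shriekAdj i).homEquiv G ω α, ?_⟩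
    change Φ k t' G _ = ψ
    rw [key, Equiv.symm_apply_apply, hα]
    ext y
    simp

theorem main (k : Type u) [Field k] (X Y : Scheme.{u}) [X.Over (Spec (CommRingCat.of k))]
    [Y.Over (Spec (CommRingCat.of k))] [IsProper (X ↘ (Spec (CommRingCat.of k)))]
    [IsProper (Y ↘ (Spec (CommRingCat.of k)))] (hdim : topologicalKrullDim X ≤ 1)
    [DCoh.HasRpush (X ↘ (Spec (CommRingCat.of k)))] (h : DCoh.RpushPreservesQCoh (X ↘ (Spec (CommRingCat.of k)))) [DCoh.HasShriek (X ↘ (Spec (CommRingCat.of k))) h]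
    (OY : DCoh.DQCoh (Spec (CommRingCat.of k))) (hOY : Nonempty (OY.obj ≅ DCoh.inD (Spec (CommRingCat.of k)) (Coh.structureModule (Spec (CommRingCat.of k)))))
    (i : Y ⟶ X) [IsClosedImmersion i] [i.IsOver (Spec (CommRingCat.of k))]
    [hR : DCoh.HasRpush (Y ↘ (Spec (CommRingCat.of k)))] (hY : DCoh.RpushPreservesQCoh (Y ↘ (Spec (CommRingCat.of k)))) [hS : DCoh.HasShriek (Y ↘ (Spec (CommRingCat.of k))) hY]
    [DCoh.HasSheafHom ((Coh.push i).obj (Coh.structureModule Y))] :
    Nonempty ((Coh.push i).obj (DCoh.dualizingMod (Y ↘ (Spec (CommRingCat.of k))) hY OY 1) ≅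
      (DCoh.sheafHom ((Coh.push i).obj (Coh.structureModule Y))).obj (DCoh.dualizingMod (X ↘ (Spec (CommRingCat.of k))) h OY 1)) := by
  have hdimY : topologicalKrullDim Y ≤ 1 := i.isClosedEmbedding.topologicalKrullDim_le.trans hdim
  haveI := Groth.Agent.Lib.Lead.CurveEuler.isNoetherian k X
  obtain ⟨tX, htX⟩ := Groth.Agent.Lib.helper13.CurveDual.exists_dualizing_pair k X hdim h OY hOY
  obtain ⟨tY, htY⟩ := Groth.Agent.Lib.helper13.CurveDual.exists_dualizing_pair k Y hdimY hY OY hOY
  have hωYq : (DCoh.dualizingMod (Y ↘ Spec (CommRingCat.of k)) hY OY 1).IsQuasicoherent :=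
    ((DCoh.shriek (Y ↘ Spec (CommRingCat.of k)) hY).obj OY).property (-1)
  have hωX := Groth.Agent.Lib.Helper18.CurveDualizing.isCoh_dualizingMod k X h OY hOY hdim
  -- `i^! ω_X` is coherent
  have hpush : Coh.IsCoh ((Scheme.Modules.pushforward i).obj (Coh.structureModule Y)) :=
    Groth.Agent.Lib.helper8.Dev.isCoh_push_structureModule i
  have h1 := Groth.Agent.Lib.helper21.ShHomCoh.isCoh_sheafHom hpush hωX
  let e1 := (sheafHomPushIso i).app (DCoh.dualizingMod (X ↘ Spec (CommRingCat.of k)) h OY 1)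
  have hω' : Coh.IsCoh ((shriek i).obj (DCoh.dualizingMod (X ↘ Spec (CommRingCat.of k)) h OY 1)) :=
    Groth.Agent.Lib.Helper20.DualProjCM.isCoh_of_isCoh_pushforward i _
      (Groth.Agent.Lib.helper21.ShHomCoh.isCoh_of_iso' e1 h1)
  obtain ⟨t', ht'⟩ := exists_good_shriek k i tX htX
  obtain ⟨e⟩ := Groth.Agent.Lib.Helper20.DualProjCM.nonempty_iso_of_good k tY t'
    (htY _ hωYq) (htY _ hω'.1) (ht' _ hωYq) (ht' _ hω'.1)
  exact ⟨(Scheme.Modules.pushforward i).mapIso e ≪≫ e1.symm ≪≫
    ((Groth.Agent.Lib.helper21.ShHomCoh.dcohSheafHomIso _).app _).symm⟩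

/-- Let X be proper over the field k of dimension ≤ 1, i : Y → X a closed immersion, and ω_X, ω_Y the
dualizing modules of X and of Y over k (degree -1 cohomology sheaves of the shriek of O for the
structure morphisms, assuming the derived pushforwards on D_QCoh and their right adjoints exist).
Then i_*ω_Y ≅ Hom_{O_X}(i_*O_Y, ω_X), where the sheaf Hom is taken as the right adjoint of i_*O_Y ⊗
− (assumed to exist). (Existence of an isomorphism only.) -/
theorem result (k : Type u) [Field k] (X : Scheme.{u}) [X.Over (Spec (CommRingCat.of k))] [IsProper (X ↘ (Spec (CommRingCat.of k)))] (hdim : topologicalKrullDim X ≤ 1)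
    [DCoh.HasRpush (X ↘ (Spec (CommRingCat.of k)))] (h : DCoh.RpushPreservesQCoh (X ↘ (Spec (CommRingCat.of k)))) [DCoh.HasShriek (X ↘ (Spec (CommRingCat.of k))) h]
    (OY : DCoh.DQCoh (Spec (CommRingCat.of k))) (hOY : Nonempty (OY.obj ≅ DCoh.inD (Spec (CommRingCat.of k)) (Coh.structureModule (Spec (CommRingCat.of k)))))
    {Y : Scheme.{u}} (i : Y ⟶ X) [IsClosedImmersion i]
    [DCoh.HasRpush (i ≫ (X ↘ (Spec (CommRingCat.of k))))] (hY : DCoh.RpushPreservesQCoh (i ≫ (X ↘ (Spec (CommRingCat.of k))))) [DCoh.HasShriek (i ≫ (X ↘ (Spec (CommRingCat.of k)))) hY]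
    [DCoh.HasSheafHom ((Coh.push i).obj (Coh.structureModule Y))] :
    Nonempty ((Coh.push i).obj (DCoh.dualizingMod (i ≫ (X ↘ (Spec (CommRingCat.of k)))) hY OY 1) ≅
      (DCoh.sheafHom ((Coh.push i).obj (Coh.structureModule Y))).obj (DCoh.dualizingMod (X ↘ (Spec (CommRingCat.of k))) h OY 1)) := by
  letI : Y.Over (Spec (CommRingCat.of k)) := ⟨i ≫ (X ↘ Spec (CommRingCat.of k))⟩
  haveI : i.IsOver (Spec (CommRingCat.of k)) := ⟨rfl⟩
  haveI : IsProper (Y ↘ Spec (CommRingCat.of k)) := by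
    change IsProper (i ≫ (X ↘ Spec (CommRingCat.of k)))
    infer_instance
  exact main k X Y hdim h OY hOY i
    (hR := ‹DCoh.HasRpush (i ≫ (X ↘ (Spec (CommRingCat.of k))))›) hY
    (hS := ‹DCoh.HasShriek (i ≫ (X ↘ (Spec (CommRingCat.of k)))) hY›)

end Groth.Agent.S6577
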