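import Groth.Statements.S6580
import Mathlib.Tactic.NoncommRing
import Mathlib.CategoryTheory.Preadditive.Basic
-- import your own Groth.Agent.* helpers here

set_option autoImplicit false
universe v u
open CategoryTheory CategoryTheory.Limits
open CohDer

namespace Groth.Agent.S6580

open CategoryTheory.Pretriangulated in
/-- Let (X, Y, Z, f, g, h) be a distinguished triangle of a pretriangulated category, and let a : X ⟶ X
and c : Z ⟶ Z be idempotents with h ≫ a⟦1⟧ = c ≫ h. Then there is an idempotent b : Y ⟶ Y such that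
(a, b, c) is an endomorphism of the triangle. -/
theorem result {D : Type u} [Category.{v} D] [Preadditive D] [HasZeroObject D] [HasShift D ℤ]
    [∀ n : ℤ, (shiftFunctor D n).Additive] [Pretriangulated D]
    (T : Triangle D) (hT : T ∈ distinguishedTriangles) (a : T.obj₁ ⟶ T.obj₁) (c : T.obj₃ ⟶ T.obj₃)
    (ha : a ≫ a = a) (hc : c ≫ c = c) (comm : T.mor₃ ≫ (shiftFunctor D (1 : ℤ)).map a = c ≫ T.mor₃) :
    ∃ b : T.obj₂ ⟶ T.obj₂, b ≫ b = b ∧ T.mor₁ ≫ b = a ≫ T.mor₁ ∧ T.mor₂ ≫ c = b ≫ T.mor₂ := by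
  obtain ⟨b₀, hb₁, hb₂⟩ := complete_distinguished_triangle_morphism₂ T T hT hT a c comm
  -- d = b₀² - b₀ squares to zero
  have hd1 : T.mor₁ ≫ (b₀ ≫ b₀ - b₀) = 0 := by
    rw [Preadditive.comp_sub, ← Category.assoc, hb₁, Category.assoc, hb₁, ← Category.assoc, ha,
      sub_self]
  have hd2 : (b₀ ≫ b₀ - b₀) ≫ T.mor₂ = 0 := by
    rw [Preadditive.sub_comp, Category.assoc, ← hb₂, ← Category.assoc, ← hb₂, Category.assoc, hc,
      sub_self]
  obtain ⟨d', hd'⟩ := Triangle.coyoneda_exact₂ T hT _ hd2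
  have hdd : (b₀ ≫ b₀ - b₀) ≫ (b₀ ≫ b₀ - b₀) = 0 := by
    have : (b₀ ≫ b₀ - b₀) ≫ (b₀ ≫ b₀ - b₀) = (d' ≫ T.mor₁) ≫ (b₀ ≫ b₀ - b₀) := by rw [← hd']
    rw [this, Category.assoc, hd1, comp_zero]
  -- work in the endomorphism ring
  let B : End T.obj₂ := b₀
  have hB : (B * B - B) * (B * B - B) = 0 := hdd
  have hidem : (3 * (B * B) - 2 * (B * B * B)) * (3 * (B * B) - 2 * (B * B * B)) =
      3 * (B * B) - 2 * (B * B * B) := by
    have h1 : (3 * (B * B) - 2 * (B * B * B)) * (3 * (B * B) - 2 * (B * B * B)) -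
        (3 * (B * B) - 2 * (B * B * B)) =
        (B * B - B) * (B * B - B) * (4 * (B * B) - 4 * B - 3) := by
      noncomm_ring
    rw [hB, zero_mul] at h1
    exact sub_eq_zero.mp h1
  have hbb : ((b₀ ≫ b₀ + b₀ ≫ b₀ + b₀ ≫ b₀) - (b₀ ≫ b₀ ≫ b₀ + b₀ ≫ b₀ ≫ b₀) : T.obj₂ ⟶ T.obj₂) =
      (3 * (B * B) - 2 * (B * B * B) : End T.obj₂) := by
    show (B * B + B * B + B * B - (B * B * B + B * B * B) : End T.obj₂) = _
    noncomm_ring
  refine ⟨(b₀ ≫ b₀ + b₀ ≫ b₀ + b₀ ≫ b₀) - (b₀ ≫ b₀ ≫ b₀ + b₀ ≫ b₀ ≫ b₀), ?_, ?_, ?_⟩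
  · rw [hbb]
    exact hidem
  · have e1 : T.mor₁ ≫ (b₀ ≫ b₀) = a ≫ T.mor₁ := by
      rw [← Category.assoc, hb₁, Category.assoc, hb₁, ← Category.assoc, ha]
    have e2 : T.mor₁ ≫ (b₀ ≫ b₀ ≫ b₀) = a ≫ T.mor₁ := by
      rw [← Category.assoc, hb₁, Category.assoc, e1, ← Category.assoc, ha]
    rw [Preadditive.comp_sub, Preadditive.comp_add, Preadditive.comp_add, Preadditive.comp_add,
      e1, e2]
    abel
  · have e1 : (b₀ ≫ b₀) ≫ T.mor₂ = T.mor₂ ≫ c := by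
      rw [Category.assoc, ← hb₂, ← Category.assoc, ← hb₂, Category.assoc, hc]
    have e2 : (b₀ ≫ b₀ ≫ b₀) ≫ T.mor₂ = T.mor₂ ≫ c := by
      rw [Category.assoc, e1, ← Category.assoc, ← hb₂, Category.assoc, hc]
    rw [Preadditive.sub_comp, Preadditive.add_comp, Preadditive.add_comp, Preadditive.add_comp,
      e1, e2]
    abel

end Groth.Agent.S6580
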