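import Groth.Statements.S6581
import Groth.Agent.Lib.Helper25.TriangleFive
-- import your own Groth.Agent.* helpers here

set_option autoImplicit false
universe v u
open CategoryTheory CategoryTheory.Limits
open CohDer

namespace Groth.Agent.S6581

open CategoryTheory.Pretriangulated in
/-- Let T = (X, Y, Z, f, g, h) and T' = (X', Y', Z', f', g', h') be triangles in a pretriangulated
category. The direct sum triangle (X ⊞ X', Y ⊞ Y', Z ⊞ Z', f ⊕ f', g ⊕ g', h ⊕ h') (whose third map
Z ⊞ Z' ⟶ (X ⊞ X')⟦1⟧ has components h ≫ inl⟦1⟧ and h' ≫ inr⟦1⟧) is distinguished if and only if T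
and T' are both distinguished. -/
theorem result {D : Type u} [Category.{v} D] [Preadditive D] [HasZeroObject D] [HasShift D ℤ]
    [∀ n : ℤ, (shiftFunctor D n).Additive] [Pretriangulated D]
    (T T' : Triangle D) :
    Triangle.mk (biprod.map T.mor₁ T'.mor₁) (biprod.map T.mor₂ T'.mor₂)
        (biprod.desc (T.mor₃ ≫ (shiftFunctor D (1 : ℤ)).map biprod.inl) (T'.mor₃ ≫ (shiftFunctor D (1 : ℤ)).map biprod.inr)) ∈ distinguishedTriangles ↔
      (T ∈ distinguishedTriangles ∧ T' ∈ distinguishedTriangles) := by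
  -- abbreviations
  have hfst : biprod.desc (T.mor₃ ≫ (shiftFunctor D (1 : ℤ)).map biprod.inl)
      (T'.mor₃ ≫ (shiftFunctor D (1 : ℤ)).map biprod.inr) ≫
      (shiftFunctor D (1 : ℤ)).map (biprod.fst : T.obj₁ ⊞ T'.obj₁ ⟶ T.obj₁) = biprod.fst ≫ T.mor₃ := by
    apply biprod.hom_ext'
    · rw [biprod.inl_desc_assoc, Category.assoc, ← Functor.map_comp, biprod.inl_fst,
        CategoryTheory.Functor.map_id, Category.comp_id, biprod.inl_fst_assoc]
    · rw [biprod.inr_desc_assoc, Category.assoc, ← Functor.map_comp, biprod.inr_fst,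
        Functor.map_zero, comp_zero, biprod.inr_fst_assoc, zero_comp]
  have hsnd : biprod.desc (T.mor₃ ≫ (shiftFunctor D (1 : ℤ)).map biprod.inl)
      (T'.mor₃ ≫ (shiftFunctor D (1 : ℤ)).map biprod.inr) ≫
      (shiftFunctor D (1 : ℤ)).map (biprod.snd : T.obj₁ ⊞ T'.obj₁ ⟶ T'.obj₁) = biprod.snd ≫ T'.mor₃ := by
    apply biprod.hom_ext'
    · rw [biprod.inl_desc_assoc, Category.assoc, ← Functor.map_comp, biprod.inl_snd,
        Functor.map_zero, comp_zero, biprod.inl_snd_assoc, zero_comp]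
    · rw [biprod.inr_desc_assoc, Category.assoc, ← Functor.map_comp, biprod.inr_snd,
        CategoryTheory.Functor.map_id, Category.comp_id, biprod.inr_snd_assoc]
  constructor
  · intro hS
    constructor
    · refine Groth.Agent.Lib.helper25.distinguished_of_retract T _ hS
        (Triangle.homMk _ _ biprod.inl biprod.inl biprod.inl (biprod.inl_map _ _).symm
          (biprod.inl_map _ _).symm (biprod.inl_desc _ _).symm)
        (Triangle.homMk _ _ biprod.fst biprod.fst biprod.fst (biprod.map_fst _ _)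
          (biprod.map_fst _ _) hfst) ?_
      ext
      · exact biprod.inl_fst
      · exact biprod.inl_fst
      · exact biprod.inl_fst
    · refine Groth.Agent.Lib.helper25.distinguished_of_retract T' _ hS
        (Triangle.homMk _ _ biprod.inr biprod.inr biprod.inr (biprod.inr_map _ _).symm
          (biprod.inr_map _ _).symm (biprod.inr_desc _ _).symm)
        (Triangle.homMk _ _ biprod.snd biprod.snd biprod.snd (biprod.map_snd _ _)
          (biprod.map_snd _ _) hsnd) ?_
      ext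
      · exact biprod.inr_snd
      · exact biprod.inr_snd
      · exact biprod.inr_snd
  · rintro ⟨hT, hT'⟩
    obtain ⟨Q, g₀, h₀, hS₀⟩ := distinguished_cocone_triangle (biprod.map T.mor₁ T'.mor₁)
    obtain ⟨c₁, hc₁1, hc₁2⟩ : ∃ c₁ : T.obj₃ ⟶ Q, T.mor₂ ≫ c₁ = biprod.inl ≫ g₀ ∧
        T.mor₃ ≫ (shiftFunctor D (1 : ℤ)).map biprod.inl = c₁ ≫ h₀ :=
      complete_distinguished_triangle_morphism _ _ hT hS₀ biprod.inl biprod.inl
        (biprod.inl_map _ _).symm
    obtain ⟨c₂, hc₂1, hc₂2⟩ : ∃ c₂ : T'.obj₃ ⟶ Q, T'.mor₂ ≫ c₂ = biprod.inr ≫ g₀ ∧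
        T'.mor₃ ≫ (shiftFunctor D (1 : ℤ)).map biprod.inr = c₂ ≫ h₀ :=
      complete_distinguished_triangle_morphism _ _ hT' hS₀ biprod.inr biprod.inr
        (biprod.inr_map _ _).symm
    have hg : biprod.map T.mor₂ T'.mor₂ ≫ biprod.desc c₁ c₂ = g₀ := by
      apply biprod.hom_ext'
      · rw [biprod.inl_map_assoc, biprod.inl_desc, hc₁1]
      · rw [biprod.inr_map_assoc, biprod.inr_desc, hc₂1]
    have hh : biprod.desc c₁ c₂ ≫ h₀ = biprod.desc (T.mor₃ ≫ (shiftFunctor D (1 : ℤ)).map biprod.inl)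
        (T'.mor₃ ≫ (shiftFunctor D (1 : ℤ)).map biprod.inr) := by
      apply biprod.hom_ext'
      · rw [biprod.inl_desc_assoc, biprod.inl_desc, hc₁2]
      · rw [biprod.inr_desc_assoc, biprod.inr_desc, hc₂2]
    have hiso : IsIso (biprod.desc c₁ c₂) := by
      refine Groth.Agent.Lib.helper25.isIso_of_five (biprod.map T.mor₁ T'.mor₁)
        (biprod.map T.mor₂ T'.mor₂) _ g₀ h₀ _ hg hh ?_ ?_ ?_ ?_ ?_ ?_
      · intro A u hu
        have hu1 : (u ≫ biprod.fst) ≫ T.mor₃ = 0 := by
          rw [Category.assoc, ← hfst, ← Category.assoc, hu, zero_comp]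
        have hu2 : (u ≫ biprod.snd) ≫ T'.mor₃ = 0 := by
          rw [Category.assoc, ← hsnd, ← Category.assoc, hu, zero_comp]
        obtain ⟨v₁, hv₁⟩ := Triangle.coyoneda_exact₃ _ hT _ hu1
        obtain ⟨v₂, hv₂⟩ := Triangle.coyoneda_exact₃ _ hT' _ hu2
        refine ⟨biprod.lift v₁ v₂, ?_⟩
        apply biprod.hom_ext
        · rw [Category.assoc, biprod.map_fst, biprod.lift_fst_assoc, hv₁]
        · rw [Category.assoc, biprod.map_snd, biprod.lift_snd_assoc, hv₂]
      · intro A w hw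
        have hw1 : (w ≫ (shiftFunctor D (1 : ℤ)).map biprod.fst) ≫
            (shiftFunctor D (1 : ℤ)).map T.mor₁ = 0 := by
          rw [Category.assoc, ← Functor.map_comp, ← biprod.map_fst T.mor₁ T'.mor₁, Functor.map_comp,
            ← Category.assoc, hw, zero_comp]
        have hw2 : (w ≫ (shiftFunctor D (1 : ℤ)).map biprod.snd) ≫
            (shiftFunctor D (1 : ℤ)).map T'.mor₁ = 0 := by
          rw [Category.assoc, ← Functor.map_comp, ← biprod.map_snd T.mor₁ T'.mor₁, Functor.map_comp,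
            ← Category.assoc, hw, zero_comp]
        obtain ⟨u₁, hu₁⟩ := Triangle.coyoneda_exact₁ _ hT _ hw1
        obtain ⟨u₂, hu₂⟩ := Triangle.coyoneda_exact₁ _ hT' _ hw2
        refine ⟨biprod.lift u₁ u₂, ?_⟩
        have hid : (shiftFunctor D (1 : ℤ)).map (biprod.fst : T.obj₁ ⊞ T'.obj₁ ⟶ T.obj₁) ≫
            (shiftFunctor D (1 : ℤ)).map biprod.inl +
            (shiftFunctor D (1 : ℤ)).map (biprod.snd : T.obj₁ ⊞ T'.obj₁ ⟶ T'.obj₁) ≫
            (shiftFunctor D (1 : ℤ)).map biprod.inr = 𝟙 _ := by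
          rw [← Functor.map_comp, ← Functor.map_comp, ← Functor.map_add, biprod.total,
            CategoryTheory.Functor.map_id]
        rw [biprod.desc_eq, Preadditive.comp_add, biprod.lift_fst_assoc, biprod.lift_snd_assoc,
          ← Category.assoc, ← hu₁, ← Category.assoc, ← hu₂, Category.assoc, Category.assoc,
          ← Preadditive.comp_add, hid, Category.comp_id]
      · apply biprod.hom_ext
        · rw [Category.assoc, biprod.map_fst, ← Category.assoc, biprod.map_fst, Category.assoc,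
            comp_distTriang_mor_zero₁₂ _ hT, comp_zero, zero_comp]
        · rw [Category.assoc, biprod.map_snd, ← Category.assoc, biprod.map_snd, Category.assoc,
            comp_distTriang_mor_zero₁₂ _ hT', comp_zero, zero_comp]
      · intro A u hu
        exact Triangle.coyoneda_exact₃ _ hS₀ u hu
      · intro A v hv
        exact Triangle.coyoneda_exact₂ _ hS₀ v hv
      · exact comp_distTriang_mor_zero₃₁ _ hS₀
    refine isomorphic_distinguished _ hS₀ _ ?_
    let e₃ : T.obj₃ ⊞ T'.obj₃ ≅ Q := @asIso _ _ _ _ (biprod.desc c₁ c₂) hiso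
    exact Triangle.isoMk _ (Triangle.mk (biprod.map T.mor₁ T'.mor₁) g₀ h₀) (Iso.refl _) (Iso.refl _) e₃
      (by show biprod.map T.mor₁ T'.mor₁ ≫ 𝟙 _ = 𝟙 _ ≫ biprod.map T.mor₁ T'.mor₁
          rw [Category.comp_id, Category.id_comp])
      (by show biprod.map T.mor₂ T'.mor₂ ≫ biprod.desc c₁ c₂ = 𝟙 _ ≫ g₀
          rw [Category.id_comp]; exact hg)
      (by show _ ≫ (shiftFunctor D (1 : ℤ)).map (𝟙 _) = biprod.desc c₁ c₂ ≫ h₀
          rw [CategoryTheory.Functor.map_id, Category.comp_id]; exact hh.symm)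

end Groth.Agent.S6581
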