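import Groth.Statements.S6587
-- import your own Groth.Agent.* helpers here

set_option autoImplicit false
universe v u
open CategoryTheory CategoryTheory.Limits Opposite
open CohDer

namespace Groth.Agent.S6587

open CategoryTheory.Pretriangulated in
/-- Let D be a triangulated category and let X_n → Y_n → Z_n → X_n⟦1⟧ be an inverse system of
distinguished triangles of D indexed by ℕ (levelwise maps f, g, h of inverse systems, each level
distinguished). If the inverse system (Z_n) is pro-zero, then the levelwise map f : (X_n) → (Y_n) is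
a pro-isomorphism. -/
theorem result {D : Type u} [Category.{v} D] [Preadditive D] [HasZeroObject D] [HasShift D ℤ]
    [∀ n : ℤ, (shiftFunctor D n).Additive] [Pretriangulated D] [IsTriangulated D]
    (X Y Z : ARSys.PS D) (f : X ⟶ Y) (g : Y ⟶ Z) (h : Z ⟶ X ⋙ shiftFunctor D (1 : ℤ))
    (hT : ∀ n : ℕ, Triangle.mk (f.app (op n)) (g.app (op n)) (h.app (op n)) ∈ distinguishedTriangles)
    (hZ : DerCA.IsProZero Z) :
    DerCA.IsProIso f := by
  intro n
  obtain ⟨m, hnm, hZ1⟩ := hZ n
  obtain ⟨k, hmk, hZ2⟩ := hZ m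
  -- naturality facts
  have natf : ∀ {i j : ℕ} (hij : i ≤ j), ARSys.tr X hij ≫ f.app (op i) = f.app (op j) ≫ ARSys.tr Y hij :=
    fun hij => f.naturality (homOfLE hij).op
  have natg : ∀ {i j : ℕ} (hij : i ≤ j), ARSys.tr Y hij ≫ g.app (op i) = g.app (op j) ≫ ARSys.tr Z hij :=
    fun hij => g.naturality (homOfLE hij).op
  have nath : ∀ {i j : ℕ} (hij : i ≤ j), ARSys.tr Z hij ≫ h.app (op i) =
      h.app (op j) ≫ (shiftFunctor D (1 : ℤ)).map (ARSys.tr X hij) :=
    fun hij => h.naturality (homOfLE hij).op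
  have trX : ARSys.tr X hmk ≫ ARSys.tr X hnm = ARSys.tr X (hnm.trans hmk) := by
    dsimp only [ARSys.tr]
    rw [← X.map_comp]
    rfl
  have trY : ARSys.tr Y hmk ≫ ARSys.tr Y hnm = ARSys.tr Y (hnm.trans hmk) := by
    dsimp only [ARSys.tr]
    rw [← Y.map_comp]
    rfl
  -- lift the transition map of Y
  have h1 : ARSys.tr Y hmk ≫ g.app (op m) = 0 := by
    rw [natg hmk, hZ2, comp_zero]
  obtain ⟨b', hb'⟩ : ∃ b' : Y.obj (op k) ⟶ X.obj (op m), ARSys.tr Y hmk = b' ≫ f.app (op m) :=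
    Triangle.coyoneda_exact₂ _ (hT m) _ h1
  refine ⟨k, hnm.trans hmk, b' ≫ ARSys.tr X hnm, ?_, ?_⟩
  · -- u = f_k ≫ b' - tr
    have hu : (f.app (op k) ≫ b' - ARSys.tr X hmk) ≫ f.app (op m) = 0 := by
      rw [Preadditive.sub_comp, Category.assoc, ← hb', natf hmk, sub_self]
    have hu1 : (shiftFunctor D (1 : ℤ)).map (f.app (op k) ≫ b' - ARSys.tr X hmk) ≫
        (shiftFunctor D (1 : ℤ)).map (f.app (op m)) = 0 := by
      rw [← Functor.map_comp, hu, Functor.map_zero]
    obtain ⟨w, hw⟩ : ∃ w : (shiftFunctor D (1 : ℤ)).obj (X.obj (op k)) ⟶ Z.obj (op m),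
        (shiftFunctor D (1 : ℤ)).map (f.app (op k) ≫ b' - ARSys.tr X hmk) = w ≫ h.app (op m) :=
      Triangle.coyoneda_exact₁ _ (hT m) _ hu1
    have hu2 : (f.app (op k) ≫ b' - ARSys.tr X hmk) ≫ ARSys.tr X hnm = 0 := by
      apply (shiftFunctor D (1 : ℤ)).map_injective
      rw [Functor.map_comp, hw, Category.assoc, ← nath hnm, hZ1, zero_comp, comp_zero,
        Functor.map_zero]
    rw [Preadditive.sub_comp, sub_eq_zero, Category.assoc, trX] at hu2
    exact hu2
  · rw [Category.assoc, natf hnm, ← Category.assoc, ← hb', trY]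

end Groth.Agent.S6587
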