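import Groth.Statements.S6593
import Mathlib.CategoryTheory.Limits.Preserves.Shapes.Products
import Mathlib.CategoryTheory.Adjunction.Limits
-- import your own Groth.Agent.* helpers here

set_option autoImplicit false
universe w v u
open CategoryTheory CategoryTheory.Limits
open CohDer

namespace Groth.Agent.S6593

open CategoryTheory.Pretriangulated in
theorem aux {D : Type u} [Category.{v} D] [Preadditive D] [HasZeroObject D] [HasShift D ℤ]
    [∀ n : ℤ, (shiftFunctor D n).Additive] [Pretriangulated D]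
    {J : Type w} (T : J → Triangle D) (hT : ∀ j, T j ∈ distinguishedTriangles)
    [HasCoproduct (fun j => (T j).obj₁)] [HasCoproduct (fun j => (T j).obj₂)]
    [HasCoproduct (fun j => (T j).obj₃)]
    (f₁ : (∐ fun j => (T j).obj₁) ⟶ ∐ fun j => (T j).obj₂)
    (g₁ : (∐ fun j => (T j).obj₂) ⟶ ∐ fun j => (T j).obj₃)
    (h₁ : (∐ fun j => (T j).obj₃) ⟶ (shiftFunctor D (1 : ℤ)).obj (∐ fun j => (T j).obj₁))
    (hf₁ : ∀ j, Sigma.ι (fun j => (T j).obj₁) j ≫ f₁ = (T j).mor₁ ≫ Sigma.ι (fun j => (T j).obj₂) j)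
    (hg₁ : ∀ j, Sigma.ι (fun j => (T j).obj₂) j ≫ g₁ = (T j).mor₂ ≫ Sigma.ι (fun j => (T j).obj₃) j)
    (hh₁ : ∀ j, Sigma.ι (fun j => (T j).obj₃) j ≫ h₁ =
      (T j).mor₃ ≫ (shiftFunctor D (1 : ℤ)).map (Sigma.ι (fun j => (T j).obj₁) j)) :
    Triangle.mk f₁ g₁ h₁ ∈ distinguishedTriangles := by
  have hcX : IsColimit (Cofan.mk _ fun j => (shiftFunctor D (1 : ℤ)).map
      (Sigma.ι (fun j => (T j).obj₁) j)) :=
    isColimitOfHasCoproductOfPreservesColimit (shiftFunctor D (1 : ℤ)) (fun j => (T j).obj₁)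
  have hcY : IsColimit (Cofan.mk _ fun j => (shiftFunctor D (1 : ℤ)).map
      (Sigma.ι (fun j => (T j).obj₂) j)) :=
    isColimitOfHasCoproductOfPreservesColimit (shiftFunctor D (1 : ℤ)) (fun j => (T j).obj₂)
  obtain ⟨Z', f₂, f₃, hT'⟩ := distinguished_cocone_triangle f₁
  obtain ⟨ψ₃, hψ₂, hψ₃⟩ : ∃ ψ₃ : ∀ j, (T j).obj₃ ⟶ Z',
      (∀ j, (T j).mor₂ ≫ ψ₃ j = Sigma.ι (fun j => (T j).obj₂) j ≫ f₂) ∧
      (∀ j, (T j).mor₃ ≫ (shiftFunctor D (1 : ℤ)).map (Sigma.ι (fun j => (T j).obj₁) j) =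
        ψ₃ j ≫ f₃) := by
    have := fun j => complete_distinguished_triangle_morphism _ _ (hT j) hT'
      (Sigma.ι (fun j => (T j).obj₁) j) (Sigma.ι (fun j => (T j).obj₂) j) (hf₁ j).symm
    exact ⟨fun j => (this j).choose, fun j => (this j).choose_spec.1,
      fun j => (this j).choose_spec.2⟩
  obtain ⟨c, hιc⟩ : ∃ c : (∐ fun j => (T j).obj₃) ⟶ Z',
      ∀ j, Sigma.ι (fun j => (T j).obj₃) j ≫ c = ψ₃ j :=
    ⟨Sigma.desc ψ₃, fun j => Sigma.ι_desc _ j⟩
  have comm₂ : g₁ ≫ c = f₂ := by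
    apply Sigma.hom_ext
    intro j
    rw [← Category.assoc, hg₁, Category.assoc, hιc, hψ₂]
  have comm₃ : h₁ = c ≫ f₃ := by
    apply Sigma.hom_ext
    intro j
    rw [← Category.assoc, hιc, ← hψ₃, hh₁]
  have hf₁g₁ : f₁ ≫ g₁ = 0 := by
    apply Sigma.hom_ext
    intro j
    rw [← Category.assoc, hf₁, Category.assoc, hg₁, ← Category.assoc,
      comp_distTriang_mor_zero₁₂ _ (hT j), zero_comp, comp_zero]
  suffices IsIso c by
    refine isomorphic_distinguished _ hT' _ ?_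
    let e₃ : (∐ fun j => (T j).obj₃) ≅ Z' := asIso c
    exact Triangle.isoMk (Triangle.mk f₁ g₁ h₁) (Triangle.mk f₁ f₂ f₃) (Iso.refl _) (Iso.refl _) e₃
      (by show f₁ ≫ 𝟙 _ = 𝟙 _ ≫ f₁; rw [Category.comp_id, Category.id_comp])
      (by show g₁ ≫ c = 𝟙 _ ≫ f₂; rw [Category.id_comp]; exact comm₂)
      (by show h₁ ≫ (shiftFunctor D (1 : ℤ)).map (𝟙 _) = c ≫ f₃
          rw [CategoryTheory.Functor.map_id, Category.comp_id]; exact comm₃)
  refine isIso_of_coyoneda_map_bijective _ (fun A => ⟨?_, ?_⟩)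
  · suffices Epi c by
      intro a₁ a₂ ha
      simpa only [← cancel_epi c] using ha
    rw [Preadditive.epi_iff_cancel_zero]
    intro A u hu
    have hu' : f₂ ≫ u = 0 := by rw [← comm₂, Category.assoc, hu, comp_zero]
    obtain ⟨v, hv⟩ : ∃ v : (shiftFunctor D (1 : ℤ)).obj (∐ fun j => (T j).obj₁) ⟶ A, u = f₃ ≫ v :=
      Triangle.yoneda_exact₃ _ hT' u hu'
    have hj : ∀ j, (T j).mor₃ ≫
        ((shiftFunctor D (1 : ℤ)).map (Sigma.ι (fun j => (T j).obj₁) j) ≫ v) = 0 := by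
      intro j
      rw [← Category.assoc, ← hh₁, Category.assoc, comm₃, Category.assoc, ← hv, hu, comp_zero]
    have hw : ∀ j, ∃ w : (shiftFunctor D (1 : ℤ)).obj (T j).obj₂ ⟶ A,
        (shiftFunctor D (1 : ℤ)).map (Sigma.ι (fun j => (T j).obj₁) j) ≫ v =
          (-(shiftFunctor D (1 : ℤ)).map (T j).mor₁) ≫ w :=
      fun j => Triangle.yoneda_exact₃ _ (rot_of_distTriang _ (hT j)) _ (hj j)
    obtain ⟨w, hwfac⟩ : ∃ w : (shiftFunctor D (1 : ℤ)).obj (∐ fun j => (T j).obj₂) ⟶ A,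
        ∀ j, (shiftFunctor D (1 : ℤ)).map (Sigma.ι (fun j => (T j).obj₂) j) ≫ w = -(hw j).choose :=
      ⟨Cofan.IsColimit.desc hcY (fun j => -(hw j).choose), fun j => Cofan.IsColimit.fac hcY _ j⟩
    have hvw : v = (shiftFunctor D (1 : ℤ)).map f₁ ≫ w := by
      apply Cofan.IsColimit.hom_ext hcX
      intro j
      dsimp
      rw [(hw j).choose_spec, ← Category.assoc, ← Functor.map_comp, hf₁, Functor.map_comp,
        Category.assoc, hwfac, Preadditive.neg_comp, Preadditive.comp_neg]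
    have h31 : f₃ ≫ (shiftFunctor D (1 : ℤ)).map f₁ = 0 := comp_distTriang_mor_zero₃₁ _ hT'
    rw [hv, hvw, ← Category.assoc, h31, zero_comp]
  · intro a
    obtain ⟨a'', ha''⟩ : ∃ a'' : Z' ⟶ A, g₁ ≫ a = f₂ ≫ a'' :=
      Triangle.yoneda_exact₂ _ hT' (g₁ ≫ a) (by
        show f₁ ≫ g₁ ≫ a = 0
        rw [← Category.assoc, hf₁g₁, zero_comp])
    have hd : g₁ ≫ (a - c ≫ a'') = 0 := by
      rw [Preadditive.comp_sub, ← Category.assoc, comm₂, ha'', sub_self]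
    have hb : ∀ j, ∃ b : (shiftFunctor D (1 : ℤ)).obj (T j).obj₁ ⟶ A,
        Sigma.ι (fun j => (T j).obj₃) j ≫ (a - c ≫ a'') = (T j).mor₃ ≫ b :=
      fun j => Triangle.yoneda_exact₃ _ (hT j) _ (by
        rw [← Category.assoc, ← hg₁, Category.assoc, hd, comp_zero])
    obtain ⟨b, hbfac⟩ : ∃ b : (shiftFunctor D (1 : ℤ)).obj (∐ fun j => (T j).obj₁) ⟶ A,
        ∀ j, (shiftFunctor D (1 : ℤ)).map (Sigma.ι (fun j => (T j).obj₁) j) ≫ b = (hb j).choose :=
      ⟨Cofan.IsColimit.desc hcX (fun j => (hb j).choose), fun j => Cofan.IsColimit.fac hcX _ j⟩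
    have hdb : a - c ≫ a'' = h₁ ≫ b := by
      apply Sigma.hom_ext
      intro j
      rw [(hb j).choose_spec, ← hbfac, ← Category.assoc, ← hh₁, Category.assoc]
    refine ⟨a'' + f₃ ≫ b, ?_⟩
    show c ≫ (a'' + f₃ ≫ b) = a
    rw [Preadditive.comp_add, ← Category.assoc, ← comm₃, ← hdb]
    abel


open CategoryTheory.Pretriangulated in
/-- Let D be a pretriangulated category and (X_i → Y_i → Z_i → X_i⟦1⟧)_{i ∈ I} a family of distinguished
triangles. If the direct sums ⨁ X_i, ⨁ Y_i, ⨁ Z_i exist, then ⨁ X_i → ⨁ Y_i → ⨁ Z_i → (⨁ X_i)⟦1⟧ is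
a distinguished triangle (the last map is induced by the composites Z_i → X_i⟦1⟧ → (⨁ X_i)⟦1⟧). -/
theorem result {D : Type u} [Category.{v} D] [Preadditive D] [HasZeroObject D] [HasShift D ℤ]
    [∀ n : ℤ, (shiftFunctor D n).Additive] [Pretriangulated D]
    {J : Type w} (T : J → Triangle D) (hT : ∀ j, T j ∈ distinguishedTriangles)
    [HasCoproduct (fun j => (T j).obj₁)] [HasCoproduct (fun j => (T j).obj₂)] [HasCoproduct (fun j => (T j).obj₃)] :
    Triangle.mk (Limits.Sigma.map (fun j => (T j).mor₁)) (Limits.Sigma.map (fun j => (T j).mor₂))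
      (Sigma.desc (fun j => (T j).mor₃ ≫ (shiftFunctor D (1 : ℤ)).map (Sigma.ι (fun j => (T j).obj₁) j))) ∈ distinguishedTriangles := by
  exact aux T hT _ _ _ (fun j => Sigma.ι_map _ j) (fun j => Sigma.ι_map _ j)
    (fun j => Sigma.ι_desc _ j)

end Groth.Agent.S6593
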