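import Groth.Statements.S6594
-- import your own Groth.Agent.* helpers here

set_option autoImplicit false
universe v u
open CategoryTheory CategoryTheory.Limits
open CohDer

namespace Groth.Agent.S6594

open CategoryTheory.Pretriangulated in
/-- (1) ⇔ (3): let D be a pretriangulated category and f : X ⟶ Y a morphism. Then f has a kernel if and
only if f is isomorphic to a composite K ⊞ Z → Z → Z ⊞ Q of a projection and a coprojection for some
objects K, Z, Q. -/
theorem result {D : Type u} [Category.{v} D] [Preadditive D] [HasZeroObject D] [HasShift D ℤ]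
    [∀ n : ℤ, (shiftFunctor D n).Additive] [Pretriangulated D]
    {X Y : D} (f : X ⟶ Y) :
    HasKernel f ↔ ∃ (K Z Q : D) (e₁ : X ≅ K ⊞ Z) (e₂ : Y ≅ Z ⊞ Q),
      f = e₁.hom ≫ biprod.snd ≫ biprod.inl ≫ e₂.inv := by
  constructor
  · intro _
    obtain ⟨Z, p, h, hT⟩ := distinguished_cocone_triangle (kernel.ι f)
    have h0 : (Triangle.mk (kernel.ι f) p h).mor₃ = 0 :=
      Triangle.mor₃_eq_zero_of_mono₁ _ hT (show Mono (kernel.ι f) from inferInstance)
    obtain ⟨e, he₁, he₂⟩ : ∃ (e : X ≅ kernel f ⊞ Z), kernel.ι f ≫ e.hom = biprod.inl ∧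
        p = e.hom ≫ biprod.snd := exists_iso_binaryBiproduct_of_distTriang _ hT h0
    obtain ⟨f', hf'⟩ : ∃ f' : Z ⟶ Y, f = p ≫ f' :=
      Triangle.yoneda_exact₂ _ hT f (kernel.condition f)
    have hkp : kernel.ι f ≫ p = 0 := comp_distTriang_mor_zero₁₂ _ hT
    have hmono : Mono f' := by
      apply Preadditive.mono_of_cancel_zero
      intro W u hu
      have hu1 : (u ≫ biprod.inr ≫ e.inv) ≫ p = u := by
        rw [he₂]
        simp
      have hu2 : (u ≫ biprod.inr ≫ e.inv) ≫ f = 0 :=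
        (congrArg (fun t => (u ≫ biprod.inr ≫ e.inv) ≫ t) hf').trans
          (by rw [← Category.assoc, hu1, hu])
      rw [← hu1, ← kernel.lift_ι f _ hu2, Category.assoc, hkp, comp_zero]
    obtain ⟨Q, p', h', hT'⟩ := distinguished_cocone_triangle f'
    have h0' : (Triangle.mk f' p' h').mor₃ = 0 :=
      Triangle.mor₃_eq_zero_of_mono₁ _ hT' (show Mono f' from hmono)
    obtain ⟨e₂, he₂₁, he₂₂⟩ : ∃ (e₂ : Y ≅ Z ⊞ Q), f' ≫ e₂.hom = biprod.inl ∧
        p' = e₂.hom ≫ biprod.snd := exists_iso_binaryBiproduct_of_distTriang _ hT' h0'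
    refine ⟨kernel f, Z, Q, e, e₂, ?_⟩
    have : f' = biprod.inl ≫ e₂.inv := by
      rw [← he₂₁, Category.assoc, Iso.hom_inv_id, Category.comp_id]
    exact hf'.trans (by rw [he₂, this, Category.assoc])
  · rintro ⟨K, Z, Q, e₁, e₂, rfl⟩
    have : Mono (biprod.inl ≫ e₂.inv : Z ⟶ Y) := mono_comp _ _
    have : HasKernel ((biprod.snd : K ⊞ Z ⟶ Z) ≫ biprod.inl ≫ e₂.inv) := hasKernel_comp_mono _ _
    exact hasKernel_iso_comp _ _

end Groth.Agent.S6594
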