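import Groth.Statements.S6596
import Groth.Agent.S6595
-- import your own Groth.Agent.* helpers here

set_option autoImplicit false
universe v u
open CategoryTheory CategoryTheory.Limits
open CohDer

namespace Groth.Agent.S6596

theorem hom_zero_of_shift_eq {D : Type u} [Category.{v} D] [Preadditive D] [HasShift D ℤ]
    {A B : D} (p q : ℤ) (h : p = q)
    (H : ∀ ψ : (shiftFunctor D p).obj A ⟶ B, ψ = 0) (g : (shiftFunctor D q).obj A ⟶ B) : g = 0 := by
  subst h
  exact H g


open CategoryTheory.Pretriangulated in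
/-- Let D be a triangulated category and φ : X ⟶ X' a morphism of chain complexes in D considered in
degrees ≤ n, where a Postnikov system for the complex X_n → … → X_0 consists of objects Y_k, an
isomorphism Y_0 ⟶ X_0, and for 0 ≤ k < n distinguished triangles Y_{k+1} ⟶ X_{k+1} ⟶ Y_k ⟶
Y_{k+1}⟦1⟧ with X_{k+1} ⟶ Y_k ⟶ X_k the differential. Suppose X and X' carry Postnikov systems (Y,
a, b, c) and (Y', a', b', c'). If Hom(X_i⟦i - j - 1⟧, X'_j) = 0 for all j + 1 < i ≤ n, then φ
extends to a morphism of Postnikov systems: morphisms y_k : Y_k ⟶ Y'_k for k ≤ n forming, with the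
φ_k, morphisms of the distinguished triangles and compatible with Y_0 ⟶ X_0 and Y'_0 ⟶ X'_0. -/
theorem result {D : Type u} [Category.{v} D] [Preadditive D] [HasZeroObject D] [HasShift D ℤ]
    [∀ n : ℤ, (shiftFunctor D n).Additive] [Pretriangulated D] [IsTriangulated D]
    (X X' : ChainComplex D ℕ) (φ : X ⟶ X') (n : ℕ)
    (Y : ℕ → D) (a : ∀ k, Y k ⟶ X.X k) (b : ∀ k, X.X (k + 1) ⟶ Y k)
    (c : ∀ k, Y k ⟶ (shiftFunctor D (1 : ℤ)).obj (Y (k + 1)))
    (h0 : IsIso (a 0))
    (hP : ∀ k, k < n → Triangle.mk (a (k + 1)) (b k) (c k) ∈ distinguishedTriangles ∧ b k ≫ a k = X.d (k + 1) k)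
    (qY : ℕ → D) (qa : ∀ k, qY k ⟶ X'.X k) (qb : ∀ k, X'.X (k + 1) ⟶ qY k)
    (qc : ∀ k, qY k ⟶ (shiftFunctor D (1 : ℤ)).obj (qY (k + 1)))
    (qh0 : IsIso (qa 0))
    (qhP : ∀ k, k < n → Triangle.mk (qa (k + 1)) (qb k) (qc k) ∈ distinguishedTriangles ∧ qb k ≫ qa k = X'.d (k + 1) k)
    (hX : ∀ i j : ℕ, j + 1 < i → i ≤ n → ∀ ψ : (shiftFunctor D ((i : ℤ) - j - 1)).obj (X.X i) ⟶ X'.X j, ψ = 0) :
    ∃ y : ∀ k, Y k ⟶ qY k,
      (∀ k, k ≤ n → y k ≫ qa k = a k ≫ φ.f k) ∧
      (∀ k, k < n → b k ≫ y k = φ.f (k + 1) ≫ qb k ∧ c k ≫ (shiftFunctor D (1 : ℤ)).map (y (k + 1)) = y k ≫ qc k) := by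
  classical
  have claim : ∀ m, m ≤ n → ∃ y : ∀ k, Y k ⟶ qY k,
      (∀ k, k ≤ m → y k ≫ qa k = a k ≫ φ.f k) ∧
      (∀ k, k < m → b k ≫ y k = φ.f (k + 1) ≫ qb k ∧
        c k ≫ (shiftFunctor D (1 : ℤ)).map (y (k + 1)) = y k ≫ qc k) := by
    intro m
    induction m with
    | zero =>
      intro _
      refine ⟨Function.update (fun _ => 0) 0 (a 0 ≫ φ.f 0 ≫ inv (qa 0)), ?_, ?_⟩
      · intro k hk
        obtain rfl : k = 0 := Nat.le_zero.mp hk
        simp
      · intro k hk
        exact absurd hk (Nat.not_lt_zero k)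
    | succ m ih =>
      intro hm
      have hmn : m < n := hm
      obtain ⟨y, hy1, hy2⟩ := ih (Nat.le_of_lt hmn)
      -- the square (ii)_m
      have hδ : (b m ≫ y m - φ.f (m + 1) ≫ qb m) ≫ qa m = 0 := by
        rw [Preadditive.sub_comp, Category.assoc, hy1 m le_rfl, ← Category.assoc, (hP m hmn).2,
          Category.assoc, (qhP m hmn).2, φ.comm, sub_self]
      have hii : b m ≫ y m = φ.f (m + 1) ≫ qb m := by
        rw [← sub_eq_zero]
        cases m with
        | zero =>
          rw [← cancel_mono (qa 0), hδ, zero_comp]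
        | succ m' =>
          have hm'n : m' < n := by omega
          have hT' := (qhP m' hm'n).1
          have h2 : (shiftFunctor D (1 : ℤ)).map (b (m' + 1) ≫ y (m' + 1) - φ.f (m' + 1 + 1) ≫ qb (m' + 1)) ≫
              (shiftFunctor D (1 : ℤ)).map (qa (m' + 1)) = 0 := by
            rw [← Functor.map_comp, hδ, Functor.map_zero]
          obtain ⟨g', hg'⟩ : ∃ g' : (shiftFunctor D (1 : ℤ)).obj (X.X (m' + 1 + 1)) ⟶ qY m',
              (shiftFunctor D (1 : ℤ)).map (b (m' + 1) ≫ y (m' + 1) - φ.f (m' + 1 + 1) ≫ qb (m' + 1)) =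
                g' ≫ qc m' :=
            Triangle.coyoneda_exact₁ _ hT' _ h2
          have hg0 : g' = 0 := by
            refine hom_zero_of_shift_eq (((m' + 1 + 1 : ℕ) : ℤ) - (m' : ℤ) - 1) 1 (by push_cast; omega) ?_ g'
            intro ψ
            exact Groth.Agent.S6595.result X X' n qY qa qb qc qh0 qhP hX (m' + 1 + 1) m' (by omega)
              (by omega) ψ
          apply (shiftFunctor D (1 : ℤ)).map_injective
          rw [hg', hg0, zero_comp, Functor.map_zero]
      obtain ⟨ynew, hnew1, hnew2⟩ : ∃ ynew : Y (m + 1) ⟶ qY (m + 1),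
          a (m + 1) ≫ φ.f (m + 1) = ynew ≫ qa (m + 1) ∧
          c m ≫ (shiftFunctor D (1 : ℤ)).map ynew = y m ≫ qc m :=
        complete_distinguished_triangle_morphism₁ _ _
          (hP m hmn).1 (qhP m hmn).1 (φ.f (m + 1)) (y m) hii
      refine ⟨Function.update y (m + 1) ynew, ?_, ?_⟩
      · intro k hk
        rcases Nat.lt_or_ge k (m + 1) with hlt | hge
        · have hne : k ≠ m + 1 := Nat.ne_of_lt hlt
          rw [Function.update_of_ne hne]
          exact hy1 k (Nat.lt_succ_iff.mp hlt)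
        · obtain rfl : k = m + 1 := le_antisymm hk hge
          rw [Function.update_self]
          exact hnew1.symm
      · intro k hk
        rcases Nat.lt_or_ge k m with hlt | hge
        · have hne : k ≠ m + 1 := by omega
          have hne' : k + 1 ≠ m + 1 := by omega
          rw [Function.update_of_ne hne, Function.update_of_ne hne']
          exact hy2 k hlt
        · obtain rfl : k = m := by omega
          have hne : k ≠ k + 1 := by omega
          rw [Function.update_of_ne hne, Function.update_self]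
          exact ⟨hii, hnew2⟩
  exact claim n le_rfl

end Groth.Agent.S6596
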