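import Groth.Statements.S6597
-- import your own Groth.Agent.* helpers here

set_option autoImplicit false
universe v u
open CategoryTheory CategoryTheory.Limits
open CohDer

namespace Groth.Agent.S6597

open CategoryTheory.Pretriangulated in
/-- Let D be a triangulated category, φ : X ⟶ X' a morphism of chain complexes in D considered in
degrees ≤ n, where a Postnikov system for the complex X_n → … → X_0 consists of objects Y_k, an
isomorphism Y_0 ⟶ X_0, and for 0 ≤ k < n distinguished triangles Y_{k+1} ⟶ X_{k+1} ⟶ Y_k ⟶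
Y_{k+1}⟦1⟧ with X_{k+1} ⟶ Y_k ⟶ X_k the differential; let (Y, a, b, c) and (Y', a', b', c') be
Postnikov systems for X and X'. If Hom(X_i⟦i⟧, Y'_n⟦n⟧) = 0 for i = 1, …, n, then two morphisms of
Postnikov systems extending φ agree on Y_n. (The published statement says there is at most one
morphism of Postnikov systems; the argument, by induction along Y_0 → Y_1⟦1⟧ → … → Y_n⟦n⟧,
determines the component in degree n, which is what is asserted here.) -/
theorem result {D : Type u} [Category.{v} D] [Preadditive D] [HasZeroObject D] [HasShift D ℤ]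
    [∀ n : ℤ, (shiftFunctor D n).Additive] [Pretriangulated D] [IsTriangulated D]
    (X X' : ChainComplex D ℕ) (φ : X ⟶ X') (n : ℕ)
    (Y : ℕ → D) (a : ∀ k, Y k ⟶ X.X k) (b : ∀ k, X.X (k + 1) ⟶ Y k)
    (c : ∀ k, Y k ⟶ (shiftFunctor D (1 : ℤ)).obj (Y (k + 1)))
    (h0 : IsIso (a 0))
    (hP : ∀ k, k < n → Triangle.mk (a (k + 1)) (b k) (c k) ∈ distinguishedTriangles ∧ b k ≫ a k = X.d (k + 1) k)
    (qY : ℕ → D) (qa : ∀ k, qY k ⟶ X'.X k) (qb : ∀ k, X'.X (k + 1) ⟶ qY k)
    (qc : ∀ k, qY k ⟶ (shiftFunctor D (1 : ℤ)).obj (qY (k + 1)))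
    (qh0 : IsIso (qa 0))
    (qhP : ∀ k, k < n → Triangle.mk (qa (k + 1)) (qb k) (qc k) ∈ distinguishedTriangles ∧ qb k ≫ qa k = X'.d (k + 1) k)
    (hv : ∀ i : ℕ, 1 ≤ i → i ≤ n → ∀ ψ : (shiftFunctor D (i : ℤ)).obj (X.X i) ⟶ (shiftFunctor D (n : ℤ)).obj (qY n), ψ = 0)
    (y z : ∀ k, Y k ⟶ qY k)
    (hy : (∀ k, k ≤ n → y k ≫ qa k = a k ≫ φ.f k) ∧
      (∀ k, k < n → b k ≫ y k = φ.f (k + 1) ≫ qb k ∧ c k ≫ (shiftFunctor D (1 : ℤ)).map (y (k + 1)) = y k ≫ qc k))
    (hz : (∀ k, k ≤ n → z k ≫ qa k = a k ≫ φ.f k) ∧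
      (∀ k, k < n → b k ≫ z k = φ.f (k + 1) ≫ qb k ∧ c k ≫ (shiftFunctor D (1 : ℤ)).map (z (k + 1)) = z k ≫ qc k)) :
    y n = z n := by
  have hδ3 : ∀ k, k < n → c k ≫ (shiftFunctor D (1 : ℤ)).map (y (k + 1) - z (k + 1)) =
      (y k - z k) ≫ qc k := by
    intro k hk
    rw [Functor.map_sub, Preadditive.comp_sub, Preadditive.sub_comp, (hy.2 k hk).2, (hz.2 k hk).2]
  have claim : ∀ k, k ≤ n → ∀ (p : ℤ), p = -(k : ℤ) →
      ∀ θ : qY k ⟶ (shiftFunctor D p).obj ((shiftFunctor D (n : ℤ)).obj (qY n)),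
        (y k - z k) ≫ θ = 0 := by
    intro k
    induction k with
    | zero =>
      intro _ p _ θ
      have h1 : (y 0 - z 0) ≫ qa 0 = 0 := by
        rw [Preadditive.sub_comp, hy.1 0 (Nat.zero_le n), hz.1 0 (Nat.zero_le n), sub_self]
      have h2 : y 0 - z 0 = 0 := by
        rw [← cancel_mono (qa 0), h1, zero_comp]
      rw [h2, zero_comp]
    | succ k ih =>
      intro hk p hp θ
      have hkn : k < n := hk
      let V := (shiftFunctor D (n : ℤ)).obj (qY n)
      let iso1 := (shiftFunctorAdd' D p 1 (p + 1) rfl).app V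
      have h1 : (y k - z k) ≫ (qc k ≫ (shiftFunctor D (1 : ℤ)).map θ ≫ iso1.inv) = 0 :=
        ih (Nat.le_of_lt hkn) (p + 1) (by rw [hp]; push_cast; omega) _
      have h2 : c k ≫ (shiftFunctor D (1 : ℤ)).map ((y (k + 1) - z (k + 1)) ≫ θ) = 0 := by
        rw [Functor.map_comp, ← Category.assoc, hδ3 k hkn, Category.assoc,
          ← cancel_mono iso1.inv, zero_comp]
        simpa only [Category.assoc] using h1
      have hT := rot_of_distTriang _ (hP k hkn).1
      obtain ⟨G, hG⟩ : ∃ G : (shiftFunctor D (1 : ℤ)).obj (X.X (k + 1)) ⟶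
          (shiftFunctor D (1 : ℤ)).obj ((shiftFunctor D p).obj V),
          (shiftFunctor D (1 : ℤ)).map ((y (k + 1) - z (k + 1)) ≫ θ) =
            (-(shiftFunctor D (1 : ℤ)).map (a (k + 1))) ≫ G :=
        Triangle.yoneda_exact₃ _ hT _ h2
      have hG0 : (shiftFunctor D (1 : ℤ)).preimage G = 0 := by
        let iso2 := (shiftFunctorCompIsoId D p ((k + 1 : ℕ) : ℤ) (by rw [hp]; omega)).app V
        have h3 := hv (k + 1) (by omega) hk
          ((shiftFunctor D ((k + 1 : ℕ) : ℤ)).map ((shiftFunctor D (1 : ℤ)).preimage G) ≫ iso2.hom)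
        rw [← cancel_mono iso2.inv, Category.assoc, Iso.hom_inv_id, Category.comp_id,
          zero_comp] at h3
        apply (shiftFunctor D ((k + 1 : ℕ) : ℤ)).map_injective
        rw [h3, Functor.map_zero]
      have hG1 : G = 0 := by
        rw [← (shiftFunctor D (1 : ℤ)).map_preimage G, hG0, Functor.map_zero]
      apply (shiftFunctor D (1 : ℤ)).map_injective
      rw [hG, hG1, comp_zero, Functor.map_zero]
  have hfinal := claim n le_rfl (-(n : ℤ)) rfl (shiftShiftNeg (qY n) (n : ℤ)).inv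
  rw [← cancel_mono (shiftShiftNeg (qY n) (n : ℤ)).hom, Category.assoc, Iso.inv_hom_id,
    Category.comp_id, zero_comp] at hfinal
  exact sub_eq_zero.mp hfinal

end Groth.Agent.S6597
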