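import Groth.Statements.S6600
import Mathlib.CategoryTheory.Triangulated.Orthogonal
-- import your own Groth.Agent.* helpers here

set_option autoImplicit false
universe v u
open CategoryTheory CategoryTheory.Limits
open CohDer

namespace Groth.Agent.S6600

open CategoryTheory.Pretriangulated in
/-- Let D be a triangulated category, A ⊂ D a full subcategory invariant under all shifts, and X → Y → Z
→ X⟦1⟧ a distinguished triangle. Then Z lies in the right orthogonal A^⊥ if and only if Hom(A, X) →
Hom(A, Y) is bijective for every object A of A. -/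
theorem result {D : Type u} [Category.{v} D] [Preadditive D] [HasZeroObject D] [HasShift D ℤ]
    [∀ n : ℤ, (shiftFunctor D n).Additive] [Pretriangulated D] [IsTriangulated D]
    (P : ObjectProperty D) [P.IsStableUnderShift ℤ] (T : Triangle D) (hT : T ∈ distinguishedTriangles) :
    P.rightOrthogonal T.obj₃ ↔ ∀ A : D, P A → Function.Bijective (fun u : A ⟶ T.obj₁ => u ≫ T.mor₁) := by
  constructor
  · intro hZ A hA
    constructor
    · intro u u' huu'
      have h0 : (u - u') ≫ T.mor₁ = 0 := by
        simp only [Preadditive.sub_comp]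
        exact sub_eq_zero.mpr huu'
      obtain ⟨w, hw⟩ := Triangle.coyoneda_exact₂ _ (inv_rot_of_distTriang _ hT) (u - u') h0
      have hZ' : P.rightOrthogonal ((shiftFunctor D (-1 : ℤ)).obj T.obj₃) :=
        P.rightOrthogonal.le_shift (-1 : ℤ) _ hZ
      have hw0 : w = 0 := hZ' w hA
      rw [hw0, zero_comp] at hw
      exact sub_eq_zero.mp hw
    · intro v
      obtain ⟨u, hu⟩ := Triangle.coyoneda_exact₂ _ hT v (hZ (v ≫ T.mor₂) hA)
      exact ⟨u, hu.symm⟩
  · intro h A w hA
    -- first show w ≫ T.mor₃ = 0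
    have hA' : P ((shiftFunctor D (-1 : ℤ)).obj A) := P.le_shift (-1 : ℤ) _ hA
    let e := shiftFunctorCompIsoId D (1 : ℤ) (-1 : ℤ) (by simp)
    have hu : ((shiftFunctor D (-1 : ℤ)).map (w ≫ T.mor₃) ≫ e.hom.app T.obj₁) ≫ T.mor₁ =
        (0 : (shiftFunctor D (-1 : ℤ)).obj A ⟶ T.obj₁) ≫ T.mor₁ := by
      have nat := e.hom.naturality T.mor₁
      simp only [Functor.comp_map, Functor.id_map] at nat
      rw [Category.assoc, ← nat, ← Category.assoc, ← Functor.map_comp, Category.assoc,
        comp_distTriang_mor_zero₃₁ _ hT, comp_zero, Functor.map_zero, zero_comp, zero_comp]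
    have hu0 := (h _ hA').1 hu
    have hwh : w ≫ T.mor₃ = 0 := by
      apply (shiftFunctor D (-1 : ℤ)).map_injective
      rw [Functor.map_zero, ← cancel_mono (e.hom.app T.obj₁), zero_comp]
      exact hu0
    obtain ⟨v, hv⟩ := Triangle.coyoneda_exact₃ _ hT w hwh
    obtain ⟨u, hu'⟩ := (h _ hA).2 v
    simp only at hu'
    rw [hv, ← hu', Category.assoc, comp_distTriang_mor_zero₁₂ _ hT, comp_zero]

end Groth.Agent.S6600
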