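import Groth.Statements.S6601
import Mathlib.CategoryTheory.Triangulated.Orthogonal
-- import your own Groth.Agent.* helpers here

set_option autoImplicit false
universe v u
open CategoryTheory CategoryTheory.Limits
open CohDer

namespace Groth.Agent.S6601

open CategoryTheory.Pretriangulated in
/-- Let D be a triangulated category, B ⊂ D a full subcategory invariant under all shifts, and X → Y → Z
→ X⟦1⟧ a distinguished triangle. Then X lies in the left orthogonal ^⊥B if and only if Hom(Z, B) →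
Hom(Y, B) is bijective for every object B of B. -/
theorem result {D : Type u} [Category.{v} D] [Preadditive D] [HasZeroObject D] [HasShift D ℤ]
    [∀ n : ℤ, (shiftFunctor D n).Additive] [Pretriangulated D] [IsTriangulated D]
    (P : ObjectProperty D) [P.IsStableUnderShift ℤ] (T : Triangle D) (hT : T ∈ distinguishedTriangles) :
    P.leftOrthogonal T.obj₁ ↔ ∀ B : D, P B → Function.Bijective (fun u : T.obj₃ ⟶ B => T.mor₂ ≫ u) := by
  constructor
  · intro hX B hB
    constructor
    · intro u u' (h : T.mor₂ ≫ u = T.mor₂ ≫ u')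
      have h0 : T.mor₂ ≫ (u - u') = 0 := by rw [Preadditive.comp_sub, h, sub_self]
      obtain ⟨g, hg⟩ := Triangle.yoneda_exact₃ T hT (u - u') h0
      have hX1 : P.leftOrthogonal ((shiftFunctor D (1 : ℤ)).obj T.obj₁) :=
        P.leftOrthogonal.le_shift (1 : ℤ) _ hX
      have : g = 0 := hX1 g hB
      rw [this, comp_zero] at hg
      exact sub_eq_zero.mp hg
    · intro v
      have h0 : T.mor₁ ≫ v = 0 := hX (T.mor₁ ≫ v) hB
      obtain ⟨g, hg⟩ := Triangle.yoneda_exact₂ T hT v h0
      exact ⟨g, hg.symm⟩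
  · intro H B f hB
    have hB1 : P ((shiftFunctor D (1 : ℤ)).obj B) := P.le_shift (1 : ℤ) _ hB
    have h1 : T.mor₃ ≫ (shiftFunctor D (1 : ℤ)).map f = 0 := by
      apply (H _ hB1).1
      show T.mor₂ ≫ T.mor₃ ≫ (shiftFunctor D (1 : ℤ)).map f = T.mor₂ ≫ 0
      rw [← Category.assoc, comp_distTriang_mor_zero₂₃ T hT, zero_comp, comp_zero]
    obtain ⟨g, hg⟩ : ∃ g : (shiftFunctor D (1 : ℤ)).obj T.obj₂ ⟶ (shiftFunctor D (1 : ℤ)).obj B,
        (shiftFunctor D (1 : ℤ)).map f = (-(shiftFunctor D (1 : ℤ)).map T.mor₁) ≫ g :=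
      Triangle.yoneda_exact₃ T.rotate (rot_of_distTriang _ hT) ((shiftFunctor D (1 : ℤ)).map f) h1
    obtain ⟨w, hw⟩ := (H B hB).2 ((shiftFunctor D (1 : ℤ)).preimage g)
    have hw' : T.mor₂ ≫ w = (shiftFunctor D (1 : ℤ)).preimage g := hw
    apply (shiftFunctor D (1 : ℤ)).map_injective
    rw [hg, ← (shiftFunctor D (1 : ℤ)).map_preimage g, ← hw', Functor.map_zero, Preadditive.neg_comp,
      ← Functor.map_comp, ← Category.assoc, comp_distTriang_mor_zero₁₂ T hT, zero_comp,
      Functor.map_zero, neg_zero]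

end Groth.Agent.S6601
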