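import Groth.Statements.S6603
import Groth.Agent.Lib.Helper25.LocTriang
-- import your own Groth.Agent.* helpers here

set_option autoImplicit false
universe v u v' u'
open CategoryTheory CategoryTheory.Limits
open CohDer

namespace Groth.Agent.S6603

open CategoryTheory.Pretriangulated in
/-- (1) ⇔ (2) ⇔ (3) ⇔ (4): let D be a pretriangulated category, S a multiplicative system compatible
with the triangulated structure, and Q : D → S⁻¹D the localization functor. For an object Z of D the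
following are equivalent: (1) Q(Z) = 0; (2) 0 : Z ⟶ Z' is in S for some Z'; (3) 0 : Z' ⟶ Z is in S
for some Z'; (4) there are an object Z' and a distinguished triangle (X, Y, Z ⊞ Z', f, g, h) with f
∈ S. (The further equivalences (5)–(7) for saturated S are not asserted.) -/
theorem result {D : Type u} [Category.{v} D] [Preadditive D] [HasZeroObject D] [HasShift D ℤ]
    [∀ n : ℤ, (shiftFunctor D n).Additive] [Pretriangulated D]
    (S : MorphismProperty D) [S.HasLeftCalculusOfFractions] [S.HasRightCalculusOfFractions]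
    [S.IsCompatibleWithTriangulation]
    {E : Type u'} [Category.{v'} E] (Q : D ⥤ E) [Q.IsLocalization S] (Z : D) :
    (IsZero (Q.obj Z) ↔ ∃ Z' : D, S (0 : Z ⟶ Z')) ∧
    (IsZero (Q.obj Z) ↔ ∃ Z' : D, S (0 : Z' ⟶ Z)) ∧
    (IsZero (Q.obj Z) ↔ ∃ (Z' X Y : D) (f : X ⟶ Y) (g : Y ⟶ Z ⊞ Z') (h : Z ⊞ Z' ⟶ (shiftFunctor D (1 : ℤ)).obj X),
      Triangle.mk f g h ∈ distinguishedTriangles ∧ S f) := by
  have h2 : IsZero (Q.obj Z) ↔ ∃ Z' : D, S (0 : Z ⟶ Z') := by
    rw [Groth.Agent.Lib.helper25.isZero_obj_iff_map_id_eq S Q Z,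
      MorphismProperty.map_eq_iff_postcomp Q S]
    constructor
    · rintro ⟨Z', s, hs, h⟩
      rw [Category.id_comp, zero_comp] at h
      exact ⟨Z', h ▸ hs⟩
    · rintro ⟨Z', hs⟩
      exact ⟨Z', 0, hs, by simp⟩
  have h3 : IsZero (Q.obj Z) ↔ ∃ Z' : D, S (0 : Z' ⟶ Z) := by
    rw [Groth.Agent.Lib.helper25.isZero_obj_iff_map_id_eq S Q Z,
      MorphismProperty.map_eq_iff_precomp Q S]
    constructor
    · rintro ⟨Z', s, hs, h⟩
      rw [Category.comp_id, comp_zero] at h
      exact ⟨Z', h ▸ hs⟩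
    · rintro ⟨Z', hs⟩
      exact ⟨Z', 0, hs, by simp⟩
  refine ⟨h2, h3, ?_⟩
  constructor
  · intro hZ
    obtain ⟨W, hW⟩ := h3.1 hZ
    refine ⟨(shiftFunctor D (1 : ℤ)).obj W, W, Z, 0, biprod.inl, biprod.snd, ?_, hW⟩
    rw [rotate_distinguished_triangle]
    refine isomorphic_distinguished _
      (binaryBiproductTriangle_distinguished Z ((shiftFunctor D (1 : ℤ)).obj W)) _ ?_
    refine Triangle.isoMk _ _ (Iso.refl _) (Iso.refl _) (Iso.refl _) ?_ ?_ ?_
    · exact (Category.comp_id _).trans (Category.id_comp _).symm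
    · exact (Category.comp_id _).trans (Category.id_comp _).symm
    · show (-(shiftFunctor D (1 : ℤ)).map (0 : W ⟶ Z)) ≫ (shiftFunctor D (1 : ℤ)).map (𝟙 Z) = 𝟙 _ ≫ 0
      simp
  · rintro ⟨Z', X, Y, f, g, h, hT, hf⟩
    have hiso : IsIso (Q.map f) := Localization.inverts Q S f hf
    have h0 : IsZero (Q.obj (Z ⊞ Z')) :=
      (Groth.Agent.Lib.helper25.isIso_map_mor₁_iff_isZero_obj₃ S Q _ hT).1 hiso
    exact Groth.Agent.Lib.helper25.isZero_obj_of_retract S Q
      ⟨biprod.inl, biprod.fst, by simp⟩ h0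

end Groth.Agent.S6603
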