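import Groth.Statements.S6604
import Groth.Agent.Lib.Helper25.LocTriang
-- import your own Groth.Agent.* helpers here

set_option autoImplicit false
universe v u v' u'
open CategoryTheory CategoryTheory.Limits
open CohDer

namespace Groth.Agent.S6604

/-- Let D be a triangulated category, B a full triangulated subcategory and Q : D → D/B the quotient
functor. Q sends an object Z of D to zero (Q(Z) = 0, i.e. Z belongs to the kernel of Q) exactly
when, for a suitable object Z' of D, the direct sum Z ⊞ Z' is isomorphic to some object lying in B;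
put differently, the kernel is the smallest saturated, strictly full triangulated subcategory that
contains B. -/
theorem result {D : Type u} [Category.{v} D] [Preadditive D] [HasZeroObject D] [HasShift D ℤ]
    [∀ n : ℤ, (shiftFunctor D n).Additive] [Pretriangulated D] [IsTriangulated D]
    (B : ObjectProperty D) [B.IsTriangulated]
    {E : Type u'} [Category.{v'} E] (Q : D ⥤ E) [Q.IsLocalization B.trW] (Z : D) :
    IsZero (Q.obj Z) ↔ ∃ (Z' Y : D), B Y ∧ Nonempty (Z ⊞ Z' ≅ Y) := by
  open CategoryTheory.Pretriangulated ZeroObject in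
  constructor
  · intro hZ
    rw [Groth.Agent.Lib.helper25.isZero_obj_iff_map_id_eq B.trW Q Z,
      MorphismProperty.map_eq_iff_precomp Q B.trW] at hZ
    obtain ⟨W, s, hs, h⟩ := hZ
    rw [Category.comp_id, comp_zero] at h
    subst h
    obtain ⟨C, g, h, hT, hC⟩ := hs
    have hT' := Groth.Agent.Lib.helper25.zero_triangle_distinguished W Z
    let e := isoTriangleOfIso₁₂ _ _ hT' hT (Iso.refl W) (Iso.refl Z)
      (show (0 : W ⟶ Z) ≫ 𝟙 Z = 𝟙 W ≫ 0 by simp)
    exact ⟨(shiftFunctor D (1 : ℤ)).obj W, C, hC, ⟨Triangle.π₃.mapIso e⟩⟩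
  · rintro ⟨Z', Y, hY, ⟨e⟩⟩
    have hY0 : IsZero (Q.obj Y) := by
      have hT := contractible_distinguished₁ Y
      have htr : B.trW (0 : (0 : D) ⟶ Y) := ⟨Y, 𝟙 Y, 0, hT, hY⟩
      have hiso : IsIso (Q.map (0 : (0 : D) ⟶ Y)) := Localization.inverts Q B.trW _ htr
      exact (Groth.Agent.Lib.helper25.isIso_map_mor₁_iff_isZero_obj₃ B.trW Q _ hT).1 hiso
    have h0 : IsZero (Q.obj (Z ⊞ Z')) := hY0.of_iso (Q.mapIso e)
    exact Groth.Agent.Lib.helper25.isZero_obj_of_retract B.trW Q
      ⟨biprod.inl, biprod.fst, by simp⟩ h0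

end Groth.Agent.S6604
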