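import Groth.Statements.S6606
import Mathlib
import Groth.Agent.S1053
-- import your own Groth.Agent.* helpers here

set_option autoImplicit false
universe v u
open CategoryTheory CategoryTheory.Limits
open CohDer

namespace Groth.Agent.S6606

/-- Let A be an abelian category, β : P ⟶ L and α : E ⟶ L morphisms of cochain complexes and n an
integer. Assume P is a bounded complex of projective objects with Pⁱ = 0 for i < n, and that Hⁱ(α)
is an isomorphism for i > n and an epimorphism for i = n. Then there is γ : P ⟶ E such that γ ≫ α is
homotopic to β. -/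
theorem result {A : Type u} [Category.{v} A] [Abelian A]
    (P E L : CochainComplex A ℤ) (β : P ⟶ L) (α : E ⟶ L) (n b : ℤ) [P.IsStrictlyGE n] [P.IsStrictlyLE b]
    (hP : ∀ i : ℤ, Projective (P.X i))
    (hiso : ∀ i : ℤ, n < i → IsIso (HomologicalComplex.homologyMap α i)) (hepi : Epi (HomologicalComplex.homologyMap α n)) :
    ∃ γ : P ⟶ E, Nonempty (Homotopy (γ ≫ α) β) := by
  letI : HasDerivedCategory.{max u v} A := HasDerivedCategory.standard A
  let T := CochainComplex.mappingCone.triangle α
  have hT : DerivedCategory.Q.mapTriangle.obj T ∈ distTriang _ :=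
    DerivedCategory.mappingCone_triangle_distinguished α
  have hC : ∀ i : ℤ, n ≤ i → Limits.IsZero ((CochainComplex.mappingCone α).homology i) := by
    intro i hi
    have e2 := CochainComplex.homologyMap_exact₂_of_distTriang T hT i
    have e3 := CochainComplex.homologyMap_exact₃_of_distTriang T hT i (i + 1) rfl
    have e1 := CochainComplex.homologyMap_exact₁_of_distTriang T hT i (i + 1) rfl
    haveI : Epi (HomologicalComplex.homologyMap T.mor₁ i) := by
      show Epi (HomologicalComplex.homologyMap α i)
      rcases hi.eq_or_lt with rfl | h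
      · exact hepi
      · haveI := hiso i h
        infer_instance
    haveI : IsIso (HomologicalComplex.homologyMap T.mor₁ (i + 1)) := hiso (i + 1) (by omega)
    have h2 : HomologicalComplex.homologyMap T.mor₂ i = 0 := by
      rw [← cancel_epi (HomologicalComplex.homologyMap T.mor₁ i)]
      exact (CochainComplex.homologyMap_comp_eq_zero_of_distTriang T hT i).trans comp_zero.symm
    have h3 : CochainComplex.homologyδOfTriangle T i (i + 1) rfl = 0 := by
      rw [← cancel_mono (HomologicalComplex.homologyMap T.mor₁ (i + 1))]
      exact (CochainComplex.homologyδOfTriangle_homologyMap T hT i (i + 1) rfl).trans zero_comp.symm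
    exact e3.isZero_X₂ h2 h3
  have h0 := (Groth.Agent.S1053.result P (CochainComplex.mappingCone α) n b hP hC).1
  have hT' := HomotopyCategory.mappingCone_triangleh_distinguished α
  obtain ⟨u, hu⟩ : ∃ u : (HomotopyCategory.quotient A (ComplexShape.up ℤ)).obj P ⟶
      (HomotopyCategory.quotient A (ComplexShape.up ℤ)).obj E,
      (HomotopyCategory.quotient _ _).map β = u ≫ (HomotopyCategory.quotient _ _).map α :=
    Pretriangulated.Triangle.coyoneda_exact₂ _ hT' ((HomotopyCategory.quotient _ _).map β)
      (h0 _)
  obtain ⟨γ, rfl⟩ := (HomotopyCategory.quotient _ _).map_surjective u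
  exact ⟨γ, ⟨HomotopyCategory.homotopyOfEq _ _ (by
    rw [CategoryTheory.Functor.map_comp]
    exact hu.symm)⟩⟩

end Groth.Agent.S6606
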