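import Groth.Statements.S6607
import Groth.Agent.S6601
-- import your own Groth.Agent.* helpers here

set_option autoImplicit false
set_option linter.unusedSectionVars false
universe v u
open CategoryTheory CategoryTheory.Limits
open CohDer

namespace Groth.Agent.S6607


section Helpers

open CategoryTheory.Pretriangulated

variable {D : Type u} [Category.{v} D] [Preadditive D] [HasZeroObject D] [HasShift D ℤ]
    [∀ n : ℤ, (shiftFunctor D n).Additive] [Pretriangulated D] [IsTriangulated D]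

/-- `η : X ⟶ Y` induces bijections on maps into objects of `B`. -/
def Q (B : ObjectProperty D) {X Y : D} (η : X ⟶ Y) : Prop :=
  ∀ B' : D, B B' → Function.Bijective (fun u : Y ⟶ B' => η ≫ u)

omit [HasZeroObject D] [∀ n : ℤ, (shiftFunctor D n).Additive] [Pretriangulated D] [IsTriangulated D] in
theorem Q_shift (B : ObjectProperty D) [B.IsStableUnderShift ℤ] {X Y : D} (η : X ⟶ Y)
    (h : Q B η) : Q B ((shiftFunctor D (1 : ℤ)).map η) := by
  intro B' hB'
  let e : (shiftFunctor D (1 : ℤ)).obj ((shiftFunctor D (-1 : ℤ)).obj B') ≅ B' :=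
    (shiftFunctorCompIsoId D (-1 : ℤ) 1 (by omega)).app B'
  have hB'' : B ((shiftFunctor D (-1 : ℤ)).obj B') := B.le_shift (-1 : ℤ) _ hB'
  constructor
  · intro u u' (huu : (shiftFunctor D (1 : ℤ)).map η ≫ u = (shiftFunctor D (1 : ℤ)).map η ≫ u')
    have h1 : (shiftFunctor D (1 : ℤ)).preimage (u ≫ e.inv) =
        (shiftFunctor D (1 : ℤ)).preimage (u' ≫ e.inv) := by
      apply (h _ hB'').1
      apply (shiftFunctor D (1 : ℤ)).map_injective
      show (shiftFunctor D (1 : ℤ)).map (η ≫ _) = (shiftFunctor D (1 : ℤ)).map (η ≫ _)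
      rw [Functor.map_comp, Functor.map_comp, Functor.map_preimage, Functor.map_preimage,
        ← Category.assoc, ← Category.assoc, huu]
    have h2 := congrArg (fun t => (shiftFunctor D (1 : ℤ)).map t ≫ e.hom) h1
    simpa using h2
  · intro w
    obtain ⟨u₀, hu₀⟩ := (h _ hB'').2 ((shiftFunctor D (1 : ℤ)).preimage (w ≫ e.inv))
    refine ⟨(shiftFunctor D (1 : ℤ)).map u₀ ≫ e.hom, ?_⟩
    have hu₀' : η ≫ u₀ = (shiftFunctor D (1 : ℤ)).preimage (w ≫ e.inv) := hu₀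
    show (shiftFunctor D (1 : ℤ)).map η ≫ (shiftFunctor D (1 : ℤ)).map u₀ ≫ e.hom = w
    rw [← Category.assoc, ← Functor.map_comp, hu₀', Functor.map_preimage, Category.assoc,
      e.inv_hom_id, Category.comp_id]

theorem dec_iff (B : ObjectProperty D) [B.IsStableUnderShift ℤ] (X : D) :
    (∃ (A Y : D) (f : A ⟶ X) (g : X ⟶ Y) (h : Y ⟶ (shiftFunctor D (1 : ℤ)).obj A),
      Triangle.mk f g h ∈ distinguishedTriangles ∧ B Y ∧ B.leftOrthogonal A) ↔
    ∃ (Y : D) (η : X ⟶ Y), B Y ∧ Q B η := by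
  constructor
  · rintro ⟨A, Y, f, g, h, hT, hY, hA⟩
    exact ⟨Y, g, hY, (Groth.Agent.S6601.result B _ hT).1 hA⟩
  · rintro ⟨Y, η, hY, hη⟩
    obtain ⟨A, f, h, hT⟩ := distinguished_cocone_triangle₁ η
    exact ⟨A, Y, f, η, h, hT, hY, (Groth.Agent.S6601.result B _ hT).2 hη⟩

theorem Q_of_morphism (B : ObjectProperty D) [B.IsStableUnderShift ℤ] (T T' : Triangle D)
    (hT : T ∈ distinguishedTriangles) (hT' : T' ∈ distinguishedTriangles) (φ : T ⟶ T')
    (h₁ : Q B φ.hom₁) (h₃ : Q B φ.hom₃) : Q B φ.hom₂ := by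
  intro B' hB'
  constructor
  · intro u u' (huu : φ.hom₂ ≫ u = φ.hom₂ ≫ u')
    have ht : φ.hom₂ ≫ (u - u') = 0 := by rw [Preadditive.comp_sub, huu, sub_self]
    have h1 : T'.mor₁ ≫ (u - u') = 0 := by
      apply (h₁ B' hB').1
      show φ.hom₁ ≫ T'.mor₁ ≫ (u - u') = φ.hom₁ ≫ 0
      rw [← Category.assoc, ← φ.comm₁, Category.assoc, ht, comp_zero, comp_zero]
    obtain ⟨s, hs⟩ := Triangle.yoneda_exact₂ T' hT' (u - u') h1
    have h2 : T.mor₂ ≫ (φ.hom₃ ≫ s) = 0 := by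
      rw [← Category.assoc, φ.comm₂, Category.assoc, ← hs, ht]
    obtain ⟨r, hr⟩ := Triangle.yoneda_exact₃ T hT (φ.hom₃ ≫ s) h2
    obtain ⟨r', hr'⟩ := (Q_shift B _ h₁ B' hB').2 r
    have hr'' : (shiftFunctor D (1 : ℤ)).map φ.hom₁ ≫ r' = r := hr'
    have h3 : s = T'.mor₃ ≫ r' := by
      apply (h₃ B' hB').1
      show φ.hom₃ ≫ s = φ.hom₃ ≫ T'.mor₃ ≫ r'
      rw [hr, ← hr'', ← Category.assoc, φ.comm₃, Category.assoc]
    have h4 : u - u' = 0 := by
      rw [hs, h3, ← Category.assoc, comp_distTriang_mor_zero₂₃ T' hT', zero_comp]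
    exact sub_eq_zero.mp h4
  · intro x
    obtain ⟨y₁, hy₁⟩ := (h₁ B' hB').2 (T.mor₁ ≫ x)
    have hy₁' : φ.hom₁ ≫ y₁ = T.mor₁ ≫ x := hy₁
    have hB1 : B ((shiftFunctor D (1 : ℤ)).obj B') := B.le_shift (1 : ℤ) _ hB'
    have h1 : T'.mor₃ ≫ (shiftFunctor D (1 : ℤ)).map y₁ = 0 := by
      apply (h₃ _ hB1).1
      show φ.hom₃ ≫ T'.mor₃ ≫ (shiftFunctor D (1 : ℤ)).map y₁ = φ.hom₃ ≫ 0
      rw [← Category.assoc, ← φ.comm₃, Category.assoc, ← Functor.map_comp, hy₁', Functor.map_comp,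
        ← Category.assoc, comp_distTriang_mor_zero₃₁ T hT, zero_comp, comp_zero]
    obtain ⟨g, hg⟩ : ∃ g : (shiftFunctor D (1 : ℤ)).obj T'.obj₂ ⟶ (shiftFunctor D (1 : ℤ)).obj B',
        (shiftFunctor D (1 : ℤ)).map y₁ = (-(shiftFunctor D (1 : ℤ)).map T'.mor₁) ≫ g :=
      Triangle.yoneda_exact₃ T'.rotate (rot_of_distTriang _ hT') ((shiftFunctor D (1 : ℤ)).map y₁) h1
    have hy₂ : y₁ = T'.mor₁ ≫ (-(shiftFunctor D (1 : ℤ)).preimage g) := by
      apply (shiftFunctor D (1 : ℤ)).map_injective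
      rw [hg, Functor.map_comp, Functor.map_neg, Functor.map_preimage, Preadditive.neg_comp,
        Preadditive.comp_neg]
    have h2 : T.mor₁ ≫ (x - φ.hom₂ ≫ (-(shiftFunctor D (1 : ℤ)).preimage g)) = 0 := by
      rw [Preadditive.comp_sub, ← Category.assoc, φ.comm₁, Category.assoc, ← hy₂, hy₁', sub_self]
    obtain ⟨z, hz⟩ := Triangle.yoneda_exact₂ T hT _ h2
    obtain ⟨z', hz'⟩ := (h₃ B' hB').2 z
    have hz'' : φ.hom₃ ≫ z' = z := hz'
    refine ⟨-(shiftFunctor D (1 : ℤ)).preimage g + T'.mor₂ ≫ z', ?_⟩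
    show φ.hom₂ ≫ (-(shiftFunctor D (1 : ℤ)).preimage g + T'.mor₂ ≫ z') = x
    rw [Preadditive.comp_add, ← Category.assoc φ.hom₂ T'.mor₂, ← φ.comm₂, Category.assoc, hz'', ← hz]
    abel

end Helpers

open CategoryTheory.Pretriangulated in
/-- Let D be a triangulated category and B a full triangulated subcategory. Let P(X) be the property:
there is a distinguished triangle A → X → B → A⟦1⟧ with B in B and A in ^⊥B. Then P satisfies
two-out-of-three in distinguished triangles, i.e. it is stable under all shifts and closed under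
extensions (a triangulated object property). -/
theorem result {D : Type u} [Category.{v} D] [Preadditive D] [HasZeroObject D] [HasShift D ℤ]
    [∀ n : ℤ, (shiftFunctor D n).Additive] [Pretriangulated D] [IsTriangulated D]
    (B : ObjectProperty D) [B.IsTriangulated] :
    ObjectProperty.IsTriangulated (fun X : D => ∃ (A Y : D) (f : A ⟶ X) (g : X ⟶ Y) (h : Y ⟶ (shiftFunctor D (1 : ℤ)).obj A),
      Triangle.mk f g h ∈ distinguishedTriangles ∧ B Y ∧ B.leftOrthogonal A) := by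
  let Dec : ObjectProperty D := fun X : D =>
    ∃ (A Y : D) (f : A ⟶ X) (g : X ⟶ Y) (h : Y ⟶ (shiftFunctor D (1 : ℤ)).obj A),
      Triangle.mk f g h ∈ distinguishedTriangles ∧ B Y ∧ B.leftOrthogonal A
  have hdec : ∀ X : D, Dec X ↔ ∃ (Y : D) (η : X ⟶ Y), B Y ∧ Q B η := dec_iff B
  show Dec.IsTriangulated
  have i1 : Dec.ContainsZero := by
    obtain ⟨Z, hZ, hBZ⟩ := B.exists_prop_of_containsZero
    refine ⟨⟨Z, hZ, (hdec Z).2 ⟨Z, 𝟙 Z, hBZ, ?_⟩⟩⟩
    intro B' hB'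
    constructor
    · intro u u' (h : 𝟙 Z ≫ u = 𝟙 Z ≫ u')
      simpa using h
    · intro x
      exact ⟨x, Category.id_comp x⟩
  have i2 : Dec.IsStableUnderShift ℤ :=
    { isStableUnderShiftBy := fun n =>
        { le_shift := fun X hX => by
            obtain ⟨A, Y, f, g, h, hT, hY, hA⟩ := hX
            have hT' := Triangle.shift_distinguished _ hT n
            exact ⟨_, _, _, _, _, hT', B.le_shift n _ hY, B.leftOrthogonal.le_shift n _ hA⟩ } }
  have i3 : Dec.IsTriangulatedClosed₂ :=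
    { ext₂' := fun T hT h₁ h₃ => by
        obtain ⟨Y₁, η₁, hY₁, hη₁⟩ := (hdec _).1 h₁
        obtain ⟨Y₃, η₃, hY₃, hη₃⟩ := (hdec _).1 h₃
        have hY₁' : B ((shiftFunctor D (1 : ℤ)).obj Y₁) := B.le_shift (1 : ℤ) _ hY₁
        obtain ⟨w', hw'⟩ := (hη₃ _ hY₁').2 (T.mor₃ ≫ (shiftFunctor D (1 : ℤ)).map η₁)
        have hw'' : η₃ ≫ w' = T.mor₃ ≫ (shiftFunctor D (1 : ℤ)).map η₁ := hw'
        obtain ⟨Y₂, u', v', hT'⟩ := distinguished_cocone_triangle₂ w'
        obtain ⟨Y₂', hY₂', ⟨e⟩⟩ : ∃ (Y₂' : D) (_ : B Y₂'), Nonempty (Y₂ ≅ Y₂') :=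
          B.ext_of_isTriangulatedClosed₂' _ hT' hY₁ hY₃
        have hT'' : Triangle.mk (u' ≫ e.hom) (e.inv ≫ v') w' ∈ distinguishedTriangles := by
          refine isomorphic_distinguished _ hT' _ ?_
          refine Triangle.isoMk _ _ (Iso.refl _) e.symm (Iso.refl _) ?_ ?_ ?_
          · show (u' ≫ e.hom) ≫ e.inv = 𝟙 _ ≫ u'
            simp
          · show (e.inv ≫ v') ≫ 𝟙 _ = e.inv ≫ v'
            simp
          · show w' ≫ (shiftFunctor D (1 : ℤ)).map (𝟙 _) = 𝟙 _ ≫ w'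
            simp
        obtain ⟨η₂, c₁, c₂⟩ : ∃ η₂ : T.obj₂ ⟶ Y₂', T.mor₁ ≫ η₂ = η₁ ≫ (u' ≫ e.hom) ∧
            T.mor₂ ≫ η₃ = η₂ ≫ (e.inv ≫ v') :=
          complete_distinguished_triangle_morphism₂ T _ hT hT'' η₁ η₃ hw''.symm
        let φ : T ⟶ Triangle.mk (u' ≫ e.hom) (e.inv ≫ v') w' :=
          { hom₁ := η₁, hom₂ := η₂, hom₃ := η₃, comm₁ := c₁, comm₂ := c₂, comm₃ := hw''.symm }
        have hQ : Q B η₂ := Q_of_morphism B T _ hT hT'' φ hη₁ hη₃
        exact ObjectProperty.le_isoClosure _ _ ((hdec _).2 ⟨Y₂', η₂, hY₂', hQ⟩) }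
  exact {}

end Groth.Agent.S6607
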