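import Groth.Statements.S6609
-- import your own Groth.Agent.* helpers here

set_option autoImplicit false
universe v u
open CategoryTheory CategoryTheory.Limits
open CohDer

namespace Groth.Agent.S6609

open CategoryTheory.Pretriangulated in
/-- Let D be a pretriangulated category and S a set of arrows satisfying MS1 (identities, stable under
composition), MS5 (stable under shifts in both directions) and MS6 (compatibility with distinguished
triangles). Then MS2 holds: (LMS2) for f : X ⟶ Y and t : X ⟶ X' in S there are f' : X' ⟶ Y' and s' :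
Y ⟶ Y' in S with f ≫ s' = t ≫ f'; (RMS2) for f : X ⟶ Y and s : Y' ⟶ Y in S there are f' : X' ⟶ Y'
and t' : X' ⟶ X in S with t' ≫ f = f' ≫ s. -/
theorem result {D : Type u} [Category.{v} D] [Preadditive D] [HasZeroObject D] [HasShift D ℤ]
    [∀ n : ℤ, (shiftFunctor D n).Additive] [Pretriangulated D]
    (S : MorphismProperty D) [S.IsMultiplicative] [S.IsCompatibleWithTriangulation] :
    (∀ {X Y X' : D} (f : X ⟶ Y) (t : X ⟶ X'), S t →
      ∃ (Y' : D) (f' : X' ⟶ Y') (s' : Y ⟶ Y'), S s' ∧ f ≫ s' = t ≫ f') ∧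
    (∀ {X Y Y' : D} (f : X ⟶ Y) (s : Y' ⟶ Y), S s →
      ∃ (X' : D) (f' : X' ⟶ Y') (t' : X' ⟶ X), S t' ∧ t' ≫ f = f' ≫ s) := by
  refine ⟨?_, ?_⟩
  · intro X Y X' f t ht
    obtain ⟨Z, g, h, hT₁⟩ := distinguished_cocone_triangle₁ f
    obtain ⟨Y', f', h', hT₂⟩ := distinguished_cocone_triangle (g ≫ t)
    obtain ⟨c, hc, hc₁⟩ : ∃ (c : Y ⟶ Y') (_ : S c), f ≫ c = t ≫ f' := by
      obtain ⟨c, hc, hc₁, -⟩ := MorphismProperty.compatible_with_triangulation
        (W := S) _ _ hT₁ hT₂ (𝟙 Z) t (S.id_mem _) ht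
        (show g ≫ t = 𝟙 Z ≫ (g ≫ t) by simp)
      exact ⟨c, hc, hc₁⟩
    exact ⟨Y', f', c, hc, hc₁⟩
  · intro X Y Y' f s hs
    obtain ⟨Z, g, h, hT₂⟩ := distinguished_cocone_triangle f
    obtain ⟨X', f', h', hT₁⟩ := distinguished_cocone_triangle₁ (s ≫ g)
    have hT₁' := rot_of_distTriang _ hT₁
    have hT₂' := rot_of_distTriang _ hT₂
    obtain ⟨c, hc, hc₁⟩ : ∃ (c : (shiftFunctor D (1 : ℤ)).obj X' ⟶ (shiftFunctor D (1 : ℤ)).obj X)
        (_ : S c), (-(shiftFunctor D (1 : ℤ)).map f') ≫ (shiftFunctor D (1 : ℤ)).map s =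
          c ≫ (-(shiftFunctor D (1 : ℤ)).map f) := by
      obtain ⟨c, hc, -, hc₁⟩ := MorphismProperty.compatible_with_triangulation
        (W := S) _ _ hT₁' hT₂' s (𝟙 Z) hs (S.id_mem _)
        (show (s ≫ g) ≫ 𝟙 Z = s ≫ g by simp)
      exact ⟨c, hc, hc₁⟩
    refine ⟨X', f', (shiftFunctor D (1 : ℤ)).preimage c, ?_, ?_⟩
    · rw [← MorphismProperty.IsCompatibleWithShift.iff S _ (1 : ℤ), Functor.map_preimage]
      exact hc
    · apply (shiftFunctor D (1 : ℤ)).map_injective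
      rw [Functor.map_comp, Functor.map_comp, Functor.map_preimage]
      simpa using hc₁.symm

end Groth.Agent.S6609
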