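import Groth.Statements.S6611
import Mathlib
-- import your own Groth.Agent.* helpers here

set_option autoImplicit false
universe v u
open CategoryTheory CategoryTheory.Limits
open CohDer

namespace Groth.Agent.S6611

section helpers
open CochainComplex.HomComplex

theorem main {A : Type u} [Category.{v} A] [Abelian A]
    (K L I : CochainComplex A ℤ) (α : K ⟶ L) [QuasiIso α] (hα : ∀ n : ℤ, Mono (α.f n))
    (a : ℤ) [I.IsStrictlyGE a] (hI : ∀ n : ℤ, Injective (I.X n)) (γ : K ⟶ I) :
    ∃ β : L ⟶ I, α ≫ β = γ := by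
  have hIK : I.IsKInjective := CochainComplex.isKInjective_of_injective I a
  have hαmono : Mono α := HomologicalComplex.mono_of_mono_f α hα
  -- the short exact sequence `0 → K → L → C → 0`
  let S : ShortComplex (CochainComplex A ℤ) := ShortComplex.mk α (cokernel.π α) (cokernel.condition α)
  have hS : S.ShortExact :=
    { exact := ShortComplex.exact_cokernel α
      mono_f := hαmono
      epi_g := inferInstanceAs (Epi (cokernel.π α)) }
  have hC : (cokernel α).Acyclic := hS.acyclic_X₃ (inferInstanceAs (QuasiIso α))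
  have hSn : ∀ n : ℤ, (S.map (HomologicalComplex.eval A (ComplexShape.up ℤ) n)).ShortExact :=
    (HomologicalComplex.shortExact_iff_degreewise_shortExact S).mp hS
  have hepi : ∀ n : ℤ, Epi ((cokernel.π α).f n) := fun n => (hSn n).epi_g
  -- degreewise extension
  let β₀ : Cochain L I 0 := Cochain.ofHoms (fun n => Injective.factorThru (γ.f n) (α.f n))
  have hαβ₀ : (Cochain.ofHom α).comp β₀ (zero_add 0) = Cochain.ofHom γ := by
    ext n
    simp [β₀, Injective.comp_factorThru]
  have hαδ : (Cochain.ofHom α).comp (δ 0 1 β₀) (zero_add 1) = 0 := by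
    rw [← δ_ofHom_comp, hαβ₀, δ_ofHom]
  -- factor `δ β₀` through the cokernel
  let ε : Cochain (cokernel α) I 1 := Cochain.mk (fun p q hpq =>
    haveI := (hSn p).epi_g
    (hSn p).exact.desc ((δ 0 1 β₀).v p q hpq) (by
      have := Cochain.congr_v hαδ p q hpq
      rw [Cochain.zero_cochain_comp_v, Cochain.ofHom_v, Cochain.zero_v] at this
      exact this))
  have hπε : (Cochain.ofHom (cokernel.π α)).comp ε (zero_add 1) = δ 0 1 β₀ := by
    ext p q hpq
    simp only [Cochain.zero_cochain_comp_v, Cochain.ofHom_v, ε, Cochain.mk_v]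
    haveI := (hSn p).epi_g
    exact (hSn p).exact.g_desc _ _
  have hδε : δ 1 2 ε = 0 := by
    have h1 : (Cochain.ofHom (cokernel.π α)).comp (δ 1 2 ε) (zero_add 2) = 0 := by
      rw [← δ_ofHom_comp, hπε, δ_δ]
    ext p q hpq
    have h2 := Cochain.congr_v h1 p q hpq
    simp only [Cochain.zero_cochain_comp_v, Cochain.ofHom_v, Cochain.zero_v] at h2
    rw [Cochain.zero_v]
    haveI := hepi p
    exact (cancel_epi ((cokernel.π α).f p)).mp (by rw [h2, comp_zero])
  obtain ⟨h, hh⟩ := CochainComplex.IsKInjective.eq_δ_of_cocycle (Cocycle.mk ε 2 (by norm_num) hδε) hC 0 (zero_add 1)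
  have hh' : δ 0 1 h = ε := hh
  let β' : Cochain L I 0 := β₀ - (Cochain.ofHom (cokernel.π α)).comp h (zero_add 0)
  have hβ' : δ 0 1 β' = 0 := by
    simp only [β', δ_sub, δ_ofHom_comp, hh', hπε, sub_self]
  refine ⟨Cocycle.homOf (Cocycle.mk β' 1 (zero_add 1) hβ'), ?_⟩
  ext n
  simp only [HomologicalComplex.comp_f, Cocycle.homOf_f, Cocycle.mk_coe, β', Cochain.sub_v,
    Cochain.zero_cochain_comp_v, Cochain.ofHom_v, Preadditive.comp_sub, β₀, Cochain.ofHoms_v,
    Injective.comp_factorThru]
  have : α.f n ≫ (cokernel.π α).f n = 0 := by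
    rw [← HomologicalComplex.comp_f, cokernel.condition, HomologicalComplex.zero_f]
  rw [reassoc_of% this, zero_comp, sub_zero]

end helpers

/-- Let A be an abelian category, α : K ⟶ L a quasi-isomorphism of cochain complexes which is injective
in every degree, I a bounded below complex of injective objects and γ : K ⟶ I a morphism. Then there
is a morphism β : L ⟶ I with α ≫ β = γ. -/
theorem result {A : Type u} [Category.{v} A] [Abelian A]
    (K L I : CochainComplex A ℤ) (α : K ⟶ L) [QuasiIso α] (hα : ∀ n : ℤ, Mono (α.f n))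
    (a : ℤ) [I.IsStrictlyGE a] (hI : ∀ n : ℤ, Injective (I.X n)) (γ : K ⟶ I) :
    ∃ β : L ⟶ I, α ≫ β = γ := by
  exact main K L I α hα a hI γ

end Groth.Agent.S6611
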