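import Groth.Statements.S6612
-- import your own Groth.Agent.* helpers here

set_option autoImplicit false
universe v u
open CategoryTheory CategoryTheory.Limits
open CohDer

namespace Groth.Agent.S6612

/-- Let A be an additive category and 0 → A₂ → B₂ → C₂ → 0 a termwise split exact sequence of complexes.
Given a chain map b from a complex B₁ into B₂ and a chain map b' from B₂ into a complex B₃, suppose
that both composites b ≫ (B₂ → C₂) and (A₂ → B₂) ≫ b' are null-homotopic. Then b ≫ b' is homotopic
to zero. (The published statement has three termwise split sequences Aᵢ → Bᵢ → Cᵢ and asks both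
squares of each diagram to commute up to homotopy; this row keeps only the middle sequence and the
two conditions at B₂ that the argument uses, so it is more general.) -/
theorem result {V : Type u} [Category.{v} V] [Preadditive V] [HasBinaryBiproducts V]
    (S : ShortComplex (CochainComplex V ℤ))
    (σ : ∀ n : ℤ, (S.map (HomologicalComplex.eval V (ComplexShape.up ℤ) n)).Splitting)
    {B₁ B₃ : CochainComplex V ℤ} (b : B₁ ⟶ S.X₂) (b' : S.X₂ ⟶ B₃)
    (hb : Nonempty (Homotopy (b ≫ S.g) 0)) (hb' : Nonempty (Homotopy (S.f ≫ b') 0)) :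
    Nonempty (Homotopy (b ≫ b') 0) := by
  obtain ⟨h₀⟩ := hb
  obtain ⟨h₁⟩ := hb'
  let r : ∀ n, S.X₂.X n ⟶ S.X₁.X n := fun n => (σ n).r
  let s : ∀ n, S.X₃.X n ⟶ S.X₂.X n := fun n => (σ n).s
  have hfr : ∀ n, S.f.f n ≫ r n = 𝟙 _ := fun n => (σ n).f_r
  have hsg : ∀ n, s n ≫ S.g.f n = 𝟙 _ := fun n => (σ n).s_g
  have hid : ∀ n, r n ≫ S.f.f n + S.g.f n ≫ s n = 𝟙 _ := fun n => (σ n).id
  let k : ∀ i j, B₁.X i ⟶ S.X₂.X j := fun i j => h₀.hom i j ≫ s j
  have hk0 : ∀ i j, ¬ (ComplexShape.up ℤ).Rel j i → k i j = 0 := fun i j hij => by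
    simp only [k, h₀.zero i j hij, zero_comp]
  have hN : Homotopy.nullHomotopicMap k ≫ S.g = b ≫ S.g := by
    rw [Homotopy.nullHomotopicMap_comp]
    have hk : (fun i j => k i j ≫ S.g.f j) = h₀.hom := by
      funext i j
      simp only [k, Category.assoc, hsg, Category.comp_id]
    rw [hk]
    ext n
    have := h₀.comm n
    rw [HomologicalComplex.zero_f_apply, add_zero] at this
    rw [this]
    rfl
  have hc : (b - Homotopy.nullHomotopicMap k) ≫ S.g = 0 := by
    rw [Preadditive.sub_comp, hN, sub_self]
  have hcn : ∀ n, (b - Homotopy.nullHomotopicMap k).f n ≫ S.g.f n = 0 := fun n => by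
    rw [← HomologicalComplex.comp_f, hc, HomologicalComplex.zero_f_apply]
  have hrf : ∀ n, (b - Homotopy.nullHomotopicMap k).f n ≫ r n ≫ S.f.f n =
      (b - Homotopy.nullHomotopicMap k).f n := fun n => by
    have h1 : r n ≫ S.f.f n = 𝟙 _ - S.g.f n ≫ s n := by rw [← hid n, add_sub_cancel_right]
    rw [h1, Preadditive.comp_sub, Category.comp_id, ← Category.assoc, hcn, zero_comp, sub_zero]
  let a : B₁ ⟶ S.X₁ :=
    { f := fun n => (b - Homotopy.nullHomotopicMap k).f n ≫ r n
      comm' := fun i j _ => by
        have hmono : ∀ {W : V} (u v : W ⟶ S.X₁.X j), u ≫ S.f.f j = v ≫ S.f.f j → u = v := by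
          intro W u v huv
          have := congrArg (fun t => t ≫ r j) huv
          simpa only [Category.assoc, hfr, Category.comp_id] using this
        apply hmono
        simp only [Category.assoc]
        rw [hrf j, ← S.f.comm i j, reassoc_of% (hrf i), HomologicalComplex.Hom.comm] }
  have ha : a ≫ S.f = b - Homotopy.nullHomotopicMap k := by
    ext n
    exact (Category.assoc _ _ _).trans (hrf n)
  have heq : b ≫ b' = a ≫ (S.f ≫ b') + Homotopy.nullHomotopicMap k ≫ b' := by
    rw [← Category.assoc, ha, Preadditive.sub_comp, sub_add_cancel]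
  have H := (h₁.compLeft a).add ((Homotopy.nullHomotopy k hk0).compRight b')
  exact ⟨(Homotopy.ofEq heq).trans (H.trans (Homotopy.ofEq (by simp)))⟩

end Groth.Agent.S6612
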