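import Groth.Statements.S6614
-- import your own Groth.Agent.* helpers here

set_option autoImplicit false
universe v u
open CategoryTheory CategoryTheory.Limits Opposite
open CohDer

namespace Groth.Agent.S6614


open CategoryTheory.Pretriangulated in
/-- A split monomorphism in a pretriangulated category has a complement. -/
theorem exists_complement {D : Type u} [Category.{v} D] [Preadditive D] [HasZeroObject D]
    [HasShift D ℤ] [∀ n : ℤ, (shiftFunctor D n).Additive] [Pretriangulated D]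
    {A X : D} (c : A ⟶ X) (r : X ⟶ A) (hcr : c ≫ r = 𝟙 A) :
    ∃ (Z : D) (p : X ⟶ Z) (k : Z ⟶ X), c ≫ p = 0 ∧ k ≫ r = 0 ∧ k ≫ p = 𝟙 Z ∧
      r ≫ c + p ≫ k = 𝟙 X := by
  obtain ⟨Z, p, q, hT⟩ := distinguished_cocone_triangle c
  have hcp : c ≫ p = 0 := comp_distTriang_mor_zero₁₂ _ hT
  have hq : q = 0 := by
    have h1 : q ≫ (shiftFunctor D (1 : ℤ)).map c = 0 := comp_distTriang_mor_zero₃₁ _ hT
    have h2 : (shiftFunctor D (1 : ℤ)).map c ≫ (shiftFunctor D (1 : ℤ)).map r = 𝟙 _ := by
      rw [← Functor.map_comp, hcr, CategoryTheory.Functor.map_id]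
    calc q = q ≫ ((shiftFunctor D (1 : ℤ)).map c ≫ (shiftFunctor D (1 : ℤ)).map r) := by
            rw [h2, Category.comp_id]
      _ = 0 := by rw [← Category.assoc, h1, zero_comp]
  obtain ⟨k₀, hk₀⟩ : ∃ k₀ : Z ⟶ X, 𝟙 Z = k₀ ≫ p :=
    Triangle.coyoneda_exact₃ _ hT (𝟙 Z) (by show 𝟙 Z ≫ q = 0; rw [hq, comp_zero])
  let k : Z ⟶ X := k₀ - k₀ ≫ r ≫ c
  have hkr : k ≫ r = 0 := by
    show (k₀ - k₀ ≫ r ≫ c) ≫ r = 0
    rw [Preadditive.sub_comp, Category.assoc, Category.assoc, hcr, Category.comp_id, sub_self]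
  have hkp : k ≫ p = 𝟙 Z := by
    show (k₀ - k₀ ≫ r ≫ c) ≫ p = 𝟙 Z
    rw [Preadditive.sub_comp, Category.assoc, Category.assoc, hcp, comp_zero, comp_zero, sub_zero,
      ← hk₀]
  refine ⟨Z, p, k, hcp, hkr, hkp, ?_⟩
  -- `x := 𝟙 - r ≫ c - p ≫ k` is killed by `p`, hence factors through `c`, and is killed by `r`.
  have hx1 : (𝟙 X - r ≫ c - p ≫ k) ≫ p = 0 := by
    rw [Preadditive.sub_comp, Preadditive.sub_comp, Category.assoc, Category.assoc, hcp, hkp,
      comp_zero, Category.id_comp, Category.comp_id, sub_zero, sub_self]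
  have hx2 : (𝟙 X - r ≫ c - p ≫ k) ≫ r = 0 := by
    rw [Preadditive.sub_comp, Preadditive.sub_comp, Category.assoc, Category.assoc, hcr, hkr,
      comp_zero, Category.id_comp, Category.comp_id, sub_self, sub_zero]
  obtain ⟨x', hx'⟩ : ∃ x' : X ⟶ A, 𝟙 X - r ≫ c - p ≫ k = x' ≫ c :=
    Triangle.coyoneda_exact₂ _ hT _ hx1
  have hx'0 : x' = 0 := by
    have := hx2
    rw [hx', Category.assoc, hcr, Category.comp_id] at this
    exact this
  rw [hx'0, zero_comp] at hx'
  have : 𝟙 X = r ≫ c + p ≫ k := by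
    rw [sub_sub, sub_eq_zero] at hx'
    exact hx'
  exact this.symm

/-- Let D be a triangulated category and (A_n) an ℕ-indexed inverse system of D which is essentially
constant with value A relative to the cone c. Then there are an index i and direct sum
decompositions A_{i+j} ≅ A ⊞ Z_j (j ≥ 0) such that (a) c_{i+j} is the inclusion of the summand A and
the transition maps A_{i+k} → A_{i+j} are 𝟙_A ⊕ (Z_k → Z_j), and (b) for every j there is k ≥ j with
Z_k → Z_j zero. (The published statement is an equivalence whose converse is given without proof;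
this row states only the forward implication.) -/
theorem result {D : Type u} [Category.{v} D] [Preadditive D] [HasZeroObject D] [HasShift D ℤ]
    [∀ n : ℤ, (shiftFunctor D n).Additive] [Pretriangulated D] [IsTriangulated D]
    (X : ARSys.PS D) (A : D) (c : (Functor.const ℕᵒᵖ).obj A ⟶ X) (hX : DerCA.IsEssConstant X A c) :
    ∃ (i : ℕ) (Z : ℕ → D) (e : ∀ j : ℕ, X.obj (op (i + j)) ≅ A ⊞ Z j) (z : ∀ j k : ℕ, j ≤ k → (Z k ⟶ Z j)),
      (∀ j : ℕ, c.app (op (i + j)) ≫ (e j).hom = biprod.inl) ∧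
      (∀ (j k : ℕ) (hjk : j ≤ k), (e k).inv ≫ ARSys.tr X (Nat.add_le_add_left hjk i) = biprod.map (𝟙 A) (z j k hjk) ≫ (e j).inv) ∧
      (∀ j : ℕ, ∃ (k : ℕ) (hjk : j ≤ k), z j k hjk = 0) := by
  obtain ⟨i, s, hcs, hfac⟩ := hX
  have hc : ∀ (n m : ℕ) (h : n ≤ m), c.app (op m) ≫ ARSys.tr X h = c.app (op n) := by
    intro n m h
    have := c.naturality (homOfLE h).op
    simp only [Functor.const_obj_obj, Functor.const_obj_map, Category.id_comp] at this
    exact this.symm
  let r : ∀ j, X.obj (op (i + j)) ⟶ A := fun j => ARSys.tr X (Nat.le_add_right i j) ≫ s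
  have hcr : ∀ j, c.app (op (i + j)) ≫ r j = 𝟙 A := fun j => by
    show c.app _ ≫ ARSys.tr X _ ≫ s = _
    rw [← Category.assoc, hc, hcs]
  choose Z p k hcp hkr hkp hid using
    fun j => exists_complement (c.app (op (i + j))) (r j) (hcr j)
  have htr : ∀ (j k' : ℕ) (hjk : j ≤ k'),
      ARSys.tr X (Nat.add_le_add_left hjk i) ≫ r j = r k' := by
    intro j k' hjk
    show X.map _ ≫ X.map _ ≫ s = X.map _ ≫ s
    rw [← Category.assoc, ← X.map_comp]
    rfl
  have hpk : ∀ j, p j ≫ k j = 𝟙 _ - r j ≫ c.app (op (i + j)) := fun j => by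
    rw [← hid j, add_sub_cancel_left]
  let e : ∀ j, X.obj (op (i + j)) ≅ A ⊞ Z j := fun j =>
    { hom := biprod.lift (r j) (p j)
      inv := biprod.desc (c.app (op (i + j))) (k j)
      hom_inv_id := by
        rw [biprod.lift_desc, hid]
      inv_hom_id := by
        apply biprod.hom_ext'
        · apply biprod.hom_ext
          · simp [hcr]
          · simp [hcp]
        · apply biprod.hom_ext
          · simp [hkr]
          · simp [hkp] }
  refine ⟨i, Z, e, fun j k' hjk => k k' ≫ ARSys.tr X (Nat.add_le_add_left hjk i) ≫ p j,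
    ?_, ?_, ?_⟩
  · intro j
    show c.app (op (i + j)) ≫ biprod.lift (r j) (p j) = biprod.inl
    apply biprod.hom_ext
    · simp [hcr]
    · simp [hcp]
  · intro j k' hjk
    show biprod.desc (c.app (op (i + k'))) (k k') ≫ ARSys.tr X (Nat.add_le_add_left hjk i) =
      biprod.map (𝟙 A) (k k' ≫ ARSys.tr X (Nat.add_le_add_left hjk i) ≫ p j) ≫
        biprod.desc (c.app (op (i + j))) (k j)
    apply biprod.hom_ext'
    · rw [biprod.inl_desc_assoc, biprod.inl_map_assoc, biprod.inl_desc]
      exact (hc (i + j) (i + k') (Nat.add_le_add_left hjk i)).trans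
        (Category.id_comp (c.app (op (i + j)))).symm
    · rw [biprod.inr_desc_assoc, biprod.inr_map_assoc, biprod.inr_desc, Category.assoc,
        Category.assoc, hpk, Preadditive.comp_sub, Preadditive.comp_sub, Category.comp_id,
        ← Category.assoc _ (r j), htr j k' hjk, ← Category.assoc (k k'), hkr, zero_comp, sub_zero]
  · intro j
    obtain ⟨k₀, hi, hj, hk₀⟩ := hfac (i + j)
    obtain ⟨k', rfl⟩ := Nat.exists_eq_add_of_le hi
    have hjk : j ≤ k' := by omega
    refine ⟨k', hjk, ?_⟩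
    show k k' ≫ ARSys.tr X (Nat.add_le_add_left hjk i) ≫ p j = 0
    have h1 : ARSys.tr X (Nat.add_le_add_left hjk i) = r k' ≫ c.app (op (i + j)) := by
      show _ = (ARSys.tr X _ ≫ s) ≫ _
      rw [Category.assoc]
      exact hk₀
    rw [h1, Category.assoc, hcp, comp_zero, comp_zero]

end Groth.Agent.S6614
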