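import Groth.Statements.S6623


set_option autoImplicit false
universe v u
open CategoryTheory CategoryTheory.Limits
open CohDer

namespace Groth.Agent.S6623

open CategoryTheory.Pretriangulated

variable {D : Type u} [Category.{v} D] [Preadditive D] [HasZeroObject D] [HasShift D ℤ]
    [∀ n : ℤ, (shiftFunctor D n).Additive] [Pretriangulated D]

/-- all morphisms `A ⟶ B` vanish -/
def HomZero (A B : D) : Prop := ∀ ψ : A ⟶ B, ψ = 0

omit [HasZeroObject D] [HasShift D ℤ] [∀ n : ℤ, (shiftFunctor D n).Additive] [Pretriangulated D] in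
theorem HomZero.of_iso_left {A A' B : D} (e : A ≅ A') (h : HomZero A B) : HomZero A' B := by
  intro ψ
  have := h (e.hom ≫ ψ)
  rw [← cancel_epi e.hom, this, comp_zero]

omit [HasZeroObject D] [HasShift D ℤ] [∀ n : ℤ, (shiftFunctor D n).Additive] [Pretriangulated D] in
theorem HomZero.of_iso_right {A B B' : D} (e : B ≅ B') (h : HomZero A B) : HomZero A B' := by
  intro ψ
  have := h (ψ ≫ e.inv)
  rw [← cancel_mono e.inv, this, zero_comp]

omit [HasZeroObject D] [Pretriangulated D] in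
/-- shifting both sides -/
theorem HomZero.shift {A B : D} (n : ℤ) (h : HomZero A B) :
    HomZero ((shiftFunctor D n).obj A) ((shiftFunctor D n).obj B) := by
  intro ψ
  obtain ⟨ψ', rfl⟩ := (shiftFunctor D n).map_surjective ψ
  rw [h ψ', Functor.map_zero]

omit [HasZeroObject D] [Pretriangulated D] in
theorem HomZero.unshift {A B : D} (n : ℤ)
    (h : HomZero ((shiftFunctor D n).obj A) ((shiftFunctor D n).obj B)) : HomZero A B := by
  intro ψ
  apply (shiftFunctor D n).map_injective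
  rw [h ((shiftFunctor D n).map ψ), Functor.map_zero]

theorem HomZero.mid_left (T : Triangle D) (hT : T ∈ distTriang D) {Z : D}
    (h₁ : HomZero T.obj₁ Z) (h₃ : HomZero T.obj₃ Z) : HomZero T.obj₂ Z := by
  intro ψ
  obtain ⟨g, hg⟩ := Triangle.yoneda_exact₂ T hT ψ (h₁ _)
  rw [hg, h₃ g, comp_zero]

theorem HomZero.mid_right (T : Triangle D) (hT : T ∈ distTriang D) {Z : D}
    (h₁ : HomZero Z T.obj₁) (h₃ : HomZero Z T.obj₃) : HomZero Z T.obj₂ := by
  intro ψ
  obtain ⟨g, hg⟩ := Triangle.coyoneda_exact₂ T hT ψ (h₃ _)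
  rw [hg, h₁ g, zero_comp]

/-- For `T = (A → B → C → A⟦1⟧)`: `Hom(C, Z) = 0` and `Hom(B⟦1⟧, Z) = 0` give `Hom(A⟦1⟧, Z) = 0`. -/
theorem HomZero.left_shift (T : Triangle D) (hT : T ∈ distTriang D) {Z : D}
    (h₃ : HomZero T.obj₃ Z) (h₂ : HomZero ((shiftFunctor D (1 : ℤ)).obj T.obj₂) Z) :
    HomZero ((shiftFunctor D (1 : ℤ)).obj T.obj₁) Z :=
  HomZero.mid_left T.rotate.rotate (rot_of_distTriang _ (rot_of_distTriang _ hT)) h₃ h₂

theorem HomZero.right_shift (T : Triangle D) (hT : T ∈ distTriang D) {Z : D}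
    (h₃ : HomZero Z T.obj₃) (h₂ : HomZero Z ((shiftFunctor D (1 : ℤ)).obj T.obj₂)) :
    HomZero Z ((shiftFunctor D (1 : ℤ)).obj T.obj₁) :=
  HomZero.mid_right T.rotate.rotate (rot_of_distTriang _ (rot_of_distTriang _ hT)) h₃ h₂

omit [HasZeroObject D] [Pretriangulated D] in
/-- `Hom(A, B⟦-i⟧) = 0` implies `Hom(A⟦i⟧, B) = 0` -/
theorem HomZero.of_neg_shift {A B : D} (i : ℤ) (h : HomZero A ((shiftFunctor D (-i)).obj B)) :
    HomZero ((shiftFunctor D i).obj A) B := by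
  apply HomZero.unshift (-i)
  exact HomZero.of_iso_left ((shiftFunctorCompIsoId D i (-i) (add_neg_cancel i)).app A).symm h

omit [HasZeroObject D] [Pretriangulated D] [∀ n : ℤ, (shiftFunctor D n).Additive] in
/-- shifting the source by `s` then by `t` -/
theorem HomZero.of_add {A B : D} (s t r : ℤ) (hr : s + t = r)
    (h : HomZero ((shiftFunctor D r).obj A) B) :
    HomZero ((shiftFunctor D t).obj ((shiftFunctor D s).obj A)) B :=
  HomZero.of_iso_left ((shiftFunctorAdd' D s t r hr).app A) h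

theorem V1 (X X' : ChainComplex D ℕ) (n : ℕ) (Y : ℕ → D) (a : ∀ k, Y k ⟶ X.X k)
    (b : ∀ k, X.X (k + 1) ⟶ Y k) (c : ∀ k, Y k ⟶ (shiftFunctor D (1 : ℤ)).obj (Y (k + 1)))
    (h0 : IsIso (a 0))
    (hP : ∀ k, k < n → Triangle.mk (a (k + 1)) (b k) (c k) ∈ distinguishedTriangles)
    (hv1 : ∀ (p j : ℕ) (s : ℤ), p < j → j ≤ n → s = (p : ℤ) + 1 - j →
      HomZero ((shiftFunctor D s).obj (X.X p)) (X'.X j))
    (m j : ℕ) (s : ℤ) (hmj : m < j) (hjn : j ≤ n) (hs : s = (m : ℤ) + 1 - j) :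
    HomZero ((shiftFunctor D s).obj (Y m)) (X'.X j) := by
  induction m generalizing s with
  | zero =>
    exact HomZero.of_iso_left ((shiftFunctor D s).mapIso (asIso (a 0)).symm)
      (hv1 0 j s hmj hjn hs)
  | succ m ih =>
    have hT := hP m (by omega)
    have hTs := Triangle.shift_distinguished _ hT (s - 1)
    have h₃ := ih (s - 1) (by omega) (by omega)
    have h₂ := HomZero.of_add (s - 1) 1 s (by omega) (hv1 (m + 1) j s hmj hjn hs)
    have := HomZero.left_shift _ hTs h₃ h₂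
    exact HomZero.of_iso_left ((shiftFunctorAdd' D (s - 1) 1 s (by omega)).app (Y (m + 1))).symm this

theorem V2 (X X' : ChainComplex D ℕ) (n : ℕ) (qY : ℕ → D) (qa : ∀ k, qY k ⟶ X'.X k)
    (qb : ∀ k, X'.X (k + 1) ⟶ qY k)
    (qc : ∀ k, qY k ⟶ (shiftFunctor D (1 : ℤ)).obj (qY (k + 1)))
    (qh0 : IsIso (qa 0))
    (qhP : ∀ k, k < n → Triangle.mk (qa (k + 1)) (qb k) (qc k) ∈ distinguishedTriangles)
    (hv2 : ∀ (p j : ℕ) (t : ℤ), p < j → j ≤ n → t = (j : ℤ) - p →
      HomZero ((shiftFunctor D t).obj (X.X j)) (X'.X p))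
    (m j : ℕ) (t : ℤ) (hmj : m < j) (hjn : j ≤ n) (ht : t = (j : ℤ) - m) :
    HomZero ((shiftFunctor D t).obj (X.X j)) (qY m) := by
  induction m generalizing t with
  | zero =>
    exact HomZero.of_iso_right (asIso (qa 0)).symm (hv2 0 j t hmj hjn ht)
  | succ m ih =>
    have hT := qhP m (by omega)
    have h₃ := HomZero.of_add t 1 (t + 1) rfl (ih (t + 1) (by omega) (by omega))
    have h₂ := (hv2 (m + 1) j t hmj hjn ht).shift 1
    have := HomZero.right_shift _ hT h₃ h₂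
    exact HomZero.unshift 1 this

open CategoryTheory.Pretriangulated in
/-- Let D be a triangulated category, φ : X ⟶ X' a morphism of chain complexes in D considered in
degrees ≤ n, where a Postnikov system for the complex X_n → … → X_0 consists of objects Y_k, an
isomorphism Y_0 ⟶ X_0, and for 0 ≤ k < n distinguished triangles Y_{k+1} ⟶ X_{k+1} ⟶ Y_k ⟶
Y_{k+1}⟦1⟧ with X_{k+1} ⟶ Y_k ⟶ X_k the differential; let (Y, a, b, c) and (Y', a', b', c') be
Postnikov systems for X and X'. If Hom(X_{j-i}⟦1-i⟧, X'_j) = 0 and Hom(X_j, X'_{j-i}⟦-i⟧) = 0 for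
all 0 < i ≤ j ≤ n, then there is at most one morphism of Postnikov systems extending φ: two such
morphisms agree on Y_k for every k ≤ n. -/
theorem result {D : Type u} [Category.{v} D] [Preadditive D] [HasZeroObject D] [HasShift D ℤ]
    [∀ n : ℤ, (shiftFunctor D n).Additive] [Pretriangulated D] [IsTriangulated D]
    (X X' : ChainComplex D ℕ) (φ : X ⟶ X') (n : ℕ)
    (Y : ℕ → D) (a : ∀ k, Y k ⟶ X.X k) (b : ∀ k, X.X (k + 1) ⟶ Y k)
    (c : ∀ k, Y k ⟶ (shiftFunctor D (1 : ℤ)).obj (Y (k + 1)))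
    (h0 : IsIso (a 0))
    (hP : ∀ k, k < n → Triangle.mk (a (k + 1)) (b k) (c k) ∈ distinguishedTriangles ∧ b k ≫ a k = X.d (k + 1) k)
    (qY : ℕ → D) (qa : ∀ k, qY k ⟶ X'.X k) (qb : ∀ k, X'.X (k + 1) ⟶ qY k)
    (qc : ∀ k, qY k ⟶ (shiftFunctor D (1 : ℤ)).obj (qY (k + 1)))
    (qh0 : IsIso (qa 0))
    (qhP : ∀ k, k < n → Triangle.mk (qa (k + 1)) (qb k) (qc k) ∈ distinguishedTriangles ∧ qb k ≫ qa k = X'.d (k + 1) k)
    (hv : ∀ i j : ℕ, 0 < i → i ≤ j → j ≤ n →
      (∀ ψ : (shiftFunctor D (1 - (i : ℤ))).obj (X.X (j - i)) ⟶ X'.X j, ψ = 0) ∧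
      (∀ ψ : X.X j ⟶ (shiftFunctor D (-(i : ℤ))).obj (X'.X (j - i)), ψ = 0))
    (y z : ∀ k, Y k ⟶ qY k)
    (hy : (∀ k, k ≤ n → y k ≫ qa k = a k ≫ φ.f k) ∧
      (∀ k, k < n → b k ≫ y k = φ.f (k + 1) ≫ qb k ∧ c k ≫ (shiftFunctor D (1 : ℤ)).map (y (k + 1)) = y k ≫ qc k))
    (hz : (∀ k, k ≤ n → z k ≫ qa k = a k ≫ φ.f k) ∧
      (∀ k, k < n → b k ≫ z k = φ.f (k + 1) ≫ qb k ∧ c k ≫ (shiftFunctor D (1 : ℤ)).map (z (k + 1)) = z k ≫ qc k))
    (k : ℕ) (hk : k ≤ n) :
    y k = z k := by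
  -- vanishing of Hom groups between the terms of the complexes, with free shift parameters
  have hv1 : ∀ (p j : ℕ) (s : ℤ), p < j → j ≤ n → s = (p : ℤ) + 1 - j →
      HomZero ((shiftFunctor D s).obj (X.X p)) (X'.X j) := by
    intro p j s hpj hjn hs
    have h := (hv (j - p) j (by omega) (by omega) hjn).1
    rw [show j - (j - p) = p by omega] at h
    have hs' : (1 : ℤ) - ((j - p : ℕ) : ℤ) = s := by omega
    rw [hs'] at h
    exact h
  have hv2 : ∀ (p j : ℕ) (t : ℤ), p < j → j ≤ n → t = (j : ℤ) - p →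
      HomZero ((shiftFunctor D t).obj (X.X j)) (X'.X p) := by
    intro p j t hpj hjn ht
    have h := (hv (j - p) j (by omega) (by omega) hjn).2
    rw [show j - (j - p) = p by omega] at h
    have ht' : ((j - p : ℕ) : ℤ) = t := by omega
    rw [ht'] at h
    exact HomZero.of_neg_shift t h
  have hW1 := V1 X X' n Y a b c h0 (fun k hk => (hP k hk).1) hv1
  have hW2 := V2 X X' n qY qa qb qc qh0 (fun k hk => (qhP k hk).1) hv2
  induction k with
  | zero =>
    have := qh0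
    rw [← cancel_mono (qa 0), hy.1 0 hk, hz.1 0 hk]
  | succ k ih =>
    have hkn : k < n := by omega
    have ihk : y k = z k := ih (by omega)
    have hT := (hP k hkn).1
    have hT' := (qhP k hkn).1
    -- δ = y (k+1) - z (k+1)
    have h1 : (y (k + 1) - z (k + 1)) ≫ qa (k + 1) = 0 := by
      rw [Preadditive.sub_comp, hy.1 (k + 1) hk, hz.1 (k + 1) hk, sub_self]
    have h2 : c k ≫ (shiftFunctor D (1 : ℤ)).map (y (k + 1) - z (k + 1)) = 0 := by
      rw [Functor.map_sub, Preadditive.comp_sub, (hy.2 k hkn).2, (hz.2 k hkn).2, ihk, sub_self]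
    -- δ factors through `a (k+1)`
    obtain ⟨g, hg⟩ := Triangle.yoneda_exact₃ _ (rot_of_distTriang _ hT)
      ((shiftFunctor D (1 : ℤ)).map (y (k + 1) - z (k + 1))) h2
    have hg2 : (shiftFunctor D (1 : ℤ)).map (y (k + 1) - z (k + 1)) =
        (-(shiftFunctor D (1 : ℤ)).map (a (k + 1))) ≫
          (g : (shiftFunctor D (1 : ℤ)).obj (X.X (k + 1)) ⟶
            (shiftFunctor D (1 : ℤ)).obj (qY (k + 1))) := hg
    obtain ⟨u, hu⟩ : ∃ u : X.X (k + 1) ⟶ qY (k + 1), (shiftFunctor D (1 : ℤ)).map u =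
        (g : (shiftFunctor D (1 : ℤ)).obj (X.X (k + 1)) ⟶
          (shiftFunctor D (1 : ℤ)).obj (qY (k + 1))) :=
      (shiftFunctor D (1 : ℤ)).map_surjective _
    have h3 : y (k + 1) - z (k + 1) = a (k + 1) ≫ (-u) := by
      apply (shiftFunctor D (1 : ℤ)).map_injective
      rw [hg2, ← hu, Functor.map_comp, Functor.map_neg, Preadditive.neg_comp,
        Preadditive.comp_neg]
    -- `(-u) ≫ qa (k+1)` factors through `b k`, hence vanishes
    have h4 : a (k + 1) ≫ ((-u) ≫ qa (k + 1)) = 0 := by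
      rw [← Category.assoc, ← h3, h1]
    obtain ⟨w, hw⟩ : ∃ w : Y k ⟶ X'.X (k + 1), (-u) ≫ qa (k + 1) = b k ≫ w :=
      Triangle.yoneda_exact₂ _ hT ((-u) ≫ qa (k + 1)) h4
    have hw0 : w = 0 := by
      have := hW1 k (k + 1) 0 (by omega) hk (by omega)
      exact (HomZero.of_iso_left ((shiftFunctorZero D ℤ).app (Y k)) this) w
    have h5 : (-u) ≫ qa (k + 1) = 0 := by
      rw [hw, hw0, comp_zero]
    -- `-u` factors through `qc k` after a shift, hence vanishes
    obtain ⟨g', hg'⟩ : ∃ g' : (shiftFunctor D (1 : ℤ)).obj (X.X (k + 1)) ⟶ qY k,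
        (shiftFunctor D (1 : ℤ)).map (-u) = g' ≫ qc k :=
      Triangle.coyoneda_exact₁ _ hT' ((shiftFunctor D (1 : ℤ)).map (-u)) (by
      change (shiftFunctor D (1 : ℤ)).map (-u) ≫ (shiftFunctor D (1 : ℤ)).map (qa (k + 1)) = 0
      rw [← Functor.map_comp, h5, Functor.map_zero])
    have hg'0 : g' = 0 := hW2 k (k + 1) 1 (by omega) hk (by omega) g'
    have h6 : -u = 0 := by
      apply (shiftFunctor D (1 : ℤ)).map_injective
      rw [hg', hg'0, zero_comp, Functor.map_zero]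
    rw [h6, comp_zero] at h3
    exact sub_eq_zero.mp h3

end Groth.Agent.S6623
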