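import Groth.Statements.S6631
import Groth.Agent.Lib.Helper5.PropCPush

set_option autoImplicit false
open CategoryTheory CategoryTheory.Limits AlgebraicGeometry Opposite
universe u
open EtDesc

namespace Groth.Agent.S6631

/-- Let f : X ⟶ Y be a morphism of schemes satisfying condition (C) (for every etale U ⟶ X there are an
etale V ⟶ Y and a surjective X-morphism X ×_Y V ⟶ U). Then the direct image of sheaves of sets on
the small etale sites along f reflects monomorphisms and epimorphisms. -/
theorem result {X Y : Scheme.{u}} (f : X ⟶ Y) (hC : BigSite.PropC f) :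
    (EtDesc.pushSh f).ReflectsMonomorphisms ∧ (EtDesc.pushSh f).ReflectsEpimorphisms := by
  exact ⟨Groth.Agent.Lib.helper5.PropCPush.reflectsMonomorphisms_pushSh f hC,
    Groth.Agent.Lib.helper5.PropCPush.reflectsEpimorphisms_pushSh f hC⟩

end Groth.Agent.S6631
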