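import Groth.Statements.S6637
-- import your own Groth.Agent.* helpers here

set_option autoImplicit false
open CategoryTheory CategoryTheory.Limits AlgebraicGeometry Opposite
universe u
open BigSite

namespace Groth.Agent.S6637

theorem isIso_lift_of_mono {T X Y : Scheme.{u}} (a : T ⟶ X) (f : X ⟶ Y) [Mono f] :
    IsIso (pullback.lift (𝟙 T) a (by simp) : T ⟶ pullback (a ≫ f) f) := by
  refine ⟨pullback.fst _ _, pullback.lift_fst _ _ _, ?_⟩
  apply pullback.hom_ext
  · rw [Category.assoc, pullback.lift_fst, Category.comp_id, Category.id_comp]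
  · rw [Category.assoc, pullback.lift_snd, Category.id_comp, ← cancel_mono f, Category.assoc,
      pullback.condition]

theorem isIso_unit_of_mono {X Y : Scheme.{u}} (f : X ⟶ Y) [Mono f] (U : Over X) :
    IsIso ((Over.mapPullbackAdj f).unit.app U) := by
  have h : IsIso ((Over.forget X).map ((Over.mapPullbackAdj f).unit.app U)) := by
    have e0 : (Over.forget X).map ((Over.mapPullbackAdj f).unit.app U) =
        pullback.lift (𝟙 U.left) U.hom (by simp) := by
      simp
    rw [e0]
    exact isIso_lift_of_mono U.hom f
  exact isIso_of_reflects_iso _ (Over.forget X)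

theorem isIso_counit {X Y : Scheme.{u}} (f : X ⟶ Y) [Mono f] (K : Precoverage Scheme.{u})
    (A : Type (u + 2)) [Category.{u + 1} A] (F : Sheaf (QuotSh.J K X) A) :
    IsIso ((BigSite.bigAdj K f A).counit.app F) := by
  have h : IsIso ((sheafToPresheaf _ _).map ((BigSite.bigAdj K f A).counit.app F)) := by
    apply (config := { allowSynthFailures := true }) NatIso.isIso_of_isIso_app
    intro Uop
    have := isIso_unit_of_mono f Uop.unop
    have e : ((sheafToPresheaf _ _).map ((BigSite.bigAdj K f A).counit.app F)).app Uop =
        F.obj.map ((Over.mapPullbackAdj f).unit.app Uop.unop).op := by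
      simp [BigSite.bigAdj]
    rw [e]
    exact Functor.map_isIso F.obj _
  exact isIso_of_reflects_iso _ (sheafToPresheaf _ _)

/-- For the Zariski, etale, smooth and fppf topologies: for a monomorphism of schemes f : X ⟶ Y the
counit f_big⁻¹ f_big,* F ⟶ F is an isomorphism for every sheaf of sets F on the big site of X, and
for every abelian sheaf. (The published statement also covers the syntomic topology; this row treats
the Zariski, etale, smooth and fppf topologies only.) -/
theorem result {X Y : Scheme.{u}} (f : X ⟶ Y) [Mono f]
    (K : Precoverage Scheme.{u}) (hK : K = Scheme.zariskiPrecoverage ∨ K = Scheme.etalePrecoverage ∨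
      K = Scheme.precoverage @Smooth ∨ K = Scheme.fppfPrecoverage) :
    (∀ F : QuotSh.Sh K X, IsIso ((BigSite.bigAdj K f (Type (u + 1))).counit.app F)) ∧
      (∀ F : BigSite.Ab K X, IsIso ((BigSite.bigAdj K f AddCommGrpCat.{u + 1}).counit.app F)) := by
  exact ⟨fun F => isIso_counit f K _ F, fun F => isIso_counit f K _ F⟩

end Groth.Agent.S6637
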