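import Groth.Statements.S6638
import Groth.Agent.Lib.Helper1.CompFiltered

set_option autoImplicit false
open CategoryTheory CategoryTheory.Limits AlgebraicGeometry Opposite
universe u
open BigSite

namespace Groth.Agent.S6638

instance preservesFilteredColimits_forget :
    PreservesFilteredColimitsOfSize.{u, u + 1} (forget AddCommGrpCat.{u + 1}) :=
  preservesFilteredColimitsOfSize_shrink.{u + 1, u + 1, u, u + 1} _

instance preservesPullbacks_overMap {X Y : Scheme.{u}} (f : X ⟶ Y) :
    PreservesLimitsOfShape WalkingCospan (Over.map f) := by
  have : PreservesLimitsOfShape WalkingCospan (Over.map f ⋙ Over.forget Y) :=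
    inferInstanceAs (PreservesLimitsOfShape WalkingCospan (Over.forget X))
  exact preservesLimitsOfShape_of_reflects_of_preserves (Over.map f) (Over.forget Y)

instance preservesEqualizers_overMap {X Y : Scheme.{u}} (f : X ⟶ Y) :
    PreservesLimitsOfShape WalkingParallelPair (Over.map f) := by
  have : PreservesLimitsOfShape WalkingParallelPair (Over.map f ⋙ Over.forget Y) :=
    inferInstanceAs (PreservesLimitsOfShape WalkingParallelPair (Over.forget X))
  exact preservesLimitsOfShape_of_reflects_of_preserves (Over.map f) (Over.forget Y)

theorem main {X Y : Scheme.{u}} (f : X ⟶ Y) (K : Precoverage Scheme.{u}) :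
    PreservesFiniteLimits (BigSite.shriekAb K f) :=
  Groth.Agent.H1.CompFiltered.sheafPullback_preservesFiniteLimits (Over.map f)
    (QuotSh.J K X) (QuotSh.J K Y)

/-- Part (1): for the Zariski, etale, smooth and fppf topologies: for a morphism of schemes f : X ⟶ Y
the left adjoint f_big! of f_big⁻¹ on abelian sheaves of the big sites preserves finite limits,
hence is exact. (The left adjoint is the library's chosen one. The published statement also treats
sheaves of modules and the syntomic topology; this row treats abelian sheaves for the Zariski,
etale, smooth and fppf topologies.) -/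
theorem result {X Y : Scheme.{u}} (f : X ⟶ Y)
    (K : Precoverage Scheme.{u}) (hK : K = Scheme.zariskiPrecoverage ∨ K = Scheme.etalePrecoverage ∨
      K = Scheme.precoverage @Smooth ∨ K = Scheme.fppfPrecoverage) :
    PreservesFiniteLimits (BigSite.shriekAb K f) := by
  exact main f K

end Groth.Agent.S6638
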