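import Groth.Statements.S8721
import Mathlib
import Groth.Agent.S3213

set_option autoImplicit false
universe u v
open SGA7II

namespace Groth.Agent.S8721

set_option linter.style.haveILetI false

open Groth.Agent.Lib.helper24.SigmaLinLib Groth.Agent.S3213

section

variable {k : Type u} [Field k] [IsSepClosed k] (p : ℕ) [Fact p.Prime] [CharP k p] (r : ℕ)
  {V : Type v} [AddCommGroup V] [Module k V] [FiniteDimensional k V]

theorem key (hr : 0 < r) (φ : V →+ V) (hφ : ∀ (c : k) (v : V), φ (c • v) = c ^ (p ^ r) • φ v)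
    (m₀ : ℕ) (h : ∀ m, m₀ ≤ m → imgSpan (mkT p r φ hφ) m = imgSpan (mkT p r φ hφ) m₀)
    (P : Submodule k V) (hP : P = imgSpan (mkT p r φ hφ) m₀) :
    ∃ b : Module.Basis (Fin (Module.finrank k ↥P)) k ↥P, (∀ i, φ (b i : V) = (b i : V)) ∧
      ∀ v : V, φ v = v → ∃ c : Fin (Module.finrank k ↥P) → k,
        (∀ i, c i ^ (p ^ r) = c i) ∧ v = ∑ i, c i • (b i : V) := by
  classical
  subst hP
  set T := mkT p r φ hφ with hT
  have hTφ : ∀ v, T v = φ v := fun v => rfl
  have h1 := span_restrict_stable T h
  have htop := fixedSpan_eq_top (T.restrict (fun x hx => map_mem_stable T h hx)) h1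
    (h2_sep k p r hr) (h3_sep k p r hr)
  obtain ⟨b, hb⟩ := exists_fixed_basis (T.restrict (fun x hx => map_mem_stable T h hx)) htop
  have hbφ : ∀ i, φ (b i : V) = (b i : V) := by
    intro i
    have := congrArg Subtype.val (hb i)
    exact this
  refine ⟨b, hbφ, ?_⟩
  intro v hv
  have hiter : ∀ n : ℕ, (⇑T)^[n] v = v := by
    intro n
    induction n with
    | zero => rfl
    | succ n ih => rw [Function.iterate_succ_apply', ih, hTφ, hv]
  have hvP : v ∈ imgSpan T m₀ := Submodule.subset_span ⟨v, hiter m₀⟩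
  let c := b.repr ⟨v, hvP⟩
  have hsum : v = ∑ i, c i • (b i : V) := by
    have := b.sum_repr ⟨v, hvP⟩
    have h2 := congrArg Subtype.val this
    simp only [Submodule.coe_sum, Submodule.coe_smul] at h2
    exact h2.symm
  refine ⟨fun i => c i, ?_, hsum⟩
  -- apply φ
  have hφsum : (⟨v, hvP⟩ : ↥(imgSpan T m₀)) = ∑ i, (c i) ^ (p ^ r) • b i := by
    apply Subtype.ext
    simp only [Submodule.coe_sum, Submodule.coe_smul]
    conv_lhs => rw [← hv, hsum, map_sum]
    refine Finset.sum_congr rfl fun i _ => ?_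
    rw [hφ, hbφ]
  intro i
  have h3 := congrArg (fun w => b.repr w i) hφsum
  simp only [map_sum, map_smul, Finsupp.coe_finsetSum, Finsupp.coe_smul, Finset.sum_apply,
    Pi.smul_apply, Module.Basis.repr_self, smul_eq_mul] at h3
  rw [Finset.sum_eq_single i] at h3
  · rw [Finsupp.single_eq_same, mul_one] at h3
    exact h3.symm
  · intro j _ hj
    rw [Finsupp.single_eq_of_ne hj.symm, mul_zero]
  · intro hi; exact absurd (Finset.mem_univ i) hi

end

theorem main (k : Type u) [Field k] [IsSepClosed k] (p : ℕ)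
    [Fact p.Prime] [CharP k p] (r : ℕ) (hr : 0 < r) (V : Type v) [AddCommGroup V] [Module k V]
    [FiniteDimensional k V] (φ : V →+ V) (hφ : ∀ (c : k) (v : V), φ (c • v) = c ^ (p ^ r) • φ v) :
    let Vss : Submodule k V := ⨅ n : ℕ, Submodule.span k (Set.range (φ^[n + 1]))
    ∃ b : Module.Basis (Fin (Module.finrank k ↥Vss)) k ↥Vss, (∀ i, φ (b i : V) = (b i : V)) ∧
      ∀ v : V, φ v = v → ∃ c : Fin (Module.finrank k ↥Vss) → k,
        (∀ i, c i ^ (p ^ r) = c i) ∧ v = ∑ i, c i • (b i : V) := by
  intro Vss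
  obtain ⟨m₀, h⟩ := exists_imgSpan_stable (mkT p r φ hφ)
  refine key p r hr φ hφ m₀ h Vss ?_
  have hspan : ∀ n : ℕ, Submodule.span k (Set.range (φ^[n])) = imgSpan (mkT p r φ hφ) n :=
    fun n => rfl
  change ⨅ n : ℕ, Submodule.span k (Set.range (φ^[n + 1])) = _
  simp_rw [hspan]
  apply le_antisymm
  · refine (iInf_le _ m₀).trans ?_
    rw [h (m₀ + 1) (Nat.le_succ _)]
  · apply le_iInf
    intro n
    rcases le_total (n + 1) m₀ with hn | hn
    · exact imgSpan_antitone _ hn
    · exact (h (n + 1) hn).ge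



/-- Let k be a separably closed field of characteristic p > 0, q = p^r with r >= 1, V a
finite-dimensional k-vector space and phi : V -> V additive with phi(c v) = c^q phi(v). Let V_ss be
the intersection, over n >= 1, of the k-subspaces spanned by the images of the iterates phi^n (the
semisimple part of V). Then V_ss has a k-basis consisting of phi-fixed vectors, and every phi-fixed
vector of V is a linear combination of this basis with coefficients c satisfying c^q = c; that is,
V_ss is obtained from the F_q-space of fixed vectors by extension of scalars. -/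
theorem result (k : Type u) [Field k] [IsSepClosed k] (p : ℕ)
    [Fact p.Prime] [CharP k p] (r : ℕ) (hr : 0 < r) (V : Type v) [AddCommGroup V] [Module k V]
    [FiniteDimensional k V] (φ : V →+ V) (hφ : ∀ (c : k) (v : V), φ (c • v) = c ^ (p ^ r) • φ v) :
    let Vss : Submodule k V := ⨅ n : ℕ, Submodule.span k (Set.range (φ^[n + 1]))
    ∃ b : Module.Basis (Fin (Module.finrank k ↥Vss)) k ↥Vss, (∀ i, φ (b i : V) = (b i : V)) ∧
      ∀ v : V, φ v = v → ∃ c : Fin (Module.finrank k ↥Vss) → k,
        (∀ i, c i ^ (p ^ r) = c i) ∧ v = ∑ i, c i • (b i : V) := by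
  exact main k p r hr V φ hφ

end Groth.Agent.S8721
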