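import Groth.Statements.S6639
import Mathlib
import Groth.Agent.S8721

set_option autoImplicit false
universe u
open scoped TensorProduct
open EtBase

namespace Groth.Agent.S6639

set_option linter.style.haveILetI false

open Groth.Agent.Lib.helper24.SigmaLinLib Groth.Agent.S3213

/-- `(n : K) ^ p = n` in characteristic `p` -/
theorem natCast_pow_char (K : Type u) [Field K] (p : ℕ) [Fact p.Prime] [CharP K p] (n : ℕ) :
    (n : K) ^ p = n := by
  have h : ((n : ZMod p) : ZMod p) ^ p = n := ZMod.pow_card _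
  have h2 : (ZMod.castHom (dvd_refl p) K) ((n : ZMod p) ^ p)
      = (ZMod.castHom (dvd_refl p) K) (n : ZMod p) := by rw [h]
  rw [map_pow, map_natCast] at h2
  exact h2

/-- the solutions of `c ^ p = c` in a field of characteristic `p` come from any subfield -/
theorem exists_algebraMap_eq_of_pow_eq {k k' : Type u} [Field k] [Field k'] [Algebra k k'] (p : ℕ)
    [Fact p.Prime] [CharP k p] (c : k') (hc : c ^ p = c) :
    ∃ a : k, a ^ p = a ∧ algebraMap k k' a = c := by
  classical
  haveI : CharP k' p := (algebraMap k k').charP_iff_charP p |>.mp inferInstance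
  have hp : p.Prime := Fact.out
  -- the polynomial X^p - X
  let P : Polynomial k' := Polynomial.X ^ p - Polynomial.X
  have hP0 : P ≠ 0 := FiniteField.X_pow_card_sub_X_ne_zero k' hp.one_lt
  have hdeg : P.natDegree = p := FiniteField.X_pow_card_sub_X_natDegree_eq k' hp.one_lt
  let S : Finset k' := (Finset.range p).image (fun n : ℕ => (n : k'))
  have hS : S.card = p := by
    rw [Finset.card_image_of_injOn, Finset.card_range]
    intro a ha b hb hab
    have ha' : a < p := Finset.mem_range.mp ha
    have hb' : b < p := Finset.mem_range.mp hb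
    exact CharP.natCast_injOn_Iio k' p (Set.mem_Iio.mpr ha') (Set.mem_Iio.mpr hb') hab
  have hSroots : S ⊆ P.roots.toFinset := by
    intro x hx
    obtain ⟨n, -, rfl⟩ := Finset.mem_image.mp hx
    rw [Multiset.mem_toFinset, Polynomial.mem_roots hP0, Polynomial.IsRoot.def]
    simp only [P, Polynomial.eval_sub, Polynomial.eval_pow, Polynomial.eval_X]
    rw [← Nat.cast_pow, sub_eq_zero]
    exact_mod_cast natCast_pow_char k' p n
  have hcard : P.roots.toFinset.card ≤ p := by
    calc P.roots.toFinset.card ≤ Multiset.card P.roots := Multiset.toFinset_card_le _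
      _ ≤ P.natDegree := Polynomial.card_roots' P
      _ = p := hdeg
  have hEq : S = P.roots.toFinset := Finset.eq_of_subset_of_card_le hSroots (by rw [hS]; exact hcard)
  have hcroot : c ∈ P.roots.toFinset := by
    rw [Multiset.mem_toFinset, Polynomial.mem_roots hP0, Polynomial.IsRoot.def]
    simp only [P, Polynomial.eval_sub, Polynomial.eval_pow, Polynomial.eval_X]
    rw [hc, sub_self]
  rw [← hEq] at hcroot
  obtain ⟨n, -, rfl⟩ := Finset.mem_image.mp hcroot
  refine ⟨(n : k), ?_, map_natCast _ n⟩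
  exact_mod_cast natCast_pow_char k p n

theorem main {k k' V : Type u} [Field k] [IsAlgClosed k] [Field k']
    [IsAlgClosed k'] [Algebra k k'] (p : ℕ) [Fact p.Prime] [CharP k p]
    [AddCommGroup V] [Module k V] [FiniteDimensional k V] (F : V →+ V)
    (hF : ∀ (c : k) (v : V), F (c • v) = c ^ p • F v)
    (F' : k' ⊗[k] V →+ k' ⊗[k] V) (hF' : ∀ (c : k') (v : V), F' (c ⊗ₜ[k] v) = (c ^ p) ⊗ₜ[k] F v) :
    Set.BijOn (fun v : V => (1 : k') ⊗ₜ[k] v) {v : V | F v = v} {w : k' ⊗[k] V | F' w = w} := by
  classical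
  have hF1 : ∀ (c : k) (v : V), F (c • v) = c ^ (p ^ 1) • F v := by
    intro c v; rw [pow_one]; exact hF c v
  let T := mkT p 1 F hF1
  have hTF : (⇑T : V → V) = ⇑F := rfl
  have hσ : Function.Surjective (iterateFrobenius k p 1) := by
    intro x
    obtain ⟨z, hz⟩ := IsAlgClosed.exists_pow_nat_eq x (pow_pos (Fact.out : p.Prime).pos 1)
    exact ⟨z, by rw [iterateFrobenius_def]; exact hz⟩
  obtain ⟨⟨W, -, ⟨N, hN⟩, hcompl⟩, -⟩ := fitting T hσ
  obtain ⟨m₀, hm₀⟩ := exists_imgSpan_stable T
  obtain ⟨b, hb, -⟩ := Groth.Agent.S8721.key p 1 Nat.one_pos F hF1 m₀ hm₀ (⨅ n, imgSpan T n)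
    (iInf_imgSpan_eq T hm₀)
  let bW := Module.finBasis k W
  let e := Submodule.prodEquivOfIsCompl W (⨅ n, imgSpan T n) hcompl
  let B := (bW.prod b).map e
  have hBl : ∀ j, B (Sum.inl j) = (bW j : V) := by
    intro j
    simp only [B, e, Module.Basis.map_apply, Module.Basis.prod_apply, Sum.elim_inl,
      Function.comp_apply, LinearMap.inl_apply, Submodule.coe_prodEquivOfIsCompl',
      Submodule.coe_zero, add_zero]
  have hBr : ∀ i, B (Sum.inr i) = (b i : V) := by
    intro i
    simp only [B, e, Module.Basis.map_apply, Module.Basis.prod_apply, Sum.elim_inr,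
      Function.comp_apply, LinearMap.inr_apply, Submodule.coe_prodEquivOfIsCompl',
      Submodule.coe_zero, zero_add]
  let B' := Algebra.TensorProduct.basis k' B
  have hB' : ∀ s (c : k'), c • B' s = c ⊗ₜ[k] B s :=
    fun s c => Algebra.TensorProduct.basis_repr_symm_apply' B c s
  -- iterates of F'
  have hiter : ∀ (n : ℕ) (c : k') (v : V),
      (⇑F')^[n] (c ⊗ₜ[k] v) = (c ^ (p ^ n)) ⊗ₜ[k] ((⇑F)^[n] v) := by
    intro n
    induction n with
    | zero => intro c v; simp
    | succ n ih =>
      intro c v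
      rw [Function.iterate_succ_apply', ih, hF', Function.iterate_succ_apply', ← pow_mul,
        ← pow_succ]
  have hitersum : ∀ (n : ℕ) {ι : Type} (s : Finset ι) (f : ι → k' ⊗[k] V),
      (⇑F')^[n] (∑ i ∈ s, f i) = ∑ i ∈ s, (⇑F')^[n] (f i) := by
    intro n ι s f
    induction n with
    | zero => rfl
    | succ n ih =>
      simp only [Function.iterate_succ_apply']
      rw [ih, map_sum]
  refine ⟨?_, ?_, ?_⟩
  · intro v hv
    change F' (1 ⊗ₜ[k] v) = 1 ⊗ₜ[k] v
    rw [hF', one_pow, hv]
  · intro v _ w _ hvw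
    exact Module.Flat.tensorProduct_mk_injective k V k' hvw
  · intro x hx
    change F' x = x at hx
    let c := B'.repr x
    have hxsum : x = ∑ s, (c s) ⊗ₜ[k] B s := by
      conv_lhs => rw [← B'.sum_repr x]
      exact Finset.sum_congr rfl fun s _ => hB' s _
    have hxN : (⇑F')^[N] x = x := Function.iterate_fixed hx N
    have hFl : ∀ j, (⇑F)^[N] (B (Sum.inl j)) = 0 := by
      intro j
      rw [hBl, ← hTF]
      exact hN _ (bW j).2
    have hFr : ∀ i, (⇑F)^[N] (b i : V) = (b i : V) := by
      intro i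
      exact Function.iterate_fixed (hb i) N
    have hx1 : ∃ d : Fin (Module.finrank k ↥(⨅ n, imgSpan T n)) → k',
        x = ∑ i, (d i) ⊗ₜ[k] (b i : V) := by
      refine ⟨fun i => c (Sum.inr i) ^ (p ^ N), ?_⟩
      conv_lhs => rw [← hxN, hxsum, hitersum, Fintype.sum_sum_type]
      simp only [hiter, hFl, hFr, TensorProduct.tmul_zero, Finset.sum_const_zero, zero_add, hBr]
    obtain ⟨d, hx1⟩ := hx1
    have hx2 : F' x = ∑ i, (d i ^ p) ⊗ₜ[k] (b i : V) := by
      rw [hx1, map_sum]
      refine Finset.sum_congr rfl fun i _ => ?_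
      rw [hF', hb i]
    have hli : LinearIndependent k' (fun i => B' (Sum.inr i)) :=
      B'.linearIndependent.comp _ Sum.inr_injective
    have hdp : (fun i => d i ^ p) = d := by
      apply hli.fintypeLinearCombination_injective
      rw [Fintype.linearCombination_apply, Fintype.linearCombination_apply]
      simp only [hB', hBr]
      rw [← hx2, hx, hx1]
    choose a ha1 ha2 using fun i => exists_algebraMap_eq_of_pow_eq (k := k) p (d i) (congrFun hdp i)
    refine ⟨∑ i, a i • (b i : V), ?_, ?_⟩
    · change F (∑ i, a i • (b i : V)) = ∑ i, a i • (b i : V)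
      rw [map_sum]
      refine Finset.sum_congr rfl fun i _ => ?_
      rw [hF, ha1, hb]
    · change (1 : k') ⊗ₜ[k] (∑ i, a i • (b i : V)) = x
      rw [hx1, TensorProduct.tmul_sum]
      refine Finset.sum_congr rfl fun i _ => ?_
      rw [TensorProduct.tmul_smul, TensorProduct.smul_tmul', Algebra.smul_def, mul_one, ha2]



/-- Let k ⟶ k' be a homomorphism of algebraically closed fields of characteristic p > 0 (an extension of
algebraically closed fields), V a finite-dimensional k-vector space, F : V ⟶ V additive with F(c •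
v) = c^p • F(v), and F' the additive endomorphism of V' = k' ⊗_k V satisfying F'(c ⊗ v) = c^p ⊗
F(v). Then v ↦ 1 ⊗ v maps the fixed vectors of F bijectively onto the fixed vectors of F'. -/
theorem result {k k' V : Type u} [Field k] [IsAlgClosed k] [Field k']
    [IsAlgClosed k'] [Algebra k k'] (p : ℕ) [Fact p.Prime] [CharP k p]
    [AddCommGroup V] [Module k V] [FiniteDimensional k V] (F : V →+ V)
    (hF : ∀ (c : k) (v : V), F (c • v) = c ^ p • F v)
    (F' : k' ⊗[k] V →+ k' ⊗[k] V) (hF' : ∀ (c : k') (v : V), F' (c ⊗ₜ[k] v) = (c ^ p) ⊗ₜ[k] F v) :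
    Set.BijOn (fun v : V => (1 : k') ⊗ₜ[k] v) {v : V | F v = v} {w : k' ⊗[k] V | F' w = w} := by
  exact main p F hF F' hF'

end Groth.Agent.S6639
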