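import Groth.Statements.S6640
import Mathlib
import Groth.Agent.Lib.Helper1.EtGerm
import Groth.Agent.Lib.Helper21.SubConst
-- import your own Groth.Agent.* helpers here

set_option autoImplicit false
open CategoryTheory CategoryTheory.Limits AlgebraicGeometry Opposite
universe u
open EtCore

namespace Groth.Agent.S6640


open Groth.Agent.Lib.Helper21.ConstGerm Groth.Agent.H1.EtGerm Groth.Agent.Lib.Helper21.FlcRestr
  Groth.Agent.Lib.helper21.SubConst

variable {X : Scheme.{u}}

lemma eX (X : Scheme.{u}) : X.smallEtaleTopology =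
    (X.smallPretopology (P := EtCoh.etaleMP) (Q := EtCoh.etaleMP)).toGrothendieck :=
  Scheme.smallGrothendieckTopology_eq_toGrothendieck_smallPretopology X le_rfl

lemma mem_of_pointwise (T : X.Etale) (R : Sieve T)
    (h : ∀ x : T.left, ∃ (Y : X.Etale) (g : Y ⟶ T) (y : Y.left), R g ∧ g.left.base y = x) :
    R ∈ X.smallEtaleTopology T := by
  have key : R ∈ (X.smallPretopology (P := EtCoh.etaleMP) (Q := EtCoh.etaleMP)).toGrothendieck T →
      R ∈ X.smallEtaleTopology T := by
    intro hR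
    rw [eX]
    exact hR
  apply key
  refine (Scheme.mem_toGrothendieck_smallPretopology T _).2 (fun x => ?_)
  obtain ⟨Y, g, y, hg, hy⟩ := h x
  haveI := etale_left g
  exact ⟨Y, g, y, hg, inferInstance, hy⟩

lemma not_bot_mem' (T : X.Etale) (t : T.left) : ⊥ ∉ X.smallEtaleTopology T := by
  intro h
  rw [eX] at h
  obtain ⟨Y, f, y, hf, -, -⟩ := (Scheme.mem_toGrothendieck_smallPretopology T _).1 h t
  exact hf

lemma local_const_at' (M : AddCommGrpCat.{u + 1}) (T : X.Etale)
    (s : (cst.{u + 1, u, u + 1} X.smallEtaleTopology M).obj.obj (op T)) (t : T.left) :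
    ∃ (V : X.Etale) (g : V ⟶ T) (v : V.left), g.left.base v = t ∧
      ∃ b : M, (cst.{u + 1, u, u + 1} X.smallEtaleTopology M).obj.map g.op s =
        eta.{u + 1, u, u + 1} X.smallEtaleTopology M (op V) b := by
  obtain ⟨S, hS, hb⟩ := local_const X.smallEtaleTopology M T s
  rw [eX] at hS
  obtain ⟨Y, f, y, hf, -, hy⟩ := (Scheme.mem_toGrothendieck_smallPretopology T _).1 hS t
  exact ⟨Y, f, y, hy, hb _ hf⟩

lemma eta_map' {M N : AddCommGrpCat.{u + 1}} (h : M ⟶ N) (T : X.Etale) (a : M) :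
    (((constantSheaf X.smallEtaleTopology AddCommGrpCat.{u + 1}).map h).hom.app (op T) : _ ⟶ _)
        (eta.{u + 1, u, u + 1} X.smallEtaleTopology M (op T) a) =
      eta.{u + 1, u, u + 1} X.smallEtaleTopology N (op T) (h a) := by
  have h2 := toSheafify_naturality X.smallEtaleTopology ((Functor.const X.Etaleᵒᵖ).map h)
  have h3 := congrArg (fun t : (Functor.const X.Etaleᵒᵖ).obj M ⟶
      (cst.{u + 1, u, u + 1} X.smallEtaleTopology N).obj => (t.app (op T) : _ ⟶ _) a) h2
  exact h3.symm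



/-- Let X be an irreducible scheme, ξ a geometric point over its generic point, A' an additive subgroup
of an abelian group A, and G an abelian sheaf on the small etale site of X with monomorphisms a :
const A' ⟶ G and b : G ⟶ const A whose composite is the map of constant sheaves induced by the
inclusion. If the stalk of a at ξ is an isomorphism, then a is an isomorphism. -/
theorem result {X : Scheme.{u}} [IrreducibleSpace ↥X]
    {Ω : Type u} [Field Ω] [IsSepClosed Ω] (ξ : Spec (CommRingCat.of Ω) ⟶ X)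
    (hξ : ξ.base default = genericPoint ↥X)
    (A : Type) [AddCommGroup A] (A' : AddSubgroup A) (G : EtCoh.Ab X)
    (a : EtCoh.const X ↥A' ⟶ G) (b : G ⟶ EtCoh.const X A) [Mono a] [Mono b]
    (hab : a ≫ b = (constantSheaf X.smallEtaleTopology AddCommGrpCat.{u + 1}).map
      (AddCommGrpCat.ofHom (AddEquiv.ulift.symm.toAddMonoidHom.comp (A'.subtype.comp AddEquiv.ulift.toAddMonoidHom))))
    (hst : IsIso ((EtCoh.stalk ξ).map a)) : IsIso a := by
  classical
  -- notation
  let MA' : AddCommGrpCat.{u + 1} := AddCommGrpCat.of (ULift.{u + 1} ↥A')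
  let MA : AddCommGrpCat.{u + 1} := AddCommGrpCat.of (ULift.{u + 1} A)
  let ι₀ : MA' ⟶ MA := AddCommGrpCat.ofHom
    (AddEquiv.ulift.symm.toAddMonoidHom.comp (A'.subtype.comp AddEquiv.ulift.toAddMonoidHom))
  -- elementwise form of `hab`
  have habE : ∀ (V : X.Etale) (t : (EtCoh.const X ↥A').obj.obj (op V)),
      (b.hom.app (op V) : _ ⟶ _) ((a.hom.app (op V) : _ ⟶ _) t) =
        (((constantSheaf X.smallEtaleTopology AddCommGrpCat.{u + 1}).map ι₀).hom.app (op V) : _ ⟶ _) t := by
    intro V t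
    have h := congrArg (fun φ : EtCoh.const X ↥A' ⟶ EtCoh.const X A =>
      (φ.hom.app (op V) : _ ⟶ _) t) hab
    exact h
  suffices hepi : Epi a from isIso_of_mono_of_epi a
  rw [← Sheaf.isLocallySurjective_iff_epi']
  constructor
  intro T s
  apply mem_of_pointwise
  intro x
  -- Step 1 : `b s` is locally constant near `x`
  obtain ⟨Y₁, g₁, y₁, hy₁, c, hc⟩ := local_const_at' MA T ((b.hom.app (op T) : _ ⟶ _) s) x
  -- Step 2 : the constant lies in `A'`
  have hc' : ∃ c' : MA', ι₀ c' = c := by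
    haveI : AlgebraicGeometry.Etale Y₁.hom := Y₁.prop
    have hopen : IsOpen (Set.range Y₁.hom) := Y₁.hom.isOpenMap.isOpen_range
    have hgen : genericPoint ↥X ∈ Set.range Y₁.hom :=
      ((genericPoint_spec ↥X).mem_open_set_iff hopen).2 ⟨_, Set.mem_univ _, ⟨y₁, rfl⟩⟩
    obtain ⟨z, hz⟩ := hgen
    obtain ⟨l, hl1, -⟩ := Scheme.exists_fac_of_etale_of_isSepClosed Y₁.hom ξ z (by rw [hz, hξ])
    let ζ : Lift ξ Y₁ := Lift.mk ξ l hl1
    obtain ⟨p, hp⟩ := ((ConcreteCategory.isIso_iff_bijective _).1 hst).2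
      (germ ξ G Y₁ ζ (G.obj.map g₁.op s))
    obtain ⟨U, w, t, ht⟩ := germ_surjective (EtCoh.const X ↥A') p
    obtain ⟨W, f, g, -⟩ := IsCofilteredOrEmpty.cone_objs
      (C := (Scheme.pointSmallEtale ξ).fiber.Elements) ⟨Y₁, ζ⟩ ⟨U, w⟩
    obtain ⟨V, v⟩ := W
    obtain ⟨f, hf⟩ := f
    obtain ⟨g, hg⟩ := g
    have hf' : Lift.map f v = ζ := hf
    have hg' : Lift.map g v = w := hg
    have e1 : germ ξ G V v (G.obj.map f.op (G.obj.map g₁.op s)) =
        germ ξ G V v (G.obj.map g.op ((a.hom.app (op U) : _ ⟶ _) t)) := by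
      have h1 := germ_res G f v (G.obj.map g₁.op s)
      have h2 := germ_res G g v ((a.hom.app (op U) : _ ⟶ _) t)
      have h3 := stalk_map_germ a U w t
      rw [h1, h2, hf', hg', ← h3, ht, hp]
    obtain ⟨V₂, k, v₂, -, e2⟩ := (germ_eq_iff G V v _ _).1 e1
    -- the section of `const A'` over `V₂`
    obtain ⟨V₃, k₃, v₃, -, c', e3⟩ := local_const_at' MA' V₂
      ((EtCoh.const X ↥A').obj.map (k ≫ g).op t) (v₂.hom.base default)
    refine ⟨c', ?_⟩
    -- compare units over `V₃`
    have e4 : eta.{u + 1, u, u + 1} X.smallEtaleTopology MA (op V₃) (ι₀ c') =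
        eta.{u + 1, u, u + 1} X.smallEtaleTopology MA (op V₃) c := by
      -- the section `t₂` of `const A'` over `V₂` maps under `a` to the restriction of `s`
      have h5 : (a.hom.app (op V₂) : _ ⟶ _) ((EtCoh.const X ↥A').obj.map (k ≫ g).op t) =
          G.obj.map (k ≫ f).op (G.obj.map g₁.op s) := by
        rw [← phi_nat, map_comp_apply, map_comp_apply, e2]
      have h6 : (a.hom.app (op V₃) : _ ⟶ _)
          (eta.{u + 1, u, u + 1} X.smallEtaleTopology MA' (op V₃) c') =
          G.obj.map (k₃ ≫ k ≫ f).op (G.obj.map g₁.op s) := by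
        rw [← e3, ← phi_nat, h5, ← map_comp_apply]
      have h7 := habE V₃ (eta.{u + 1, u, u + 1} X.smallEtaleTopology MA' (op V₃) c')
      rw [eta_map', h6, ← phi_nat, ← phi_nat, hc, eta_nat] at h7
      exact h7.symm
    rcases eta_inj _ _ _ _ _ e4 with h | h
    · exact h
    · exact (not_bot_mem' V₃ v₃ h).elim
  obtain ⟨c', rfl⟩ := hc'
  -- Step 3
  refine ⟨Y₁, g₁, y₁, ?_, hy₁⟩
  refine ⟨eta.{u + 1, u, u + 1} X.smallEtaleTopology MA' (op Y₁) c', ?_⟩
  apply iota_inj _ _ b Y₁
  rw [habE, eta_map', ← hc, phi_nat]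

end Groth.Agent.S6640
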