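import Groth.Statements.S6641
import Groth.Agent.S0171
import Groth.Agent.S0069

set_option autoImplicit false
open CategoryTheory CategoryTheory.Limits AlgebraicGeometry Opposite
universe u
open Curves

namespace Groth.Agent.S6641

theorem main {k : Type u} [Field k] [IsAlgClosed k]
    {X : Scheme.{u}} (f : X ⟶ Spec (CommRingCat.of k)) [LocallyOfFiniteType f] [QuasiCompact f]
    (c : Cofan fun x : {x : X // IsClosed ({x} : Set X)} =>
      (EtCoh.push (X.fromSpecResidueField x.1)).obj (EtCoh.const (Spec (X.residueField x.1)) ℤ))
    (hc : IsColimit c) (q : ℕ) (hq : 0 < q) :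
    Subsingleton (EtCoh.H X c.pt q) := by
  apply Groth.Agent.S0171.result X f c.pt _ q hq
  rintro y ⟨Ω, _, _, ξ, hξ, hne⟩
  by_contra hy
  apply hne
  have hc' := isColimitOfPreserves (EtCoh.stalk ξ) hc
  have hz : ∀ x : {x : X // IsClosed ({x} : Set X)},
      IsZero ((EtCoh.stalk ξ).obj ((EtCoh.push (X.fromSpecResidueField x.1)).obj
        (EtCoh.const (Spec (X.residueField x.1)) ℤ))) := by
    intro x
    haveI : IsClosedImmersion (X.fromSpecResidueField x.1) :=
      isClosed_singleton_iff_isClosedImmersion.mp x.2
    apply Groth.Agent.S0069.result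
    rw [Set.disjoint_left]
    rintro z hz1 hz2
    have h1 : z = y := by
      have : z ∈ Set.range ξ := hz1
      rw [hξ] at this
      exact this
    have h2 : z = x.1 := by
      have : z ∈ Set.range (X.fromSpecResidueField x.1) := hz2
      rw [Scheme.range_fromSpecResidueField] at this
      exact this
    apply hy
    rw [← h1, h2]
    exact x.2
  rw [IsZero.iff_id_eq_zero]
  apply hc'.hom_ext
  rintro ⟨x⟩
  exact (hz x).eq_of_src _ _

/-- Let X be a smooth curve over an algebraically closed field k (here: X integral of dimension one,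
smooth, separated and of finite type over k), and for a closed point x let i_x : Spec κ(x) ⟶ X be
its inclusion. Then H^q of the direct sum, over all closed points x, of the sheaves (i_x)_* Z (given
here as any colimit cofan of that family) vanishes for every q ≥ 1. -/
theorem result (k : Type u) [Field k] [IsAlgClosed k] (X : Scheme.{u})
    (f : X ⟶ Spec (CommRingCat.of k)) [Smooth f] [IsSeparated f] [LocallyOfFiniteType f] [QuasiCompact f] [IsIntegral X]
    (hdim : topologicalKrullDim ↥X = 1)
    (c : Cofan fun x : {x : ↥X // IsClosed ({x} : Set ↥X)} =>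
      (EtCoh.push (X.fromSpecResidueField x.1)).obj (EtCoh.const (Spec (X.residueField x.1)) ℤ))
    (hc : IsColimit c) (q : ℕ) (hq : 1 ≤ q) :
    Subsingleton (EtCoh.H X c.pt q) := by
  exact main f c hc q (by omega)

end Groth.Agent.S6641
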