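import Groth.Statements.S6648
import Mathlib
import Groth.Agent.Lib.Helper1.EtGerm
-- import your own Groth.Agent.* helpers here

set_option autoImplicit false
open CategoryTheory CategoryTheory.Limits AlgebraicGeometry Opposite
universe u
open EtCore

namespace Groth.Agent.S6648

/-- For a sheaf of (commutative) rings O on the small etale site of a scheme S, the set of points s of S
over which some geometric stalk of O is a nonzero ring is closed in S. (Rings are taken in the
universe of the schemes, as for the structure presheaf of the prelude.) -/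
theorem result {S : Scheme.{u}} (O : Sheaf S.smallEtaleTopology CommRingCat.{u}) :
    IsClosed {s : ↥S | ∃ (Ω : Type u) (_ : Field Ω) (_ : IsSepClosed Ω) (ξ : Spec (CommRingCat.of Ω) ⟶ S),
      ξ.base default = s ∧ Nontrivial ↑((Scheme.pointSmallEtale ξ).presheafFiber.obj O.obj)} := by
  rw [← isOpen_compl_iff, isOpen_iff_forall_mem_open]
  intro s hs
  simp only [Set.mem_compl_iff, Set.mem_setOf_eq, not_exists, not_and] at hs
  -- the standard geometric point over `s`
  let ξ₀ := Groth.Agent.H1.EtStalk.geomPt S s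
  have hξ₀ : ξ₀.base default = s := Groth.Agent.H1.EtGerm.geomPt_default S s
  have h0 := hs _ inferInstance inferInstance ξ₀ hξ₀
  rw [not_nontrivial_iff_subsingleton] at h0
  let Φ₀ := Scheme.pointSmallEtale ξ₀
  let x₀ : Φ₀.fiber.obj (EtCoh.top S) := Over.homMk ξ₀ (Category.comp_id _)
  have h1 : Φ₀.toPresheafFiber (EtCoh.top S) x₀ O.obj (1 : O.obj.obj (op (EtCoh.top S))) =
      Φ₀.toPresheafFiber (EtCoh.top S) x₀ O.obj (0 : O.obj.obj (op (EtCoh.top S))) :=
    Subsingleton.elim _ _
  rw [GrothendieckTopology.Point.toPresheafFiber_eq_iff'] at h1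
  obtain ⟨V, f, y, -, hV⟩ := h1
  rw [map_one, map_zero] at hV
  haveI : AlgebraicGeometry.Etale V.hom := V.prop
  refine ⟨Set.range V.hom, ?_, V.hom.isOpenMap.isOpen_range, ?_⟩
  · rintro _ ⟨v, rfl⟩
    simp only [Set.mem_compl_iff, Set.mem_setOf_eq, not_exists, not_and]
    intro Ω _ _ ξ hξ
    rw [not_nontrivial_iff_subsingleton]
    obtain ⟨l, hl, -⟩ := Scheme.exists_fac_of_etale_of_isSepClosed V.hom ξ v hξ.symm
    let Φ := Scheme.pointSmallEtale ξ
    let y' : Φ.fiber.obj V := Over.homMk l hl
    have h2 : (1 : ↑(Φ.presheafFiber.obj O.obj)) = 0 := by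
      rw [← map_one (Φ.toPresheafFiber V y' O.obj).hom, hV, map_zero]
    exact subsingleton_of_zero_eq_one h2.symm
  · have hy : Groth.Agent.H1.EtGerm.Lift.hom y ≫ V.hom = ξ₀ :=
      Groth.Agent.H1.EtGerm.Lift.hom_comp y
    refine ⟨(Groth.Agent.H1.EtGerm.Lift.hom y).base default, ?_⟩
    have h3 : (Groth.Agent.H1.EtGerm.Lift.hom y ≫ V.hom).base default = ξ₀.base default :=
      congrArg (fun t : Spec (CommRingCat.of (SeparableClosure (S.residueField s))) ⟶ S =>
        t.base default) hy
    exact h3.trans hξ₀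

end Groth.Agent.S6648
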