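import Groth.Statements.S6649
import Mathlib
import Groth.Agent.S0212
import Groth.Agent.S0214
import Groth.Agent.Lib.Helper26.DimFormula7
-- import your own Groth.Agent.* helpers here

set_option autoImplicit false
open CategoryTheory CategoryTheory.Limits AlgebraicGeometry Opposite
universe u
open Curves

namespace Groth.Agent.S6649
open CategoryTheory CategoryTheory.Limits AlgebraicGeometry Opposite
open Curves

theorem isCr_of_isCi (K : Type u) [Field K] (i : ℕ) (h : Curves.IsCi K i) : Curves.IsCr K i := by
  intro n d f hf hd hn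
  obtain ⟨a, ha, h0⟩ := h 1 n (fun _ => f) (fun _ => d) (fun _ => hf) (fun _ => hd) (by simpa using hn)
  exact ⟨a, ha, h0 0⟩

theorem trdeg_le_of_dim (k : Type u) [Field k] (A : Type u) [CommRing A] [IsDomain A] [Algebra k A]
    [Algebra.FiniteType k A] (K : Type u) [Field K] [Algebra A K] [IsFractionRing A K]
    [Algebra k K] [IsScalarTower k A K] (h : ringKrullDim A ≤ 1) : Algebra.trdeg k K ≤ 1 := by
  obtain ⟨n, hn⟩ := Groth.Agent.Lib.helper26.DimFormula.exists_nat_trdeg k A
  have h1 := (Groth.Agent.Lib.helper26.DimFormula.ringKrullDim_eq_of_trdeg k A n hn).1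
  have e : FractionRing A ≃ₐ[k] K := (FractionRing.algEquiv A K).restrictScalars k
  rw [← e.trdeg_eq, Groth.Agent.Lib.helper26.DimFormula.trdeg_fractionRing, hn]
  rw [h1] at h
  have : n ≤ 1 := by exact_mod_cast h
  exact_mod_cast this

theorem main (k : Type u) [Field k] [IsAlgClosed k] (C : Scheme.{u})
    (f : C ⟶ Spec (CommRingCat.of k)) [IsSeparated f] [LocallyOfFiniteType f] [QuasiCompact f] [IsIntegral C]
    (hdim : topologicalKrullDim ↥C = 1)
    (D : Type u) [DivisionRing D] [Algebra ↑C.functionField D] [Algebra.IsCentral ↑C.functionField D]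
    [FiniteDimensional ↑C.functionField D] : Module.finrank ↑C.functionField D = 1 := by
  apply Groth.Agent.S0214.result
  apply isCr_of_isCi
  -- choose a nonempty affine open
  obtain ⟨U, hU, hne⟩ : ∃ U : C.Opens, IsAffineOpen U ∧ Nonempty U := by
    obtain ⟨x⟩ : Nonempty C := inferInstance
    obtain ⟨_, ⟨U, hU, rfl⟩, hx, -⟩ := C.isBasis_affineOpens.exists_subset_of_mem_open (Set.mem_univ x) isOpen_univ
    exact ⟨U, hU, ⟨⟨x, hx⟩⟩⟩
  let φ : k →+* Γ(C, U) := (f.appLE ⊤ U le_top).hom.comp (Scheme.ΓSpecIso (CommRingCat.of k)).inv.hom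
  letI : Algebra k Γ(C, U) := φ.toAlgebra
  have hft : Algebra.FiniteType k Γ(C, U) := by
    have h1 : (f.appLE ⊤ U le_top).hom.FiniteType :=
      LocallyOfFiniteType.finiteType_appLE f (isAffineOpen_top _) hU le_top
    have h2 : (Scheme.ΓSpecIso (CommRingCat.of k)).inv.hom.FiniteType :=
      RingHom.FiniteType.of_surjective _ (ConcreteCategory.bijective_of_isIso (Scheme.ΓSpecIso (CommRingCat.of k)).inv).2
    exact h1.comp h2
  letI : Algebra k C.functionField := ((algebraMap Γ(C, U) C.functionField).comp φ).toAlgebra
  haveI : IsScalarTower k Γ(C, U) C.functionField := IsScalarTower.of_algebraMap_eq (fun _ => rfl)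
  haveI := functionField_isFractionRing_of_isAffineOpen C U hU
  have hd : ringKrullDim Γ(C, U) ≤ 1 := by
    rw [← PrimeSpectrum.topologicalKrullDim_eq_ringKrullDim, ← hdim]
    have e : (U : Type u) ≃ₜ PrimeSpectrum Γ(C, U) := TopCat.homeoOfIso (Scheme.forgetToTop.mapIso hU.isoSpec)
    rw [← e.isHomeomorph.topologicalKrullDim_eq]
    exact Topology.IsInducing.topologicalKrullDim_le (f := (Subtype.val : U → C)) Topology.IsInducing.subtypeVal
  have ht := trdeg_le_of_dim k Γ(C, U) C.functionField hd
  have := Groth.Agent.Lib.helper12.Tsen.isCi_of_trdeg_le k C.functionField 0 1 ht (Groth.Agent.S0209.result k)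
  simpa using this


/-- For a curve C over an algebraically closed field k (C integral of dimension one, separated and of
finite type over k) the Brauer group of the function field of C is zero: every finite-dimensional
central division algebra over the function field has dimension one. -/
theorem result (k : Type u) [Field k] [IsAlgClosed k] (C : Scheme.{u})
    (f : C ⟶ Spec (CommRingCat.of k)) [IsSeparated f] [LocallyOfFiniteType f] [QuasiCompact f] [IsIntegral C]
    (hdim : topologicalKrullDim ↥C = 1)
    (D : Type u) [DivisionRing D] [Algebra ↑C.functionField D] [Algebra.IsCentral ↑C.functionField D]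
    [FiniteDimensional ↑C.functionField D] : Module.finrank ↑C.functionField D = 1 := by
  exact main k C f hdim D

end Groth.Agent.S6649
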