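import Groth.Statements.S6654
import Mathlib
import Groth.Agent.Lib.Helper21.ModGerm
-- import your own Groth.Agent.* helpers here

set_option autoImplicit false
open CategoryTheory CategoryTheory.Limits AlgebraicGeometry Opposite
universe u
open EtModW

namespace Groth.Agent.S6654

open Groth.Agent.H1.EtGerm Groth.Agent.Lib.helper21.ModGerm

/-- Let X be an irreducible scheme, ξ a geometric point over its generic point, Λ a commutative ring, M'
a submodule of a Λ-module M, and G a sheaf of Λ-modules on the small etale site of X with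
monomorphisms a : const M' ⟶ G and b : G ⟶ const M whose composite is the map of constant sheaves
induced by the inclusion. If the stalk of a at ξ is an isomorphism, then a is an isomorphism. -/
theorem result (Λ : Type (u + 1)) [CommRing Λ] {X : Scheme.{u}} [IrreducibleSpace ↥X]
    {Ω : Type u} [Field Ω] [IsSepClosed Ω] (ξ : Spec (CommRingCat.of Ω) ⟶ X)
    (hξ : ξ.base default = genericPoint ↥X)
    (M : Type (u + 1)) [AddCommGroup M] [Module Λ M] (M' : Submodule Λ M) (G : EtModW.Mod Λ X)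
    (a : EtModW.constMod Λ X ↥M' ⟶ G) (b : G ⟶ EtModW.constMod Λ X M) [Mono a] [Mono b]
    (hab : a ≫ b = (constantSheaf X.smallEtaleTopology (ModuleCat.{u + 1} Λ)).map (ModuleCat.ofHom M'.subtype))
    (hst : IsIso ((EtModW.stalk Λ ξ).map a)) : IsIso a := by
  classical
  let MA' : ModuleCat.{u + 1} Λ := ModuleCat.of Λ ↥M'
  let MA : ModuleCat.{u + 1} Λ := ModuleCat.of Λ M
  let ι₀ : MA' ⟶ MA := ModuleCat.ofHom M'.subtype
  -- elementwise form of `hab`
  have habE : ∀ (V : X.Etale) (t : (EtModW.constMod Λ X ↥M').obj.obj (op V)),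
      (b.hom.app (op V) : _ ⟶ _) ((a.hom.app (op V) : _ ⟶ _) t) =
        (((constantSheaf X.smallEtaleTopology (ModuleCat.{u + 1} Λ)).map ι₀).hom.app (op V) : _ ⟶ _) t := by
    intro V t
    have h := congrArg (fun φ : EtModW.constMod Λ X ↥M' ⟶ EtModW.constMod Λ X M =>
      (φ.hom.app (op V) : _ ⟶ _) t) hab
    exact h
  suffices hepi : Epi a from isIso_of_mono_of_epi a
  rw [← Sheaf.isLocallySurjective_iff_epi']
  constructor
  intro T s
  apply mem_of_pointwise
  intro x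
  -- Step 1 : `b s` is locally constant near `x`
  obtain ⟨Y₁, g₁, y₁, hy₁, c, hc⟩ := local_constM_at Λ MA T ((b.hom.app (op T) : _ ⟶ _) s) x
  -- Step 2 : the constant lies in `M'`
  have hc' : ∃ c' : MA', ι₀ c' = c := by
    haveI : AlgebraicGeometry.Etale Y₁.hom := Y₁.prop
    have hopen : IsOpen (Set.range Y₁.hom) := Y₁.hom.isOpenMap.isOpen_range
    have hgen : genericPoint ↥X ∈ Set.range Y₁.hom :=
      ((genericPoint_spec ↥X).mem_open_set_iff hopen).2 ⟨_, Set.mem_univ _, ⟨y₁, rfl⟩⟩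
    obtain ⟨z, hz⟩ := hgen
    obtain ⟨l, hl1, -⟩ := Scheme.exists_fac_of_etale_of_isSepClosed Y₁.hom ξ z (by rw [hz, hξ])
    let ζ : Lift ξ Y₁ := Lift.mk ξ l hl1
    obtain ⟨p, hp⟩ := ((ConcreteCategory.isIso_iff_bijective _).1 hst).2
      (germM ξ G Y₁ ζ (G.obj.map g₁.op s))
    obtain ⟨U, w, t, ht⟩ := germM_surjective (EtModW.constMod Λ X ↥M') p
    obtain ⟨W, f, g, -⟩ := IsCofilteredOrEmpty.cone_objs
      (C := (Scheme.pointSmallEtale ξ).fiber.Elements) ⟨Y₁, ζ⟩ ⟨U, w⟩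
    obtain ⟨V, v⟩ := W
    obtain ⟨f, hf⟩ := f
    obtain ⟨g, hg⟩ := g
    have hf' : Lift.map f v = ζ := hf
    have hg' : Lift.map g v = w := hg
    have e1 : germM ξ G V v (G.obj.map f.op (G.obj.map g₁.op s)) =
        germM ξ G V v (G.obj.map g.op ((a.hom.app (op U) : _ ⟶ _) t)) := by
      have h1 := germM_res G f v (G.obj.map g₁.op s)
      have h2 := germM_res G g v ((a.hom.app (op U) : _ ⟶ _) t)
      have h3 := stalkM_map_germ a U w t
      rw [h1, h2, hf', hg', ← h3, ht, hp]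
    obtain ⟨V₂, k, v₂, -, e2⟩ := (germM_eq_iff G V v _ _).1 e1
    obtain ⟨V₃, k₃, v₃, -, c', e3⟩ := local_constM_at Λ MA' V₂
      ((EtModW.constMod Λ X ↥M').obj.map (k ≫ g).op t) (v₂.hom.base default)
    refine ⟨c', ?_⟩
    have e4 : etaM Λ MA (op V₃) (ι₀ c') = etaM Λ MA (op V₃) c := by
      have h5 : (a.hom.app (op V₂) : _ ⟶ _) ((EtModW.constMod Λ X ↥M').obj.map (k ≫ g).op t) =
          G.obj.map (k ≫ f).op (G.obj.map g₁.op s) := by
        rw [← phiM_nat, mapM_comp_apply, mapM_comp_apply, e2]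
      have h6 : (a.hom.app (op V₃) : _ ⟶ _) (etaM Λ MA' (op V₃) c') =
          G.obj.map (k₃ ≫ k ≫ f).op (G.obj.map g₁.op s) := by
        rw [← e3, ← phiM_nat, h5, ← mapM_comp_apply]
      have h7 := habE V₃ (etaM Λ MA' (op V₃) c')
      rw [etaM_map, h6, ← phiM_nat, ← phiM_nat, hc, etaM_nat] at h7
      exact h7.symm
    rcases etaM_inj _ _ _ _ _ e4 with h | h
    · exact h
    · exact (not_bot_mem V₃ v₃ h).elim
  obtain ⟨c', rfl⟩ := hc'
  -- Step 3
  refine ⟨Y₁, g₁, y₁, ?_, hy₁⟩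
  refine ⟨etaM Λ MA' (op Y₁) c', ?_⟩
  apply iotaM_inj _ _ b Y₁
  rw [habE, etaM_map, ← hc, phiM_nat]

end Groth.Agent.S6654
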