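import Groth.Statements.S6658
import Groth.Agent.Lib.Helper1.SuppSect
import Groth.Agent.Lib.Helper27.LocCohFun
import Groth.Agent.S14454

set_option autoImplicit false
universe u
open CategoryTheory CategoryTheory.Limits AlgebraicGeometry Opposite
open EtDual

namespace Groth.Agent.S6658

open Groth.Agent.H1.SuppSect Groth.Agent.Lib.Helper18.JCont Groth.Agent.H1.EtGerm
  Groth.Agent.H1.EtStalk Groth.Agent.H1.EtStalkPull Groth.Agent.Lib.helper27

/-- for adjunctions `L ⊣ M ⊣ R` and an injective `I`, if the counit of `L ⊣ M` at `R M I` is a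
monomorphism then the unit `I ⟶ R M I` is a split epimorphism -/
theorem exists_section_unit {C D : Type*} [Category C] [Category D]
    {L : D ⥤ C} {M : C ⥤ D} {R : D ⥤ C} (adjL : L ⊣ M) (adjR : M ⊣ R) (I : C) [Injective I]
    [Mono (adjL.counit.app (R.obj (M.obj I)))] :
    ∃ r : R.obj (M.obj I) ⟶ I, r ≫ adjR.unit.app I = 𝟙 _ := by
  obtain ⟨r, hr⟩ : ∃ r : R.obj (M.obj I) ⟶ I, adjL.counit.app (R.obj (M.obj I)) ≫ r =
      L.map (adjR.counit.app (M.obj I)) ≫ adjL.counit.app I :=
    ⟨Injective.factorThru _ _, Injective.comp_factorThru _ _⟩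
  refine ⟨r, ?_⟩
  apply (adjR.homEquiv _ _).symm.injective
  rw [Adjunction.homEquiv_counit, Adjunction.homEquiv_counit, M.map_comp, Category.assoc,
    adjR.left_triangle_components, Category.comp_id, M.map_id, Category.id_comp]
  apply (adjL.homEquiv _ _).symm.injective
  rw [Adjunction.homEquiv_counit, Adjunction.homEquiv_counit]
  exact (adjL.counit.naturality r).trans hr

section

variable {U X : Scheme.{u}} (j : U ⟶ X) [IsOpenImmersion j]

theorem mono_counit_extZero (A : EtCoh.Ab X) : Mono ((EtShriek.extZeroAdj j).counit.app A) := by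
  have hunit : IsIso ((EtShriek.extZeroAdj j).unit.app ((EtShriek.restrAlong j).obj A)) :=
    (Groth.Agent.S0651.main j _).2
  have hra : IsIso ((EtShriek.restrAlong j).map ((EtShriek.extZeroAdj j).counit.app A)) := by
    have h1 := (EtShriek.extZeroAdj j).right_triangle_components A
    have h2 : (EtShriek.restrAlong j).map ((EtShriek.extZeroAdj j).counit.app A) =
        inv ((EtShriek.extZeroAdj j).unit.app ((EtShriek.restrAlong j).obj A)) :=
      IsIso.eq_inv_of_hom_inv_id h1
    rw [h2]
    infer_instance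
  apply mono_of_stalk
  intro s
  by_cases hs : s ∈ Set.range j.base
  · have : IsIso ((EtCoh.stalk (geomPt X s)).map ((EtShriek.extZeroAdj j).counit.app A)) := by
      apply isIso_stalk_of_isIso_restr j _
      apply exists_fac_of_mem_range
      rw [geomPt_default]
      exact hs
    exact ((ConcreteCategory.isIso_iff_bijective _).mp this).1
  · have hr : Set.range (geomPt X s).base ⊆ (Set.range j.base)ᶜ := by
      rintro _ ⟨t, rfl⟩
      rw [Subsingleton.elim t default, geomPt_default]
      exact hs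
    have z1 := isZero_stalk_extZero_of_not_mem j ((EtShriek.restrAlong j).obj A) (geomPt X s) hr
    have := AddCommGrpCat.subsingleton_of_isZero z1
    intro a b _
    exact @Subsingleton.elim _ this a b

end


instance pullAdditive {X' X : Scheme.{u}} (f : X' ⟶ X) : (EtCoh.pull f).Additive :=
  (EtCoh.pullPushAdj f).left_adjoint_additive

instance pullPFL {X' X : Scheme.{u}} (f : X' ⟶ X) : PreservesFiniteLimits (EtCoh.pull f) :=
  Groth.Agent.S0101.result f

instance pullPFC {X' X : Scheme.{u}} (f : X' ⟶ X) : PreservesFiniteColimits (EtCoh.pull f) := by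
  have := (EtCoh.pullPushAdj f).leftAdjoint_preservesColimits
  infer_instance

instance pushPFL {X' X : Scheme.{u}} (f : X' ⟶ X) : PreservesFiniteLimits (EtCoh.push f) := by
  have := (EtCoh.pullPushAdj f).rightAdjoint_preservesLimits
  infer_instance

section

variable {U X : Scheme.{u}} (j : U ⟶ X) [IsOpenImmersion j]

theorem epi_unitApp (I : EtCoh.Ab X) [Injective I] : Epi (EtDual.unitApp j I) := by
  have := mono_counit_extZero j ((EtCoh.push j).obj ((EtShriek.restrAlong j).obj I))
  obtain ⟨r, hr⟩ := exists_section_unit (EtShriek.extZeroAdj j) (Groth.Agent.S0651.adj3 j) I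
  have h1 : Epi ((Groth.Agent.S0651.adj3 j).unit.app I) := by
    have : IsSplitEpi ((Groth.Agent.S0651.adj3 j).unit.app I) := ⟨⟨r, hr⟩⟩
    infer_instance
  have h2 := unit_comp_pullIsoRestr j I
  have h3 : EtDual.unitApp j I = (Groth.Agent.S0651.adj3 j).unit.app I ≫
      (EtCoh.push j).map ((pullIsoRestr j).inv.app I) := by
    rw [← h2, Category.assoc, ← CategoryTheory.Functor.map_comp, Iso.hom_inv_id_app,
      CategoryTheory.Functor.map_id, Category.comp_id]
  rw [h3]
  infer_instance

/-- `Γ_Z ⟶ id` -/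
noncomputable def αN : EtDual.secSupp j ⟶ 𝟭 (EtCoh.Ab X) where
  app F := kernel.ι (EtDual.unitApp j F)
  naturality _ _ _ := kernel.lift_ι _ _ _

/-- `id ⟶ j_* j^*` -/
noncomputable def βN : 𝟭 (EtCoh.Ab X) ⟶ EtCoh.pull j ⋙ EtCoh.push j :=
  (EtCoh.pullPushAdj j).unit

omit [IsOpenImmersion j] in
theorem wN : αN j ≫ βN j = 0 := by
  ext F : 2
  exact kernel.condition (EtDual.unitApp j F)

theorem hexN (I : EtCoh.Ab X) (hI : Injective I) :
    (ShortComplex.mk ((αN j).app I) ((βN j).app I)
      (by rw [← NatTrans.comp_app, wN]; rfl)).ShortExact := by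
  have h1 : Mono ((αN j).app I) := by
    change Mono (kernel.ι (EtDual.unitApp j I))
    infer_instance
  have h2 : Epi ((βN j).app I) := epi_unitApp j I
  refine ShortComplex.ShortExact.mk' ?_ h1 h2
  exact ShortComplex.exact_of_f_is_kernel _ (kernelIsKernel (EtDual.unitApp j I))

/-- `coker (id ⟶ j_* j^*) ≅ ℋ¹_Z` -/
noncomputable def cokerIso : cokernel (βN j) ≅ EtDual.locCoh j 1 :=
  cokernel.mapIso (βN j) (NatTrans.rightDerived (βN j) 0)
    (asIso (𝟭 (EtCoh.Ab X)).toRightDerivedZero)
    (asIso (EtCoh.pull j ⋙ EtCoh.push j).toRightDerivedZero)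
    (FunLES.toRightDerivedZero_naturality (βN j)) ≪≫
  FunLES.cokernelIso (αN j) (βN j) (wN j) (hexN j) (LocCohFun.isZero_rightDerived_id_succ 0)

/-- `Rⁿ⁺¹(j_* j^*) ≅ ℋⁿ⁺²_Z` -/
noncomputable def δIso (n : ℕ) :
    (EtCoh.pull j ⋙ EtCoh.push j).rightDerived (n + 1) ≅ EtDual.locCoh j (n + 2) :=
  FunLES.δIso (αN j) (βN j) (wN j) (hexN j) (n + 1)
    (LocCohFun.isZero_rightDerived_id_succ n) (LocCohFun.isZero_rightDerived_id_succ (n + 1))

end


theorem main {X U : Scheme.{u}} (j : U ⟶ X) [IsOpenImmersion j] (F : EtCoh.Ab X) :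
    Nonempty (cokernel (EtDual.unitApp j F) ≅ (EtDual.locCoh j 1).obj F) ∧
      ∀ p : ℕ, 1 ≤ p →
        Nonempty ((EtCoh.Rpush j p).obj ((EtCoh.pull j).obj F) ≅ (EtDual.locCoh j (p + 1)).obj F) := by
  constructor
  · exact ⟨(PreservesCokernel.iso ((evaluation _ _).obj F) (βN j)).symm ≪≫ (cokerIso j).app F⟩
  · intro p hp
    obtain ⟨n, rfl⟩ : ∃ n, p = n + 1 := ⟨p - 1, by omega⟩
    have hE : ∀ (I : EtCoh.Ab X), Injective I → ∀ q : ℕ,
        IsZero (((EtCoh.push j).rightDerived (q + 1)).obj ((EtCoh.pull j).obj I)) := by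
      intro I hI q
      have h1 := Groth.Agent.S14454.injective_restrAlong j I
      have h2 : Injective ((EtCoh.pull j).obj I) :=
        Injective.of_iso ((pullIsoRestr j).symm.app I) h1
      exact Functor.isZero_rightDerived_obj_injective_succ _ q _
    obtain ⟨e⟩ := DeltaFPre.rightDerived_comp_exact_iso (EtCoh.pull j) (EtCoh.push j) hE (n + 1)
    exact ⟨(e.symm ≪≫ δIso j n).app F⟩

/-- The exact sequence and the isomorphisms: let j : U → X be an open immersion of schemes with closed
complement Z and F an abelian sheaf on the small etale site of X. Write H^q_Z(F) for the q-th local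
cohomology sheaf of F with support in Z, kept as a sheaf on X (the q-th right derived functor of G ↦
ker(G → j_* j⁻¹ G)). Then the cokernel of the unit F → j_* j⁻¹ F is isomorphic to H^1_Z(F), and for
every p ≥ 1 the higher direct image R^p j_* (j⁻¹ F) is isomorphic to H^{p+1}_Z(F). (The published
statement also gives the distinguished triangle behind these isomorphisms and identifies them with
its connecting maps; this row asserts only that isomorphisms exist.) -/
theorem result {X U : Scheme.{u}} (j : U ⟶ X) [IsOpenImmersion j]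
    (F : EtCoh.Ab X) :
    Nonempty (cokernel (EtDual.unitApp j F) ≅ (EtDual.locCoh j 1).obj F) ∧
      ∀ p : ℕ, 1 ≤ p →
        Nonempty ((EtCoh.Rpush j p).obj ((EtCoh.pull j).obj F) ≅ (EtDual.locCoh j (p + 1)).obj F) := by
  exact main j F

end Groth.Agent.S6658
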