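import Groth.Statements.S6659
import Mathlib
import Groth.Agent.Lib.Helper21.DerivedFF
import Groth.Agent.Lib.Helper1.SuppSect
import Groth.Agent.Lib.Helper27.PullFunEt
import Groth.Agent.S0068
import Groth.Agent.S0070
-- import your own Groth.Agent.* helpers here

set_option autoImplicit false
universe u
open CategoryTheory CategoryTheory.Limits AlgebraicGeometry Opposite
attribute [local instance] HasDerivedCategory.standard
open EtDual

namespace Groth.Agent.S6659

/-- sheaf-level: pushforwards from the closed subscheme are the sheaves with zero restriction to the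
open complement -/
theorem essImage_iff_isZero_pull {Z X U : Scheme.{u}} (i : Z ⟶ X)
    [IsClosedImmersion i] (j : U ⟶ X) [IsOpenImmersion j] (hZU : Set.range j = (Set.range i)ᶜ)
    (F : EtCoh.Ab X) :
    (EtCoh.push i).essImage F ↔ IsZero ((EtCoh.pull j).obj F) := by
  rw [Groth.Agent.S0068.main i F]
  have eR : (EtCoh.pull j).obj F ≅ (EtShriek.restrAlong j).obj F :=
    (Groth.Agent.H1.SuppSect.pullIsoRestr j).app F
  constructor
  · intro h
    refine IsZero.of_iso ?_ eR
    apply Groth.Agent.S0654.isZero_sheaf_of_sections
    intro V
    have hd : Disjoint (Set.range ((EtShriek.compEtale j).obj V).hom.base) (Set.range i.base) := by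
      rw [Set.disjoint_left]
      rintro _ ⟨t, rfl⟩ hi
      have h1 : (V.hom ≫ j).base t ∈ Set.range j := by
        rw [Scheme.Hom.comp_apply]
        exact ⟨_, rfl⟩
      rw [hZU] at h1
      exact h1 hi
    exact AddCommGrpCat.subsingleton_of_isZero (h _ hd)
  · intro h W hW
    have hz : IsZero ((EtShriek.restrAlong j).obj F) := h.of_iso eR.symm
    have hsub : Set.range W.hom.base ⊆ Set.range j.base := by
      intro x hx
      have : x ∈ (Set.range i)ᶜ := fun hi => Set.disjoint_left.mp hW hx hi
      rw [← hZU] at this
      exact this
    let l : W.left ⟶ U := IsOpenImmersion.lift j W.hom hsub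
    have hl : l ≫ j = W.hom := IsOpenImmersion.lift_fac _ _ _
    let g : W ⟶ (EtShriek.compEtale j).obj (EtCoh.top U) :=
      MorphismProperty.Over.homMk l (by
        change l ≫ (𝟙 U ≫ j) = W.hom
        rw [Category.id_comp, hl]) trivial
    obtain ⟨V', e⟩ := EtShriek.compEtaleLift j g
    have hzV : IsZero (((EtShriek.restrAlong j).obj F).obj.obj (op V')) :=
      ((sheafSections _ _).obj (op V')).map_isZero hz
    exact hzV.of_iso (F.obj.mapIso e.op)

/-- Let i : Z → X be a closed immersion of schemes with open complement j : U → X. The direct image i_*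
of abelian etale sheaves is exact (its right exactness is carried as an instance hypothesis), and
the induced functor D(Z_et) → D(X_et) is fully faithful; an object K of D(X_et) lies in its
essential image if and only if every cohomology sheaf of K has zero restriction to U, i.e. K has
cohomology sheaves supported on Z. (The identification of the quasi-inverse with the derived functor
of sections supported on Z is not part of this row.) -/
theorem result {Z X U : Scheme.{u}} (i : Z ⟶ X)
    [IsClosedImmersion i] (j : U ⟶ X) [IsOpenImmersion j] (hZU : Set.range j = (Set.range i)ᶜ)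
    [PreservesFiniteColimits (EtCoh.push i)] :
    ((EtCoh.push i).mapDerivedCategory.Full ∧ (EtCoh.push i).mapDerivedCategory.Faithful) ∧
      ∀ K : DCoh.DEt X,
        (EtCoh.push i).mapDerivedCategory.essImage K ↔
          ∀ n : ℤ, IsZero ((EtCoh.pull j).obj (DCoh.HDEt K n)) := by
  haveI hc : IsIso (EtCoh.pullPushAdj i).counit := Groth.Agent.S0070.isIso_counit i
  haveI hFull : (EtCoh.push i).Full := (EtCoh.pullPushAdj i).fullyFaithfulROfIsIsoCounit.full
  haveI hFaith : (EtCoh.push i).Faithful := (EtCoh.pullPushAdj i).fullyFaithfulROfIsIsoCounit.faithful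
  refine ⟨Groth.Agent.Lib.helper21.DerivedFF.full_faithful (EtCoh.pullPushAdj i), fun K => ?_⟩
  rw [Groth.Agent.Lib.helper21.DerivedFF.essImage_iff (EtCoh.pullPushAdj i) K]
  exact forall_congr' fun n => essImage_iff_isZero_pull i j hZU _

end Groth.Agent.S6659
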