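import Groth.Statements.S6696
import Groth.Agent.S6638
import Groth.Agent.Lib.Helper1.BigBC
import Groth.Agent.Lib.Helper21.DerivedComm

set_option autoImplicit false
universe u
open CategoryTheory CategoryTheory.Limits AlgebraicGeometry Opposite
open BigSite

namespace Groth.Agent.S6696

open Groth.Agent.Lib.Helper21.DerivedComm

section

variable {T S : Scheme.{u}} (f : T ⟶ S) (K : Precoverage Scheme.{u})

instance preservesFiniteLimits_pullBig :
    PreservesFiniteLimits (BigSite.pullBig K f AddCommGrpCat.{u + 1}) := by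
  have : PreservesLimitsOfSize.{0, 0} (BigSite.pullBig K f AddCommGrpCat.{u + 1}) :=
    (BigSite.shriekAbAdj K f).rightAdjoint_preservesLimits
  exact PreservesLimitsOfSize.preservesFiniteLimits _

instance preservesFiniteColimits_pullBig :
    PreservesFiniteColimits (BigSite.pullBig K f AddCommGrpCat.{u + 1}) := by
  have : PreservesColimitsOfSize.{0, 0} (BigSite.pullBig K f AddCommGrpCat.{u + 1}) :=
    (BigSite.bigAdj K f AddCommGrpCat.{u + 1}).leftAdjoint_preservesColimits
  exact PreservesColimitsOfSize.preservesFiniteColimits _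

instance preservesInjectiveObjects_pullBig :
    (BigSite.pullBig K f AddCommGrpCat.{u + 1}).PreservesInjectiveObjects := by
  have := Groth.Agent.S6638.main f K
  exact Functor.preservesInjectiveObjects_of_adjunction_of_preservesMonomorphisms
    (BigSite.shriekAbAdj K f)

end

/-- base change for the big sites at the level of functors -/
noncomputable def bcIso {T S T' S' : Scheme.{u}} {f : T ⟶ S} {g : S' ⟶ S}
    {g' : T' ⟶ T} {f' : T' ⟶ S'} (c : IsPullback g' f' f g) (K : Precoverage Scheme.{u}) :
    BigSite.pushBig K f AddCommGrpCat.{u + 1} ⋙ BigSite.pullBig K g AddCommGrpCat.{u + 1} ≅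
      BigSite.pullBig K g' AddCommGrpCat.{u + 1} ⋙ BigSite.pushBig K f' AddCommGrpCat.{u + 1} := by
  have : (Over.map g ⋙ Over.pullback f).IsContinuous (QuotSh.J K S') (QuotSh.J K T) :=
    Functor.isContinuous_comp _ _ _ (QuotSh.J K S) _
  exact Functor.sheafPushforwardContinuousComp' (Iso.refl _) _ _ _ _ ≪≫
    (Functor.sheafPushforwardContinuousComp' (Groth.Agent.H1.BigBC.overBC c) _ _ _ _).symm

theorem main {T S T' S' : Scheme.{u}} (f : T ⟶ S) (g : S' ⟶ S)
    (g' : T' ⟶ T) (f' : T' ⟶ S') (c : IsPullback g' f' f g) (K : Precoverage Scheme.{u})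
    (F : BigSite.Ab K T) (q : ℕ) :
    Nonempty ((BigSite.pullBig K g AddCommGrpCat.{u + 1}).obj
        ((BigSite.RpushBig K f q).obj F) ≅
      (BigSite.RpushBig K f' q).obj
        ((BigSite.pullBig K g' AddCommGrpCat.{u + 1}).obj F)) := by
  let e1 := (rightDerivedPostIso (BigSite.pullBig K g AddCommGrpCat.{u + 1})
    (BigSite.pushBig K f AddCommGrpCat.{u + 1}) q).symm.app F
  let e2 := (rightDerivedIso (bcIso c K) q).app F
  let e3 := (rightDerivedPreIso (BigSite.pullBig K g' AddCommGrpCat.{u + 1})
    (BigSite.pushBig K f' AddCommGrpCat.{u + 1}) q).app F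
  exact ⟨e1 ≪≫ e2 ≪≫ e3⟩

/-- Part (5): for an abelian sheaf and degree by degree: let f : T → S be a morphism of schemes, g : S'
→ S a scheme over S and T' = S' ×_S T with projections g' : T' → T and f' : T' → S'. For an abelian
sheaf F on the big etale site of T and every q ≥ 0, the restriction g_big⁻¹ (R^q f_{big,*} F) of the
big-site higher direct image to the big etale site of S' is isomorphic to R^q f'_{big,*} (g'_big⁻¹
F). (Existence of an isomorphism only.) -/
theorem result {T S T' S' : Scheme.{u}} (f : T ⟶ S) (g : S' ⟶ S)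
    (g' : T' ⟶ T) (f' : T' ⟶ S') (c : IsPullback g' f' f g) (F : BigSite.Ab Scheme.etalePrecoverage T) (q : ℕ) :
    Nonempty ((BigSite.pullBig Scheme.etalePrecoverage g AddCommGrpCat.{u + 1}).obj
        ((BigSite.RpushBig Scheme.etalePrecoverage f q).obj F) ≅
      (BigSite.RpushBig Scheme.etalePrecoverage f' q).obj
        ((BigSite.pullBig Scheme.etalePrecoverage g' AddCommGrpCat.{u + 1}).obj F)) := by
  exact main f g g' f' c Scheme.etalePrecoverage F q

end Groth.Agent.S6696
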