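import Groth.Statements.S6686
import Groth.Agent.S6696
import Groth.Agent.S6688
import Groth.Agent.S6185

set_option autoImplicit false
universe u
open CategoryTheory CategoryTheory.Limits AlgebraicGeometry Opposite
open BigSite

namespace Groth.Agent.S6686

open Groth.Agent.Lib.Helper21.DerivedComm

section

variable (S : Scheme.{u})

instance : PreservesFiniteLimits (BigSite.resEt Scheme.etalePrecoverage S) :=
  Groth.Agent.S6688.preservesFiniteLimits_resEt S

instance : PreservesFiniteColimits (BigSite.resEt Scheme.etalePrecoverage S) :=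
  Groth.Agent.S6688.preservesFiniteColimits_resEt S

instance : (BigSite.resEt Scheme.etalePrecoverage S).PreservesInjectiveObjects := by
  have := Groth.Agent.S6185.preservesFiniteLimits_piEtPull S
  exact Functor.preservesInjectiveObjects_of_adjunction_of_preservesMonomorphisms
    (BigSite.piEtAdj Scheme.etalePrecoverage S)

end

/-- restriction to the small sites commutes with direct images -/
noncomputable def resPushIso {T S : Scheme.{u}} (f : T ⟶ S) :
    BigSite.pushBig Scheme.etalePrecoverage f AddCommGrpCat.{u + 1} ⋙
        BigSite.resEt Scheme.etalePrecoverage S ≅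
      BigSite.resEt Scheme.etalePrecoverage T ⋙ EtCoh.push f := by
  have : (EtFppf.a S ⋙ Over.pullback f).IsContinuous S.smallEtaleTopology
      (QuotSh.J Scheme.etalePrecoverage T) :=
    Functor.isContinuous_comp _ _ _ (QuotSh.J Scheme.etalePrecoverage S) _
  exact Functor.sheafPushforwardContinuousComp' (Iso.refl _) _ _ _ _ ≪≫
    (Functor.sheafPushforwardContinuousComp'
      (F := EtCoh.bc f) (G := EtFppf.a T) (FG := EtFppf.a S ⋙ Over.pullback f)
      (Iso.refl _) _ _ _ _).symm

theorem main {T S T' S' : Scheme.{u}} (f : T ⟶ S) (g : S' ⟶ S)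
    (g' : T' ⟶ T) (f' : T' ⟶ S') (c : IsPullback g' f' f g)
    (F : BigSite.Ab Scheme.etalePrecoverage T) (q : ℕ) :
    Nonempty ((BigSite.resEtAlong Scheme.etalePrecoverage g).obj
        ((BigSite.RpushBig Scheme.etalePrecoverage f q).obj F) ≅
      (EtCoh.Rpush f' q).obj ((BigSite.resEtAlong Scheme.etalePrecoverage g').obj F)) := by
  obtain ⟨e0⟩ := Groth.Agent.S6696.main f g g' f' c Scheme.etalePrecoverage F q
  let G' := (BigSite.pullBig Scheme.etalePrecoverage g' AddCommGrpCat.{u + 1}).obj F
  let e1 := (BigSite.resEt Scheme.etalePrecoverage S').mapIso e0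
  let e2 := (rightDerivedPostIso (BigSite.resEt Scheme.etalePrecoverage S')
    (BigSite.pushBig Scheme.etalePrecoverage f' AddCommGrpCat.{u + 1}) q).symm.app G'
  let e3 := (rightDerivedIso (resPushIso f') q).app G'
  let e4 := (rightDerivedPreIso (BigSite.resEt Scheme.etalePrecoverage T') (EtCoh.push f') q).app G'
  exact ⟨e1 ≪≫ e2 ≪≫ e3 ≪≫ e4⟩

/-- Part (3): for an abelian sheaf and degree by degree: let f : T → S be a morphism of schemes, g : S'
→ S a scheme over S and T' = S' ×_S T with projections g' : T' → T and f' : T' → S'. For an abelian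
sheaf F on the big etale site of T and every q ≥ 0, the restriction i_g⁻¹ (R^q f_{big,*} F) to the
small etale site of S' is isomorphic to R^q f'_{small,*} (i_{g'}⁻¹ F), where i_h⁻¹ restricts a
big-etale sheaf over a base to the small etale site of a scheme h over that base. (Existence of an
isomorphism only: the comparison map is not constructed here. For g the identity of S this gives
(R^q f_{big,*} F)|_{S_et} ≅ R^q f_{small,*} (F|_{T_et}).) -/
theorem result {T S T' S' : Scheme.{u}} (f : T ⟶ S) (g : S' ⟶ S)
    (g' : T' ⟶ T) (f' : T' ⟶ S') (c : IsPullback g' f' f g) (F : BigSite.Ab Scheme.etalePrecoverage T) (q : ℕ) :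
    Nonempty ((BigSite.resEtAlong Scheme.etalePrecoverage g).obj ((BigSite.RpushBig Scheme.etalePrecoverage f q).obj F) ≅
      (EtCoh.Rpush f' q).obj ((BigSite.resEtAlong Scheme.etalePrecoverage g').obj F)) := by
  exact main f g g' f' c F q

end Groth.Agent.S6686
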