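import Groth.Statements.S6687
import Groth.Agent.S6686
import Groth.Agent.S6184

set_option autoImplicit false
universe u
open CategoryTheory CategoryTheory.Limits AlgebraicGeometry Opposite
open BigSite

namespace Groth.Agent.S6687

/-- `i_f⁻¹ π_S⁻¹ ≅ f_small⁻¹` -/
noncomputable def resPiIso {T S : Scheme.{u}} (f : T ⟶ S) :
    BigSite.piEtPull Scheme.etalePrecoverage S ⋙ BigSite.resEtAlong Scheme.etalePrecoverage f ≅
      EtCoh.pull f := by
  let adjL : BigSite.piEtPull Scheme.etalePrecoverage S ⋙
      BigSite.resEtAlong Scheme.etalePrecoverage f ⊣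
      BigSite.iEtPush Scheme.etalePrecoverage T ⋙
        BigSite.pushBig Scheme.etalePrecoverage f AddCommGrpCat.{u + 1} ⋙
          BigSite.resEt Scheme.etalePrecoverage S :=
    (BigSite.piEtAdj Scheme.etalePrecoverage S).comp
      (((BigSite.bigAdj Scheme.etalePrecoverage f AddCommGrpCat.{u + 1}).comp
        (BigSite.iEtAdj Scheme.etalePrecoverage T)))
  have hc : IsIso (BigSite.iEtAdj Scheme.etalePrecoverage T).counit :=
    Groth.Agent.H1.FFSite.isIso_counit T.smallEtaleTopology (QuotSh.J Scheme.etalePrecoverage T)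
      (EtFppf.a T) AddCommGrpCat.{u + 1}
  let eR : BigSite.iEtPush Scheme.etalePrecoverage T ⋙
        BigSite.pushBig Scheme.etalePrecoverage f AddCommGrpCat.{u + 1} ⋙
          BigSite.resEt Scheme.etalePrecoverage S ≅ EtCoh.push f :=
    Functor.isoWhiskerLeft _ (Groth.Agent.S6686.resPushIso f) ≪≫
      (Functor.associator _ _ _).symm ≪≫
      Functor.isoWhiskerRight (asIso (BigSite.iEtAdj Scheme.etalePrecoverage T).counit) _ ≪≫
      Functor.leftUnitor _
  exact (adjL.ofNatIsoRight eR).leftAdjointUniq (EtCoh.pullPushAdj f)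

theorem main {T S : Scheme.{u}} (f : T ⟶ S) (n : ℕ) (F : EtCoh.Ab S) :
    Nonempty (BigSite.HU Scheme.etalePrecoverage
        ((BigSite.piEtPull Scheme.etalePrecoverage S).obj F) n (Over.mk f) ≃+
      EtCoh.H T ((EtCoh.pull f).obj F) n) := by
  obtain ⟨e1⟩ := Groth.Agent.S6185.main T
    ((BigSite.pullBig Scheme.etalePrecoverage f AddCommGrpCat.{u + 1}).obj
      ((BigSite.piEtPull Scheme.etalePrecoverage S).obj F)) n
  let e2 : EtCoh.H T ((BigSite.resEtAlong Scheme.etalePrecoverage f).obj
      ((BigSite.piEtPull Scheme.etalePrecoverage S).obj F)) n ≃+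
      EtCoh.H T ((EtCoh.pull f).obj F) n :=
    ((EtCoh.HF T n).mapIso ((resPiIso f).app F)).addCommGroupIsoToAddEquiv
  exact ⟨e1.symm.trans e2⟩

/-- Let f : T → S be a morphism of schemes, F an abelian sheaf on the small etale site of S and n ≥ 0.
Write π_S⁻¹ F for the pullback of F to the big etale site of S. Then the cohomology of π_S⁻¹ F over
the object (T → S) of the big site is isomorphic to H^n(T_et, f⁻¹ F). (Existence of an isomorphism
of abelian groups only; the published statement identifies the two through the restriction of π_S⁻¹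
F to the small etale site of T, which is f⁻¹ F.) -/
theorem result {T S : Scheme.{u}} (f : T ⟶ S) (n : ℕ) (F : EtCoh.Ab S) :
    Nonempty (BigSite.HU Scheme.etalePrecoverage ((BigSite.piEtPull Scheme.etalePrecoverage S).obj F) n (Over.mk f) ≃+
      EtCoh.H T ((EtCoh.pull f).obj F) n) := by
  exact main f n F

end Groth.Agent.S6687
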