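import Groth.Statements.S6697
import Groth.Agent.S6685
import Groth.Agent.Lib.Helper1.KInjAdj

set_option autoImplicit false
universe u
open CategoryTheory CategoryTheory.Limits AlgebraicGeometry Opposite
open BigSite

namespace Groth.Agent.S6697

theorem isKInjective_resEt (S : Scheme.{u})
    (I : CochainComplex (BigSite.Ab Scheme.etalePrecoverage S) ℤ) [I.IsKInjective] :
    CochainComplex.IsKInjective (((BigSite.resEt Scheme.etalePrecoverage S).mapHomologicalComplex
      (ComplexShape.up ℤ)).obj I) := by
  have i1 := Groth.Agent.S6185.preservesFiniteLimits_piEtPull S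
  have i2 : PreservesFiniteColimits (BigSite.piEtPull Scheme.etalePrecoverage S) := by
    have : PreservesColimitsOfSize.{0, 0} (BigSite.piEtPull Scheme.etalePrecoverage S) :=
      (BigSite.piEtAdj Scheme.etalePrecoverage S).leftAdjoint_preservesColimits
    exact PreservesColimitsOfSize.preservesFiniteColimits _
  have i3 : (BigSite.piEtPull Scheme.etalePrecoverage S).Additive :=
    (BigSite.piEtAdj Scheme.etalePrecoverage S).left_adjoint_additive
  exact Groth.Agent.H1.KInjAdj.isKInjective_map (BigSite.piEtAdj Scheme.etalePrecoverage S) I

theorem isKInjective_pullBig {T S : Scheme.{u}} (f : T ⟶ S) (K : Precoverage Scheme.{u})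
    (I : CochainComplex (BigSite.Ab K S) ℤ) [I.IsKInjective] :
    CochainComplex.IsKInjective (((BigSite.pullBig K f AddCommGrpCat.{u + 1}).mapHomologicalComplex
      (ComplexShape.up ℤ)).obj I) := by
  have i1 := Groth.Agent.S6638.main f K
  have i2 : PreservesFiniteColimits (BigSite.shriekAb K f) := by
    have : PreservesColimitsOfSize.{0, 0} (BigSite.shriekAb K f) :=
      (BigSite.shriekAbAdj K f).leftAdjoint_preservesColimits
    exact PreservesColimitsOfSize.preservesFiniteColimits _
  have i3 : (BigSite.shriekAb K f).Additive := (BigSite.shriekAbAdj K f).left_adjoint_additive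
  exact Groth.Agent.H1.KInjAdj.isKInjective_map (BigSite.shriekAbAdj K f) I

theorem main (S : Scheme.{u})
    (I : CochainComplex (BigSite.Ab Scheme.etalePrecoverage S) ℤ) [I.IsKInjective] {T : Scheme.{u}}
    (f : T ⟶ S) :
    CochainComplex.IsKInjective (((BigSite.resEt Scheme.etalePrecoverage S).mapHomologicalComplex
        (ComplexShape.up ℤ)).obj I) ∧
      CochainComplex.IsKInjective (((BigSite.resEtAlong Scheme.etalePrecoverage f).mapHomologicalComplex
        (ComplexShape.up ℤ)).obj I) := by
  refine ⟨isKInjective_resEt S I, ?_⟩
  have h1 := isKInjective_pullBig f Scheme.etalePrecoverage I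
  have h2 := isKInjective_resEt T (((BigSite.pullBig Scheme.etalePrecoverage f
    AddCommGrpCat.{u + 1}).mapHomologicalComplex (ComplexShape.up ℤ)).obj I)
  exact h2

/-- Let S be a scheme, I a K-injective complex of abelian sheaves on the big etale site of S (every
morphism from an acyclic complex to I is null-homotopic) and f : T → S a scheme over S. Then (b) the
termwise restriction I|_{S_et} to the small etale site of S is K-injective, and (a) the termwise
restriction i_f⁻¹ I to the small etale site of T is K-injective. -/
theorem result (S : Scheme.{u})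
    (I : CochainComplex (BigSite.Ab Scheme.etalePrecoverage S) ℤ) [I.IsKInjective] {T : Scheme.{u}} (f : T ⟶ S) :
    CochainComplex.IsKInjective (((BigSite.resEt Scheme.etalePrecoverage S).mapHomologicalComplex (ComplexShape.up ℤ)).obj I) ∧
      CochainComplex.IsKInjective (((BigSite.resEtAlong Scheme.etalePrecoverage f).mapHomologicalComplex (ComplexShape.up ℤ)).obj I) := by
  exact main S I f

end Groth.Agent.S6697
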