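import Groth.Statements.S6703
import Mathlib
-- import your own Groth.Agent.* helpers here

set_option autoImplicit false
universe v v' u u'
open CategoryTheory
open DEquiv

namespace Groth.Agent.S6703

open CategoryTheory.Limits Pretriangulated

section
variable {D : Type u} [Category.{v} D] [Preadditive D] [HasZeroObject D] [HasShift D ℤ]
  [∀ n : ℤ, (shiftFunctor D n).Additive] [Pretriangulated D]

/-- If precomposition with `T.mor₁` is bijective on `Hom(-, E⟦i⟧)` for all `i`, then there are no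
nonzero maps from the cone to any `E⟦i⟧`. -/
lemma eq_zero_of_precomp_bijective (T : Triangle D) (hT : T ∈ distTriang D) (E : D)
    (hbij : ∀ i : ℤ, Function.Bijective (fun g : T.obj₂ ⟶ (shiftFunctor D i).obj E => T.mor₁ ≫ g))
    (i : ℤ) (f : T.obj₃ ⟶ (shiftFunctor D i).obj E) : f = 0 := by
  have h1 : T.mor₂ ≫ f = 0 := by
    apply (hbij i).1
    change T.mor₁ ≫ T.mor₂ ≫ f = T.mor₁ ≫ 0
    rw [comp_distTriang_mor_zero₁₂_assoc _ hT, zero_comp, comp_zero]
  obtain ⟨g, rfl⟩ := Triangle.yoneda_exact₃ T hT f h1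
  let e : (shiftFunctor D i).obj E ≅ (shiftFunctor D (1 : ℤ)).obj ((shiftFunctor D (i - 1)).obj E) :=
    (shiftFunctorAdd' D (i - 1) 1 i (by omega)).app E
  obtain ⟨g₀, hg₀⟩ := (shiftFunctor D (1 : ℤ)).map_surjective (g ≫ e.hom)
  obtain ⟨g₁, hg₁⟩ := (hbij (i - 1)).2 g₀
  dsimp only at hg₁
  have : g = T.mor₁⟦(1 : ℤ)⟧' ≫ g₁⟦(1 : ℤ)⟧' ≫ e.inv := by
    rw [← Functor.map_comp_assoc, hg₁, hg₀, Category.assoc, e.hom_inv_id, Category.comp_id]
  rw [this, comp_distTriang_mor_zero₃₁_assoc _ hT, zero_comp]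


/-- If postcomposition with `T.mor₁⟦i⟧'` is bijective on `Hom(A, -)` for all `i`, then there are no
nonzero maps from `A` to any shift of the cone. -/
lemma eq_zero_of_postcomp_bijective (T : Triangle D) (hT : T ∈ distTriang D) (A : D)
    (hbij : ∀ i : ℤ, Function.Bijective
      (fun g : A ⟶ (shiftFunctor D i).obj T.obj₁ => g ≫ T.mor₁⟦i⟧'))
    (i : ℤ) (f : A ⟶ (shiftFunctor D i).obj T.obj₃) : f = 0 := by
  let m₃ : (shiftFunctor D i).obj T.obj₃ ⟶ (shiftFunctor D (1 : ℤ)).obj ((shiftFunctor D i).obj T.obj₁) :=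
    i.negOnePow • T.mor₃⟦i⟧' ≫ (shiftFunctorComm D 1 i).hom.app T.obj₁
  have hd : Triangle.mk (i.negOnePow • T.mor₁⟦i⟧') (i.negOnePow • T.mor₂⟦i⟧') m₃ ∈ distTriang D :=
    Triangle.shift_distinguished T hT i
  have h1 : f ≫ m₃ = 0 := by
    have h2 : m₃ ≫ (i.negOnePow • T.mor₁⟦i⟧')⟦(1 : ℤ)⟧' = 0 := comp_distTriang_mor_zero₃₁ _ hd
    have h3 : m₃ ≫ (T.mor₁⟦i⟧')⟦(1 : ℤ)⟧' = 0 := by
      rw [Functor.map_units_smul, Linear.comp_units_smul] at h2
      have := congrArg (fun x => i.negOnePow • x) h2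
      simpa [smul_smul] using this
    have hnat : (T.mor₁⟦i⟧')⟦(1 : ℤ)⟧' =
        (shiftFunctorAdd' D i 1 (i + 1) rfl).inv.app T.obj₁ ≫ T.mor₁⟦i + 1⟧' ≫
          (shiftFunctorAdd' D i 1 (i + 1) rfl).hom.app T.obj₂ := by
      have := (shiftFunctorAdd' D i 1 (i + 1) rfl).hom.naturality T.mor₁
      dsimp at this
      rw [this, Iso.inv_hom_id_app_assoc]
    rw [hnat] at h3
    have h4 : ((f ≫ m₃) ≫ (shiftFunctorAdd' D i 1 (i + 1) rfl).inv.app T.obj₁) ≫
        T.mor₁⟦i + 1⟧' = 0 := by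
      rw [← cancel_mono ((shiftFunctorAdd' D i 1 (i + 1) rfl).hom.app T.obj₂)]
      simp only [Category.assoc, zero_comp]
      rw [h3, comp_zero]
    have h5 : (f ≫ m₃) ≫ (shiftFunctorAdd' D i 1 (i + 1) rfl).inv.app T.obj₁ = 0 := by
      apply (hbij (i + 1)).1
      dsimp only
      rw [h4, zero_comp]
    rw [← cancel_mono ((shiftFunctorAdd' D i 1 (i + 1) rfl).inv.app T.obj₁), h5, zero_comp]
  obtain ⟨g, hg⟩ : ∃ g : A ⟶ (shiftFunctor D i).obj T.obj₂, f = g ≫ (i.negOnePow • T.mor₂⟦i⟧') :=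
    Triangle.coyoneda_exact₃ _ hd f h1
  obtain ⟨g', hg'⟩ := (hbij i).2 g
  dsimp only at hg'
  rw [hg, ← hg', Category.assoc, Linear.comp_units_smul, ← Functor.map_comp,
    comp_distTriang_mor_zero₁₂ _ hT, Functor.map_zero, smul_zero, comp_zero]


end


open CategoryTheory.Limits CategoryTheory.Pretriangulated in
/-- Let F : D ⥤ D' be an exact functor of triangulated categories admitting both a left and a right
adjoint, and let S be a set of objects of D such that an object K of D is zero as soon as Hom(E,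
K⟦i⟧) = 0 for all E ∈ S and i ∈ ℤ, and also as soon as Hom(K, E⟦i⟧) = 0 for all E ∈ S and i ∈ ℤ. If
for all E, E' ∈ S and i ∈ ℤ the map Hom(E, E'⟦i⟧) → Hom(F E, F (E'⟦i⟧)) given by F is bijective,
then F is full and faithful. -/
theorem result
    {D : Type u} [Category.{v} D] [Preadditive D] [HasZeroObject D] [HasShift D ℤ]
    [∀ n : ℤ, (shiftFunctor D n).Additive] [Pretriangulated D] [IsTriangulated D]
    {D' : Type u'} [Category.{v'} D'] [Preadditive D'] [HasZeroObject D'] [HasShift D' ℤ]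
    [∀ n : ℤ, (shiftFunctor D' n).Additive] [Pretriangulated D'] [IsTriangulated D']
    (F : D ⥤ D') [F.CommShift ℤ] [F.IsTriangulated] [F.IsLeftAdjoint] [F.IsRightAdjoint]
    (S : Set D)
    (h2 : ∀ K : D, (∀ E ∈ S, ∀ (i : ℤ) (f : E ⟶ (shiftFunctor D i).obj K), f = 0) → IsZero K)
    (h3 : ∀ K : D, (∀ E ∈ S, ∀ (i : ℤ) (f : K ⟶ (shiftFunctor D i).obj E), f = 0) → IsZero K)
    (h4 : ∀ E ∈ S, ∀ E' ∈ S, ∀ i : ℤ,
      Function.Bijective (fun f : E ⟶ (shiftFunctor D i).obj E' => F.map f)) :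
    F.Full ∧ F.Faithful := by
  let G := F.leftAdjoint
  let adjL : G ⊣ F := Adjunction.ofIsRightAdjoint F
  let H := F.rightAdjoint
  let adjR : F ⊣ H := Adjunction.ofIsLeftAdjoint F
  -- key formula for the left adjoint
  have keyL : ∀ (A B : D) (f : A ⟶ B),
      (adjL.homEquiv (F.obj A) B).symm (F.map f) = adjL.counit.app A ≫ f := by
    intro A B f
    rw [Adjunction.homEquiv_counit]
    exact adjL.counit.naturality f
  -- Step 1: the counit is invertible on `S`
  have step1 : ∀ A ∈ S, IsIso (adjL.counit.app A) := by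
    intro A hA
    obtain ⟨C, ψ, δ, hT⟩ := distinguished_cocone_triangle (adjL.counit.app A)
    have hC : IsZero C := by
      apply h3
      intro E hE i f
      refine eq_zero_of_precomp_bijective _ hT E (fun j => ?_) i f
      have : (fun g : A ⟶ (shiftFunctor D j).obj E => adjL.counit.app A ≫ g) =
          (adjL.homEquiv (F.obj A) _).symm ∘ (fun g : A ⟶ (shiftFunctor D j).obj E => F.map g) := by
        funext g
        exact (keyL A _ g).symm
      change Function.Bijective (fun g : A ⟶ (shiftFunctor D j).obj E => adjL.counit.app A ≫ g)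
      rw [this]
      exact (Equiv.bijective _).comp (h4 A hA E hE j)
    exact (Triangle.isZero₃_iff_isIso₁ _ hT).1 hC
  -- Step 2: `F` is bijective on `Hom(A, B)` for `A ∈ S`
  have step2 : ∀ A ∈ S, ∀ B : D, Function.Bijective (fun g : A ⟶ B => F.map g) := by
    intro A hA B
    haveI := step1 A hA
    have : (fun g : A ⟶ B => F.map g) =
        (adjL.homEquiv (F.obj A) B) ∘ (fun g : A ⟶ B => adjL.counit.app A ≫ g) := by
      funext g
      dsimp only [Function.comp]
      rw [← keyL, Equiv.apply_symm_apply]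
    rw [this]
    refine (Equiv.bijective _).comp ⟨fun g g' h => ?_, fun g => ⟨inv (adjL.counit.app A) ≫ g, ?_⟩⟩
    · exact (cancel_epi (adjL.counit.app A)).1 h
    · dsimp only
      rw [IsIso.hom_inv_id_assoc]
  -- Step 3: the unit of `F ⊣ H`
  have keyR : ∀ (A B : D) (g : A ⟶ B),
      adjR.homEquiv A (F.obj B) (F.map g) = g ≫ adjR.unit.app B := by
    intro A B g
    rw [Adjunction.homEquiv_unit]
    exact (adjR.unit.naturality g).symm
  have step3 : ∀ A ∈ S, ∀ B : D, Function.Bijective (fun g : A ⟶ B => g ≫ adjR.unit.app B) := by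
    intro A hA B
    have : (fun g : A ⟶ B => g ≫ adjR.unit.app B) =
        (adjR.homEquiv A (F.obj B)) ∘ (fun g : A ⟶ B => F.map g) := by
      funext g
      exact (keyR A B g).symm
    rw [this]
    exact (Equiv.bijective _).comp (step2 A hA B)
  letI : H.CommShift ℤ := adjR.rightAdjointCommShift ℤ
  haveI : adjR.CommShift ℤ := adjR.commShift_of_leftAdjoint ℤ
  have step4 : ∀ B : D, IsIso (adjR.unit.app B) := by
    intro B
    obtain ⟨C, ψ, δ, hT⟩ := distinguished_cocone_triangle (adjR.unit.app B)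
    have hC : IsZero C := by
      apply h2
      intro A hA i f
      refine eq_zero_of_postcomp_bijective _ hT A (fun j => ?_) i f
      change Function.Bijective (fun g : A ⟶ (shiftFunctor D j).obj B => g ≫ (adjR.unit.app B)⟦j⟧')
      have hs := adjR.shift_unit_app j B
      have : (fun g : A ⟶ (shiftFunctor D j).obj B => g ≫ (adjR.unit.app B)⟦j⟧') =
          (fun k => k ≫ (H.map ((F.commShiftIso j).hom.app B) ≫
            (H.commShiftIso j).hom.app (F.obj B))) ∘
          (fun g : A ⟶ (shiftFunctor D j).obj B => g ≫ adjR.unit.app ((shiftFunctor D j).obj B)) := by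
        funext g
        dsimp only [Function.comp]
        rw [hs, Category.assoc]
      rw [this]
      refine Function.Bijective.comp ⟨fun k k' h => ?_, fun k => ⟨k ≫ inv (H.map ((F.commShiftIso j).hom.app B) ≫
            (H.commShiftIso j).hom.app (F.obj B)), ?_⟩⟩ (step3 A hA _)
      · exact (cancel_mono _).1 h
      · dsimp only
        rw [Category.assoc, IsIso.inv_hom_id, Category.comp_id]
    exact (Triangle.isZero₃_iff_isIso₁ _ hT).1 hC
  haveI : IsIso adjR.unit := NatIso.isIso_of_isIso_app _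
  exact ⟨adjR.fullyFaithfulLOfIsIsoUnit.full, adjR.fullyFaithfulLOfIsIsoUnit.faithful⟩

end Groth.Agent.S6703
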