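import Groth.Statements.S6704
import Mathlib

set_option autoImplicit false
universe w v u v' u'
open CategoryTheory
open DEquiv

namespace Groth.Agent.S6704

open CategoryTheory.Limits CategoryTheory.Pretriangulated DerivedCategory

section cx

variable {A : Type u} [Category.{v} A] [Abelian A]

/-- projection onto the lowest term. -/
noncomputable def projLow (C : CochainComplex A ℤ) [C.IsStrictlyGE 0] :
    C ⟶ (HomologicalComplex.single A (ComplexShape.up ℤ) 0).obj (C.X 0) :=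
  HomologicalComplex.mkHomToSingle (𝟙 (C.X 0)) (by
    intro i hi
    have hi' : i + 1 = 0 := hi
    exact (C.isZero_of_isStrictlyGE 0 i (by omega)).eq_of_src _ _)

instance epi_projLow (C : CochainComplex A ℤ) [C.IsStrictlyGE 0] : Epi (projLow C) := by
  have : ∀ i, Epi ((projLow C).f i) := by
    intro i
    by_cases hi : i = 0
    · subst hi
      dsimp only [projLow]
      rw [HomologicalComplex.mkHomToSingle_f]
      infer_instance
    · exact ⟨fun g h _ => (HomologicalComplex.isZero_single_obj_X (ComplexShape.up ℤ) 0 (C.X 0) i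
        hi).eq_of_src g h⟩
  exact HomologicalComplex.epi_of_epi_f _ this

lemma isZero_kernel_X (C : CochainComplex A ℤ) [C.IsStrictlyGE 0] (n : ℕ) [C.IsStrictlyLE n]
    (i : ℤ) (hi : i < 1 ∨ (n : ℤ) < i) : IsZero ((kernel (projLow C)).X i) := by
  have hm : Mono ((kernel.ι (projLow C)).f i) := inferInstance
  by_cases h0 : i = 0
  · subst h0
    have h1 : (kernel.ι (projLow C)).f 0 ≫ (projLow C).f 0 = 0 := by
      rw [← HomologicalComplex.comp_f, kernel.condition, HomologicalComplex.zero_f]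
    have h2 : IsIso ((projLow C).f 0) := by
      dsimp only [projLow]
      rw [HomologicalComplex.mkHomToSingle_f]
      infer_instance
    have h3 : (kernel.ι (projLow C)).f 0 = 0 := by
      have := h1 =≫ inv ((projLow C).f 0)
      simpa using this
    rw [IsZero.iff_id_eq_zero, ← cancel_mono ((kernel.ι (projLow C)).f 0), h3]
    simp
  · have hz : IsZero (C.X i) := by
      rcases hi with hi | hi
      · exact C.isZero_of_isStrictlyGE 0 i (by omega)
      · exact C.isZero_of_isStrictlyLE n i hi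
    rw [IsZero.iff_id_eq_zero, ← cancel_mono ((kernel.ι (projLow C)).f i)]
    exact hz.eq_of_tgt _ _

end cx

section basics

variable {A : Type u} [Category.{v} A] [Abelian A] [HasDerivedCategory.{w} A]

/-- the bounded property -/
abbrev bdd : ObjectProperty (DerivedCategory A) :=
  (TStructure.t : Triangulated.TStructure (DerivedCategory A)).bounded

instance : (DEquiv.singleB A).Full := by unfold DEquiv.singleB; infer_instance
instance : (DEquiv.singleB A).Faithful := by unfold DEquiv.singleB; infer_instance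

lemma aux3 {C : Type*} [Category C] [HasShift C ℤ] [Preadditive C] {X W Y Y' : C}
    (d : X ⟶ Y⟦(1 : ℤ)⟧) (i : W ≅ Y'⟦(1 : ℤ)⟧) (e : Y' ≅ Y) (e3 : X ≅ X) (h : e3 = Iso.refl X) :
    ((e3.hom ≫ d ≫ e.inv⟦(1 : ℤ)⟧' ≫ i.inv) ≫ i.hom) ≫ e.hom⟦(1 : ℤ)⟧' = e3.hom ≫ d := by
  subst h
  simp [← Functor.map_comp]

/-- lifting a distinguished triangle to `D^b`. -/
lemma liftTri (T : Triangle (DerivedCategory A)) (hT : T ∈ distTriang _)
    (K₁ K₂ K₃ : DerivedCategory.Bounded A)
    (e₁ : (bdd (A := A)).ι.obj K₁ ≅ T.obj₁) (e₂ : (bdd (A := A)).ι.obj K₂ ≅ T.obj₂)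
    (e₃ : (bdd (A := A)).ι.obj K₃ ≅ T.obj₃) :
    ∃ (f : K₁ ⟶ K₂) (g : K₂ ⟶ K₃) (h : K₃ ⟶ K₁⟦(1 : ℤ)⟧),
      Triangle.mk f g h ∈ distTriang (DerivedCategory.Bounded A) := by
  let ι := (bdd (A := A)).ι
  refine ⟨(bdd (A := A)).fullyFaithfulι.preimage (e₁.hom ≫ T.mor₁ ≫ e₂.inv),
    (bdd (A := A)).fullyFaithfulι.preimage (e₂.hom ≫ T.mor₂ ≫ e₃.inv),
    (bdd (A := A)).fullyFaithfulι.preimage (e₃.hom ≫ T.mor₃ ≫ e₁.inv⟦(1 : ℤ)⟧' ≫
      (ι.commShiftIso (1 : ℤ)).inv.app K₁), ?_⟩
  change ι.mapTriangle.obj _ ∈ distTriang _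
  refine isomorphic_distinguished _ hT _ ?_
  refine Triangle.isoMk _ _ e₁ e₂ e₃ ?_ ?_ ?_
  · change (e₁.hom ≫ T.mor₁ ≫ e₂.inv) ≫ e₂.hom = e₁.hom ≫ T.mor₁
    simp
  · change (e₂.hom ≫ T.mor₂ ≫ e₃.inv) ≫ e₃.hom = e₂.hom ≫ T.mor₂
    simp
  · change ((e₃.hom ≫ T.mor₃ ≫ e₁.inv⟦(1 : ℤ)⟧' ≫ (ι.commShiftIso (1 : ℤ)).inv.app K₁) ≫
      (ι.commShiftIso (1 : ℤ)).hom.app K₁) ≫ e₁.hom⟦(1 : ℤ)⟧' = e₃.hom ≫ T.mor₃
    simp only [Category.assoc, Iso.inv_hom_id_app]
    erw [Category.id_comp]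
    rw [← Functor.map_comp, e₁.inv_hom_id, CategoryTheory.Functor.map_id, Category.comp_id]

/-- Postnikov-type data. -/
def Post : ℕ → (M : DerivedCategory.Bounded A) → (X : A) → (M ⟶ (DEquiv.singleB A).obj X) → Prop
  | 0, _, _, π => IsIso π
  | n + 1, M, X, π => ∃ (M' : DerivedCategory.Bounded A) (X' : A)
      (π' : M' ⟶ (DEquiv.singleB A).obj X') (δ : (DEquiv.singleB A).obj X ⟶ M')
      (γ : M' ⟶ M⟦(1 : ℤ)⟧), Post n M' X' π' ∧
        Triangle.mk π δ γ ∈ distTriang (DerivedCategory.Bounded A)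

/-- Claim C: bounded complexes give Postnikov data. -/
lemma claimC (n : ℕ) : ∀ (C : CochainComplex A ℤ) [C.IsStrictlyGE 0] [C.IsStrictlyLE n]
    (K : DerivedCategory.Bounded A) (_ : (bdd (A := A)).ι.obj K ≅ Q.obj C),
    ∃ (X : A) (π : K ⟶ (DEquiv.singleB A).obj X), Post n K X π := by
  induction n with
  | zero =>
    intro C _ _ K e
    have : C.IsStrictlyLE 0 := ‹C.IsStrictlyLE ((0 : ℕ) : ℤ)›
    obtain ⟨Y, ⟨e'⟩⟩ := CochainComplex.exists_iso_single C 0
    let e₂ : (bdd (A := A)).ι.obj K ≅ (bdd (A := A)).ι.obj ((DEquiv.singleB A).obj Y) :=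
      e ≪≫ Q.mapIso e' ≪≫ ((DerivedCategory.singleFunctorIsoCompQ A 0).app Y).symm
    refine ⟨Y, ((bdd (A := A)).fullyFaithfulι.preimageIso e₂).hom, ?_⟩
    change IsIso _
    infer_instance
  | succ n ih =>
    intro C _ _ K e
    let p := projLow C
    let S : ShortComplex (CochainComplex A ℤ) := ShortComplex.mk (kernel.ι p) p (kernel.condition p)
    have hS : S.ShortExact := { exact := ShortComplex.exact_kernel p }
    have hT := DerivedCategory.triangleOfSES_distinguished hS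
    have hT' := rot_of_distTriang _ hT
    -- the shifted kernel
    let C' : CochainComplex A ℤ := (kernel p)⟦(1 : ℤ)⟧
    have hK1 : (kernel p).IsStrictlyGE 1 := by
      rw [CochainComplex.isStrictlyGE_iff]
      intro i hi
      exact isZero_kernel_X C (n + 1) i (Or.inl hi)
    have hK2 : (kernel p).IsStrictlyLE ((n + 1 : ℕ) : ℤ) := by
      rw [CochainComplex.isStrictlyLE_iff]
      intro i hi
      exact isZero_kernel_X C (n + 1) i (Or.inr hi)
    have hC1 : C'.IsStrictlyGE 0 := CochainComplex.isStrictlyGE_shift (kernel p) 1 1 0 (by omega)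
    have hC2 : C'.IsStrictlyLE (n : ℤ) :=
      CochainComplex.isStrictlyLE_shift (kernel p) ((n + 1 : ℕ) : ℤ) 1 n (by push_cast; omega)
    have hb : (bdd (A := A)) (Q.obj C') := by
      refine ⟨⟨0, ?_⟩, ⟨n, ?_⟩⟩
      · change (Q.obj C').IsGE 0
        infer_instance
      · change (Q.obj C').IsLE n
        infer_instance
    let M' : DerivedCategory.Bounded A := ⟨Q.obj C', hb⟩
    obtain ⟨X', π', hP'⟩ := ih C' M' (Iso.refl _)
    obtain ⟨f, g, h, hTB⟩ := liftTri _ hT' K ((DEquiv.singleB A).obj (C.X 0)) M' e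
      ((DerivedCategory.singleFunctorIsoCompQ A 0).app (C.X 0))
      (((Q.commShiftIso (1 : ℤ)).app (kernel p)))
    exact ⟨C.X 0, f, M', X', π', g, h, hP', hTB⟩

end basics

section main

variable {A : Type u} [Category.{v} A] [Abelian A] [HasDerivedCategory.{w} A]
    {D : Type u'} [Category.{v'} D] [Preadditive D] [HasZeroObject D] [HasShift D ℤ]
    [∀ n : ℤ, (shiftFunctor D n).Additive] [Pretriangulated D] [IsTriangulated D]
    (F F' : DerivedCategory.Bounded A ⥤ D) [F.CommShift ℤ] [F.IsTriangulated]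
    [F'.CommShift ℤ] [F'.IsTriangulated]
    (α : DEquiv.singleB A ⋙ F ≅ DEquiv.singleB A ⋙ F')
    (h2 : ∀ (X Y : A) (q : ℤ), q < 0 →
      ∀ f : F.obj ((DEquiv.singleB A).obj X) ⟶ (shiftFunctor D q).obj (F.obj ((DEquiv.singleB A).obj Y)),
        f = 0)

/-- vanishing of negative maps from `F(A)`. -/
def V (N : D) : Prop :=
  ∀ (Z : A) (q : ℤ), q < 0 → ∀ f : F.obj ((DEquiv.singleB A).obj Z) ⟶ N⟦q⟧, f = 0

lemma V_iso {N N' : D} (e : N ≅ N') (h : V F N) : V F N' := by
  intro Z q hq f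
  have := h Z q hq (f ≫ (shiftFunctor D q).map e.inv)
  have h2 := this =≫ (shiftFunctor D q).map e.hom
  simpa [← Functor.map_comp] using h2

lemma V_tri (T : Triangle D) (hT : T ∈ distTriang D) (h₁ : V F T.obj₁) (h₃ : V F T.obj₃) :
    V F T.obj₂ := by
  intro Z q hq f
  have hTq := Triangle.shift_distinguished T hT q
  obtain ⟨g, hg⟩ := Triangle.coyoneda_exact₂ _ hTq f (h₃ Z q hq _)
  have hg0 : g = 0 := h₁ Z q hq g
  rw [hg, hg0]
  exact zero_comp

lemma V_shift {N : D} (h : V F N) : V F (N⟦(-1 : ℤ)⟧) := by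
  intro Z q hq f
  have := h Z (q - 1) (by omega) (f ≫ (shiftFunctorAdd' D (-1) q (q - 1) (by omega)).inv.app N)
  have h2 := this =≫ (shiftFunctorAdd' D (-1) q (q - 1) (by omega)).hom.app N
  simpa using h2

include α h2 in
lemma V_single (X : A) : V F (F'.obj ((DEquiv.singleB A).obj X)) :=
  V_iso F (α.app X) (fun Z q hq f => h2 Z X q hq f)

include α h2 in
lemma vanish (n : ℕ) : ∀ (M : DerivedCategory.Bounded A) (X : A)
    (π : M ⟶ (DEquiv.singleB A).obj X), Post n M X π → V F (F'.obj M) := by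
  induction n with
  | zero =>
    intro M X π hP
    have : IsIso π := hP
    exact V_iso F (F'.mapIso (asIso π)).symm (V_single F F' α h2 X)
  | succ n ih =>
    rintro M X π ⟨M', X', π', δ, γ, hP', hT⟩
    have hT' := inv_rot_of_distTriang _ (F'.map_distinguished _ hT)
    exact V_tri F _ hT' (V_shift F (ih M' X' π' hP')) (V_single F F' α h2 X)

include α h2 in
lemma mono_like (n : ℕ) (M' : DerivedCategory.Bounded A) (X' : A)
    (π' : M' ⟶ (DEquiv.singleB A).obj X') (hP : Post n M' X' π') (Z : A)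
    (Δ : F.obj ((DEquiv.singleB A).obj Z) ⟶ F'.obj M') (hΔ : Δ ≫ F'.map π' = 0) : Δ = 0 := by
  cases n with
  | zero =>
    have : IsIso π' := hP
    have := hΔ =≫ inv (F'.map π')
    simpa using this
  | succ k =>
    obtain ⟨M'', X'', π'', δ', γ', hP'', hT'⟩ := hP
    have hT'' := inv_rot_of_distTriang _ (F'.map_distinguished _ hT')
    obtain ⟨g, hg⟩ := Triangle.coyoneda_exact₂ _ hT'' Δ hΔ
    have hg0 : g = 0 := vanish F F' α h2 k M'' X'' π'' hP'' Z (-1) (by omega) g
    rw [hg, hg0]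
    exact zero_comp

include α h2 in
lemma claimA (n : ℕ) : ∀ (M : DerivedCategory.Bounded A) (X : A)
    (π : M ⟶ (DEquiv.singleB A).obj X), Post n M X π →
    ∃ g : F.obj M ≅ F'.obj M, g.hom ≫ F'.map π = F.map π ≫ α.hom.app X := by
  induction n with
  | zero =>
    intro M X π hP
    have : IsIso π := hP
    refine ⟨F.mapIso (asIso π) ≪≫ α.app X ≪≫ (F'.mapIso (asIso π)).symm, ?_⟩
    simp
  | succ n ih =>
    rintro M X π ⟨M', X', π', δ, γ, hP', hT⟩
    obtain ⟨g', hg'⟩ := ih M' X' π' hP'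
    obtain ⟨d, hd⟩ := (DEquiv.singleB A).map_surjective (δ ≫ π')
    have nat := α.hom.naturality d
    dsimp at nat
    rw [hd] at nat
    have comm : F.map δ ≫ g'.hom = α.hom.app X ≫ F'.map δ := by
      rw [← sub_eq_zero]
      apply mono_like F F' α h2 n M' X' π' hP' X
      rw [Preadditive.sub_comp, Category.assoc, hg', Category.assoc, ← F'.map_comp,
        ← Category.assoc, ← F.map_comp, nat, sub_self]
    have hT₁ := F.map_distinguished _ hT
    have hT₂ := F'.map_distinguished _ hT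
    obtain ⟨a, ha₁, ha₂⟩ := complete_distinguished_triangle_morphism₁ _ _ hT₁ hT₂
      (α.hom.app X) g'.hom comm
    let φ : F.mapTriangle.obj (Triangle.mk π δ γ) ⟶ F'.mapTriangle.obj (Triangle.mk π δ γ) :=
      { hom₁ := a
        hom₂ := α.hom.app X
        hom₃ := g'.hom
        comm₁ := ha₁
        comm₂ := comm
        comm₃ := ha₂ }
    have hiso : IsIso a := isIso₁_of_isIso₂₃ φ hT₁ hT₂
      (inferInstanceAs (IsIso (α.hom.app X))) (inferInstanceAs (IsIso g'.hom))
    exact ⟨@asIso _ _ _ _ a hiso, ha₁.symm⟩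


include α h2 in
theorem main (K : DerivedCategory.Bounded A) : Nonempty (F.obj K ≅ F'.obj K) := by
  obtain ⟨⟨a, ha⟩, ⟨b, hb⟩⟩ := K.property
  have : K.obj.IsGE a := ha
  have : K.obj.IsLE b := hb
  obtain ⟨C, hC1, hC2, ⟨e⟩⟩ := DerivedCategory.exists_iso_Q_obj_of_isGE_of_isLE K.obj a b
  let n : ℕ := (b - a).toNat
  have hC3 : C.IsStrictlyLE (a + n) := CochainComplex.isStrictlyLE_of_le C b (a + n) (by omega)
  let C₀ : CochainComplex A ℤ := C⟦a⟧
  have h01 : C₀.IsStrictlyGE 0 := CochainComplex.isStrictlyGE_shift C a a 0 (by omega)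
  have h02 : C₀.IsStrictlyLE (n : ℤ) := CochainComplex.isStrictlyLE_shift C (a + n) a n (by omega)
  let ι := (bdd (A := A)).ι
  let e₀ : ι.obj (K⟦a⟧) ≅ Q.obj C₀ :=
    (ι.commShiftIso a).app K ≪≫ (shiftFunctor _ a).mapIso e ≪≫ ((Q.commShiftIso a).app C).symm
  obtain ⟨X, π, hP⟩ := claimC n C₀ (K⟦a⟧) e₀
  obtain ⟨g, -⟩ := claimA F F' α h2 n _ X π hP
  exact ⟨F.mapIso (shiftShiftNeg K a).symm ≪≫ (F.commShiftIso (-a)).app (K⟦a⟧) ≪≫
    (shiftFunctor D (-a)).mapIso g ≪≫ ((F'.commShiftIso (-a)).app (K⟦a⟧)).symm ≪≫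
    F'.mapIso (shiftShiftNeg K a)⟩

end main

open CategoryTheory.Limits CategoryTheory.Pretriangulated in
/-- Let A be an abelian category, D a triangulated category, and F, F' : D^b(A) ⥤ D exact functors of
triangulated categories whose restrictions to A (objects placed in degree 0) are isomorphic. If
Hom(F X, (F Y)⟦q⟧) = 0 for all objects X, Y of A and all q < 0, then F K and F' K are isomorphic for
every object K of D^b(A); that is, F and F' are siblings. -/
theorem result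
    {A : Type u} [Category.{v} A] [Abelian A] [HasDerivedCategory.{w} A]
    {D : Type u'} [Category.{v'} D] [Preadditive D] [HasZeroObject D] [HasShift D ℤ]
    [∀ n : ℤ, (shiftFunctor D n).Additive] [Pretriangulated D] [IsTriangulated D]
    (F F' : DerivedCategory.Bounded A ⥤ D) [F.CommShift ℤ] [F.IsTriangulated]
    [F'.CommShift ℤ] [F'.IsTriangulated]
    (h1 : Nonempty (DEquiv.singleB A ⋙ F ≅ DEquiv.singleB A ⋙ F'))
    (h2 : ∀ (X Y : A) (q : ℤ), q < 0 →
      ∀ f : F.obj ((DEquiv.singleB A).obj X) ⟶ (shiftFunctor D q).obj (F.obj ((DEquiv.singleB A).obj Y)),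
        f = 0)
    (K : DerivedCategory.Bounded A) : Nonempty (F.obj K ≅ F'.obj K) := by
  obtain ⟨α⟩ := h1
  exact main F F' α h2 K

end Groth.Agent.S6704
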