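import Groth.Statements.S6705
import Groth.Agent.S6707
import Groth.Agent.Lib.Helper1.TriFF
import Groth.Agent.Lib.Helper23.Devissage

set_option autoImplicit false
universe w v u v' u'
open CategoryTheory
open DEquiv

namespace Groth.Agent.S6705

open CategoryTheory.Limits CategoryTheory.Pretriangulated DerivedCategory
open Groth.Agent.H1.FiveHom Groth.Agent.H1.TriFF

section steps

variable {C C' : Type*} [Category C] [Category C'] [HasZeroObject C] [HasZeroObject C']
  [Preadditive C] [Preadditive C'] [HasShift C ℤ] [HasShift C' ℤ]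
  [∀ n : ℤ, (shiftFunctor C n).Additive] [∀ n : ℤ, (shiftFunctor C' n).Additive]
  [Pretriangulated C] [Pretriangulated C']
  (L : C ⥤ C') [L.CommShift ℤ] [L.IsTriangulated]

lemma surj_step (T : Triangle C) (hT : T ∈ distTriang C) (M : C)
    (h₁ : Function.Surjective (fun φ : T.obj₁⟦(1 : ℤ)⟧ ⟶ M => L.map φ))
    (χ : L.obj T.obj₃ ⟶ L.obj M) (hχ : L.map T.mor₂ ≫ χ = 0) :
    ∃ ξ : T.obj₃ ⟶ M, L.map ξ = χ := by
  obtain ⟨g, hg⟩ := Triangle.yoneda_exact₃ _ (L.map_distinguished _ hT) χ hχ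
  obtain ⟨ζ, hζ⟩ := h₁ ((L.commShiftIso (1 : ℤ)).hom.app T.obj₁ ≫ g)
  refine ⟨T.mor₃ ≫ ζ, ?_⟩
  have hg' : χ = (L.map T.mor₃ ≫ (L.commShiftIso (1 : ℤ)).hom.app T.obj₁) ≫ g := hg
  have hζ' : L.map ζ = (L.commShiftIso (1 : ℤ)).hom.app T.obj₁ ≫ g := hζ
  rw [Functor.map_comp, hζ', hg', Category.assoc]

lemma inj_step (T : Triangle C) (hT : T ∈ distTriang C) (M : C)
    (h₂ : Function.Surjective (fun φ : T.obj₂⟦(1 : ℤ)⟧ ⟶ M => L.map φ))
    (h₁ : Function.Injective (fun φ : T.obj₁⟦(1 : ℤ)⟧ ⟶ M => L.map φ))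
    (ξ : T.obj₃ ⟶ M) (hξ : T.mor₂ ≫ ξ = 0) (hLξ : L.map ξ = 0) : ξ = 0 := by
  obtain ⟨ζ, rfl⟩ := Triangle.yoneda_exact₃ T hT ξ hξ
  have hLT := rot_of_distTriang _ (L.map_distinguished _ hT)
  have h0 : (L.mapTriangle.obj T).rotate.mor₂ ≫
      ((L.commShiftIso (1 : ℤ)).inv.app T.obj₁ ≫ L.map ζ) = 0 := by
    change (L.map T.mor₃ ≫ (L.commShiftIso (1 : ℤ)).hom.app T.obj₁) ≫
      ((L.commShiftIso (1 : ℤ)).inv.app T.obj₁ ≫ L.map ζ) = 0
    rw [Category.assoc, Iso.hom_inv_id_app_assoc, ← Functor.map_comp, hLξ]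
  obtain ⟨g, hg⟩ := Triangle.yoneda_exact₃ _ hLT _ h0
  obtain ⟨θ, hθ⟩ := h₂ ((L.commShiftIso (1 : ℤ)).hom.app T.obj₂ ≫ g)
  dsimp at hθ
  have hg' : (L.commShiftIso (1 : ℤ)).inv.app T.obj₁ ≫ L.map ζ =
      (-(L.map T.mor₁)⟦(1 : ℤ)⟧') ≫ g := hg
  have h3 : L.map ζ = L.map (-(T.mor₁⟦(1 : ℤ)⟧' ≫ θ)) := by
    have := (L.commShiftIso (1 : ℤ)).hom.app T.obj₁ ≫= hg'
    rw [Iso.hom_inv_id_app_assoc] at this
    rw [this, Functor.map_neg, Functor.map_comp, hθ]
    have nat := (L.commShiftIso (1 : ℤ)).hom.naturality T.mor₁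
    dsimp at nat
    rw [Preadditive.neg_comp, Preadditive.comp_neg, ← Category.assoc, ← nat, Category.assoc]
  have h4 : ζ = -(T.mor₁⟦(1 : ℤ)⟧' ≫ θ) := h₁ h3
  rw [h4, Preadditive.comp_neg, ← Category.assoc, comp_distTriang_mor_zero₃₁ _ hT, zero_comp,
    neg_zero]

end steps

section main

variable {A : Type u} [Category.{v} A] [Abelian A] [HasDerivedCategory.{w} A]

/-- the bounded property -/
abbrev bdd : ObjectProperty (DerivedCategory A) := (TStructure.t : Triangulated.TStructure (DerivedCategory A)).bounded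

instance : (DEquiv.singleB A).Full := by unfold DEquiv.singleB; infer_instance
instance : (DEquiv.singleB A).Faithful := by unfold DEquiv.singleB; infer_instance

lemma isZero_of_ι {K : DerivedCategory.Bounded A} (h : IsZero ((bdd (A := A)).ι.obj K)) : IsZero K := by
  rw [IsZero.iff_id_eq_zero]
  apply (bdd (A := A)).ι.map_injective
  rw [CategoryTheory.Functor.map_id, CategoryTheory.Functor.map_zero]
  exact (IsZero.iff_id_eq_zero _).1 h

lemma devissage_B (Pr : DerivedCategory.Bounded A → Prop)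
    (hiso : ∀ X Y : DerivedCategory.Bounded A, (X ≅ Y) → Pr X → Pr Y)
    (hzero : ∀ X : DerivedCategory.Bounded A, IsZero X → Pr X)
    (hshift : ∀ (X : DerivedCategory.Bounded A) (n : ℤ), Pr X → Pr (X⟦n⟧))
    (hext : ∀ T : Triangle (DerivedCategory.Bounded A), T ∈ distTriang _ → Pr T.obj₁ → Pr T.obj₃ →
      Pr T.obj₂)
    (hsingle : ∀ X : A, Pr ((DEquiv.singleB A).obj X))
    (K : DerivedCategory.Bounded A) : Pr K := by
  let ι := (bdd (A := A)).ι
  let Pr' : DerivedCategory A → Prop := fun X =>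
    bdd X ∧ ∀ K : DerivedCategory.Bounded A, (ι.obj K ≅ X) → Pr K
  have key : Pr' K.obj := by
    obtain ⟨⟨a, ha⟩, ⟨b, hb⟩⟩ := K.property
    refine Groth.Agent.Lib.helper23.Devissage.devissage_homology Pr' ?_ ?_ ?_ ?_
      (b - a + 1).toNat b K.obj ?_ ?_ ?_
    · rintro X Y e ⟨hX, h⟩
      exact ⟨(bdd (A := A)).prop_of_iso e hX, fun K' e' => h K' (e' ≪≫ e.symm)⟩
    · intro X hX
      refine ⟨(bdd (A := A)).prop_of_isZero hX, fun K' e' => hzero _ (isZero_of_ι (hX.of_iso e'))⟩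
    · rintro X n ⟨hX, h⟩
      refine ⟨(bdd (A := A)).le_shift n _ hX, fun K' e' => ?_⟩
      have h1 : Pr (K'⟦-n⟧) := h _ ((ι.commShiftIso (-n)).app K' ≪≫
        (shiftFunctor _ (-n)).mapIso e' ≪≫ (shiftShiftNeg X n))
      exact hiso _ _ (shiftNegShift K' n) (hshift _ n h1)
    · rintro T hT ⟨b₁, p₁⟩ ⟨b₃, p₃⟩
      refine ⟨(bdd (A := A)).ext_of_isTriangulatedClosed₂ T hT b₁ b₃, fun K₂ e => ?_⟩
      let K₁ : DerivedCategory.Bounded A := ⟨T.obj₁, b₁⟩
      let K₃ : DerivedCategory.Bounded A := ⟨T.obj₃, b₃⟩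
      let T' : Triangle (DerivedCategory.Bounded A) :=
        Triangle.mk (X := K₁) (Y := K₂) (Z := K₃)
          ((bdd (A := A)).fullyFaithfulι.preimage (T.mor₁ ≫ e.inv))
          ((bdd (A := A)).fullyFaithfulι.preimage (e.hom ≫ T.mor₂))
          ((bdd (A := A)).fullyFaithfulι.preimage (T.mor₃ ≫ (ι.commShiftIso (1 : ℤ)).inv.app K₁))
      have hT' : T' ∈ distTriang _ := by
        change ι.mapTriangle.obj T' ∈ distTriang _
        refine isomorphic_distinguished _ hT _ ?_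
        refine Triangle.isoMk _ _ (Iso.refl _) e (Iso.refl _) ?_ ?_ ?_
        · change (T.mor₁ ≫ e.inv) ≫ e.hom = 𝟙 _ ≫ T.mor₁
          simp
        · change (e.hom ≫ T.mor₂) ≫ 𝟙 _ = e.hom ≫ T.mor₂
          simp
        · change ((T.mor₃ ≫ (ι.commShiftIso (1 : ℤ)).inv.app K₁) ≫
            (ι.commShiftIso (1 : ℤ)).hom.app K₁) ≫ (𝟙 T.obj₁)⟦(1 : ℤ)⟧' = 𝟙 _ ≫ T.mor₃
          simp only [Category.assoc, Iso.inv_hom_id_app, Category.id_comp]
          have h1 : (shiftFunctor (DerivedCategory A) (1 : ℤ)).map (𝟙 T.obj₁) = 𝟙 _ :=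
            CategoryTheory.Functor.map_id _ _
          rw [h1]
          erw [Category.comp_id, Category.comp_id]
      exact hext T' hT' (p₁ K₁ (Iso.refl _)) (p₃ K₃ (Iso.refl _))
    · intro i hi
      exact isZero_of_isLE K.obj b i hi
    · intro i hi
      exact isZero_of_isGE K.obj a i (by omega)
    · intro i
      refine ⟨⟨⟨0, inferInstance⟩, ⟨0, inferInstance⟩⟩, fun K' e' => ?_⟩
      exact hiso _ _ ((bdd (A := A)).fullyFaithfulι.preimageIso
        (X := (DEquiv.singleB A).obj ((homologyFunctor A i).obj K.obj)) (Y := K') e'.symm) (hsingle _)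
  exact key.2 K (Iso.refl _)


lemma aux3 {C : Type*} [Category C] [HasShift C ℤ] {X W : C} {Y : C} (d : X ⟶ Y⟦(1 : ℤ)⟧)
    (i : W ≅ Y⟦(1 : ℤ)⟧) :
    ((d ≫ i.inv) ≫ i.hom) ≫ (𝟙 Y)⟦(1 : ℤ)⟧' = 𝟙 X ≫ d := by simp

/-- connecting map in `D^b`. -/
noncomputable def δB (S : ShortComplex A) (hS : S.ShortExact) :
    (DEquiv.singleB A).obj S.X₃ ⟶ ((DEquiv.singleB A).obj S.X₁)⟦(1 : ℤ)⟧ :=
  (bdd (A := A)).fullyFaithfulι.preimage
    (hS.singleδ ≫ ((bdd (A := A)).ι.commShiftIso (1 : ℤ)).inv.app ((DEquiv.singleB A).obj S.X₁))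

/-- the triangle in `D^b` attached to a short exact sequence. -/
noncomputable def triB (S : ShortComplex A) (hS : S.ShortExact) :
    Triangle (DerivedCategory.Bounded A) :=
  Triangle.mk ((DEquiv.singleB A).map S.f) ((DEquiv.singleB A).map S.g) (δB S hS)

lemma triB_dist (S : ShortComplex A) (hS : S.ShortExact) : triB S hS ∈ distTriang _ := by
  change (bdd (A := A)).ι.mapTriangle.obj (triB S hS) ∈ distTriang _
  refine isomorphic_distinguished _ hS.singleTriangle_distinguished _ ?_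
  refine Triangle.isoMk _ _ (Iso.refl _) (Iso.refl _) (Iso.refl _) ?_ ?_ ?_
  · change (DerivedCategory.singleFunctor A 0).map S.f ≫ 𝟙 _ = 𝟙 _ ≫ (DerivedCategory.singleFunctor A 0).map S.f
    simp
  · change (DerivedCategory.singleFunctor A 0).map S.g ≫ 𝟙 _ = 𝟙 _ ≫ (DerivedCategory.singleFunctor A 0).map S.g
    simp
  · exact aux3 hS.singleδ
      (((bdd (A := A)).ι.commShiftIso (1 : ℤ)).app ((DEquiv.singleB A).obj S.X₁))

/-- effaceability in `D^b`. -/
lemma effaceB (X Y : A) (m : ℤ) (hm : 0 < m)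
    (ξ : (DEquiv.singleB A).obj X ⟶ ((DEquiv.singleB A).obj Y)⟦m⟧) :
    ∃ (X' : A) (p : X' ⟶ X), Epi p ∧ (DEquiv.singleB A).map p ≫ ξ = 0 := by
  let ι := (bdd (A := A)).ι
  have h1 : (((DerivedCategory.singleFunctor A 0).obj Y)⟦m⟧).IsLE (-m) :=
    TStructure.t.isLE_shift _ 0 m (-m) (by omega)
  have h2 : (((DerivedCategory.singleFunctor A 0).obj Y)⟦m⟧).IsLE (0 - 1) :=
    TStructure.t.isLE_of_le _ (-m) (0 - 1) (by omega)
  obtain ⟨X', p, hp, h⟩ := Groth.Agent.S6707.efface (M := X)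
    (Y := ((DerivedCategory.singleFunctor A 0).obj Y)⟦m⟧) 0
    (ι.map ξ ≫ (ι.commShiftIso m).hom.app ((DEquiv.singleB A).obj Y))
  refine ⟨X', p, hp, ?_⟩
  apply ι.map_injective
  rw [CategoryTheory.Functor.map_zero, CategoryTheory.Functor.map_comp]
  have h' : (ι.map ((DEquiv.singleB A).map p) ≫ ι.map ξ) ≫
      (ι.commShiftIso m).hom.app ((DEquiv.singleB A).obj Y) = 0 := by
    rw [Category.assoc]; exact h
  exact (cancel_mono ((ι.commShiftIso m).hom.app ((DEquiv.singleB A).obj Y))).1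
    (h'.trans zero_comp.symm)

lemma subsingleton_neg (X Y : A) (n : ℤ) (hn : n < 0) :
    Subsingleton ((DEquiv.singleB A).obj X ⟶ ((DEquiv.singleB A).obj Y)⟦n⟧) := by
  let ι := (bdd (A := A)).ι
  have h1 : (((DerivedCategory.singleFunctor A 0).obj Y)⟦n⟧).IsGE (-n) :=
    TStructure.t.isGE_shift _ 0 n (-n) (by omega)
  refine ⟨fun f g => ?_⟩
  apply ι.map_injective
  have hz : ∀ f : (DEquiv.singleB A).obj X ⟶ ((DEquiv.singleB A).obj Y)⟦n⟧, ι.map f = 0 := by
    intro f
    have : ι.map f ≫ (ι.commShiftIso n).hom.app ((DEquiv.singleB A).obj Y) = 0 :=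
      TStructure.t.zero_of_isLE_of_isGE (X := (DerivedCategory.singleFunctor A 0).obj X)
        (Y := ((DerivedCategory.singleFunctor A 0).obj Y)⟦n⟧) _ 0 (-n) (by omega) inferInstance h1
    exact (cancel_mono ((ι.commShiftIso n).hom.app ((DEquiv.singleB A).obj Y))).1
      (this.trans zero_comp.symm)
  rw [hz f, hz g]


variable {D : Type u'} [Category.{v'} D] [Preadditive D] [HasZeroObject D] [HasShift D ℤ]
    [∀ n : ℤ, (shiftFunctor D n).Additive] [Pretriangulated D] [IsTriangulated D]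
    (F F' : DerivedCategory.Bounded A ⥤ D) [F.CommShift ℤ] [F.IsTriangulated]
    [F'.CommShift ℤ] [F'.IsTriangulated]
    (α : DEquiv.singleB A ⋙ F ≅ DEquiv.singleB A ⋙ F')
    (h2 : ∀ K : DerivedCategory.Bounded A, Nonempty (F.obj K ≅ F'.obj K))
    [F.Full] [F.Faithful]

include h2 in
lemma bf_of_subsingleton (K L : DerivedCategory.Bounded A) (h : Subsingleton (K ⟶ L)) :
    BF F' K L := by
  obtain ⟨eK⟩ := h2 K
  obtain ⟨eL⟩ := h2 L
  have h1 : Subsingleton (F.obj K ⟶ F.obj L) :=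
    ((Functor.FullyFaithful.ofFullyFaithful F).homEquiv (X := K) (Y := L)).symm.subsingleton
  have h3 : Subsingleton (F'.obj K ⟶ F'.obj L) :=
    ((eK.homFromEquiv (Z := F.obj L)).trans (eL.homToEquiv (Z := F'.obj K))).symm.subsingleton
  exact ⟨fun a b _ => Subsingleton.elim _ _, fun χ => ⟨0, Subsingleton.elim _ _⟩⟩

include α in
lemma bf_zero (X Y : A) : BF F' ((DEquiv.singleB A).obj X) ((DEquiv.singleB A).obj Y) := by
  have nat : ∀ g : X ⟶ Y, F'.map ((DEquiv.singleB A).map g) =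
      α.inv.app X ≫ F.map ((DEquiv.singleB A).map g) ≫ α.hom.app Y := by
    intro g
    have := α.hom.naturality g
    dsimp at this
    rw [this, Iso.inv_hom_id_app_assoc]
  constructor
  · intro a b hab
    obtain ⟨a, rfl⟩ := (DEquiv.singleB A).map_surjective a
    obtain ⟨b, rfl⟩ := (DEquiv.singleB A).map_surjective b
    dsimp at hab
    rw [nat, nat] at hab
    have h1 : F.map ((DEquiv.singleB A).map a) = F.map ((DEquiv.singleB A).map b) := by
      have := α.hom.app X ≫= hab =≫ α.inv.app Y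
      simpa using this
    rw [F.map_injective h1]
  · intro χ
    obtain ⟨g, hg⟩ := F.map_surjective (α.hom.app X ≫ χ ≫ α.inv.app Y)
    obtain ⟨g, rfl⟩ := (DEquiv.singleB A).map_surjective g
    refine ⟨(DEquiv.singleB A).map g, ?_⟩
    dsimp
    rw [nat, hg]
    simp

/-- shifting the base hypothesis by one. -/
lemma bf_shift_one (n : ℕ) (X Y : A)
    (h : BF F' ((DEquiv.singleB A).obj X) (((DEquiv.singleB A).obj Y)⟦(n : ℤ)⟧)) :
    BF F' (((DEquiv.singleB A).obj X)⟦(1 : ℤ)⟧) (((DEquiv.singleB A).obj Y)⟦((n + 1 : ℕ) : ℤ)⟧) :=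
  BF.of_iso_right ((shiftFunctorAdd' (DerivedCategory.Bounded A) (n : ℤ) 1 ((n + 1 : ℕ) : ℤ)
    (by push_cast; rfl)).app ((DEquiv.singleB A).obj Y)).symm (BF.shift 1 h)

include α h2 in
lemma bf_succ (n : ℕ)
    (ih : ∀ X Y : A, BF F' ((DEquiv.singleB A).obj X) (((DEquiv.singleB A).obj Y)⟦(n : ℤ)⟧))
    (X Y : A) :
    BF F' ((DEquiv.singleB A).obj X) (((DEquiv.singleB A).obj Y)⟦((n + 1 : ℕ) : ℤ)⟧) := by
  have hpos : (0 : ℤ) < ((n + 1 : ℕ) : ℤ) := by positivity
  -- the short exact sequence attached to an epi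
  have key : ∀ (X' : A) (p : X' ⟶ X) (_ : Epi p), ∃ (S : ShortComplex A) (hS : S.ShortExact)
      (_ : S.X₂ = X') (_ : S.X₃ = X), True := fun X' p _ =>
    ⟨ShortComplex.mk (kernel.ι p) p (kernel.condition p),
      { exact := ShortComplex.exact_kernel p }, rfl, rfl, trivial⟩
  constructor
  · intro ξ₁ ξ₂ h12
    dsimp at h12
    suffices H : ∀ ξ : (DEquiv.singleB A).obj X ⟶ ((DEquiv.singleB A).obj Y)⟦((n + 1 : ℕ) : ℤ)⟧,
        F'.map ξ = 0 → ξ = 0 by
      have := H (ξ₁ - ξ₂) (by rw [Functor.map_sub, h12, sub_self])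
      exact sub_eq_zero.1 this
    intro ξ hξ
    obtain ⟨X', p, hp, hpξ⟩ := effaceB X Y _ hpos ξ
    let S : ShortComplex A := ShortComplex.mk (kernel.ι p) p (kernel.condition p)
    have hS : S.ShortExact := { exact := ShortComplex.exact_kernel p }
    exact inj_step F' (triB S hS) (triB_dist S hS) _
      (bf_shift_one F' n X' Y (ih X' Y)).2 (bf_shift_one F' n (kernel p) Y (ih _ Y)).1 ξ hpξ hξ
  · intro χ
    obtain ⟨β⟩ := h2 (((DEquiv.singleB A).obj Y)⟦((n + 1 : ℕ) : ℤ)⟧)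
    obtain ⟨ξ'', hξ''⟩ := F.map_surjective (α.hom.app X ≫ χ ≫ β.inv)
    obtain ⟨X', p, hp, hpξ⟩ := effaceB X Y _ hpos ξ''
    let S : ShortComplex A := ShortComplex.mk (kernel.ι p) p (kernel.condition p)
    have hS : S.ShortExact := { exact := ShortComplex.exact_kernel p }
    have hχ : F'.map ((DEquiv.singleB A).map p) ≫ χ = 0 := by
      have nat := α.hom.naturality p
      dsimp at nat
      have h1 : F'.map ((DEquiv.singleB A).map p) =
          α.inv.app X' ≫ F.map ((DEquiv.singleB A).map p) ≫ α.hom.app X := by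
        rw [nat, Iso.inv_hom_id_app_assoc]
      have h3 : α.hom.app X ≫ χ = F.map ξ'' ≫ β.hom := by
        rw [hξ'']; simp
      rw [h1, Category.assoc, Category.assoc, h3, ← Category.assoc (F.map _), ← Functor.map_comp,
        hpξ, Functor.map_zero, zero_comp, comp_zero]
    exact surj_step F' (triB S hS) (triB_dist S hS) _
      (bf_shift_one F' n (kernel p) Y (ih _ Y)).2 χ hχ

include α h2 in
lemma bf_nat (n : ℕ) : ∀ X Y : A,
    BF F' ((DEquiv.singleB A).obj X) (((DEquiv.singleB A).obj Y)⟦(n : ℤ)⟧) := by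
  induction n with
  | zero =>
    intro X Y
    exact BF.of_iso_right ((shiftFunctorZero (DerivedCategory.Bounded A) ℤ).app _).symm
      (bf_zero F F' α X Y)
  | succ n ih => exact bf_succ F F' α h2 n ih

include α h2 in
lemma bf_int (n : ℤ) (X Y : A) :
    BF F' ((DEquiv.singleB A).obj X) (((DEquiv.singleB A).obj Y)⟦n⟧) := by
  by_cases hn : n < 0
  · exact bf_of_subsingleton F F' h2 _ _ (subsingleton_neg X Y n hn)
  · obtain ⟨k, rfl⟩ := Int.eq_ofNat_of_zero_le (by omega : 0 ≤ n)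
    exact bf_nat F F' α h2 k X Y

include α h2 in
theorem main : F'.Full ∧ F'.Faithful := by
  have h1 : ∀ (L : DerivedCategory.Bounded A) (X : A), FF F' ((DEquiv.singleB A).obj X) L := by
    intro L
    refine devissage_B (fun L => ∀ X : A, FF F' ((DEquiv.singleB A).obj X) L)
      (fun L L' e h X => (h X).of_iso_right e)
      (fun L hL X => FF.of_isZero_right hL)
      (fun L n h X => (h X).shift_right n)
      (fun T hT h₁ h₃ X => FF.triangle_right T hT (h₁ X) (h₃ X))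
      (fun Y X n => bf_int F F' α h2 n X Y) L
  have h3 : ∀ (K L : DerivedCategory.Bounded A), FF F' K L := by
    intro K
    refine devissage_B (fun K => ∀ L, FF F' K L)
      (fun K K' e h L => (h L).of_iso_left e)
      (fun K hK L => FF.of_isZero_left hK)
      (fun K n h L => (h L).shift_left n)
      (fun T hT h₁ h₃ L => FF.triangle_left T hT (h₁ L) (h₃ L))
      (fun X L => h1 L X) K
  exact ⟨⟨fun {K L} f => (h3 K L).bf.2 f⟩, ⟨fun {K L} a b hab => (h3 K L).bf.1 hab⟩⟩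

end main

open CategoryTheory.Limits CategoryTheory.Pretriangulated in
/-- Let A be an abelian category, D a triangulated category, and F, F' : D^b(A) ⥤ D exact functors of
triangulated categories which are siblings: their restrictions to A (objects in degree 0) are
isomorphic functors and F K ≅ F' K for every K. If F is fully faithful, then F' is fully faithful.
(That essential surjectivity likewise passes from F to F' is immediate from the second sibling
condition and is not stated.) -/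
theorem result
    {A : Type u} [Category.{v} A] [Abelian A] [HasDerivedCategory.{w} A]
    {D : Type u'} [Category.{v'} D] [Preadditive D] [HasZeroObject D] [HasShift D ℤ]
    [∀ n : ℤ, (shiftFunctor D n).Additive] [Pretriangulated D] [IsTriangulated D]
    (F F' : DerivedCategory.Bounded A ⥤ D) [F.CommShift ℤ] [F.IsTriangulated]
    [F'.CommShift ℤ] [F'.IsTriangulated]
    (h1 : Nonempty (DEquiv.singleB A ⋙ F ≅ DEquiv.singleB A ⋙ F'))
    (h2 : ∀ K : DerivedCategory.Bounded A, Nonempty (F.obj K ≅ F'.obj K))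
    [F.Full] [F.Faithful] : F'.Full ∧ F'.Faithful := by
  obtain ⟨α⟩ := h1
  exact main F F' α h2

end Groth.Agent.S6705
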