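import Groth.Statements.S6706
import Groth.Agent.Lib.Helper1.SibE

set_option autoImplicit false
universe w v u v' u'
open CategoryTheory
open DEquiv

namespace Groth.Agent.S6706

open CategoryTheory.Limits CategoryTheory.Pretriangulated DerivedCategory Groth.Agent.H1.Sib

section main

variable {A : Type u} [Category.{v} A] [Abelian A] [HasDerivedCategory.{w} A]
  {D : Type u'} [Category.{v'} D] [Preadditive D] [HasZeroObject D] [HasShift D ℤ]
  [∀ n : ℤ, (shiftFunctor D n).Additive] [Pretriangulated D] [IsTriangulated D]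
  (F F' : DerivedCategory.Bounded A ⥤ D) [F.CommShift ℤ] [F.IsTriangulated]
  [F'.CommShift ℤ] [F'.IsTriangulated]

lemma hz_of (h2 : ∀ K : DerivedCategory.Bounded A, Nonempty (F.obj K ≅ F'.obj K))
    [F.Full] [F.Faithful] : HZ F F' := by
  intro K L h ψ
  obtain ⟨e⟩ := h2 L
  have h0 : ψ ≫ e.inv = 0 := by
    obtain ⟨φ, hφ⟩ := F.map_surjective (ψ ≫ e.inv)
    rw [← hφ, h φ, F.map_zero]
  have h1 := h0 =≫ e.hom
  simpa using h1

lemma base (α : DEquiv.singleB A ⋙ F ≅ DEquiv.singleB A ⋙ F')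
    (h2 : ∀ K : DerivedCategory.Bounded A, Nonempty (F.obj K ≅ F'.obj K)) :
    ∃ c₀ : ∀ K : DerivedCategory.Bounded A, F.obj K ≅ F'.obj K, NatOn F F' (InAB 0 0) c₀ := by
  classical
  let M : ∀ K : DerivedCategory.Bounded A, InAB 0 0 K → A :=
    fun K h => (exists_iso_singleB K h).choose
  let θ : ∀ (K : DerivedCategory.Bounded A) (h : InAB 0 0 K),
      K ≅ (DEquiv.singleB A).obj (M K h) :=
    fun K h => (exists_iso_singleB K h).choose_spec.some
  let c₀ : ∀ K : DerivedCategory.Bounded A, F.obj K ≅ F'.obj K := fun K =>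
    if h : InAB 0 0 K then F.mapIso (θ K h) ≪≫ α.app (M K h) ≪≫ (F'.mapIso (θ K h)).symm
    else (h2 K).some
  refine ⟨c₀, ?_⟩
  intro K L hK hL f
  simp only [c₀, dif_pos hK, dif_pos hL]
  obtain ⟨d, hd⟩ := (DEquiv.singleB A).map_surjective ((θ K hK).inv ≫ f ≫ (θ L hL).hom)
  have nat : F.map ((DEquiv.singleB A).map d) ≫ α.hom.app (M L hL) =
      α.hom.app (M K hK) ≫ F'.map ((DEquiv.singleB A).map d) := α.hom.naturality d
  rw [hd] at nat
  have e1 : F'.map (θ K hK).inv ≫ F'.map f =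
      F'.map ((θ K hK).inv ≫ f ≫ (θ L hL).hom) ≫ F'.map (θ L hL).inv := by
    rw [← F'.map_comp, ← F'.map_comp]
    simp
  have e2 : F.map f ≫ F.map (θ L hL).hom =
      F.map (θ K hK).hom ≫ F.map ((θ K hK).inv ≫ f ≫ (θ L hL).hom) := by
    rw [← F.map_comp, ← F.map_comp]
    simp
  calc (F.mapIso (θ K hK) ≪≫ α.app (M K hK) ≪≫ (F'.mapIso (θ K hK)).symm).hom ≫ F'.map f
      = F.map (θ K hK).hom ≫ α.hom.app (M K hK) ≫ F'.map (θ K hK).inv ≫ F'.map f := by
        simp
    _ = F.map (θ K hK).hom ≫ (α.hom.app (M K hK) ≫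
          F'.map ((θ K hK).inv ≫ f ≫ (θ L hL).hom)) ≫ F'.map (θ L hL).inv := by
        rw [e1]; simp only [Category.assoc]
    _ = (F.map (θ K hK).hom ≫ F.map ((θ K hK).inv ≫ f ≫ (θ L hL).hom)) ≫
          α.hom.app (M L hL) ≫ F'.map (θ L hL).inv := by
        rw [← nat]; simp only [Category.assoc]
    _ = F.map f ≫ (F.mapIso (θ L hL) ≪≫ α.app (M L hL) ≪≫ (F'.mapIso (θ L hL)).symm).hom := by
        rw [← e2]; simp

theorem main (hneg : ∀ X : A, ∃ (N : A) (p : N ⟶ X), Epi p ∧ ∀ f : X ⟶ N, f = 0)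
    (α : DEquiv.singleB A ⋙ F ≅ DEquiv.singleB A ⋙ F')
    (h2 : ∀ K : DerivedCategory.Bounded A, Nonempty (F.obj K ≅ F'.obj K))
    [F.Full] [F.Faithful] : Nonempty (F ≅ F') := by
  have hz := hz_of F F' h2
  obtain ⟨c₀, hc₀⟩ := base F F' α h2
  obtain ⟨c1, hc1, -⟩ := ext_a F F' hneg hz 0 c₀ hc₀
  obtain ⟨c, hc, -⟩ := extend F F' (fun (k : ℕ) K => GE (-(k : ℤ)) K)
    (fun k K hK => by
      have : K.obj.IsGE (-(k : ℤ)) := hK
      exact TStructure.t.isGE_of_ge _ (-((k + 1 : ℕ) : ℤ)) (-(k : ℤ)) (by push_cast; omega))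
    (fun k c hc => by
      have h := step_a F F' hneg hz (-(k : ℤ)) c hc
      have e : -((k + 1 : ℕ) : ℤ) = -(k : ℤ) - 1 := by push_cast; ring
      rw [e]
      exact h) c1 (by simpa using hc1)
  have all : ∀ K : DerivedCategory.Bounded A, ∃ k : ℕ, GE (-(k : ℤ)) K := by
    intro K
    obtain ⟨⟨a, ha⟩, -⟩ := K.property
    have : K.obj.IsGE a := ha
    exact ⟨(-a).toNat, TStructure.t.isGE_of_ge _ (-((-a).toNat : ℤ)) a (by omega)⟩
  exact ⟨NatIso.ofComponents c (fun {K L} f => (hc (all K) (all L) f).symm)⟩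

end main

open CategoryTheory.Limits CategoryTheory.Pretriangulated in
/-- Let A be an abelian category with enough negative objects, meaning that every object X admits an
epimorphism N ⟶ X from an object N with Hom(X, N) = 0. Let D be a triangulated category and F, F' :
D^b(A) ⥤ D exact functors of triangulated categories which are siblings (their restrictions to A in
degree 0 are isomorphic functors, and F K ≅ F' K for every K). If F is fully faithful, then F and F'
are isomorphic functors. -/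
theorem result
    {A : Type u} [Category.{v} A] [Abelian A] [HasDerivedCategory.{w} A]
    (hneg : ∀ X : A, ∃ (N : A) (p : N ⟶ X), Epi p ∧ ∀ f : X ⟶ N, f = 0)
    {D : Type u'} [Category.{v'} D] [Preadditive D] [HasZeroObject D] [HasShift D ℤ]
    [∀ n : ℤ, (shiftFunctor D n).Additive] [Pretriangulated D] [IsTriangulated D]
    (F F' : DerivedCategory.Bounded A ⥤ D) [F.CommShift ℤ] [F.IsTriangulated]
    [F'.CommShift ℤ] [F'.IsTriangulated]
    (h1 : Nonempty (DEquiv.singleB A ⋙ F ≅ DEquiv.singleB A ⋙ F'))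
    (h2 : ∀ K : DerivedCategory.Bounded A, Nonempty (F.obj K ≅ F'.obj K))
    [F.Full] [F.Faithful] : Nonempty (F ≅ F') := by
  obtain ⟨α⟩ := h1
  exact main F F' hneg α h2

end Groth.Agent.S6706
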