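import Groth.Statements.S6708


set_option autoImplicit false
universe v u
open CategoryTheory
open DEquiv

namespace Groth.Agent.S6708

open CategoryTheory.Limits CategoryTheory.Pretriangulated in
/-- Let D be a pretriangulated category, D' ⊆ D a full triangulated subcategory (given as a property of
objects that is triangulated in Mathlib's sense) and X an object of D. Then the category of arrows E
⟶ X with E in D' is filtered. -/
theorem result
    {D : Type u} [Category.{v} D] [Preadditive D] [HasZeroObject D] [HasShift D ℤ]
    [∀ n : ℤ, (shiftFunctor D n).Additive] [Pretriangulated D]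
    (P : ObjectProperty D) [P.IsTriangulated] (X : D) :
    IsFiltered (CostructuredArrow P.ι X) := by
  have hne : Nonempty (CostructuredArrow P.ι X) := by
    obtain ⟨Z, hZ, hPZ⟩ := P.exists_prop_of_containsZero
    exact ⟨CostructuredArrow.mk (Y := ⟨Z, hPZ⟩) (0 : P.ι.obj ⟨Z, hPZ⟩ ⟶ X)⟩
  have hfe : IsFilteredOrEmpty (CostructuredArrow P.ι X) := by
    refine ⟨?_, ?_⟩
    · intro A B
      have hT := binaryBiproductTriangle_distinguished A.left.obj B.left.obj
      obtain ⟨Y, hY, ⟨e⟩⟩ := P.ext_of_isTriangulatedClosed₂' _ hT A.left.property B.left.property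
      let Cc : CostructuredArrow P.ι X :=
        CostructuredArrow.mk (Y := ⟨Y, hY⟩) (e.inv ≫ biprod.desc A.hom B.hom)
      refine ⟨Cc, CostructuredArrow.homMk (ObjectProperty.homMk (biprod.inl ≫ e.hom)) ?_,
        CostructuredArrow.homMk (ObjectProperty.homMk (biprod.inr ≫ e.hom)) ?_, trivial⟩
      · simp [Cc]
      · simp [Cc]
    · intro A B u v
      obtain ⟨Z, hZ, b, c, hT⟩ := P.distinguished_cocone_triangle (u.left.hom - v.left.hom)
        A.left.property B.left.property
      have h0 : (u.left.hom - v.left.hom) ≫ B.hom = 0 := by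
        rw [Preadditive.sub_comp]
        have h1 := CostructuredArrow.w u
        have h2 := CostructuredArrow.w v
        simp only [ObjectProperty.ι_map] at h1 h2
        rw [h1, h2, sub_self]
      obtain ⟨w, hw⟩ := Triangle.yoneda_exact₂ _ hT B.hom h0
      let Z' : P.FullSubcategory := ⟨Z, hZ⟩
      obtain ⟨w', hww⟩ : ∃ w' : P.ι.obj Z' ⟶ X, w' = w := ⟨w, rfl⟩
      refine ⟨CostructuredArrow.mk (Y := Z') w',
        CostructuredArrow.homMk (ObjectProperty.homMk b) ?_, ?_⟩
      · simp only [CostructuredArrow.mk_hom_eq_self, ObjectProperty.ι_map, ObjectProperty.homMk_hom, CostructuredArrow.mk_left]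
        rw [hww]; exact hw.symm
      · have h3 : (u.left.hom - v.left.hom) ≫ b = 0 := comp_distTriang_mor_zero₁₂ _ hT
        rw [Preadditive.sub_comp, sub_eq_zero] at h3
        ext
        simpa using h3
  exact { }

end Groth.Agent.S6708
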