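import Groth.Statements.S6710
import Mathlib

set_option autoImplicit false
universe u v
open CategoryTheory
open FunMor

namespace Groth.Agent.S6710

section helpers

section helpers
 universe u' v' w'

lemma exists_fg_cyclic_quot {R : Type u'} {M : Type v'} [CommRing R] [AddCommGroup M] [Module R M]
    [Module.Finite R M] [Nontrivial M] :
    ∃ (P : Submodule R M) (g : M), P.FG ∧ P ≠ ⊤ ∧ P ⊔ Submodule.span R {g} = ⊤ := by
  classical
  obtain ⟨s, hs⟩ := (Module.Finite.fg_top : (⊤ : Submodule R M).FG)
  have key : ∀ (s : Finset M) (P0 : Submodule R M), P0.FG → P0 ≠ ⊤ →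
      P0 ⊔ Submodule.span R (s : Set M) = ⊤ →
      ∃ (P : Submodule R M) (g : M), P.FG ∧ P ≠ ⊤ ∧ P ⊔ Submodule.span R {g} = ⊤ := by
    intro s
    induction s using Finset.induction_on with
    | empty =>
      intro P0 _ hne h
      simp at h
      exact absurd h hne
    | insert a s' ha ih =>
      intro P0 hfg hne h
      by_cases hc : P0 ⊔ Submodule.span R {a} = ⊤
      · exact ⟨P0, a, hfg, hne, hc⟩
      · apply ih (P0 ⊔ Submodule.span R {a}) (hfg.sup (Submodule.fg_span_singleton a)) hc
        rw [sup_assoc, ← Submodule.span_union]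
        rw [← h]
        congr 2
        ext z
        simp
  exact key s ⊥ Submodule.fg_bot bot_ne_top (by simpa using hs)

lemma core {R : Type u'} {M : Type v'} {N : Type w'} [CommRing R] [IsLocalRing R]
    [AddCommGroup M] [Module R M]
    [Module.FinitePresentation R M] [Nontrivial M]
    [AddCommGroup N] [Module R N] (y : N) (hy : y ≠ 0)
    (hrad : IsLocalRing.maximalIdeal R ≤ (Submodule.span R {y}).annihilator.radical) :
    ∃ φ : M →ₗ[R] N, φ ≠ 0 := by
  classical
  obtain ⟨P, g, hPfg, hPne, hPg⟩ := exists_fg_cyclic_quot (R := R) (M := M)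
  let π : M →ₗ[R] M ⧸ P := P.mkQ
  let ρ : R →ₗ[R] M ⧸ P := LinearMap.toSpanSingleton R _ (π g)
  have hρ : Function.Surjective ρ := by
    intro q
    obtain ⟨m, rfl⟩ := P.mkQ_surjective q
    have hm : m ∈ P ⊔ Submodule.span R {g} := hPg ▸ Submodule.mem_top
    obtain ⟨p, hp, z, hz, rfl⟩ := Submodule.mem_sup.mp hm
    obtain ⟨r, rfl⟩ := Submodule.mem_span_singleton.mp hz
    refine ⟨r, ?_⟩
    have hp0 : P.mkQ p = 0 := (Submodule.Quotient.mk_eq_zero P).mpr hp
    simp only [ρ, π, LinearMap.toSpanSingleton_apply, map_add, map_smul]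
    rw [hp0, zero_add]
  have hfpQ : Module.FinitePresentation R (M ⧸ P) :=
    Module.finitePresentation_of_surjective π P.mkQ_surjective (by rwa [Submodule.ker_mkQ])
  let c : Ideal R := LinearMap.ker ρ
  have hcfg : c.FG := Module.FinitePresentation.fg_ker ρ hρ
  have hcne : c ≠ ⊤ := by
    intro htop
    apply hPne
    rw [eq_top_iff]
    intro m _
    have h1 : (1 : R) ∈ c := htop ▸ Submodule.mem_top
    have h2 : ρ 1 = 0 := h1
    have h3 : π g = 0 := by simpa [ρ] using h2
    obtain ⟨r, hr⟩ := hρ (π m)
    have h4 : π m = 0 := by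
      rw [← hr]
      simp only [ρ, LinearMap.toSpanSingleton_apply, h3, smul_zero]
    exact (Submodule.Quotient.mk_eq_zero P).mp h4
  have hcm : c ≤ IsLocalRing.maximalIdeal R := IsLocalRing.le_maximalIdeal hcne
  let J : Ideal R := (Submodule.span R {y}).annihilator
  have hex : ∃ k, c ^ k ≤ J := Ideal.exists_pow_le_of_le_radical_of_fg (hcm.trans hrad) hcfg
  let k0 := Nat.find hex
  have hk0 : c ^ k0 ≤ J := Nat.find_spec hex
  have hk0pos : k0 ≠ 0 := by
    intro h0
    rw [h0, pow_zero] at hk0
    have h1 : (1 : R) ∈ J := hk0 (by simp)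
    rw [Submodule.mem_annihilator_span_singleton, one_smul] at h1
    exact hy h1
  obtain ⟨z, hzc, hzJ⟩ : ∃ z ∈ c ^ (k0 - 1), z ∉ J := by
    by_contra hcon
    push Not at hcon
    exact Nat.find_min hex (Nat.sub_one_lt hk0pos) hcon
  let ψ : R →ₗ[R] N := LinearMap.toSpanSingleton R N (z • y)
  have hψ : c ≤ LinearMap.ker ψ := by
    intro r hr
    have h1 : r * z ∈ c ^ k0 := by
      have : k0 = 1 + (k0 - 1) := by omega
      rw [this, pow_add, pow_one]
      exact Ideal.mul_mem_mul hr hzc
    have h2 : r * z ∈ J := hk0 h1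
    rw [Submodule.mem_annihilator_span_singleton] at h2
    show ψ r = 0
    simp only [ψ, LinearMap.toSpanSingleton_apply]
    rw [smul_smul]
    exact h2
  let e : (R ⧸ c) ≃ₗ[R] (M ⧸ P) := ρ.quotKerEquivOfSurjective hρ
  let φ : M →ₗ[R] N := (Submodule.liftQ c ψ hψ) ∘ₗ e.symm.toLinearMap ∘ₗ π
  refine ⟨φ, ?_⟩
  intro h0
  have h1 : e (Submodule.Quotient.mk (1 : R)) = π g :=
    (LinearMap.quotKerEquivOfSurjective_apply_mk ρ hρ 1).trans (by simp [ρ])
  have h2 : e.symm (π g) = Submodule.Quotient.mk (1 : R) := by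
    rw [← h1, e.symm_apply_apply]
  have h3 : φ g = z • y := by
    simp only [φ, LinearMap.comp_apply, LinearEquiv.coe_coe, h2]
    rw [Submodule.liftQ_apply]
    simp [ψ]
  rw [h0] at h3
  apply hzJ
  rw [Submodule.mem_annihilator_span_singleton]
  exact h3.symm

end helpers


end helpers

/-- The statement for an affine scheme written in terms of modules: let A be a commutative ring, M a
finitely presented A-module and N a nonzero A-module with Supp(N) ⊆ Supp(M). Then Hom_A(M, N) is
nonzero. -/
theorem result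
    (A : Type u) [CommRing A] (M : Type v) [AddCommGroup M] [Module A M]
    [Module.FinitePresentation A M] (N : Type v) [AddCommGroup N] [Module A N] [Nontrivial N]
    (h : Module.support A N ⊆ Module.support A M) : Nontrivial (M →ₗ[A] N) := by
  classical
  obtain ⟨x, hx⟩ := exists_ne (0 : N)
  let I : Ideal A := (Submodule.span A {x}).annihilator
  have hI : I ≠ ⊤ := by
    intro htop
    have h1 : (1 : A) ∈ I := htop ▸ Submodule.mem_top
    rw [Submodule.mem_annihilator_span_singleton, one_smul] at h1
    exact hx h1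
  obtain ⟨p, hp⟩ := Ideal.nonempty_minimalPrimes hI
  have hpp : p.IsPrime := hp.1.1
  let R := Localization.AtPrime p
  let Mp := LocalizedModule p.primeCompl M
  let Np := LocalizedModule p.primeCompl N
  let fN : N →ₗ[A] Np := LocalizedModule.mkLinearMap p.primeCompl N
  let fM : M →ₗ[A] Mp := LocalizedModule.mkLinearMap p.primeCompl M
  let y : Np := fN x
  have hy : y ≠ 0 := by
    intro h0
    obtain ⟨⟨s, hs⟩, hsx⟩ := (IsLocalizedModule.eq_zero_iff p.primeCompl fN).mp h0
    have h1 : s ∈ I := by
      rw [Submodule.mem_annihilator_span_singleton]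
      exact hsx
    exact hs (hp.1.2 h1)
  have hpN : (⟨p, hpp⟩ : PrimeSpectrum A) ∈ Module.support A N :=
    Module.mem_support_iff_exists_annihilator.mpr ⟨x, hp.1.2⟩
  have hpM := h hpN
  have hnt : Nontrivial Mp := Module.mem_support_iff.mp hpM
  have hfp : Module.FinitePresentation R Mp := inferInstance
  have hrad : IsLocalRing.maximalIdeal R ≤ ((Submodule.span R {y}).annihilator).radical := by
    rw [← IsLocalization.AtPrime.map_eq_maximalIdeal p R,
      ← IsLocalization.AtPrime.radical_map_of_mem_minimalPrimes R p I hp]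
    apply Ideal.radical_mono
    rw [Ideal.map_le_iff_le_comap]
    intro a ha
    rw [Ideal.mem_comap, Submodule.mem_annihilator_span_singleton]
    have h1 : a • x = 0 := (Submodule.mem_annihilator_span_singleton _ _).mp ha
    rw [algebraMap_smul]
    show a • fN x = 0
    rw [← map_smul, h1, map_zero]
  obtain ⟨φ, hφ⟩ := core (R := R) (M := Mp) (N := Np) y hy hrad
  let g : M →ₗ[A] Np := (φ.restrictScalars A) ∘ₗ fM
  have hg : g ≠ 0 := by
    intro h0
    apply hφ
    apply LinearMap.ext
    intro m
    induction m using LocalizedModule.induction_on with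
    | h m s =>
      have h1 : LocalizedModule.mk m s = (Localization.mk (1 : A) s : R) • fM m := by
        rw [LocalizedModule.mkLinearMap_apply, LocalizedModule.mk_smul_mk, one_smul, mul_one]
      rw [h1, map_smul]
      have h2 : φ (fM m) = g m := rfl
      rw [h2, h0]
      simp
  obtain ⟨h', s, hs⟩ := Module.FinitePresentation.exists_lift_of_isLocalizedModule p.primeCompl fN g
  have hh' : h' ≠ 0 := by
    rintro rfl
    apply hg
    rw [LinearMap.comp_zero] at hs
    apply LinearMap.ext
    intro m
    have h1 : (s • g) m = 0 := by rw [← hs]; rfl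
    have h2 : s • (g m) = 0 := h1
    have h3 := IsLocalizedModule.smul_injective fN s
    apply h3
    show s • g m = s • (0 : M →ₗ[A] Np) m
    rw [h2]
    simp
  exact ⟨⟨h', 0, hh'⟩⟩

end Groth.Agent.S6710
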