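import Groth.Statements.S6712
import Mathlib
import Groth.Agent.S2387
-- import your own Groth.Agent.* helpers here

set_option autoImplicit false
universe u
open CategoryTheory AlgebraicGeometry
open DEquiv

namespace Groth.Agent.S6712

open CategoryTheory.Limits in
theorem isIso_pullbackMap_of_isIso_restrict {S X Y : Scheme.{u}} (h : Y ⟶ S) (p : X ⟶ Y)
    (U : S.Opens) (hU : IsIso (p ∣_ (h ⁻¹ᵁ U))) :
    IsIso (pullback.map (p ≫ h) U.ι h U.ι p (𝟙 _) (𝟙 _) (by simp) (by simp)) := by
  set m := pullback.map (p ≫ h) U.ι h U.ι p (𝟙 _) (𝟙 _) (by simp) (by simp) with hm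
  set V := h ⁻¹ᵁ U with hV
  set j := pullback.fst h U.ι with hj
  -- the first square
  have hm1 : m ≫ pullback.fst h U.ι = pullback.fst (p ≫ h) U.ι ≫ p := by
    rw [hm]; exact pullback.lift_fst _ _ _
  have hm2 : m ≫ pullback.snd h U.ι = pullback.snd (p ≫ h) U.ι := by
    rw [hm]; exact (pullback.lift_snd _ _ _).trans (Category.comp_id _)
  have sq1 : IsPullback m (pullback.fst (p ≫ h) U.ι) j p := by
    refine IsPullback.of_right ?_ hm1 (IsPullback.of_hasPullback h U.ι).flip
    rw [hm2]
    exact (IsPullback.of_hasPullback (p ≫ h) U.ι).flip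
  -- j factors through V
  have hrange : Set.range j ⊆ Set.range V.ι := by
    rw [Scheme.Opens.range_ι, hj, Scheme.Pullback.range_fst, Scheme.Opens.range_ι]
    rfl
  let j' : pullback h U.ι ⟶ V.toScheme := IsOpenImmersion.lift V.ι j hrange
  have hj' : j' ≫ V.ι = j := IsOpenImmersion.lift_fac _ _ _
  -- the map a
  have hrange2 : Set.range (pullback.fst (p ≫ h) U.ι) ⊆ Set.range (p ⁻¹ᵁ V).ι := by
    rw [Scheme.Opens.range_ι, Scheme.Pullback.range_fst, Scheme.Opens.range_ι]
    rfl
  let a : pullback (p ≫ h) U.ι ⟶ (p ⁻¹ᵁ V).toScheme :=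
    IsOpenImmersion.lift (p ⁻¹ᵁ V).ι (pullback.fst (p ≫ h) U.ι) hrange2
  have ha : a ≫ (p ⁻¹ᵁ V).ι = pullback.fst (p ≫ h) U.ι := IsOpenImmersion.lift_fac _ _ _
  have hcomm : a ≫ (p ∣_ V) = m ≫ j' := by
    rw [← cancel_mono V.ι]
    simp only [Category.assoc, hj', morphismRestrict_ι, reassoc_of% ha]
    exact hm1.symm
  have sq2 : IsPullback a m (p ∣_ V) j' := by
    refine IsPullback.of_right ?_ hcomm (isPullback_morphismRestrict p V).flip
    rw [ha, hj']
    exact sq1.flip
  exact sq2.isIso_snd_of_isIso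

open CategoryTheory.Limits in
theorem main
    {S X Y : Scheme.{u}} [IsNoetherian S] (s : S) (g : X ⟶ S) (h : Y ⟶ S) (p : X ⟶ Y)
    (w : p ≫ h = g) [IsProper g] [IsProper h] [Flat g]
    (hs : IsIso (pullback.map g (S.fromSpecResidueField s) h (S.fromSpecResidueField s) p (𝟙 _)
      (𝟙 _) ((Category.comp_id g).trans w.symm)
      ((Category.comp_id _).trans (Category.id_comp _).symm))) :
    ∃ U : S.Opens, s ∈ U ∧
      IsIso (pullback.map g U.ι h U.ι p (𝟙 _) (𝟙 _) ((Category.comp_id g).trans w.symm)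
        ((Category.comp_id _).trans (Category.id_comp _).symm)) := by
  haveI : IsIso (CohIII.fiberMapOver p g h w s) := hs
  obtain ⟨U, hsU, hU⟩ := Groth.Agent.S2387.result p g h w s
  refine ⟨U, hsU, ?_⟩
  subst w
  exact isIso_pullbackMap_of_isIso_restrict h p U hU


open CategoryTheory.Limits in
/-- Let S be a Noetherian scheme, s ∈ S, and p : X ⟶ Y a morphism over S where X ⟶ S and Y ⟶ S are
proper and X ⟶ S is flat. If the fibre X_s ⟶ Y_s of p is an isomorphism, then there is an open
neighbourhood U of s such that the base change X_U ⟶ Y_U of p is an isomorphism. -/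
theorem result
    {S X Y : Scheme.{u}} [IsNoetherian S] (s : S) (g : X ⟶ S) (h : Y ⟶ S) (p : X ⟶ Y)
    (w : p ≫ h = g) [IsProper g] [IsProper h] [Flat g]
    (hs : IsIso (pullback.map g (S.fromSpecResidueField s) h (S.fromSpecResidueField s) p (𝟙 _)
      (𝟙 _) ((Category.comp_id g).trans w.symm)
      ((Category.comp_id _).trans (Category.id_comp _).symm))) :
    ∃ U : S.Opens, s ∈ U ∧
      IsIso (pullback.map g U.ι h U.ι p (𝟙 _) (𝟙 _) ((Category.comp_id g).trans w.symm)
        ((Category.comp_id _).trans (Category.id_comp _).symm)) := by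
  exact main s g h p w hs

end Groth.Agent.S6712
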