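import Groth.Statements.S6718
import Mathlib
-- import your own Groth.Agent.* helpers here

set_option autoImplicit false
universe w v u
open CategoryTheory
open DEquiv

namespace Groth.Agent.S6718

section Helpers

variable {k : Type w} [Field k] {T : Type u} [Category.{v} T] [Preadditive T] [Linear k T]
  [∀ X Y : T, Module.Finite k (X ⟶ Y)]

section Dir21

variable (Sobj : T → T) (e : ∀ X Y : T, (Y ⟶ Sobj X) ≃ₗ[k] Module.Dual k (X ⟶ Y))
  (he : ∀ (X Y Y' : T) (g : Y' ⟶ Y) (f : Y ⟶ Sobj X),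
    e X Y' (g ≫ f) = (e X Y f) ∘ₗ Linear.rightComp k X g)

/-- the trace form -/
noncomputable def tr (X : T) : Module.Dual k (X ⟶ Sobj X) := e X (Sobj X) (𝟙 _)

include he in
lemma K1 (X Y : T) (f : Y ⟶ Sobj X) (h : X ⟶ Y) : e X Y f h = tr Sobj e X (h ≫ f) := by
  have := he X (Sobj X) Y f (𝟙 _)
  rw [Category.comp_id] at this
  rw [this]
  rfl

include he in
lemma U (X Y : T) (f f' : Y ⟶ Sobj X)
    (hh : ∀ h : X ⟶ Y, tr Sobj e X (h ≫ f) = tr Sobj e X (h ≫ f')) : f = f' := by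
  apply (e X Y).injective
  ext h
  rw [K1 Sobj e he, K1 Sobj e he, hh]

/-- the action of `S` on morphisms -/
noncomputable def Smap {X' X : T} (a : X' ⟶ X) : Sobj X' ⟶ Sobj X :=
  (e X (Sobj X')).symm (tr Sobj e X' ∘ₗ Linear.leftComp k (Sobj X') a)

include he in
lemma K2 {X' X : T} (a : X' ⟶ X) (h : X ⟶ Sobj X') :
    tr Sobj e X (h ≫ Smap Sobj e a) = tr Sobj e X' (a ≫ h) := by
  rw [← K1 Sobj e he, Smap, LinearEquiv.apply_symm_apply]
  rfl

include he in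
lemma Smap_id (X : T) : Smap Sobj e (𝟙 X) = 𝟙 (Sobj X) := by
  apply U Sobj e he
  intro h
  rw [K2 Sobj e he, Category.id_comp, Category.comp_id]

include he in
lemma Smap_comp {X'' X' X : T} (a' : X'' ⟶ X') (a : X' ⟶ X) :
    Smap Sobj e (a' ≫ a) = Smap Sobj e a' ≫ Smap Sobj e a := by
  apply U Sobj e he
  intro h
  calc tr Sobj e X (h ≫ Smap Sobj e (a' ≫ a))
      = tr Sobj e X'' ((a' ≫ a) ≫ h) := K2 Sobj e he _ _
    _ = tr Sobj e X'' (a' ≫ (a ≫ h)) := by rw [Category.assoc]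
    _ = tr Sobj e X' ((a ≫ h) ≫ Smap Sobj e a') := (K2 Sobj e he _ _).symm
    _ = tr Sobj e X' (a ≫ (h ≫ Smap Sobj e a')) := by rw [Category.assoc]
    _ = tr Sobj e X ((h ≫ Smap Sobj e a') ≫ Smap Sobj e a) := (K2 Sobj e he _ _).symm
    _ = tr Sobj e X (h ≫ Smap Sobj e a' ≫ Smap Sobj e a) := by rw [Category.assoc]

include he in
lemma Smap_add {X' X : T} (a a' : X' ⟶ X) :
    Smap Sobj e (a + a') = Smap Sobj e a + Smap Sobj e a' := by
  apply U Sobj e he
  intro h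
  rw [K2 Sobj e he, Preadditive.comp_add, map_add, K2 Sobj e he, K2 Sobj e he,
    Preadditive.add_comp, map_add]

include he in
lemma Smap_smul {X' X : T} (r : k) (a : X' ⟶ X) :
    Smap Sobj e (r • a) = r • Smap Sobj e a := by
  apply U Sobj e he
  intro h
  rw [K2 Sobj e he, Linear.comp_smul, map_smul, K2 Sobj e he, Linear.smul_comp, map_smul]

/-- the functor `S` -/
noncomputable def SF : T ⥤ T where
  obj := Sobj
  map a := Smap Sobj e a
  map_id X := Smap_id Sobj e he X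
  map_comp a' a := Smap_comp Sobj e he a' a

instance : (SF Sobj e he).Additive where
  map_add {X' X} {a a'} := Smap_add Sobj e he a a'

instance : (SF Sobj e he).Linear k where
  map_smul {X' X} a r := Smap_smul Sobj e he r a


/-- the transposed pairing `a ↦ (h ↦ tr (a ≫ h))` is perfect -/
noncomputable def Phi (X' X : T) : (X' ⟶ X) ≃ₗ[k] Module.Dual k (X ⟶ Sobj X') :=
  (Module.evalEquiv k (X' ⟶ X)).trans (e X' X).dualMap

include he in
lemma Phi_apply (X' X : T) (a : X' ⟶ X) (h : X ⟶ Sobj X') :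
    Phi Sobj e X' X a h = tr Sobj e X' (a ≫ h) := by
  rw [← K1 Sobj e he]
  rfl

include he in
lemma Smap_eq {X' X : T} (a : X' ⟶ X) :
    Smap Sobj e a = (e X (Sobj X')).symm (Phi Sobj e X' X a) := by
  rw [Smap]
  congr 1
  ext h
  rw [Phi_apply Sobj e he]
  rfl

include he in
lemma Smap_bijective (X' X : T) :
    Function.Bijective (fun a : X' ⟶ X => Smap Sobj e a) := by
  have : (fun a : X' ⟶ X => Smap Sobj e a) =
      (e X (Sobj X')).symm ∘ (Phi Sobj e X' X) := by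
    funext a
    exact Smap_eq Sobj e he a
  rw [this]
  exact (LinearEquiv.bijective _).comp (LinearEquiv.bijective _)

instance : (SF Sobj e he).Faithful where
  map_injective {X' X} := (Smap_bijective Sobj e he X' X).1

instance : (SF Sobj e he).Full where
  map_surjective {X' X} := (Smap_bijective Sobj e he X' X).2


include he in
lemma nat1 (X Y Y' : T) (f : X ⟶ Y) (g : Y ⟶ Y') :
    Phi Sobj e X Y' (f ≫ g) = (Phi Sobj e X Y f) ∘ₗ Linear.leftComp k (Sobj X) g := by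
  ext h
  rw [Phi_apply Sobj e he, LinearMap.comp_apply, Phi_apply Sobj e he, Category.assoc]
  rfl

include he in
lemma nat2 (X' X Y : T) (a : X' ⟶ X) (f : X ⟶ Y) :
    Phi Sobj e X' Y (a ≫ f) = (Phi Sobj e X Y f) ∘ₗ Linear.rightComp k Y (Smap Sobj e a) := by
  ext h
  rw [Phi_apply Sobj e he, LinearMap.comp_apply, Phi_apply Sobj e he]
  change _ = tr Sobj e X (f ≫ h ≫ Smap Sobj e a)
  rw [← Category.assoc, K2 Sobj e he, Category.assoc]

section EssSurj

variable (Robj : T → T) (e' : ∀ X Y : T, (Robj X ⟶ Y) ≃ₗ[k] Module.Dual k (Y ⟶ X))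
  (he' : ∀ (X Y Y' : T) (g : Y ⟶ Y') (f : Robj X ⟶ Y),
    e' X Y' (f ≫ g) = (e' X Y f) ∘ₗ Linear.leftComp k X g)

noncomputable def tr' (X : T) : Module.Dual k (Robj X ⟶ X) := e' X (Robj X) (𝟙 _)

include he' in
lemma K1' (X Y : T) (f : Robj X ⟶ Y) (h : Y ⟶ X) : e' X Y f h = tr' Robj e' X (f ≫ h) := by
  have := he' X (Robj X) Y f (𝟙 _)
  rw [Category.id_comp] at this
  rw [this]
  rfl

/-- `Hom(Y, X) ≃ Hom(Y, S (R X))` -/
noncomputable def theta (X Y : T) : (Y ⟶ X) ≃ₗ[k] (Y ⟶ Sobj (Robj X)) :=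
  ((Module.evalEquiv k (Y ⟶ X)).trans (e' X Y).dualMap).trans (e (Robj X) Y).symm

include he he' in
lemma theta_spec (X Y : T) (h : Y ⟶ X) (p : Robj X ⟶ Y) :
    tr Sobj e (Robj X) (p ≫ theta Sobj e Robj e' X Y h) = tr' Robj e' X (p ≫ h) := by
  rw [← K1 Sobj e he, ← K1' Robj e' he', theta, LinearEquiv.trans_apply,
    LinearEquiv.apply_symm_apply]
  rfl

include he he' in
lemma theta_nat (X Y Y' : T) (g : Y' ⟶ Y) (h : Y ⟶ X) :
    theta Sobj e Robj e' X Y' (g ≫ h) = g ≫ theta Sobj e Robj e' X Y h := by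
  apply U Sobj e he
  intro p
  rw [theta_spec Sobj e he Robj e' he', ← Category.assoc, ← Category.assoc,
    theta_spec Sobj e he Robj e' he']

include he he' in
lemma nonempty_iso_S_R (X : T) : Nonempty (Sobj (Robj X) ≅ X) := by
  let v : X ⟶ Sobj (Robj X) := theta Sobj e Robj e' X X (𝟙 X)
  let u : Sobj (Robj X) ⟶ X := (theta Sobj e Robj e' X (Sobj (Robj X))).symm (𝟙 _)
  have hv : ∀ (Y : T) (h : Y ⟶ X), theta Sobj e Robj e' X Y h = h ≫ v := by
    intro Y h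
    have := theta_nat Sobj e he Robj e' he' X X Y h (𝟙 X)
    rwa [Category.comp_id] at this
  have h1 : u ≫ v = 𝟙 _ := by
    rw [← hv]
    exact LinearEquiv.apply_symm_apply _ _
  have h2 : v ≫ u = 𝟙 _ := by
    apply (theta Sobj e Robj e' X X).injective
    rw [hv, hv, Category.assoc, h1, Category.comp_id, Category.id_comp]
  exact ⟨⟨u, v, h1, h2⟩⟩

include he' in
lemma essSurj_SF : (SF Sobj e he).EssSurj where
  mem_essImage X := ⟨Robj X, nonempty_iso_S_R Sobj e he Robj e' he' X⟩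

end EssSurj

end Dir21


theorem dir21
    (h2a : ∀ X : T, ∃ (SX : T) (e : ∀ Y : T, (Y ⟶ SX) ≃ₗ[k] Module.Dual k (X ⟶ Y)),
        ∀ (Y Y' : T) (g : Y' ⟶ Y) (f : Y ⟶ SX),
          e Y' (g ≫ f) = (e Y f) ∘ₗ Linear.rightComp k X g)
    (h2b : ∀ X : T, ∃ (RX : T) (e : ∀ Y : T, (RX ⟶ Y) ≃ₗ[k] Module.Dual k (Y ⟶ X)),
        ∀ (Y Y' : T) (g : Y ⟶ Y') (f : RX ⟶ Y),
          e Y' (f ≫ g) = (e Y f) ∘ₗ Linear.leftComp k X g) :
    ∃ (S : T ≌ T) (_ : S.functor.Additive) (_ : S.functor.Linear k)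
        (c : ∀ X Y : T, (X ⟶ Y) ≃ₗ[k] Module.Dual k (Y ⟶ S.functor.obj X)),
        (∀ (X Y Y' : T) (f : X ⟶ Y) (g : Y ⟶ Y'),
          c X Y' (f ≫ g) = (c X Y f) ∘ₗ Linear.leftComp k (S.functor.obj X) g) ∧
        (∀ (X' X Y : T) (a : X' ⟶ X) (f : X ⟶ Y),
          c X' Y (a ≫ f) = (c X Y f) ∘ₗ Linear.rightComp k Y (S.functor.map a)) := by
  choose Sobj e he using h2a
  choose Robj e' he' using h2b
  haveI := essSurj_SF Sobj e he Robj e' he'
  haveI : (SF Sobj e he).IsEquivalence := {}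
  exact ⟨(SF Sobj e he).asEquivalence, inferInstanceAs (SF Sobj e he).Additive,
    inferInstanceAs ((SF Sobj e he).Linear k), fun X Y => Phi Sobj e X Y,
    nat1 Sobj e he, nat2 Sobj e he⟩


/-- postcomposition with an isomorphism as a linear equivalence -/
noncomputable def postEquiv (Y : T) {X X' : T} (i : X ≅ X') : (Y ⟶ X) ≃ₗ[k] (Y ⟶ X') :=
  LinearEquiv.ofLinear (Linear.rightComp k Y i.hom) (Linear.rightComp k Y i.inv)
    (by ext h; simp) (by ext h; simp)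

theorem dir12 (S : T ≌ T)
    (c : ∀ X Y : T, (X ⟶ Y) ≃ₗ[k] Module.Dual k (Y ⟶ S.functor.obj X))
    (hc1 : ∀ (X Y Y' : T) (f : X ⟶ Y) (g : Y ⟶ Y'),
      c X Y' (f ≫ g) = (c X Y f) ∘ₗ Linear.leftComp k (S.functor.obj X) g) :
    (∀ X : T, ∃ (SX : T) (e : ∀ Y : T, (Y ⟶ SX) ≃ₗ[k] Module.Dual k (X ⟶ Y)),
        ∀ (Y Y' : T) (g : Y' ⟶ Y) (f : Y ⟶ SX),
          e Y' (g ≫ f) = (e Y f) ∘ₗ Linear.rightComp k X g) ∧
      (∀ X : T, ∃ (RX : T) (e : ∀ Y : T, (RX ⟶ Y) ≃ₗ[k] Module.Dual k (Y ⟶ X)),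
        ∀ (Y Y' : T) (g : Y ⟶ Y') (f : RX ⟶ Y),
          e Y' (f ≫ g) = (e Y f) ∘ₗ Linear.leftComp k X g) := by
  constructor
  · intro X
    refine ⟨S.functor.obj X,
      fun Y => (Module.evalEquiv k (Y ⟶ S.functor.obj X)).trans (c X Y).dualMap, ?_⟩
    intro Y Y' g f
    ext h
    have := LinearMap.congr_fun (hc1 X Y' Y h g) f
    exact this.symm
  · intro X
    refine ⟨S.inverse.obj X,
      fun Y => (c (S.inverse.obj X) Y).trans
        (postEquiv (k := k) Y (S.counitIso.app X).symm).dualMap, ?_⟩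
    intro Y Y' g f
    ext h
    have := LinearMap.congr_fun (hc1 (S.inverse.obj X) Y Y' f g) (h ≫ (S.counitIso.app X).inv)
    simp only [LinearEquiv.trans_apply, LinearEquiv.dualMap_apply, LinearMap.comp_apply]
    erw [this]
    simp [postEquiv]


end Helpers


open CategoryTheory.Limits CategoryTheory.Pretriangulated in
/-- Let k be a field and T a k-linear (pre)triangulated category with dim_k Hom(X, Y) < ∞ for all X, Y.
The following are equivalent: (1) there are a k-linear equivalence S : T ⥤ T and k-linear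
isomorphisms c_{X,Y} : Hom(X, Y) ≅ Hom(Y, S X)^∨ natural in X and in Y; (2) for every object X the
functor Y ↦ Hom(X, Y)^∨ is representable and the functor Y ↦ Hom(Y, X)^∨ is corepresentable, by
k-linear isomorphisms natural in Y. (Here V^∨ is the k-linear dual.) -/
theorem result
    {k : Type w} [Field k]
    {T : Type u} [Category.{v} T] [Preadditive T] [Linear k T] [HasZeroObject T] [HasShift T ℤ]
    [∀ n : ℤ, (shiftFunctor T n).Additive] [∀ n : ℤ, (shiftFunctor T n).Linear k] [Pretriangulated T]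
    [∀ X Y : T, Module.Finite k (X ⟶ Y)] :
    (∃ (S : T ≌ T) (_ : S.functor.Additive) (_ : S.functor.Linear k)
        (c : ∀ X Y : T, (X ⟶ Y) ≃ₗ[k] Module.Dual k (Y ⟶ S.functor.obj X)),
        (∀ (X Y Y' : T) (f : X ⟶ Y) (g : Y ⟶ Y'),
          c X Y' (f ≫ g) = (c X Y f) ∘ₗ Linear.leftComp k (S.functor.obj X) g) ∧
        (∀ (X' X Y : T) (a : X' ⟶ X) (f : X ⟶ Y),
          c X' Y (a ≫ f) = (c X Y f) ∘ₗ Linear.rightComp k Y (S.functor.map a))) ↔
    ((∀ X : T, ∃ (SX : T) (e : ∀ Y : T, (Y ⟶ SX) ≃ₗ[k] Module.Dual k (X ⟶ Y)),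
        ∀ (Y Y' : T) (g : Y' ⟶ Y) (f : Y ⟶ SX),
          e Y' (g ≫ f) = (e Y f) ∘ₗ Linear.rightComp k X g) ∧
      (∀ X : T, ∃ (RX : T) (e : ∀ Y : T, (RX ⟶ Y) ≃ₗ[k] Module.Dual k (Y ⟶ X)),
        ∀ (Y Y' : T) (g : Y ⟶ Y') (f : RX ⟶ Y),
          e Y' (f ≫ g) = (e Y f) ∘ₗ Linear.leftComp k X g)) := by
  constructor
  · rintro ⟨S, hS1, hS2, c, hc1, hc2⟩
    exact dir12 S c hc1
  · rintro ⟨h2a, h2b⟩
    exact dir21 h2a h2b

end Groth.Agent.S6718
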