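import Groth.Statements.S6731
import Mathlib

set_option autoImplicit false
universe w v u
open CategoryTheory
open DEquiv

namespace Groth.Agent.S6731


section
variable {k : Type w} [Field k] {T : Type u} [Category.{v} T] [Preadditive T] [Linear k T]
  [∀ X Y : T, Module.Finite k (X ⟶ Y)]

/-- A "Serre pairing" datum on an endofunctor `S`. -/
structure Pairing (S : T ⥤ T) where
  c : ∀ X Y : T, (X ⟶ Y) ≃ₗ[k] Module.Dual k (Y ⟶ S.obj X)
  hc₁ : ∀ (X Y Y' : T) (f : X ⟶ Y) (g : Y ⟶ Y'),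
      c X Y' (f ≫ g) = (c X Y f) ∘ₗ Linear.leftComp k (S.obj X) g
  hc₂ : ∀ (X' X Y : T) (a : X' ⟶ X) (f : X ⟶ Y),
      c X' Y (a ≫ f) = (c X Y f) ∘ₗ Linear.rightComp k Y (S.map a)

variable {S S' : T ⥤ T} (P : Pairing (k := k) S) (P' : Pairing (k := k) S')

/-- nondegeneracy in the second variable -/
lemma Pairing.ext_right {X Y : T} (h₁ h₂ : Y ⟶ S.obj X)
    (h : ∀ f : X ⟶ Y, P.c X Y f h₁ = P.c X Y f h₂) : h₁ = h₂ := by
  rw [← sub_eq_zero]
  rw [← Module.forall_dual_apply_eq_zero_iff k]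
  intro φ
  obtain ⟨f, rfl⟩ := (P.c X Y).surjective φ
  rw [map_sub, h f, sub_self]

/-- existence of the representing morphism for a functional on `Hom(X, Y)` -/
lemma Pairing.exists_rep {X Y : T} (ℓ : Module.Dual k (X ⟶ Y)) :
    ∃ h : Y ⟶ S.obj X, ∀ f : X ⟶ Y, P.c X Y f h = ℓ f := by
  -- `ℓ ∘ (c X Y)⁻¹` is a functional on the dual of `Hom(Y, S X)`, so is evaluation at some `h`
  let ξ : Module.Dual k (Module.Dual k (Y ⟶ S.obj X)) := ℓ ∘ₗ (P.c X Y).symm.toLinearMap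
  obtain ⟨h, hh⟩ := (Module.evalEquiv k (Y ⟶ S.obj X)).surjective ξ
  refine ⟨h, fun f => ?_⟩
  have := congrArg (fun ζ => ζ (P.c X Y f)) hh
  simpa [ξ] using this

/-- the comparison morphism `S X ⟶ S' X` -/
noncomputable def comp (X : T) : S.obj X ⟶ S'.obj X :=
  (P'.exists_rep (X := X) (Y := S.obj X)
    ((LinearMap.applyₗ (𝟙 (S.obj X))).comp (P.c X (S.obj X)).toLinearMap)).choose

lemma comp_spec (X : T) (f : X ⟶ S.obj X) :
    P'.c X (S.obj X) f (comp P P' X) = P.c X (S.obj X) f (𝟙 _) := by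
  have := (P'.exists_rep (X := X) (Y := S.obj X)
    ((LinearMap.applyₗ (𝟙 (S.obj X))).comp (P.c X (S.obj X)).toLinearMap)).choose_spec f
  simpa [comp] using this

lemma compat (X Y : T) (f : X ⟶ Y) (h : Y ⟶ S.obj X) :
    P.c X Y f h = P'.c X Y f (h ≫ comp P P' X) := by
  have e1 : P'.c X (S.obj X) (f ≫ h) (comp P P' X) = P'.c X Y f (h ≫ comp P P' X) := by
    rw [P'.hc₁]; rfl
  have e2 : P.c X (S.obj X) (f ≫ h) (𝟙 _) = P.c X Y f (h ≫ 𝟙 _) := by
    rw [P.hc₁]; rfl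
  rw [← e1, comp_spec, e2, Category.comp_id]

lemma comp_unique (X : T) (φ : S.obj X ⟶ S'.obj X)
    (hφ : ∀ (Y : T) (f : X ⟶ Y) (h : Y ⟶ S.obj X), P.c X Y f h = P'.c X Y f (h ≫ φ)) :
    φ = comp P P' X := by
  apply P'.ext_right
  intro f
  have h1 := hφ _ f (𝟙 _)
  have h2 := compat P P' _ _ f (𝟙 _)
  rw [Category.id_comp] at h1 h2
  rw [← h1, ← h2]

lemma comp_comp (X : T) : comp P P' X ≫ comp P' P X = 𝟙 _ := by
  apply P.ext_right
  intro f
  rw [← compat P' P X _ f (comp P P' X)]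
  have := compat P P' X _ f (𝟙 _)
  rw [Category.id_comp] at this
  exact this.symm

lemma comp_naturality {X' X : T} (a : X' ⟶ X) :
    S.map a ≫ comp P P' X = comp P P' X' ≫ S'.map a := by
  apply P'.ext_right
  intro f
  have h1 : P'.c X (S.obj X') f (S.map a ≫ comp P P' X) = P.c X _ f (S.map a) :=
    (compat P P' _ _ f _).symm
  have h2 : P'.c X (S.obj X') f (comp P P' X' ≫ S'.map a) =
      P'.c X' _ (a ≫ f) (comp P P' X') := by
    rw [P'.hc₂]; rfl
  have h3 : P.c X _ f (S.map a) = P.c X' _ (a ≫ f) (𝟙 _) := by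
    rw [P.hc₂]
    change _ = P.c X _ f (𝟙 _ ≫ S.map a)
    rw [Category.id_comp]
  rw [h1, h2, h3, compat P P' X' _ (a ≫ f) (𝟙 _), Category.id_comp]

end



open CategoryTheory.Limits CategoryTheory.Pretriangulated in
/-- Let k be a field and T a k-linear triangulated category with dim_k Hom(X, Y) < ∞ for all X, Y. Let
(S, c) and (S', c') be Serre functors: k-linear equivalences T ⥤ T with k-linear isomorphisms
c_{X,Y} : Hom(X, Y) ≅ Hom(Y, S X)^∨ natural in X and Y (likewise c'). Then there is a unique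
isomorphism of functors φ : S ≅ S' compatible with c and c', i.e. c_{X,Y}(f) is c'_{X,Y}(f) composed
with postcomposition by φ_X. -/
theorem result
    {k : Type w} [Field k]
    {T : Type u} [Category.{v} T] [Preadditive T] [Linear k T] [HasZeroObject T] [HasShift T ℤ]
    [∀ n : ℤ, (shiftFunctor T n).Additive] [∀ n : ℤ, (shiftFunctor T n).Linear k] [Pretriangulated T]
    [IsTriangulated T] [∀ X Y : T, Module.Finite k (X ⟶ Y)]
    (S : T ≌ T) [S.functor.Additive] [S.functor.Linear k]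
    (c : ∀ X Y : T, (X ⟶ Y) ≃ₗ[k] Module.Dual k (Y ⟶ S.functor.obj X))
    (hc₁ : ∀ (X Y Y' : T) (f : X ⟶ Y) (g : Y ⟶ Y'),
      c X Y' (f ≫ g) = (c X Y f) ∘ₗ Linear.leftComp k (S.functor.obj X) g)
    (hc₂ : ∀ (X' X Y : T) (a : X' ⟶ X) (f : X ⟶ Y),
      c X' Y (a ≫ f) = (c X Y f) ∘ₗ Linear.rightComp k Y (S.functor.map a))
    (S' : T ≌ T) [S'.functor.Additive] [S'.functor.Linear k]
    (c' : ∀ X Y : T, (X ⟶ Y) ≃ₗ[k] Module.Dual k (Y ⟶ S'.functor.obj X))
    (hc'₁ : ∀ (X Y Y' : T) (f : X ⟶ Y) (g : Y ⟶ Y'),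
      c' X Y' (f ≫ g) = (c' X Y f) ∘ₗ Linear.leftComp k (S'.functor.obj X) g)
    (hc'₂ : ∀ (X' X Y : T) (a : X' ⟶ X) (f : X ⟶ Y),
      c' X' Y (a ≫ f) = (c' X Y f) ∘ₗ Linear.rightComp k Y (S'.functor.map a)) :
    ∃! φ : S.functor ≅ S'.functor, ∀ (X Y : T) (f : X ⟶ Y),
      c X Y f = (c' X Y f) ∘ₗ Linear.rightComp k Y (φ.hom.app X) := by
  let P : Groth.Agent.S6731.Pairing (k := k) S.functor := ⟨c, hc₁, hc₂⟩
  let P' : Groth.Agent.S6731.Pairing (k := k) S'.functor := ⟨c', hc'₁, hc'₂⟩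
  let φ : S.functor ≅ S'.functor :=
    NatIso.ofComponents
      (fun X => ⟨Groth.Agent.S6731.comp P P' X, Groth.Agent.S6731.comp P' P X,
        Groth.Agent.S6731.comp_comp P P' X, Groth.Agent.S6731.comp_comp P' P X⟩)
      (fun a => Groth.Agent.S6731.comp_naturality P P' a)
  refine ⟨φ, ?_, ?_⟩
  · intro X Y f
    ext h
    exact Groth.Agent.S6731.compat P P' X Y f h
  · intro ψ hψ
    ext X
    exact Groth.Agent.S6731.comp_unique P P' X (ψ.hom.app X)
      (fun Y f h => congrArg (fun ζ => ζ h) (hψ X Y f))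

end Groth.Agent.S6731
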