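import Groth.Statements.S6732
import Groth.Agent.S6731

set_option autoImplicit false
universe w v u
open CategoryTheory
open DEquiv

namespace Groth.Agent.S6732

open CategoryTheory.Limits CategoryTheory.Pretriangulated Groth.Agent.S6731

section

variable {k : Type w} [Field k] {T : Type u} [Category.{v} T] [Preadditive T] [Linear k T]
  [HasZeroObject T] [HasShift T ℤ] [∀ n : ℤ, (shiftFunctor T n).Additive]
  [∀ n : ℤ, (shiftFunctor T n).Linear k] [Pretriangulated T] [IsTriangulated T]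
  [∀ X Y : T, Module.Finite k (X ⟶ Y)]
  {S : T ⥤ T} [S.Additive] [S.Linear k] (P : Pairing (k := k) S)

lemma pair_left {X Y Y' : T} (f : X ⟶ Y) (g : Y ⟶ Y') (φ : Y' ⟶ S.obj X) :
    P.c X Y' (f ≫ g) φ = P.c X Y f (g ≫ φ) := by
  rw [P.hc₁]; rfl

lemma pair_right {X' X Y : T} (a : X' ⟶ X) (f : X ⟶ Y) (φ : Y ⟶ S.obj X') :
    P.c X' Y (a ≫ f) φ = P.c X Y f (φ ≫ S.map a) := by
  rw [P.hc₂]; rfl

/-- the trace functional -/
noncomputable def tr (X : T) : Module.Dual k (X ⟶ S.obj X) := P.c X X (𝟙 X)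

lemma pair_eq_tr {X Y : T} (f : X ⟶ Y) (φ : Y ⟶ S.obj X) : P.c X Y f φ = tr P X (f ≫ φ) := by
  have := pair_left P (𝟙 X) f φ
  rw [Category.id_comp] at this
  exact this

lemma pair_eq_tr' {X Y : T} (f : X ⟶ Y) (φ : Y ⟶ S.obj X) :
    P.c X Y f φ = tr P Y (φ ≫ S.map f) := by
  have := pair_right P f (𝟙 Y) φ
  rw [Category.comp_id] at this
  exact this

lemma tr_symm {X Y : T} (f : X ⟶ Y) (φ : Y ⟶ S.obj X) :
    tr P X (f ≫ φ) = tr P Y (φ ≫ S.map f) := by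
  rw [← pair_eq_tr, ← pair_eq_tr']

/-- extension of functionals along a linear map killing the kernel. -/
lemma exists_factor {V W : Type*} [AddCommGroup V] [Module k V] [AddCommGroup W] [Module k W]
    (γ : V →ₗ[k] W) (l : Module.Dual k V) (h : ∀ x, γ x = 0 → l x = 0) :
    ∃ L : Module.Dual k W, ∀ x, L (γ x) = l x := by
  have h1 : l ∈ (LinearMap.ker γ).dualAnnihilator :=
    (Submodule.mem_dualAnnihilator _).2 (fun x hx => h x hx)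
  rw [← LinearMap.range_dualMap_eq_dualAnnihilator_ker] at h1
  obtain ⟨L, hL⟩ := h1
  refine ⟨L, fun x => ?_⟩
  rw [← hL]
  rfl

include P in
/-- `Hom(W, S -)` is exact where `Hom(-, W)` is. -/
lemma exact_S {X Y Z W : T} (p : X ⟶ Y) (q : Y ⟶ Z)
    (hex : ∀ b : Y ⟶ W, p ≫ b = 0 → ∃ u : Z ⟶ W, b = q ≫ u)
    (ψ : W ⟶ S.obj Y) (hψ : ψ ≫ S.map q = 0) : ∃ ψ' : W ⟶ S.obj X, ψ = ψ' ≫ S.map p := by
  let l : Module.Dual k (Y ⟶ W) :=
    (LinearMap.applyₗ ψ).comp (P.c Y W).toLinearMap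
  have hl : ∀ b, l b = P.c Y W b ψ := fun b => rfl
  obtain ⟨μ, hμ⟩ := exists_factor (Linear.leftComp k W p) l (by
    intro b hb
    obtain ⟨u, rfl⟩ := hex b hb
    rw [hl, pair_right, hψ, map_zero])
  obtain ⟨ψ', hψ'⟩ := P.exists_rep μ
  refine ⟨ψ', ?_⟩
  apply P.ext_right
  intro b
  rw [← pair_right, hψ', ← hl, ← hμ]
  rfl

/-- the shift as a linear equivalence on Hom spaces -/
noncomputable def shiftEquivHom (X Y : T) : (X ⟶ Y) ≃ₗ[k] (X⟦(1 : ℤ)⟧ ⟶ Y⟦(1 : ℤ)⟧) :=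
  LinearEquiv.ofBijective ((shiftFunctor T (1 : ℤ)).mapLinearMap k)
    ⟨(shiftFunctor T (1 : ℤ)).map_injective, (shiftFunctor T (1 : ℤ)).map_surjective⟩

lemma shiftEquivHom_apply {X Y : T} (f : X ⟶ Y) : shiftEquivHom (k := k) X Y f = f⟦(1 : ℤ)⟧' := rfl

/-- unshift -/
noncomputable def unshift {X Y : T} (u : X⟦(1 : ℤ)⟧ ⟶ Y⟦(1 : ℤ)⟧) : X ⟶ Y :=
  (shiftEquivHom (k := k) X Y).symm u

lemma shift_unshift {X Y : T} (u : X⟦(1 : ℤ)⟧ ⟶ Y⟦(1 : ℤ)⟧) :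
    (unshift (k := k) u)⟦(1 : ℤ)⟧' = u :=
  (shiftEquivHom (k := k) X Y).apply_symm_apply u

lemma unshift_shift {X Y : T} (f : X ⟶ Y) : unshift (k := k) (f⟦(1 : ℤ)⟧') = f :=
  (shiftEquivHom (k := k) X Y).symm_apply_apply f

/-- the comparison map `(S A)⟦1⟧ ⟶ S (A⟦1⟧)` -/
noncomputable def dmap (A : T) : (S.obj A)⟦(1 : ℤ)⟧ ⟶ S.obj (A⟦(1 : ℤ)⟧) :=
  (P.exists_rep (X := A⟦(1 : ℤ)⟧) (Y := (S.obj A)⟦(1 : ℤ)⟧)
    (-((tr P A).comp (shiftEquivHom (k := k) A (S.obj A)).symm.toLinearMap))).choose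

lemma dmap_spec (A : T) (u : A⟦(1 : ℤ)⟧ ⟶ (S.obj A)⟦(1 : ℤ)⟧) :
    P.c (A⟦(1 : ℤ)⟧) ((S.obj A)⟦(1 : ℤ)⟧) u (dmap P A) = -tr P A (unshift (k := k) u) :=
  (P.exists_rep (X := A⟦(1 : ℤ)⟧) (Y := (S.obj A)⟦(1 : ℤ)⟧)
    (-((tr P A).comp (shiftEquivHom (k := k) A (S.obj A)).symm.toLinearMap))).choose_spec u

lemma dmap_pair (A W : T) (w : A⟦(1 : ℤ)⟧ ⟶ W) (θ : W ⟶ (S.obj A)⟦(1 : ℤ)⟧) :
    P.c (A⟦(1 : ℤ)⟧) W w (θ ≫ dmap P A) = -tr P A (unshift (k := k) (w ≫ θ)) := by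
  rw [← pair_left, dmap_spec]

lemma dmap_natural {A A' : T} (a : A ⟶ A') :
    (S.map a)⟦(1 : ℤ)⟧' ≫ dmap P A' = dmap P A ≫ S.map (a⟦(1 : ℤ)⟧') := by
  apply P.ext_right
  intro u
  rw [dmap_pair, ← pair_right, dmap_spec]
  congr 1
  have h1 : u ≫ (S.map a)⟦(1 : ℤ)⟧' = (unshift (k := k) u ≫ S.map a)⟦(1 : ℤ)⟧' := by
    rw [Functor.map_comp, shift_unshift]
  have h2 : a⟦(1 : ℤ)⟧' ≫ u = (a ≫ unshift (k := k) u)⟦(1 : ℤ)⟧' := by
    rw [Functor.map_comp, shift_unshift]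
  rw [h1, h2, unshift_shift, unshift_shift]
  exact (tr_symm P a (unshift (k := k) u)).symm

lemma dmap_inj (A W : T) (θ : W ⟶ (S.obj A)⟦(1 : ℤ)⟧) (h : θ ≫ dmap P A = 0) : θ = 0 := by
  let j : (W⟦(-1 : ℤ)⟧)⟦(1 : ℤ)⟧ ≅ W := shiftNegShift W (1 : ℤ)
  have h1 : unshift (k := k) (j.hom ≫ θ) = 0 := by
    apply P.ext_right
    intro w'
    rw [map_zero, pair_eq_tr]
    have h2 := dmap_pair P A W (w'⟦(1 : ℤ)⟧' ≫ j.hom) θ
    rw [h, map_zero] at h2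
    have h3 : (w'⟦(1 : ℤ)⟧' ≫ j.hom) ≫ θ = (w' ≫ unshift (k := k) (j.hom ≫ θ))⟦(1 : ℤ)⟧' := by
      rw [Functor.map_comp, shift_unshift, Category.assoc]
    rw [h3, unshift_shift] at h2
    exact neg_eq_zero.1 h2.symm
  have h4 : j.hom ≫ θ = 0 := by
    rw [← shift_unshift (k := k) (j.hom ≫ θ), h1, Functor.map_zero]
  rw [← cancel_epi j.hom, h4, comp_zero]

lemma isIso_dmap (A : T) : IsIso (dmap P A) := by
  apply isIso_of_yoneda_map_bijective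
  intro W
  constructor
  · intro θ₁ θ₂ h
    dsimp only at h
    rw [← sub_eq_zero]
    apply dmap_inj P A W
    rw [Preadditive.sub_comp, h, sub_self]
  · intro θ''
    let j : (W⟦(-1 : ℤ)⟧)⟦(1 : ℤ)⟧ ≅ W := shiftNegShift W (1 : ℤ)
    let l : Module.Dual k (A ⟶ W⟦(-1 : ℤ)⟧) :=
      -((((LinearMap.applyₗ θ'').comp (P.c (A⟦(1 : ℤ)⟧) W).toLinearMap).comp
        (Linear.rightComp k (A⟦(1 : ℤ)⟧) j.hom)).comp
        (shiftEquivHom (k := k) A (W⟦(-1 : ℤ)⟧)).toLinearMap)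
    have hl : ∀ w', l w' = -P.c (A⟦(1 : ℤ)⟧) W (w'⟦(1 : ℤ)⟧' ≫ j.hom) θ'' := fun w' => rfl
    obtain ⟨θ', hθ'⟩ := P.exists_rep l
    refine ⟨j.inv ≫ θ'⟦(1 : ℤ)⟧', ?_⟩
    dsimp only
    apply P.ext_right
    intro w
    rw [dmap_pair]
    have h3 : w ≫ j.inv ≫ θ'⟦(1 : ℤ)⟧' = (unshift (k := k) (w ≫ j.inv) ≫ θ')⟦(1 : ℤ)⟧' := by
      rw [Functor.map_comp, shift_unshift, Category.assoc]
    rw [h3, unshift_shift, ← pair_eq_tr, hθ', hl, neg_neg, shift_unshift, Category.assoc,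
      Iso.inv_hom_id, Category.comp_id]

lemma pair_map {X Y : T} (a : X ⟶ Y) (v : Y ⟶ S.obj X) :
    P.c Y (S.obj X) v (S.map a) = tr P X (a ≫ v) := by
  have h := pair_right P a v (𝟙 (S.obj X))
  rw [Category.id_comp] at h
  rw [← h, pair_eq_tr, Category.comp_id]

lemma exists_xi {A B C : T} (f : A ⟶ B) (g : B ⟶ C) (h : C ⟶ A⟦(1 : ℤ)⟧)
    (hT : Triangle.mk f g h ∈ distTriang T) {C' : T} (g' : S.obj B ⟶ C')
    (h' : C' ⟶ (S.obj A)⟦(1 : ℤ)⟧) (hT' : Triangle.mk (S.map f) g' h' ∈ distTriang T) :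
    ∃ ξ : C' ⟶ S.obj C, g' ≫ ξ = S.map g ∧ ξ ≫ S.map h = h' ≫ dmap P A := by
  let γ : ((C ⟶ S.obj B) × (A⟦(1 : ℤ)⟧ ⟶ C')) →ₗ[k] (C ⟶ C') :=
    (Linear.rightComp k C g').coprod (Linear.leftComp k C' h)
  have hγ : ∀ v w, γ (v, w) = v ≫ g' + h ≫ w := fun v w => rfl
  let l₁ : Module.Dual k (C ⟶ S.obj B) :=
    (LinearMap.applyₗ (S.map g)).comp (P.c C (S.obj B)).toLinearMap
  have hl₁ : ∀ v, l₁ v = P.c C (S.obj B) v (S.map g) := fun v => rfl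
  let l₂ : Module.Dual k (A⟦(1 : ℤ)⟧ ⟶ C') :=
    -((tr P A).comp ((shiftEquivHom (k := k) A (S.obj A)).symm.toLinearMap.comp
      (Linear.rightComp k (A⟦(1 : ℤ)⟧) h')))
  have hl₂ : ∀ w, l₂ w = -tr P A (unshift (k := k) (w ≫ h')) := fun w => rfl
  let l : Module.Dual k ((C ⟶ S.obj B) × (A⟦(1 : ℤ)⟧ ⟶ C')) := l₁.coprod l₂
  have hl : ∀ v w, l (v, w) = l₁ v + l₂ w := fun v w => rfl
  obtain ⟨Λ, hΛ⟩ := exists_factor γ l (by
    rintro ⟨v, w⟩ hvw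
    rw [hγ] at hvw
    rw [hl, hl₁, hl₂]
    have comm : h ≫ (-w) = v ≫ g' := by
      rw [Preadditive.comp_neg, neg_eq_iff_add_eq_zero, add_comm]
      exact hvw
    have hT₁ := rot_of_distTriang _ (rot_of_distTriang _ hT)
    have hT₂ := rot_of_distTriang _ hT'
    obtain ⟨s, hs₁, hs₂⟩ : ∃ s : B⟦(1 : ℤ)⟧ ⟶ (S.obj A)⟦(1 : ℤ)⟧,
        (-f⟦(1 : ℤ)⟧') ≫ s = (-w) ≫ h' ∧
        (-g⟦(1 : ℤ)⟧') ≫ v⟦(1 : ℤ)⟧' = s ≫ (-(S.map f)⟦(1 : ℤ)⟧') :=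
      complete_distinguished_triangle_morphism _ _ hT₁ hT₂ v (-w) comm
    have e1 : g ≫ v = unshift (k := k) s ≫ S.map f := by
      apply (shiftFunctor T (1 : ℤ)).map_injective
      rw [Functor.map_comp, Functor.map_comp, shift_unshift]
      rw [Preadditive.neg_comp, Preadditive.comp_neg, neg_inj] at hs₂
      exact hs₂
    have e2 : unshift (k := k) (w ≫ h') = f ≫ unshift (k := k) s := by
      apply (shiftFunctor T (1 : ℤ)).map_injective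
      rw [shift_unshift, Functor.map_comp, shift_unshift]
      rw [Preadditive.neg_comp, Preadditive.neg_comp, neg_inj] at hs₁
      exact hs₁.symm
    rw [pair_map, e1, e2, ← tr_symm, add_neg_cancel])
  obtain ⟨ξ, hξ⟩ := P.exists_rep Λ
  refine ⟨ξ, ?_, ?_⟩
  · apply P.ext_right
    intro v
    rw [← pair_left, hξ]
    have h0 := hΛ (v, 0)
    rw [hγ, hl, hl₁, comp_zero, add_zero, map_zero, add_zero] at h0
    exact h0
  · apply P.ext_right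
    intro w
    rw [← pair_right, hξ, dmap_pair]
    have h0 := hΛ (0, w)
    rw [hγ, hl, hl₂, zero_comp, zero_add, map_zero, zero_add] at h0
    exact h0

lemma isIso_xi {A B C : T} (f : A ⟶ B) (g : B ⟶ C) (h : C ⟶ A⟦(1 : ℤ)⟧)
    (hT : Triangle.mk f g h ∈ distTriang T) {C' : T} (g' : S.obj B ⟶ C')
    (h' : C' ⟶ (S.obj A)⟦(1 : ℤ)⟧) (hT' : Triangle.mk (S.map f) g' h' ∈ distTriang T)
    (ξ : C' ⟶ S.obj C) (h1 : g' ≫ ξ = S.map g) (h2 : ξ ≫ S.map h = h' ≫ dmap P A) :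
    IsIso ξ := by
  apply isIso_of_yoneda_map_bijective
  intro W
  have exB : ∀ ψ : W ⟶ S.obj B, ψ ≫ S.map g = 0 → ∃ ψ' : W ⟶ S.obj A, ψ = ψ' ≫ S.map f :=
    exact_S P f g (fun b hb => Triangle.yoneda_exact₂ _ hT b hb)
  have exC : ∀ χ : W ⟶ S.obj C, χ ≫ S.map h = 0 → ∃ ψ : W ⟶ S.obj B, χ = ψ ≫ S.map g :=
    exact_S P g h (fun b hb => Triangle.yoneda_exact₃ _ hT b hb)
  constructor
  · intro φ₁ φ₂ hφ
    dsimp only at hφ
    rw [← sub_eq_zero]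
    have hφ0 : (φ₁ - φ₂) ≫ ξ = 0 := by rw [Preadditive.sub_comp, hφ, sub_self]
    have e1 : (φ₁ - φ₂) ≫ h' = 0 := by
      apply dmap_inj P A W
      rw [Category.assoc, ← h2, ← Category.assoc, hφ0, zero_comp]
    obtain ⟨ψ, hψ⟩ : ∃ ψ : W ⟶ S.obj B, φ₁ - φ₂ = ψ ≫ g' :=
      Triangle.coyoneda_exact₃ _ hT' (φ₁ - φ₂) e1
    have e2 : ψ ≫ S.map g = 0 := by rw [← h1, ← Category.assoc, ← hψ, hφ0]
    obtain ⟨ψ', hψ'⟩ := exB ψ e2
    have e3 : S.map f ≫ g' = 0 := comp_distTriang_mor_zero₁₂ _ hT'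
    rw [hψ, hψ', Category.assoc, e3, comp_zero]
  · intro χ
    haveI := isIso_dmap P A
    haveI := isIso_dmap P B
    have nat : inv (dmap P A) ≫ (S.map f)⟦(1 : ℤ)⟧' = S.map (f⟦(1 : ℤ)⟧') ≫ inv (dmap P B) := by
      rw [IsIso.eq_comp_inv, Category.assoc, dmap_natural, IsIso.inv_hom_id_assoc]
    have e00 : h ≫ f⟦(1 : ℤ)⟧' = 0 := comp_distTriang_mor_zero₃₁ _ hT
    have e0 : (χ ≫ S.map h ≫ inv (dmap P A)) ≫ (S.map f)⟦(1 : ℤ)⟧' = 0 := by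
      rw [Category.assoc, Category.assoc, nat, ← Category.assoc (S.map h), ← S.map_comp, e00,
        S.map_zero, zero_comp, comp_zero]
    obtain ⟨φ₀, hφ₀⟩ : ∃ φ₀ : W ⟶ C', χ ≫ S.map h ≫ inv (dmap P A) = φ₀ ≫ h' :=
      Triangle.coyoneda_exact₁ _ hT' _ e0
    have e1 : (χ - φ₀ ≫ ξ) ≫ S.map h = 0 := by
      rw [Preadditive.sub_comp, Category.assoc, h2, ← Category.assoc, ← hφ₀, Category.assoc,
        Category.assoc, IsIso.inv_hom_id, Category.comp_id, sub_self]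
    obtain ⟨ψ, hψ⟩ := exC _ e1
    refine ⟨φ₀ + ψ ≫ g', ?_⟩
    dsimp only
    rw [Preadditive.add_comp, Category.assoc, h1, ← hψ]
    abel

theorem main (c : ∀ X Y : T, (X ⟶ Y) ≃ₗ[k] Module.Dual k (Y ⟶ S.obj X))
    (hc₁ : ∀ (X Y Y' : T) (f : X ⟶ Y) (g : Y ⟶ Y'),
      c X Y' (f ≫ g) = (c X Y f) ∘ₗ Linear.leftComp k (S.obj X) g)
    (hc₂ : ∀ (X' X Y : T) (a : X' ⟶ X) (f : X ⟶ Y),
      c X' Y (a ≫ f) = (c X Y f) ∘ₗ Linear.rightComp k Y (S.map a)) :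
    ∃ e : shiftFunctor T (1 : ℤ) ⋙ S ≅ S ⋙ shiftFunctor T (1 : ℤ),
      ∀ T' ∈ distTriang T,
        Triangle.mk (S.map T'.mor₁) (S.map T'.mor₂)
          (S.map T'.mor₃ ≫ e.hom.app T'.obj₁) ∈ distTriang T := by
  let P : Pairing (k := k) S := ⟨c, hc₁, hc₂⟩
  have hd : ∀ A, IsIso (dmap P A) := isIso_dmap P
  let d : S ⋙ shiftFunctor T (1 : ℤ) ≅ shiftFunctor T (1 : ℤ) ⋙ S :=
    NatIso.ofComponents (fun A => @asIso _ _ _ _ (dmap P A) (hd A))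
      (fun a => dmap_natural P a)
  refine ⟨d.symm, ?_⟩
  intro T' hT'
  obtain ⟨C', g', h', hD⟩ := distinguished_cocone_triangle (S.map T'.mor₁)
  obtain ⟨ξ, h1, h2⟩ := exists_xi P T'.mor₁ T'.mor₂ T'.mor₃ hT' g' h' hD
  have hξ := isIso_xi P T'.mor₁ T'.mor₂ T'.mor₃ hT' g' h' hD ξ h1 h2
  have := hd T'.obj₁
  refine isomorphic_distinguished _ hD _ ?_
  refine Triangle.isoMk _ _ (Iso.refl _) (Iso.refl _) (asIso ξ).symm ?_ ?_ ?_
  · exact (Category.comp_id _).trans (Category.id_comp _).symm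
  · change S.map T'.mor₂ ≫ inv ξ = 𝟙 _ ≫ g'
    rw [Category.id_comp, IsIso.comp_inv_eq, h1]
  · change (S.map T'.mor₃ ≫ inv (dmap P T'.obj₁)) ≫ (𝟙 _)⟦(1 : ℤ)⟧' = inv ξ ≫ h'
    rw [CategoryTheory.Functor.map_id, Category.comp_id, IsIso.eq_inv_comp, ← Category.assoc, h2,
      Category.assoc, IsIso.hom_inv_id, Category.comp_id]

end

open CategoryTheory.Limits CategoryTheory.Pretriangulated in
/-- Let k be a field and T a k-linear triangulated category with dim_k Hom(X, Y) < ∞ for all X, Y, and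
let (S, c) be a Serre functor: a k-linear equivalence T ⥤ T with k-linear isomorphisms c_{X,Y} :
Hom(X, Y) ≅ Hom(Y, S X)^∨ natural in X and Y. Then S is an exact functor of triangulated categories:
there is an isomorphism of functors S ∘ ⟦1⟧ ≅ ⟦1⟧ ∘ S such that for every distinguished triangle (A,
B, C, f, g, h) the triangle (S A, S B, S C, S f, S g, S h followed by that isomorphism at A) is
distinguished. -/
theorem result
    {k : Type w} [Field k]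
    {T : Type u} [Category.{v} T] [Preadditive T] [Linear k T] [HasZeroObject T] [HasShift T ℤ]
    [∀ n : ℤ, (shiftFunctor T n).Additive] [∀ n : ℤ, (shiftFunctor T n).Linear k] [Pretriangulated T]
    [IsTriangulated T] [∀ X Y : T, Module.Finite k (X ⟶ Y)]
    (S : T ≌ T) [S.functor.Additive] [S.functor.Linear k]
    (c : ∀ X Y : T, (X ⟶ Y) ≃ₗ[k] Module.Dual k (Y ⟶ S.functor.obj X))
    (hc₁ : ∀ (X Y Y' : T) (f : X ⟶ Y) (g : Y ⟶ Y'),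
      c X Y' (f ≫ g) = (c X Y f) ∘ₗ Linear.leftComp k (S.functor.obj X) g)
    (hc₂ : ∀ (X' X Y : T) (a : X' ⟶ X) (f : X ⟶ Y),
      c X' Y (a ≫ f) = (c X Y f) ∘ₗ Linear.rightComp k Y (S.functor.map a)) :
    ∃ e : shiftFunctor T (1 : ℤ) ⋙ S.functor ≅ S.functor ⋙ shiftFunctor T (1 : ℤ),
      ∀ T' ∈ distTriang T,
        Triangle.mk (S.functor.map T'.mor₁) (S.functor.map T'.mor₂)
          (S.functor.map T'.mor₃ ≫ e.hom.app T'.obj₁) ∈ distTriang T := by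
  exact main (S := S.functor) c hc₁ hc₂

end Groth.Agent.S6732
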