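import Groth.Statements.S6778
import Mathlib
-- import your own Groth.Agent.* helpers here

set_option autoImplicit false
open CategoryTheory CategoryTheory.Limits
universe v u
open CategoryTheory CategoryTheory.Abelian

namespace Groth.Agent.S6778

section helpers

open CategoryTheory Limits

variable {A : Type u} [Category.{v} A] [Abelian A]

theorem main6778 {x y z u' v' w : A} (f : x ⟶ y) (g : y ⟶ z) (k : u' ⟶ v') (l : v' ⟶ w) (α : x ⟶ u') (β : y ⟶ v') (γ : z ⟶ w) (h₁ : α ≫ k = f ≫ β) (h₂ : β ≫ l = g ≫ γ) (hkl : k ≫ l = 0) (hex : (ShortComplex.mk k l hkl).Exact) [Epi g] : ∃ hc : cokernel.map α β f k h₁ ≫ cokernel.map β γ g l h₂ = 0, (ShortComplex.mk _ _ hc).Exact := by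
  have hc : cokernel.map α β f k h₁ ≫ cokernel.map β γ g l h₂ = 0 := by
    apply coequalizer.hom_ext
    simp [cokernel.map, reassoc_of% hkl]
  refine ⟨hc, ?_⟩
  rw [ShortComplex.exact_iff_exact_up_to_refinements]
  intro T a ha
  dsimp at a ha ⊢
  -- lift a to v'
  obtain ⟨T₁, π₁, hπ₁, b, hb⟩ := surjective_up_to_refinements_of_epi (cokernel.π β) a
  have h1 : (b ≫ l) ≫ cokernel.π γ = 0 := by
    have : b ≫ cokernel.π β ≫ cokernel.map β γ g l h₂ = 0 := by
      rw [← Category.assoc, ← hb, Category.assoc, ha, comp_zero]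
    simpa [cokernel.map] using this
  obtain ⟨T₂, π₂, hπ₂, c, hc2⟩ :=
    (Limits.CokernelCofork.IsColimit.comp_π_eq_zero_iff_up_to_refinements (cokernelIsCokernel γ) (b ≫ l)).1 h1
  obtain ⟨T₃, π₃, hπ₃, d, hd⟩ := surjective_up_to_refinements_of_epi g c
  have h2 : (π₃ ≫ π₂ ≫ b - d ≫ β) ≫ l = 0 := by
    rw [Preadditive.sub_comp, Category.assoc, Category.assoc, Category.assoc, h₂,
      ← Category.assoc d, ← hd, hc2]
    simp
  obtain ⟨T₄, π₄, hπ₄, e, he⟩ := hex.exact_up_to_refinements (π₃ ≫ π₂ ≫ b - d ≫ β) h2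
  dsimp at e he
  refine ⟨T₄, π₄ ≫ π₃ ≫ π₂ ≫ π₁, inferInstance, e ≫ cokernel.π α, ?_⟩
  have : (e ≫ cokernel.π α) ≫ cokernel.map α β f k h₁ = (e ≫ k) ≫ cokernel.π β := by
    simp [cokernel.map]
  rw [this, ← he]
  simp only [Category.assoc, Preadditive.comp_sub, Preadditive.sub_comp, cokernel.condition, comp_zero, sub_zero]
  rw [hb]

end helpers

/-- For a commutative diagram with rows `x ⟶ y ⟶ z` and `u ⟶ v ⟶ w` in an abelian category, if the
second row is exact and the second map `g` of the first row is an epimorphism, then the induced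
sequence of cokernels of the vertical maps is exact. -/
theorem result {A : Type u} [Category.{v} A] [Abelian A] {x y z u' v' w : A} (f : x ⟶ y) (g : y ⟶ z) (k : u' ⟶ v') (l : v' ⟶ w) (α : x ⟶ u') (β : y ⟶ v') (γ : z ⟶ w) (h₁ : α ≫ k = f ≫ β) (h₂ : β ≫ l = g ≫ γ) (hkl : k ≫ l = 0) (hex : (ShortComplex.mk k l hkl).Exact) [Epi g] : ∃ hc : cokernel.map α β f k h₁ ≫ cokernel.map β γ g l h₂ = 0, (ShortComplex.mk _ _ hc).Exact := by
  exact main6778 f g k l α β γ h₁ h₂ hkl hex

end Groth.Agent.S6778
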