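import Groth.Statements.S6779
import Mathlib

set_option autoImplicit false
open CategoryTheory
universe u
open SSet

namespace Groth.Agent.S6779

open Simplicial

/-- abstract simplicial identities with `ℕ`-indexed faces and degeneracies -/
structure SimpId {G : ℕ → Type u} [∀ n, Group (G n)]
    (d : ∀ n, ℕ → (G (n+1) →* G n)) (s : ∀ n, ℕ → (G n →* G (n+1))) : Prop where
  dd : ∀ (n i j : ℕ) (x : G (n+1+1)), i < j → j ≤ n+2 →
    d n i (d (n+1) j x) = d n (j-1) (d (n+1) i x)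
  ds_lt : ∀ (n i j : ℕ) (x : G (n+1)), i < j → j ≤ n+1 →
    d (n+1) i (s (n+1) j x) = s n (j-1) (d n i x)
  ds_self : ∀ (n j : ℕ) (x : G n), j ≤ n → d n j (s n j x) = x
  ds_succ : ∀ (n j : ℕ) (x : G n), j ≤ n → d n (j+1) (s n j x) = x
  ds_gt : ∀ (n i j : ℕ) (x : G (n+1)), j + 1 < i → i ≤ n+2 →
    d (n+1) i (s (n+1) j x) = s n j (d n (i-1) x)

theorem moore0 {G : ℕ → Type u} [∀ n, Group (G n)]
    {d : ∀ n, ℕ → (G (n+1) →* G n)} {s : ∀ n, ℕ → (G n →* G (n+1))} (h : SimpId d s)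
    (P : ∀ n, G n → Prop) (Ps : ∀ n j a, P n a → P (n+1) (s n j a))
    (k : ℕ) (hk : k ≤ 1) (x : ℕ → G 0) (hP : ∀ j, j ≤ 1 → j ≠ k → P 0 (x j)) :
    ∃ y : G (0+1), P (0+1) y ∧ ∀ j, j ≤ 1 → j ≠ k → d 0 j y = x j := by
  refine ⟨s 0 0 (x (1-k)), Ps _ _ _ (hP (1-k) (by omega) (by omega)), ?_⟩
  intro j hj hjk
  have hj' : j = 1 - k := by omega
  rcases Nat.eq_zero_or_pos j with h0 | h0
  · rw [← hj', h0]; exact h.ds_self 0 0 _ le_rfl
  · have h1 : j = 1 := by omega
    rw [← hj', h1]; exact h.ds_succ 0 0 _ le_rfl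

theorem moore {G : ℕ → Type u} [∀ n, Group (G n)]
    {d : ∀ n, ℕ → (G (n+1) →* G n)} {s : ∀ n, ℕ → (G n →* G (n+1))} (h : SimpId d s)
    (P : ∀ n, G n → Prop)
    (P1 : ∀ n, P n 1) (Pmul : ∀ n a b, P n a → P n b → P n (a*b)) (Pinv : ∀ n a, P n a → P n a⁻¹)
    (Pd : ∀ n j a, P (n+1) a → P n (d n j a)) (Ps : ∀ n j a, P n a → P (n+1) (s n j a))
    (m k : ℕ) (hk : k ≤ m+2) (x : ℕ → G (m+1))
    (hP : ∀ j, j ≤ m+2 → j ≠ k → P (m+1) (x j))
    (compat : ∀ j l, j < l → l ≤ m+2 → j ≠ k → l ≠ k → d m (l-1) (x j) = d m j (x l)) :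
    ∃ y : G (m+1+1), P (m+1+1) y ∧ ∀ j, j ≤ m+2 → j ≠ k → d (m+1) j y = x j := by
  have ph1 : ∀ r, r ≤ k → ∃ y : G (m+1+1), P (m+1+1) y ∧ ∀ j, j < r → d (m+1) j y = x j := by
    intro r
    induction r with
    | zero => intro _; exact ⟨1, P1 _, fun j hj => absurd hj (Nat.not_lt_zero j)⟩
    | succ r ih =>
      intro hr
      obtain ⟨y, hyP, hy⟩ := ih (by omega)
      have hrk : r < k := by omega
      have hPz : P (m+1) ((d (m+1) r y)⁻¹ * x r) :=
        Pmul _ _ _ (Pinv _ _ (Pd _ _ _ hyP)) (hP r (by omega) (by omega))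
      refine ⟨y * s (m+1) r ((d (m+1) r y)⁻¹ * x r), Pmul _ _ _ hyP (Ps _ _ _ hPz), ?_⟩
      intro j hj
      rw [map_mul]
      rcases Nat.lt_succ_iff_lt_or_eq.mp hj with hjr | hjr
      · rw [hy j hjr, h.ds_lt m j r _ hjr (by omega), map_mul, map_inv,
          h.dd m j r y hjr (by omega), hy j hjr,
          compat j r hjr (by omega) (by omega) (by omega), inv_mul_cancel, map_one, mul_one]
      · rw [hjr, h.ds_self (m+1) r _ (by omega), mul_inv_cancel_left]
  have ph2 : ∀ t, t ≤ m+2-k → ∃ y : G (m+1+1), P (m+1+1) y ∧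
      (∀ j, j < k → d (m+1) j y = x j) ∧ (∀ j, m+2-t < j → j ≤ m+2 → d (m+1) j y = x j) := by
    intro t
    induction t with
    | zero =>
      intro _
      obtain ⟨y, hyP, hy⟩ := ph1 k le_rfl
      exact ⟨y, hyP, hy, fun j h1 h2 => by omega⟩
    | succ t ih =>
      intro ht
      obtain ⟨y, hyP, hy1, hy2⟩ := ih (by omega)
      obtain ⟨r, hr⟩ : ∃ r, r = m+2-t := ⟨_, rfl⟩
      have hrk : k < r := by omega
      have hr2 : r ≤ m+2 := by omega
      have hPz : P (m+1) ((d (m+1) r y)⁻¹ * x r) :=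
        Pmul _ _ _ (Pinv _ _ (Pd _ _ _ hyP)) (hP r hr2 (by omega))
      refine ⟨y * s (m+1) (r-1) ((d (m+1) r y)⁻¹ * x r), Pmul _ _ _ hyP (Ps _ _ _ hPz), ?_, ?_⟩
      · intro j hj
        rw [map_mul, hy1 j hj, h.ds_lt m j (r-1) _ (by omega) (by omega), map_mul, map_inv,
          h.dd m j r y (by omega) hr2, hy1 j hj,
          compat j r (by omega) hr2 (by omega) (by omega), inv_mul_cancel, map_one, mul_one]
      · intro j hj1 hj2
        rw [map_mul]
        rcases Nat.eq_or_lt_of_le (show r ≤ j by omega) with hjr | hjr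
        · rw [← hjr]
          have e := h.ds_succ (m+1) (r-1) ((d (m+1) r y)⁻¹ * x r) (by omega)
          rw [show r - 1 + 1 = r by omega] at e
          rw [e, mul_inv_cancel_left]
        · have e1 := h.dd m r j y hjr hj2
          rw [hy2 j (by omega) hj2, h.ds_gt m j (r-1) _ (by omega) hj2, map_mul, map_inv,
            ← e1, hy2 j (by omega) hj2, compat r j hjr hj2 (by omega) (by omega),
            inv_mul_cancel, map_one, mul_one]
  obtain ⟨y, hyP, hy1, hy2⟩ := ph2 (m+2-k) le_rfl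
  refine ⟨y, hyP, fun j hj hjk => ?_⟩
  rcases Nat.lt_or_gt_of_ne hjk with h1 | h1
  · exact hy1 j h1
  · exact hy2 j (by omega) hj

/-- the groups of simplices of a simplicial group -/
abbrev GX (X : SimplicialObject GrpCat.{u}) (n : ℕ) : Type u := (X _⦋n⦌ : Type u)

noncomputable def dG (X : SimplicialObject GrpCat.{u}) (n j : ℕ) : GX X (n+1) →* GX X n :=
  if h : j < n+2 then (X.δ ⟨j, h⟩).hom else 1

noncomputable def sG (X : SimplicialObject GrpCat.{u}) (n j : ℕ) : GX X n →* GX X (n+1) :=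
  if h : j < n+1 then (X.σ ⟨j, h⟩).hom else 1

theorem dG_eq (X : SimplicialObject GrpCat.{u}) (n j : ℕ) (h : j < n+2) :
    dG X n j = (X.δ ⟨j, h⟩).hom := dif_pos h

theorem sG_eq (X : SimplicialObject GrpCat.{u}) (n j : ℕ) (h : j < n+1) :
    sG X n j = (X.σ ⟨j, h⟩).hom := dif_pos h

theorem simpId (X : SimplicialObject GrpCat.{u}) : SimpId (G := GX X) (dG X) (sG X) where
  dd := by
    intro n i j x hij hj
    obtain ⟨j', rfl⟩ : ∃ j', j = j'+1 := ⟨j-1, by omega⟩
    rw [Nat.add_sub_cancel, dG_eq X n i (by omega), dG_eq X (n+1) (j'+1) (by omega),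
      dG_eq X n j' (by omega), dG_eq X (n+1) i (by omega)]
    have e := ConcreteCategory.congr_hom (X.δ_comp_δ (n := n) (i := ⟨i, by omega⟩)
      (j := ⟨j', by omega⟩) (Fin.mk_le_mk.mpr (by omega))) x
    simp only [ConcreteCategory.comp_apply] at e
    exact e
  ds_lt := by
    intro n i j x hij hj
    obtain ⟨j', rfl⟩ : ∃ j', j = j'+1 := ⟨j-1, by omega⟩
    rw [Nat.add_sub_cancel, dG_eq X (n+1) i (by omega), sG_eq X (n+1) (j'+1) (by omega),
      sG_eq X n j' (by omega), dG_eq X n i (by omega)]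
    have e := ConcreteCategory.congr_hom (X.δ_comp_σ_of_le (n := n) (i := ⟨i, by omega⟩)
      (j := ⟨j', by omega⟩) (Fin.le_def.mpr (by show i ≤ j'; omega))) x
    simp only [ConcreteCategory.comp_apply] at e
    exact e
  ds_self := by
    intro n j x hj
    rw [dG_eq X n j (by omega), sG_eq X n j (by omega)]
    have e := ConcreteCategory.congr_hom (X.δ_comp_σ_self (n := n) (i := ⟨j, by omega⟩)) x
    simp only [ConcreteCategory.comp_apply, ConcreteCategory.id_apply] at e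
    exact e
  ds_succ := by
    intro n j x hj
    rw [dG_eq X n (j+1) (by omega), sG_eq X n j (by omega)]
    have e := ConcreteCategory.congr_hom (X.δ_comp_σ_succ (n := n) (i := ⟨j, by omega⟩)) x
    simp only [ConcreteCategory.comp_apply, ConcreteCategory.id_apply] at e
    exact e
  ds_gt := by
    intro n i j x hij hi
    obtain ⟨i', rfl⟩ : ∃ i', i = i'+1 := ⟨i-1, by omega⟩
    rw [Nat.add_sub_cancel, dG_eq X (n+1) (i'+1) (by omega), sG_eq X (n+1) j (by omega),
      sG_eq X n j (by omega), dG_eq X n i' (by omega)]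
    have e := ConcreteCategory.congr_hom (X.δ_comp_σ_of_gt (n := n) (i := ⟨i', by omega⟩)
      (j := ⟨j, by omega⟩) (Fin.lt_def.mpr (by show j < i'; omega))) x
    simp only [ConcreteCategory.comp_apply] at e
    exact e



/-- The underlying simplicial set of a simplicial group is a Kan complex. -/
theorem result (X : SimplicialObject GrpCat.{u}) : SSet.KanComplex (X ⋙ forget GrpCat.{u}) := by
  rw [SSet.KanComplex.iff]
  intro n i f hf
  classical
  obtain ⟨x, hx⟩ : ∃ x : ℕ → GX X n, ∀ (j : Fin (n+2)) (hj : j ≠ i),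
      x j.val = SSet.yonedaEquiv (f j hj) := by
    refine ⟨fun a => if h1 : a < n+2 then
      (if h2 : (⟨a, h1⟩ : Fin (n+2)) ≠ i then SSet.yonedaEquiv (f ⟨a, h1⟩ h2) else 1) else 1, ?_⟩
    intro j hj
    have hj' : (⟨j.val, j.isLt⟩ : Fin (n+2)) ≠ i := hj
    beta_reduce
    rw [dif_pos j.isLt, dif_pos hj']
  have hS := simpId X
  have key : ∃ y : GX X (n+1), ∀ j, j ≤ n+1 → j ≠ i.val → dG X n j y = x j := by
    cases n with
    | zero =>
      obtain ⟨y, -, hy⟩ := moore0 hS (fun _ _ => True) (fun _ _ _ _ => trivial) i.val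
        (by have := i.isLt; omega) x (fun _ _ _ => trivial)
      exact ⟨y, hy⟩
    | succ m =>
      obtain ⟨y, -, hy⟩ := moore hS (fun _ _ => True) (fun _ => trivial)
        (fun _ _ _ _ _ => trivial) (fun _ _ _ => trivial) (fun _ _ _ _ => trivial)
        (fun _ _ _ _ => trivial) m i.val (by have := i.isLt; omega) x (fun _ _ _ => trivial) (by
          intro j l hjl hl hjk hlk
          have hj2 : j < m+1+2 := by omega
          have hl2 : l < m+1+2 := by omega
          have hj' : (⟨j, hj2⟩ : Fin (m+1+2)) ≠ i := fun h => hjk (by rw [← h])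
          have hl' : (⟨l, hl2⟩ : Fin (m+1+2)) ≠ i := fun h => hlk (by rw [← h])
          have hjl' : (⟨j, hj2⟩ : Fin (m+1+2)) < ⟨l, hl2⟩ := Fin.mk_lt_mk.mpr hjl
          have e := congrArg SSet.yonedaEquiv (hf ⟨j, hj2⟩ ⟨l, hl2⟩ hj' hl' hjl')
          rw [SSet.stdSimplex.yonedaEquiv_δ_comp, SSet.stdSimplex.yonedaEquiv_δ_comp,
            ← hx ⟨j, hj2⟩ hj', ← hx ⟨l, hl2⟩ hl'] at e
          rw [dG_eq X m (l-1) (by omega), dG_eq X m j (by omega)]
          exact e)
      exact ⟨y, hy⟩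
  obtain ⟨y, hy⟩ := key
  refine ⟨(SSet.yonedaEquiv (X := X ⋙ forget GrpCat.{u}) (n := ⦋n+1⦌)).symm y, ?_⟩
  intro j hj
  rw [SSet.stdSimplex.δ_comp_yonedaEquiv_symm, Equiv.symm_apply_eq, ← hx j hj]
  have e := hy j.val (by have := j.isLt; omega) (fun h => hj (Fin.ext h))
  rw [dG_eq X n j.val j.isLt] at e
  exact e


end Groth.Agent.S6779
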