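import Groth.Statements.S6780
import Mathlib
import Groth.Agent.S6779

set_option autoImplicit false
open CategoryTheory
universe u
open SSet

namespace Groth.Agent.S6780

open Simplicial
open Groth.Agent.S6779 (SimpId moore moore0)

theorem moore_rel0 {G H : ℕ → Type u} [∀ n, Group (G n)] [∀ n, Group (H n)]
    {d : ∀ n, ℕ → (G (n+1) →* G n)} {s : ∀ n, ℕ → (G n →* G (n+1))} (h : SimpId d s)
    (d' : ∀ n, ℕ → (H (n+1) →* H n)) (s' : ∀ n, ℕ → (H n →* H (n+1)))
    (φ : ∀ n, G n →* H n)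
    (hφd : ∀ n j a, φ n (d n j a) = d' n j (φ (n+1) a))
    (hφs : ∀ n j a, φ (n+1) (s n j a) = s' n j (φ n a))
    (surj : ∀ n, Function.Surjective (φ n))
    (k : ℕ) (hk : k ≤ 1) (x : ℕ → G 0) (yb : H (0+1))
    (hyb : ∀ j, j ≤ 1 → j ≠ k → d' 0 j yb = φ 0 (x j)) :
    ∃ y : G (0+1), (∀ j, j ≤ 1 → j ≠ k → d 0 j y = x j) ∧ φ (0+1) y = yb := by
  obtain ⟨z₀, hz₀⟩ := surj (0+1) yb
  obtain ⟨w, hw, hwd⟩ := moore0 h (fun n a => φ n a = 1)
    (fun n j a ha => by
      show φ (n+1) (s n j a) = 1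
      rw [hφs, show φ n a = 1 from ha, map_one])
    k hk (fun j => (d 0 j z₀)⁻¹ * x j)
    (fun j hj hjk => by
      show φ 0 ((d 0 j z₀)⁻¹ * x j) = 1
      rw [map_mul, map_inv, hφd, hz₀, hyb j hj hjk, inv_mul_cancel])
  have hw' : φ (0+1) w = 1 := hw
  refine ⟨z₀ * w, fun j hj hjk => ?_, ?_⟩
  · rw [map_mul, hwd j hj hjk, mul_inv_cancel_left]
  · rw [map_mul, hw', mul_one, hz₀]

theorem moore_rel {G H : ℕ → Type u} [∀ n, Group (G n)] [∀ n, Group (H n)]
    {d : ∀ n, ℕ → (G (n+1) →* G n)} {s : ∀ n, ℕ → (G n →* G (n+1))} (h : SimpId d s)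
    (d' : ∀ n, ℕ → (H (n+1) →* H n)) (s' : ∀ n, ℕ → (H n →* H (n+1)))
    (φ : ∀ n, G n →* H n)
    (hφd : ∀ n j a, φ n (d n j a) = d' n j (φ (n+1) a))
    (hφs : ∀ n j a, φ (n+1) (s n j a) = s' n j (φ n a))
    (surj : ∀ n, Function.Surjective (φ n))
    (m k : ℕ) (hk : k ≤ m+2) (x : ℕ → G (m+1)) (yb : H (m+1+1))
    (hyb : ∀ j, j ≤ m+2 → j ≠ k → d' (m+1) j yb = φ (m+1) (x j))
    (compat : ∀ j l, j < l → l ≤ m+2 → j ≠ k → l ≠ k → d m (l-1) (x j) = d m j (x l)) :
    ∃ y : G (m+1+1), (∀ j, j ≤ m+2 → j ≠ k → d (m+1) j y = x j) ∧ φ (m+1+1) y = yb := by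
  obtain ⟨z₀, hz₀⟩ := surj (m+1+1) yb
  obtain ⟨w, hw, hwd⟩ := moore h (fun n a => φ n a = 1)
    (fun n => map_one _)
    (fun n a b ha hb => by
      show φ n (a*b) = 1
      rw [map_mul, show φ n a = 1 from ha, show φ n b = 1 from hb, mul_one])
    (fun n a ha => by
      show φ n a⁻¹ = 1
      rw [map_inv, show φ n a = 1 from ha, inv_one])
    (fun n j a ha => by
      show φ n (d n j a) = 1
      rw [hφd, show φ (n+1) a = 1 from ha, map_one])
    (fun n j a ha => by
      show φ (n+1) (s n j a) = 1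
      rw [hφs, show φ n a = 1 from ha, map_one])
    m k hk (fun j => (d (m+1) j z₀)⁻¹ * x j)
    (fun j hj hjk => by
      show φ (m+1) ((d (m+1) j z₀)⁻¹ * x j) = 1
      rw [map_mul, map_inv, hφd, hz₀, hyb j hj hjk, inv_mul_cancel])
    (fun j l hjl hl hjk hlk => by
      show d m (l-1) ((d (m+1) j z₀)⁻¹ * x j) = d m j ((d (m+1) l z₀)⁻¹ * x l)
      rw [map_mul, map_inv, map_mul, map_inv, h.dd m j l z₀ hjl hl, compat j l hjl hl hjk hlk])
  have hw' : φ (m+1+1) w = 1 := hw
  refine ⟨z₀ * w, fun j hj hjk => ?_, ?_⟩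
  · rw [map_mul, hwd j hj hjk, mul_inv_cancel_left]
  · rw [map_mul, hw', mul_one, hz₀]

/-- the (multiplicative) groups of simplices of a simplicial abelian group -/
abbrev GA (X : SimplicialObject AddCommGrpCat.{u}) (n : ℕ) : Type u :=
  Multiplicative (X _⦋n⦌ : Type u)

noncomputable def dA (X : SimplicialObject AddCommGrpCat.{u}) (n j : ℕ) : GA X (n+1) →* GA X n :=
  if h : j < n+2 then AddMonoidHom.toMultiplicative (X.δ ⟨j, h⟩).hom else 1

noncomputable def sA (X : SimplicialObject AddCommGrpCat.{u}) (n j : ℕ) : GA X n →* GA X (n+1) :=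
  if h : j < n+1 then AddMonoidHom.toMultiplicative (X.σ ⟨j, h⟩).hom else 1

theorem dA_apply (X : SimplicialObject AddCommGrpCat.{u}) (n j : ℕ) (h : j < n+2)
    (a : GA X (n+1)) :
    dA X n j a = Multiplicative.ofAdd ((X.δ ⟨j, h⟩).hom (Multiplicative.toAdd a)) := by
  rw [dA, dif_pos h]; rfl

theorem sA_apply (X : SimplicialObject AddCommGrpCat.{u}) (n j : ℕ) (h : j < n+1)
    (a : GA X n) :
    sA X n j a = Multiplicative.ofAdd ((X.σ ⟨j, h⟩).hom (Multiplicative.toAdd a)) := by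
  rw [sA, dif_pos h]; rfl

theorem dA_neg (X : SimplicialObject AddCommGrpCat.{u}) (n j : ℕ) (h : ¬ j < n+2) :
    dA X n j = 1 := dif_neg h

theorem sA_neg (X : SimplicialObject AddCommGrpCat.{u}) (n j : ℕ) (h : ¬ j < n+1) :
    sA X n j = 1 := dif_neg h

theorem simpIdA (X : SimplicialObject AddCommGrpCat.{u}) :
    SimpId (G := GA X) (dA X) (sA X) where
  dd := by
    intro n i j x hij hj
    obtain ⟨j', rfl⟩ : ∃ j', j = j'+1 := ⟨j-1, by omega⟩
    rw [Nat.add_sub_cancel, dA_apply X (n+1) (j'+1) (by omega), dA_apply X n i (by omega),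
      dA_apply X (n+1) i (by omega), dA_apply X n j' (by omega)]
    have e := ConcreteCategory.congr_hom (X.δ_comp_δ (n := n) (i := ⟨i, by omega⟩)
      (j := ⟨j', by omega⟩) (Fin.mk_le_mk.mpr (by omega))) (Multiplicative.toAdd x)
    simp only [ConcreteCategory.comp_apply] at e
    exact congrArg Multiplicative.ofAdd e
  ds_lt := by
    intro n i j x hij hj
    obtain ⟨j', rfl⟩ : ∃ j', j = j'+1 := ⟨j-1, by omega⟩
    rw [Nat.add_sub_cancel, sA_apply X (n+1) (j'+1) (by omega), dA_apply X (n+1) i (by omega),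
      dA_apply X n i (by omega), sA_apply X n j' (by omega)]
    have e := ConcreteCategory.congr_hom (X.δ_comp_σ_of_le (n := n) (i := ⟨i, by omega⟩)
      (j := ⟨j', by omega⟩) (Fin.le_def.mpr (by show i ≤ j'; omega))) (Multiplicative.toAdd x)
    simp only [ConcreteCategory.comp_apply] at e
    exact congrArg Multiplicative.ofAdd e
  ds_self := by
    intro n j x hj
    rw [sA_apply X n j (by omega), dA_apply X n j (by omega)]
    have e := ConcreteCategory.congr_hom (X.δ_comp_σ_self (n := n) (i := ⟨j, by omega⟩))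
      (Multiplicative.toAdd x)
    simp only [ConcreteCategory.comp_apply, ConcreteCategory.id_apply] at e
    exact congrArg Multiplicative.ofAdd e
  ds_succ := by
    intro n j x hj
    rw [sA_apply X n j (by omega), dA_apply X n (j+1) (by omega)]
    have e := ConcreteCategory.congr_hom (X.δ_comp_σ_succ (n := n) (i := ⟨j, by omega⟩))
      (Multiplicative.toAdd x)
    simp only [ConcreteCategory.comp_apply, ConcreteCategory.id_apply] at e
    exact congrArg Multiplicative.ofAdd e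
  ds_gt := by
    intro n i j x hij hi
    obtain ⟨i', rfl⟩ : ∃ i', i = i'+1 := ⟨i-1, by omega⟩
    rw [Nat.add_sub_cancel, sA_apply X (n+1) j (by omega), dA_apply X (n+1) (i'+1) (by omega),
      dA_apply X n i' (by omega), sA_apply X n j (by omega)]
    have e := ConcreteCategory.congr_hom (X.δ_comp_σ_of_gt (n := n) (i := ⟨i', by omega⟩)
      (j := ⟨j, by omega⟩) (Fin.lt_def.mpr (by show j < i'; omega))) (Multiplicative.toAdd x)
    simp only [ConcreteCategory.comp_apply] at e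
    exact congrArg Multiplicative.ofAdd e

noncomputable def phiA {X Y : SimplicialObject AddCommGrpCat.{u}} (f : X ⟶ Y) (n : ℕ) :
    GA X n →* GA Y n :=
  AddMonoidHom.toMultiplicative (f.app (Opposite.op ⦋n⦌)).hom

theorem phiA_apply {X Y : SimplicialObject AddCommGrpCat.{u}} (f : X ⟶ Y) (n : ℕ) (a : GA X n) :
    phiA f n a = Multiplicative.ofAdd ((f.app (Opposite.op ⦋n⦌)).hom (Multiplicative.toAdd a)) :=
  rfl

theorem phiA_d {X Y : SimplicialObject AddCommGrpCat.{u}} (f : X ⟶ Y) (n j : ℕ)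
    (a : GA X (n+1)) : phiA f n (dA X n j a) = dA Y n j (phiA f (n+1) a) := by
  by_cases h : j < n+2
  · rw [dA_apply X n j h, dA_apply Y n j h, phiA_apply, phiA_apply]
    have e := ConcreteCategory.congr_hom (f.naturality (SimplexCategory.δ ⟨j, h⟩).op)
      (Multiplicative.toAdd a)
    simp only [ConcreteCategory.comp_apply] at e
    exact congrArg Multiplicative.ofAdd e
  · rw [dA_neg X n j h, dA_neg Y n j h, MonoidHom.one_apply, MonoidHom.one_apply, map_one]

theorem phiA_s {X Y : SimplicialObject AddCommGrpCat.{u}} (f : X ⟶ Y) (n j : ℕ)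
    (a : GA X n) : phiA f (n+1) (sA X n j a) = sA Y n j (phiA f n a) := by
  by_cases h : j < n+1
  · rw [sA_apply X n j h, sA_apply Y n j h, phiA_apply, phiA_apply]
    have e := ConcreteCategory.congr_hom (f.naturality (SimplexCategory.σ ⟨j, h⟩).op)
      (Multiplicative.toAdd a)
    simp only [ConcreteCategory.comp_apply] at e
    exact congrArg Multiplicative.ofAdd e
  · rw [sA_neg X n j h, sA_neg Y n j h, MonoidHom.one_apply, MonoidHom.one_apply, map_one]

theorem phiA_surj {X Y : SimplicialObject AddCommGrpCat.{u}} (f : X ⟶ Y)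
    (hf : ∀ n : SimplexCategoryᵒᵖ, Function.Surjective (f.app n)) (n : ℕ) :
    Function.Surjective (phiA f n) := by
  intro b
  obtain ⟨a, ha⟩ := hf (Opposite.op ⦋n⦌) (Multiplicative.toAdd b)
  exact ⟨Multiplicative.ofAdd a, congrArg Multiplicative.ofAdd ha⟩



/-- A degreewise surjective homomorphism of simplicial abelian groups is a Kan fibration of the
underlying simplicial sets. -/
theorem result {X Y : SimplicialObject AddCommGrpCat.{u}} (f : X ⟶ Y) (hf : ∀ n : SimplexCategoryᵒᵖ, Function.Surjective (f.app n)) : SSet.modelCategoryQuillen.J.rlp (X := X ⋙ forget AddCommGrpCat.{u}) (Y := Y ⋙ forget AddCommGrpCat.{u}) (Functor.whiskerRight f (forget AddCommGrpCat.{u})) := by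
  intro A B ι hι
  simp only [SSet.modelCategoryQuillen.J, MorphismProperty.iSup_iff] at hι
  obtain ⟨n, ⟨i⟩⟩ := hι
  clear X Y
  refine ⟨fun {t b} sq => ?_⟩
  classical
  obtain ⟨x, hx⟩ : ∃ x : ℕ → GA X n, ∀ (j : Fin (n+2)) (hj : j ≠ i),
      x j.val = Multiplicative.ofAdd (SSet.yonedaEquiv (SSet.horn.ι i j hj ≫ t)) := by
    refine ⟨fun a => if h1 : a < n+2 then
      (if h2 : (⟨a, h1⟩ : Fin (n+2)) ≠ i then
        Multiplicative.ofAdd (SSet.yonedaEquiv (SSet.horn.ι i ⟨a, h1⟩ h2 ≫ t)) else 1) else 1, ?_⟩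
    intro j hj
    have hj' : (⟨j.val, j.isLt⟩ : Fin (n+2)) ≠ i := hj
    beta_reduce
    rw [dif_pos j.isLt, dif_pos hj']
  have hS := simpIdA X
  have hface : ∀ j, j ≤ n+1 → j ≠ i.val →
      dA Y n j (Multiplicative.ofAdd (SSet.yonedaEquiv b)) = phiA f n (x j) := by
    intro j hj hji
    have hj2 : j < n+2 := by omega
    have hj' : (⟨j, hj2⟩ : Fin (n+2)) ≠ i := fun h => hji (by rw [← h])
    rw [show x j = _ from hx ⟨j, hj2⟩ hj', dA_apply Y n j hj2, phiA_apply]
    have e2 : SSet.yonedaEquiv ((SSet.horn.ι i ⟨j, hj2⟩ hj' ≫ t) ≫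
          Functor.whiskerRight f (forget AddCommGrpCat.{u})) =
        SSet.yonedaEquiv (SSet.stdSimplex.δ ⟨j, hj2⟩ ≫ b) := by
      rw [Category.assoc, sq.w, SSet.horn.ι_ι_assoc]
    rw [SSet.stdSimplex.yonedaEquiv_δ_comp, SSet.yonedaEquiv_comp] at e2
    exact congrArg Multiplicative.ofAdd e2.symm
  have key : ∃ y : GA X (n+1), (∀ j, j ≤ n+1 → j ≠ i.val → dA X n j y = x j) ∧
      phiA f (n+1) y = Multiplicative.ofAdd (SSet.yonedaEquiv b) := by
    cases n with
    | zero =>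
      exact moore_rel0 hS (dA Y) (sA Y) (phiA f) (phiA_d f) (phiA_s f) (phiA_surj f hf) i.val
        (by have := i.isLt; omega) x _ hface
    | succ m =>
      refine moore_rel hS (dA Y) (sA Y) (phiA f) (phiA_d f) (phiA_s f) (phiA_surj f hf) m i.val
        (by have := i.isLt; omega) x _ hface ?_
      intro j l hjl hl hjk hlk
      have hj2 : j < m+1+2 := by omega
      have hl2 : l < m+1+2 := by omega
      have hj' : (⟨j, hj2⟩ : Fin (m+1+2)) ≠ i := fun h => hjk (by rw [← h])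
      have hl' : (⟨l, hl2⟩ : Fin (m+1+2)) ≠ i := fun h => hlk (by rw [← h])
      have hjl' : (⟨j, hj2⟩ : Fin (m+1+2)) < ⟨l, hl2⟩ := Fin.mk_lt_mk.mpr hjl
      have e := congrArg SSet.yonedaEquiv
        ((SSet.horn.IsCompatible.of_hom t) ⟨j, hj2⟩ ⟨l, hl2⟩ hj' hl' hjl')
      rw [SSet.stdSimplex.yonedaEquiv_δ_comp, SSet.stdSimplex.yonedaEquiv_δ_comp] at e
      rw [show x j = _ from hx ⟨j, hj2⟩ hj', show x l = _ from hx ⟨l, hl2⟩ hl',
        dA_apply X m (l-1) (by omega), dA_apply X m j (by omega)]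
      exact congrArg Multiplicative.ofAdd e
  obtain ⟨y, hy1, hy2⟩ := key
  refine ⟨⟨{ l := (SSet.yonedaEquiv (X := X ⋙ forget AddCommGrpCat.{u}) (n := ⦋n+1⦌)).symm
              (Multiplicative.toAdd y)
             fac_left := ?_
             fac_right := ?_ }⟩⟩
  · apply SSet.horn.hom_ext'
    intro j hj
    rw [SSet.horn.ι_ι_assoc, SSet.stdSimplex.δ_comp_yonedaEquiv_symm, Equiv.symm_apply_eq]
    have e := hy1 j.val (by have := j.isLt; omega) (fun h => hj (Fin.ext h))
    rw [dA_apply X n j.val j.isLt, hx j hj] at e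
    exact Multiplicative.ofAdd.injective e
  · rw [SSet.yonedaEquiv_symm_comp, Equiv.symm_apply_eq]
    rw [phiA_apply] at hy2
    exact Multiplicative.ofAdd.injective hy2


end Groth.Agent.S6780
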