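import Groth.Statements.S6781
import Mathlib
import Groth.Agent.S6779
import Groth.Agent.S6780

set_option autoImplicit false
open CategoryTheory
universe u
open SSet

namespace Groth.Agent.S6781

open Simplicial Opposite
open Groth.Agent.S6779 (SimpId moore moore0)
open Groth.Agent.S6780 (moore_rel0 moore_rel GA dA sA dA_apply sA_apply simpIdA phiA phiA_apply
  phiA_d phiA_s phiA_surj)

theorem sphere_rel0 {G H : ℕ → Type u} [∀ n, Group (G n)] [∀ n, Group (H n)]
    {d : ∀ n, ℕ → (G (n+1) →* G n)} {s : ∀ n, ℕ → (G n →* G (n+1))} (h : SimpId d s)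
    (d' : ∀ n, ℕ → (H (n+1) →* H n)) (s' : ∀ n, ℕ → (H n →* H (n+1)))
    (φ : ∀ n, G n →* H n)
    (hφd : ∀ n j a, φ n (d n j a) = d' n j (φ (n+1) a))
    (hφs : ∀ n j a, φ (n+1) (s n j a) = s' n j (φ n a))
    (surj : ∀ n, Function.Surjective (φ n))
    (star0 : ∀ x : G 0, φ 0 x = 1 →
      ∃ u : G (0+1), φ (0+1) u = 1 ∧ d 0 0 u = x ∧ d 0 1 u = 1)
    (x : ℕ → G 0) (yb : H (0+1))
    (hyb : ∀ j, j ≤ 1 → d' 0 j yb = φ 0 (x j)) :
    ∃ y : G (0+1), (∀ j, j ≤ 1 → d 0 j y = x j) ∧ φ (0+1) y = yb := by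
  obtain ⟨y₁, hy₁, hφy₁⟩ := moore_rel0 h d' s' φ hφd hφs surj 0 (by omega) x yb
    (fun j hj _ => hyb j hj)
  obtain ⟨u, hφu, hu0, hu1⟩ := star0 ((d 0 0 y₁)⁻¹ * x 0)
    (by rw [map_mul, map_inv, hφd, hφy₁, hyb 0 (by omega), inv_mul_cancel])
  refine ⟨y₁ * u, fun j hj => ?_, ?_⟩
  · rw [map_mul]
    rcases Nat.eq_zero_or_pos j with h0 | h0
    · rw [h0, hu0, mul_inv_cancel_left]
    · have h1 : j = 1 := by omega
      rw [h1, hy₁ 1 (by omega) (by omega), hu1, mul_one]
  · rw [map_mul, hφy₁, hφu, mul_one]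

theorem sphere_rel {G H : ℕ → Type u} [∀ n, Group (G n)] [∀ n, Group (H n)]
    {d : ∀ n, ℕ → (G (n+1) →* G n)} {s : ∀ n, ℕ → (G n →* G (n+1))} (h : SimpId d s)
    (d' : ∀ n, ℕ → (H (n+1) →* H n)) (s' : ∀ n, ℕ → (H n →* H (n+1)))
    (φ : ∀ n, G n →* H n)
    (hφd : ∀ n j a, φ n (d n j a) = d' n j (φ (n+1) a))
    (hφs : ∀ n j a, φ (n+1) (s n j a) = s' n j (φ n a))
    (surj : ∀ n, Function.Surjective (φ n))
    (m : ℕ)
    (star : ∀ x : G (m+1), φ (m+1) x = 1 → (∀ j, j ≤ m+1 → d m j x = 1) →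
      ∃ u : G (m+1+1), φ (m+1+1) u = 1 ∧ d (m+1) 0 u = x ∧
        ∀ j, 1 ≤ j → j ≤ m+2 → d (m+1) j u = 1)
    (x : ℕ → G (m+1)) (yb : H (m+1+1))
    (hyb : ∀ j, j ≤ m+2 → d' (m+1) j yb = φ (m+1) (x j))
    (compat : ∀ j l, j < l → l ≤ m+2 → d m (l-1) (x j) = d m j (x l)) :
    ∃ y : G (m+1+1), (∀ j, j ≤ m+2 → d (m+1) j y = x j) ∧ φ (m+1+1) y = yb := by
  obtain ⟨y₁, hy₁, hφy₁⟩ := moore_rel h d' s' φ hφd hφs surj m 0 (by omega) x yb
    (fun j hj _ => hyb j hj) (fun j l hjl hl _ _ => compat j l hjl hl)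
  obtain ⟨u, hφu, hu0, huj⟩ := star ((d (m+1) 0 y₁)⁻¹ * x 0)
    (by rw [map_mul, map_inv, hφd, hφy₁, hyb 0 (by omega), inv_mul_cancel])
    (fun j hj => by
      rw [map_mul, map_inv]
      have e1 := h.dd m 0 (j+1) y₁ (by omega) (by omega)
      rw [Nat.add_sub_cancel] at e1
      rw [← e1, hy₁ (j+1) (by omega) (by omega)]
      have e2 := compat 0 (j+1) (by omega) (by omega)
      rw [Nat.add_sub_cancel] at e2
      rw [e2, inv_mul_cancel])
  refine ⟨y₁ * u, fun j hj => ?_, ?_⟩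
  · rw [map_mul]
    rcases Nat.eq_zero_or_pos j with h0 | h0
    · rw [h0, hu0, mul_inv_cancel_left]
    · rw [hy₁ j hj (by omega), huj j h0 hj, mul_one]
  · rw [map_mul, hφy₁, hφu, mul_one]

set_option backward.isDefEq.respectTransparency false in
theorem ab_quasiIso_elem {S₁ S₂ : ShortComplex AddCommGrpCat.{u}} (φ : S₁ ⟶ S₂)
    (hφ : ShortComplex.QuasiIso φ) :
    (∀ z : S₁.X₂, S₁.g z = 0 → (∃ w : S₂.X₁, S₂.f w = φ.τ₂ z) → ∃ c : S₁.X₁, S₁.f c = z) ∧
    (∀ w : S₂.X₂, S₂.g w = 0 →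
      ∃ z : S₁.X₂, S₁.g z = 0 ∧ ∃ e : S₂.X₁, w = φ.τ₂ z + S₂.f e) := by
  obtain ⟨γ⟩ : Nonempty (ShortComplex.LeftHomologyMapData φ S₁.abLeftHomologyData
    S₂.abLeftHomologyData) := ⟨default⟩
  have hiso : IsIso γ.φH := γ.quasiIso_iff.mp hφ
  have hbij : Function.Bijective γ.φH := ConcreteCategory.bijective_of_isIso γ.φH
  let φK' : AddMonoidHom.ker S₁.g.hom → AddMonoidHom.ker S₂.g.hom := fun z => γ.φK z
  have hK : ∀ z : AddMonoidHom.ker S₁.g.hom, (φK' z).val = φ.τ₂ z.val := by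
    intro z
    have e := ConcreteCategory.congr_hom γ.commi z
    simp only [ConcreteCategory.comp_apply] at e
    exact e
  have hH : ∀ z : AddMonoidHom.ker S₁.g.hom,
      γ.φH (QuotientAddGroup.mk z : _ ⧸ AddMonoidHom.range S₁.abToCycles) =
        (QuotientAddGroup.mk (φK' z) : _ ⧸ AddMonoidHom.range S₂.abToCycles) := by
    intro z
    have e := ConcreteCategory.congr_hom γ.commπ z
    simp only [ConcreteCategory.comp_apply] at e
    exact e
  constructor
  · intro z hz ⟨w, hw⟩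
    obtain ⟨z', hz'⟩ : ∃ z' : AddMonoidHom.ker S₁.g.hom, (z' : S₁.X₂) = z :=
      ⟨⟨z, AddMonoidHom.mem_ker.mpr hz⟩, rfl⟩
    have h0 : γ.φH (QuotientAddGroup.mk z' : _ ⧸ AddMonoidHom.range S₁.abToCycles) = 0 := by
      rw [hH, QuotientAddGroup.eq_zero_iff]
      refine ⟨w, Subtype.ext ?_⟩
      rw [hK, hz']
      exact hw
    have h1 : (QuotientAddGroup.mk z' : _ ⧸ AddMonoidHom.range S₁.abToCycles) = 0 :=
      hbij.1 (by rw [h0, map_zero])
    obtain ⟨c, hc⟩ := (QuotientAddGroup.eq_zero_iff z').mp h1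
    exact ⟨c, (congrArg Subtype.val hc).trans hz'⟩
  · intro w hw
    obtain ⟨w', hw'⟩ : ∃ w' : AddMonoidHom.ker S₂.g.hom, (w' : S₂.X₂) = w :=
      ⟨⟨w, AddMonoidHom.mem_ker.mpr hw⟩, rfl⟩
    obtain ⟨q, hq⟩ := hbij.2
      (QuotientAddGroup.mk w' : _ ⧸ AddMonoidHom.range S₂.abToCycles)
    obtain ⟨z', rfl⟩ := QuotientAddGroup.mk_surjective q
    rw [hH, QuotientAddGroup.eq] at hq
    obtain ⟨e, he⟩ := hq
    refine ⟨z'.val, AddMonoidHom.mem_ker.mp z'.2, e, ?_⟩
    have he' := congrArg Subtype.val he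
    rw [AddSubgroup.coe_add, AddSubgroup.coe_neg, hK, hw'] at he'
    have he2 : S₂.f e = -φ.τ₂ z'.val + w := he'
    rw [he2]
    abel

theorem qi_surj_succ {K L : ChainComplex AddCommGrpCat.{u} ℕ} (F : K ⟶ L) (hF : QuasiIso F)
    (m : ℕ) (w : L.X (m+1)) (hw : L.d (m+1) m w = 0) :
    ∃ z : K.X (m+1), K.d (m+1) m z = 0 ∧
      ∃ e : L.X (m+2), w = F.f (m+1) z + L.d (m+2) (m+1) e := by
  have h1 : QuasiIsoAt F (m+1) := hF.quasiIsoAt (m+1)
  have h2 := (quasiIsoAt_iff' F (m+2) (m+1) m (ChainComplex.prev ℕ (m+1))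
    (ChainComplex.next_nat_succ m)).mp h1
  exact (ab_quasiIso_elem _ h2).2 w hw

theorem qi_inj_succ {K L : ChainComplex AddCommGrpCat.{u} ℕ} (F : K ⟶ L) (hF : QuasiIso F)
    (m : ℕ) (z : K.X (m+1)) (hz : K.d (m+1) m z = 0)
    (hw : ∃ w : L.X (m+2), L.d (m+2) (m+1) w = F.f (m+1) z) :
    ∃ c : K.X (m+2), K.d (m+2) (m+1) c = z := by
  have h1 : QuasiIsoAt F (m+1) := hF.quasiIsoAt (m+1)
  have h2 := (quasiIsoAt_iff' F (m+2) (m+1) m (ChainComplex.prev ℕ (m+1))
    (ChainComplex.next_nat_succ m)).mp h1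
  exact (ab_quasiIso_elem _ h2).1 z hz hw

theorem qi_inj_zero {K L : ChainComplex AddCommGrpCat.{u} ℕ} (F : K ⟶ L) (hF : QuasiIso F)
    (z : K.X 0) (hw : ∃ w : L.X 1, L.d 1 0 w = F.f 0 z) :
    ∃ c : K.X 1, K.d 1 0 c = z := by
  have h1 : QuasiIsoAt F 0 := hF.quasiIsoAt 0
  have h2 := (quasiIsoAt_iff' F 1 0 0 (ChainComplex.prev ℕ 0)
    ChainComplex.next_nat_zero).mp h1
  refine (ab_quasiIso_elem _ h2).1 z ?_ hw
  show (K.d 0 0) z = 0
  rw [K.shape 0 0 (by simp)]
  rfl

section DK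

open AlgebraicTopology AlgebraicTopology.DoldKan

variable {X Y : SimplicialObject AddCommGrpCat.{u}} (f : X ⟶ Y)

theorem PInfty_d_eq (X : SimplicialObject AddCommGrpCat.{u}) (n : ℕ) :
    (PInfty.f (n+1) : X _⦋n+1⦌ ⟶ X _⦋n+1⦌) ≫ (AlternatingFaceMapComplex.obj X).d (n+1) n =
      (PInfty.f (n+1) : X _⦋n+1⦌ ⟶ X _⦋n+1⦌) ≫ X.δ 0 := by
  have hv : ∀ j : Fin (n+1), (PInfty.f (n+1) : X _⦋n+1⦌ ⟶ X _⦋n+1⦌) ≫ X.δ j.succ = 0 := by
    intro j
    rw [PInfty_f]
    exact HigherFacesVanish.of_P (n+1) n j (by omega)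
  rw [AlternatingFaceMapComplex.obj_d_eq, Preadditive.comp_sum, Fin.sum_univ_succ]
  rw [Finset.sum_eq_zero (fun j _ => by rw [Preadditive.comp_zsmul, hv j, smul_zero]), add_zero,
    Fin.val_zero, pow_zero, one_smul]

theorem star_aux (hf : ∀ n : SimplexCategoryᵒᵖ, Function.Surjective (f.app n))
    (hq : QuasiIso ((AlgebraicTopology.alternatingFaceMapComplex AddCommGrpCat.{u}).map f))
    (n : ℕ) (x : (AlternatingFaceMapComplex.obj X).X n)
    (hfx : (AlternatingFaceMapComplex.map f).f n x = 0)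
    (hc : ∃ c : (AlternatingFaceMapComplex.obj X).X (n+1),
      ((AlternatingFaceMapComplex.obj X).d (n+1) n) c = x)
    (hPx : (PInfty.f n : (AlternatingFaceMapComplex.obj X).X n ⟶ _) x = x) :
    ∃ u : (AlternatingFaceMapComplex.obj X).X (n+1),
      (AlternatingFaceMapComplex.map f).f (n+1) u = 0 ∧
      ((PInfty.f (n+1) : (AlternatingFaceMapComplex.obj X).X (n+1) ⟶ _) ≫ X.δ 0) u = x ∧
      (∀ j : Fin (n+1),
        ((PInfty.f (n+1) : (AlternatingFaceMapComplex.obj X).X (n+1) ⟶ _) ≫ X.δ j.succ) u = 0) ∧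
      (PInfty.f (n+1) : (AlternatingFaceMapComplex.obj X).X (n+1) ⟶ _) u = u := by
  obtain ⟨c, hc⟩ := hc
  -- chain map property of `f`
  have F1 : ∀ (k : ℕ) (a : (AlternatingFaceMapComplex.obj X).X (k+1)),
      ((AlternatingFaceMapComplex.obj Y).d (k+1) k) ((AlternatingFaceMapComplex.map f).f (k+1) a) =
        (AlternatingFaceMapComplex.map f).f k (((AlternatingFaceMapComplex.obj X).d (k+1) k) a) := by
    intro k a
    have e := ConcreteCategory.congr_hom ((AlternatingFaceMapComplex.map f).comm (k+1) k) a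
    simp only [ConcreteCategory.comp_apply] at e
    exact e
  have hw : ((AlternatingFaceMapComplex.obj Y).d (n+1) n)
      ((AlternatingFaceMapComplex.map f).f (n+1) c) = 0 := by rw [F1, hc, hfx]
  obtain ⟨c', hc', e, he⟩ := qi_surj_succ (AlternatingFaceMapComplex.map f) hq n
    ((AlternatingFaceMapComplex.map f).f (n+1) c) hw
  obtain ⟨e', he'⟩ : ∃ e' : (AlternatingFaceMapComplex.obj X).X (n+2),
      (AlternatingFaceMapComplex.map f).f (n+2) e' = e := hf (op ⦋n+2⦌) e
  have hdd : ((AlternatingFaceMapComplex.obj X).d (n+1) n)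
      (((AlternatingFaceMapComplex.obj X).d (n+2) (n+1)) e') = 0 := by
    have e3 := ConcreteCategory.congr_hom
      ((AlternatingFaceMapComplex.obj X).d_comp_d (n+2) (n+1) n) e'
    simp only [ConcreteCategory.comp_apply] at e3
    exact e3
  obtain ⟨c'', hc''⟩ : ∃ c'' : (AlternatingFaceMapComplex.obj X).X (n+1),
      c'' = c - c' - ((AlternatingFaceMapComplex.obj X).d (n+2) (n+1)) e' := ⟨_, rfl⟩
  have hfc'' : (AlternatingFaceMapComplex.map f).f (n+1) c'' = 0 := by
    rw [hc'', map_sub, map_sub, ← F1 (n+1) e', he', he]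
    abel
  have hdc'' : ((AlternatingFaceMapComplex.obj X).d (n+1) n) c'' = x := by
    rw [hc'', map_sub, map_sub, hc, hc', hdd, sub_zero, sub_zero]
  have hnat : ∀ a : (AlternatingFaceMapComplex.obj X).X (n+1),
      (AlternatingFaceMapComplex.map f).f (n+1)
        ((PInfty.f (n+1) : (AlternatingFaceMapComplex.obj X).X (n+1) ⟶ _) a) =
      (PInfty.f (n+1) : (AlternatingFaceMapComplex.obj Y).X (n+1) ⟶ _)
        ((AlternatingFaceMapComplex.map f).f (n+1) a) := by
    intro a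
    have e4 := ConcreteCategory.congr_hom (PInfty_f_naturality (n+1) f) a
    simp only [ConcreteCategory.comp_apply] at e4
    exact e4.symm
  refine ⟨(PInfty.f (n+1) : (AlternatingFaceMapComplex.obj X).X (n+1) ⟶ _) c'', ?_, ?_, ?_, ?_⟩
  · rw [hnat, hfc'', map_zero]
  · have e5 := ConcreteCategory.congr_hom
      ((PInfty_d_eq X n).symm.trans
        ((PInfty : AlternatingFaceMapComplex.obj X ⟶ _).comm (n+1) n)) c''
    have e6 := ConcreteCategory.congr_hom (PInfty_f_idem (X := X) (n+1)) c''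
    simp only [ConcreteCategory.comp_apply] at e5 e6 ⊢
    rw [e6, e5, hdc'', hPx]
  · intro j
    have hv : (PInfty.f (n+1) : (AlternatingFaceMapComplex.obj X).X (n+1) ⟶ _) ≫ X.δ j.succ
        = 0 := by
      rw [PInfty_f]
      exact HigherFacesVanish.of_P (n+1) n j (by omega)
    have e7 := ConcreteCategory.congr_hom hv
      ((PInfty.f (n+1) : (AlternatingFaceMapComplex.obj X).X (n+1) ⟶ _) c'')
    exact e7
  · have e6 := ConcreteCategory.congr_hom (PInfty_f_idem (X := X) (n+1)) c''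
    simp only [ConcreteCategory.comp_apply] at e6
    exact e6

theorem star0 (hf : ∀ n : SimplexCategoryᵒᵖ, Function.Surjective (f.app n))
    (hq : QuasiIso ((AlgebraicTopology.alternatingFaceMapComplex AddCommGrpCat.{u}).map f))
    (x : X _⦋0⦌) (hfx : f.app (op ⦋0⦌) x = 0) :
    ∃ u : X _⦋0+1⦌, f.app (op ⦋0+1⦌) u = 0 ∧ X.δ 0 u = x ∧
      ∀ j : Fin (0+1), X.δ j.succ u = 0 := by
  obtain ⟨u, hu1, hu2, hu3, hu4⟩ := star_aux f hf hq 0 x hfx
    (qi_inj_zero (AlternatingFaceMapComplex.map f) hq x ⟨0, by rw [map_zero]; exact hfx.symm⟩)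
    (by rw [PInfty_f_0]; rfl)
  refine ⟨u, hu1, ?_, ?_⟩
  · have e := hu2
    simp only [ConcreteCategory.comp_apply] at e
    rw [hu4] at e
    exact e
  · intro j
    have e := hu3 j
    simp only [ConcreteCategory.comp_apply] at e
    rw [hu4] at e
    exact e

theorem star1 (hf : ∀ n : SimplexCategoryᵒᵖ, Function.Surjective (f.app n))
    (hq : QuasiIso ((AlgebraicTopology.alternatingFaceMapComplex AddCommGrpCat.{u}).map f))
    (m : ℕ) (x : X _⦋m+1⦌) (hfx : f.app (op ⦋m+1⦌) x = 0)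
    (hx : ∀ j : Fin (m+2), X.δ j x = 0) :
    ∃ u : X _⦋m+1+1⦌, f.app (op ⦋m+1+1⦌) u = 0 ∧ X.δ 0 u = x ∧
      ∀ j : Fin (m+1+1), X.δ j.succ u = 0 := by
  obtain ⟨N, hN⟩ : ∃ N : AddSubgroup (X _⦋m+1⦌), N = ⨅ j : Fin (m+2), (X.δ j).hom.ker :=
    ⟨_, rfl⟩
  have hmem : ∀ z : X _⦋m+1⦌, z ∈ N ↔ ∀ j : Fin (m+2), X.δ j z = 0 := by
    intro z
    rw [hN, AddSubgroup.mem_iInf]
    exact forall_congr' fun j => AddMonoidHom.mem_ker
  have hxN : x ∈ N := (hmem x).mpr hx
  obtain ⟨φ, hφ⟩ : ∃ φ : AddCommGrpCat.of N ⟶ X _⦋m+1⦌, φ = AddCommGrpCat.ofHom N.subtype :=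
    ⟨_, rfl⟩
  have hφx : φ ⟨x, hxN⟩ = x := by rw [hφ]; rfl
  have hφδ : ∀ j : Fin (m+2), φ ≫ X.δ j = 0 := by
    intro j
    ext z
    have hz := (hmem z.val).mp z.2 j
    rw [hφ]
    exact hz
  have hφd : φ ≫ (AlternatingFaceMapComplex.obj X).d (m+1) m = 0 := by
    rw [AlternatingFaceMapComplex.obj_d_eq, Preadditive.comp_sum]
    exact Finset.sum_eq_zero (fun j _ => by rw [Preadditive.comp_zsmul, hφδ j, smul_zero])
  have hφP : φ ≫ (P (m+1)).f (m+1) = φ :=
    HigherFacesVanish.comp_P_eq_self (fun j _ => hφδ j.succ)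
  have hcyc : ((AlternatingFaceMapComplex.obj X).d (m+1) m) x = 0 := by
    have e := ConcreteCategory.congr_hom hφd ⟨x, hxN⟩
    simp only [ConcreteCategory.comp_apply] at e
    rw [hφx] at e
    exact e
  obtain ⟨u, hu1, hu2, hu3, hu4⟩ := star_aux f hf hq (m+1) x hfx
    (qi_inj_succ (AlternatingFaceMapComplex.map f) hq m x hcyc
      ⟨0, by rw [map_zero]; exact hfx.symm⟩)
    (by
      have e := ConcreteCategory.congr_hom hφP ⟨x, hxN⟩
      simp only [ConcreteCategory.comp_apply] at e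
      rw [hφx] at e
      rw [PInfty_f]
      exact e)
  refine ⟨u, hu1, ?_, ?_⟩
  · have e := hu2
    simp only [ConcreteCategory.comp_apply] at e
    rw [hu4] at e
    exact e
  · intro j
    have e := hu3 j
    simp only [ConcreteCategory.comp_apply] at e
    rw [hu4] at e
    exact e

end DK



/-- A degreewise surjective homomorphism of simplicial abelian groups inducing a quasi-isomorphism of
the associated chain complexes is a trivial Kan fibration of the underlying simplicial sets. -/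
theorem result {X Y : SimplicialObject AddCommGrpCat.{u}} (f : X ⟶ Y) (hf : ∀ n : SimplexCategoryᵒᵖ, Function.Surjective (f.app n)) (hq : QuasiIso ((AlgebraicTopology.alternatingFaceMapComplex AddCommGrpCat.{u}).map f)) : SSet.modelCategoryQuillen.I.rlp (X := X ⋙ forget AddCommGrpCat.{u}) (Y := Y ⋙ forget AddCommGrpCat.{u}) (Functor.whiskerRight f (forget AddCommGrpCat.{u})) := by
  have main : ∀ n : ℕ, HasLiftingProperty (SSet.boundary.{u} n).ι
      (Functor.whiskerRight f (forget AddCommGrpCat.{u})) := by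
    intro n
    refine ⟨fun {t b} sq => ?_⟩
    cases n with
    | zero =>
      obtain ⟨z, hz⟩ := hf (op ⦋0⦌) (SSet.yonedaEquiv b)
      refine ⟨⟨{ l := (SSet.yonedaEquiv (X := X ⋙ forget AddCommGrpCat.{u}) (n := ⦋0⦌)).symm z
                 fac_left := SSet.boundary.hom_ext₀
                 fac_right := ?_ }⟩⟩
      rw [SSet.yonedaEquiv_symm_comp, Equiv.symm_apply_eq]
      exact hz
    | succ n =>
      classical
      obtain ⟨x, hx⟩ : ∃ x : ℕ → GA X n, ∀ (j : Fin (n+2)),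
          x j.val = Multiplicative.ofAdd (SSet.yonedaEquiv (SSet.boundary.ι j ≫ t)) := by
        refine ⟨fun a => if h1 : a < n+2 then
            Multiplicative.ofAdd (SSet.yonedaEquiv (SSet.boundary.ι ⟨a, h1⟩ ≫ t)) else 1, ?_⟩
        intro j
        beta_reduce
        rw [dif_pos j.isLt]
      have hS := simpIdA X
      have hface : ∀ j, j ≤ n+1 →
          dA Y n j (Multiplicative.ofAdd (SSet.yonedaEquiv b)) = phiA f n (x j) := by
        intro j hj
        have hj2 : j < n+2 := by omega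
        rw [show x j = _ from hx ⟨j, hj2⟩, dA_apply Y n j hj2, phiA_apply]
        have e2 : SSet.yonedaEquiv ((SSet.boundary.ι ⟨j, hj2⟩ ≫ t) ≫
              Functor.whiskerRight f (forget AddCommGrpCat.{u})) =
            SSet.yonedaEquiv (SSet.stdSimplex.δ ⟨j, hj2⟩ ≫ b) := by
          rw [Category.assoc, sq.w, SSet.boundary.ι_ι_assoc]
        rw [SSet.stdSimplex.yonedaEquiv_δ_comp, SSet.yonedaEquiv_comp] at e2
        exact congrArg Multiplicative.ofAdd e2.symm
      have key : ∃ y : GA X (n+1), (∀ j, j ≤ n+1 → dA X n j y = x j) ∧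
          phiA f (n+1) y = Multiplicative.ofAdd (SSet.yonedaEquiv b) := by
        cases n with
        | zero =>
          refine sphere_rel0 hS (dA Y) (sA Y) (phiA f) (phiA_d f) (phiA_s f) (phiA_surj f hf)
            ?_ x _ hface
          intro x0 hx0
          have hx0' : f.app (op ⦋0⦌) (Multiplicative.toAdd x0) = 0 := by
            rw [phiA_apply] at hx0
            exact ofAdd_eq_one.mp hx0
          obtain ⟨u, hu1, hu2, hu3⟩ := star0 f hf hq (Multiplicative.toAdd x0) hx0'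
          refine ⟨Multiplicative.ofAdd u, ?_, ?_, ?_⟩
          · rw [phiA_apply]
            exact ofAdd_eq_one.mpr hu1
          · rw [dA_apply X 0 0 (by omega)]
            exact congrArg Multiplicative.ofAdd hu2
          · rw [dA_apply X 0 1 (by omega)]
            exact ofAdd_eq_one.mpr (hu3 0)
        | succ m =>
          refine sphere_rel hS (dA Y) (sA Y) (phiA f) (phiA_d f) (phiA_s f) (phiA_surj f hf) m
            ?_ x _ hface ?_
          · intro x0 hx0 hfaces
            have hx0' : f.app (op ⦋m+1⦌) (Multiplicative.toAdd x0) = 0 := by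
              rw [phiA_apply] at hx0
              exact ofAdd_eq_one.mp hx0
            have hfaces' : ∀ j : Fin (m+2), X.δ j (Multiplicative.toAdd x0) = 0 := by
              intro j
              have e := hfaces j.val (by have := j.isLt; omega)
              rw [dA_apply X m j.val j.isLt] at e
              exact ofAdd_eq_one.mp e
            obtain ⟨u, hu1, hu2, hu3⟩ := star1 f hf hq m (Multiplicative.toAdd x0) hx0' hfaces'
            refine ⟨Multiplicative.ofAdd u, ?_, ?_, ?_⟩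
            · rw [phiA_apply]
              exact ofAdd_eq_one.mpr hu1
            · rw [dA_apply X (m+1) 0 (by omega)]
              exact congrArg Multiplicative.ofAdd hu2
            · intro j hj1 hj2
              obtain ⟨j', rfl⟩ : ∃ j', j = j'+1 := ⟨j-1, by omega⟩
              rw [dA_apply X (m+1) (j'+1) (by omega)]
              exact ofAdd_eq_one.mpr (hu3 ⟨j', by omega⟩)
          · intro j l hjl hl
            obtain ⟨l', rfl⟩ : ∃ l', l = l'+1 := ⟨l-1, by omega⟩
            have hj2 : j < m+1+2 := by omega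
            have hl2 : l'+1 < m+1+2 := by omega
            have hj3 : j < m+2 := by omega
            have hl3 : l' < m+2 := by omega
            have e0 : SSet.stdSimplex.δ (⟨l', hl3⟩ : Fin (m+2)) ≫
                  SSet.boundary.ι (⟨j, hj2⟩ : Fin (m+1+2)) =
                SSet.stdSimplex.δ (⟨j, hj3⟩ : Fin (m+2)) ≫
                  SSet.boundary.ι (⟨l'+1, hl2⟩ : Fin (m+1+2)) := by
              rw [← cancel_mono (SSet.boundary.{u} (m+1+1)).ι, Category.assoc, Category.assoc,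
                SSet.boundary.ι_ι, SSet.boundary.ι_ι]
              exact (SSet.stdSimplex.δ_comp_δ (i := (⟨j, hj3⟩ : Fin (m+2)))
                (j := (⟨l', hl3⟩ : Fin (m+2))) (Fin.mk_le_mk.mpr (by omega))).symm
            have e := congrArg (fun g => SSet.yonedaEquiv (g ≫ t)) e0
            simp only [Category.assoc] at e
            rw [SSet.stdSimplex.yonedaEquiv_δ_comp, SSet.stdSimplex.yonedaEquiv_δ_comp] at e
            rw [Nat.add_sub_cancel, show x j = _ from hx ⟨j, hj2⟩,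
              show x (l'+1) = _ from hx ⟨l'+1, hl2⟩,
              dA_apply X m l' (by omega), dA_apply X m j (by omega)]
            exact congrArg Multiplicative.ofAdd e
      obtain ⟨y, hy1, hy2⟩ := key
      refine ⟨⟨{ l := (SSet.yonedaEquiv (X := X ⋙ forget AddCommGrpCat.{u}) (n := ⦋n+1⦌)).symm
                  (Multiplicative.toAdd y)
                 fac_left := ?_
                 fac_right := ?_ }⟩⟩
      · apply SSet.boundary.hom_ext
        intro j
        rw [SSet.boundary.ι_ι_assoc, SSet.stdSimplex.δ_comp_yonedaEquiv_symm,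
          Equiv.symm_apply_eq]
        have e := hy1 j.val (by have := j.isLt; omega)
        rw [dA_apply X n j.val j.isLt, hx j] at e
        exact Multiplicative.ofAdd.injective e
      · rw [SSet.yonedaEquiv_symm_comp, Equiv.symm_apply_eq]
        rw [phiA_apply] at hy2
        exact Multiplicative.ofAdd.injective hy2
  intro A B ι hι
  obtain ⟨n⟩ := hι
  exact main n


end Groth.Agent.S6781
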