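import Groth.Statements.S6782
import Mathlib

set_option autoImplicit false
open CategoryTheory Opposite
universe u
open SSet

namespace Groth.Agent.S6782


open Simplicial



/-- A map of `n`-coskeletal simplicial sets which is bijective on simplices of dimension `< n` and
surjective on `n`-simplices is a trivial Kan fibration. -/
theorem result {U V : SSet.{u}} (f : V ⟶ U) (n : ℕ) (h1 : ∀ i : ℕ, i < n → Function.Bijective (f.app (op (SimplexCategory.mk i)))) (h2 : Function.Surjective (f.app (op (SimplexCategory.mk n)))) [SimplicialObject.IsCoskeletal U n] [SimplicialObject.IsCoskeletal V n] : SSet.modelCategoryQuillen.I.rlp f := by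
  have main : ∀ m : ℕ, HasLiftingProperty (SSet.boundary.{u} m).ι f := by
    intro m
    refine ⟨fun {t b} sq => ?_⟩
    rcases Nat.lt_or_ge n m with hnm | hmn
    · -- `n < m`: the `n`-truncations of `∂Δ[m]` and `Δ[m]` agree
      have hiso : IsIso (Functor.whiskerLeft (SimplexCategory.Truncated.inclusion n).op
          (SSet.boundary.{u} m).ι) := by
        haveI : ∀ k, IsIso ((Functor.whiskerLeft (SimplexCategory.Truncated.inclusion n).op
            (SSet.boundary.{u} m).ι).app k) := by
          intro k
          rw [isIso_iff_bijective]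
          refine ⟨?_, ?_⟩
          · intro x y hxy
            exact Subtype.ext hxy
          · intro x
            have hk : k.unop.obj.len < m := lt_of_le_of_lt k.unop.property hnm
            have hx : x ∈ (SSet.boundary.{u} m).obj (op ⦋k.unop.obj.len⦌) := by
              rw [SSet.boundary_obj_eq_univ _ _ hk]; exact Set.mem_univ _
            exact ⟨⟨x, hx⟩, rfl⟩
        exact NatIso.isIso_of_isIso_app _
      obtain ⟨ιn, hιn⟩ : ∃ ιn : (SimplexCategory.Truncated.inclusion n).op ⋙ (∂Δ[m] : SSet.{u}) ⟶
          (SimplexCategory.Truncated.inclusion n).op ⋙ (Δ[m] : SSet.{u}),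
          ιn = Functor.whiskerLeft (SimplexCategory.Truncated.inclusion n).op (SSet.boundary.{u} m).ι :=
        ⟨_, rfl⟩
      haveI : IsIso ιn := hιn ▸ hiso
      obtain ⟨l, hl⟩ : ∃ l : (Δ[m] : SSet.{u}) ⟶ V,
          Functor.whiskerLeft (SimplexCategory.Truncated.inclusion n).op l =
            inv ιn ≫ Functor.whiskerLeft (SimplexCategory.Truncated.inclusion n).op t := by
        refine ⟨V.liftOfIsRightKanExtension (𝟙 ((SimplexCategory.Truncated.inclusion n).op ⋙ V))
          (Δ[m] : SSet.{u}) (inv ιn ≫ Functor.whiskerLeft (SimplexCategory.Truncated.inclusion n).op t), ?_⟩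
        have e := Functor.liftOfIsRightKanExtension_fac V
          (𝟙 ((SimplexCategory.Truncated.inclusion n).op ⋙ V)) (Δ[m] : SSet.{u})
          (inv ιn ≫ Functor.whiskerLeft (SimplexCategory.Truncated.inclusion n).op t)
        rw [Category.comp_id] at e
        exact e
      refine ⟨⟨{ l := l, fac_left := ?_, fac_right := ?_ }⟩⟩
      · refine Functor.hom_ext_of_isRightKanExtension V
          (𝟙 ((SimplexCategory.Truncated.inclusion n).op ⋙ V)) _ _ ?_
        rw [Category.comp_id, Category.comp_id, Functor.whiskerLeft_comp, hl, ← hιn,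
          IsIso.hom_inv_id_assoc]
      · refine Functor.hom_ext_of_isRightKanExtension U
          (𝟙 ((SimplexCategory.Truncated.inclusion n).op ⋙ U)) _ _ ?_
        rw [Category.comp_id, Category.comp_id, Functor.whiskerLeft_comp, hl, Category.assoc,
          ← Functor.whiskerLeft_comp, sq.w, Functor.whiskerLeft_comp, ← hιn,
          IsIso.inv_hom_id_assoc]
    · -- `m ≤ n`
      have hsurj : Function.Surjective (f.app (op ⦋m⦌)) := by
        rcases Nat.lt_or_ge m n with h | h
        · exact (h1 m h).2
        · have hmn' : m = n := le_antisymm hmn h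
          subst hmn'
          exact h2
      obtain ⟨z, hz⟩ := hsurj (SSet.yonedaEquiv b)
      refine ⟨⟨{ l := SSet.yonedaEquiv.symm z, fac_left := ?_, fac_right := ?_ }⟩⟩
      · cases m with
        | zero => exact SSet.boundary.hom_ext₀
        | succ m' =>
          apply SSet.boundary.hom_ext
          intro j
          rw [SSet.boundary.ι_ι_assoc, SSet.stdSimplex.δ_comp_yonedaEquiv_symm, Equiv.symm_apply_eq]
          apply (h1 m' (by omega)).1
          have e2 : SSet.yonedaEquiv ((SSet.boundary.ι j ≫ t) ≫ f) =
              SSet.yonedaEquiv (SSet.stdSimplex.δ j ≫ b) := by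
            rw [Category.assoc, sq.w, SSet.boundary.ι_ι_assoc]
          rw [SSet.stdSimplex.yonedaEquiv_δ_comp, SSet.yonedaEquiv_comp] at e2
          rw [e2, ← hz]
          exact NatTrans.naturality_apply f (SimplexCategory.δ j).op z
      · rw [SSet.yonedaEquiv_symm_comp, Equiv.symm_apply_eq]
        exact hz
  intro A B ι hι
  obtain ⟨m⟩ := hι
  exact main m


end Groth.Agent.S6782
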