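import Groth.Statements.S6783
import Mathlib
-- import your own Groth.Agent.* helpers here

set_option autoImplicit false
open CategoryTheory
universe u
open SSet

namespace Groth.Agent.S6783

section Aux
open CategoryTheory CategoryTheory.Limits Opposite SimplexCategory Simplicial
namespace S6783aux

variable {A B : Type u} (f : A ⟶ B)

/-- the augmentation -/
noncomputable abbrev aug : (Arrow.mk f).cechNerve ⟶ (Functor.const _).obj B :=
  (Arrow.mk f).augmentedCechNerve.hom

/-- the vertex projection -/
noncomputable abbrev pr (m : SimplexCategory) (k : Fin (m.len + 1)) :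
    (Arrow.mk f).cechNerve.obj (op m) ⟶ A :=
  WidePullback.π (fun _ : Fin (m.len + 1) => (Arrow.mk f).hom) k

/-- the base projection -/
noncomputable abbrev bs (m : SimplexCategory) :
    (Arrow.mk f).cechNerve.obj (op m) ⟶ B :=
  WidePullback.base (fun _ : Fin (m.len + 1) => (Arrow.mk f).hom)

lemma map_pr {p m : SimplexCategory} (ψ : p ⟶ m) (k : Fin (p.len + 1)) :
    (Arrow.mk f).cechNerve.map ψ.op ≫ pr f p k = pr f m (ψ.toOrderHom k) := by
  unfold Arrow.cechNerve
  exact WidePullback.lift_π _ _ _ _ _

lemma map_bs {p m : SimplexCategory} (ψ : p ⟶ m) :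
    (Arrow.mk f).cechNerve.map ψ.op ≫ bs f p = bs f m := by
  unfold Arrow.cechNerve
  exact WidePullback.lift_base _ _ _ _

lemma pr_comp_f (m : SimplexCategory) (k : Fin (m.len + 1)) : pr f m k ≫ f = bs f m :=
  WidePullback.π_arrow _ _

variable {K L : SSet.{u}} (i : K ⟶ L) (t : K ⟶ (Arrow.mk f).cechNerve)
  (b : L ⟶ (Functor.const _).obj B)

lemma app_injective [Mono i] (m : SimplexCategoryᵒᵖ) : Function.Injective (i.app m) := by
  have : Mono (i.app m) := inferInstance
  exact (mono_iff_injective _).1 this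

open Classical in
/-- the chosen lift on vertices -/
noncomputable def g (hf : Function.Surjective f) (y : L.obj (op ⦋0⦌)) : A :=
  if h : ∃ x : K.obj (op ⦋0⦌), i.app _ x = y then pr f ⦋0⦌ 0 (t.app _ h.choose)
  else (hf (b.app (op ⦋0⦌) y)).choose

lemma sq_app (sq : t ≫ aug f = i ≫ b) (m : SimplexCategoryᵒᵖ) (x : K.obj m) :
    bs f m.unop (t.app m x) = b.app m (i.app m x) :=
  ConcreteCategory.congr_hom (congrArg (fun (φ : K ⟶ (Functor.const _).obj B) => φ.app m) sq) x

lemma f_g (sq : t ≫ aug f = i ≫ b) (hf : Function.Surjective f) (y : L.obj (op ⦋0⦌)) :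
    f (g f i t b hf y) = b.app (op ⦋0⦌) y := by
  unfold g
  split_ifs with h
  · have h1 := h.choose_spec
    have h2 := sq_app f i t b sq (op ⦋0⦌) h.choose
    rw [h1] at h2
    rw [← h2]
    exact ConcreteCategory.congr_hom (pr_comp_f f ⦋0⦌ 0) _
  · exact (hf (b.app (op ⦋0⦌) y)).choose_spec

lemma g_app [Mono i] (hf : Function.Surjective f) (x : K.obj (op ⦋0⦌)) :
    g f i t b hf (i.app _ x) = pr f ⦋0⦌ 0 (t.app _ x) := by
  unfold g
  have h : ∃ x' : K.obj (op ⦋0⦌), i.app _ x' = i.app _ x := ⟨x, rfl⟩
  rw [dif_pos h]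
  have := app_injective i _ h.choose_spec
  rw [this]

lemma b_nat {p m : SimplexCategory} (ψ : p ⟶ m) (y : L.obj (op m)) :
    b.app (op p) (L.map ψ.op y) = b.app (op m) y := by
  have := ConcreteCategory.congr_hom (b.naturality ψ.op) y
  exact this

lemma liftApp_aux (sq : t ≫ aug f = i ≫ b) (hf : Function.Surjective f) (m : SimplexCategory)
    (k : Fin (m.len + 1)) :
    (↾(fun y => g f i t b hf (L.map (SimplexCategory.const ⦋0⦌ m k).op y)) : L.obj (op m) ⟶ A) ≫
      (Arrow.mk f).hom = b.app (op m) := by
  ext y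
  refine (f_g f i t b sq hf _).trans ?_
  exact b_nat b _ y

/-- the lift, levelwise -/
noncomputable def liftApp (sq : t ≫ aug f = i ≫ b) (hf : Function.Surjective f)
    (m : SimplexCategory) :
    L.obj (op m) ⟶ (Arrow.mk f).cechNerve.obj (op m) :=
  WidePullback.lift (arrows := fun _ : Fin (m.len + 1) => (Arrow.mk f).hom) (b.app (op m))
    (fun k => ↾(fun y => g f i t b hf (L.map (SimplexCategory.const ⦋0⦌ m k).op y)))
    (liftApp_aux f i t b sq hf m)

lemma liftApp_pr (sq : t ≫ aug f = i ≫ b) (hf : Function.Surjective f) (m : SimplexCategory)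
    (k : Fin (m.len + 1)) :
    liftApp f i t b sq hf m ≫ pr f m k =
      ↾(fun y => g f i t b hf (L.map (SimplexCategory.const ⦋0⦌ m k).op y)) :=
  WidePullback.lift_π _ _ _ _ _

lemma liftApp_bs (sq : t ≫ aug f = i ≫ b) (hf : Function.Surjective f) (m : SimplexCategory) :
    liftApp f i t b sq hf m ≫ bs f m = b.app (op m) :=
  WidePullback.lift_base _ _ _ _


lemma liftApp_naturality (sq : t ≫ aug f = i ≫ b) (hf : Function.Surjective f)
    {p m : SimplexCategory} (ψ : p ⟶ m) :
    L.map ψ.op ≫ liftApp f i t b sq hf p =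
      liftApp f i t b sq hf m ≫ (Arrow.mk f).cechNerve.map ψ.op := by
  apply WidePullback.hom_ext
  · intro k
    rw [Category.assoc, Category.assoc]
    erw [liftApp_pr, map_pr, liftApp_pr]
    ext y
    show g f i t b hf (L.map (SimplexCategory.const ⦋0⦌ p k).op (L.map ψ.op y)) =
      g f i t b hf (L.map (SimplexCategory.const ⦋0⦌ m (ψ.toOrderHom k)).op y)
    rw [← Functor.map_comp_apply, ← op_comp, SimplexCategory.const_comp]
  · rw [Category.assoc, Category.assoc]
    erw [liftApp_bs, map_bs, liftApp_bs]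
    ext y
    exact b_nat b ψ y

/-- the lift -/
noncomputable def lft (sq : t ≫ aug f = i ≫ b) (hf : Function.Surjective f) :
    L ⟶ (Arrow.mk f).cechNerve where
  app m := liftApp f i t b sq hf m.unop
  naturality X Y φ := liftApp_naturality f i t b sq hf φ.unop

lemma lft_fac_right (sq : t ≫ aug f = i ≫ b) (hf : Function.Surjective f) :
    lft f i t b sq hf ≫ aug f = b := by
  refine NatTrans.ext (funext fun m => ?_)
  exact liftApp_bs f i t b sq hf m.unop

lemma lft_fac_left [Mono i] (sq : t ≫ aug f = i ≫ b) (hf : Function.Surjective f) :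
    i ≫ lft f i t b sq hf = t := by
  refine NatTrans.ext (funext fun m => ?_)
  induction m using Opposite.rec with | _ m => ?_
  apply WidePullback.hom_ext
  · intro k
    rw [NatTrans.comp_app, Category.assoc]
    erw [liftApp_pr f i t b sq hf]
    ext x
    show g f i t b hf (L.map (SimplexCategory.const ⦋0⦌ m k).op (i.app (op m) x)) =
      pr f m k (t.app (op m) x)
    have h1 : L.map (SimplexCategory.const ⦋0⦌ m k).op (i.app (op m) x) =
        i.app (op ⦋0⦌) (K.map (SimplexCategory.const ⦋0⦌ m k).op x) :=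
      (ConcreteCategory.congr_hom (i.naturality (SimplexCategory.const ⦋0⦌ m k).op) x).symm
    rw [h1, g_app]
    have h2 : t.app (op ⦋0⦌) (K.map (SimplexCategory.const ⦋0⦌ m k).op x) =
        (Arrow.mk f).cechNerve.map (SimplexCategory.const ⦋0⦌ m k).op (t.app (op m) x) :=
      ConcreteCategory.congr_hom (t.naturality (SimplexCategory.const ⦋0⦌ m k).op) x
    rw [h2]
    exact ConcreteCategory.congr_hom (map_pr f (SimplexCategory.const ⦋0⦌ m k) 0) (t.app (op m) x)
  · rw [NatTrans.comp_app, Category.assoc]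
    erw [liftApp_bs f i t b sq hf]
    ext x
    exact (sq_app f i t b sq (op m) x).symm

end S6783aux
end Aux


/-- For a surjective map of sets `f : A → B`, the augmentation from the Čech nerve of `f` (with
`n`-simplices the `(n+1)`-fold fibre product of `A` over `B`) to the constant simplicial set `B` is
a trivial Kan fibration. -/
theorem result {A B : Type u} (f : A ⟶ B) (hf : Function.Surjective f) : SSet.modelCategoryQuillen.I.rlp (Arrow.mk f).augmentedCechNerve.hom := by
  rw [← SSet.rlp_monomorphisms]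
  intro K L i hi
  have : Mono i := hi
  constructor
  intro t b sq
  exact ⟨⟨{ l := S6783aux.lft f i t b sq.w hf
            fac_left := S6783aux.lft_fac_left f i t b sq.w hf
            fac_right := S6783aux.lft_fac_right f i t b sq.w hf }⟩⟩

end Groth.Agent.S6783
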