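import Groth.Statements.S6784
import Mathlib
-- import your own Groth.Agent.* helpers here

set_option autoImplicit false
open CategoryTheory
universe u
open SSet

namespace Groth.Agent.S6784

section Aux
open CategoryTheory Simplicial SimplexCategory SimplexCategory.Truncated Opposite Category Functor Limits StructuredArrow SSet
namespace S6784aux

variable {N : ℕ}

/-- objects of the structured arrow category -/
abbrev strArrowMk₁ {i : ℕ} {n : ℕ} (φ : ⦋i⦌ ⟶ ⦋n⦌) (hi : i ≤ 1 := by lia) :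
    StructuredArrow (op ⦋n⦌) (Truncated.inclusion 1).op :=
  StructuredArrow.mk (Y := op ⦋i⦌₁) φ.op

variable {m : ℕ}
  (s : Cone (proj (op ⦋m⦌) (Truncated.inclusion 1).op ⋙
      (Truncated.inclusion 1).op ⋙ (Δ[N] : SSet.{u})))

lemma compat {a b : ℕ} (ha : a ≤ 1) (hb : b ≤ 1) (f : ⦋a⦌ ⟶ ⦋m⦌) (g : ⦋b⦌ ⟶ ⦋a⦌) (x : s.pt) :
    (Δ[N] : SSet.{u}).map g.op (s.π.app (strArrowMk₁ f ha) x) =
      s.π.app (strArrowMk₁ (g ≫ f) hb) x := by
  let α : strArrowMk₁ f ha ⟶ strArrowMk₁ (g ≫ f) hb :=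
    StructuredArrow.homMk (Hom.tr g).op (by simp)
  exact ConcreteCategory.congr_hom (s.w α) x


/-- value of a simplex of the standard simplex at a vertex -/
def ev {i : ℕ} (y : (Δ[N] : SSet.{u}).obj (op ⦋i⦌)) (k : Fin (i + 1)) : Fin (N + 1) :=
  (stdSimplex.objEquiv y).toOrderHom k

lemma ev_monotone {i : ℕ} (y : (Δ[N] : SSet.{u}).obj (op ⦋i⦌)) : Monotone (ev y) :=
  (stdSimplex.objEquiv y).toOrderHom.monotone

lemma ev_map {i j : ℕ} (y : (Δ[N] : SSet.{u}).obj (op ⦋i⦌)) (g : ⦋j⦌ ⟶ ⦋i⦌) (k : Fin (j + 1)) :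
    ev ((Δ[N] : SSet.{u}).map g.op y) k = ev y (g.toOrderHom k) := rfl

lemma ev_ext {i : ℕ} (y y' : (Δ[N] : SSet.{u}).obj (op ⦋i⦌)) (h : ∀ k, ev y k = ev y' k) :
    y = y' :=
  SSet.stdSimplex.ext y y' h

/-- the vertex function of the lift -/
def vtx (x : s.pt) (k : Fin (m + 1)) : Fin (N + 1) :=
  ev (s.π.app (strArrowMk₁ (⦋0⦌.const ⦋m⦌ k)) x) 0

lemma ev_eq_vtx {a : ℕ} (ha : a ≤ 1) (f : ⦋a⦌ ⟶ ⦋m⦌) (x : s.pt) (k : Fin (a + 1)) :
    ev (s.π.app (strArrowMk₁ f ha) x) k = vtx s x (f.toOrderHom k) := by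
  unfold vtx
  have h := compat s ha (by lia : 0 ≤ 1) f (⦋0⦌.const ⦋a⦌ k) x
  rw [SimplexCategory.const_comp] at h
  rw [← h, ev_map]
  rfl

lemma vtx_monotone (x : s.pt) : Monotone (vtx s x) := by
  intro k k' hk
  have h0 := ev_eq_vtx s (by lia : 1 ≤ 1) (mkOfLe k k' hk) x 0
  have h1 := ev_eq_vtx s (by lia : 1 ≤ 1) (mkOfLe k k' hk) x 1
  have h2 := ev_monotone (s.π.app (strArrowMk₁ (mkOfLe k k' hk)) x) (show (0 : Fin 2) ≤ 1 by decide)
  rw [h0, h1] at h2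
  exact h2

/-- the lift -/
def liftFun (x : s.pt) : (Δ[N] : SSet.{u}).obj (op ⦋m⦌) :=
  stdSimplex.objMk ⟨vtx s x, vtx_monotone s x⟩

lemma ev_liftFun (x : s.pt) (k : Fin (m + 1)) : ev (liftFun s x) k = vtx s x k := rfl


end S6784aux

open S6784aux in
/-- the standard simplex is pointwise right Kan extended from its 1-truncation -/
noncomputable def S6784aux.isPW (N m : ℕ) :
    (SSet.Truncated.rightExtensionInclusion (Δ[N] : SSet.{u}) 1).IsPointwiseRightKanExtensionAt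
      ⟨⦋m⦌⟩ where
  lift s := ↾fun x ↦ liftFun s x
  fac s j := by
    ext x
    obtain ⟨⟨i, hi⟩, ⟨f : _ ⟶ _⟩, rfl⟩ := j.mk_surjective
    obtain ⟨i, rfl⟩ : ∃ j, ⦋j⦌ = i := ⟨_, i.mk_len⟩
    have hi' : i ≤ 1 := hi
    show (Δ[N] : SSet.{u}).map f.op (liftFun s x) = s.π.app (strArrowMk₁ f hi') x
    apply ev_ext
    intro k
    rw [ev_map, ev_liftFun, ev_eq_vtx]
  uniq s m' hm := by
    ext x
    show m' x = liftFun s x
    apply ev_ext
    intro k
    rw [ev_liftFun]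
    unfold vtx
    have := ConcreteCategory.congr_hom (hm (strArrowMk₁ (⦋0⦌.const ⦋m⦌ k))) x
    rw [← this]
    rfl

end Aux


/-- The standard simplex `Δ[n]` is `1`-coskeletal, i.e. it is the right Kan extension of its
`1`-truncation. -/
theorem result (n : ℕ) : SimplicialObject.IsCoskeletal (SSet.stdSimplex.{u}.obj (SimplexCategory.mk n)) 1 := by
  have h : (SSet.Truncated.rightExtensionInclusion
      (SSet.stdSimplex.{u}.obj (SimplexCategory.mk n)) 1).IsPointwiseRightKanExtension :=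
    fun Δ => S6784aux.isPW n Δ.unop.len
  exact ⟨Functor.RightExtension.IsPointwiseRightKanExtension.isRightKanExtension h⟩

end Groth.Agent.S6784
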