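import Groth.Statements.S6785
import Mathlib.AlgebraicTopology.SimplicialSet.CategoryWithFibrations
import Mathlib.AlgebraicTopology.SimplicialSet.SubcomplexColimits

set_option autoImplicit false
open CategoryTheory
universe u
open SSet

namespace Groth.Agent.S6785

open MonoidalCategory CartesianMonoidalCategory Simplicial

/-- constructor for (non-relative) homotopies. -/
noncomputable def mkHomotopy {X Y : SSet.{u}} {f g : X ⟶ Y} (h : X ⊗ Δ[1] ⟶ Y) (h0 : ι₀ ≫ h = f) (h1 : ι₁ ≫ h = g) :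
    SSet.Homotopy f g where
  h := h
  h₀ := h0
  h₁ := h1
  rel := by
    ext n ⟨⟨x, hx⟩, _⟩
    exact hx.elim

lemma disj (X : SSet.{u}) :
    Subcomplex.range (ι₀ : X ⟶ X ⊗ Δ[1]) ⊓ Subcomplex.range (ι₁ : X ⟶ X ⊗ Δ[1]) = ⊥ := by
  rw [eq_bot_iff]
  rintro ⟨n⟩ y ⟨⟨x₀, h₀⟩, ⟨x₁, h₁⟩⟩
  exfalso
  induction n using SimplexCategory.rec with | _ n => ?_
  have e := h₀.trans h₁.symm
  have e2 := congrArg (fun p => (p.2 : Δ[1] _⦋n⦌) 0) e
  exact zero_ne_one e2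

lemma exists_h {X Y : SSet.{u}} (f : X ⟶ Y)
    (hf : (MorphismProperty.monomorphisms SSet.{u}).rlp f)
    (a b : X ⟶ X) (ha : a ≫ f = f) (hb : b ≫ f = f) :
    ∃ h : X ⊗ Δ[1] ⟶ X, ι₀ ≫ h = a ∧ ι₁ ≫ h = b := by
  let A₂ : (X ⊗ Δ[1]).Subcomplex := Subcomplex.range ι₀
  let A₃ : (X ⊗ Δ[1]).Subcomplex := Subcomplex.range ι₁
  have sq : Subcomplex.BicartSq ⊥ A₂ A₃ (A₂ ⊔ A₃) := { sup_eq := rfl, inf_eq := disj X }
  have po := sq.isPushout
  let t : ((A₂ ⊔ A₃ : (X ⊗ Δ[1]).Subcomplex) : SSet.{u}) ⟶ X :=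
    po.desc (A₂.ι ≫ fst _ _ ≫ a) (A₃.ι ≫ fst _ _ ≫ b) (Subcomplex.isInitialBot.hom_ext _ _)
  have ht2 : Subcomplex.homOfLE sq.le₂₄ ≫ t = A₂.ι ≫ fst _ _ ≫ a := po.inl_desc _ _ _
  have ht3 : Subcomplex.homOfLE sq.le₃₄ ≫ t = A₃.ι ≫ fst _ _ ≫ b := po.inr_desc _ _ _
  have sqc : CommSq t (A₂ ⊔ A₃).ι f (fst _ _ ≫ f) := by
    constructor
    apply po.hom_ext
    · rw [reassoc_of% ht2]
      simp [ha]
    · rw [reassoc_of% ht3]
      simp [hb]
  have hl : HasLiftingProperty (A₂ ⊔ A₃).ι f := hf _ (MorphismProperty.monomorphisms.infer_property _)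
  refine ⟨sqc.lift, ?_, ?_⟩
  · have e : (ι₀ : X ⟶ X ⊗ Δ[1]) = Subcomplex.toRange ι₀ ≫ Subcomplex.homOfLE sq.le₂₄ ≫ (A₂ ⊔ A₃).ι := rfl
    rw [e, Category.assoc, Category.assoc, sqc.fac_left, ht2]
    rw [Subcomplex.toRange_ι_assoc]
    simp
  · have e : (ι₁ : X ⟶ X ⊗ Δ[1]) = Subcomplex.toRange ι₁ ≫ Subcomplex.homOfLE sq.le₃₄ ≫ (A₂ ⊔ A₃).ι := rfl
    rw [e, Category.assoc, Category.assoc, sqc.fac_left, ht3]
    rw [Subcomplex.toRange_ι_assoc]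
    simp


/-- A trivial Kan fibration `f : X ⟶ Y` of simplicial sets is a homotopy equivalence; more precisely it
has a section `g`, and `g ∘ f` is homotopic to the identity of `X` by a single homotopy in each
direction. (The published statement only asserts a homotopy equivalence; the section and the
one-step homotopies are what its proof constructs.) -/
theorem result {X Y : SSet.{u}} (f : X ⟶ Y) (hf : SSet.modelCategoryQuillen.I.rlp f) : ∃ g : Y ⟶ X, g ≫ f = 𝟙 Y ∧ Nonempty (SSet.Homotopy (𝟙 X) (f ≫ g)) ∧ Nonempty (SSet.Homotopy (f ≫ g) (𝟙 X)) := by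
  have hf' : (MorphismProperty.monomorphisms SSet.{u}).rlp f := by
    rw [SSet.rlp_monomorphisms]; exact hf
  -- section
  have sqs : CommSq (Subcomplex.isInitialBot.to X) (⊥ : Y.Subcomplex).ι f (𝟙 Y) :=
    ⟨Subcomplex.isInitialBot.hom_ext _ _⟩
  have hl : HasLiftingProperty (⊥ : Y.Subcomplex).ι f :=
    hf' _ (MorphismProperty.monomorphisms.infer_property _)
  let g : Y ⟶ X := sqs.lift
  have hg : g ≫ f = 𝟙 Y := sqs.fac_right
  have hfg : (f ≫ g) ≫ f = f := by rw [Category.assoc, hg, Category.comp_id]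
  obtain ⟨h1, h10, h11⟩ := exists_h f hf' (𝟙 X) (f ≫ g) (Category.id_comp _) hfg
  obtain ⟨h2, h20, h21⟩ := exists_h f hf' (f ≫ g) (𝟙 X) hfg (Category.id_comp _)
  exact ⟨g, hg, ⟨mkHomotopy h1 h10 h11⟩, ⟨mkHomotopy h2 h20 h21⟩⟩

end Groth.Agent.S6785
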