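import Groth.Statements.S6786
import Mathlib
import Groth.Agent.S15235
-- import your own Groth.Agent.* helpers here

set_option autoImplicit false
open CategoryTheory CategoryTheory.Limits
universe u
open HomAlg3

namespace Groth.Agent.S6786

section helpers
open Opposite

variable {A B C : ℕᵒᵖ ⥤ AddCommGrpCat.{u}} (a : A ⟶ B) (b : B ⟶ C)

/-- the system of fibres of `b` over a compatible family `y` -/
def E (y : ∀ i, C.obj i) (hy : ∀ ⦃i j : ℕᵒᵖ⦄ (φ : i ⟶ j), (C.map φ).hom (y i) = y j) :
    ℕᵒᵖ ⥤ Type u where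
  obj i := {x : B.obj i // (b.app i).hom x = y i}
  map {i j} φ := ↾(fun x => ⟨(B.map φ).hom x.1, by
    have := congr($(b.naturality φ).hom x.1)
    simp only [AddCommGrpCat.hom_comp, AddMonoidHom.coe_comp, Function.comp_apply] at this
    rw [this, x.2, hy]⟩)
  map_id i := by
    ext x
    simp
  map_comp φ ψ := by
    ext x
    simp

theorem E_map_val (y : ∀ i, C.obj i) (hy : ∀ ⦃i j : ℕᵒᵖ⦄ (φ : i ⟶ j), (C.map φ).hom (y i) = y j)
    {i j : ℕᵒᵖ} (φ : i ⟶ j) (x : (E b y hy).obj i) :
    ((E b y hy).map φ x).1 = (B.map φ).hom x.1 := rfl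

theorem E_ml (hB : ∀ i, (b.app i).hom.ker = (a.app i).hom.range)
    (hA : (A ⋙ forget AddCommGrpCat).IsMittagLeffler)
    (y : ∀ i, C.obj i) (hy : ∀ ⦃i j : ℕᵒᵖ⦄ (φ : i ⟶ j), (C.map φ).hom (y i) = y j)
    (hne : ∀ i, Nonempty ((E b y hy).obj i)) :
    (E b y hy).IsMittagLeffler := by
  intro j
  obtain ⟨i, f, hf⟩ := hA j
  refine ⟨i, f, ?_⟩
  intro k g
  rcases le_total i.unop k.unop with h | h
  · -- k ⟶ i
    let φ : k ⟶ i := (homOfLE h).op
    have hg : g = φ ≫ f := Subsingleton.elim _ _
    rintro _ ⟨x, rfl⟩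
    obtain ⟨z⟩ := hne k
    have hmem : x.1 - (B.map φ).hom z.1 ∈ (b.app i).hom.ker := by
      rw [AddMonoidHom.mem_ker, map_sub, x.2]
      have := congr($(b.naturality φ).hom z.1)
      simp only [AddCommGrpCat.hom_comp, AddMonoidHom.coe_comp, Function.comp_apply] at this
      rw [this, z.2, hy, sub_self]
    rw [hB i] at hmem
    obtain ⟨w, hw⟩ := hmem
    have hw' : ((A ⋙ forget AddCommGrpCat).map f) w ∈ Set.range ((A ⋙ forget AddCommGrpCat).map g) :=
      hf g ⟨w, rfl⟩
    obtain ⟨w', hw'⟩ := hw'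
    have hw'' : (A.map g).hom w' = (A.map f).hom w := hw'
    have hker : (b.app k).hom ((a.app k).hom w') = 0 := by
      have : (a.app k).hom w' ∈ (b.app k).hom.ker := by
        rw [hB k]; exact ⟨w', rfl⟩
      exact this
    refine ⟨⟨z.1 + (a.app k).hom w', by rw [map_add, z.2, hker, add_zero]⟩, ?_⟩
    apply Subtype.ext
    rw [E_map_val, E_map_val]
    show (B.map g).hom (z.1 + (a.app k).hom w') = (B.map f).hom x.1
    have h1 : (B.map g).hom ((a.app k).hom w') = (a.app j).hom ((A.map g).hom w') := by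
      have := congr($(a.naturality g).hom w')
      simp only [AddCommGrpCat.hom_comp, AddMonoidHom.coe_comp, Function.comp_apply] at this
      exact this.symm
    have h2 : (B.map f).hom ((a.app i).hom w) = (a.app j).hom ((A.map f).hom w) := by
      have := congr($(a.naturality f).hom w)
      simp only [AddCommGrpCat.hom_comp, AddMonoidHom.coe_comp, Function.comp_apply] at this
      exact this.symm
    have h3 : (B.map g).hom z.1 = (B.map f).hom ((B.map φ).hom z.1) := by
      rw [hg, B.map_comp]; rfl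
    have h4 : x.1 = (B.map φ).hom z.1 + (a.app i).hom w := by
      rw [hw]; abel
    rw [map_add, h1, hw'', ← h2, h3, ← map_add, ← h4]
  · -- i ⟶ k
    let φ : i ⟶ k := (homOfLE h).op
    have hg : f = φ ≫ g := Subsingleton.elim _ _
    rintro _ ⟨x, rfl⟩
    refine ⟨(E b y hy).map φ x, ?_⟩
    rw [hg, (E b y hy).map_comp]; rfl

theorem main {A B C D : ℕᵒᵖ ⥤ AddCommGrpCat.{u}} (a : A ⟶ B) (b : B ⟶ C) (c : C ⟶ D)
    (hB : ∀ i, (b.app i).hom.ker = (a.app i).hom.range)
    (hC : ∀ i, (c.app i).hom.ker = (b.app i).hom.range)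
    (hA : (A ⋙ forget AddCommGrpCat).IsMittagLeffler) :
    (limMap c).hom.ker = (limMap b).hom.range := by
  apply le_antisymm
  · intro y hy
    rw [AddMonoidHom.mem_ker] at hy
    let yf : ∀ i, C.obj i := fun i => (limit.π C i).hom y
    have hyf : ∀ ⦃i j : ℕᵒᵖ⦄ (φ : i ⟶ j), (C.map φ).hom (yf i) = yf j := by
      intro i j φ
      have := congr($(limit.w C φ).hom y)
      simp only [AddCommGrpCat.hom_comp, AddMonoidHom.coe_comp, Function.comp_apply] at this
      exact this
    have hne : ∀ i, Nonempty ((E b yf hyf).obj i) := by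
      intro i
      have h0 : (c.app i).hom (yf i) = 0 := by
        have := congr($(limMap_π c i).hom y)
        simp only [AddCommGrpCat.hom_comp, AddMonoidHom.coe_comp, Function.comp_apply] at this
        rw [← this, hy, map_zero]
      have : yf i ∈ (c.app i).hom.ker := h0
      rw [hC i] at this
      obtain ⟨x, hx⟩ := this
      exact ⟨⟨x, hx⟩⟩
    have hml := E_ml a b hB hA yf hyf hne
    have := hne
    have hne' := fun j => (E b yf hyf).toEventualRanges_nonempty hml j
    obtain ⟨x0⟩ := hne' (op 0)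
    obtain ⟨s, hs⟩ := Groth.Agent.S15235.sections_surj (E b yf hyf).toEventualRanges 0
      (fun j _ => (E b yf hyf).surjective_toEventualRanges hml _) x0
    let s' : (E b yf hyf).sections := (E b yf hyf).toEventualRangesSectionsEquiv s
    let sB : (B ⋙ forget AddCommGrpCat).sections :=
      ⟨fun i => (s'.1 i).1, fun φ => congrArg Subtype.val (s'.2 φ)⟩
    let hc := isLimitOfPreserves (forget AddCommGrpCat) (limit.isLimit B)
    let x := (Types.isLimitEquivSections hc).symm sB
    have hx : ∀ i, (limit.π B i).hom x = (s'.1 i).1 := fun i =>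
      Types.isLimitEquivSections_symm_apply hc sB i
    refine ⟨x, ?_⟩
    apply Concrete.limit_ext
    intro i
    have := congr($(limMap_π b i).hom x)
    simp only [AddCommGrpCat.hom_comp, AddMonoidHom.coe_comp, Function.comp_apply] at this
    show (limit.π C i).hom ((limMap b).hom x) = (limit.π C i).hom y
    rw [this, hx i]
    exact (s'.1 i).2
  · rintro _ ⟨x, rfl⟩
    rw [AddMonoidHom.mem_ker]
    apply Concrete.limit_ext
    intro i
    have h1 := congr($(limMap_π c i).hom ((limMap b).hom x))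
    have h2 := congr($(limMap_π b i).hom x)
    simp only [AddCommGrpCat.hom_comp, AddMonoidHom.coe_comp, Function.comp_apply] at h1 h2
    show (limit.π D i).hom ((limMap c).hom ((limMap b).hom x)) = (limit.π D i).hom 0
    rw [h1, h2, map_zero]
    have : (b.app i).hom ((limit.π B i).hom x) ∈ (c.app i).hom.ker := by
      rw [hC i]; exact ⟨_, rfl⟩
    exact this

end helpers

/-- For a sequence `(A_i) ⟶ (B_i) ⟶ (C_i) ⟶ (D_i)` of inverse systems of abelian groups over `ℕ` that is
exact levelwise at the two middle places, if `(A_i)` is Mittag-Leffler then `lim B_i ⟶ lim C_i ⟶ lim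
D_i` is exact. -/
theorem result {A B C D : ℕᵒᵖ ⥤ AddCommGrpCat.{u}} (a : A ⟶ B) (b : B ⟶ C) (c : C ⟶ D) (hB : ∀ i, (b.app i).hom.ker = (a.app i).hom.range) (hC : ∀ i, (c.app i).hom.ker = (b.app i).hom.range) (hA : (A ⋙ forget AddCommGrpCat).IsMittagLeffler) : (limMap c).hom.ker = (limMap b).hom.range := by
  exact main a b c hB hC hA

end Groth.Agent.S6786
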