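import Groth.Statements.S6787
import Mathlib
-- import your own Groth.Agent.* helpers here

set_option autoImplicit false
open CategoryTheory CategoryTheory.Limits
universe u
open HomAlg3

namespace Groth.Agent.S6787

section helpers
open Opposite

/-- transition maps -/
def t (F : ℕᵒᵖ ⥤ AddCommGrpCat.{u}) {n m : ℕ} (h : n ≤ m) : F.obj (op m) →+ F.obj (op n) :=
  (F.map (homOfLE h).op).hom

theorem t_comp (F : ℕᵒᵖ ⥤ AddCommGrpCat.{u}) {n m l : ℕ} (h : n ≤ m) (h' : m ≤ l)
    (x : F.obj (op l)) : t F h (t F h' x) = t F (h.trans h') x := by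
  have : (homOfLE (h.trans h')).op = (homOfLE h').op ≫ (homOfLE h).op := Subsingleton.elim _ _
  unfold t
  rw [this, F.map_comp]
  rfl

theorem t_nat {F G : ℕᵒᵖ ⥤ AddCommGrpCat.{u}} (η : F ⟶ G) {n m : ℕ} (h : n ≤ m)
    (x : F.obj (op m)) : (η.app (op n)).hom (t F h x) = t G h ((η.app (op m)).hom x) := by
  have := congr($(η.naturality (homOfLE h).op).hom x)
  simp only [AddCommGrpCat.hom_comp, AddMonoidHom.coe_comp, Function.comp_apply] at this
  exact this

theorem ml_iff (F : ℕᵒᵖ ⥤ AddCommGrpCat.{u}) :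
    (F ⋙ forget AddCommGrpCat).IsMittagLeffler ↔
      ∀ n : ℕ, ∃ (k : ℕ) (h : n ≤ k), ∀ (m : ℕ) (h' : n ≤ m), k ≤ m →
        ∀ x, ∃ y, t F h' y = t F h x := by
  constructor
  · intro hF n
    obtain ⟨i, f, hf⟩ := hF (op n)
    refine ⟨i.unop, leOfHom f.unop, ?_⟩
    intro m h' _ x
    obtain ⟨y, hy⟩ := hf (homOfLE h').op ⟨x, rfl⟩
    refine ⟨y, ?_⟩
    have hf' : f = (homOfLE (leOfHom f.unop)).op := Subsingleton.elim _ _
    have : (F ⋙ forget AddCommGrpCat).map f x = t F (leOfHom f.unop) x := by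
      conv_lhs => rw [hf']
      rfl
    rw [← this]
    exact hy
  · intro hF j
    obtain ⟨k, h, hk⟩ := hF j.unop
    refine ⟨op k, (homOfLE h).op, ?_⟩
    intro k' g
    rintro _ ⟨x, rfl⟩
    have h' : j.unop ≤ k'.unop := leOfHom g.unop
    have hg : g = (homOfLE h').op := Subsingleton.elim _ _
    rcases le_total k k'.unop with hle | hle
    · obtain ⟨y, hy⟩ := hk k'.unop h' hle x
      refine ⟨y, ?_⟩
      rw [hg]
      exact hy
    · refine ⟨t F hle x, ?_⟩
      rw [hg]
      exact t_comp F h' hle x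

theorem main {A B C : ℕᵒᵖ ⥤ AddCommGrpCat.{u}} (a : A ⟶ B) (b : B ⟶ C)
    (ha : ∀ i, Function.Injective (a.app i).hom) (hb : ∀ i, Function.Surjective (b.app i).hom)
    (hex : ∀ i, (b.app i).hom.ker = (a.app i).hom.range)
    (hC : ∃ (C₀ : AddCommGrpCat.{u}) (c : (Functor.const ℕᵒᵖ).obj C₀ ⟶ C),
      DerCA.IsEssConstant C C₀ c) :
    (A ⋙ forget AddCommGrpCat).IsMittagLeffler ↔ (B ⋙ forget AddCommGrpCat).IsMittagLeffler := by
  obtain ⟨C₀, c, i, s, hs, hk⟩ := hC
  have hba : ∀ (n : ℕ) (x : A.obj (op n)), (b.app (op n)).hom ((a.app (op n)).hom x) = 0 := by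
    intro n x
    have : (a.app (op n)).hom x ∈ (b.app (op n)).hom.ker := by
      rw [hex]; exact ⟨x, rfl⟩
    exact this
  -- essential constancy, elementwise
  have hess : ∀ j : ℕ, ∃ (k : ℕ) (hi : i ≤ k) (hj : j ≤ k), ∀ z : C.obj (op k),
      t C hj z = (c.app (op j)).hom (s.hom (t C hi z)) := by
    intro j
    obtain ⟨k, hi, hj, h⟩ := hk j
    refine ⟨k, hi, hj, fun z => ?_⟩
    have := congr($(h).hom z)
    simp only [AddCommGrpCat.hom_comp, AddMonoidHom.coe_comp, Function.comp_apply] at this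
    exact this
  have hcone : ∀ {n m : ℕ} (h : n ≤ m) (v : C₀),
      t C h ((c.app (op m)).hom v) = (c.app (op n)).hom v := by
    intro n m h v
    have := congr($(c.naturality (homOfLE h).op).hom v)
    simp only [AddCommGrpCat.hom_comp, AddMonoidHom.coe_comp, Function.comp_apply,
      Functor.const_obj_map] at this
    exact this.symm
  rw [ml_iff, ml_iff]
  constructor
  · intro hA j
    obtain ⟨k, hjk, hAk⟩ := hA j
    obtain ⟨l, hil, hkl, hCl⟩ := hess k
    refine ⟨l, hjk.trans hkl, ?_⟩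
    intro m hjm hlm x
    obtain ⟨y, hy⟩ := hb (op m) ((c.app (op m)).hom (s.hom (t C hil ((b.app (op l)).hom x))))
    have hker : t B hkl x - t B (hkl.trans hlm) y ∈ (b.app (op k)).hom.ker := by
      rw [AddMonoidHom.mem_ker, map_sub, t_nat, t_nat, hy, hcone, hCl, sub_self]
    rw [hex] at hker
    obtain ⟨w, hw⟩ := hker
    obtain ⟨w', hw'⟩ := hAk m hjm (hkl.trans hlm) w
    refine ⟨y + (a.app (op m)).hom w', ?_⟩
    rw [map_add, ← t_nat, hw', t_nat, hw, map_sub, t_comp, t_comp]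
    abel
  · intro hB j
    obtain ⟨k, hj'k, hBk⟩ := hB (max j i)
    refine ⟨k, (le_max_left j i).trans hj'k, ?_⟩
    intro m hjm hkm x
    obtain ⟨m', him', hmm', hCm⟩ := hess m
    obtain ⟨y, hy⟩ := hBk m' (hj'k.trans (hkm.trans hmm')) (hkm.trans hmm') ((a.app (op k)).hom x)
    have hz : t C hmm' ((b.app (op m')).hom y) = 0 := by
      rw [hCm]
      have : t C him' ((b.app (op m')).hom y) = 0 := by
        rw [← t_comp C (le_max_right j i) (hj'k.trans (hkm.trans hmm')), ← t_nat, hy, ← t_nat,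
          t_comp, ← t_nat, hba]
      rw [this, map_zero, map_zero]
    have hker : t B hmm' y ∈ (b.app (op m)).hom.ker := by
      rw [AddMonoidHom.mem_ker, t_nat, hz]
    rw [hex] at hker
    obtain ⟨w, hw⟩ := hker
    refine ⟨w, ?_⟩
    apply ha (op j)
    rw [t_nat, hw, t_nat, t_comp, ← t_comp B (le_max_left j i) (hj'k.trans (hkm.trans hmm')), hy,
      t_comp]

end helpers

/-- Take inverse systems `(A_i)`, `(B_i)`, `(C_i)` of abelian groups over `ℕ`, with morphisms of systems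
`(A_i) ⟶ (B_i) ⟶ (C_i)` that give a short exact sequence at every index, and suppose `(C_i)` is
essentially constant. Then `(A_i)` is Mittag-Leffler if and only if `(B_i)` is. -/
theorem result {A B C : ℕᵒᵖ ⥤ AddCommGrpCat.{u}} (a : A ⟶ B) (b : B ⟶ C) (ha : ∀ i, Function.Injective (a.app i).hom) (hb : ∀ i, Function.Surjective (b.app i).hom) (hex : ∀ i, (b.app i).hom.ker = (a.app i).hom.range) (hC : ∃ (C₀ : AddCommGrpCat.{u}) (c : (Functor.const ℕᵒᵖ).obj C₀ ⟶ C), DerCA.IsEssConstant C C₀ c) : (A ⋙ forget AddCommGrpCat).IsMittagLeffler ↔ (B ⋙ forget AddCommGrpCat).IsMittagLeffler := by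
  exact main a b ha hb hex hC

end Groth.Agent.S6787
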