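import Groth.Statements.S6788
import Mathlib.CategoryTheory.Localization.CalculusOfFractions.Preadditive

set_option autoImplicit false
open CategoryTheory CategoryTheory.Limits
universe v u v' u'
open CategoryTheory CategoryTheory.Localization

namespace Groth.Agent.S6788

/-- For a multiplicative system `W` (left and right calculus of fractions) in a preadditive category
with a zero object and its localization functor `L`, an object `X` becomes zero in the localization
iff some zero map out of `X` lies in `W`, iff some zero map into `X` lies in `W`. (The published
statement assumes the category additive; only the zero object and the preadditive structure are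
used.) -/
theorem result {C : Type u} [Category.{v} C] [Preadditive C] [HasZeroObject C] {D : Type u'} [Category.{v'} D] (L : C ⥤ D) (W : MorphismProperty C) [W.HasLeftCalculusOfFractions] [W.HasRightCalculusOfFractions] [L.IsLocalization W] (X : C) : (IsZero (L.obj X) ↔ ∃ Y : C, W (0 : X ⟶ Y)) ∧ (IsZero (L.obj X) ↔ ∃ Z : C, W (0 : Z ⟶ X)) := by
  let := Localization.preadditive L W
  have : L.Additive := Localization.functor_additive L W
  have key : IsZero (L.obj X) ↔ L.map (𝟙 X) = L.map (0 : X ⟶ X) := by
    rw [IsZero.iff_id_eq_zero, L.map_id, L.map_zero]
  constructor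
  · rw [key, MorphismProperty.map_eq_iff_postcomp L W]
    constructor
    · rintro ⟨Z, s, hs, hss⟩
      rw [Category.id_comp, zero_comp] at hss
      exact ⟨Z, hss ▸ hs⟩
    · rintro ⟨Z, hZ⟩
      exact ⟨Z, 0, hZ, by simp⟩
  · rw [key, MorphismProperty.map_eq_iff_precomp L W]
    constructor
    · rintro ⟨Z, s, hs, hss⟩
      rw [Category.comp_id, comp_zero] at hss
      exact ⟨Z, hss ▸ hs⟩
    · rintro ⟨Z, hZ⟩
      exact ⟨Z, 0, hZ, by simp⟩

end Groth.Agent.S6788
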