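import Groth.Statements.S6789
import Mathlib
-- import your own Groth.Agent.* helpers here

set_option autoImplicit false
open CategoryTheory CategoryTheory.Limits
universe v u
open CategoryTheory CategoryTheory.SimplicialObject

namespace Groth.Agent.S6789

section Aux
open CategoryTheory CategoryTheory.Limits Opposite SimplexCategory Simplicial
namespace S6789aux

variable {C : Type u} [Category.{v} C] (F : Arrow C)
  [∀ n : ℕ, HasWidePullback F.right (fun _ : Fin (n + 1) => F.left) (fun _ => F.hom)]

/-- the general map -/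
noncomputable def M (a b : F.left ⟶ F.left) (ha : a ≫ F.hom = F.hom) (hb : b ≫ F.hom = F.hom)
    {n m : SimplexCategory} (θ : Fin (m.len+1) → Fin (n.len+1)) (c : Fin (m.len+1) → Bool) :
    F.cechNerve.obj (op n) ⟶ F.cechNerve.obj (op m) :=
  WidePullback.lift (WidePullback.base _)
    (fun k => WidePullback.π _ (θ k) ≫ (bif c k then b else a)) (by
    intro k; cases c k <;> simp [ha, hb])

variable {F} {a b : F.left ⟶ F.left} (ha : a ≫ F.hom = F.hom) (hb : b ≫ F.hom = F.hom)

@[reassoc]
lemma M_π {n m : SimplexCategory} (θ : Fin (m.len+1) → Fin (n.len+1)) (c : Fin (m.len+1) → Bool)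
    (k : Fin (m.len + 1)) :
    M F a b ha hb θ c ≫ WidePullback.π (fun _ => F.hom) k =
      WidePullback.π _ (θ k) ≫ (bif c k then b else a) := by
  unfold M
  exact WidePullback.lift_π _ _ _ _ _

@[reassoc]
lemma M_base {n m : SimplexCategory} (θ : Fin (m.len+1) → Fin (n.len+1)) (c : Fin (m.len+1) → Bool) :
    M F a b ha hb θ c ≫ WidePullback.base (fun _ => F.hom) = WidePullback.base _ := by
  unfold M
  exact WidePullback.lift_base _ _ _ _

@[reassoc]
lemma map_π {p m : SimplexCategory} (ψ : p ⟶ m) (k : Fin (p.len + 1)) :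
    F.cechNerve.map ψ.op ≫ WidePullback.π (fun _ => F.hom) k =
      WidePullback.π _ (ψ.toOrderHom k) := by
  unfold Arrow.cechNerve
  exact WidePullback.lift_π _ _ _ _ _

@[reassoc]
lemma map_base {p m : SimplexCategory} (ψ : p ⟶ m) :
    F.cechNerve.map ψ.op ≫ WidePullback.base (fun _ => F.hom) = WidePullback.base _ := by
  unfold Arrow.cechNerve
  exact WidePullback.lift_base _ _ _ _

lemma M_comp_map {n m p : SimplexCategory} (θ : Fin (m.len+1) → Fin (n.len+1))
    (c : Fin (m.len+1) → Bool) (ψ : p ⟶ m) :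
    M F a b ha hb θ c ≫ F.cechNerve.map ψ.op =
      M F a b ha hb (θ ∘ ψ.toOrderHom) (c ∘ ψ.toOrderHom) := by
  apply WidePullback.hom_ext
  · intro k
    rw [Category.assoc]
    erw [map_π, M_π, M_π]
    rfl
  · rw [Category.assoc]
    erw [map_base, M_base, M_base]

lemma map_comp_M {q n m : SimplexCategory} (θ : Fin (m.len+1) → Fin (n.len+1))
    (c : Fin (m.len+1) → Bool) (ψ : n ⟶ q) :
    F.cechNerve.map ψ.op ≫ M F a b ha hb θ c =
      M F a b ha hb (ψ.toOrderHom ∘ θ) c := by
  apply WidePullback.hom_ext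
  · intro k
    rw [Category.assoc]
    erw [M_π, M_π, map_π_assoc]
    rfl
  · rw [Category.assoc]
    erw [M_base, M_base, map_base]

lemma M_congr {n m : SimplexCategory} {θ θ' : Fin (m.len+1) → Fin (n.len+1)}
    {c c' : Fin (m.len+1) → Bool} (h1 : θ = θ') (h2 : c = c') :
    M F a b ha hb θ c = M F a b ha hb θ' c' := by
  subst h1 h2; rfl


section
variable {n : ℕ}

/-- the homotopy operators -/
noncomputable def hh (j : Fin (n + 1)) :
    F.cechNerve.obj (op ⦋n⦌) ⟶ F.cechNerve.obj (op ⦋n + 1⦌) :=
  M F a b ha hb (n := ⦋n⦌) (m := ⦋n + 1⦌) (Fin.predAbove j) (fun k => decide (j.castSucc < k))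

lemma toOrderHom_δ (i : Fin (n + 2)) (k : Fin (n + 1)) :
    (SimplexCategory.δ i).toOrderHom k = i.succAbove k := rfl

lemma toOrderHom_σ (i : Fin (n + 1)) (k : Fin (n + 2)) :
    (SimplexCategory.σ i).toOrderHom k = i.predAbove k := rfl

lemma hh_zero :
    hh ha hb (0 : Fin (n + 1)) ≫ F.cechNerve.δ 0 =
      M F a b ha hb (n := ⦋n⦌) (m := ⦋n⦌) id (fun _ => true) := by
  unfold hh SimplicialObject.δ
  rw [M_comp_map]
  apply M_congr
  · funext k
    simp [toOrderHom_δ]
  · funext k
    simp [toOrderHom_δ]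

end


section
variable {n : ℕ}

lemma val_succAbove {n : ℕ} (p : Fin (n + 1)) (i : Fin n) :
    (p.succAbove i).val = if i.val < p.val then i.val else i.val + 1 := by
  unfold Fin.succAbove
  simp only [Fin.lt_def, Fin.val_castSucc]
  split_ifs <;> simp

lemma val_predAbove {n : ℕ} (p : Fin n) (i : Fin (n + 1)) :
    (p.predAbove i).val = if p.val < i.val then i.val - 1 else i.val := by
  unfold Fin.predAbove
  simp only [Fin.lt_def, Fin.val_castSucc]
  split_ifs <;> simp

lemma hh_last :
    hh ha hb (Fin.last n) ≫ F.cechNerve.δ (Fin.last (n + 1)) =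
      M F a b ha hb (n := ⦋n⦌) (m := ⦋n⦌) id (fun _ => false) := by
  unfold hh SimplicialObject.δ
  rw [M_comp_map]
  apply M_congr
  · funext k
    simp [toOrderHom_δ]
  · funext k
    simp only [Function.comp, toOrderHom_δ]
    simpa using Fin.le_last _

lemma hh_3 (i : Fin (n + 2)) (j : Fin (n + 1)) (hij : i ≤ j.castSucc) :
    hh ha hb j.succ ≫ F.cechNerve.δ i.castSucc = F.cechNerve.δ i ≫ hh ha hb j := by
  unfold hh SimplicialObject.δ
  rw [M_comp_map, map_comp_M]
  apply M_congr
  · funext k
    simp only [Function.comp, toOrderHom_δ]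
    ext
    simp only [Fin.lt_def, Fin.le_def, val_succAbove, val_predAbove, Fin.val_succ,
      Fin.val_castSucc] at *
    split_ifs <;> omega
  · funext k
    simp only [Function.comp, toOrderHom_δ]
    rw [decide_eq_decide]
    simp only [Fin.lt_def, Fin.le_def, val_succAbove, val_predAbove, Fin.val_succ,
      Fin.val_castSucc] at *
    split_ifs <;> omega

lemma hh_4 (j : Fin (n + 1)) :
    hh ha hb j.succ ≫ F.cechNerve.δ j.castSucc.succ =
      hh ha hb j.castSucc ≫ F.cechNerve.δ j.castSucc.succ := by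
  unfold hh SimplicialObject.δ
  rw [M_comp_map, M_comp_map]
  apply M_congr
  · funext k
    simp only [Function.comp, toOrderHom_δ]
    ext
    simp only [Fin.lt_def, Fin.le_def, val_succAbove, val_predAbove, Fin.val_succ,
      Fin.val_castSucc] at *
    split_ifs <;> omega
  · funext k
    simp only [Function.comp, toOrderHom_δ]
    rw [decide_eq_decide]
    simp only [Fin.lt_def, Fin.le_def, val_succAbove, val_predAbove, Fin.val_succ,
      Fin.val_castSucc] at *
    split_ifs <;> omega

lemma hh_5 (i : Fin (n + 2)) (j : Fin (n + 1)) (hji : j.castSucc < i) :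
    hh ha hb j.castSucc ≫ F.cechNerve.δ i.succ = F.cechNerve.δ i ≫ hh ha hb j := by
  unfold hh SimplicialObject.δ
  rw [M_comp_map, map_comp_M]
  apply M_congr
  · funext k
    simp only [Function.comp, toOrderHom_δ]
    ext
    simp only [Fin.lt_def, Fin.le_def, val_succAbove, val_predAbove, Fin.val_succ,
      Fin.val_castSucc] at *
    split_ifs <;> omega
  · funext k
    simp only [Function.comp, toOrderHom_δ]
    rw [decide_eq_decide]
    simp only [Fin.lt_def, Fin.le_def, val_succAbove, val_predAbove, Fin.val_succ,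
      Fin.val_castSucc] at *
    split_ifs <;> omega

lemma hh_6 (i j : Fin (n + 1)) (hij : i ≤ j) :
    hh ha hb j ≫ F.cechNerve.σ i.castSucc = F.cechNerve.σ i ≫ hh ha hb j.succ := by
  unfold hh SimplicialObject.σ
  rw [M_comp_map, map_comp_M]
  apply M_congr
  · funext k
    simp only [Function.comp, toOrderHom_σ]
    ext
    simp only [Fin.lt_def, Fin.le_def, val_succAbove, val_predAbove, Fin.val_succ,
      Fin.val_castSucc] at *
    split_ifs <;> omega
  · funext k
    simp only [Function.comp, toOrderHom_σ]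
    rw [decide_eq_decide]
    simp only [Fin.lt_def, Fin.le_def, val_succAbove, val_predAbove, Fin.val_succ,
      Fin.val_castSucc] at *
    split_ifs <;> omega

lemma hh_7 (i j : Fin (n + 1)) (hji : j ≤ i) :
    hh ha hb j ≫ F.cechNerve.σ i.succ = F.cechNerve.σ i ≫ hh ha hb j.castSucc := by
  unfold hh SimplicialObject.σ
  rw [M_comp_map, map_comp_M]
  apply M_congr
  · funext k
    simp only [Function.comp, toOrderHom_σ]
    ext
    simp only [Fin.lt_def, Fin.le_def, val_succAbove, val_predAbove, Fin.val_succ,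
      Fin.val_castSucc] at *
    split_ifs <;> omega
  · funext k
    simp only [Function.comp, toOrderHom_σ]
    rw [decide_eq_decide]
    simp only [Fin.lt_def, Fin.le_def, val_succAbove, val_predAbove, Fin.val_succ,
      Fin.val_castSucc] at *
    split_ifs <;> omega

end


/-- the simplicial homotopy between the endomorphisms of the Čech nerve induced by `a` and `b` -/
noncomputable def homot (f g : F.cechNerve ⟶ F.cechNerve)
    (hf : ∀ n : ℕ, f.app (op ⦋n⦌) = M F a b ha hb (n := ⦋n⦌) (m := ⦋n⦌) id (fun _ => false))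
    (hg : ∀ n : ℕ, g.app (op ⦋n⦌) = M F a b ha hb (n := ⦋n⦌) (m := ⦋n⦌) id (fun _ => true)) :
    SimplicialObject.Homotopy f g where
  h j := hh ha hb j
  h_zero_comp_δ_zero n := (hh_zero ha hb).trans (hg n).symm
  h_last_comp_δ_last n := (hh_last ha hb).trans (hf n).symm
  h_succ_comp_δ_castSucc_of_lt i j hij := hh_3 ha hb i j hij
  h_succ_comp_δ_castSucc_succ j := hh_4 ha hb j
  h_castSucc_comp_δ_succ_of_lt i j hji := hh_5 ha hb i j hji
  h_comp_σ_castSucc_of_le i j hij := hh_6 ha hb i j hij
  h_comp_σ_succ_of_lt i j hji := hh_7 ha hb i j hji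

lemma app_eq_M (t : F.cechNerve ⟶ F.cechNerve) (e : F.left ⟶ F.left) (n : SimplexCategory)
    (h1 : ∀ k : Fin (n.len + 1), t.app (op n) ≫ WidePullback.π (fun _ => F.hom) k =
      WidePullback.π (fun _ => F.hom) k ≫ e)
    (h2 : t.app (op n) ≫ WidePullback.base (fun _ => F.hom) = WidePullback.base (fun _ => F.hom))
    (c : Bool) (hc : (bif c then b else a) = e) :
    t.app (op n) = M F a b ha hb (n := n) (m := n) id (fun _ => c) := by
  apply WidePullback.hom_ext
  · intro k
    erw [M_π, h1]
    simp only [id_eq]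
    rw [hc]
  · erw [M_base, h2]

lemma id_app_eq (n : SimplexCategory) (c : Bool) (hc : (bif c then b else a) = 𝟙 _) :
    (𝟙 F.cechNerve : F.cechNerve ⟶ F.cechNerve).app (op n) =
      M F a b ha hb (n := n) (m := n) id (fun _ => c) := by
  apply app_eq_M ha hb _ (𝟙 _) n _ _ c hc
  · intro k
    erw [Category.id_comp, Category.comp_id]
  · erw [Category.id_comp]

lemma map_app_eq (φ : F ⟶ F) (hφ : φ.right = 𝟙 _) (n : SimplexCategory) (c : Bool)
    (hc : (bif c then b else a) = φ.left) :
    (Arrow.mapCechNerve φ).app (op n) =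
      M F a b ha hb (n := n) (m := n) id (fun _ => c) := by
  apply app_eq_M ha hb _ φ.left n _ _ c hc
  · intro k
    unfold Arrow.mapCechNerve
    exact WidePullback.lift_π _ _ _ _ _
  · unfold Arrow.mapCechNerve
    refine (WidePullback.lift_base _ _ _ _).trans ?_
    rw [hφ]
    exact Category.comp_id _

end S6789aux
end Aux


/-- For a morphism `f : Y ⟶ X` with a section `s`, the endomorphism of the Čech nerve of `f` (the
simplicial object of iterated fibre products of `Y` over `X`) that applies `s ∘ f` factorwise admits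
simplicial homotopies to and from the identity: the published formula gives one direction and its
mirror image (exchange the roles of the identity and `s ∘ f`) gives the other. -/
theorem result {C : Type u} [Category.{v} C] {Y X : C} (f : Y ⟶ X) (s : X ⟶ Y) (hs : s ≫ f = 𝟙 X) [∀ n : ℕ, HasWidePullback (Arrow.mk f).right (fun _ : Fin (n + 1) => (Arrow.mk f).left) (fun _ => (Arrow.mk f).hom)] (φ : Arrow.mk f ⟶ Arrow.mk f) (hφl : φ.left = f ≫ s) (hφr : φ.right = 𝟙 X) : Nonempty (SimplicialObject.Homotopy (𝟙 (Arrow.mk f).cechNerve) (Arrow.mapCechNerve φ)) ∧ Nonempty (SimplicialObject.Homotopy (Arrow.mapCechNerve φ) (𝟙 (Arrow.mk f).cechNerve)) := by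
  have hb : φ.left ≫ (Arrow.mk f).hom = (Arrow.mk f).hom := by
    have := φ.w
    rw [hφr] at this
    simpa using this
  have ha : 𝟙 (Arrow.mk f).left ≫ (Arrow.mk f).hom = (Arrow.mk f).hom := Category.id_comp _
  constructor
  · exact ⟨S6789aux.homot ha hb _ _
      (fun n => S6789aux.id_app_eq ha hb _ false rfl)
      (fun n => S6789aux.map_app_eq ha hb φ hφr _ true rfl)⟩
  · exact ⟨S6789aux.homot hb ha _ _
      (fun n => S6789aux.map_app_eq hb ha φ hφr _ false rfl)
      (fun n => S6789aux.id_app_eq hb ha _ true rfl)⟩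

end Groth.Agent.S6789
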