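import Groth.Statements.S6790
import Mathlib.Tactic.CategoryTheory.Monoidal.Basic
import Mathlib.Tactic.CategoryTheory.Coherence

set_option autoImplicit false
open CategoryTheory CategoryTheory.Limits MonoidalCategory
universe v u
open CategoryTheory CategoryTheory.Monoidal

namespace Groth.Agent.S6790

open ExactPairing in
/-- A retract `X₁` of an object `X` with right dual `Y`, together with a splitting `Y₁` of the mate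
of the idempotent on `X`, form an exact pairing. -/
@[instance_reducible]
noncomputable def exactPairingOfRetract {A : Type u} [Category.{v} A] [MonoidalCategory A]
    {X X₁ : A} (i : X₁ ⟶ X) (p : X ⟶ X₁) (hip : i ≫ p = 𝟙 X₁) [HasRightDual X]
    {Y₁ : A} (j : Y₁ ⟶ Xᘁ) (q : Xᘁ ⟶ Y₁) (hjq : j ≫ q = 𝟙 Y₁) (hqj : q ≫ j = (p ≫ i)ᘁ) :
    ExactPairing X₁ Y₁ where
  coevaluation' := (η_ X (Xᘁ) ≫ p ▷ (Xᘁ)) ≫ X₁ ◁ q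
  evaluation' := j ▷ X₁ ≫ ((Xᘁ) ◁ i ≫ ε_ X (Xᘁ))
  evaluation_coevaluation' := by
    have hA : (η_ X (Xᘁ) ≫ p ▷ (Xᘁ)) ≫ X₁ ◁ q ≫ X₁ ◁ j = η_ X (Xᘁ) ≫ p ▷ (Xᘁ) := by
      rw [← MonoidalCategory.whiskerLeft_comp, hqj, Category.assoc, ← whisker_exchange,
        coevaluation_comp_rightAdjointMate_assoc, ← comp_whiskerRight, Category.assoc,
        hip, Category.comp_id]
    calc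
      _ = ((η_ X (Xᘁ) ≫ p ▷ (Xᘁ)) ≫ X₁ ◁ q ≫ X₁ ◁ j) ▷ X₁ ⊗≫ X₁ ◁ ((Xᘁ) ◁ i ≫ ε_ X (Xᘁ)) := by
        monoidal
      _ = η_ X (Xᘁ) ▷ X₁ ⊗≫ (p ▷ ((Xᘁ) ⊗ X₁) ≫ X₁ ◁ ((Xᘁ) ◁ i)) ⊗≫ X₁ ◁ ε_ X (Xᘁ) := by
        rw [hA]; monoidal
      _ = 𝟙 _ ⊗≫ (η_ X (Xᘁ) ▷ X₁ ≫ (X ⊗ (Xᘁ)) ◁ i) ⊗≫
          (p ▷ ((Xᘁ) ⊗ X) ≫ X₁ ◁ ε_ X (Xᘁ)) ⊗≫ 𝟙 _ := by
        rw [← whisker_exchange]; monoidal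
      _ = 𝟙 _ ⊗≫ i ⊗≫ (η_ X (Xᘁ) ▷ X ⊗≫ X ◁ ε_ X (Xᘁ)) ⊗≫ p ⊗≫ 𝟙 _ := by
        rw [← whisker_exchange, ← whisker_exchange]; monoidal
      _ = 𝟙 _ ⊗≫ (i ≫ p) ⊗≫ 𝟙 _ := by
        rw [evaluation_coevaluation'']; monoidal
      _ = (λ_ X₁).hom ≫ (ρ_ X₁).inv := by
        rw [hip]; monoidal
  coevaluation_evaluation' := by
    calc
      _ = 𝟙 _ ⊗≫ Y₁ ◁ (η_ X (Xᘁ) ≫ p ▷ (Xᘁ)) ⊗≫ (Y₁ ◁ (X₁ ◁ q) ≫ j ▷ (X₁ ⊗ Y₁)) ⊗≫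
          ((Xᘁ) ◁ i ≫ ε_ X (Xᘁ)) ▷ Y₁ ⊗≫ 𝟙 _ := by
        monoidal
      _ = 𝟙 _ ⊗≫ (Y₁ ◁ (η_ X (Xᘁ) ≫ p ▷ (Xᘁ)) ≫ j ▷ (X₁ ⊗ (Xᘁ))) ⊗≫ (Xᘁ) ◁ (X₁ ◁ q) ⊗≫
          ((Xᘁ) ◁ i ≫ ε_ X (Xᘁ)) ▷ Y₁ ⊗≫ 𝟙 _ := by
        rw [whisker_exchange]; monoidal
      _ = 𝟙 _ ⊗≫ j ▷ (𝟙_ A) ⊗≫ (Xᘁ) ◁ (η_ X (Xᘁ) ≫ p ▷ (Xᘁ)) ⊗≫
          (((Xᘁ) ⊗ X₁) ◁ q ≫ ((Xᘁ) ◁ i ≫ ε_ X (Xᘁ)) ▷ Y₁) ⊗≫ 𝟙 _ := by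
        rw [whisker_exchange]; monoidal
      _ = 𝟙 _ ⊗≫ j ▷ (𝟙_ A) ⊗≫ (Xᘁ) ◁ (η_ X (Xᘁ) ≫ p ▷ (Xᘁ)) ⊗≫
          ((Xᘁ) ◁ i ≫ ε_ X (Xᘁ)) ▷ (Xᘁ) ⊗≫ (𝟙_ A) ◁ q ⊗≫ 𝟙 _ := by
        rw [whisker_exchange]; monoidal
      _ = (ρ_ Y₁).hom ≫ j ≫ (p ≫ i)ᘁ ≫ q ≫ (λ_ Y₁).inv := by
        dsimp only [rightAdjointMate]; monoidal
      _ = (ρ_ Y₁).hom ≫ (λ_ Y₁).inv := by
        rw [← hqj]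
        simp only [Category.assoc, reassoc_of% hjq]

/-- In an idempotent-complete additive monoidal category, a direct summand of an object admitting a dual
(with coevaluation `𝟙_ A ⟶ X ⊗ Y` and evaluation `Y ⊗ X ⟶ 𝟙_ A`) again admits such a dual. -/
theorem result {A : Type u} [Category.{v} A] [Preadditive A] [HasFiniteBiproducts A] [MonoidalCategory A] [MonoidalPreadditive A] [IsIdempotentComplete A] {X X₁ : A} (i : X₁ ⟶ X) (p : X ⟶ X₁) (hip : i ≫ p = 𝟙 X₁) [HasRightDual X] : Nonempty (HasRightDual X₁) := by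
  have hidem : (p ≫ i)ᘁ ≫ (p ≫ i)ᘁ = (p ≫ i)ᘁ := by
    rw [← comp_rightAdjointMate]
    congr 1
    rw [Category.assoc, reassoc_of% hip]
  obtain ⟨Y₁, j, q, hjq, hqj⟩ := IsIdempotentComplete.idempotents_split (Xᘁ) ((p ≫ i)ᘁ) hidem
  exact ⟨{ rightDual := Y₁, exact := exactPairingOfRetract i p hip j q hjq hqj }⟩

end Groth.Agent.S6790
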