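import Groth.Statements.S6791
import Mathlib

set_option autoImplicit false
open CategoryTheory CategoryTheory.Limits
universe v u v' u' v'' u''
open CategoryTheory CategoryTheory.SerreClass

namespace Groth.Agent.S6791

section
variable {A : Type u} [Category.{v} A] [Abelian A] {B : Type u'} [Category.{v'} B] [Abelian B]

theorem isZero_image_of_map_eq_zero (F : A ⥤ B) [F.Additive] [PreservesFiniteLimits F]
    [PreservesFiniteColimits F] {X Y : A} (h : X ⟶ Y) (hh : F.map h = 0) :
    IsZero (F.obj (Abelian.image h)) := by
  have h1 : F.map (Abelian.factorThruImage h) ≫ F.map (Abelian.image.ι h) = 0 := by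
    rw [← F.map_comp, Abelian.image.fac, hh]
  have h2 : F.map (Abelian.factorThruImage h) = 0 := by
    rw [← cancel_mono (F.map (Abelian.image.ι h)), h1, zero_comp]
  exact IsZero.of_epi_eq_zero _ h2

end


/-- For an exact functor `F : A ⥤ B` of abelian categories and a Serre class `P` of `A` killed by `F`,
with `L : A ⥤ Q` a model of the quotient `A/P` and `Fbar : Q ⥤ B` the induced functor, `P` is
exactly the kernel of `F` if and only if `Fbar` is faithful. -/
theorem result {A : Type u} [Category.{v} A] [Abelian A] {B : Type u'} [Category.{v'} B] [Abelian B] (F : A ⥤ B) [F.Additive] [PreservesFiniteLimits F] [PreservesFiniteColimits F] (P : ObjectProperty A) [P.IsSerreClass] (hP : ∀ X : A, P X → IsZero (F.obj X)) {Q : Type u''} [Category.{v''} Q] [Abelian Q] (L : A ⥤ Q) [L.IsLocalization P.isoModSerre] [L.Additive] [PreservesFiniteLimits L] [PreservesFiniteColimits L] (Fbar : Q ⥤ B) (e : L ⋙ Fbar ≅ F) : (∀ X : A, IsZero (F.obj X) → P X) ↔ Fbar.Faithful := by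
  constructor
  · intro hker
    apply Functor.faithful_of_comp_of_hasLeftCalculusOfFractions L P.isoModSerre Fbar
    intro X Y f g hfg
    have hF : F.map f = F.map g := by
      have hf := e.hom.naturality f
      have hg := e.hom.naturality g
      simp only [Functor.comp_map] at hf hg
      rw [hfg] at hf
      have := hf.symm.trans hg
      exact (cancel_epi _).1 this
    have h0 : F.map (f - g) = 0 := by rw [F.map_sub, hF, sub_self]
    have hP : P (Abelian.image (f - g)) := hker _ (isZero_image_of_map_eq_zero F _ h0)
    have hL : L.map (f - g) = 0 := (ObjectProperty.SerreClassLocalization.map_eq_zero_iff L P _).2 hP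
    rw [L.map_sub, sub_eq_zero] at hL
    exact hL
  · intro hfaith X hX
    rw [← ObjectProperty.SerreClassLocalization.isZero_obj_iff L P X]
    have hZ : IsZero (Fbar.obj (L.obj X)) := hX.of_iso (e.app X)
    rw [IsZero.iff_id_eq_zero]
    apply Fbar.map_injective
    exact hZ.eq_of_src _ _

end Groth.Agent.S6791
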