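import Groth.Statements.S6792
import Groth.Agent.Lib.Helper7.FilCxBasic
import Mathlib.Order.Interval.Finset.Defs
import Mathlib.Data.Int.Interval
open Groth.Agent.Lib.helper7.FilCxBasic

set_option autoImplicit false
open CategoryTheory
universe v u
open SpSeq SpSeq.FilCx

namespace Groth.Agent.S6792

/-- For a filtered complex whose filtration is finite in each degree, the associated spectral sequence
is bounded (from page `0` on), the induced filtration on each cohomology object is finite, and the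
spectral sequence converges to the cohomology. -/
theorem result {A : Type u} [Category.{v} A] [Abelian A] (K : SpSeq.FilCx A) (hK : ∀ n : ℤ, (K.XFil n).IsFinite) : K.IsBounded 0 ∧ (∀ n : ℤ, (K.HFil n).IsFinite) ∧ K.Converges := by
  classical
  refine ⟨?_, ?_, ?_, ⟨?_, ?_⟩, ?_⟩
  · -- bounded from page 0
    intro n
    obtain ⟨⟨a, ha⟩, ⟨b, hb⟩⟩ := hK n
    have ha' : K.filX a n = ⊤ := ha
    have hb' : K.filX b n = ⊥ := hb
    apply (Set.finite_Ico a b).subset
    intro p hp
    by_contra hcon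
    apply hp
    rw [Set.mem_Ico, not_and_or, not_le, not_lt] at hcon
    apply isZero_subquot_of_eq
    rcases hcon with h | h
    · have h1 : K.filX (p + 1) n = ⊤ := filX_eq_top_of_le K n ha' (by omega)
      unfold ZSub BSub
      rw [h1, sup_top_eq, sup_top_eq]
    · have h1 : K.filX p n = ⊥ := filX_eq_bot_of_le K n hb' h
      have h2 : K.filX (p + 1) n = ⊥ := filX_eq_bot_of_le K n hb' (by omega)
      unfold ZSub BSub
      rw [h1, h2, bot_inf_eq, bot_inf_eq]
  · -- finiteness of the induced filtration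
    intro n
    obtain ⟨⟨a1, ha1⟩, -⟩ := hK ((ComplexShape.up ℤ).prev n)
    obtain ⟨⟨a2, ha2⟩, ⟨b, hb⟩⟩ := hK n
    obtain ⟨⟨a3, ha3⟩, -⟩ := hK ((ComplexShape.up ℤ).next n)
    refine ⟨⟨min a1 (min a2 a3), ?_⟩, ⟨b, filH_eq_bot K n b hb⟩⟩
    exact filH_eq_top K n _ (filX_eq_top_of_le K _ ha1 (by omega))
      (filX_eq_top_of_le K _ ha2 (by omega)) (filX_eq_top_of_le K _ ha3 (by omega))
  · -- regular
    intro p n
    obtain ⟨-, ⟨b, hb⟩⟩ := hK (n + 1)
    have hb' : K.filX b (n + 1) = ⊥ := hb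
    refine ⟨(b - p).toNat, fun r hr => ?_⟩
    rw [ZSub_eq_ZTop K r p n (filX_eq_bot_of_le K (n + 1) hb' (by omega)),
      ZSub_eq_ZTop K _ p n (filX_eq_bot_of_le K (n + 1) hb' (by omega))]
  · -- weak convergence
    intro p n
    constructor
    · obtain ⟨-, ⟨b, hb⟩⟩ := hK (n + 1)
      have hb' : K.filX b (n + 1) = ⊥ := hb
      constructor
      · rintro _ ⟨r, rfl⟩
        exact ZTop_le_ZSub K r p n
      · intro S hS
        have h1 := hS ⟨(b - p).toNat, rfl⟩
        simp only at h1
        rwa [ZSub_eq_ZTop K _ p n (filX_eq_bot_of_le K (n + 1) hb' (by omega))] at h1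
    · obtain ⟨⟨a, ha⟩, -⟩ := hK (n - 1)
      have ha' : K.filX a (n - 1) = ⊤ := ha
      constructor
      · rintro _ ⟨r, rfl⟩
        exact BSub_le_BBot K r p n
      · intro S hS
        have h1 := hS ⟨(p + 1 - a).toNat, rfl⟩
        simp only at h1
        rwa [BSub_eq_BBot K _ p n (filX_eq_top_of_le K (n - 1) ha' (by omega))] at h1
  · -- separated and exhaustive
    intro n
    obtain ⟨⟨a1, ha1⟩, -⟩ := hK ((ComplexShape.up ℤ).prev n)
    obtain ⟨⟨a2, ha2⟩, ⟨b, hb⟩⟩ := hK n
    obtain ⟨⟨a3, ha3⟩, -⟩ := hK ((ComplexShape.up ℤ).next n)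
    have htop : K.filH (min a1 (min a2 a3)) n = ⊤ :=
      filH_eq_top K n _ (filX_eq_top_of_le K _ ha1 (by omega))
        (filX_eq_top_of_le K _ ha2 (by omega)) (filX_eq_top_of_le K _ ha3 (by omega))
    have hbot : K.filH b n = ⊥ := filH_eq_bot K n b hb
    constructor
    · constructor
      · rintro _ ⟨p, rfl⟩
        exact bot_le
      · intro S hS
        have h1 := hS ⟨b, rfl⟩
        exact h1.trans hbot.le
    · constructor
      · rintro _ ⟨p, rfl⟩
        exact le_top
      · intro S hS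
        have h1 := hS ⟨min a1 (min a2 a3), rfl⟩
        exact htop.ge.trans h1
  · -- completeness
    intro n
    obtain ⟨-, ⟨b, hb⟩⟩ := hK n
    exact isComplete_of_fil_eq_bot (K.HFil n) b (filH_eq_bot K n b hb)

end Groth.Agent.S6792
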