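import Groth.Statements.S6794
import Groth.Agent.Lib.Helper15.SubQuotD

set_option autoImplicit false
open CategoryTheory CategoryTheory.Limits
universe v u
open SpSeq SpSeq.FilCx

namespace Groth.Agent.S6794

open Groth.Agent.Lib.helper15.SubQuot

/-- If the cohomology of the filtration steps of a filtered complex vanishes in each degree for large
filtration index and maps isomorphically to the cohomology of the whole complex for small filtration
index, then the spectral sequence is bounded from page `1` on, the induced filtrations on cohomology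
are finite, and the spectral sequence converges. (The published statement asserts boundedness
without naming a page, which read from page `0` fails for an acyclic complex with an infinite
filtration by acyclic subcomplexes; this row asserts boundedness from page `1`, which is what the
published proof shows.) -/
theorem result {A : Type u} [Category.{v} A] [Abelian A] (K : SpSeq.FilCx A) (h0 : ∀ n : ℤ, ∃ p₀ : ℤ, ∀ p : ℤ, p₀ ≤ p → IsZero ((K.fil p : CochainComplex A ℤ).homology n)) (h1 : ∀ n : ℤ, ∃ p₁ : ℤ, ∀ p : ℤ, p ≤ p₁ → IsIso (HomologicalComplex.homologyMap (K.fil p).arrow n)) : K.IsBounded 1 ∧ (∀ n : ℤ, (K.HFil n).IsFinite) ∧ K.Converges := by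
  classical
  choose p₀ hp₀ using h0
  choose p₁ hp₁ using h1
  have hbot : ∀ n p, p₀ n ≤ p → K.filH p n = ⊥ := by
    intro n p h
    unfold SpSeq.FilCx.filH
    have : HomologicalComplex.homologyMap (K.fil p).arrow n = 0 := (hp₀ n p h).eq_of_src _ _
    simp only [this, imageSubobject_zero]
  have htop : ∀ n p, p ≤ p₁ n → K.filH p n = ⊤ := by
    intro n p h
    unfold SpSeq.FilCx.filH
    have := hp₁ n p h
    rw [imageSubobject_mono]
    exact (Subobject.isIso_iff_mk_eq_top _).mp inferInstance
  have hZ : ∀ (p n : ℤ) (r : ℕ), 1 ≤ r → p₀ (n + 1) ≤ p + r → K.ZSub r p n = K.ZTop p n :=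
    fun p n r hr h => ZSub_eq_ZTop_of_isZero K r hr p n (hp₀ _ _ h)
  have hB : ∀ (p n : ℤ) (r : ℕ), 1 ≤ r → p - r + 1 ≤ p₁ n → K.BSub r p n = K.BBot p n := by
    intro p n r hr h
    have := hp₁ n _ h
    exact BSub_eq_BBot_of_mono K r hr p n
  refine ⟨?_, ?_, ?_, ⟨?_, ?_⟩, ?_⟩
  · intro n
    apply (Set.finite_Ico (min (p₁ n) (p₁ (n + 1))) (max (p₀ n) (p₀ (n + 1)))).subset
    intro p hp
    by_contra hcon
    apply hp
    rw [Set.mem_Ico, not_and_or, not_le, not_lt] at hcon
    rcases hcon with h | h
    · have := hp₁ (n + 1) (p + 1) (by omega)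
      have := hp₁ n p (by omega)
      have := hp₁ n (p + 1) (by omega)
      exact isZero_E_one_of_iso K p n
    · exact isZero_E_one_of_isZero K p n (hp₀ _ _ (by omega)) (hp₀ _ _ (by omega))
  · intro n
    exact ⟨⟨p₁ n, htop n _ le_rfl⟩, ⟨p₀ n, hbot n _ le_rfl⟩⟩
  · intro p n
    refine ⟨(p₀ (n + 1) - p).toNat + 1, fun r hr => ?_⟩
    rw [hZ p n r (by omega) (by omega), hZ p n _ (by omega) (by push_cast; omega)]
  · intro p n
    constructor
    · constructor
      · rintro _ ⟨r, rfl⟩
        exact Groth.Agent.Lib.helper7.FilCxBasic.ZTop_le_ZSub K r p n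
      · intro S hS
        have h1 := hS ⟨(p₀ (n + 1) - p).toNat + 1, rfl⟩
        simp only at h1
        rwa [hZ p n _ (by omega) (by push_cast; omega)] at h1
    · constructor
      · rintro _ ⟨r, rfl⟩
        exact Groth.Agent.Lib.helper7.FilCxBasic.BSub_le_BBot K r p n
      · intro S hS
        have h1 := hS ⟨(p + 1 - p₁ n).toNat + 1, rfl⟩
        simp only at h1
        rwa [hB p n _ (by omega) (by push_cast; omega)] at h1
  · intro n
    constructor
    · constructor
      · rintro _ ⟨p, rfl⟩
        exact bot_le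
      · intro S hS
        exact (hS ⟨p₀ n, rfl⟩).trans (hbot n _ le_rfl).le
    · constructor
      · rintro _ ⟨p, rfl⟩
        exact le_top
      · intro S hS
        exact (htop n _ le_rfl).ge.trans (hS ⟨p₁ n, rfl⟩)
  · intro n
    exact Groth.Agent.Lib.helper7.FilCxBasic.isComplete_of_fil_eq_bot (K.HFil n) (p₀ n)
      (hbot n _ le_rfl)

end Groth.Agent.S6794
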