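import Groth.Statements.S6796
import Groth.Agent.Lib.Helper27.Karoubi
-- import your own Groth.Agent.* helpers here

set_option autoImplicit false
open CategoryTheory CategoryTheory.Limits
universe v u
open CategoryTheory CategoryTheory.Preadditive

namespace Groth.Agent.S6796

/-- A preadditive category with countable coproducts in which split monomorphisms have cokernels is
idempotent complete (Karoubian). -/
theorem result {D : Type u} [Category.{v} D] [Preadditive D] [HasCountableCoproducts D] (hk : ∀ ⦃X Y : D⦄ (f : X ⟶ Y), IsSplitMono f → HasCokernel f) : IsIdempotentComplete D := by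
  have : HasCoproductsOfShape ℕ D := HasCountableCoproducts.out ℕ
  apply Groth.Agent.Lib.helper27.isIdempotentComplete_of_coproducts
  intro P f hf
  have := hk f hf
  refine ⟨cokernel f, cokernel.π f, inferInstance, cokernel.condition f, ?_⟩
  intro V j hj
  exact ⟨cokernel.desc f j hj, cokernel.π_desc f j hj⟩

end Groth.Agent.S6796
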