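import Groth.Statements.S6799
import Mathlib

set_option autoImplicit false
open CategoryTheory Opposite
universe u
open SSet

namespace Groth.Agent.S6799

open Simplicial MonoidalCategory CartesianMonoidalCategory

theorem keyK {U V : SSet.{u}} (f₀ f₁ : V ⟶ U) (n : ℕ)
    (h : ∀ i : ℕ, i < n → f₀.app (op (SimplexCategory.mk i)) = f₁.app (op (SimplexCategory.mk i)))
    (a b : SimplexCategory) (ha : a.len ≤ n) (hb : b.len ≤ n) (θ : a ⟶ b)
    (hθ : ¬ Function.Surjective θ.toOrderHom) (v : V.obj (op b)) :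
    f₀.app (op a) (V.map θ.op v) = f₁.app (op a) (V.map θ.op v) := by
  obtain ⟨a⟩ := a
  obtain ⟨b⟩ := b
  change a ≤ n at ha
  change b ≤ n at hb
  rcases Nat.lt_or_ge a n with hlt | hge
  · rw [h a hlt]
  · have han : a = n := le_antisymm ha hge
    subst han
    have hni : ¬ Function.Injective θ.toOrderHom := by
      intro hinj
      have hc := Fintype.card_le_of_injective _ hinj
      simp only [Fintype.card_fin, SimplexCategory.len_mk] at hc
      have hba : b = a := by omega
      subst hba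
      exact hθ (Finite.injective_iff_surjective.mp hinj)
    cases a with
    | zero =>
      exfalso
      apply hni
      intro x y _
      have hx := x.isLt
      have hy := y.isLt
      simp only [SimplexCategory.len_mk] at hx hy
      exact Fin.ext (by omega)
    | succ m =>
      obtain ⟨j, θ', hθ'⟩ := SimplexCategory.eq_σ_comp_of_not_injective θ hni
      have e : V.map θ.op v = V.map (SimplexCategory.σ j).op (V.map θ'.op v) := by
        rw [hθ', op_comp, Functor.map_comp_apply]
      have n0 := NatTrans.naturality_apply f₀ (SimplexCategory.σ j).op (V.map θ'.op v)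
      have n1 := NatTrans.naturality_apply f₁ (SimplexCategory.σ j).op (V.map θ'.op v)
      rw [e, n0, n1, h m (by omega)]

/-- the function defining the homotopy on simplices -/
noncomputable def hfun {U V : SSet.{u}} (f₀ f₁ : V ⟶ U) (m : SimplexCategoryᵒᵖ)
    (p : (V ⊗ Δ[1] : SSet.{u}).obj m) : U.obj m :=
  open Classical in
  if (∀ j, stdSimplex.asOrderHom p.2 j = 1) then f₁.app m p.1 else f₀.app m p.1

theorem hfun_nat {U V : SSet.{u}} (f₀ f₁ : V ⟶ U) (n : ℕ)
    (h : ∀ i : ℕ, i < n → f₀.app (op (SimplexCategory.mk i)) = f₁.app (op (SimplexCategory.mk i)))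
    {m m' : SimplexCategoryᵒᵖ} (hm : m.unop.len ≤ n) (hm' : m'.unop.len ≤ n) (g : m ⟶ m')
    (p : (V ⊗ Δ[1] : SSet.{u}).obj m) :
    hfun f₀ f₁ m' ((V ⊗ Δ[1] : SSet.{u}).map g p) = U.map g (hfun f₀ f₁ m p) := by
  have e1 : ((V ⊗ Δ[1] : SSet.{u}).map g p).1 = V.map g p.1 := rfl
  have e2 : ∀ j, stdSimplex.asOrderHom ((V ⊗ Δ[1] : SSet.{u}).map g p).2 j =
      stdSimplex.asOrderHom p.2 (g.unop.toOrderHom j) := fun j => rfl
  unfold hfun
  by_cases h1 : ∀ j, stdSimplex.asOrderHom p.2 j = 1
  · have h2 : ∀ j, stdSimplex.asOrderHom ((V ⊗ Δ[1] : SSet.{u}).map g p).2 j = 1 :=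
      fun j => (e2 j).trans (h1 _)
    rw [if_pos h2, if_pos h1, e1, NatTrans.naturality_apply]
  · by_cases h2 : ∀ j, stdSimplex.asOrderHom ((V ⊗ Δ[1] : SSet.{u}).map g p).2 j = 1
    · rw [if_pos h2, if_neg h1, e1, ← NatTrans.naturality_apply]
      have hns : ¬ Function.Surjective g.unop.toOrderHom := by
        intro hs
        apply h1
        intro j
        obtain ⟨j', rfl⟩ := hs j
        exact (e2 j').symm.trans (h2 j')
      exact (keyK f₀ f₁ n h m'.unop m.unop hm' hm g.unop hns p.1).symm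
    · rw [if_neg h2, if_neg h1, e1, NatTrans.naturality_apply]



/-- Two maps between `n`-coskeletal simplicial sets which agree on simplices of dimension `< n` are
homotopic, by a single homotopy. -/
theorem result {U V : SSet.{u}} (f₀ f₁ : V ⟶ U) (n : ℕ) (h : ∀ i : ℕ, i < n → f₀.app (op (SimplexCategory.mk i)) = f₁.app (op (SimplexCategory.mk i))) [SimplicialObject.IsCoskeletal U n] [SimplicialObject.IsCoskeletal V n] : Nonempty (SSet.Homotopy f₀ f₁) := by
  obtain ⟨β, hβ⟩ : ∃ β : (SimplexCategory.Truncated.inclusion n).op ⋙ (V ⊗ Δ[1] : SSet.{u}) ⟶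
      (SimplexCategory.Truncated.inclusion n).op ⋙ U,
      ∀ (k : (SimplexCategory.Truncated n)ᵒᵖ)
        (p : (V ⊗ Δ[1] : SSet.{u}).obj ((SimplexCategory.Truncated.inclusion n).op.obj k)),
        β.app k p = hfun f₀ f₁ _ p := by
    refine ⟨{ app := fun k => TypeCat.ofHom
                (hfun f₀ f₁ ((SimplexCategory.Truncated.inclusion n).op.obj k)),
              naturality := ?_ }, fun k p => rfl⟩
    intro k k' θ
    refine ConcreteCategory.hom_ext _ _ (fun p => ?_)
    exact hfun_nat f₀ f₁ n h k.unop.property k'.unop.property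
      ((SimplexCategory.Truncated.inclusion n).op.map θ) p
  obtain ⟨H, hH⟩ : ∃ H : (V ⊗ Δ[1] : SSet.{u}) ⟶ U, ∀ (k : (SimplexCategory.Truncated n)ᵒᵖ),
      H.app ((SimplexCategory.Truncated.inclusion n).op.obj k) = β.app k := by
    refine ⟨U.liftOfIsRightKanExtension (𝟙 ((SimplexCategory.Truncated.inclusion n).op ⋙ U))
      (V ⊗ Δ[1] : SSet.{u}) β, fun k => ?_⟩
    have e := Functor.liftOfIsRightKanExtension_fac_app U
      (𝟙 ((SimplexCategory.Truncated.inclusion n).op ⋙ U)) (V ⊗ Δ[1] : SSet.{u}) β k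
    rw [NatTrans.id_app, Category.comp_id] at e
    exact e
  have ext_U : ∀ (γ₁ γ₂ : V ⟶ U), (∀ (k : (SimplexCategory.Truncated n)ᵒᵖ),
      γ₁.app ((SimplexCategory.Truncated.inclusion n).op.obj k) =
        γ₂.app ((SimplexCategory.Truncated.inclusion n).op.obj k)) → γ₁ = γ₂ := by
    intro γ₁ γ₂ hγ
    refine Functor.hom_ext_of_isRightKanExtension U
      (𝟙 ((SimplexCategory.Truncated.inclusion n).op ⋙ U)) γ₁ γ₂ ?_
    refine NatTrans.ext (funext (fun k => ?_))
    show γ₁.app ((SimplexCategory.Truncated.inclusion n).op.obj k) ≫ 𝟙 _ =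
      γ₂.app ((SimplexCategory.Truncated.inclusion n).op.obj k) ≫ 𝟙 _
    rw [hγ k]
  have h0 : ι₀ ≫ H = f₀ := by
    refine ext_U _ _ (fun k => ?_)
    refine ConcreteCategory.hom_ext _ _ (fun v => ?_)
    show H.app ((SimplexCategory.Truncated.inclusion n).op.obj k) (ι₀.app _ v) = f₀.app _ v
    rw [hH, hβ]
    unfold hfun
    rw [if_neg]
    · rfl
    · intro hc
      have e0 : stdSimplex.asOrderHom
          ((ι₀ (X := V)).app ((SimplexCategory.Truncated.inclusion n).op.obj k) v).2 0 = 0 := rfl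
      exact absurd (e0.symm.trans (hc 0)) (by decide)
  have h1 : ι₁ ≫ H = f₁ := by
    refine ext_U _ _ (fun k => ?_)
    refine ConcreteCategory.hom_ext _ _ (fun v => ?_)
    show H.app ((SimplexCategory.Truncated.inclusion n).op.obj k) (ι₁.app _ v) = f₁.app _ v
    rw [hH, hβ]
    unfold hfun
    rw [if_pos]
    · rfl
    · intro j
      rfl
  refine ⟨(show (RelativeMorphism.botEquiv.symm f₀).Homotopy (RelativeMorphism.botEquiv.symm f₁)
    from { h := H, h₀ := h0, h₁ := h1, rel := ?_ })⟩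
  ext _ ⟨⟨_, hx⟩, _⟩
  tauto


end Groth.Agent.S6799
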