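import Groth.Statements.S6800
import Mathlib

set_option autoImplicit false
open CategoryTheory CategoryTheory.Limits
universe v u
open CategoryTheory CategoryTheory.SimplicialObject CategoryTheory.SimplicialObject.Truncated

namespace Groth.Agent.S6800

instance finite_truncated (m : ℕ) : Finite (SimplexCategory.Truncated m) := by
  apply Finite.of_injective (fun a : SimplexCategory.Truncated m => (⟨a.1.len, Nat.lt_succ_of_le a.2⟩ : Fin (m + 1)))
  intro a b h
  simp only [Fin.mk.injEq] at h
  cases a; cases b
  congr
  exact SimplexCategory.ext h

instance finite_str (m : ℕ) (Y : SimplexCategoryᵒᵖ) : Finite (StructuredArrow Y (SimplexCategory.Truncated.inclusion m).op) := by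
  apply Finite.of_injective (fun X : StructuredArrow Y (SimplexCategory.Truncated.inclusion m).op =>
    (⟨X.right.unop, X.hom.unop⟩ : Σ a : SimplexCategory.Truncated m, (a.1 ⟶ Y.unop)))
  intro X X' h
  obtain ⟨l, r, f⟩ := X
  obtain ⟨l', r', f'⟩ := X'
  simp only [Sigma.mk.injEq] at h
  obtain ⟨h1, h2⟩ := h
  have hr : r = r' := by
    have := congrArg Opposite.op h1
    simpa using this
  subst hr
  have hf : f = f' := by
    have := eq_of_heq h2
    exact Quiver.Hom.unop_inj this
  subst hf
  obtain rfl : l = l' := Subsingleton.elim _ _
  rfl


/-- In a category with finite limits every truncated simplicial object has a pointwise right Kan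
extension along the inclusion of the truncated simplex category, i.e. the coskeleton functors exist
and are given by the limit formula. -/
theorem result {C : Type u} [Category.{v} C] [HasFiniteLimits C] (m : ℕ) (U : (SimplexCategory.Truncated m)ᵒᵖ ⥤ C) : (SimplexCategory.Truncated.inclusion m).op.HasPointwiseRightKanExtension U := by
  intro Y
  classical
  letI : FinCategory (StructuredArrow Y (SimplexCategory.Truncated.inclusion m).op) :=
    { fintypeObj := Fintype.ofFinite _
      fintypeHom := fun j j' => by
        haveI : Finite (j ⟶ j') := by
          apply Finite.of_injective (fun φ : j ⟶ j' => φ.right.unop.hom)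
          intro φ ψ h
          ext
          exact Quiver.Hom.unop_inj (ObjectProperty.hom_ext _ h)
        exact Fintype.ofFinite _ }
  unfold Functor.HasPointwiseRightKanExtensionAt
  infer_instance

end Groth.Agent.S6800
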