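import Groth.Statements.S6801
import Groth.Agent.Lib.Helper7.FilObjElem

set_option autoImplicit false
open CategoryTheory
universe v u
open SpSeq SpSeq.FilObj

namespace Groth.Agent.S6801

/-- The composite of two strict morphisms of filtered objects is strict when the second one is a
monomorphism. (In general a composite of strict morphisms is not strict.) -/
theorem result {A : Type u} [Category.{v} A] [Abelian A] {K L M : SpSeq.FilObj A} (f : K ⟶ L) (g : L ⟶ M) (hf : SpSeq.FilObj.IsStrict f) (hg : SpSeq.FilObj.IsStrict g) [Mono g.hom] : SpSeq.FilObj.IsStrict (f ≫ g) := by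
  rw [Groth.Agent.Lib.helper7.FilObjElem.isStrict_iff] at hf hg ⊢
  intro p T x hx ⟨T₁, π₁, hπ₁, y, hy⟩
  have hy' : π₁ ≫ x = (y ≫ f.hom) ≫ g.hom := by rw [hy, Category.assoc]; rfl
  -- apply strictness of `g` to `π₁ ≫ x`
  have hx1 : (M.fil p).Factors (π₁ ≫ x) := Subobject.factors_of_factors_right π₁ hx
  obtain ⟨T₂, π₂, hπ₂, w, hw1, hw2⟩ := hg p T₁ (π₁ ≫ x) hx1 ⟨T₁, 𝟙 _, inferInstance, y ≫ f.hom, by
    rw [Category.id_comp, hy']⟩
  -- `g` mono: `π₂ ≫ y ≫ f = w`
  have hw3 : π₂ ≫ y ≫ f.hom = w := by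
    rw [← cancel_mono g.hom, ← hw2, hy', Category.assoc, Category.assoc]
  -- apply strictness of `f` to `w`
  obtain ⟨T₃, π₃, hπ₃, v, hv1, hv2⟩ := hf p T₂ w hw1 ⟨T₂, 𝟙 _, inferInstance, π₂ ≫ y, by
    rw [Category.id_comp, ← hw3, Category.assoc]⟩
  refine ⟨T₃, π₃ ≫ π₂ ≫ π₁, inferInstance, v, hv1, ?_⟩
  change _ = v ≫ f.hom ≫ g.hom
  rw [← Category.assoc v, ← hv2, Category.assoc, Category.assoc, Category.assoc, hw2]

end Groth.Agent.S6801
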