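import Groth.Statements.S6802
import Groth.Agent.Lib.Helper7.FilObjElem

set_option autoImplicit false
open CategoryTheory
universe v u
open SpSeq SpSeq.FilObj

namespace Groth.Agent.S6802

/-- The composite of two strict morphisms of filtered objects is strict when the first one is an
epimorphism. -/
theorem result {A : Type u} [Category.{v} A] [Abelian A] {K L M : SpSeq.FilObj A} (f : K ⟶ L) (g : L ⟶ M) (hf : SpSeq.FilObj.IsStrict f) (hg : SpSeq.FilObj.IsStrict g) [Epi f.hom] : SpSeq.FilObj.IsStrict (f ≫ g) := by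
  rw [Groth.Agent.Lib.helper7.FilObjElem.isStrict_iff] at hf hg ⊢
  intro p T x hx ⟨T₁, π₁, hπ₁, y, hy⟩
  have hy' : π₁ ≫ x = (y ≫ f.hom) ≫ g.hom := by rw [hy, Category.assoc]; rfl
  have hx1 : (M.fil p).Factors (π₁ ≫ x) := Subobject.factors_of_factors_right π₁ hx
  obtain ⟨T₂, π₂, hπ₂, w, hw1, hw2⟩ := hg p T₁ (π₁ ≫ x) hx1 ⟨T₁, 𝟙 _, inferInstance, y ≫ f.hom, by
    rw [Category.id_comp, hy']⟩
  -- `w` is in the image of the epimorphism `f`
  obtain ⟨T₃, π₃, hπ₃, v, hv1, hv2⟩ := hf p T₂ w hw1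
    ⟨Limits.pullback w f.hom, Limits.pullback.fst w f.hom, inferInstance, Limits.pullback.snd w f.hom,
      Limits.pullback.condition⟩
  refine ⟨T₃, π₃ ≫ π₂ ≫ π₁, inferInstance, v, hv1, ?_⟩
  change _ = v ≫ f.hom ≫ g.hom
  rw [← Category.assoc v, ← hv2, Category.assoc, Category.assoc, Category.assoc, hw2]

end Groth.Agent.S6802
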