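import Groth.Statements.S6805
import Mathlib
-- import your own Groth.Agent.* helpers here

set_option autoImplicit false
open CategoryTheory
universe u
open SSet Simplicial Functor Limits Opposite

namespace Groth.Agent.S6805

/-- The simplicial set freely generated by an `m`-truncated simplicial set (its image under the left
adjoint of `m`-truncation) has only degenerate simplices above dimension `m`. -/
theorem result (m : ℕ) (U : SSet.Truncated.{u} m) : ((SSet.Truncated.sk m).obj U).HasDimensionLT (m + 1) := by
  constructor
  intro k hk
  rw [Set.top_eq_univ, Set.eq_univ_iff_forall]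
  intro x
  let L := (SimplexCategory.Truncated.inclusion m).op
  have hP : (LeftExtension.mk _ (L.lanUnit.app U)).IsPointwiseLeftKanExtension :=
    isPointwiseLeftKanExtensionOfIsLeftKanExtension _ (L.lanUnit.app U)
  have hc := hP (op ⦋k⦌)
  obtain ⟨j, u, hu⟩ := Types.jointly_surjective_of_isColimit hc x
  simp only [LeftExtension.coconeAt_ι_app] at hu
  have hj : j.left.unop.obj.len ≤ m := j.left.unop.property
  refine ⟨j.left.unop.obj.len, by omega, j.hom.unop, ?_⟩
  refine ⟨(L.lanUnit.app U).app j.left u, ?_⟩
  rw [← hu]
  rfl

end Groth.Agent.S6805
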