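import Groth.Statements.S6807
import Mathlib
import Groth.Agent.S6786
import Groth.Agent.S6787
import Groth.Agent.Lib.Helper1.AbCxElem

set_option autoImplicit false
open CategoryTheory CategoryTheory.Limits
universe u
open HomAlg3

namespace Groth.Agent.S6807

set_option linter.style.haveILetI false
open Opposite HomologicalComplex
open Groth.Agent.H1.AbCxElem

theorem sec_surj {A B C : ℕᵒᵖ ⥤ AddCommGrpCat.{u}} (a : A ⟶ B) (b : B ⟶ C)
    (hB : ∀ i, (b.app i).hom.ker = (a.app i).hom.range)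
    (hA : (A ⋙ forget AddCommGrpCat).IsMittagLeffler)
    (y : ∀ i, C.obj i) (hy : ∀ ⦃i j : ℕᵒᵖ⦄ (φ : i ⟶ j), (C.map φ).hom (y i) = y j)
    (hne : ∀ i, ∃ x, (b.app i).hom x = y i) :
    ∃ x : ∀ i, B.obj i, (∀ ⦃i j : ℕᵒᵖ⦄ (φ : i ⟶ j), (B.map φ).hom (x i) = x j) ∧
      ∀ i, (b.app i).hom (x i) = y i := by
  have hne' : ∀ i, Nonempty ((Groth.Agent.S6786.E b y hy).obj i) :=
    fun i => let ⟨x, hx⟩ := hne i; ⟨⟨x, hx⟩⟩
  have hml := Groth.Agent.S6786.E_ml a b hB hA y hy hne'
  have := hne'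
  have hne'' := fun j => (Groth.Agent.S6786.E b y hy).toEventualRanges_nonempty hml j
  obtain ⟨x0⟩ := hne'' (op 0)
  obtain ⟨s, hs⟩ := Groth.Agent.S15235.sections_surj (Groth.Agent.S6786.E b y hy).toEventualRanges 0
    (fun j _ => (Groth.Agent.S6786.E b y hy).surjective_toEventualRanges hml _) x0
  let s' := (Groth.Agent.S6786.E b y hy).toEventualRangesSectionsEquiv s
  exact ⟨fun i => (s'.1 i).1, fun i j φ => congrArg Subtype.val (s'.2 φ), fun i => (s'.1 i).2⟩

theorem ml_of_surj {F G : ℕᵒᵖ ⥤ AddCommGrpCat.{u}} (φ : F ⟶ G)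
    (hφ : ∀ i, Function.Surjective (φ.app i).hom)
    (hF : (F ⋙ forget AddCommGrpCat).IsMittagLeffler) :
    (G ⋙ forget AddCommGrpCat).IsMittagLeffler := by
  rw [Groth.Agent.S6787.ml_iff] at hF ⊢
  intro n
  obtain ⟨k, h, hk⟩ := hF n
  refine ⟨k, h, fun m h' hkm x => ?_⟩
  obtain ⟨x', rfl⟩ := hφ (op k) x
  obtain ⟨y, hy⟩ := hk m h' hkm x'
  refine ⟨(φ.app (op m)).hom y, ?_⟩
  rw [← Groth.Agent.S6787.t_nat, hy, Groth.Agent.S6787.t_nat]

/-- sub-system of a tower -/
def subSys (F : ℕᵒᵖ ⥤ AddCommGrpCat.{u}) (S : ∀ i, AddSubgroup (F.obj i))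
    (hS : ∀ ⦃i j : ℕᵒᵖ⦄ (φ : i ⟶ j) (x : F.obj i), x ∈ S i → (F.map φ).hom x ∈ S j) :
    ℕᵒᵖ ⥤ AddCommGrpCat.{u} where
  obj i := AddCommGrpCat.of (S i)
  map {i j} φ := AddCommGrpCat.ofHom
    (((F.map φ).hom.comp (S i).subtype).codRestrict (S j) (fun x => hS φ x.1 x.2))
  map_id i := by
    ext x
    simp
  map_comp φ ψ := by
    ext x
    simp

def subSysι (F : ℕᵒᵖ ⥤ AddCommGrpCat.{u}) (S : ∀ i, AddSubgroup (F.obj i))
    (hS : ∀ ⦃i j : ℕᵒᵖ⦄ (φ : i ⟶ j) (x : F.obj i), x ∈ S i → (F.map φ).hom x ∈ S j) :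
    subSys F S hS ⟶ F where
  app i := AddCommGrpCat.ofHom (S i).subtype
  naturality i j φ := by
    ext x
    rfl

def subSysLift {G : ℕᵒᵖ ⥤ AddCommGrpCat.{u}} (F : ℕᵒᵖ ⥤ AddCommGrpCat.{u})
    (S : ∀ i, AddSubgroup (F.obj i))
    (hS : ∀ ⦃i j : ℕᵒᵖ⦄ (φ : i ⟶ j) (x : F.obj i), x ∈ S i → (F.map φ).hom x ∈ S j)
    (ψ : G ⟶ F) (h : ∀ i x, (ψ.app i).hom x ∈ S i) :
    G ⟶ subSys F S hS where
  app i := AddCommGrpCat.ofHom ((ψ.app i).hom.codRestrict (S i) (h i))
  naturality i j φ := by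
    ext x
    apply Subtype.ext
    have := congr($(ψ.naturality φ).hom x)
    simp only [AddCommGrpCat.hom_comp, AddMonoidHom.coe_comp, Function.comp_apply] at this
    exact this


section sys
variable (K : ℕᵒᵖ ⥤ HomologicalComplex AddCommGrpCat.{u} (ComplexShape.up ℤ))

abbrev Xs (q : ℤ) : ℕᵒᵖ ⥤ AddCommGrpCat.{u} := K ⋙ HomologicalComplex.eval _ _ q
noncomputable abbrev Zs (q : ℤ) : ℕᵒᵖ ⥤ AddCommGrpCat.{u} := K ⋙ HomologicalComplex.cyclesFunctor _ _ q
noncomputable abbrev Hs (q : ℤ) : ℕᵒᵖ ⥤ AddCommGrpCat.{u} := K ⋙ HomologicalComplex.homologyFunctor _ _ q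

noncomputable def ιs (q : ℤ) : Zs K q ⟶ Xs K q where
  app i := (K.obj i).iCycles q
  naturality i j φ := by
    show HomologicalComplex.cyclesMap (K.map φ) q ≫ (K.obj j).iCycles q =
      (K.obj i).iCycles q ≫ (K.map φ).f q
    exact HomologicalComplex.cyclesMap_i _ _

noncomputable def πs (q : ℤ) : Zs K q ⟶ Hs K q :=
  Functor.whiskerLeft K (HomologicalComplex.natTransHomologyπ _ _ q)

noncomputable def toZs (q q' : ℤ) : Xs K q ⟶ Zs K q' where
  app i := (K.obj i).toCycles q q'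
  naturality i j φ := by
    show (K.map φ).f q ≫ (K.obj j).toCycles q q' =
      (K.obj i).toCycles q q' ≫ HomologicalComplex.cyclesMap (K.map φ) q'
    rw [← cancel_mono ((K.obj j).iCycles q')]
    simp

lemma πs_app (q : ℤ) (i : ℕᵒᵖ) : (πs K q).app i = (K.obj i).homologyπ q := rfl

lemma ker_πs (q q' : ℤ) (hq : q + 1 = q') (i : ℕᵒᵖ) :
    ((πs K q').app i).hom.ker = ((toZs K q q').app i).hom.range := by
  ext z
  constructor
  · intro hz
    obtain ⟨y, hy⟩ := exists_boundary (K.obj i) q q' hq z hz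
    exact ⟨y, hy⟩
  · rintro ⟨y, rfl⟩
    exact homologyπ_toCycles (K.obj i) q q' y

lemma ker_toZs (q q' : ℤ) (hq : q + 1 = q') (i : ℕᵒᵖ) :
    ((toZs K q q').app i).hom.ker = ((ιs K q).app i).hom.range := by
  ext x
  constructor
  · intro hx
    have h1 : (K.obj i).d q q' x = 0 := by
      rw [← iCycles_toCycles]
      have : (K.obj i).toCycles q q' x = 0 := hx
      rw [this, map_zero]
    obtain ⟨z, hz⟩ := exists_cycle (K.obj i) q q' hq x h1
    exact ⟨z, hz⟩
  · rintro ⟨z, rfl⟩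
    show (K.obj i).toCycles q q' ((K.obj i).iCycles q z) = 0
    apply iCycles_injective (K.obj i) q'
    rw [iCycles_toCycles, d_iCycles, map_zero]


lemma ml_Zs (n : ℤ)
    (h2 : ((Xs K (n - 2)) ⋙ forget AddCommGrpCat).IsMittagLeffler)
    (hH : ∃ (C₀ : AddCommGrpCat.{u}) (c : (Functor.const ℕᵒᵖ).obj C₀ ⟶ Hs K (n - 1)),
      DerCA.IsEssConstant (Hs K (n - 1)) C₀ c) :
    ((Zs K (n - 1)) ⋙ forget AddCommGrpCat).IsMittagLeffler := by
  let S : ∀ i, AddSubgroup ((Zs K (n - 1)).obj i) :=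
    fun i => ((toZs K (n - 2) (n - 1)).app i).hom.range
  have hS : ∀ ⦃i j : ℕᵒᵖ⦄ (φ : i ⟶ j) (x : (Zs K (n - 1)).obj i), x ∈ S i →
      ((Zs K (n - 1)).map φ).hom x ∈ S j := by
    rintro i j φ _ ⟨y, rfl⟩
    refine ⟨((Xs K (n - 2)).map φ).hom y, ?_⟩
    have := congr($((toZs K (n - 2) (n - 1)).naturality φ).hom y)
    simp only [AddCommGrpCat.hom_comp, AddMonoidHom.coe_comp, Function.comp_apply] at this
    exact this
  have hBml : ((subSys (Zs K (n - 1)) S hS) ⋙ forget AddCommGrpCat).IsMittagLeffler := by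
    refine ml_of_surj (subSysLift _ S hS (toZs K (n - 2) (n - 1)) (fun i x => ⟨x, rfl⟩)) ?_ h2
    rintro i ⟨z, ⟨y, rfl⟩⟩
    exact ⟨y, Subtype.ext rfl⟩
  refine (Groth.Agent.S6787.result (subSysι _ S hS) (πs K (n - 1)) ?_ ?_ ?_ hH).1 hBml
  · intro i
    exact Subtype.val_injective
  · intro i
    exact homologyπ_surjective (K.obj i) (n - 1)
  · intro i
    rw [ker_πs K (n - 2) (n - 1) (by ring) i]
    exact (AddSubgroup.range_subtype (S i)).symm

lemma L_ext (q : ℤ) (x x' : (limit K).X q)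
    (h : ∀ i, (limit.π K i).f q x = (limit.π K i).f q x') : x = x' := by
  have hc := isLimitOfPreserves (HomologicalComplex.eval _ _ q) (limit.isLimit K)
  exact Concrete.isLimit_ext _ hc x x' h

lemma L_mk (q : ℤ) (x : ∀ i, (K.obj i).X q)
    (hx : ∀ ⦃i j : ℕᵒᵖ⦄ (φ : i ⟶ j), (K.map φ).f q (x i) = x j) :
    ∃ y : (limit K).X q, ∀ i, (limit.π K i).f q y = x i := by
  have hc := isLimitOfPreserves (HomologicalComplex.eval _ _ q) (limit.isLimit K)
  have hc' := isLimitOfPreserves (forget AddCommGrpCat) hc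
  let s : ((K ⋙ HomologicalComplex.eval _ _ q) ⋙ forget AddCommGrpCat).sections :=
    ⟨x, fun φ => hx φ⟩
  refine ⟨(Types.isLimitEquivSections hc').symm s, fun i => ?_⟩
  exact Types.isLimitEquivSections_symm_apply hc' s i


lemma pi_w (q : ℤ) ⦃i j : ℕᵒᵖ⦄ (φ : i ⟶ j) (x : (limit K).X q) :
    (K.map φ).f q ((limit.π K i).f q x) = (limit.π K j).f q x := by
  have h : limit.π K i ≫ K.map φ = limit.π K j := limit.w K φ
  have h2 := congrArg (fun g => (HomologicalComplex.Hom.f g q)) h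
  simp only [HomologicalComplex.comp_f] at h2
  exact congr($(h2).hom x)

lemma cyc_w (q : ℤ) ⦃i j : ℕᵒᵖ⦄ (φ : i ⟶ j) (z : (limit K).cycles q) :
    HomologicalComplex.cyclesMap (K.map φ) q (HomologicalComplex.cyclesMap (limit.π K i) q z) =
      HomologicalComplex.cyclesMap (limit.π K j) q z := by
  have h : limit.π K i ≫ K.map φ = limit.π K j := limit.w K φ
  rw [← h, HomologicalComplex.cyclesMap_comp]
  rfl

lemma d_comm {A B : HomologicalComplex AddCommGrpCat.{u} (ComplexShape.up ℤ)} (f : A ⟶ B)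
    (q q' : ℤ) (x : A.X q) : f.f q' (A.d q q' x) = B.d q q' (f.f q x) := by
  exact (congr($(f.comm q q').hom x)).symm

theorem main (n : ℤ)
    (h2 : ((K ⋙ HomologicalComplex.eval _ _ (n - 2)) ⋙ forget AddCommGrpCat).IsMittagLeffler)
    (h1 : ((K ⋙ HomologicalComplex.eval _ _ (n - 1)) ⋙ forget AddCommGrpCat).IsMittagLeffler)
    (hH : ∃ (C₀ : AddCommGrpCat.{u})
      (c : (Functor.const ℕᵒᵖ).obj C₀ ⟶ K ⋙ HomologicalComplex.homologyFunctor _ _ (n - 1)),
      DerCA.IsEssConstant (K ⋙ HomologicalComplex.homologyFunctor _ _ (n - 1)) C₀ c) :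
    IsIso (limit.post K (HomologicalComplex.homologyFunctor _ _ n)) := by
  have hZ := ml_Zs K n h2 hH
  have hpost : ∀ (i : ℕᵒᵖ) (h : (limit K).homology n),
      (limit.π (Hs K n) i).hom ((limit.post K (HomologicalComplex.homologyFunctor _ _ n)).hom h) =
        HomologicalComplex.homologyMap (limit.π K i) n h := by
    intro i h
    exact congr($(limit.post_π K (HomologicalComplex.homologyFunctor _ _ n) i).hom h)
  rw [ConcreteCategory.isIso_iff_bijective]
  constructor
  · -- injective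
    show Function.Injective (limit.post K (HomologicalComplex.homologyFunctor _ _ n)).hom
    rw [injective_iff_map_eq_zero]
    intro h hh
    obtain ⟨ζ, rfl⟩ := homologyπ_surjective (limit K) n h
    have hz0 : ∀ i, (K.obj i).homologyπ n (HomologicalComplex.cyclesMap (limit.π K i) n ζ) = 0 := by
      intro i
      rw [← homologyMap_homologyπ]
      have := hpost i ((limit K).homologyπ n ζ)
      rw [hh, map_zero] at this
      exact this.symm
    obtain ⟨w, hw, hwz⟩ := sec_surj (ιs K (n - 1)) (toZs K (n - 1) n)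
      (ker_toZs K (n - 1) n (by ring)) hZ
      (fun i => HomologicalComplex.cyclesMap (limit.π K i) n ζ) (fun i j φ => cyc_w K n φ ζ)
      (fun i => by
        obtain ⟨y, hy⟩ := exists_boundary (K.obj i) (n - 1) n (by ring) _ (hz0 i)
        exact ⟨y, hy⟩)
    obtain ⟨ω, hω⟩ := L_mk K (n - 1) w (fun i j φ => hw φ)
    have key : (limit K).toCycles (n - 1) n ω = ζ := by
      apply iCycles_injective (limit K) n
      rw [iCycles_toCycles]
      apply L_ext K n
      intro i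
      rw [d_comm, hω, ← iCycles_cyclesMap, ← hwz i]
      exact (iCycles_toCycles (K.obj i) (n - 1) n (w i)).symm
    rw [← key]
    exact homologyπ_toCycles (limit K) (n - 1) n ω
  · intro y
    have hy : ∀ ⦃i j : ℕᵒᵖ⦄ (φ : i ⟶ j),
        ((Hs K n).map φ).hom ((limit.π (Hs K n) i).hom y) = (limit.π (Hs K n) j).hom y := by
      intro i j φ
      exact congr($(limit.w (Hs K n) φ).hom y)
    obtain ⟨z, hz, hzy⟩ := sec_surj (toZs K (n - 1) n) (πs K n) (ker_πs K (n - 1) n (by ring)) h1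
      (fun i => (limit.π (Hs K n) i).hom y) hy
      (fun i => homologyπ_surjective (K.obj i) n _)
    obtain ⟨x, hx⟩ := L_mk K n (fun i => (K.obj i).iCycles n (z i)) (by
      intro i j φ
      rw [← iCycles_cyclesMap]
      exact congrArg _ (hz φ))
    have hdx : (limit K).d n (n + 1) x = 0 := by
      apply L_ext K (n + 1)
      intro i
      rw [d_comm, hx, d_iCycles, map_zero]
    obtain ⟨ζ, hζ⟩ := exists_cycle (limit K) n (n + 1) rfl x hdx
    refine ⟨(limit K).homologyπ n ζ, ?_⟩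
    apply Concrete.limit_ext
    intro i
    have hcz : HomologicalComplex.cyclesMap (limit.π K i) n ζ = z i := by
      apply iCycles_injective (K.obj i) n
      rw [iCycles_cyclesMap, hζ, hx]
    have h3 := hpost i ((limit K).homologyπ n ζ)
    rw [homologyMap_homologyπ, hcz] at h3
    exact h3.trans (hzy i)

end sys



/-- For an inverse system of cochain complexes of abelian groups over `ℕ` whose terms in degrees `n-2`
and `n-1` form Mittag-Leffler systems and whose degree-`(n-1)` cohomologies form an essentially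
constant system, the canonical map from the degree-`n` cohomology of the limit complex to the limit
of the degree-`n` cohomologies is an isomorphism. (The published statement is for four-term
complexes in degrees `-2, …, 1`; only those four degrees of a longer complex enter.) -/
theorem result (K : ℕᵒᵖ ⥤ HomologicalComplex AddCommGrpCat.{u} (ComplexShape.up ℤ)) (n : ℤ) (h2 : ((K ⋙ HomologicalComplex.eval _ _ (n - 2)) ⋙ forget AddCommGrpCat).IsMittagLeffler) (h1 : ((K ⋙ HomologicalComplex.eval _ _ (n - 1)) ⋙ forget AddCommGrpCat).IsMittagLeffler) (hH : ∃ (C₀ : AddCommGrpCat.{u}) (c : (Functor.const ℕᵒᵖ).obj C₀ ⟶ K ⋙ HomologicalComplex.homologyFunctor _ _ (n - 1)), DerCA.IsEssConstant (K ⋙ HomologicalComplex.homologyFunctor _ _ (n - 1)) C₀ c) : IsIso (limit.post K (HomologicalComplex.homologyFunctor _ _ n)) := by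
  exact main K n h2 h1 hH

end Groth.Agent.S6807
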