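import Groth.Statements.S6811
import Groth.Agent.S6800

set_option autoImplicit false
open CategoryTheory CategoryTheory.Limits
universe v u
open CategoryTheory CategoryTheory.SimplicialObject

namespace Groth.Agent.S6811

section General
open CategoryTheory.Functor
variable {A B D H : Type*} [Category A] [Category B] [Category D] [Category H]

theorem isRightKanExtension_of_comp (J : A ⥤ B) (L' : B ⥤ D) [L'.Full] [L'.Faithful] (X : D ⥤ H)
    [(J ⋙ L').HasPointwiseRightKanExtension ((J ⋙ L') ⋙ X)]
    [X.IsRightKanExtension (𝟙 ((J ⋙ L') ⋙ X))] : X.IsRightKanExtension (𝟙 (L' ⋙ X)) := by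
  have hE := isPointwiseRightKanExtensionOfIsRightKanExtension X (𝟙 ((J ⋙ L') ⋙ X))
  -- hom-ext
  have hext : ∀ (G : B ⥤ H) (σ τ : G ⟶ L' ⋙ X), whiskerLeft J σ = whiskerLeft J τ → σ = τ := by
    intro G σ τ h
    ext k'
    apply (hE (L'.obj k')).hom_ext'
    intro k φ
    obtain ⟨ψ, rfl⟩ := L'.map_surjective (X := k') (Y := J.obj k) φ
    have h1 := σ.naturality ψ
    have h2 := τ.naturality ψ
    have h3 : σ.app (J.obj k) = τ.app (J.obj k) := congrArg (fun ν => ν.app k) h
    simp only [Functor.comp_obj, Functor.comp_map] at h1 h2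
    simp only [RightExtension.mk_hom, NatTrans.id_app, Functor.comp_obj]
    erw [Category.comp_id]
    change σ.app k' ≫ X.map (L'.map ψ) = τ.app k' ≫ X.map (L'.map ψ)
    rw [← h1, ← h2, h3]
  have hfac : ∀ (G : D ⥤ H) (β : L' ⋙ G ⟶ L' ⋙ X),
      whiskerLeft L' (X.liftOfIsRightKanExtension (𝟙 ((J ⋙ L') ⋙ X)) G (whiskerLeft J β)) = β := by
    intro G β
    apply hext
    have := X.liftOfIsRightKanExtension_fac (𝟙 ((J ⋙ L') ⋙ X)) G (whiskerLeft J β)
    rw [Category.comp_id] at this
    exact this
  refine ⟨⟨IsTerminal.ofUniqueHom (fun Gβ => CostructuredArrow.homMk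
    (X.liftOfIsRightKanExtension (𝟙 ((J ⋙ L') ⋙ X)) Gβ.left (whiskerLeft J Gβ.hom)) ?_)
    (fun Gβ m => ?_)⟩⟩
  · simp only [RightExtension.mk_hom, whiskeringLeft_obj_map]
    erw [Category.comp_id]
    exact hfac Gβ.left Gβ.hom
  · apply CostructuredArrow.hom_ext
    simp only [CostructuredArrow.homMk_left]
    apply X.hom_ext_of_isRightKanExtension (𝟙 ((J ⋙ L') ⋙ X))
    rw [liftOfIsRightKanExtension_fac, Category.comp_id]
    have hw := CostructuredArrow.w m
    simp only [RightExtension.mk_hom, whiskeringLeft_obj_map] at hw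
    erw [Category.comp_id] at hw
    change whiskerLeft J (whiskerLeft L' m.left) = _
    rw [hw]
    rfl
end General

/-- In a category with finite limits, an `n`-coskeletal simplicial object is `m`-coskeletal for every `m
≥ n`. -/
theorem result {C : Type u} [Category.{v} C] [HasFiniteLimits C] (U : SimplicialObject C) {n m : ℕ} (h : n ≤ m) [U.IsCoskeletal n] : U.IsCoskeletal m := by
  haveI : ((SimplexCategory.Truncated.incl n m h).op ⋙ (SimplexCategory.Truncated.inclusion m).op).HasPointwiseRightKanExtension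
      (((SimplexCategory.Truncated.incl n m h).op ⋙ (SimplexCategory.Truncated.inclusion m).op) ⋙ U) :=
    Groth.Agent.S6800.result n ((SimplexCategory.Truncated.inclusion n).op ⋙ U)
  haveI : U.IsRightKanExtension (𝟙 (((SimplexCategory.Truncated.incl n m h).op ⋙
      (SimplexCategory.Truncated.inclusion m).op) ⋙ U)) :=
    (inferInstance : U.IsRightKanExtension (𝟙 ((SimplexCategory.Truncated.inclusion n).op ⋙ U)))
  exact ⟨isRightKanExtension_of_comp (SimplexCategory.Truncated.incl n m h).op
    (SimplexCategory.Truncated.inclusion m).op U⟩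

end Groth.Agent.S6811
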