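import Groth.Statements.S6813
import Mathlib
import Groth.Agent.S6800
-- import your own Groth.Agent.* helpers here

set_option autoImplicit false
open CategoryTheory CategoryTheory.Limits
universe v u
open CategoryTheory CategoryTheory.SimplicialObject

namespace Groth.Agent.S6813

/-- For `k ≥ 1` the forgetful functor from the over category `C/X` to `C` (with `C` having finite
limits) commutes with `cosk_k`; stated as: a `k`-coskeletal simplicial object of `C/X` has
`k`-coskeletal underlying simplicial object in `C`. -/
theorem result {C : Type u} [Category.{v} C] [HasFiniteLimits C] (X : C) (k : ℕ) (hk : 1 ≤ k) (V : SimplicialObject (Over X)) [V.IsCoskeletal k] : SimplicialObject.IsCoskeletal (V ⋙ Over.forget X) k := by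
  haveI : NeZero k := ⟨by omega⟩
  haveI : (SimplexCategory.Truncated.inclusion k).op.HasPointwiseRightKanExtension
      ((SimplexCategory.Truncated.inclusion k).op ⋙ V) := Groth.Agent.S6800.result k _
  haveI : ∀ Y, PreservesLimit (StructuredArrow.proj Y (SimplexCategory.Truncated.inclusion k).op ⋙
      ((SimplexCategory.Truncated.inclusion k).op ⋙ V)) (Over.forget X) := by
    intro Y
    haveI : IsConnected (StructuredArrow Y (SimplexCategory.Truncated.inclusion k).op) :=
      Functor.Final.out Y
    infer_instance
  have h := Functor.PreservesRightKanExtension.preserves (G := Over.forget X) V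
    (𝟙 ((SimplexCategory.Truncated.inclusion k).op ⋙ V))
  constructor
  have heq : (((SimplexCategory.Truncated.inclusion k).op.associator V (Over.forget X)).inv ≫
      Functor.whiskerRight (𝟙 ((SimplexCategory.Truncated.inclusion k).op ⋙ V)) (Over.forget X)) =
      𝟙 _ := by
    ext
    simp
  rw [heq] at h
  exact h

end Groth.Agent.S6813
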