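import Groth.Statements.S6815
import Mathlib

set_option autoImplicit false
open CategoryTheory CategoryTheory.Limits
universe w v u
open CategoryTheory CategoryTheory.SimplicialObject

namespace Groth.Agent.S6815

open Simplicial Opposite

section
variable {C : Type u} [Category.{v} C] {T : Type w} [HasLimitsOfShape (Discrete T) C]

noncomputable def isLim (Y : T → SimplicialObject C) (k : SimplexCategoryᵒᵖ) :
    IsLimit (((evaluation _ C).obj k).mapCone (limit.cone (Discrete.functor Y))) :=
  isLimitOfPreserves _ (limit.isLimit _)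

lemma hom_ext_pi (Y : T → SimplicialObject C) {Z : C} {k : SimplexCategoryᵒᵖ} (u w : Z ⟶ (∏ᶜ Y).obj k)
    (h : ∀ t, u ≫ (Pi.π Y t).app k = w ≫ (Pi.π Y t).app k) : u = w :=
  (isLim Y k).hom_ext (fun ⟨t⟩ => h t)

noncomputable def liftPi (Y : T → SimplicialObject C) {Z : C} {k : SimplexCategoryᵒᵖ}
    (φ : ∀ t, Z ⟶ (Y t).obj k) : Z ⟶ (∏ᶜ Y).obj k :=
  (isLim Y k).lift ⟨Z, Discrete.natTrans (fun ⟨t⟩ => φ t)⟩

@[reassoc (attr := simp)]
lemma liftPi_π (Y : T → SimplicialObject C) {Z : C} {k : SimplexCategoryᵒᵖ}
    (φ : ∀ t, Z ⟶ (Y t).obj k) (t : T) : liftPi Y φ ≫ (Pi.π Y t).app k = φ t :=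
  (isLim Y k).fac ⟨Z, Discrete.natTrans (fun ⟨t⟩ => φ t)⟩ ⟨t⟩

@[reassoc]
lemma map_π_app {X Y : T → SimplicialObject C} (a : ∀ t, X t ⟶ Y t) (t : T) (k : SimplexCategoryᵒᵖ) :
    (Limits.Pi.map a).app k ≫ (Pi.π Y t).app k = (Pi.π X t).app k ≫ (a t).app k := by
  rw [← NatTrans.comp_app, ← NatTrans.comp_app, Limits.Pi.map_π]


noncomputable def prodHomotopy {X Y : T → SimplicialObject C} (a b : ∀ t, X t ⟶ Y t)
    (H : ∀ t, SimplicialObject.Homotopy (a t) (b t)) :
    SimplicialObject.Homotopy (Limits.Pi.map a) (Limits.Pi.map b) where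
  h i := liftPi Y (fun t => (Pi.π X t).app _ ≫ (H t).h i)
  h_zero_comp_δ_zero n := by
    apply hom_ext_pi
    intro t
    rw [Category.assoc, SimplicialObject.δ_naturality, liftPi_π_assoc, Category.assoc,
      (H t).h_zero_comp_δ_zero, map_π_app]
  h_last_comp_δ_last n := by
    apply hom_ext_pi
    intro t
    rw [Category.assoc, SimplicialObject.δ_naturality, liftPi_π_assoc, Category.assoc,
      (H t).h_last_comp_δ_last, map_π_app]
  h_succ_comp_δ_castSucc_of_lt i j hij := by
    apply hom_ext_pi
    intro t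
    rw [Category.assoc, SimplicialObject.δ_naturality, liftPi_π_assoc, Category.assoc,
      (H t).h_succ_comp_δ_castSucc_of_lt i j hij, Category.assoc, liftPi_π,
      SimplicialObject.δ_naturality_assoc]
  h_succ_comp_δ_castSucc_succ j := by
    apply hom_ext_pi
    intro t
    rw [Category.assoc, SimplicialObject.δ_naturality, liftPi_π_assoc, Category.assoc,
      (H t).h_succ_comp_δ_castSucc_succ j, Category.assoc, SimplicialObject.δ_naturality,
      liftPi_π_assoc, Category.assoc]
  h_castSucc_comp_δ_succ_of_lt i j hji := by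
    apply hom_ext_pi
    intro t
    rw [Category.assoc, SimplicialObject.δ_naturality, liftPi_π_assoc, Category.assoc,
      (H t).h_castSucc_comp_δ_succ_of_lt i j hji, Category.assoc, liftPi_π,
      SimplicialObject.δ_naturality_assoc]
  h_comp_σ_castSucc_of_le i j hij := by
    apply hom_ext_pi
    intro t
    rw [Category.assoc, SimplicialObject.σ_naturality, liftPi_π_assoc, Category.assoc,
      (H t).h_comp_σ_castSucc_of_le i j hij, Category.assoc, liftPi_π,
      SimplicialObject.σ_naturality_assoc]
  h_comp_σ_succ_of_lt i j hji := by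
    apply hom_ext_pi
    intro t
    rw [Category.assoc, SimplicialObject.σ_naturality, liftPi_π_assoc, Category.assoc,
      (H t).h_comp_σ_succ_of_lt i j hji, Category.assoc, liftPi_π,
      SimplicialObject.σ_naturality_assoc]

end


/-- Homotopies between the factors of two product morphisms of simplicial objects assemble to a homotopy
between the products. -/
theorem result {C : Type u} [Category.{v} C] {T : Type w} [HasLimitsOfShape (Discrete T) C] {X Y : T → SimplicialObject C} (a b : ∀ t, X t ⟶ Y t) (h : ∀ t, Nonempty (SimplicialObject.Homotopy (a t) (b t))) : Nonempty (SimplicialObject.Homotopy (Limits.Pi.map a) (Limits.Pi.map b)) := by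
  exact ⟨prodHomotopy a b (fun t => (h t).some)⟩

end Groth.Agent.S6815
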