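import Groth.Statements.S6816
import Mathlib


set_option autoImplicit false
open CategoryTheory CategoryTheory.Limits
universe v u
open CochainComplex

namespace Groth.Agent.S6816

set_option linter.style.haveILetI false

open CategoryTheory Category Limits Preadditive HomologicalComplex CochainComplex
  CochainComplex.HomComplex

section calcsec

variable {C : Type u} [Category.{v} C] [Preadditive C]
  {X₁ X₂ X₃ Y₁ Y₂ Y₃ : C} (f : X₁ ⟶ X₂) (g : X₂ ⟶ X₃) (f' : Y₁ ⟶ Y₂) (g' : Y₂ ⟶ Y₃)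
  (d₁ : X₁ ⟶ Y₁) (d₂ : X₂ ⟶ Y₂) (d₃ : X₃ ⟶ Y₃)
  (hf : f ≫ d₂ = d₁ ≫ f') (hg : g ≫ d₃ = d₂ ≫ g')
  (s s' : X₃ ⟶ X₂) (r : X₂ ⟶ X₁) (u u' : Y₂ ⟶ Y₁) (t' : Y₃ ⟶ Y₂)
  (hrf : r ≫ f = 𝟙 X₂ - g ≫ s) (hsg' : s' ≫ g = 𝟙 X₃)
  (hfu : f' ≫ u = 𝟙 Y₁) (hid' : u' ≫ f' + g' ≫ t' = 𝟙 Y₂)

include hf hg hrf hsg' hfu hid' in
theorem calc_lemma :
    s' ≫ d₂ ≫ u' = s ≫ d₂ ≫ u + ((s' ≫ r) ≫ d₁ - d₃ ≫ t' ≫ u) := by
  rw [assoc s' r d₁]
  have e1 : r ≫ d₁ = d₂ ≫ u - g ≫ s ≫ d₂ ≫ u := by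
    have h1 : r ≫ d₁ = r ≫ d₁ ≫ f' ≫ u := by rw [hfu, comp_id]
    rw [h1, ← reassoc_of% hf, reassoc_of% hrf, sub_comp, id_comp, assoc]
  have e2 : d₃ ≫ t' = s' ≫ d₂ - s' ≫ d₂ ≫ u' ≫ f' := by
    have h1 : s' ≫ d₂ = s' ≫ d₂ ≫ (u' ≫ f' + g' ≫ t') := by rw [hid', comp_id]
    rw [comp_add, comp_add, ← reassoc_of% hg, reassoc_of% hsg'] at h1
    rw [eq_sub_iff_add_eq, add_comm]
    exact h1.symm
  rw [← assoc d₃, e2, e1]
  simp only [sub_comp, comp_sub, assoc, reassoc_of% hsg', hfu, comp_id]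
  abel

end calcsec

variable {C : Type u} [Category.{v} C] [Preadditive C]
  (S : ShortComplex (CochainComplex C ℤ))
  (σ σ' : ∀ n : ℤ, (S.map (HomologicalComplex.eval C (ComplexShape.up ℤ) n)).Splitting)

/-- the degree-0 cochain -/
def hh : Cochain S.X₃ S.X₁ 0 := Cochain.ofHoms (fun n => (σ' n).s ≫ (σ n).r)

set_option backward.defeqAttrib.useBackward true in
set_option backward.isDefEq.respectTransparency false in
theorem key : (cocycleOfDegreewiseSplit S σ').1 =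
    (cocycleOfDegreewiseSplit S σ).1 + δ 0 1 (hh S σ σ') := by
  ext p q hpq
  obtain rfl : q = p + 1 := by omega
  rw [Cochain.add_v, δ_v 0 1 (zero_add 1) _ p (p + 1) rfl p (p + 1) (by omega) rfl]
  dsimp [cocycleOfDegreewiseSplit, hh]
  simp only [Cochain.ofHoms_v, Units.neg_smul, one_smul]
  rw [← sub_eq_add_neg]
  exact calc_lemma (S.f.f p) (S.g.f p) (S.f.f (p + 1)) (S.g.f (p + 1))
    (S.X₁.d p (p + 1)) (S.X₂.d p (p + 1)) (S.X₃.d p (p + 1)) (S.f.comm p (p + 1))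
    (S.g.comm p (p + 1)) (σ p).s (σ' p).s (σ p).r (σ (p + 1)).r (σ' (p + 1)).r (σ' (p + 1)).s
    (σ p).r_f (σ' p).s_g (σ (p + 1)).f_r (σ' (p + 1)).id

theorem main : Nonempty (Homotopy (CochainComplex.homOfDegreewiseSplit S σ)
    (CochainComplex.homOfDegreewiseSplit S σ')) := by
  have h1 : CohomologyClass.mk (cocycleOfDegreewiseSplit S σ') =
      CohomologyClass.mk (cocycleOfDegreewiseSplit S σ) := by
    rw [← sub_eq_zero, ← CohomologyClass.mk_sub, CohomologyClass.mk_eq_zero_iff,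
      mem_coboundaries_iff _ 0 (zero_add 1)]
    refine ⟨hh S σ σ', ?_⟩
    rw [Cocycle.coe_sub, key S σ σ', add_sub_cancel_left]
  have h2 := congrArg CohomologyClass.toHom h1
  rw [CohomologyClass.toHom_mk, CohomologyClass.toHom_mk] at h2
  exact ⟨HomotopyCategory.homotopyOfEq _ _ h2.symm⟩



/-- The boundary morphisms `C ⟶ A⟦1⟧` attached to two degreewise splittings of a degreewise split
sequence `A ⟶ B ⟶ C` of cochain complexes are homotopic. -/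
theorem result {C : Type u} [Category.{v} C] [Preadditive C] [HasBinaryBiproducts C] (S : ShortComplex (CochainComplex C ℤ)) (σ σ' : ∀ n : ℤ, (S.map (HomologicalComplex.eval C (ComplexShape.up ℤ) n)).Splitting) : Nonempty (Homotopy (CochainComplex.homOfDegreewiseSplit S σ) (CochainComplex.homOfDegreewiseSplit S σ')) := by
  exact main S σ σ'

end Groth.Agent.S6816
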