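import Groth.Statements.S6817
import Mathlib
import Groth.Agent.S6781

set_option autoImplicit false
open CategoryTheory
universe u
open SSet

namespace Groth.Agent.S6817

open AlgebraicTopology AlgebraicTopology.DoldKan Simplicial Opposite
open Groth.Agent.S6781 (ab_quasiIso_elem qi_surj_succ qi_inj_succ qi_inj_zero PInfty_d_eq)

noncomputable section

/-! ### Part 1: elementwise criterion for quasi-isomorphisms of complexes of abelian groups -/

set_option backward.isDefEq.respectTransparency false in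
theorem ab_quasiIso_of_elem {S₁ S₂ : ShortComplex AddCommGrpCat.{u}} (φ : S₁ ⟶ S₂)
    (hinj : ∀ z : S₁.X₂, S₁.g z = 0 → (∃ w : S₂.X₁, S₂.f w = φ.τ₂ z) →
      ∃ c : S₁.X₁, S₁.f c = z)
    (hsurj : ∀ w : S₂.X₂, S₂.g w = 0 →
      ∃ z : S₁.X₂, S₁.g z = 0 ∧ ∃ e : S₂.X₁, w = φ.τ₂ z + S₂.f e) :
    ShortComplex.QuasiIso φ := by
  obtain ⟨γ⟩ : Nonempty (ShortComplex.LeftHomologyMapData φ S₁.abLeftHomologyData
    S₂.abLeftHomologyData) := ⟨default⟩
  rw [γ.quasiIso_iff]
  let φK' : AddMonoidHom.ker S₁.g.hom → AddMonoidHom.ker S₂.g.hom := fun z => γ.φK z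
  have hK : ∀ z : AddMonoidHom.ker S₁.g.hom, (φK' z).val = φ.τ₂ z.val := by
    intro z
    have e := ConcreteCategory.congr_hom γ.commi z
    simp only [ConcreteCategory.comp_apply] at e
    exact e
  have hH : ∀ z : AddMonoidHom.ker S₁.g.hom,
      γ.φH (QuotientAddGroup.mk z : _ ⧸ AddMonoidHom.range S₁.abToCycles) =
        (QuotientAddGroup.mk (φK' z) : _ ⧸ AddMonoidHom.range S₂.abToCycles) := by
    intro z
    have e := ConcreteCategory.congr_hom γ.commπ z
    simp only [ConcreteCategory.comp_apply] at e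
    exact e
  have hbij : Function.Bijective γ.φH := by
    constructor
    · refine (injective_iff_map_eq_zero (ConcreteCategory.hom γ.φH)).mpr ?_
      intro q hq
      obtain ⟨z', hz'⟩ : ∃ z' : AddMonoidHom.ker S₁.g.hom,
          (QuotientAddGroup.mk z' : _ ⧸ AddMonoidHom.range S₁.abToCycles) = q :=
        QuotientAddGroup.mk_surjective q
      subst hz'
      have hq' : (QuotientAddGroup.mk (φK' z') : _ ⧸ AddMonoidHom.range S₂.abToCycles) = 0 :=
        (hH z').symm.trans hq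
      obtain ⟨w, hw⟩ := (QuotientAddGroup.eq_zero_iff (φK' z')).mp hq'
      have hw' : S₂.f w = φ.τ₂ z'.val := (congrArg Subtype.val hw).trans (hK z')
      obtain ⟨c, hc⟩ := hinj z'.val (AddMonoidHom.mem_ker.mp z'.2) ⟨w, hw'⟩
      exact (QuotientAddGroup.eq_zero_iff z').mpr ⟨c, Subtype.ext hc⟩
    · intro q
      obtain ⟨w', hw'⟩ : ∃ w' : AddMonoidHom.ker S₂.g.hom,
          (QuotientAddGroup.mk w' : _ ⧸ AddMonoidHom.range S₂.abToCycles) = q :=
        QuotientAddGroup.mk_surjective q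
      subst hw'
      obtain ⟨z, hz, e, he⟩ := hsurj w'.val (AddMonoidHom.mem_ker.mp w'.2)
      obtain ⟨z', hz'⟩ : ∃ z' : AddMonoidHom.ker S₁.g.hom, (z' : S₁.X₂) = z :=
        ⟨⟨z, AddMonoidHom.mem_ker.mpr hz⟩, rfl⟩
      refine ⟨(QuotientAddGroup.mk z' : _ ⧸ AddMonoidHom.range S₁.abToCycles), ?_⟩
      refine (hH z').trans ?_
      rw [QuotientAddGroup.eq]
      refine ⟨e, Subtype.ext ?_⟩
      rw [AddSubgroup.coe_add, AddSubgroup.coe_neg, hK, hz']
      show S₂.f e = -φ.τ₂ z + w'.val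
      rw [he]
      abel
  exact (ConcreteCategory.isIso_iff_bijective γ.φH).mpr hbij

theorem qi_of_elem {K L : ChainComplex AddCommGrpCat.{u} ℕ} (F : K ⟶ L)
    (h0i : ∀ z : K.X 0, (∃ w : L.X 1, L.d 1 0 w = F.f 0 z) → ∃ c : K.X 1, K.d 1 0 c = z)
    (h0s : ∀ w : L.X 0, ∃ z : K.X 0, ∃ e : L.X 1, w = F.f 0 z + L.d 1 0 e)
    (hi : ∀ (m : ℕ) (z : K.X (m+1)), K.d (m+1) m z = 0 →
      (∃ w : L.X (m+2), L.d (m+2) (m+1) w = F.f (m+1) z) →
      ∃ c : K.X (m+2), K.d (m+2) (m+1) c = z)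
    (hs : ∀ (m : ℕ) (w : L.X (m+1)), L.d (m+1) m w = 0 →
      ∃ z : K.X (m+1), K.d (m+1) m z = 0 ∧
        ∃ e : L.X (m+2), w = F.f (m+1) z + L.d (m+2) (m+1) e) :
    QuasiIso F := by
  rw [quasiIso_iff]
  intro n
  cases n with
  | zero =>
    rw [quasiIsoAt_iff' F 1 0 0 (ChainComplex.prev ℕ 0) ChainComplex.next_nat_zero]
    refine ab_quasiIso_of_elem _ ?_ ?_
    · intro z _ hw
      exact h0i z hw
    · intro w _
      obtain ⟨z, e, he⟩ := h0s w
      refine ⟨z, ?_, e, he⟩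
      show (K.d 0 0) z = 0
      rw [K.shape 0 0 (by simp)]
      rfl
  | succ m =>
    rw [quasiIsoAt_iff' F (m+2) (m+1) m (ChainComplex.prev ℕ (m+1))
      (ChainComplex.next_nat_succ m)]
    exact ab_quasiIso_of_elem _ (hi m) (hs m)

theorem qi_surj_zero {K L : ChainComplex AddCommGrpCat.{u} ℕ} (F : K ⟶ L) (hF : QuasiIso F)
    (w : L.X 0) : ∃ z : K.X 0, ∃ e : L.X 1, w = F.f 0 z + L.d 1 0 e := by
  have h1 : QuasiIsoAt F 0 := hF.quasiIsoAt 0
  have h2 := (quasiIsoAt_iff' F 1 0 0 (ChainComplex.prev ℕ 0)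
    ChainComplex.next_nat_zero).mp h1
  have h3 : (L.d 0 0) w = 0 := by
    rw [L.shape 0 0 (by simp)]
    rfl
  obtain ⟨z, _, e, he⟩ := (ab_quasiIso_elem _ h2).2 w h3
  exact ⟨z, e, he⟩

theorem map_d {K L : ChainComplex AddCommGrpCat.{u} ℕ} (F : K ⟶ L) (k l : ℕ) (a : K.X k) :
    (L.d k l) ((F.f k) a) = (F.f l) ((K.d k l) a) := by
  have e := ConcreteCategory.congr_hom (F.comm k l) a
  simp only [ConcreteCategory.comp_apply] at e
  exact e

/-! ### Part 2: the alternating face map complex of a simplicial abelian group -/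

abbrev AK (X : SimplicialObject AddCommGrpCat.{u}) : ChainComplex AddCommGrpCat.{u} ℕ :=
  AlternatingFaceMapComplex.obj X

abbrev AKm {X Y : SimplicialObject AddCommGrpCat.{u}} (φ : X ⟶ Y) : AK X ⟶ AK Y :=
  AlternatingFaceMapComplex.map φ

theorem quasiIso_PInfty (X : SimplicialObject AddCommGrpCat.{u}) :
    QuasiIso (PInfty : AK X ⟶ AK X) := by
  rw [quasiIso_iff]
  intro n
  rw [quasiIsoAt_iff_isIso_homologyMap, (homotopyPInftyToId X).homologyMap_eq n,
    HomologicalComplex.homologyMap_id]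
  infer_instance

def evHom {A B : AddCommGrpCat.{u}} (c : A) : (A ⟶ B) →+ B where
  toFun φ := φ c
  map_zero' := rfl
  map_add' _ _ := rfl

theorem d_apply (X : SimplicialObject AddCommGrpCat.{u}) (n : ℕ) (c : (AK X).X (n+1)) :
    ((AK X).d (n+1) n) c = ∑ i : Fin (n+2), ((-1 : ℤ) ^ (i : ℕ)) • (X.δ i) c := by
  rw [AlternatingFaceMapComplex.obj_d_eq]
  show evHom (A := X _⦋n+1⦌) (B := X _⦋n⦌) c (∑ i : Fin (n+2), ((-1 : ℤ) ^ (i : ℕ)) • X.δ i) = _
  rw [map_sum]
  refine Finset.sum_congr rfl (fun i _ => ?_)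
  rw [map_zsmul]
  rfl

theorem d_eq_zero_of_faces (X : SimplicialObject AddCommGrpCat.{u}) (n : ℕ)
    (c : (AK X).X (n+1)) (h : ∀ i : Fin (n+2), (X.δ i) c = 0) :
    ((AK X).d (n+1) n) c = 0 := by
  rw [d_apply]
  exact Finset.sum_eq_zero (fun i _ => by rw [h i, smul_zero])

theorem d_eq_of_higher (X : SimplicialObject AddCommGrpCat.{u}) (n : ℕ)
    (c : (AK X).X (n+1)) (h : ∀ j : Fin (n+1), (X.δ j.succ) c = 0) :
    ((AK X).d (n+1) n) c = (X.δ 0) c := by
  rw [d_apply, Fin.sum_univ_succ,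
    Finset.sum_eq_zero (fun j _ => by rw [h j, smul_zero]), add_zero, Fin.val_zero, pow_zero,
    one_smul]

theorem normalize (X : SimplicialObject AddCommGrpCat.{u}) (m : ℕ) (w : (AK X).X (m+1))
    (hw : ((AK X).d (m+1) m) w = 0) :
    ∃ x : (AK X).X (m+1), (∀ j : Fin (m+2), (X.δ j) x = 0) ∧
      (PInfty.f (m+1) : (AK X).X (m+1) ⟶ (AK X).X (m+1)) x = x ∧
      ∃ e : (AK X).X (m+2), w = x + ((AK X).d (m+2) (m+1)) e := by
  obtain ⟨z, hz, e, he⟩ := qi_surj_succ (PInfty : AK X ⟶ AK X) (quasiIso_PInfty X) m w hw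
  refine ⟨(PInfty.f (m+1) : (AK X).X (m+1) ⟶ (AK X).X (m+1)) z, ?_, ?_, e, he⟩
  · intro j
    refine Fin.cases ?_ (fun j' => ?_) j
    · have e5 := ConcreteCategory.congr_hom
        ((PInfty_d_eq X m).symm.trans ((PInfty : AK X ⟶ AK X).comm (m+1) m)) z
      simp only [ConcreteCategory.comp_apply] at e5
      refine e5.trans ?_
      rw [hz, map_zero]
    · have hv : (PInfty.f (m+1) : (AK X).X (m+1) ⟶ (AK X).X (m+1)) ≫ X.δ j'.succ = 0 := by
        rw [PInfty_f]
        exact HigherFacesVanish.of_P (m+1) m j' (by omega)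
      have e7 := ConcreteCategory.congr_hom hv z
      simp only [ConcreteCategory.comp_apply] at e7
      exact e7
  · have e6 := ConcreteCategory.congr_hom (PInfty_f_idem (X := X) (m+1)) z
    simp only [ConcreteCategory.comp_apply] at e6
    exact e6

/-! ### Part 3: the free simplicial abelian group on the underlying simplicial set -/

abbrev WW : SimplicialObject (Type u) ⥤ SimplicialObject AddCommGrpCat.{u} :=
  (SimplicialObject.whiskering (Type u) AddCommGrpCat.{u}).obj AddCommGrpCat.free.{u}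

abbrev UU (X : SimplicialObject AddCommGrpCat.{u}) : SimplicialObject (Type u) :=
  X ⋙ forget AddCommGrpCat.{u}

abbrev ZZ (X : SimplicialObject AddCommGrpCat.{u}) : SimplicialObject AddCommGrpCat.{u} :=
  WW.obj (UU X)

abbrev Zf {X Y : SimplicialObject AddCommGrpCat.{u}} (f : X ⟶ Y) : ZZ X ⟶ ZZ Y :=
  WW.map (Functor.whiskerRight f (forget AddCommGrpCat.{u}))

def eps (X : SimplicialObject AddCommGrpCat.{u}) : ZZ X ⟶ X where
  app n := AddCommGrpCat.adj.counit.app (X.obj n)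
  naturality _ _ φ := AddCommGrpCat.adj.counit.naturality (X.map φ)

theorem eps_nat {X Y : SimplicialObject AddCommGrpCat.{u}} (f : X ⟶ Y) :
    Zf f ≫ eps Y = eps X ≫ f := by
  refine SimplicialObject.hom_ext _ _ (fun n => ?_)
  exact AddCommGrpCat.adj.counit.naturality (f.app n)

def ofZ (X : SimplicialObject AddCommGrpCat.{u}) (n : ℕ) (x : (AK X).X n) : (AK (ZZ X)).X n :=
  (FreeAbelianGroup.of x : FreeAbelianGroup (X _⦋n⦌))

theorem eps_ofZ (X : SimplicialObject AddCommGrpCat.{u}) (n : ℕ) (x : (AK X).X n) :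
    ((AKm (eps X)).f n) (ofZ X n x) = x := by
  show (AddCommGrpCat.adj.counit.app (X _⦋n⦌)) (FreeAbelianGroup.of x) = x
  simp [AddCommGrpCat.adj]
  exact FreeAbelianGroup.lift_apply_of _ x

theorem delta_ofZ (X : SimplicialObject AddCommGrpCat.{u}) (n : ℕ) (i : Fin (n+2))
    (x : (AK X).X (n+1)) :
    ((ZZ X).δ i) (ofZ X (n+1) x) = ofZ X n ((X.δ i) x) :=
  FreeAbelianGroup.map_of_apply x

theorem Zf_ofZ {X Y : SimplicialObject AddCommGrpCat.{u}} (f : X ⟶ Y) (n : ℕ)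
    (x : (AK X).X n) :
    ((AKm (Zf f)).f n) (ofZ X n x) = ofZ Y n (((AKm f).f n) x) :=
  FreeAbelianGroup.map_of_apply x

theorem delta_diff (X : SimplicialObject AddCommGrpCat.{u}) (n : ℕ) (i : Fin (n+2))
    (x : (AK X).X (n+1)) :
    ((ZZ X).δ i) (ofZ X (n+1) x - ofZ X (n+1) 0) = ofZ X n ((X.δ i) x) - ofZ X n 0 := by
  rw [map_sub, delta_ofZ, delta_ofZ, map_zero]

theorem eps_diff (X : SimplicialObject AddCommGrpCat.{u}) (n : ℕ) (x : (AK X).X n) :
    ((AKm (eps X)).f n) (ofZ X n x - ofZ X n 0) = x := by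
  rw [map_sub, eps_ofZ, eps_ofZ, sub_zero]

theorem Zf_diff {X Y : SimplicialObject AddCommGrpCat.{u}} (f : X ⟶ Y) (n : ℕ)
    (x : (AK X).X n) :
    ((AKm (Zf f)).f n) (ofZ X n x - ofZ X n 0) = ofZ Y n (((AKm f).f n) x) - ofZ Y n 0 := by
  rw [map_sub, Zf_ofZ, Zf_ofZ, map_zero]

theorem cyc (X : SimplicialObject AddCommGrpCat.{u}) (m : ℕ) (x : (AK X).X (m+1))
    (hx : ∀ j : Fin (m+2), (X.δ j) x = 0) :
    ((AK (ZZ X)).d (m+1) m) (ofZ X (m+1) x - ofZ X (m+1) 0) = 0 := by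
  refine d_eq_zero_of_faces (ZZ X) m _ (fun i => ?_)
  rw [delta_diff, hx i, sub_self]

theorem lemI (Y : SimplicialObject AddCommGrpCat.{u}) (n : ℕ) (v : (AK Y).X n)
    (w : (AK Y).X (n+1)) (h1 : ((AK Y).d (n+1) n) w = v)
    (h2 : (PInfty.f n : (AK Y).X n ⟶ (AK Y).X n) v = v) :
    ∃ c₂ : (AK (ZZ Y)).X (n+1), ((AK (ZZ Y)).d (n+1) n) c₂ = ofZ Y n v - ofZ Y n 0 := by
  obtain ⟨y', hy'⟩ : ∃ y' : (AK Y).X (n+1),
      y' = (PInfty.f (n+1) : (AK Y).X (n+1) ⟶ (AK Y).X (n+1)) w := ⟨_, rfl⟩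
  have ha : ∀ j : Fin (n+1), (Y.δ j.succ) y' = 0 := by
    intro j
    have hv : (PInfty.f (n+1) : (AK Y).X (n+1) ⟶ (AK Y).X (n+1)) ≫ Y.δ j.succ = 0 := by
      rw [PInfty_f]
      exact HigherFacesVanish.of_P (n+1) n j (by omega)
    have e7 := ConcreteCategory.congr_hom hv w
    simp only [ConcreteCategory.comp_apply] at e7
    rw [hy']
    exact e7
  have hb : (Y.δ 0) y' = v := by
    have e5 := ConcreteCategory.congr_hom
      ((PInfty_d_eq Y n).symm.trans ((PInfty : AK Y ⟶ AK Y).comm (n+1) n)) w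
    simp only [ConcreteCategory.comp_apply] at e5
    rw [hy']
    refine e5.trans ?_
    rw [h1, h2]
  refine ⟨ofZ Y (n+1) y' - ofZ Y (n+1) 0, ?_⟩
  rw [d_eq_of_higher (ZZ Y) n _ (fun j => by rw [delta_diff, ha j, sub_self]), delta_diff, hb]

/-! ### Part 4: homotopies -/

theorem quasiIso_Zf {X Y : SimplicialObject AddCommGrpCat.{u}} (f : X ⟶ Y)
    (g : (UU Y : SSet.{u}) ⟶ (UU X : SSet.{u}))
    (hX : Nonempty (SSet.Homotopy (Functor.whiskerRight f (forget AddCommGrpCat.{u}) ≫ g) (𝟙 _)) ∨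
      Nonempty (SSet.Homotopy (𝟙 _) (Functor.whiskerRight f (forget AddCommGrpCat.{u}) ≫ g)))
    (hY : Nonempty (SSet.Homotopy (g ≫ Functor.whiskerRight f (forget AddCommGrpCat.{u})) (𝟙 _)) ∨
      Nonempty (SSet.Homotopy (𝟙 _) (g ≫ Functor.whiskerRight f (forget AddCommGrpCat.{u})))) :
    QuasiIso (AKm (Zf f)) := by
  have key : ∀ {A B : SSet.{u}} (p q : A ⟶ B),
      Nonempty (SSet.Homotopy p q) ∨ Nonempty (SSet.Homotopy q p) →
      Nonempty (_root_.Homotopy (AKm (WW.map p)) (AKm (WW.map q))) := by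
    intro A B p q h
    rcases h with ⟨⟨H⟩⟩ | ⟨⟨H⟩⟩
    · exact ⟨(H.toSimplicialObjectHomotopy.whiskerRight AddCommGrpCat.free.{u}).toChainHomotopy⟩
    · exact ⟨((H.toSimplicialObjectHomotopy.whiskerRight
        AddCommGrpCat.free.{u}).toChainHomotopy).symm⟩
  obtain ⟨h1⟩ := key _ _ hX
  obtain ⟨h2⟩ := key _ _ hY
  let e : HomotopyEquiv (AK (ZZ X)) (AK (ZZ Y)) :=
    { hom := AKm (Zf f)
      inv := AKm (WW.map g)
      homotopyHomInvId :=
        (Homotopy.ofEq (by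
          show (alternatingFaceMapComplex AddCommGrpCat.{u}).map _ ≫
            (alternatingFaceMapComplex AddCommGrpCat.{u}).map _ =
            (alternatingFaceMapComplex AddCommGrpCat.{u}).map _
          rw [← (alternatingFaceMapComplex AddCommGrpCat.{u}).map_comp, ← WW.map_comp])).trans
          (h1.trans (Homotopy.ofEq (by
            show (alternatingFaceMapComplex AddCommGrpCat.{u}).map (WW.map (𝟙 _)) = _
            rw [WW.map_id, (alternatingFaceMapComplex AddCommGrpCat.{u}).map_id]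
            rfl)))
      homotopyInvHomId :=
        (Homotopy.ofEq (by
          show (alternatingFaceMapComplex AddCommGrpCat.{u}).map _ ≫
            (alternatingFaceMapComplex AddCommGrpCat.{u}).map _ =
            (alternatingFaceMapComplex AddCommGrpCat.{u}).map _
          rw [← (alternatingFaceMapComplex AddCommGrpCat.{u}).map_comp, ← WW.map_comp])).trans
          (h2.trans (Homotopy.ofEq (by
            show (alternatingFaceMapComplex AddCommGrpCat.{u}).map (WW.map (𝟙 _)) = _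
            rw [WW.map_id, (alternatingFaceMapComplex AddCommGrpCat.{u}).map_id]
            rfl))) }
  exact e.quasiIso_hom

end



/-- A homomorphism of simplicial abelian groups whose underlying map of simplicial sets is a homotopy
equivalence induces a quasi-isomorphism of associated chain complexes. (The published statement
allows the composites with a homotopy inverse to be joined to the identities by chains of
homotopies; this row assumes single homotopies, in either direction.) -/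
theorem result {X Y : SimplicialObject AddCommGrpCat.{u}} (f : X ⟶ Y) (g : (Y ⋙ forget AddCommGrpCat.{u} : SSet.{u}) ⟶ (X ⋙ forget AddCommGrpCat.{u} : SSet.{u})) (hX : Nonempty (SSet.Homotopy (Functor.whiskerRight f (forget AddCommGrpCat.{u}) ≫ g) (𝟙 _)) ∨ Nonempty (SSet.Homotopy (𝟙 _) (Functor.whiskerRight f (forget AddCommGrpCat.{u}) ≫ g))) (hY : Nonempty (SSet.Homotopy (g ≫ Functor.whiskerRight f (forget AddCommGrpCat.{u})) (𝟙 _)) ∨ Nonempty (SSet.Homotopy (𝟙 _) (g ≫ Functor.whiskerRight f (forget AddCommGrpCat.{u})))) : QuasiIso ((AlgebraicTopology.alternatingFaceMapComplex AddCommGrpCat.{u}).map f) := by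
  have hZ : QuasiIso (AKm (Zf f)) := quasiIso_Zf f g hX hY
  have hnat : ∀ (n : ℕ) (c : (AK (ZZ X)).X n),
      ((AKm f).f n) (((AKm (eps X)).f n) c) = ((AKm (eps Y)).f n) (((AKm (Zf f)).f n) c) := by
    intro n c
    have e := ConcreteCategory.congr_hom (NatTrans.congr_app (eps_nat f) (op ⦋n⦌)) c
    simp only [NatTrans.comp_app, ConcreteCategory.comp_apply] at e
    exact e.symm
  have hP : ∀ (n : ℕ) (t : (AK X).X n),
      ((AKm f).f n) ((PInfty.f n : (AK X).X n ⟶ (AK X).X n) t) =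
        (PInfty.f n : (AK Y).X n ⟶ (AK Y).X n) (((AKm f).f n) t) := by
    intro n t
    have e4 := ConcreteCategory.congr_hom (PInfty_f_naturality n f) t
    simp only [ConcreteCategory.comp_apply] at e4
    exact e4.symm
  refine qi_of_elem (AKm f) ?_ ?_ ?_ ?_
  · -- injectivity in degree 0
    intro z hw
    obtain ⟨w', hw'⟩ := hw
    have h2 : (PInfty.f 0 : (AK Y).X 0 ⟶ (AK Y).X 0) (((AKm f).f 0) z) = ((AKm f).f 0) z := by
      rw [PInfty_f_0]
      rfl
    obtain ⟨c₂, hc₂⟩ := lemI Y 0 (((AKm f).f 0) z) w' hw' h2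
    obtain ⟨c₃, hc₃⟩ := qi_inj_zero (AKm (Zf f)) hZ (ofZ X 0 z - ofZ X 0 0)
      ⟨c₂, hc₂.trans (Zf_diff f 0 z).symm⟩
    refine ⟨((AKm (eps X)).f 1) c₃, ?_⟩
    exact (map_d (AKm (eps X)) 1 0 c₃).trans
      ((congrArg (fun t => ((AKm (eps X)).f 0) t) hc₃).trans (eps_diff X 0 z))
  · -- surjectivity in degree 0
    intro w
    obtain ⟨c', e₂, he₂⟩ := qi_surj_zero (AKm (Zf f)) hZ (ofZ Y 0 w - ofZ Y 0 0)
    refine ⟨((AKm (eps X)).f 0) c', ((AKm (eps Y)).f 1) e₂, ?_⟩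
    have e2 := congrArg (fun s => ((AKm (eps Y)).f 0) s) he₂
    beta_reduce at e2
    rw [eps_diff, map_add, ← hnat 0 c', ← map_d (AKm (eps Y)) 1 0 e₂] at e2
    exact e2
  · -- injectivity in degree m+1
    intro m z hz hw
    obtain ⟨w', hw'⟩ := hw
    obtain ⟨x, hxf, hPx, e₁, he₁⟩ := normalize X m z hz
    have h3 : ((AK Y).d (m+2) (m+1)) (((AKm f).f (m+2)) e₁) =
        ((AKm f).f (m+1)) (((AK X).d (m+2) (m+1)) e₁) := map_d (AKm f) (m+2) (m+1) e₁
    have h4 : ((AKm f).f (m+1)) z =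
        ((AKm f).f (m+1)) x + ((AKm f).f (m+1)) (((AK X).d (m+2) (m+1)) e₁) := by
      rw [← map_add]
      exact congrArg (fun t => ((AKm f).f (m+1)) t) he₁
    have hfx : ((AK Y).d (m+2) (m+1)) (w' - ((AKm f).f (m+2)) e₁) = ((AKm f).f (m+1)) x := by
      rw [map_sub, h3, hw', h4]
      abel
    have hPfx : (PInfty.f (m+1) : (AK Y).X (m+1) ⟶ (AK Y).X (m+1)) (((AKm f).f (m+1)) x) =
        ((AKm f).f (m+1)) x :=
      (hP (m+1) x).symm.trans (congrArg (fun t => ((AKm f).f (m+1)) t) hPx)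
    obtain ⟨c₂, hc₂⟩ := lemI Y (m+1) (((AKm f).f (m+1)) x) (w' - ((AKm f).f (m+2)) e₁) hfx hPfx
    obtain ⟨c₃, hc₃⟩ := qi_inj_succ (AKm (Zf f)) hZ m (ofZ X (m+1) x - ofZ X (m+1) 0)
      (cyc X m x hxf) ⟨c₂, hc₂.trans (Zf_diff f (m+1) x).symm⟩
    refine ⟨((AKm (eps X)).f (m+2)) c₃ + e₁, ?_⟩
    have e1 : ((AK X).d (m+2) (m+1)) (((AKm (eps X)).f (m+2)) c₃) = x :=
      (map_d (AKm (eps X)) (m+2) (m+1) c₃).trans
        ((congrArg (fun t => ((AKm (eps X)).f (m+1)) t) hc₃).trans (eps_diff X (m+1) x))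
    rw [map_add, e1]
    exact he₁.symm
  · -- surjectivity in degree m+1
    intro m w hw
    obtain ⟨y, hyf, _, e₁, he₁⟩ := normalize Y m w hw
    obtain ⟨c', hc', e₂, he₂⟩ := qi_surj_succ (AKm (Zf f)) hZ m (ofZ Y (m+1) y - ofZ Y (m+1) 0)
      (cyc Y m y hyf)
    refine ⟨((AKm (eps X)).f (m+1)) c', ?_, ((AKm (eps Y)).f (m+2)) e₂ + e₁, ?_⟩
    · exact (map_d (AKm (eps X)) (m+1) m c').trans
        ((congrArg (fun s => ((AKm (eps X)).f m) s) hc').trans (map_zero _))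
    · have e2 := congrArg (fun s => ((AKm (eps Y)).f (m+1)) s) he₂
      beta_reduce at e2
      rw [eps_diff, map_add, ← hnat (m+1) c', ← map_d (AKm (eps Y)) (m+2) (m+1) e₂] at e2
      rw [map_add, he₁, e2]
      abel


end Groth.Agent.S6817
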