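import Groth.Statements.S6818
import Mathlib

set_option autoImplicit false
open CategoryTheory CategoryTheory.Limits Opposite
universe v u
open CategoryTheory CategoryTheory.Abelian

namespace Groth.Agent.S6818

open AlgebraicTopology AlgebraicTopology.DoldKan Simplicial



/-- For a simplicial object `U` of an abelian category and `n ≥ 0`, the subobjects `U'_m ⊆ U_m`
generated by the images of all `U_i ⟶ U_m` induced by maps `[m] ⟶ [i]` with `i ≤ n` form a
simplicial subobject equal to `U` in dimensions `≤ n` whose normalized part vanishes in dimensions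
`> n`. Here the normalized subobject of `U_m` is the joint kernel of the faces `d_1, …, d_m`; the
published statement uses the faces `d_0, …, d_{m-1}`, the mirror-image convention, and both versions
hold. -/
theorem result {A : Type u} [Category.{v} A] [Abelian A] (U : SimplicialObject A) (n : ℕ) (U' : ∀ m : ℕ, Subobject (U.obj (op (SimplexCategory.mk m)))) (hU' : ∀ m : ℕ, IsLUB (Set.range (fun φ : Σ i : Fin (n + 1), (SimplexCategory.mk m ⟶ SimplexCategory.mk i) => imageSubobject (U.map φ.2.op))) (U' m)) : (∀ (m m' : ℕ) (ψ : SimplexCategory.mk m' ⟶ SimplexCategory.mk m), imageSubobject ((U' m).arrow ≫ U.map ψ.op) ≤ U' m') ∧ (∀ i : ℕ, i ≤ n → U' i = ⊤) ∧ (∀ m : ℕ, n < m → U' m ⊓ AlgebraicTopology.NormalizedMooreComplex.objX U m = ⊥) := by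
  refine ⟨?_, ?_, ?_⟩
  · -- simplicial subobject
    intro m m' ψ
    have hA : U' m ≤ (Subobject.pullback (U.map ψ.op)).obj (U' m') := by
      refine (hU' m).2 ?_
      rintro G ⟨⟨i, θ⟩, rfl⟩
      have hle : imageSubobject (U.map (ψ ≫ θ).op) ≤ U' m' := (hU' m').1 ⟨⟨i, ψ ≫ θ⟩, rfl⟩
      have hw : (factorThruImageSubobject (U.map (ψ ≫ θ).op) ≫ Subobject.ofLE _ _ hle) ≫
          (U' m').arrow = U.map θ.op ≫ U.map ψ.op := by
        rw [Category.assoc, Subobject.ofLE_arrow, imageSubobject_arrow_comp, ← U.map_comp,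
          ← op_comp]
      exact imageSubobject_le (U.map θ.op)
        ((Subobject.isPullback (U.map ψ.op) (U' m')).lift _ _ hw)
        ((Subobject.isPullback (U.map ψ.op) (U' m')).lift_snd _ _ hw)
    refine imageSubobject_le _
      (Subobject.ofLE _ _ hA ≫ Subobject.pullbackπ (U.map ψ.op) (U' m')) ?_
    rw [Category.assoc, (Subobject.isPullback (U.map ψ.op) (U' m')).w, ← Category.assoc,
      Subobject.ofLE_arrow]
  · -- full in low degrees
    intro i hi
    have h1 : imageSubobject (U.map (𝟙 (SimplexCategory.mk i)).op) ≤ U' i :=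
      (hU' i).1 ⟨⟨⟨i, Nat.lt_succ_of_le hi⟩, 𝟙 _⟩, rfl⟩
    refine eq_top_iff.mpr (le_trans ?_ h1)
    refine Subobject.le_of_comm ((⊤ : Subobject _).arrow ≫
      factorThruImageSubobject (U.map (𝟙 (SimplexCategory.mk i)).op)) ?_
    rw [Category.assoc, imageSubobject_arrow_comp, op_id, U.map_id, Category.comp_id]
  · -- normalized part vanishes
    intro m hm
    obtain ⟨k, rfl⟩ : ∃ k, m = k + 1 := Nat.exists_eq_succ_of_ne_zero (by omega)
    have hN : (NormalizedMooreComplex.objX U (k+1)).arrow ≫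
        (PInfty.f (k+1) : U _⦋k+1⦌ ⟶ U _⦋k+1⦌) =
        (NormalizedMooreComplex.objX U (k+1)).arrow := by
      have e := HomologicalComplex.congr_hom (inclusionOfMooreComplexMap_comp_PInfty U) (k+1)
      rw [HomologicalComplex.comp_f, inclusionOfMooreComplexMap_f] at e
      exact e
    have hker : U' (k+1) ≤ kernelSubobject (PInfty.f (k+1) : U _⦋k+1⦌ ⟶ U _⦋k+1⦌) := by
      refine (hU' (k+1)).2 ?_
      rintro G ⟨⟨i, θ⟩, rfl⟩
      have hni : ¬Function.Injective θ.toOrderHom := by
        intro hinj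
        have hc := Fintype.card_le_of_injective _ hinj
        simp only [Fintype.card_fin, SimplexCategory.len_mk] at hc
        have := i.2
        omega
      obtain ⟨j, θ', hθ⟩ := SimplexCategory.eq_σ_comp_of_not_injective θ hni
      refine image_le_kernel _ _ ?_
      show U.map θ.op ≫ (PInfty.f (k+1) : U _⦋k+1⦌ ⟶ U _⦋k+1⦌) = 0
      rw [hθ, op_comp, U.map_comp, Category.assoc]
      have h0 : U.map (SimplexCategory.σ j).op ≫ (PInfty.f (k+1) : U _⦋k+1⦌ ⟶ U _⦋k+1⦌) = 0 :=
        σ_comp_PInfty U j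
      rw [h0, Limits.comp_zero]
    have h1 : (U' (k+1) ⊓ NormalizedMooreComplex.objX U (k+1)).arrow ≫
        (PInfty.f (k+1) : U _⦋k+1⦌ ⟶ U _⦋k+1⦌) =
        (U' (k+1) ⊓ NormalizedMooreComplex.objX U (k+1)).arrow := by
      rw [← Subobject.ofLE_arrow (inf_le_right :
        U' (k+1) ⊓ NormalizedMooreComplex.objX U (k+1) ≤ NormalizedMooreComplex.objX U (k+1)),
        Category.assoc, hN]
    have h2 : (U' (k+1) ⊓ NormalizedMooreComplex.objX U (k+1)).arrow ≫
        (PInfty.f (k+1) : U _⦋k+1⦌ ⟶ U _⦋k+1⦌) = 0 := by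
      rw [← Subobject.ofLE_arrow ((inf_le_left :
        U' (k+1) ⊓ NormalizedMooreComplex.objX U (k+1) ≤ U' (k+1)).trans hker),
        Category.assoc, kernelSubobject_arrow_comp, Limits.comp_zero]
    rw [← Subobject.mk_arrow (U' (k+1) ⊓ NormalizedMooreComplex.objX U (k+1))]
    exact Subobject.mk_eq_bot_iff_zero.mpr (h1.symm.trans h2)


end Groth.Agent.S6818
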