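import Groth.Statements.S6820
import Mathlib.Algebra.Module.LocalizedModule.Basic

set_option autoImplicit false
universe u
open Smoothing

namespace Groth.Agent.S6820

/-- Let A be a Noetherian ring, M a finite A-module, S a multiplicative subset of A and π an element of
A such that on the localised module S⁻¹M the kernels of multiplication by π and by π² agree. Then
there is an element s of S such that for every n > 0 the kernels of multiplication by sⁿπ and by
(sⁿπ)² on M agree. (Kernel equalities are written as implications, the reverse inclusions being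
automatic.) -/
theorem result {A : Type u} [CommRing A] [IsNoetherianRing A]
    (M : Type u) [AddCommGroup M] [Module A M] [Module.Finite A M] (S : Submonoid A) (π : A)
    (h : ∀ m : LocalizedModule S M, π ^ 2 • m = 0 → π • m = 0) :
    ∃ s ∈ S, ∀ n : ℕ, 0 < n → ∀ m : M, (s ^ n * π) ^ 2 • m = 0 → (s ^ n * π) • m = 0 := by
  classical
  -- the S-torsion submodule
  let T : Submodule A M := LinearMap.ker (LocalizedModule.mkLinearMap S M)
  have hTmem : ∀ t : M, t ∈ T ↔ ∃ s' : S, s' • t = 0 := by
    intro t
    simp only [T, LinearMap.mem_ker]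
    exact IsLocalizedModule.eq_zero_iff S (LocalizedModule.mkLinearMap S M)
  have hTfg : T.FG := IsNoetherian.noetherian T
  obtain ⟨G, hG⟩ := hTfg
  have hGT : ∀ g ∈ G, ∃ s' : S, s' • g = 0 := fun g hg =>
    (hTmem g).mp (hG ▸ Submodule.subset_span hg)
  choose! σ hσ using hGT
  let s : S := ∏ g ∈ G, σ g
  have hs : ∀ t ∈ T, (s : A) • t = 0 := by
    intro t ht
    rw [← hG] at ht
    induction ht using Submodule.span_induction with
    | mem g hg =>
      have hg' : g ∈ G := hg
      have : s = (∏ g' ∈ G.erase g, σ g') * σ g := by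
        simp only [s]
        rw [Finset.prod_erase_mul G σ hg']
      rw [this]
      have h0 : σ g • g = 0 := hσ g hg'
      rw [Submonoid.smul_def] at h0
      push_cast
      rw [mul_smul, h0, smul_zero]
    | zero => simp
    | add x y _ _ hx hy => rw [smul_add, hx, hy, add_zero]
    | smul a x _ hx => rw [smul_comm, hx, smul_zero]
  refine ⟨s, s.2, fun n hn m hm => ?_⟩
  have h1 : π ^ 2 • (LocalizedModule.mkLinearMap S M m) = 0 := by
    rw [← map_smul]
    rw [IsLocalizedModule.eq_zero_iff S (LocalizedModule.mkLinearMap S M)]
    refine ⟨s ^ (2 * n), ?_⟩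
    rw [Submonoid.smul_def]
    push_cast
    rw [← hm, smul_smul]
    congr 1
    ring
  have h2 := h _ h1
  rw [← map_smul] at h2
  have h3 : π • m ∈ T := h2
  have h4 := hs _ h3
  obtain ⟨k, rfl⟩ : ∃ k, n = k + 1 := ⟨n - 1, by omega⟩
  rw [pow_succ, mul_assoc, mul_smul, mul_smul, h4, smul_zero]

end Groth.Agent.S6820
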