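import Groth.Statements.S6826
import Mathlib
import Groth.Agent.S2044
import Groth.Agent.S6827
import Groth.Agent.S9699
import Groth.Agent.LibSyntComp29
import Groth.Agent.Lib.Helper22.SyntRetractC
import Groth.Agent.Lib.Helper22.SmoothLiftStd
import Groth.Agent.Lib.Helper22.SyntLiftE
import Groth.Agent.Lib.Helper22.SyntLiftF
import Groth.Agent.Lib.Helper22.SyntLiftG

set_option autoImplicit false
universe u
open Smoothing

namespace Groth.Agent.S6826

section aux

open TensorProduct KaehlerDifferential SymmetricAlgebra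

set_option linter.style.haveILetI false in
theorem main_aux {R : Type u} [CommRing R] (I : Ideal R) (A₀ : Type u) [CommRing A₀]
    [Algebra (R ⧸ I) A₀] [Algebra.FinitePresentation (R ⧸ I) A₀]
    (M : Type u) [AddCommGroup M] [Module A₀ M] [Module (R ⧸ I) M] [IsScalarTower (R ⧸ I) A₀ M]
    [Module.Finite A₀ M] [Module.Projective A₀ M]
    [Algebra.FinitePresentation (R ⧸ I) (SymmetricAlgebra A₀ M)]
    (B₁ : Type u) [CommRing B₁] [Algebra R B₁] (hB₁ : Synt.IsSyntomic R B₁)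
    (ψ : B₁ →+* SymmetricAlgebra A₀ M)
    (hψ1 : ∀ a, ψ (algebraMap R B₁ a) =
      algebraMap (R ⧸ I) (SymmetricAlgebra A₀ M) (Ideal.Quotient.mk I a))
    (hψ2 : Function.Surjective ψ) (hψ3 : RingHom.ker ψ = I.map (algebraMap R B₁)) :
    ∃ (A : Type u) (_ : CommRing A) (_ : Algebra R A), Synt.IsSyntomic R A ∧
      Nonempty ((A ⧸ I.map (algebraMap R A)) ≃ₐ[R ⧸ I] A₀) := by
  let ρ : SymmetricAlgebra A₀ M →ₐ[A₀] A₀ := algebraMapInv
  obtain ⟨δ, hδmul, hδA, hδι, -, hδker⟩ :=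
    Groth.Agent.Lib.helper22.SyntLiftG.sym_conormal_data A₀ M
  have hδR : ∀ x : R ⧸ I, δ (algebraMap (R ⧸ I) (SymmetricAlgebra A₀ M) x) = 0 := fun x => by
    rw [IsScalarTower.algebraMap_apply (R ⧸ I) A₀ (SymmetricAlgebra A₀ M), hδA]
  have hδsurj : ∀ n : M, ∃ κ, ρ κ = 0 ∧ δ κ = n := fun n =>
    ⟨ι A₀ M n, algebraMapInv_ι n, hδι n⟩
  let π : B₁ →+* A₀ := ρ.toRingHom.comp ψ
  have hπ : ∀ b, π b = ρ (ψ b) := fun _ => rfl
  have hπsurj : Function.Surjective π := fun a => by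
    obtain ⟨b, hb⟩ := hψ2 (algebraMap A₀ (SymmetricAlgebra A₀ M) a)
    exact ⟨b, by rw [hπ, hb, ρ.commutes]; rfl⟩
  have hπR : ∀ r, π (algebraMap R B₁ r) = algebraMap (R ⧸ I) A₀ (Ideal.Quotient.mk I r) := by
    intro r
    rw [hπ, hψ1, IsScalarTower.algebraMap_apply (R ⧸ I) A₀ (SymmetricAlgebra A₀ M), ρ.commutes]
    rfl
  let J : Ideal B₁ := RingHom.ker π
  have hJ : ∀ b, b ∈ J ↔ π b = 0 := fun b => RingHom.mem_ker
  let πbar : B₁ ⧸ J ≃+* A₀ := RingHom.quotientKerEquivOfSurjective hπsurj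
  have hπbar : ∀ b, πbar (Ideal.Quotient.mk J b) = π b := fun _ => rfl
  letI modBJ : Module (B₁ ⧸ J) M := Module.compHom M (πbar : B₁ ⧸ J →+* A₀)
  have hsmulBJ : ∀ (x : B₁ ⧸ J) (n : M), x • n = πbar x • n := fun _ _ => rfl
  haveI : RingHomInvPair (πbar.symm : A₀ →+* B₁ ⧸ J) (πbar : B₁ ⧸ J →+* A₀) :=
    ⟨by ext; simp, by ext; simp⟩
  haveI : RingHomInvPair (πbar : B₁ ⧸ J →+* A₀) (πbar.symm : A₀ →+* B₁ ⧸ J) :=
    ⟨by ext; simp, by ext; simp⟩
  let eN : M ≃ₛₗ[(πbar.symm : A₀ →+* B₁ ⧸ J)] M :=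
    { toFun := id
      invFun := id
      map_add' := fun _ _ => rfl
      map_smul' := fun a n => by
        change a • n = (πbar.symm a) • n
        rw [hsmulBJ, RingEquiv.apply_symm_apply]
      left_inv := fun _ => rfl
      right_inv := fun _ => rfl }
  haveI : Module.Projective (B₁ ⧸ J) M := Module.Projective.of_equiv eN
  haveI : Module.Finite (B₁ ⧸ J) M := Module.Finite.of_surjective eN.toLinearMap eN.surjective
  obtain ⟨B', _, _, hét, hbij, P', _, _, hP'fin, hP'proj, ⟨ε⟩⟩ := Groth.Agent.S2044.result J M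
  obtain ⟨χ, e, hχ1, hχ2, hesurj, hesmul, heker⟩ :=
    Groth.Agent.S6827.exists_reduction_map J hbij M P' ε
  letI algRB' : Algebra R B' := Algebra.compHom B' (algebraMap R B₁)
  haveI towerRB : IsScalarTower R B₁ B' := IsScalarTower.of_algebraMap_eq' rfl
  haveI : Algebra.Smooth B₁ B' := inferInstance
  have hB' : Synt.IsSyntomic R B' :=
    Groth.Agent.LibSyntComp29.isSyntomic_trans R B₁ B' hB₁
      (Groth.Agent.S9699.isSyntomic_of_smooth B₁ B')
  haveI : Module.Flat B₁ B' := inferInstance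
  let χ' : B' →+* A₀ := (πbar : B₁ ⧸ J →+* A₀).comp (χ.comp (Ideal.Quotient.mk _))
  have hχ' : ∀ b', χ' b' = πbar (χ (Ideal.Quotient.mk _ b')) := fun _ => rfl
  have hχ'alg : ∀ b, χ' (algebraMap B₁ B' b) = π b := by
    intro b
    rw [hχ', ← Ideal.Quotient.algebraMap_quotient_map_quotient, hχ1, hπbar]
  letI modB' : Module B' M := Module.compHom M χ'
  letI modB₁ : Module B₁ M := Module.compHom M π
  have hsmulB' : ∀ (b : B') (n : M), b • n = χ' b • n := fun _ _ => rfl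
  have hsmulB₁ : ∀ (b : B₁) (n : M), b • n = π b • n := fun _ _ => rfl
  haveI : IsScalarTower B₁ B' M := ⟨fun b b' n => by
    rw [hsmulB', hsmulB₁, hsmulB', Algebra.smul_def, map_mul, hχ'alg, mul_smul]⟩
  letI modR : Module R M :=
    Module.compHom M ((algebraMap (R ⧸ I) A₀).comp (Ideal.Quotient.mk I))
  have hsmulR : ∀ (r : R) (n : M), r • n = algebraMap (R ⧸ I) A₀ (Ideal.Quotient.mk I r) • n :=
    fun _ _ => rfl
  haveI : IsScalarTower R B₁ M := ⟨fun r b n => by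
    rw [hsmulB₁, hsmulR, hsmulB₁, Algebra.smul_def, map_mul, hπR, mul_smul]⟩
  let D₁ : Derivation R B₁ M := Derivation.mk'
    { toFun := fun b => δ (ψ b)
      map_add' := fun a b => by rw [map_add, map_add]
      map_smul' := fun r b => by
        rw [Algebra.smul_def, map_mul, hψ1, hδmul, hδR, smul_zero, add_zero, RingHom.id_apply,
          hsmulR, IsScalarTower.algebraMap_apply (R ⧸ I) A₀ (SymmetricAlgebra A₀ M),
          AlgHom.commutes]
        rfl }
    (fun a b => by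
      change δ (ψ (a * b)) = a • δ (ψ b) + b • δ (ψ a)
      rw [map_mul, hδmul, hsmulB₁, hsmulB₁, hπ, hπ])
  have hD₁ : ∀ b, D₁ b = δ (ψ b) := fun _ => rfl
  let d₁ : Ω[B₁⁄R] →ₗ[B₁] M := D₁.liftKaehlerDifferential
  have hd₁ : ∀ b, d₁ (D R B₁ b) = δ (ψ b) := fun b => D₁.liftKaehlerDifferential_comp_D b
  haveI : Algebra.FormallyEtale B₁ B' := inferInstance
  let d' : Ω[B'⁄R] →ₗ[B'] M :=
    (KaehlerDifferential.isBaseChange_of_formallyEtale R B₁ B').lift d₁
  have hd' : ∀ b, d' (D R B' (algebraMap B₁ B' b)) = d₁ (D R B₁ b) := by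
    intro b
    have := IsBaseChange.lift_eq (KaehlerDifferential.isBaseChange_of_formallyEtale R B₁ B') d₁
      (D R B₁ b)
    rwa [KaehlerDifferential.map_D] at this
  let e' : P' →ₗ[B'] M :=
    { toFun := e
      map_add' := e.map_add
      map_smul' := fun b p => by
        rw [hesmul, RingHom.id_apply, hsmulBJ, hsmulB', hχ'] }
  have he' : ∀ p, e' p = e p := fun _ => rfl
  -- finite generation
  have hKbfg : (RingHom.ker (ρ.restrictScalars (R ⧸ I)).toRingHom).FG :=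
    Algebra.FinitePresentation.ker_fG_of_surjective (ρ.restrictScalars (R ⧸ I))
      (fun a => ⟨algebraMap A₀ (SymmetricAlgebra A₀ M) a, ρ.commutes a⟩)
  obtain ⟨J'', hJ''fg, hJ''⟩ := Groth.Agent.S6827.exists_fg_sup_ker ψ hψ2 _ hKbfg
  have hJeq : J = J'' ⊔ I.map (algebraMap R B₁) := by
    rw [← hψ3, ← hJ'']
    rfl
  have hJ'eq : J.map (algebraMap B₁ B') =
      J''.map (algebraMap B₁ B') ⊔ I.map (algebraMap R B') := by
    rw [hJeq, Ideal.map_sup, Ideal.map_map, ← IsScalarTower.algebraMap_eq]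
  -- B₁-level conditions
  have hJmap : J.map ψ = RingHom.ker ρ.toRingHom := by
    have : J = (RingHom.ker ρ.toRingHom).comap ψ := rfl
    rw [this, Ideal.map_comap_of_surjective ψ hψ2]
  have hc1 : ∀ n : M, ∃ k ∈ J, d₁ (D R B₁ k) = n := by
    intro n
    obtain ⟨κ, hκ, hκn⟩ := hδsurj n
    obtain ⟨k, rfl⟩ := hψ2 κ
    exact ⟨k, (hJ k).mpr hκ, by rw [hd₁, hκn]⟩
  have hc2 : ∀ k ∈ J, d₁ (D R B₁ k) = 0 → k ∈ J ^ 2 ⊔ I.map (algebraMap R B₁) := by
    intro k hk h0
    rw [hd₁] at h0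
    have h1 := hδker (ψ k) ((hJ k).mp hk) h0
    rw [← hJmap, ← Ideal.map_pow] at h1
    have h2 : k ∈ (Ideal.map ψ (J ^ 2)).comap ψ := h1
    rw [Ideal.comap_map_of_surjective ψ hψ2] at h2
    rw [← hψ3]
    exact h2
  have hsurj' : ∀ b' : B', ∃ b : B₁, b' - algebraMap B₁ B' b ∈ J.map (algebraMap B₁ B') := by
    intro b'
    obtain ⟨b, hb⟩ := Ideal.Quotient.mk_surjective (χ (Ideal.Quotient.mk _ b'))
    refine ⟨b, ?_⟩
    rw [← Ideal.Quotient.eq_zero_iff_mem, map_sub, sub_eq_zero,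
      ← Ideal.Quotient.algebraMap_quotient_map_quotient, hb, hχ2]
  have hJN : ∀ k ∈ J.map (algebraMap B₁ B'), ∀ n : M, k • n = 0 := by
    intro k hk n
    rw [hsmulB', hχ', Ideal.Quotient.eq_zero_iff_mem.mpr hk, map_zero, map_zero, zero_smul]
  obtain ⟨hc1', hc2'⟩ := Groth.Agent.S6827.conditions_transfer I J hsurj' hJN d₁ d' hd' hc1 hc2
  have hker' : LinearMap.ker e' = (J.map (algebraMap B₁ B')) • ⊤ := by
    ext p
    rw [LinearMap.mem_ker, he']
    exact heker p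
  obtain ⟨A, _, _, hsm, χA, hχA1, hχA2, hχA3⟩ :=
    Groth.Agent.Lib.helper22.SyntLiftE.exists_syntomic_of_data hB' I (J.map (algebraMap B₁ B'))
      (J''.map (algebraMap B₁ B')) (hJ''fg.map _) hJ'eq e' hesurj hker' d' hc1' hc2'
      (fun q _ hq => Groth.Agent.Lib.helper22.SyntLiftG.exists_local_regular_data I A₀ M B₁ ψ
        hψ1 hψ2 hψ3 J hJ B' q hq)
  -- final identification
  let Ψ : A →+* A₀ := ((πbar : B₁ ⧸ J →+* A₀).comp χ).comp χA
  have hΨ : ∀ a, Ψ a = πbar (χ (χA a)) := fun _ => rfl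
  have hχinj : Function.Injective χ := by
    intro x y hxy
    rw [← hχ2 x, ← hχ2 y, hxy]
  have hχsurj : Function.Surjective χ := fun x => ⟨_, hχ1 x⟩
  refine ⟨A, inferInstance, inferInstance, hsm, ?_⟩
  refine Groth.Agent.Lib.helper22.SmoothLiftStd.nonempty_quotient_algEquiv_of_surjective I A A₀ Ψ
    ?_ ?_ ?_
  · intro r
    rw [hΨ, hχA1]
    have : algebraMap R (B' ⧸ J.map (algebraMap B₁ B')) r =
        Ideal.Quotient.mk _ (algebraMap B₁ B' (algebraMap R B₁ r)) := rfl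
    rw [this, ← hχ', hχ'alg, hπR]
  · intro a
    obtain ⟨x, hx⟩ := πbar.surjective a
    obtain ⟨y, hy⟩ := hχsurj x
    obtain ⟨z, hz⟩ := hχA2 y
    exact ⟨z, by rw [hΨ, hz, hy, hx]⟩
  · rw [← hχA3]
    ext a
    rw [RingHom.mem_ker, RingHom.mem_ker, hΨ]
    constructor
    · intro h
      have h1 : χ (χA a) = 0 := πbar.injective (by rw [h, map_zero])
      exact hχinj (by rw [h1, map_zero])
    · intro h
      rw [h, map_zero, map_zero]

end aux

/-- Let R → R₀ be a surjective ring map with kernel I (so R₀ = R/I) and A₀ a syntomic R₀-algebra (flat,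
finitely presented, with local complete intersection fibres). Then there is a syntomic R-algebra A
with A/IA isomorphic to A₀ as an R/I-algebra. -/
theorem result {R A₀ : Type u} [CommRing R] (I : Ideal R) [CommRing A₀]
    [Algebra (R ⧸ I) A₀] (h : Synt.IsSyntomic (R ⧸ I) A₀) :
    ∃ (A : Type u) (_ : CommRing A) (_ : Algebra R A), Synt.IsSyntomic R A ∧
      Nonempty ((A ⧸ I.map (algebraMap R A)) ≃ₐ[R ⧸ I] A₀) := by
  classical
  haveI : Algebra.FinitePresentation (R ⧸ I) A₀ := h.2.1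
  obtain ⟨n, c, G, ⟨e⟩⟩ := Groth.Agent.LibSyntPres29.exists_pres (R ⧸ I) A₀
  obtain ⟨hfin, hproj⟩ := Groth.Agent.Lib.helper22.SyntRetractA.cotangent_projective e h
  obtain ⟨N, c'', Fb, hrel, ⟨E⟩⟩ :=
    Groth.Agent.Lib.helper22.SyntRetractC.exists_relGCI_equiv_sym e h
  haveI : Algebra.FinitePresentation A₀ (SymmetricAlgebra A₀
      (Groth.Agent.Lib.helper22.SyntRetractA.gens e).toExtension.Cotangent) :=
    Groth.Agent.Lib.helper22.SymKaehler.finitePresentation_sym A₀ _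
  haveI : Algebra.FinitePresentation (R ⧸ I) (SymmetricAlgebra A₀
      (Groth.Agent.Lib.helper22.SyntRetractA.gens e).toExtension.Cotangent) :=
    Algebra.FinitePresentation.trans (R ⧸ I) A₀ _
  obtain ⟨B₁, _, _, hB₁, ψ₀, hψ1, hψ2, hψ3⟩ :=
    Groth.Agent.Lib.helper22.SyntLiftF.exists_syntomic_lift_relGCI I N c'' Fb hrel
  refine main_aux I A₀ (Groth.Agent.Lib.helper22.SyntRetractA.gens e).toExtension.Cotangent B₁ hB₁
    ((E.symm : Synt.RelGCIRing (R ⧸ I) N c'' Fb →+* _).comp ψ₀) ?_ ?_ ?_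
  · intro a
    rw [RingHom.comp_apply, hψ1]
    exact E.symm.commutes _
  · exact E.symm.surjective.comp hψ2
  · rw [← hψ3]
    ext b
    rw [RingHom.mem_ker, RingHom.mem_ker, RingHom.comp_apply]
    exact EmbeddingLike.map_eq_zero_iff (f := E.symm)

end Groth.Agent.S6826
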