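import Groth.Statements.S6828
import Mathlib
import Groth.Agent.S9147
import Groth.Agent.Lib.Helper22.SyntRetractC

set_option autoImplicit false
universe u
open Smoothing

namespace Groth.Agent.S6828

section aux

variable {R A : Type u} [CommRing R] [CommRing A] [Algebra R A]

/-- transport of the structure along an `R`-algebra isomorphism `C ≃ RelGCIRing`. -/
theorem main_aux {M : Type u} [AddCommGroup M] [Module A M] [Module R M] [IsScalarTower R A M]
    [Algebra.Smooth A (SymmetricAlgebra A M)]
    {N c'' : ℕ} {F : Fin c'' → MvPolynomial (Fin N) R}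
    (E : SymmetricAlgebra A M ≃ₐ[R] Synt.RelGCIRing R N c'' F) :
    ∃ (_ : Algebra A (Synt.RelGCIRing R N c'' F))
      (_ : IsScalarTower R A (Synt.RelGCIRing R N c'' F)),
      Algebra.Smooth A (Synt.RelGCIRing R N c'' F) ∧
      ∃ ρ : Synt.RelGCIRing R N c'' F →ₐ[R] A,
        ∀ a : A, ρ (algebraMap A (Synt.RelGCIRing R N c'' F) a) = a := by
  letI alg : Algebra A (Synt.RelGCIRing R N c'' F) :=
    ((E : SymmetricAlgebra A M →+* Synt.RelGCIRing R N c'' F).comp
      (algebraMap A (SymmetricAlgebra A M))).toAlgebra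
  have halg : ∀ a : A, algebraMap A (Synt.RelGCIRing R N c'' F) a =
      E (algebraMap A (SymmetricAlgebra A M) a) := fun a => rfl
  have tower : IsScalarTower R A (Synt.RelGCIRing R N c'' F) :=
    IsScalarTower.of_algebraMap_eq fun r => by
      rw [halg, ← IsScalarTower.algebraMap_apply R A (SymmetricAlgebra A M), E.commutes]
  refine ⟨alg, tower, ?_, ?_⟩
  · let EA : SymmetricAlgebra A M ≃ₐ[A] Synt.RelGCIRing R N c'' F :=
      { E.toRingEquiv with commutes' := fun a => rfl }
    exact Algebra.Smooth.of_equiv EA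
  · refine ⟨((SymmetricAlgebra.algebraMapInv (R := A) (M := M)).restrictScalars R).comp
      (E.symm : Synt.RelGCIRing R N c'' F →ₐ[R] SymmetricAlgebra A M), fun a => ?_⟩
    rw [halg]
    simp

end aux

/-- Let R → A be a syntomic ring map. Then there are a smooth R-algebra map A → C with an R-algebra
retraction C → A, where C = R[x₁, …, x_n]/(f₁, …, f_c) is a relative global complete intersection
over R (all nonempty fibres of dimension n − c) and flat over R. -/
theorem result {R A : Type u} [CommRing R] [CommRing A] [Algebra R A]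
    (h : Synt.IsSyntomic R A) :
    ∃ (n c : ℕ) (F : Fin c → MvPolynomial (Fin n) R), Synt.IsRelGCI R n c F ∧
      Module.Flat R (Synt.RelGCIRing R n c F) ∧
      ∃ (_ : Algebra A (Synt.RelGCIRing R n c F)) (_ : IsScalarTower R A (Synt.RelGCIRing R n c F)),
        Algebra.Smooth A (Synt.RelGCIRing R n c F) ∧
        ∃ ρ : Synt.RelGCIRing R n c F →ₐ[R] A, ∀ a : A, ρ (algebraMap A (Synt.RelGCIRing R n c F) a) = a := by
  classical
  haveI : Algebra.FinitePresentation R A := h.2.1
  obtain ⟨n, c, G, ⟨e⟩⟩ := Groth.Agent.LibSyntPres29.exists_pres R A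
  obtain ⟨hfin, hproj⟩ := Groth.Agent.Lib.helper22.SyntRetractA.cotangent_projective e h
  obtain ⟨N, c'', F, hrel, ⟨E⟩⟩ := Groth.Agent.Lib.helper22.SyntRetractC.exists_relGCI_equiv_sym e h
  refine ⟨N, c'', F, hrel, (Groth.Agent.S9147.result R N c'' F hrel).1, ?_⟩
  haveI : Algebra.FormallySmooth A (SymmetricAlgebra A
      (Groth.Agent.Lib.helper22.SyntRetractA.gens e).toExtension.Cotangent) :=
    Groth.Agent.Lib.helper22.SymKaehler.formallySmooth_sym A _
  haveI : Algebra.FinitePresentation A (SymmetricAlgebra A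
      (Groth.Agent.Lib.helper22.SyntRetractA.gens e).toExtension.Cotangent) :=
    Groth.Agent.Lib.helper22.SymKaehler.finitePresentation_sym A _
  haveI : Algebra.Smooth A (SymmetricAlgebra A
      (Groth.Agent.Lib.helper22.SyntRetractA.gens e).toExtension.Cotangent) :=
    ⟨inferInstance, inferInstance⟩
  exact main_aux E

end Groth.Agent.S6828
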