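import Groth.Statements.S6836
import Groth.Agent.Lib.Helper11.LocFree

set_option autoImplicit false
universe u
open CategoryTheory CategoryTheory.Limits TopologicalSpace
open ModSite

namespace Groth.Agent.S6836

/-- On a ringed space (X, O), let r ≥ 0 and let φ : F → G be a map of O-modules which are both finite
locally free of rank r (every point has an open neighbourhood U with F|_U ≅ O_U^r, the free
O_U-module on r generators, and likewise for G). Then φ is an isomorphism if and only if it is
surjective. -/
theorem result {X : TopCat.{u}} (O : TopCat.Sheaf CommRingCat.{u} X) (r : ℕ)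
    {F G : ModSite.Mod O}
    (hF : ∀ x : X, ∃ U : Opens X, x ∈ U ∧
      Nonempty ((ModSite.restr O U).obj F ≅ SheafOfModules.free (ULift.{u} (Fin r))))
    (hG : ∀ x : X, ∃ U : Opens X, x ∈ U ∧
      Nonempty ((ModSite.restr O U).obj G ≅ SheafOfModules.free (ULift.{u} (Fin r))))
    (φ : F ⟶ G) : IsIso φ ↔ Epi φ := by
  constructor
  · intro h
    infer_instance
  · intro h
    open Groth.Agent.Lib.helper11.LocFree in
    have hF' : ∀ x : X, ∃ (U : Opens X), x ∈ U ∧
        ∃ b : ULift.{u} (Fin r) → F.val.obj (Opposite.op U), LocBasis F U b := fun x => by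
      obtain ⟨U, hxU, ⟨e⟩⟩ := hF x
      exact ⟨U, hxU, exists_locBasis_of_iso (R := ModSite.ringSh O) F U e⟩
    have hG' : ∀ x : X, ∃ (U : Opens X), x ∈ U ∧
        ∃ b : ULift.{u} (Fin r) → G.val.obj (Opposite.op U), LocBasis G U b := fun x => by
      obtain ⟨U, hxU, ⟨e⟩⟩ := hG x
      exact ⟨U, hxU, exists_locBasis_of_iso (R := ModSite.ringSh O) G U e⟩
    have hcomm : ∀ (U : Opens X) (a b : (ModSite.ringSh O).obj.obj (Opposite.op U)), a * b = b * a :=
      fun U a b => by
        let a' : O.obj.obj (Opposite.op U) := a
        let b' : O.obj.obj (Opposite.op U) := b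
        exact mul_comm a' b'
    haveI : Mono φ := mono_of_injective φ
      (fun D => injective_of_epi_of_locBasis hcomm φ hF' hG' D)
    exact isIso_of_mono_of_epi φ

end Groth.Agent.S6836
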