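import Groth.Statements.S6841
import Mathlib
import Groth.Agent.Lib.Helper6.JacCore
import Groth.Agent.S19586
import Groth.Agent.Lib.Helper24.SmoothNormal

set_option autoImplicit false
universe u
open Smoothing

namespace Groth.Agent.S6841

section aux

open TensorProduct KaehlerDifferential

/-- transfer of vanishing of `1 ⊗ ω` between a field `K` and the residue field of the kernel. -/
theorem tmul_eq_zero_iff (A B K M : Type u) [CommRing A] [CommRing B] [Field K]
    [Algebra B A] [Algebra A K] [Algebra B K] [IsScalarTower B A K]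
    [AddCommGroup M] [Module B M] (q : Ideal A) [q.IsPrime]
    (hker : RingHom.ker (algebraMap A K) = q) (ω : M) :
    (1 : K) ⊗ₜ[B] ω = 0 ↔ (1 : q.ResidueField) ⊗ₜ[B] ω = 0 := by
  have hf₂ : q.primeCompl ≤ Submonoid.comap (algebraMap A K) (IsUnit.submonoid K) := by
    intro x hx
    rw [Submonoid.mem_comap, IsUnit.mem_submonoid_iff, isUnit_iff_ne_zero]
    intro h0
    apply (Ideal.mem_primeCompl_iff.mp hx)
    rw [← hker]
    exact RingHom.mem_ker.mpr h0
  let ψ : q.ResidueField →+* K := Ideal.ResidueField.lift q (algebraMap A K) hker.ge hf₂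
  letI : Algebra q.ResidueField K := ψ.toAlgebra
  haveI : IsScalarTower A q.ResidueField K := IsScalarTower.of_algebraMap_eq (fun a =>
    (Ideal.ResidueField.lift_algebraMap q (algebraMap A K) hker.ge hf₂ a).symm)
  haveI : IsScalarTower B q.ResidueField K := IsScalarTower.of_algebraMap_eq (fun b => by
    rw [IsScalarTower.algebraMap_apply B A K, IsScalarTower.algebraMap_apply A q.ResidueField K,
      ← IsScalarTower.algebraMap_apply B A q.ResidueField])
  have hE := AlgebraTensorModule.cancelBaseChange_tmul B q.ResidueField K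
    (M := K) (N := M) (1 : K) ω (1 : q.ResidueField)
  rw [one_smul] at hE
  have hinj := Module.FaithfullyFlat.tensorProduct_mk_injective
    (A := q.ResidueField) (B := K) (q.ResidueField ⊗[B] M)
  constructor
  · intro h
    rw [← hE, LinearEquiv.map_eq_zero_iff] at h
    apply hinj
    rw [map_zero]
    exact h
  · intro h
    rw [← hE, h, TensorProduct.tmul_zero, map_zero]

/-- Nakayama over a local ring, tested on a field receiving the residue field. -/
theorem subsingleton_of_tensor_field (P K M : Type u) [CommRing P] [IsLocalRing P] [Field K]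
    [Algebra P K] [AddCommGroup M] [Module P M] [Module.Finite P M]
    (hK : IsLocalRing.maximalIdeal P ≤ RingHom.ker (algebraMap P K))
    (h : Subsingleton (K ⊗[P] M)) : Subsingleton M := by
  let ψ : IsLocalRing.ResidueField P →+* K :=
    Ideal.Quotient.lift (IsLocalRing.maximalIdeal P) (algebraMap P K)
      (fun a ha => RingHom.mem_ker.mp (hK ha))
  letI : Algebra (IsLocalRing.ResidueField P) K := ψ.toAlgebra
  haveI : IsScalarTower P (IsLocalRing.ResidueField P) K :=
    IsScalarTower.of_algebraMap_eq (fun a => rfl)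
  let e := AlgebraTensorModule.cancelBaseChange P (IsLocalRing.ResidueField P) K K M
  haveI : Subsingleton (K ⊗[IsLocalRing.ResidueField P] (IsLocalRing.ResidueField P ⊗[P] M)) :=
    e.toEquiv.injective.subsingleton
  haveI : Subsingleton (IsLocalRing.ResidueField P ⊗[P] M) :=
    Module.FaithfullyFlat.lTensor_reflects_triviality (IsLocalRing.ResidueField P) K _
  exact (IsLocalRing.subsingleton_tensorProduct (R := P) (M := M)).mp inferInstance

theorem formallySmooth_of_eq (R B : Type u) [CommRing R] [CommRing B] [Algebra R B]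
    {P Q : Ideal B} [P.IsPrime] [Q.IsPrime]
    (h : P = Q) (hX : Algebra.FormallySmooth R (Localization.AtPrime P)) :
    Algebra.FormallySmooth R (Localization.AtPrime Q) := by
  subst h
  exact hX

section FR

variable (R B A : Type u) [CommRing R] [CommRing B] [CommRing A]
    [Algebra R B] [Algebra B A] [Algebra R A] [IsScalarTower R B A]
    (K : Type u) [Field K] [Algebra A K] [Algebra B K] [IsScalarTower B A K]

theorem lTensor_ker_eq_zero (hsurj : Function.Surjective (algebraMap B A))
    (h0 : ∀ f ∈ RingHom.ker (algebraMap B A), (1 : K) ⊗ₜ[B] D R B f = 0)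
    (y : K ⊗[A] (LinearMap.ker (mapBaseChange R B A))) :
    LinearMap.lTensor K (LinearMap.ker (mapBaseChange R B A)).subtype y = 0 := by
  induction y using TensorProduct.induction_on with
  | zero => rw [map_zero]
  | add y1 y2 h1 h2 => rw [map_add, h1, h2, add_zero]
  | tmul k n =>
    obtain ⟨c, hc⟩ := (exact_kerCotangentToTensor_mapBaseChange R B A hsurj n.1).mp
      (LinearMap.mem_ker.mp n.2)
    obtain ⟨⟨f, hf⟩, rfl⟩ := Ideal.toCotangent_surjective _ c
    rw [kerCotangentToTensor_toCotangent] at hc
    rw [LinearMap.lTensor_tmul, Submodule.subtype_apply, ← hc]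
    have h1 : AlgebraTensorModule.cancelBaseChange B A K K Ω[B⁄R]
        (k ⊗ₜ[A] ((1 : A) ⊗ₜ[B] D R B f)) = 0 := by
      rw [AlgebraTensorModule.cancelBaseChange_tmul, one_smul]
      have h2 : k ⊗ₜ[B] D R B f = k • ((1 : K) ⊗ₜ[B] D R B f) := by
        rw [TensorProduct.smul_tmul', smul_eq_mul, mul_one]
      rw [h2, h0 f hf, smul_zero]
    exact (LinearEquiv.map_eq_zero_iff _).mp h1

theorem finrank_add_finrank_ker [Module.Finite B Ω[B⁄R]]
    (hsurj : Function.Surjective (algebraMap B A)) :
    Module.finrank K (K ⊗[A] Ω[A⁄R]) +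
      Module.finrank K (LinearMap.ker ((mapBaseChange R B A).baseChange K)) =
      Module.finrank K (K ⊗[B] Ω[B⁄R]) := by
  let E₁ : K ⊗[A] (A ⊗[B] Ω[B⁄R]) ≃ₗ[K] K ⊗[B] Ω[B⁄R] :=
    AlgebraTensorModule.cancelBaseChange B A K K Ω[B⁄R]
  haveI : Module.Finite K (K ⊗[A] (A ⊗[B] Ω[B⁄R])) := Module.Finite.equiv E₁.symm
  have hsurjψ : Function.Surjective ((mapBaseChange R B A).baseChange K) := by
    rw [LinearMap.baseChange_eq_ltensor]
    exact LinearMap.lTensor_surjective K (mapBaseChange_surjective R B A hsurj)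
  have hrn := LinearMap.finrank_range_add_finrank_ker ((mapBaseChange R B A).baseChange K)
  rw [LinearMap.range_eq_top.mpr hsurjψ, finrank_top, E₁.finrank_eq] at hrn
  exact hrn

theorem finrank_eq_of_forall_zero [Module.Finite B Ω[B⁄R]]
    (hsurj : Function.Surjective (algebraMap B A))
    (h0 : ∀ f ∈ RingHom.ker (algebraMap B A), (1 : K) ⊗ₜ[B] D R B f = 0) :
    Module.finrank K (K ⊗[A] Ω[A⁄R]) = Module.finrank K (K ⊗[B] Ω[B⁄R]) := by
  have hrn := finrank_add_finrank_ker R B A K hsurj
  have hex := lTensor_exact (R := A) (M := (mapBaseChange R B A).ker) (N := A ⊗[B] Ω[B⁄R])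
    (P := Ω[A⁄R]) (f := (mapBaseChange R B A).ker.subtype) (g := mapBaseChange R B A) K
    (LinearMap.exact_subtype_ker_map (mapBaseChange R B A))
    (mapBaseChange_surjective R B A hsurj)
  have hkerbot : LinearMap.ker ((mapBaseChange R B A).baseChange K) = ⊥ := by
    rw [eq_bot_iff]
    intro x hx
    rw [LinearMap.mem_ker] at hx
    have hx' : (LinearMap.lTensor K (mapBaseChange R B A)) x = 0 := by
      rw [← LinearMap.baseChange_eq_ltensor]; exact hx
    obtain ⟨y, rfl⟩ := (hex x).mp hx'
    rw [Submodule.mem_bot]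
    exact lTensor_ker_eq_zero R B A K hsurj h0 y
  rw [hkerbot, finrank_bot, add_zero] at hrn
  exact hrn

theorem forall_zero_of_finrank_le [Module.Finite B Ω[B⁄R]]
    (hsurj : Function.Surjective (algebraMap B A))
    (hle : Module.finrank K (K ⊗[B] Ω[B⁄R]) ≤ Module.finrank K (K ⊗[A] Ω[A⁄R]))
    (f : B) (hf : f ∈ RingHom.ker (algebraMap B A)) : (1 : K) ⊗ₜ[B] D R B f = 0 := by
  have hrn := finrank_add_finrank_ker R B A K hsurj
  let E₁ : K ⊗[A] (A ⊗[B] Ω[B⁄R]) ≃ₗ[K] K ⊗[B] Ω[B⁄R] :=
    AlgebraTensorModule.cancelBaseChange B A K K Ω[B⁄R]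
  have hE₁ : E₁ ((1 : K) ⊗ₜ[A] ((1 : A) ⊗ₜ[B] D R B f)) = (1 : K) ⊗ₜ[B] D R B f := by
    show AlgebraTensorModule.cancelBaseChange B A K K Ω[B⁄R] _ = _
    rw [AlgebraTensorModule.cancelBaseChange_tmul, one_smul]
  haveI : Module.Finite K (K ⊗[A] (A ⊗[B] Ω[B⁄R])) := Module.Finite.equiv E₁.symm
  have hk0 : Module.finrank K (LinearMap.ker ((mapBaseChange R B A).baseChange K)) = 0 := by
    omega
  rw [Submodule.finrank_eq_zero] at hk0
  have hmem : (1 : K) ⊗ₜ[A] ((1 : A) ⊗ₜ[B] D R B f) ∈
      LinearMap.ker ((mapBaseChange R B A).baseChange K) := by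
    rw [LinearMap.mem_ker, LinearMap.baseChange_tmul, mapBaseChange_tmul, one_smul, map_D,
      RingHom.mem_ker.mp hf, map_zero, TensorProduct.tmul_zero]
  rw [hk0, Submodule.mem_bot] at hmem
  rw [← hE₁, hmem, map_zero]

end FR

/-- generic fibre dimension is at most the special fibre dimension. -/
theorem finrank_fractionRing_le (Λ B M : Type u) [CommRing Λ] [IsDomain Λ] [IsLocalRing Λ]
    [CommRing B] [Algebra B Λ] [AddCommGroup M] [Module B M] [Module.Finite B M] :
    Module.finrank (FractionRing Λ) (FractionRing Λ ⊗[B] M) ≤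
      Module.finrank (IsLocalRing.ResidueField Λ) (IsLocalRing.ResidueField Λ ⊗[B] M) := by
  let e₀ : IsLocalRing.ResidueField Λ ⊗[Λ] (Λ ⊗[B] M) ≃ₗ[IsLocalRing.ResidueField Λ]
      IsLocalRing.ResidueField Λ ⊗[B] M :=
    AlgebraTensorModule.cancelBaseChange B Λ (IsLocalRing.ResidueField Λ)
      (IsLocalRing.ResidueField Λ) M
  let e₁ : FractionRing Λ ⊗[Λ] (Λ ⊗[B] M) ≃ₗ[FractionRing Λ] FractionRing Λ ⊗[B] M :=
    AlgebraTensorModule.cancelBaseChange B Λ (FractionRing Λ) (FractionRing Λ) M
  let b := Module.finBasis (IsLocalRing.ResidueField Λ)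
    (IsLocalRing.ResidueField Λ ⊗[Λ] (Λ ⊗[B] M))
  have hsurj : Function.Surjective
      (TensorProduct.mk Λ (IsLocalRing.ResidueField Λ) (Λ ⊗[B] M) 1) :=
    TensorProduct.mk_surjective Λ (Λ ⊗[B] M) (IsLocalRing.ResidueField Λ)
      Ideal.Quotient.mk_surjective
  choose n hn using fun i => hsurj (b i)
  have hspan : Submodule.span Λ (Set.range n) = ⊤ :=
    IsLocalRing.span_eq_top_of_tmul_eq_basis n b hn
  have hspanK : Submodule.span (FractionRing Λ)
      (TensorProduct.mk Λ (FractionRing Λ) (Λ ⊗[B] M) 1 '' Set.range n) = ⊤ := by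
    rw [← Submodule.baseChange_span, hspan, Submodule.baseChange_top]
  rw [← e₁.finrank_eq, ← e₀.finrank_eq]
  have h1 : Module.finrank (FractionRing Λ) (FractionRing Λ ⊗[Λ] (Λ ⊗[B] M)) =
      Module.finrank (FractionRing Λ) (Submodule.span (FractionRing Λ)
        (TensorProduct.mk Λ (FractionRing Λ) (Λ ⊗[B] M) 1 '' Set.range n)) := by
    rw [hspanK, finrank_top]
  rw [h1, ← Set.range_comp]
  refine (finrank_range_le_card (R := FractionRing Λ)
    ((TensorProduct.mk Λ (FractionRing Λ) (Λ ⊗[B] M) 1) ∘ n)).trans ?_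
  rw [Fintype.card_fin]

section Z

variable (A B R : Type u) [CommRing A] [CommRing B] [CommRing R]
    [Algebra A B] [Algebra B R] [Algebra A R] [IsScalarTower A B R]
    (p : Ideal R) [p.IsPrime]

local notation "Bq" => Localization.AtPrime (Ideal.comap (algebraMap B R) p)
local notation "Rp" => Localization.AtPrime p

open Groth.Agent.Lib.helper6.JacCore

theorem map_eq_zero_of_isSmoothAt [Algebra.EssFiniteType A B] [IsNoetherianRing B]
    (hsurj : Function.Surjective (algebraMap B R))
    (hX : Algebra.FormallySmooth A Bq) (hsm : Algebra.IsSmoothAt A p)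
    (h0 : ∀ f ∈ RingHom.ker (algebraMap B R), (1 : p.ResidueField) ⊗ₜ[B] D A B f = 0) :
    ∀ f ∈ RingHom.ker (algebraMap B R), algebraMap B Bq f = 0 := by
  letI := algLoc B R p
  haveI := isScalarTower_B B R p
  haveI := isScalarTower_A A B R p
  haveI := hX
  haveI : Algebra.EssFiniteType B Bq :=
    Algebra.EssFiniteType.of_isLocalization Bq (Ideal.comap (algebraMap B R) p).primeCompl
  haveI : Algebra.EssFiniteType A Bq := Algebra.EssFiniteType.comp A B Bq
  haveI : Module.Free Bq Ω[Bq⁄A] := Module.free_of_flat_of_isLocalRing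
  haveI : IsNoetherianRing Bq :=
    IsLocalization.isNoetherianRing (Ideal.comap (algebraMap B R) p).primeCompl Bq inferInstance
  have h₁ : Function.Surjective (algebraMap Bq Rp) := localRingHom_surjective B R p hsurj
  have h₂ : (RingHom.ker (algebraMap Bq Rp)).FG := IsNoetherian.noetherian _
  have hinj := (Algebra.FormallySmooth.iff_injective_cotangentComplexBaseChange_residueField
    (R := A) (S := Rp) Bq h₁ h₂).mp hsm
  have hzero : ∀ x, cotangentComplexBaseChange A Rp Bq p.ResidueField x = 0 := by
    intro x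
    induction x using TensorProduct.induction_on with
    | zero => rw [map_zero]
    | add x y hx hy => rw [map_add, hx, hy, add_zero]
    | tmul k y =>
      rw [cotangentComplexBaseChange_tmul, kerToTensor_apply]
      obtain ⟨b, t, hbt⟩ := IsLocalization.exists_mk'_eq
        (Ideal.comap (algebraMap B R) p).primeCompl (y : Bq)
      have hy0 : algebraMap Bq Rp (y : Bq) = 0 := RingHom.mem_ker.mp y.2
      have hy0' := hy0
      rw [← hbt] at hy0'
      have hy1 : Localization.localRingHom (Ideal.comap (algebraMap B R) p) p (algebraMap B R) rfl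
          (IsLocalization.mk' Bq b t) = 0 := hy0'
      rw [Localization.localRingHom_mk', IsLocalization.mk'_eq_zero_iff] at hy1
      obtain ⟨s, hs⟩ := hy1
      obtain ⟨s', hs'⟩ := hsurj s
      have hs'q : s' ∈ (Ideal.comap (algebraMap B R) p).primeCompl := by
        show s' ∉ Ideal.comap (algebraMap B R) p
        rw [Ideal.mem_comap, hs']
        exact s.2
      have hf : s' * b ∈ RingHom.ker (algebraMap B R) := by
        rw [RingHom.mem_ker, map_mul, hs', hs]
      have hu : IsUnit (algebraMap B Bq (s' * t)) :=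
        IsLocalization.map_units Bq
          ((⟨s', hs'q⟩ : (Ideal.comap (algebraMap B R) p).primeCompl) * t)
      have h2 : algebraMap B Bq (s' * t) * (y : Bq) = algebraMap B Bq (s' * b) := by
        rw [← hbt, map_mul, mul_assoc, mul_comm (algebraMap B Bq (t : B)),
          IsLocalization.mk'_spec, ← map_mul]
      have hD : (1 : p.ResidueField) ⊗ₜ[Bq] D A Bq (algebraMap B Bq (s' * b)) = 0 := by
        rw [← fibreEquiv_tmul_D A B R p (s' * b), h0 _ hf, map_zero]
      rw [← h2, Derivation.leibniz, TensorProduct.tmul_add, TensorProduct.tmul_smul,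
        TensorProduct.tmul_smul, TensorProduct.smul_tmul', TensorProduct.smul_tmul'] at hD
      have hyk : ((y : Bq) • (1 : p.ResidueField)) = 0 := by
        rw [Algebra.smul_def, mul_one, IsScalarTower.algebraMap_apply Bq Rp p.ResidueField, hy0,
          map_zero]
      rw [hyk, TensorProduct.zero_tmul, add_zero] at hD
      have hτ : (algebraMap B Bq (s' * t)) • (1 : p.ResidueField) ≠ 0 := by
        rw [Algebra.smul_def, mul_one]
        exact (hu.map (algebraMap Bq p.ResidueField)).ne_zero
      have h3 : (1 : p.ResidueField) ⊗ₜ[Bq] D A Bq (y : Bq) = 0 := by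
        have h4 : ((algebraMap B Bq (s' * t)) • (1 : p.ResidueField)) •
            ((1 : p.ResidueField) ⊗ₜ[Bq] D A Bq (y : Bq)) = 0 := by
          rw [TensorProduct.smul_tmul', smul_eq_mul, mul_one]
          exact hD
        exact (smul_eq_zero.mp h4).resolve_left hτ
      rw [h3, smul_zero]
  have hsub : Subsingleton (p.ResidueField ⊗[Bq] (RingHom.ker (algebraMap Bq Rp))) :=
    ⟨fun x y => hinj ((hzero x).trans (hzero y).symm)⟩
  haveI : Module.Finite Bq (RingHom.ker (algebraMap Bq Rp)) := Module.Finite.iff_fg.mpr h₂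
  have hK : IsLocalRing.maximalIdeal Bq ≤ RingHom.ker (algebraMap Bq p.ResidueField) := by
    intro c hc
    rw [RingHom.mem_ker, IsScalarTower.algebraMap_apply Bq Rp p.ResidueField]
    show IsLocalRing.residue Rp (algebraMap Bq Rp c) = 0
    rw [IsLocalRing.residue_eq_zero_iff, IsLocalRing.mem_maximalIdeal, mem_nonunits_iff]
    haveI : IsLocalHom (algebraMap Bq Rp) :=
      Localization.isLocalHom_localRingHom (Ideal.comap (algebraMap B R) p) p _ rfl
    exact fun hu => (IsLocalRing.mem_maximalIdeal _).mp hc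
      (isUnit_of_map_unit (algebraMap Bq Rp) c hu)
  have hsub2 : Subsingleton (RingHom.ker (algebraMap Bq Rp)) :=
    subsingleton_of_tensor_field Bq p.ResidueField _ hK hsub
  intro f hf
  have hmem : algebraMap B Bq f ∈ RingHom.ker (algebraMap Bq Rp) := by
    rw [RingHom.mem_ker, algebraMap_algLoc, RingHom.mem_ker.mp hf, map_zero]
  have h5 := Subsingleton.elim (⟨algebraMap B Bq f, hmem⟩ : RingHom.ker (algebraMap Bq Rp)) 0
  exact congrArg Subtype.val h5

theorem isSmoothAt_of_forall_map_eq_zero
    (hsurj : Function.Surjective (algebraMap B R))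
    (hX : Algebra.FormallySmooth A Bq)
    (hz : ∀ f ∈ RingHom.ker (algebraMap B R), algebraMap B Bq f = 0) :
    Algebra.IsSmoothAt A p := by
  letI := algLoc B R p
  haveI := isScalarTower_B B R p
  haveI := isScalarTower_A A B R p
  haveI := hX
  have h₁ : Function.Surjective (algebraMap Bq Rp) := localRingHom_surjective B R p hsurj
  have hinj : Function.Injective (algebraMap Bq Rp) := by
    rw [injective_iff_map_eq_zero]
    intro x hx
    obtain ⟨b, t, rfl⟩ := IsLocalization.exists_mk'_eq
      (Ideal.comap (algebraMap B R) p).primeCompl x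
    have hx1 : Localization.localRingHom (Ideal.comap (algebraMap B R) p) p (algebraMap B R) rfl
        (IsLocalization.mk' Bq b t) = 0 := hx
    rw [Localization.localRingHom_mk', IsLocalization.mk'_eq_zero_iff] at hx1
    obtain ⟨s, hs⟩ := hx1
    obtain ⟨s', hs'⟩ := hsurj s
    have hs'q : s' ∈ (Ideal.comap (algebraMap B R) p).primeCompl := by
      show s' ∉ Ideal.comap (algebraMap B R) p
      rw [Ideal.mem_comap, hs']
      exact s.2
    have hf : s' * b ∈ RingHom.ker (algebraMap B R) := by
      rw [RingHom.mem_ker, map_mul, hs', hs]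
    have h0 := hz _ hf
    rw [IsLocalization.mk'_eq_zero_iff]
    obtain ⟨m, hm⟩ := (IsLocalization.map_eq_zero_iff
      (Ideal.comap (algebraMap B R) p).primeCompl Bq (s' * b)).mp h0
    exact ⟨m * ⟨s', hs'q⟩, by rw [Submonoid.coe_mul, mul_assoc]; exact hm⟩
  let e : Bq ≃ₐ[A] Rp := AlgEquiv.ofBijective (IsScalarTower.toAlgHom A Bq Rp) ⟨hinj, h₁⟩
  exact Algebra.FormallySmooth.of_equiv e

end Z

theorem isDomain_atPrime_of_isSmoothAt (R B : Type u) [CommRing R] [IsDomain R]
    [IsIntegrallyClosed R] [CommRing B] [Algebra R B] [Algebra.FinitePresentation R B]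
    (P : Ideal B) [P.IsPrime] (h : Algebra.IsSmoothAt R P) :
    IsDomain (Localization.AtPrime P) := by
  haveI : Algebra.IsSmoothAt R P := h
  obtain ⟨g, hg, hsm⟩ := Algebra.IsSmoothAt.exists_notMem_smooth R P
  haveI := hsm
  have hdisj : Disjoint (Submonoid.powers g : Set B) (P : Set B) := by
    rw [Set.disjoint_left]
    rintro _ ⟨n, rfl⟩ hP
    exact hg (Ideal.IsPrime.mem_of_pow_mem inferInstance n hP)
  have hP' : (P.map (algebraMap B (Localization.Away g))).IsPrime :=
    IsLocalization.isPrime_of_isPrime_disjoint (Submonoid.powers g) (Localization.Away g) P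
      inferInstance hdisj
  have hP'c : (P.map (algebraMap B (Localization.Away g))).comap
      (algebraMap B (Localization.Away g)) = P :=
    IsLocalization.under_map_of_isPrime_disjoint (Submonoid.powers g) (Localization.Away g)
      inferInstance hdisj
  have hd : IsDomain (Localization.AtPrime ((P.map (algebraMap B (Localization.Away g))).comap
      (algebraMap R (Localization.Away g)))) := inferInstance
  have hic : IsIntegrallyClosed (Localization.AtPrime
      ((P.map (algebraMap B (Localization.Away g))).comap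
        (algebraMap R (Localization.Away g)))) :=
    isIntegrallyClosed_of_isLocalization _
      ((P.map (algebraMap B (Localization.Away g))).comap
        (algebraMap R (Localization.Away g))).primeCompl
      (Ideal.primeCompl_le_nonZeroDivisors _)
  obtain ⟨hdom, -⟩ :=
    Groth.Agent.Lib.Helper24.SmoothNormal.isDomain_isIntegrallyClosed_atPrime_of_smooth R
      (Localization.Away g) (P.map (algebraMap B (Localization.Away g))) hd hic
  haveI := hdom
  have i2 : IsLocalization.AtPrime
      (Localization.AtPrime (P.map (algebraMap B (Localization.Away g))))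
      ((P.map (algebraMap B (Localization.Away g))).comap
        (algebraMap B (Localization.Away g))) :=
    IsLocalization.isLocalization_isLocalization_atPrime_isLocalization (Submonoid.powers g)
      (Localization.AtPrime (P.map (algebraMap B (Localization.Away g))))
      (P.map (algebraMap B (Localization.Away g)))
  have hc2 : ((P.map (algebraMap B (Localization.Away g))).comap
      (algebraMap B (Localization.Away g))).primeCompl = P.primeCompl :=
    Submonoid.ext fun x => by
      rw [Ideal.mem_primeCompl_iff, Ideal.mem_primeCompl_iff, hP'c]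
  have i2' : IsLocalization.AtPrime
      (Localization.AtPrime (P.map (algebraMap B (Localization.Away g)))) P := by
    change IsLocalization P.primeCompl _
    rw [← hc2]
    exact i2
  let e : Localization.AtPrime P ≃+*
      Localization.AtPrime (P.map (algebraMap B (Localization.Away g))) :=
    (IsLocalization.algEquiv P.primeCompl (Localization.AtPrime P)
      (Localization.AtPrime (P.map (algebraMap B (Localization.Away g))))).toRingEquiv
  exact e.injective.isDomain e.toRingHom

section key

variable (R Λ A : Type u) [CommRing R] [IsDomain R] [IsIntegrallyClosed R] [IsNoetherianRing R]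
    [CommRing Λ] [IsDomain Λ] [IsLocalRing Λ] [Algebra R Λ]
    [CommRing A] [Algebra R A] [Algebra A Λ] [IsScalarTower R A Λ]

local notation "κΛ" => IsLocalRing.ResidueField Λ
local notation "KΛ" => FractionRing Λ
local notation "pA" => Ideal.comap (algebraMap A Λ) (IsLocalRing.maximalIdeal Λ)
local notation "qA" => RingHom.ker (algebraMap A Λ)

theorem key [hqp : (RingHom.ker (algebraMap A Λ)).IsPrime]
    (hq : Algebra.IsSmoothAt R (RingHom.ker (algebraMap A Λ)))
    [Module.Free Λ (Λ ⊗[A] Ω[A⁄R])] [Module.Finite Λ (Λ ⊗[A] Ω[A⁄R])] :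
    ∀ (m : ℕ) (B : Type u) [CommRing B] [Algebra R B] [Algebra B A] [IsScalarTower R B A]
      [Algebra B Λ] [IsScalarTower B A Λ] [Algebra.FiniteType R B],
      Function.Surjective (algebraMap B A) →
      Algebra.FormallySmooth R (Localization.AtPrime (Ideal.comap (algebraMap B A) pA)) →
      Module.finrank κΛ (κΛ ⊗[B] Ω[B⁄R]) = m →
      Algebra.IsSmoothAt R pA := by
  intro m
  induction m using Nat.strong_induction_on with
  | _ m ih =>
  intro B _ _ _ _ _ _ _ hsurj hX hm
  haveI : Algebra.EssFiniteType R B := inferInstance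
  haveI : Algebra.FinitePresentation R B :=
    Algebra.FinitePresentation.of_finiteType.mp inferInstance
  haveI : IsNoetherianRing B := Algebra.FiniteType.isNoetherianRing R B
  haveI : IsScalarTower R B Λ := IsScalarTower.of_algebraMap_eq (fun r => by
    rw [IsScalarTower.algebraMap_apply R A Λ, IsScalarTower.algebraMap_apply R B A,
      ← IsScalarTower.algebraMap_apply B A Λ])
  by_cases hcase : ∃ f ∈ RingHom.ker (algebraMap B A), (1 : κΛ) ⊗ₜ[B] D R B f ≠ 0
  · -- Case 1: cut down by `f`
    obtain ⟨f, hf, hne⟩ := hcase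
    have hle : Ideal.span {f} ≤ RingHom.ker (algebraMap B A) :=
      (Ideal.span_singleton_le_iff_mem _).mpr hf
    letI : Algebra (B ⧸ Ideal.span {f}) A :=
      (Ideal.Quotient.lift (Ideal.span {f}) (algebraMap B A)
        (fun a ha => RingHom.mem_ker.mp (hle ha))).toAlgebra
    haveI : IsScalarTower B (B ⧸ Ideal.span {f}) A :=
      IsScalarTower.of_algebraMap_eq (fun b => rfl)
    haveI : IsScalarTower R (B ⧸ Ideal.span {f}) A := IsScalarTower.of_algebraMap_eq (fun r => by
      rw [IsScalarTower.algebraMap_apply R B A,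
        IsScalarTower.algebraMap_apply R B (B ⧸ Ideal.span {f}),
        ← IsScalarTower.algebraMap_apply B (B ⧸ Ideal.span {f}) A])
    letI : Algebra (B ⧸ Ideal.span {f}) Λ :=
      ((algebraMap A Λ).comp (algebraMap (B ⧸ Ideal.span {f}) A)).toAlgebra
    haveI : IsScalarTower (B ⧸ Ideal.span {f}) A Λ :=
      IsScalarTower.of_algebraMap_eq (fun b => rfl)
    haveI : IsScalarTower B (B ⧸ Ideal.span {f}) Λ := IsScalarTower.of_algebraMap_eq (fun b => by
      rw [IsScalarTower.algebraMap_apply B A Λ,
        IsScalarTower.algebraMap_apply B (B ⧸ Ideal.span {f}) A,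
        ← IsScalarTower.algebraMap_apply (B ⧸ Ideal.span {f}) A Λ])
    haveI : Algebra.FiniteType R (B ⧸ Ideal.span {f}) :=
      Algebra.FiniteType.of_surjective (Ideal.Quotient.mkₐ R (Ideal.span {f}))
        (Ideal.Quotient.mkₐ_surjective R _)
    have hsurjBB' : Function.Surjective (algebraMap B (B ⧸ Ideal.span {f})) :=
      Ideal.Quotient.mk_surjective
    have hkerBB' : RingHom.ker (algebraMap B (B ⧸ Ideal.span {f})) = Ideal.span {f} :=
      Ideal.mk_ker
    have hsurj' : Function.Surjective (algebraMap (B ⧸ Ideal.span {f}) A) := by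
      intro a
      obtain ⟨b, rfl⟩ := hsurj a
      exact ⟨algebraMap B (B ⧸ Ideal.span {f}) b,
        (IsScalarTower.algebraMap_apply B (B ⧸ Ideal.span {f}) A b).symm⟩
    have hpeq : Ideal.comap (algebraMap B A) pA =
        Ideal.comap (algebraMap B (B ⧸ Ideal.span {f}))
          (Ideal.comap (algebraMap (B ⧸ Ideal.span {f}) A) pA) := by
      rw [Ideal.comap_comap (algebraMap B (B ⧸ Ideal.span {f}))
        (algebraMap (B ⧸ Ideal.span {f}) A), ← IsScalarTower.algebraMap_eq B (B ⧸ Ideal.span {f}) A]
    have hX2 : Algebra.FormallySmooth R (Localization.AtPrime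
        (Ideal.comap (algebraMap B (B ⧸ Ideal.span {f}))
          (Ideal.comap (algebraMap (B ⧸ Ideal.span {f}) A) pA))) :=
      formallySmooth_of_eq R B hpeq hX
    have hkerκ : RingHom.ker (algebraMap (B ⧸ Ideal.span {f}) κΛ) =
        Ideal.comap (algebraMap (B ⧸ Ideal.span {f}) A) pA := by
      ext x
      rw [RingHom.mem_ker, Ideal.mem_comap, Ideal.mem_comap,
        IsScalarTower.algebraMap_apply (B ⧸ Ideal.span {f}) Λ κΛ,
        IsLocalRing.ResidueField.algebraMap_eq, IsLocalRing.residue_eq_zero_iff,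
        IsScalarTower.algebraMap_apply (B ⧸ Ideal.span {f}) A Λ]
    have hne' : (1 : (Ideal.comap (algebraMap (B ⧸ Ideal.span {f}) A) pA).ResidueField) ⊗ₜ[B]
        D R B f ≠ 0 := fun h0 =>
      hne ((tmul_eq_zero_iff (B ⧸ Ideal.span {f}) B κΛ Ω[B⁄R]
        (Ideal.comap (algebraMap (B ⧸ Ideal.span {f}) A) pA) hkerκ (D R B f)).mpr h0)
    have hX' : Algebra.IsSmoothAt R (Ideal.comap (algebraMap (B ⧸ Ideal.span {f}) A) pA) :=
      (Groth.Agent.Lib.helper6.JacCore.isSmoothAt_iff R B (B ⧸ Ideal.span {f}) f
        (Ideal.comap (algebraMap (B ⧸ Ideal.span {f}) A) pA) hsurjBB' hkerBB' hX2).mpr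
        (Or.inr hne')
    have hlt := (Groth.Agent.S19586.finrank_fibre R B (B ⧸ Ideal.span {f}) f κΛ
      hsurjBB' hkerBB').2 hne
    rw [hm] at hlt
    exact ih _ hlt (B ⧸ Ideal.span {f}) hsurj' hX' rfl
  · -- Case 2: `B_p → A_p` is an isomorphism
    push Not at hcase
    have e1 := finrank_eq_of_forall_zero R B A κΛ hsurj hcase
    have e2 : Module.finrank κΛ (κΛ ⊗[A] Ω[A⁄R]) = Module.finrank Λ (Λ ⊗[A] Ω[A⁄R]) :=
      ((AlgebraTensorModule.cancelBaseChange A Λ κΛ κΛ Ω[A⁄R]).finrank_eq).symm.trans
        Module.finrank_baseChange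
    have e3 : Module.finrank KΛ (KΛ ⊗[A] Ω[A⁄R]) = Module.finrank Λ (Λ ⊗[A] Ω[A⁄R]) :=
      ((AlgebraTensorModule.cancelBaseChange A Λ KΛ KΛ Ω[A⁄R]).finrank_eq).symm.trans
        Module.finrank_baseChange
    have e4 := finrank_fractionRing_le Λ B Ω[B⁄R]
    have hle : Module.finrank KΛ (KΛ ⊗[B] Ω[B⁄R]) ≤ Module.finrank KΛ (KΛ ⊗[A] Ω[A⁄R]) := by
      omega
    have h0K := forall_zero_of_finrank_le R B A KΛ hsurj hle
    have hkerK : RingHom.ker (algebraMap A KΛ) = qA := by
      ext x
      rw [RingHom.mem_ker, RingHom.mem_ker, IsScalarTower.algebraMap_apply A Λ KΛ]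
      exact map_eq_zero_iff _ (IsFractionRing.injective Λ KΛ)
    have h0q : ∀ f ∈ RingHom.ker (algebraMap B A),
        (1 : (qA).ResidueField) ⊗ₜ[B] D R B f = 0 := fun f hf =>
      (tmul_eq_zero_iff A B KΛ Ω[B⁄R] qA hkerK (D R B f)).mp (h0K f hf)
    have hqp' : qA ≤ pA := fun x hx => by
      rw [Ideal.mem_comap, RingHom.mem_ker.mp hx]
      exact Ideal.zero_mem _
    have hqpB : Ideal.comap (algebraMap B A) qA ≤ Ideal.comap (algebraMap B A) pA :=
      Ideal.comap_mono hqp'
    haveI : Algebra.IsSmoothAt R (Ideal.comap (algebraMap B A) pA) := hX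
    obtain ⟨g, hg, hsm⟩ :=
      Algebra.IsSmoothAt.exists_notMem_smooth R (Ideal.comap (algebraMap B A) pA)
    have hsub := Algebra.basicOpen_subset_smoothLocus_iff_smooth.mpr hsm
    have hXq : Algebra.FormallySmooth R
        (Localization.AtPrime (Ideal.comap (algebraMap B A) qA)) := by
      have hmem : (⟨Ideal.comap (algebraMap B A) qA, inferInstance⟩ : PrimeSpectrum B) ∈
          (PrimeSpectrum.basicOpen g : Set (PrimeSpectrum B)) := by
        rw [SetLike.mem_coe, PrimeSpectrum.mem_basicOpen]
        exact fun h => hg (hqpB h)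
      exact hsub hmem
    have hzq := map_eq_zero_of_isSmoothAt R B A qA hsurj hXq hq h0q
    have hdom : IsDomain (Localization.AtPrime (Ideal.comap (algebraMap B A) pA)) :=
      isDomain_atPrime_of_isSmoothAt R B _ hX
    have hz : ∀ f ∈ RingHom.ker (algebraMap B A),
        algebraMap B (Localization.AtPrime (Ideal.comap (algebraMap B A) pA)) f = 0 := by
      intro f hf
      obtain ⟨s, hs⟩ := (IsLocalization.map_eq_zero_iff
        (Ideal.comap (algebraMap B A) qA).primeCompl _ f).mp (hzq f hf)
      have h1 : algebraMap B (Localization.AtPrime (Ideal.comap (algebraMap B A) pA)) (s : B) *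
          algebraMap B (Localization.AtPrime (Ideal.comap (algebraMap B A) pA)) f = 0 := by
        rw [← map_mul, hs, map_zero]
      rcases mul_eq_zero.mp h1 with h2 | h2
      · exfalso
        obtain ⟨t, ht⟩ := (IsLocalization.map_eq_zero_iff
          (Ideal.comap (algebraMap B A) pA).primeCompl _ (s : B)).mp h2
        have h3 : (t : B) * (s : B) ∈ Ideal.comap (algebraMap B A) qA := by
          rw [ht]
          exact Ideal.zero_mem _
        rcases Ideal.IsPrime.mem_or_mem inferInstance h3 with h4 | h4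
        · exact t.2 (hqpB h4)
        · exact s.2 h4
      · exact h2
    exact isSmoothAt_of_forall_map_eq_zero R B A pA hsurj hX hz

end key

end aux

open TensorProduct KaehlerDifferential


open TensorProduct in
/-- Let R ⊆ Λ be an extension of discrete valuation rings of ramification index 1 (m_R Λ = m_Λ), A a
flat R-algebra of finite type with an R-algebra map A → Λ, 𝔮 its kernel and 𝔭 the inverse image of
the maximal ideal of Λ. Assume R → A is smooth at 𝔮. Provided the Λ-module Ω_{A/R} ⊗_A Λ is free,
the map R → A is also smooth at the prime 𝔭. (The published statement phrases the freeness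
hypothesis through a surjection B → A from an R-algebra smooth at the point, with kernel I, as
freeness of the cokernel of I/I² ⊗_A Λ → Ω_{B/R} ⊗_B Λ; that cokernel is Ω_{A/R} ⊗_A Λ, which is how
its proof begins, so the two forms are equivalent.) -/
theorem result {R Λ A : Type u} [CommRing R] [IsDomain R]
    [IsDiscreteValuationRing R] [CommRing Λ] [IsDomain Λ] [IsDiscreteValuationRing Λ] [Algebra R Λ]
    [NoZeroSMulDivisors R Λ] (he : (IsLocalRing.maximalIdeal R).map (algebraMap R Λ) = IsLocalRing.maximalIdeal Λ)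
    [CommRing A] [Algebra R A] [Module.Flat R A] [Algebra.FiniteType R A] [Algebra A Λ] [IsScalarTower R A Λ]
    [(RingHom.ker (algebraMap A Λ)).IsPrime]
    (hq : Algebra.IsSmoothAt R (RingHom.ker (algebraMap A Λ)))
    (hfree : Module.Free Λ (Λ ⊗[A] Ω[A⁄R])) :
    Algebra.IsSmoothAt R ((IsLocalRing.maximalIdeal Λ).comap (algebraMap A Λ)) := by
  haveI : Module.Finite A Ω[A⁄R] := inferInstance
  haveI : Module.Finite Λ (Λ ⊗[A] Ω[A⁄R]) := inferInstance
  haveI := hfree
  obtain ⟨n, φ, hφ⟩ := Algebra.FiniteType.iff_quotient_mvPolynomial''.mp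
    (inferInstance : Algebra.FiniteType R A)
  letI : Algebra (MvPolynomial (Fin n) R) A := φ.toRingHom.toAlgebra
  haveI : IsScalarTower R (MvPolynomial (Fin n) R) A :=
    IsScalarTower.of_algebraMap_eq' φ.comp_algebraMap.symm
  letI : Algebra (MvPolynomial (Fin n) R) Λ :=
    ((algebraMap A Λ).comp (algebraMap (MvPolynomial (Fin n) R) A)).toAlgebra
  haveI : IsScalarTower (MvPolynomial (Fin n) R) A Λ :=
    IsScalarTower.of_algebraMap_eq (fun b => rfl)
  have hX : Algebra.FormallySmooth R (Localization.AtPrime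
      (Ideal.comap (algebraMap (MvPolynomial (Fin n) R) A)
        (Ideal.comap (algebraMap A Λ) (IsLocalRing.maximalIdeal Λ)))) := by
    haveI : Algebra.FormallyEtale (MvPolynomial (Fin n) R) (Localization.AtPrime
        (Ideal.comap (algebraMap (MvPolynomial (Fin n) R) A)
          (Ideal.comap (algebraMap A Λ) (IsLocalRing.maximalIdeal Λ)))) :=
      Algebra.FormallyEtale.of_isLocalization
        (Ideal.comap (algebraMap (MvPolynomial (Fin n) R) A)
          (Ideal.comap (algebraMap A Λ) (IsLocalRing.maximalIdeal Λ))).primeCompl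
    exact Algebra.FormallySmooth.comp R (MvPolynomial (Fin n) R) _
  exact key R Λ A hq _ (MvPolynomial (Fin n) R) hφ hX rfl


end Groth.Agent.S6841
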