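import Groth.Statements.S6849
import Groth.Agent.Lib.Helper11.LocStalkFree2
import Groth.Agent.Lib.Helper11.LocStalkBasis
import Groth.Agent.Lib.Helper13.StalkCmp

set_option autoImplicit false
universe u
open CategoryTheory CategoryTheory.Limits TopologicalSpace
open ModSite

namespace Groth.Agent.S6849

/-- Let (X, O) be a ringed space all of whose stalks O_{X,x} are local rings, H a finite locally free
O-module (every point has an open neighbourhood U with H|_U ≅ O_U^n, the free O_U-module on n
generators, for some n) and F a direct summand of H (maps F → H → F composing to the identity). Then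
F is finite locally free. -/
theorem result {X : TopCat.{u}}
    (O : TopCat.Sheaf CommRingCat.{u} X) (hO : ∀ x : X, IsLocalRing (O.presheaf.stalk x)) {F H : ModSite.Mod O}
    (hH : ∀ x : X, ∃ (U : Opens X) (n : ℕ), x ∈ U ∧
      Nonempty ((ModSite.restr O U).obj H ≅ SheafOfModules.free (ULift.{u} (Fin n))))
    (i : F ⟶ H) (p : H ⟶ F) (hip : i ≫ p = 𝟙 F) (x : X) :
    ∃ (U : Opens X) (n : ℕ), x ∈ U ∧
      Nonempty ((ModSite.restr O U).obj F ≅ SheafOfModules.free (ULift.{u} (Fin n))) := by
  classical
  open Groth.Agent.Lib.helper11.LocFree Groth.Agent.Lib.helper11.LocStalkFree2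
    Groth.Agent.Lib.helper11.LocStalkBasis Groth.Agent.Lib.helper11.LocGerm
    Groth.Agent.Lib.helper13.StalkCmp in
  obtain ⟨U, n, hxU, ⟨e⟩⟩ := hH x
  obtain ⟨h, hh⟩ := exists_locBasis_of_iso (R := ModSite.ringSh O) H U e
  -- local presentation of `F` near `x`
  have hpres := exists_locPres_of_retract (R := ModSite.ringSh O) i p hip h hh x hxU
  -- the stalk of `H` is free
  obtain ⟨ΛH⟩ := nonempty_stalk_equiv_of_locBasis H hxU h hh
  -- the stalk ring is local
  haveI : IsLocalRing (TopCat.Presheaf.stalk O.obj x : CommRingCat.{u}) := hO x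
  haveI hloc : IsLocalRing (ModSite.stalkRing (Opens.pointGrothendieckTopology x) O) :=
    (RingEquiv.ofBijective (ρ O x) (cmp_bijective O.obj x)).isLocalRing
  haveI : Module.Free (ModSite.stalkRing (Opens.pointGrothendieckTopology x) O)
      (ModSite.stalkMod (Opens.pointGrothendieckTopology x) H) := Module.Free.of_equiv ΛH.symm
  haveI : Module.Finite (ModSite.stalkRing (Opens.pointGrothendieckTopology x) O)
      (ModSite.stalkMod (Opens.pointGrothendieckTopology x) H) := Module.Finite.equiv ΛH.symm
  -- the stalk of `F` is a direct summand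
  let ix := (ModSite.stalkMap (Opens.pointGrothendieckTopology x) i).hom
  let px := (ModSite.stalkMap (Opens.pointGrothendieckTopology x) p).hom
  have hnat : ∀ {A B : ModSite.Mod O} (φ : A ⟶ B) (V : Opens X) (hxV : x ∈ V)
      (s : A.val.obj (Opposite.op V)),
      (ModSite.stalkMap (Opens.pointGrothendieckTopology x) φ).hom (gM x A hxV s) =
        gM x B hxV ((φ.val.app (Opposite.op V)).hom s) := fun {A B} φ V hxV s =>
    (Opens.pointGrothendieckTopology x).toPresheafFiber_naturality_apply
      ((SheafOfModules.toSheaf (ModSite.ringSh O)).map φ).hom V ⟨⟨hxV⟩⟩ s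
  have hpx : px.comp ix = LinearMap.id := by
    ext γ
    obtain ⟨W, -, hxW, s, rfl⟩ := exists_gM_eq (F := F) γ ⊤ trivial
    change px (ix (gM x F hxW s)) = gM x F hxW s
    rw [hnat i W hxW s, hnat p W hxW]
    exact congrArg (gM x F hxW)
      (congrArg (fun ψ : F ⟶ F => (ψ.val.app (Opposite.op W)).hom s) hip)
  haveI : Module.Projective (ModSite.stalkRing (Opens.pointGrothendieckTopology x) O)
      (ModSite.stalkMod (Opens.pointGrothendieckTopology x) F) :=
    Module.Projective.of_split ix px hpx
  haveI : Module.Finite (ModSite.stalkRing (Opens.pointGrothendieckTopology x) O)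
      (ModSite.stalkMod (Opens.pointGrothendieckTopology x) F) :=
    Module.Finite.of_surjective px (fun γ => ⟨ix γ, LinearMap.congr_fun hpx γ⟩)
  haveI : Module.Free (ModSite.stalkRing (Opens.pointGrothendieckTopology x) O)
      (ModSite.stalkMod (Opens.pointGrothendieckTopology x) F) :=
    Module.free_of_flat_of_isLocalRing
  let r := Module.finrank (ModSite.stalkRing (Opens.pointGrothendieckTopology x) O)
      (ModSite.stalkMod (Opens.pointGrothendieckTopology x) F)
  let Λ₀ : ModSite.stalkMod (Opens.pointGrothendieckTopology x) F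
      ≃ₗ[ModSite.stalkRing (Opens.pointGrothendieckTopology x) O]
        (Fin r → ModSite.stalkRing (Opens.pointGrothendieckTopology x) O) :=
    (Module.finBasis _ _).equivFun
  let Λ : ModSite.stalkMod (Opens.pointGrothendieckTopology x) F
      ≃ₗ[ModSite.stalkRing (Opens.pointGrothendieckTopology x) O]
        (ULift.{u} (Fin r) → ModSite.stalkRing (Opens.pointGrothendieckTopology x) O) :=
    Λ₀.trans (LinearEquiv.funCongrLeft _ _ Equiv.ulift)
  obtain ⟨W, hxW, b, hb⟩ := exists_locBasis_of_stalk_free_of_locPres F x hpres Λ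
  exact ⟨W, r, hxW, nonempty_iso_free_of_locBasis (R := ModSite.ringSh O) F W b hb⟩

end Groth.Agent.S6849
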