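import Groth.Statements.S6856
import Mathlib
import Groth.Agent.Lib.Helper21.TensorMon
-- import your own Groth.Agent.* helpers here

set_option autoImplicit false
universe u
open CategoryTheory CategoryTheory.Limits TopologicalSpace
open ModSite

namespace Groth.Agent.S6856

open Groth.Agent.Lib.Helper21.TensorW Groth.Agent.Lib.Helper21.TensorAdj
  Groth.Agent.Lib.Helper21.TensorMon

/-- On a ringed space (X, O), (1) if L and N are invertible O-modules (tensoring with each is an
equivalence of Mod(O)) then L ⊗_O N is invertible; (2) if L is invertible then Hom_O(L, O) is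
invertible and the evaluation map Hom_O(L, O) ⊗_O L → O, the counit of the adjunction between − ⊗ L
and Hom_O(L, −) at O, is an isomorphism. -/
theorem result {X : TopCat.{u}} (O : TopCat.Sheaf CommRingCat.{u} X)
    (L N : ModSite.Mod O) (hL : ((ModSite.tensorBi O).obj L).IsEquivalence) [ModSite.HasSheafHom L] :
    (((ModSite.tensorBi O).obj N).IsEquivalence →
        ((ModSite.tensorBi O).obj (((ModSite.tensorBi O).obj L).obj N)).IsEquivalence) ∧
      ((ModSite.tensorBi O).obj ((ModSite.sheafHom L).obj (ModSite.unit O))).IsEquivalence ∧
      IsIso ((ModSite.sheafHomAdj L).counit.app (ModSite.unit O)) := by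
  have hLe : (tensL O L).IsEquivalence := hL
  have hL' : (tens O L).IsEquivalence := Functor.isEquivalence_of_iso (braidIso O L)
  have hR : (ModSite.sheafHom L).IsEquivalence :=
    (ModSite.sheafHomAdj L).isEquivalence_right_of_isEquivalence_left
  have hc : IsIso (ModSite.sheafHomAdj L).counit := inferInstance
  have h3 : IsIso ((ModSite.sheafHomAdj L).counit.app (ModSite.unit O)) := inferInstance
  refine ⟨fun hN => ?_, ?_, h3⟩
  · have hNe : (tensL O N).IsEquivalence := hN
    have : (tensL O N ⋙ tensL O L).IsEquivalence := inferInstance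
    exact Functor.isEquivalence_of_iso (assocIso O L N).symm
  · let L' := (ModSite.sheafHom L).obj (ModSite.unit O)
    let e : (tensL O L').obj L ≅ ModSite.unit O :=
      @asIso _ _ _ _ ((ModSite.sheafHomAdj L).counit.app (ModSite.unit O)) h3
    let i : tensL O L ⋙ tensL O L' ≅ 𝟭 (ModSite.Mod O) :=
      (assocIso O L' L).symm ≪≫ (ModSite.tensorBi O).mapIso e ≪≫ unitIso O
    have : (tensL O L ⋙ tensL O L').IsEquivalence := Functor.isEquivalence_of_iso i.symm
    exact Functor.isEquivalence_of_comp_left (tensL O L) (tensL O L')

end Groth.Agent.S6856
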