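import Groth.Statements.S6857
import Mathlib
import Groth.Agent.Lib.Helper21.ClosedPush
import Groth.Agent.Lib.Helper16.PushColim2
-- import your own Groth.Agent.* helpers here

set_option autoImplicit false
universe u
open CategoryTheory CategoryTheory.Limits TopologicalSpace
open CohTop

namespace Groth.Agent.S6857

/-- Let i : Z → X be the inclusion of a closed subset of a topological space (a closed embedding). Then
i_* : Ab(Z) → Ab(X) is exact (right exactness being the content, i_* is a right adjoint) and fully
faithful, an abelian sheaf on X lies in its essential image exactly when its stalks at points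
outside i(Z) are zero (support contained in Z), and i⁻¹ ∘ i_* is isomorphic to the identity functor
(existence of an isomorphism of functors is asserted). -/
theorem result {Z X : TopCat.{u}} (i : Z ⟶ X)
    (hi : Topology.IsClosedEmbedding i) :
    PreservesFiniteColimits (CohTop.push i) ∧ (CohTop.push i).Full ∧ (CohTop.push i).Faithful ∧
      (∀ F : CohTop.Ab X, (CohTop.push i).essImage F ↔ ∀ x : X, x ∉ Set.range i → IsZero (CohTop.stalk F x)) ∧
      Nonempty (CohTop.push i ⋙ CohTop.pull i ≅ 𝟭 (CohTop.Ab Z)) := by
  haveI hfull : (CohTop.push i).Full :=
    Groth.Agent.Lib.helper21.ClosedPush.push_full i hi.isInducing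
  haveI hfaith : (CohTop.push i).Faithful :=
    Groth.Agent.Lib.helper21.ClosedPush.push_faithful i hi.isInducing
  refine ⟨?_, hfull, hfaith, ?_, ?_⟩
  · have h1 := Groth.Agent.Lib.helper16.PushColim.preservesColimits_pushforward_of_isClosedEmbedding i hi
    exact @PreservesColimitsOfSize.preservesFiniteColimits _ _ _ _ (CohTop.push i) h1
  · intro F
    constructor
    · rintro ⟨G, ⟨e⟩⟩ x hx
      have hz := Groth.Agent.Lib.helper16.PushColim.isZero_stalk_pushforward i hi.isClosed_range G x hx
      exact hz.of_iso ((Groth.Agent.Lib.helper16.PushColim.stalkSh x).mapIso e).symm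
    · intro h
      obtain ⟨G', ⟨e⟩⟩ := Groth.Agent.Lib.helper21.ClosedPush.exists_push_iso i hi F (by
        intro V hV
        have : Subsingleton (F.obj.obj (Opposite.op V)) := by
          refine subsingleton_of_forall_eq 0 fun s => ?_
          apply TopCat.Presheaf.section_ext F V
          intro x hx
          have hxr : x ∉ Set.range i := by
            rintro ⟨z, rfl⟩
            have hz : z ∈ (Opens.map i).obj V := hx
            rw [hV] at hz
            exact hz
          haveI : Subsingleton (CohTop.stalk F x) :=
            AddCommGrpCat.subsingleton_of_isZero (h x hxr)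
          exact Subsingleton.elim _ _
        exact AddCommGrpCat.isZero_of_subsingleton _)
      exact ⟨G', ⟨e⟩⟩
  · have h1 : IsIso (TopCat.Sheaf.pullbackPushforwardAdjunction AddCommGrpCat.{u} i).counit :=
      @Adjunction.counit_isIso_of_R_fully_faithful _ _ _ _ _ _
        (TopCat.Sheaf.pullbackPushforwardAdjunction AddCommGrpCat.{u} i) hfull hfaith
    exact ⟨@asIso _ _ _ _ (TopCat.Sheaf.pullbackPushforwardAdjunction AddCommGrpCat.{u} i).counit h1⟩

end Groth.Agent.S6857
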