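import Groth.Statements.S6858
import Groth.Agent.Lib.Helper11.LocRank

set_option autoImplicit false
universe u
open CategoryTheory CategoryTheory.Limits TopologicalSpace
open ModSite

namespace Groth.Agent.S6858

/-- Let (X, O) be a ringed space all of whose stalks O_{X,x} are nonzero rings and F a locally free
O-module. Then there is a locally constant function rank_F : X → ℕ ∪ {∞} such that for every point
x, every open neighbourhood U of x and every index set I with F|_U ≅ ⊕_{i ∈ I} O_U, the cardinality
of I (a natural number or ∞) is rank_F(x). -/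
theorem result {X : TopCat.{u}} (O : TopCat.Sheaf CommRingCat.{u} X)
    (hO : ∀ x : X, Nontrivial (O.presheaf.stalk x)) (F : ModSite.Mod O)
    [SheafOfModules.IsLocallyFree (R := ModSite.ringSh O) F] :
    ∃ rk : X → ℕ∞, IsLocallyConstant rk ∧
      ∀ (x : X) (U : Opens X) (I : Type u), x ∈ U →
        Nonempty ((ModSite.restr O U).obj F ≅ SheafOfModules.free I) → ENat.card I = rk x := by
  classical
  open Groth.Agent.Lib.helper11.LocRank in
  obtain ⟨q, hq⟩ := SheafOfModules.IsLocallyFree.exists_isLocallyFreeData (M := F)
  have hcov := (Opens.coversTop_iff _ _).mp q.coversTop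
  have hx : ∀ x : X, ∃ i, x ∈ q.X i := fun x => by
    have hx : x ∈ (⨆ i, q.X i) := hcov ▸ Opens.mem_top x
    exact Opens.mem_iSup.mp hx
  choose ix hix using hx
  let E : ∀ i, F.over (q.X i) ≅ SheafOfModules.free (q.generators i).I :=
    fun i => (asIso (q.generators i).π).symm
  have hcomm : ∀ (U : Opens X) (a b : (ModSite.ringSh O).obj.obj (Opposite.op U)), a * b = b * a :=
    fun U a b => by
      let a' : O.obj.obj (Opposite.op U) := a
      let b' : O.obj.obj (Opposite.op U) := b
      exact mul_comm a' b'
  have hnt : ∀ (x : X) (W : Opens X), x ∈ W →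
      Nontrivial ((ModSite.ringSh O).obj.obj (Opposite.op W)) := fun x W hxW => by
    haveI := hO x
    exact RingHom.domain_nontrivial (O.presheaf.germ W x hxW).hom
  refine ⟨fun x => ENat.card (q.generators (ix x)).I, ?_, ?_⟩
  · rw [IsLocallyConstant.iff_exists_open]
    intro x
    refine ⟨q.X (ix x), (q.X (ix x)).2, hix x, fun y hy => ?_⟩
    exact enatCard_eq_of_iso_free (R := ModSite.ringSh O) hcomm F _ _ (E (ix y)) (E (ix x)) y
      (hix y) hy (hnt y)
  · rintro x U I hxU ⟨e⟩
    exact enatCard_eq_of_iso_free (R := ModSite.ringSh O) hcomm F U _ e (E (ix x)) x hxU (hix x)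
      (hnt x)

end Groth.Agent.S6858
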