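import Groth.Statements.S6863
import Mathlib

set_option autoImplicit false
universe u
open TensorProduct
open CAlg

namespace Groth.Agent.S6863

section helpers
variable {R : Type u} [CommRing R] (I : Ideal R)

/-- reduction of a vector mod I -/
def red {ι : Type u} : (ι → R) →ₗ[R] (ι → R ⧸ I) :=
  (Ideal.Quotient.mkₐ R I).toLinearMap.compLeft ι

lemma red_apply {ι : Type u} (x : ι → R) (j : ι) : red I x j = Ideal.Quotient.mk I (x j) := rfl

lemma red_surjective {ι : Type u} : Function.Surjective (red I (ι := ι)) := by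
  intro z
  choose x hx using fun j => Ideal.Quotient.mk_surjective (z j)
  exact ⟨x, funext hx⟩

lemma mem_smul_top_of_coord {ι : Type u} [Fintype ι] [DecidableEq ι] (x : ι → R)
    (hx : ∀ j, x j ∈ I) : x ∈ I • (⊤ : Submodule R (ι → R)) := by
  have : x = ∑ j, x j • (Pi.single j (1 : R) : ι → R) := by
    ext k
    simp [Finset.sum_apply, Pi.single_apply]
  rw [this]
  exact Submodule.sum_mem _ fun j _ => Submodule.smul_mem_smul (hx j) trivial

lemma coord_mem_of_mem_smul_top {ι : Type u} (x : ι → R)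
    (hx : x ∈ I • (⊤ : Submodule R (ι → R))) : ∀ j, x j ∈ I := by
  intro j
  refine Submodule.smul_induction_on (p := fun x => x j ∈ I) hx ?_ ?_
  · intro r hr n _
    exact I.mul_mem_right _ hr
  · intro x y hx hy
    exact I.add_mem hx hy

lemma red_eq_zero_iff {ι : Type u} [Fintype ι] [DecidableEq ι] (x : ι → R) :
    red I x = 0 ↔ x ∈ I • (⊤ : Submodule R (ι → R)) := by
  constructor
  · intro h
    apply mem_smul_top_of_coord
    intro j
    have := congrFun h j
    rwa [red_apply, Pi.zero_apply, Ideal.Quotient.eq_zero_iff_mem] at this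
  · intro h
    ext j
    rw [red_apply, Pi.zero_apply, Ideal.Quotient.eq_zero_iff_mem]
    exact coord_mem_of_mem_smul_top I x h j


theorem lift_ker (hI : I ≤ Ideal.jacobson (⊥ : Ideal R)) {ιF ιN : Type u} [Fintype ιF] [DecidableEq ιF]
    [Fintype ιN] [DecidableEq ιN]
    (π : (ιF → R ⧸ I) →ₗ[R ⧸ I] (ιN → R ⧸ I)) (hπ : Function.Surjective π) :
    ∃ (M : Type u) (_ : AddCommGroup M) (_ : Module R M), Module.Finite R M ∧
      Module.IsStablyFree R M ∧
      Nonempty ((R ⧸ I) ⊗[R] M ≃ₗ[R ⧸ I] LinearMap.ker π) := by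
  classical
  obtain ⟨Ā, hĀ⟩ : ∃ Ā, Ā = LinearMap.toMatrix' π := ⟨_, rfl⟩
  choose A hA using fun i j => Ideal.Quotient.mk_surjective (Ā i j)
  let Am : Matrix ιN ιF R := Matrix.of A
  let f : (ιF → R) →ₗ[R] (ιN → R) := Matrix.toLin' Am
  have hcomp : ∀ x, π (red I x) = red I (f x) := by
    intro x
    have h1 : π = Matrix.toLin' Ā := by rw [hĀ, Matrix.toLin'_toMatrix']
    rw [h1]
    ext i
    simp only [Matrix.toLin'_apply, Matrix.mulVec, dotProduct, red_apply, f, Am, Matrix.of_apply]
    rw [map_sum]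
    apply Finset.sum_congr rfl
    intro j _
    rw [map_mul, hA i j]
  have hfsurj : Function.Surjective f := by
    rw [← LinearMap.range_eq_top, eq_top_iff]
    apply Submodule.le_of_le_smul_of_le_jacobson_bot (I := I) Module.Finite.fg_top hI
    intro y _
    obtain ⟨z, hz⟩ := hπ (red I y)
    obtain ⟨x, rfl⟩ := red_surjective I z
    rw [hcomp] at hz
    have h1 : y - f x ∈ I • (⊤ : Submodule R (ιN → R)) := by
      rw [← red_eq_zero_iff, map_sub, hz, sub_self]
    have h2 : y = f x + (y - f x) := by abel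
    rw [h2]
    exact Submodule.add_mem_sup (LinearMap.mem_range_self f x) h1
  obtain ⟨s, hs⟩ := Module.projective_lifting_property f LinearMap.id hfsurj
  have hs' : ∀ y, f (s y) = y := fun y => LinearMap.congr_fun hs y
  let M : Submodule R (ιF → R) := LinearMap.ker f
  let p : (ιF → R) →ₗ[R] M := LinearMap.codRestrict M (LinearMap.id - s ∘ₗ f) (by
    intro x
    simp [M, hs'])
  have hpval : ∀ x, (p x : ιF → R) = x - s (f x) := fun x => rfl
  have hp : ∀ x : M, p x = x := by
    intro x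
    ext1
    rw [hpval, LinearMap.mem_ker.mp x.2, map_zero, sub_zero]
  let g : (M × (ιN → R)) →ₗ[R] (ιF → R) := M.subtype.coprod s
  have hgval : ∀ (k : M) (y : ιN → R), g (k, y) = (k : ιF → R) + s y := by
    intro k y
    simp [g, LinearMap.coprod_apply]
  have hginj : Function.Injective g := by
    rw [injective_iff_map_eq_zero]
    rintro ⟨k, y⟩ h
    rw [hgval] at h
    have hk : f (k : ιF → R) = 0 := LinearMap.mem_ker.mp k.2
    have h2 := congrArg f h
    rw [map_add, hk, hs', zero_add, map_zero] at h2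
    rw [h2, map_zero, add_zero] at h
    have hk0 : k = 0 := Subtype.ext h
    rw [hk0, h2]
    rfl
  have hgsurj : Function.Surjective g := by
    intro x
    refine ⟨(p x, f x), ?_⟩
    rw [hgval, hpval]
    abel
  let e : (M × (ιN → R)) ≃ₗ[R] (ιF → R) := LinearEquiv.ofBijective g ⟨hginj, hgsurj⟩
  have hfree : Module.Free R (M × (ιN → R)) := Module.Free.of_equiv e.symm
  have hfin : Module.Finite R M := Module.Finite.of_surjective p (fun x => ⟨x, hp x⟩)
  have hsf : Module.IsStablyFree R M := Module.IsStablyFree.of_free_prod R M (ιN → R)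
  refine ⟨M, inferInstance, inferInstance, hfin, hsf, ?_⟩
  -- the map to ker π
  let K : Submodule R (ιF → R ⧸ I) := (LinearMap.ker π).restrictScalars R
  let ψ : M →ₗ[R] K := LinearMap.codRestrict K (red I ∘ₗ M.subtype) (by
    intro x
    change π (red I (x : ιF → R)) = 0
    rw [hcomp, LinearMap.mem_ker.mp x.2, map_zero])
  have hψval : ∀ x : M, ((ψ x : K) : ιF → R ⧸ I) = red I (x : ιF → R) := fun x => rfl
  have hψsurj : Function.Surjective ψ := by
    rintro ⟨z, hz⟩
    have hz' : π z = 0 := hz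
    obtain ⟨x, rfl⟩ := red_surjective I z
    rw [hcomp] at hz'
    have h1 : f x ∈ I • (⊤ : Submodule R (ιN → R)) := (red_eq_zero_iff I _).mp hz'
    have h2 : I • (⊤ : Submodule R (ιN → R)) = Submodule.map f (I • (⊤ : Submodule R (ιF → R))) := by
      rw [Submodule.map_smul'', Submodule.map_top, LinearMap.range_eq_top.mpr hfsurj]
    rw [h2] at h1
    obtain ⟨y, hy, hfy⟩ := h1
    refine ⟨⟨x - y, by
      change f (x - y) = 0
      rw [map_sub, hfy, sub_self]⟩, ?_⟩
    apply Subtype.ext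
    rw [hψval]
    change red I (x - y) = red I x
    rw [map_sub, (red_eq_zero_iff I y).mpr hy, sub_zero]
  have hker : LinearMap.ker ψ = I • (⊤ : Submodule R M) := by
    apply le_antisymm
    · intro x hx
      have h0 : red I (x : ιF → R) = 0 := by
        have := congrArg (Subtype.val) (LinearMap.mem_ker.mp hx)
        rw [hψval] at this
        exact this
      have h1 : (x : ιF → R) ∈ I • (⊤ : Submodule R (ιF → R)) := (red_eq_zero_iff I _).mp h0
      have h2 : p (x : ιF → R) ∈ Submodule.map p (I • (⊤ : Submodule R (ιF → R))) :=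
        Submodule.mem_map_of_mem h1
      rw [Submodule.map_smul'', hp] at h2
      exact Submodule.smul_mono le_rfl le_top h2
    · rw [Submodule.smul_le]
      intro r hr x _
      rw [LinearMap.mem_ker, map_smul]
      apply Subtype.ext
      change r • ((ψ x : K) : ιF → R ⧸ I) = 0
      ext j
      rw [Pi.smul_apply, Pi.zero_apply, Algebra.smul_def, Ideal.Quotient.algebraMap_eq,
        Ideal.Quotient.eq_zero_iff_mem.mpr hr, zero_mul]
  let E1 := TensorProduct.quotTensorEquivQuotSMul M I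
  let E2 : (M ⧸ (I • ⊤ : Submodule R M)) ≃ₗ[R] (M ⧸ LinearMap.ker ψ) :=
    Submodule.quotEquivOfEq _ _ hker.symm
  let E3 := ψ.quotKerEquivOfSurjective hψsurj
  let E123 : (R ⧸ I) ⊗[R] M ≃ₗ[R] K := E1 ≪≫ₗ E2 ≪≫ₗ E3
  let E4 : K ≃ₗ[R ⧸ I] LinearMap.ker π := Submodule.restrictScalarsEquiv R (R ⧸ I) _ (LinearMap.ker π)
  exact ⟨(E123.extendScalarsOfSurjective Ideal.Quotient.mk_surjective) ≪≫ₗ E4⟩



end helpers

/-- Let `I` be an ideal of a commutative ring `R` contained in the Jacobson radical (equivalently, `1 +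
i` is a unit for each `i ∈ I`). Then each finitely generated stably free module `E` over `R/I`
lifts: there is a finite stably free `R`-module `M` with `M/IM ≅ E` (existence of an isomorphism
only; the published statement names no map). -/
theorem result {R : Type u} [CommRing R] (I : Ideal R)
    (hI : I ≤ Ideal.jacobson (⊥ : Ideal R)) (E : Type u) [AddCommGroup E] [Module (R ⧸ I) E]
    [Module.Finite (R ⧸ I) E] [Module.IsStablyFree (R ⧸ I) E] :
    ∃ (M : Type u) (_ : AddCommGroup M) (_ : Module R M), Module.Finite R M ∧ Module.IsStablyFree R M ∧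
      Nonempty ((R ⧸ I) ⊗[R] M ≃ₗ[R ⧸ I] E) := by
  classical
  obtain ⟨N, _, _, hNfin, hNfree, hfree⟩ := Module.IsStablyFree.exist_free_prod (R ⧸ I) E
  let ιN := Module.Free.ChooseBasisIndex (R ⧸ I) N
  let ιF := Module.Free.ChooseBasisIndex (R ⧸ I) (E × N)
  let eN : N ≃ₗ[R ⧸ I] (ιN → R ⧸ I) := (Module.Free.chooseBasis (R ⧸ I) N).equivFun
  let eF : (E × N) ≃ₗ[R ⧸ I] (ιF → R ⧸ I) := (Module.Free.chooseBasis (R ⧸ I) (E × N)).equivFun
  let π : (ιF → R ⧸ I) →ₗ[R ⧸ I] (ιN → R ⧸ I) :=
    eN.toLinearMap ∘ₗ LinearMap.snd _ E N ∘ₗ eF.symm.toLinearMap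
  have hπval : ∀ x, π x = eN (eF.symm x).2 := fun x => rfl
  have hπ : Function.Surjective π := by
    intro y
    refine ⟨eF (0, eN.symm y), ?_⟩
    rw [hπval, LinearEquiv.symm_apply_apply, LinearEquiv.apply_symm_apply]
  obtain ⟨M, i1, i2, h1, h2, ⟨e⟩⟩ := lift_ker I hI π hπ
  refine ⟨M, i1, i2, h1, h2, ⟨e ≪≫ₗ ?_⟩⟩
  let φ : LinearMap.ker π →ₗ[R ⧸ I] E :=
    (LinearMap.fst _ E N ∘ₗ eF.symm.toLinearMap) ∘ₗ (LinearMap.ker π).subtype
  have hφval : ∀ x : LinearMap.ker π, φ x = (eF.symm (x : ιF → R ⧸ I)).1 := fun x => rfl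
  refine LinearEquiv.ofBijective φ ⟨?_, ?_⟩
  · rw [injective_iff_map_eq_zero]
    intro x hx
    rw [hφval] at hx
    have h2 : eN (eF.symm (x : ιF → R ⧸ I)).2 = 0 := by
      rw [← hπval]; exact LinearMap.mem_ker.mp x.2
    have h3 : (eF.symm (x : ιF → R ⧸ I)).2 = 0 := by
      rw [← eN.map_eq_zero_iff]; exact h2
    have h4 : eF.symm (x : ιF → R ⧸ I) = 0 := Prod.ext hx h3
    apply Subtype.ext
    exact eF.symm.map_eq_zero_iff.mp h4
  · intro v
    refine ⟨⟨eF (v, 0), ?_⟩, ?_⟩
    · rw [LinearMap.mem_ker, hπval, LinearEquiv.symm_apply_apply, map_zero]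
    · rw [hφval, LinearEquiv.symm_apply_apply]


end Groth.Agent.S6863
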