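import Groth.Statements.S6864
import Mathlib
-- import your own Groth.Agent.* helpers here

set_option autoImplicit false
universe u
open TensorProduct
open CAlg

namespace Groth.Agent.S6864

/-- an element `x` of `P` with `1 ⊗ x = 0` in `R/I ⊗ P` lies in `I • ⊤`. -/
lemma mem_smul_top_of_tmul_eq_zero {R : Type u} [CommRing R] (I : Ideal R) {P : Type u}
    [AddCommGroup P] [Module R P] (x : P) (hx : (1 : R ⧸ I) ⊗ₜ[R] x = 0) :
    x ∈ (I • ⊤ : Submodule R P) := by
  have := congrArg (TensorProduct.quotTensorEquivQuotSMul P I) hx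
  rw [TensorProduct.quotTensorEquivQuotSMul_mk_one_tmul, map_zero,
    Submodule.Quotient.mk_eq_zero] at this
  exact this

/-- Let `I` be an ideal of a commutative ring `R` contained in the Jacobson radical and let `φ : P → P'`
be an `R`-linear map between finite projective `R`-modules. If the induced map `P/IP → P'/IP'` is
bijective, then `φ` is bijective. -/
theorem result {R : Type u} [CommRing R] (I : Ideal R)
    (hI : I ≤ Ideal.jacobson (⊥ : Ideal R)) {P P' : Type u}
    [AddCommGroup P] [Module R P] [Module.Finite R P] [Module.Projective R P]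
    [AddCommGroup P'] [Module R P'] [Module.Finite R P'] [Module.Projective R P'] (φ : P →ₗ[R] P')
    (h : Function.Bijective (φ.baseChange (R ⧸ I))) : Function.Bijective φ := by
  have hsurj : Function.Surjective φ := by
    apply LinearMap.surjective_of_surjective_comp_mkQ φ I hI
    intro y'
    obtain ⟨y, rfl⟩ := Submodule.mkQ_surjective _ y'
    obtain ⟨z, hz⟩ := h.2 ((1 : R ⧸ I) ⊗ₜ y)
    obtain ⟨x, rfl⟩ := TensorProduct.mk_surjective R P (R ⧸ I) Ideal.Quotient.mk_surjective z
    refine ⟨x, ?_⟩
    have := congrArg (TensorProduct.quotTensorEquivQuotSMul P' I) hz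
    simpa using this
  refine ⟨?_, hsurj⟩
  obtain ⟨s, hs⟩ := Module.projective_lifting_property φ LinearMap.id hsurj
  -- the projection onto the kernel
  let e : P →ₗ[R] P := LinearMap.id - s ∘ₗ φ
  have he : ∀ x, φ (e x) = 0 := by
    intro x
    have := LinearMap.congr_fun hs (φ x)
    simp only [LinearMap.comp_apply, LinearMap.id_apply] at this
    simp [e, this]
  have hrange : LinearMap.range e = LinearMap.ker φ := by
    apply le_antisymm
    · rintro _ ⟨x, rfl⟩
      exact he x
    · intro x hx
      refine ⟨x, ?_⟩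
      rw [LinearMap.mem_ker] at hx
      simp [e, hx]
  have hfg : (LinearMap.ker φ).FG := by
    rw [← hrange, LinearMap.range_eq_map]
    exact (Module.Finite.fg_top).map e
  have hle : LinearMap.ker φ ≤ I • LinearMap.ker φ := by
    intro x hx
    have h1 : (1 : R ⧸ I) ⊗ₜ[R] x = 0 := by
      apply h.1
      rw [LinearMap.baseChange_tmul, map_zero, (LinearMap.mem_ker.1 hx), TensorProduct.tmul_zero]
    have h2 : x ∈ (I • ⊤ : Submodule R P) := mem_smul_top_of_tmul_eq_zero I x h1
    have h3 : e x ∈ Submodule.map e (I • ⊤ : Submodule R P) := Submodule.mem_map_of_mem h2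
    rw [Submodule.map_smul'', Submodule.map_top, hrange] at h3
    have h4 : e x = x := by simp [e, LinearMap.mem_ker.1 hx]
    rwa [h4] at h3
  have hbot : LinearMap.ker φ = ⊥ :=
    Submodule.eq_bot_of_le_smul_of_le_jacobson_bot I _ hfg hle hI
  exact LinearMap.ker_eq_bot.1 hbot

end Groth.Agent.S6864
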