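import Groth.Statements.S6865
import Groth.Agent.S6864
import Mathlib
-- import your own Groth.Agent.* helpers here

set_option autoImplicit false
universe u
open TensorProduct
open CAlg

namespace Groth.Agent.S6865

/-- Let `I` be an ideal of a commutative ring `R` contained in the Jacobson radical and let `P, P'` be
finite projective `R`-modules. If `P/IP` and `P'/IP'` are isomorphic `R/I`-modules, then `P` and
`P'` are isomorphic. -/
theorem result {R : Type u} [CommRing R] (I : Ideal R)
    (hI : I ≤ Ideal.jacobson (⊥ : Ideal R)) (P P' : Type u)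
    [AddCommGroup P] [Module R P] [Module.Finite R P] [Module.Projective R P]
    [AddCommGroup P'] [Module R P'] [Module.Finite R P'] [Module.Projective R P']
    (e : (R ⧸ I) ⊗[R] P ≃ₗ[R ⧸ I] (R ⧸ I) ⊗[R] P') : Nonempty (P ≃ₗ[R] P') := by
  have hsurj : Function.Surjective (TensorProduct.mk R (R ⧸ I) P' 1) :=
    TensorProduct.mk_surjective R P' (R ⧸ I) Ideal.Quotient.mk_surjective
  obtain ⟨φ, hφ⟩ := Module.projective_lifting_property (TensorProduct.mk R (R ⧸ I) P' 1)
    ((e.toLinearMap.restrictScalars R) ∘ₗ (TensorProduct.mk R (R ⧸ I) P 1)) hsurj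
  have hφ' : ∀ x : P, (1 : R ⧸ I) ⊗ₜ[R] φ x = e ((1 : R ⧸ I) ⊗ₜ[R] x) := fun x =>
    LinearMap.congr_fun hφ x
  have heq : ∀ z, φ.baseChange (R ⧸ I) z = e z := by
    intro z
    obtain ⟨x, rfl⟩ := TensorProduct.mk_surjective R P (R ⧸ I) Ideal.Quotient.mk_surjective z
    change φ.baseChange (R ⧸ I) ((1 : R ⧸ I) ⊗ₜ[R] x) = e ((1 : R ⧸ I) ⊗ₜ[R] x)
    rw [LinearMap.baseChange_tmul, hφ']
  have hbij : Function.Bijective (φ.baseChange (R ⧸ I)) := by
    have : (φ.baseChange (R ⧸ I) : _ → _) = e := funext heq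
    rw [this]
    exact e.bijective
  exact ⟨LinearEquiv.ofBijective φ (Groth.Agent.S6864.result I hI φ hbij)⟩

end Groth.Agent.S6865
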