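import Groth.Statements.S6866
import Mathlib
import Groth.Agent.Lib.Helper6.Reflexive2

set_option autoImplicit false
universe u
open TensorProduct
open CAlg

namespace Groth.Agent.S6866



/-- If `M` is a torsion free module over a domain `R` and `R → R'` is a flat ring map to another domain,
then `R' ⊗_R M` is torsion free over `R'`. -/
theorem result (R R' : Type u) [CommRing R] [IsDomain R] [CommRing R']
    [IsDomain R'] [Algebra R R'] [Module.Flat R R'] (M : Type u) [AddCommGroup M] [Module R M]
    [Module.IsTorsionFree R M] : Module.IsTorsionFree R' (R' ⊗[R] M) := by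
  refine ⟨fun r hr x₁ x₂ h => ?_⟩
  have hr0 : r ≠ 0 := hr.ne_zero
  rw [← sub_eq_zero]
  have h' : r • (x₁ - x₂) = 0 := by rw [smul_sub, sub_eq_zero]; exact h
  obtain ⟨N, hNfin, hN⟩ := TensorProduct.exists_finite_submodule_right_of_setFinite
    ({x₁ - x₂} : Set (R' ⊗[R] M)) (Set.finite_singleton _)
  obtain ⟨x₀, hx₀⟩ := hN (Set.mem_singleton _)
  have hNtf : Module.IsTorsionFree R N :=
    Function.Injective.moduleIsTorsionFree N.subtype N.injective_subtype (fun r m => rfl)
  have hb := Groth.Agent.Lib.Helper6.Reflexive.baseChange_torsionFree (R := R) R' N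
  have hinj : Function.Injective (N.subtype.baseChange R') :=
    Module.Flat.lTensor_preserves_injective_linearMap _ N.injective_subtype
  have hx₀' : (N.subtype.baseChange R') x₀ = x₁ - x₂ := hx₀
  have h0 : r • x₀ = 0 := by
    apply hinj
    rw [map_zero, map_smul, hx₀', h']
  have h1 : x₀ = 0 := (smul_eq_zero_iff_right hr0).mp h0
  rw [← hx₀', h1, map_zero]


end Groth.Agent.S6866
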