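import Groth.Statements.S6867
import Mathlib.LinearAlgebra.FreeModule.PID

set_option autoImplicit false
universe u
open CAlg

namespace Groth.Agent.S6867

/-- For a domain `R`, a finite `R`-module `M` is torsion free exactly when it admits an injective
`R`-linear map into `Rⁿ` for some `n`. -/
theorem result (R : Type u) [CommRing R] [IsDomain R] (M : Type u)
    [AddCommGroup M] [Module R M] [Module.Finite R M] :
    Module.IsTorsionFree R M ↔ ∃ (n : ℕ) (f : M →ₗ[R] (Fin n → R)), Function.Injective f := by
  constructor
  · intro htf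
    classical
    obtain ⟨k, s, hs⟩ := Module.Finite.exists_fin (R := R) (M := M)
    obtain ⟨I, indepI, hI⟩ := exists_maximal_linearIndepOn R s
    let N := Submodule.span R (Set.range <| (s ∘ (fun x => x) : I → M))
    let sI_basis : Module.Basis I R N := Module.Basis.span indepI
    have exists_a : ∀ i : Fin k, ∃ a : R, a ≠ 0 ∧ a • s i ∈ N := by
      intro i
      by_cases hi : i ∈ I
      · use 1, zero_ne_one.symm
        rw [one_smul]
        exact Submodule.subset_span (Set.mem_range_self (⟨i, hi⟩ : I))
      · simpa [Set.image_eq_range s I] using! hI i hi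
    choose a ha ha' using exists_a
    let A := ∏ i, a i
    have hA : A ≠ 0 := by
      rw [Finset.prod_ne_zero_iff]
      simpa using! ha
    let φ : M →ₗ[R] M := LinearMap.lsmul R M A
    have hker : LinearMap.ker φ = ⊥ := LinearMap.ker_lsmul hA
    have hφinj : Function.Injective φ := LinearMap.ker_eq_bot.mp hker
    have hrange : ∀ m : M, φ m ∈ N := by
      suffices h : LinearMap.range φ ≤ N from fun m => h ⟨m, rfl⟩
      suffices ∀ i, φ (s i) ∈ N by
        rw [LinearMap.range_eq_map, ← hs, Submodule.map_span_le]
        rintro _ ⟨i, rfl⟩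
        apply this
      intro i
      calc
        (∏ j ∈ {i}ᶜ, a j) • a i • s i ∈ N := N.smul_mem _ (ha' i)
        _ = (∏ j, a j) • s i := by rw [Fintype.prod_eq_prod_compl_mul i, mul_smul]
    let φ' : M →ₗ[R] N := LinearMap.codRestrict N φ hrange
    have hφ'inj : Function.Injective φ' := fun x y hxy =>
      hφinj (congrArg Subtype.val hxy)
    let e : N ≃ₗ[R] (Fin (Fintype.card I) → R) :=
      sI_basis.equivFun.trans (LinearEquiv.funCongrLeft R R (Fintype.equivFin I).symm)
    exact ⟨Fintype.card I, e.toLinearMap ∘ₗ φ', e.injective.comp hφ'inj⟩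
  · rintro ⟨n, f, hf⟩
    exact hf.moduleIsTorsionFree f (map_smul f)

end Groth.Agent.S6867
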