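import Groth.Statements.S6868
import Mathlib
import Groth.Agent.Lib.Helper26.Sk1

set_option autoImplicit false
universe u
open CAlg

namespace Groth.Agent.S6868

/-- (1) ⇔ (3) ⇔ (4): for a Noetherian domain `R` and a nonzero finite `R`-module `M`, torsion-freeness
of `M` is equivalent to `(0)` being the unique associated prime of `M`, and also to the conjunction:
`(0)` belongs to the support of `M` and `M` satisfies Serre's condition `(S_1)`. (The published
statement also lists embedding into a finite free module and the absence of embedded associated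
primes; this row states the other three conditions.) -/
theorem result (R : Type u) [CommRing R]
    [IsDomain R] [IsNoetherianRing R] (M : Type u) [AddCommGroup M] [Module R M] [Module.Finite R M] [Nontrivial M] :
    (Module.IsTorsionFree R M ↔ associatedPrimes R M = {⊥}) ∧
    (Module.IsTorsionFree R M ↔
      (⟨⊥, Ideal.isPrime_bot⟩ : PrimeSpectrum R) ∈ Module.support R M ∧ LocCoh.HasSk 1 R M) := by
  have hbot_of_tf : Module.IsTorsionFree R M → ∀ p ∈ associatedPrimes R M, p = ⊥ := by
    intro htf p hp
    rw [eq_bot_iff]
    intro r hr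
    rw [Ideal.mem_bot]
    by_contra hr0
    have hreg : IsSMulRegular M r := htf.isSMulRegular (IsRegular.of_ne_zero hr0)
    have hmem : r ∈ ⋃ q ∈ associatedPrimes R M, (q : Set R) := by
      simp only [Set.mem_iUnion, SetLike.mem_coe, exists_prop]
      exact ⟨p, hp, hr⟩
    rw [biUnion_associatedPrimes_eq_compl_regular R M] at hmem
    exact hmem hreg
  have heq_of_forall : (∀ p ∈ associatedPrimes R M, p = ⊥) → associatedPrimes R M = {⊥} := by
    intro h
    obtain ⟨p, hp⟩ := associatedPrimes.nonempty R M
    ext q
    constructor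
    · intro hq
      exact h q hq
    · intro hq
      rw [Set.mem_singleton_iff] at hq
      rw [hq, ← h p hp]
      exact hp
  have htf_of_eq : associatedPrimes R M = {⊥} → Module.IsTorsionFree R M := by
    intro h
    refine ⟨fun r hr => ?_⟩
    by_contra hnreg
    have hmem : r ∈ ⋃ q ∈ associatedPrimes R M, (q : Set R) := by
      rw [biUnion_associatedPrimes_eq_compl_regular R M]
      exact hnreg
    simp only [Set.mem_iUnion, SetLike.mem_coe, exists_prop] at hmem
    obtain ⟨q, hq, hrq⟩ := hmem
    rw [h, Set.mem_singleton_iff] at hq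
    rw [hq, Ideal.mem_bot] at hrq
    exact hr.ne_zero hrq
  refine ⟨⟨fun htf => heq_of_forall (hbot_of_tf htf), htf_of_eq⟩, ?_⟩
  constructor
  · intro htf
    have hsupp : (⟨⊥, Ideal.isPrime_bot⟩ : PrimeSpectrum R) ∈ Module.support R M := by
      rw [Module.support_of_noZeroSMulDivisors]
      exact Set.mem_univ _
    refine ⟨hsupp, (Groth.Agent.Lib.helper26.Depth.hasSk_one_iff M).mp ?_⟩
    intro p hp
    rw [hbot_of_tf htf p hp]
    exact ⟨⟨Ideal.isPrime_bot, Module.annihilator_le_of_mem_support hsupp⟩, fun q _ _ => bot_le⟩
  · rintro ⟨hsupp, hS1⟩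
    apply htf_of_eq
    apply heq_of_forall
    intro p hp
    have hmin := (Groth.Agent.Lib.helper26.Depth.hasSk_one_iff M).mpr hS1 p hp
    rw [eq_bot_iff]
    exact hmin.2 ⟨Ideal.isPrime_bot, Module.annihilator_le_of_mem_support hsupp⟩ bot_le


end Groth.Agent.S6868
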