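import Groth.Statements.S6869
import Groth.Agent.S6867
import Mathlib.LinearAlgebra.Dual.Defs

set_option autoImplicit false
universe u
open CAlg

namespace Groth.Agent.S6869

/-- For a domain `R` and a finite `R`-module `M`, the evaluation map `M → M**` into the double dual is
injective exactly when `M` is torsion free. -/
theorem result (R : Type u) [CommRing R] [IsDomain R] (M : Type u)
    [AddCommGroup M] [Module R M] [Module.Finite R M] :
    Function.Injective (Module.Dual.eval R M) ↔ Module.IsTorsionFree R M := by
  constructor
  · intro hinj
    have hD : Module.IsTorsionFree R (Module.Dual R (Module.Dual R M)) := by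
      refine ⟨fun r hr φ ψ h => ?_⟩
      ext n
      have h1 := LinearMap.congr_fun h n
      simp only [LinearMap.smul_apply, smul_eq_mul] at h1
      exact hr.left h1
    exact Function.Injective.moduleIsTorsionFree (Module.Dual.eval R M) hinj (fun r m => map_smul _ r m)
  · intro htf
    obtain ⟨n, f, hf⟩ := (Groth.Agent.S6867.result R M).mp htf
    rw [injective_iff_map_eq_zero]
    intro x hx
    apply hf
    rw [map_zero]
    ext i
    have h1 := LinearMap.congr_fun hx ((LinearMap.proj i).comp f)
    simpa using h1

end Groth.Agent.S6869
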