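import Groth.Statements.S6871
import Mathlib

set_option autoImplicit false
universe u
open CAlg

namespace Groth.Agent.S6871


open Module

section aux

variable (R : Type u) [CommRing R] [IsNoetherianRing R] (M : Type u)
    [AddCommGroup M] [Module R M] [Module.Finite R M] (p : Ideal R) [p.IsPrime]

noncomputable def D1 : Dual R M →ₗ[R]
    Dual (Localization.AtPrime p) (LocalizedModule p.primeCompl M) :=
  IsLocalizedModule.mapExtendScalars p.primeCompl (LocalizedModule.mkLinearMap p.primeCompl M)
    (Algebra.linearMap R (Localization.AtPrime p)) (Localization.AtPrime p)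

instance D1_loc : IsLocalizedModule p.primeCompl (D1 R M p) := by
  have := Module.finitePresentation_of_finite R M
  unfold D1
  infer_instance

noncomputable def D2 : Dual R (Dual R M) →ₗ[R] Dual (Localization.AtPrime p)
    (Dual (Localization.AtPrime p) (LocalizedModule p.primeCompl M)) :=
  IsLocalizedModule.mapExtendScalars p.primeCompl (D1 R M p)
    (Algebra.linearMap R (Localization.AtPrime p)) (Localization.AtPrime p)

instance D2_loc : IsLocalizedModule p.primeCompl (D2 R M p) := by
  have := Module.finitePresentation_of_finite R (Dual R M)
  unfold D2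
  infer_instance

theorem key (x : M) : D2 R M p (Dual.eval R M x) =
    Dual.eval (Localization.AtPrime p) (LocalizedModule p.primeCompl M)
      (LocalizedModule.mkLinearMap p.primeCompl M x) := by
  apply LinearMap.restrictScalars_injective R
  apply IsLocalizedModule.linearMap_ext p.primeCompl (D1 R M p)
    (Algebra.linearMap R (Localization.AtPrime p))
  ext ψ
  simp only [LinearMap.coe_comp, Function.comp_apply, LinearMap.coe_restrictScalars]
  unfold D2
  rw [IsLocalizedModule.mapExtendScalars_apply_apply, IsLocalizedModule.map_apply]
  rw [Dual.eval_apply, Dual.eval_apply]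
  unfold D1
  rw [IsLocalizedModule.mapExtendScalars_apply_apply, IsLocalizedModule.map_apply]

theorem map_eval : IsLocalizedModule.map p.primeCompl
    (LocalizedModule.mkLinearMap p.primeCompl M) (D2 R M p) (Dual.eval R M) =
    (Dual.eval (Localization.AtPrime p) (LocalizedModule p.primeCompl M)).restrictScalars R := by
  apply IsLocalizedModule.linearMap_ext p.primeCompl (LocalizedModule.mkLinearMap p.primeCompl M)
    (D2 R M p)
  ext x
  simp only [LinearMap.coe_comp, Function.comp_apply, LinearMap.coe_restrictScalars]
  rw [IsLocalizedModule.map_apply, key]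

end aux


/-- Let `R` be a Noetherian domain and `M` a finite `R`-module. Then `M` is reflexive if and only if
`M_𝔭` is a reflexive `R_𝔭`-module for every prime `𝔭`, if and only if `M_𝔪` is a reflexive
`R_𝔪`-module for every maximal ideal `𝔪`. -/
theorem result (R : Type u) [CommRing R] [IsDomain R] [IsNoetherianRing R] (M : Type u)
    [AddCommGroup M] [Module R M] [Module.Finite R M] :
    (Module.IsReflexive R M ↔
      ∀ (p : Ideal R) [p.IsPrime], Module.IsReflexive (Localization.AtPrime p) (LocalizedModule p.primeCompl M)) ∧
    (Module.IsReflexive R M ↔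
      ∀ (m : Ideal R) (_ : m.IsMaximal),
        Module.IsReflexive (Localization.AtPrime m) (LocalizedModule m.primeCompl M)) := by
  have h1 : Module.IsReflexive R M → ∀ (p : Ideal R) [p.IsPrime],
      Module.IsReflexive (Localization.AtPrime p) (LocalizedModule p.primeCompl M) := by
    intro h p _
    have hb := Module.bijective_dual_eval R M
    have hmap : Function.Bijective (IsLocalizedModule.map p.primeCompl
        (LocalizedModule.mkLinearMap p.primeCompl M) (D2 R M p) (Module.Dual.eval R M)) :=
      ⟨IsLocalizedModule.map_injective _ _ _ _ hb.1, IsLocalizedModule.map_surjective _ _ _ _ hb.2⟩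
    rw [map_eval] at hmap
    exact ⟨hmap⟩
  have h2 : (∀ (m : Ideal R) (_ : m.IsMaximal),
      Module.IsReflexive (Localization.AtPrime m) (LocalizedModule m.primeCompl M)) →
      Module.IsReflexive R M := by
    intro h
    constructor
    refine bijective_of_isLocalized_maximal (fun P _ => LocalizedModule P.primeCompl M)
      (fun P _ => LocalizedModule.mkLinearMap P.primeCompl M)
      (fun P _ => Module.Dual (Localization.AtPrime P)
        (Module.Dual (Localization.AtPrime P) (LocalizedModule P.primeCompl M)))
      (fun P _ => D2 R M P) (Module.Dual.eval R M) ?_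
    intro P hP
    rw [map_eval]
    exact (h P hP).bijective_dual_eval'
  refine ⟨⟨fun h p _ => h1 h p, fun h => h2 (fun m hm => ?_)⟩, ⟨fun h m hm => ?_, h2⟩⟩
  · have := hm.isPrime
    exact h m
  · have := hm.isPrime
    exact h1 h m


end Groth.Agent.S6871
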