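import Groth.Statements.S6873
import Mathlib
import Groth.Agent.Lib.Helper6.Reflexive

set_option autoImplicit false
universe u
open CAlg

namespace Groth.Agent.S6873



/-- For a Noetherian domain `R`, a finite `R`-module `M` is reflexive if and only if `M` admits an
injective `R`-linear map into `Rⁿ`, for some `n`, whose cokernel is torsion free. -/
theorem result (R : Type u) [CommRing R] [IsDomain R]
    [IsNoetherianRing R] (M : Type u) [AddCommGroup M] [Module R M] [Module.Finite R M] :
    Module.IsReflexive R M ↔ ∃ (n : ℕ) (f : M →ₗ[R] (Fin n → R)), Function.Injective f ∧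
      Module.IsTorsionFree R ((Fin n → R) ⧸ LinearMap.range f) := by
  classical
  constructor
  · intro hrefl
    obtain ⟨n, ψ, hψ⟩ := Module.Finite.exists_fin (R := R) (M := Module.Dual R M)
    let f : M →ₗ[R] (Fin n → R) := LinearMap.pi fun i => ψ i
    have hevalinj := (Module.bijective_dual_eval R M).1
    have hevalsurj := (Module.bijective_dual_eval R M).2
    refine ⟨n, f, ?_, ?_⟩
    · rw [← LinearMap.ker_eq_bot, LinearMap.ker_eq_bot']
      intro m hm
      apply hevalinj
      rw [map_zero]
      refine LinearMap.ext_on hψ ?_
      rintro _ ⟨i, rfl⟩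
      show ψ i m = 0
      exact congrFun hm i
    · refine ⟨fun r hr y₁ y₂ h => ?_⟩
      have hr0 : r ≠ 0 := hr.ne_zero
      have h' : r • (y₁ - y₂) = 0 := by
        rw [smul_sub, sub_eq_zero]; exact h
      rw [← sub_eq_zero]
      obtain ⟨v, hv⟩ := Submodule.Quotient.mk_surjective _ (y₁ - y₂)
      rw [← hv] at h' ⊢
      rw [← Submodule.Quotient.mk_smul, Submodule.Quotient.mk_eq_zero] at h'
      rw [Submodule.Quotient.mk_eq_zero]
      obtain ⟨m, hm⟩ := h'
      -- build θ
      let p : (Fin n → R) →ₗ[R] Module.Dual R M := Fintype.linearCombination R ψ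
      have hp : Function.Surjective p := by
        rw [← LinearMap.range_eq_top, Fintype.range_linearCombination, hψ]
      let vdot : (Fin n → R) →ₗ[R] R := Fintype.linearCombination R v
      have hle : LinearMap.ker p ≤ LinearMap.ker vdot := by
        intro a ha
        rw [LinearMap.mem_ker] at ha ⊢
        have h1 : r * vdot a = (p a) m := by
          show r * (∑ i, a i • v i) = (∑ i, a i • ψ i) m
          rw [Finset.mul_sum, LinearMap.sum_apply]
          refine Finset.sum_congr rfl fun i _ => ?_
          have h2 : ψ i m = r * v i := congrFun hm i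
          rw [LinearMap.smul_apply, h2, smul_eq_mul, smul_eq_mul]
          ring
        rw [ha, LinearMap.zero_apply] at h1
        exact (mul_eq_zero.mp h1).resolve_left hr0
      let θ : Module.Dual R (Module.Dual R M) :=
        ((LinearMap.ker p).liftQ vdot hle) ∘ₗ (p.quotKerEquivOfSurjective hp).symm.toLinearMap
      have hθ : ∀ a, θ (p a) = vdot a := by
        intro a
        have h3 : (p.quotKerEquivOfSurjective hp).symm (p a) = Submodule.Quotient.mk a := by
          rw [LinearEquiv.symm_apply_eq, LinearMap.quotKerEquivOfSurjective_apply_mk]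
        show ((LinearMap.ker p).liftQ vdot hle) ((p.quotKerEquivOfSurjective hp).symm (p a)) = _
        rw [h3, Submodule.liftQ_apply]
      obtain ⟨m', hm'⟩ := hevalsurj θ
      refine ⟨m', ?_⟩
      funext i
      have h4 : p (Pi.single i 1) = ψ i := by
        show Fintype.linearCombination R ψ (Pi.single i 1) = ψ i
        rw [Fintype.linearCombination_apply_single, one_smul]
      have h5 : vdot (Pi.single i 1) = v i := by
        show Fintype.linearCombination R v (Pi.single i 1) = v i
        rw [Fintype.linearCombination_apply_single, one_smul]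
      show ψ i m' = v i
      rw [← h5, ← hθ, h4, ← hm', Module.Dual.eval_apply]
  · rintro ⟨n, f, hf, htf⟩
    exact Groth.Agent.Lib.Helper6.Reflexive.reflexive_of_exact f (LinearMap.range f).mkQ hf
      f.exact_map_mkQ_range (fun r y hr h => (smul_eq_zero_iff_right hr).mp h)


end Groth.Agent.S6873
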