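import Groth.Statements.S6874
import Mathlib
import Groth.Agent.Lib.Helper6.Reflexive2
import Groth.Agent.S6873

set_option autoImplicit false
universe u
open TensorProduct
open CAlg

namespace Groth.Agent.S6874



/-- For a flat ring map `R → R'` between Noetherian domains and a finite reflexive `R`-module `M`, the
base change `R' ⊗_R M` is a (finite) reflexive `R'`-module. -/
theorem result (R R' : Type u) [CommRing R] [IsDomain R]
    [IsNoetherianRing R] [CommRing R'] [IsDomain R'] [IsNoetherianRing R'] [Algebra R R'] [Module.Flat R R']
    (M : Type u) [AddCommGroup M] [Module R M] [Module.Finite R M] [Module.IsReflexive R M] :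
    Module.IsReflexive R' (R' ⊗[R] M) := by
  obtain ⟨n, f, hf, htf⟩ := (Groth.Agent.S6873.result R M).mp inferInstance
  obtain ⟨k, ι, hι⟩ := Groth.Agent.Lib.Helper6.Reflexive.exists_embedding_free (R := R)
    ((Fin n → R) ⧸ LinearMap.range f)
  let g : (Fin n → R) →ₗ[R] (Fin k → R) := ι ∘ₗ (LinearMap.range f).mkQ
  have hfg : Function.Exact f g := by
    intro y
    show ι ((LinearMap.range f).mkQ y) = 0 ↔ _
    rw [map_eq_zero_iff ι hι]
    exact f.exact_map_mkQ_range y
  have hfg' : Function.Exact (f.baseChange R') (g.baseChange R') :=
    Module.Flat.lTensor_exact R' hfg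
  have hf' : Function.Injective (f.baseChange R') :=
    Module.Flat.lTensor_preserves_injective_linearMap f hf
  exact Groth.Agent.Lib.Helper6.Reflexive.reflexive_of_exact (R := R') (f.baseChange R')
    (g.baseChange R') hf' hfg' (fun r y hr h => (smul_eq_zero_iff_right hr).mp h)


end Groth.Agent.S6874
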