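import Groth.Statements.S6875
import Mathlib
import Groth.Agent.Lib.Helper6.Reflexive

set_option autoImplicit false
universe u
open CAlg

namespace Groth.Agent.S6875


theorem pi_reflexive (R : Type u) [CommRing R] (N : Type u) [AddCommGroup N] [Module R N]
    [Module.IsReflexive R N] : ∀ n : ℕ, Module.IsReflexive R (Fin n → N) := by
  intro n
  induction n with
  | zero => infer_instance
  | succ n ih =>
    have := ih
    exact Module.equiv (Fin.consLinearEquiv R (fun _ : Fin (n+1) => N))


/-- Let `R` be a Noetherian domain, `M` a finite `R`-module and `N` a finite reflexive `R`-module. Then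
`Hom_R(M, N)` is reflexive. -/
theorem result (R : Type u) [CommRing R] [IsDomain R] [IsNoetherianRing R]
    (M N : Type u) [AddCommGroup M] [Module R M] [Module.Finite R M] [AddCommGroup N] [Module R N] [Module.Finite R N]
    [Module.IsReflexive R N] : Module.IsReflexive R (M →ₗ[R] N) := by
  classical
  obtain ⟨n, m, hm⟩ := Module.Finite.exists_fin (R := R) (M := M)
  let p : (Fin n → R) →ₗ[R] M := Fintype.linearCombination R m
  have hp : Function.Surjective p := by
    rw [← LinearMap.range_eq_top, Fintype.range_linearCombination, hm]
  let f : (M →ₗ[R] N) →ₗ[R] (Fin n → N) := LinearMap.pi fun i => LinearMap.applyₗ (m i)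
  let g : (Fin n → N) →ₗ[R] (LinearMap.ker p → N) :=
    LinearMap.pi fun a : LinearMap.ker p =>
      ∑ i, (a.1 i) • (LinearMap.proj i : (Fin n → N) →ₗ[R] N)
  have hg : ∀ (y : Fin n → N) (a : LinearMap.ker p), g y a = ∑ i, a.1 i • y i := by
    intro y a
    simp [g]
  have hfapp : ∀ (h : M →ₗ[R] N) (i : Fin n), f h i = h (m i) := fun h i => rfl
  have := pi_reflexive R N n
  have hf : Function.Injective f := by
    rw [← LinearMap.ker_eq_bot, LinearMap.ker_eq_bot']
    intro h hh
    refine LinearMap.ext_on hm ?_
    rintro _ ⟨i, rfl⟩
    exact congrFun hh i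
  have hfg : Function.Exact f g := by
    intro y
    constructor
    · intro hy
      let ydot : (Fin n → R) →ₗ[R] N := Fintype.linearCombination R y
      have hle : LinearMap.ker p ≤ LinearMap.ker ydot := by
        intro a ha
        rw [LinearMap.mem_ker]
        have := congrFun hy ⟨a, ha⟩
        rw [hg] at this
        exact this
      let h : M →ₗ[R] N :=
        ((LinearMap.ker p).liftQ ydot hle) ∘ₗ (p.quotKerEquivOfSurjective hp).symm.toLinearMap
      have hh : ∀ a, h (p a) = ydot a := by
        intro a
        have h3 : (p.quotKerEquivOfSurjective hp).symm (p a) = Submodule.Quotient.mk a := by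
          rw [LinearEquiv.symm_apply_eq, LinearMap.quotKerEquivOfSurjective_apply_mk]
        show ((LinearMap.ker p).liftQ ydot hle) ((p.quotKerEquivOfSurjective hp).symm (p a)) = _
        rw [h3, Submodule.liftQ_apply]
      refine ⟨h, ?_⟩
      funext i
      have h4 : p (Pi.single i 1) = m i := by
        show Fintype.linearCombination R m (Pi.single i 1) = m i
        rw [Fintype.linearCombination_apply_single, one_smul]
      have h5 : ydot (Pi.single i 1) = y i := by
        show Fintype.linearCombination R y (Pi.single i 1) = y i
        rw [Fintype.linearCombination_apply_single, one_smul]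
      rw [hfapp, ← h4, hh, h5]
    · rintro ⟨h, rfl⟩
      funext a
      rw [hg]
      have h6 : ∑ i, a.1 i • f h i = h (p a.1) := by
        show _ = h (∑ i, a.1 i • m i)
        rw [map_sum]
        refine Finset.sum_congr rfl fun i _ => ?_
        rw [map_smul, hfapp]
      rw [h6, LinearMap.mem_ker.mp a.2, map_zero]
      rfl
  refine Groth.Agent.Lib.Helper6.Reflexive.reflexive_of_exact f g hf hfg ?_
  intro r y hr hy
  funext a
  have := congrFun hy a
  exact (smul_eq_zero_iff_right hr).mp this


end Groth.Agent.S6875
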