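import Groth.Statements.S6878
import Mathlib

set_option autoImplicit false
universe u
open CAlg

namespace Groth.Agent.S6878

/-- Let `R` be a Noetherian ring and `φ : M → N` a map of `R`-modules. Suppose that for every prime `𝔭`
of `R` either `M_𝔭 → N_𝔭` is injective or `𝔭` is not an associated prime of `M`. Then `φ` is
injective. -/
theorem result (R : Type u) [CommRing R]
    [IsNoetherianRing R] {M N : Type u} [AddCommGroup M] [Module R M] [AddCommGroup N] [Module R N] (φ : M →ₗ[R] N)
    (h : ∀ (p : Ideal R) [p.IsPrime],
      Function.Injective (LocalizedModule.map p.primeCompl φ) ∨ p ∉ associatedPrimes R M) :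
    Function.Injective φ := by
  rw [← LinearMap.ker_eq_bot]
  by_contra hker
  -- the kernel is a nonzero module, hence has an associated prime
  have hnt : Nontrivial (LinearMap.ker φ) := Submodule.nontrivial_iff_ne_bot.mpr hker
  obtain ⟨p, hp⟩ := associatedPrimes.nonempty R (LinearMap.ker φ)
  have hp' : IsAssociatedPrime p (LinearMap.ker φ) := hp
  rw [isAssociatedPrime_iff] at hp'
  obtain ⟨hprime, ⟨x, hx⟩, hpx⟩ := hp'
  have := hprime
  -- p = ann x
  have hann : ∀ r : R, r ∈ p ↔ r • x = 0 := by
    intro r
    rw [hpx, Submodule.mem_colon_singleton, Submodule.mem_bot]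
    constructor
    · intro h; exact congrArg Subtype.val h
    · intro h; exact Subtype.ext h
  -- p is an associated prime of M
  have hpM : p ∈ associatedPrimes R M := by
    change IsAssociatedPrime p M
    rw [isAssociatedPrime_iff]
    refine ⟨hprime, x, ?_⟩
    ext r
    rw [hann r, Submodule.mem_colon_singleton, Submodule.mem_bot]
  rcases h p with hinj | hnot
  · -- x/1 is a nonzero element of the kernel of the localized map
    have h0 : LocalizedModule.map p.primeCompl φ (LocalizedModule.mk x 1) = 0 := by
      rw [LocalizedModule.map_mk, LinearMap.mem_ker.mp hx, LocalizedModule.zero_mk]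
    have h1 : (LocalizedModule.mk x 1 : LocalizedModule p.primeCompl M) = 0 :=
      hinj (by rw [h0, map_zero])
    rw [← LocalizedModule.zero_mk (1 : p.primeCompl), LocalizedModule.mk_eq] at h1
    obtain ⟨u, hu⟩ := h1
    simp only [one_smul, smul_zero] at hu
    have : (u : R) ∈ p := (hann u).mpr hu
    exact u.2 this
  · exact hnot hpM

end Groth.Agent.S6878
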