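import Groth.Statements.S6881
import Mathlib
import Groth.Agent.Lib.Helper6.Reflexive

set_option autoImplicit false
universe u
open CAlg

namespace Groth.Agent.S6881



/-- For `A` a Noetherian integrally closed domain with fraction field `K` and `L/K` a finite field
extension, if the integral closure of `A` in `L` is a finitely generated `A`-module then it is a
reflexive `A`-module. -/
theorem result (A K L : Type u) [CommRing A] [IsDomain A] [IsNoetherianRing A]
    [IsIntegrallyClosed A] [Field K] [Algebra A K] [IsFractionRing A K] [Field L] [Algebra K L] [FiniteDimensional K L]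
    [Algebra A L] [IsScalarTower A K L] [Module.Finite A ↥(integralClosure A L)] :
    Module.IsReflexive A ↥(integralClosure A L) := by
  classical
  have hinjAL : Function.Injective (algebraMap A L) := by
    rw [IsScalarTower.algebraMap_eq A K L]
    exact (algebraMap K L).injective.comp (IsFractionRing.injective A K)
  have hBtf : ∀ (a : A) (b : ↥(integralClosure A L)), a ≠ 0 → a • b = 0 → b = 0 := by
    intro a b ha hab
    have h1 : algebraMap A L a * (b : L) = 0 := by
      have h0 : ((a • b : ↥(integralClosure A L)) : L) = 0 := by rw [hab]; rfl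
      rw [← Algebra.smul_def]; exact h0
    rcases mul_eq_zero.mp h1 with h | h
    · exact absurd ((map_eq_zero_iff _ hinjAL).mp h) ha
    · exact Subtype.ext h
  obtain ⟨c, hc, hker, hcok⟩ :=
    Groth.Agent.Lib.Helper6.Reflexive.eval_ker_coker (R := A) ↥(integralClosure A L)
  have hcL : algebraMap A L c ≠ 0 := fun h => hc ((map_eq_zero_iff _ hinjAL).mp h)
  have hjinj : Function.Injective (Module.Dual.eval A ↥(integralClosure A L)) := by
    rw [← LinearMap.ker_eq_bot, LinearMap.ker_eq_bot']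
    intro b hb
    exact hBtf c b hc (hker b hb)
  let β : Module.Dual A (Module.Dual A ↥(integralClosure A L)) →ₗ[A] ↥(integralClosure A L) :=
    (LinearEquiv.ofInjective (Module.Dual.eval A ↥(integralClosure A L)) hjinj).symm.toLinearMap ∘ₗ
      (LinearMap.codRestrict (LinearMap.range (Module.Dual.eval A ↥(integralClosure A L)))
        (c • LinearMap.id) (fun φ => hcok φ))
  have hβ : ∀ φ, Module.Dual.eval A ↥(integralClosure A L) (β φ) = c • φ := by
    intro φ
    have := (LinearEquiv.ofInjective (Module.Dual.eval A ↥(integralClosure A L))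
      hjinj).apply_symm_apply ⟨c • φ, hcok φ⟩
    exact congrArg Subtype.val this
  have hjβ : ∀ (φ : Module.Dual A (Module.Dual A ↥(integralClosure A L)))
      (θ : Module.Dual A ↥(integralClosure A L)), c * φ θ = θ (β φ) := by
    intro φ θ
    exact (LinearMap.congr_fun (hβ φ) θ).symm
  let T : Module.Dual A ↥(integralClosure A L) →
      (↥(integralClosure A L) →ₗ[A] Module.Dual A ↥(integralClosure A L)) := fun ℓ =>
    (LinearMap.llcomp A ↥(integralClosure A L) ↥(integralClosure A L) A ℓ) ∘ₗ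
      (LinearMap.mul A ↥(integralClosure A L))
  have hT : ∀ ℓ b x, T ℓ b x = ℓ (b * x) := fun ℓ b x => rfl
  have hTadd : ∀ ℓ ℓ' b, T (ℓ + ℓ') b = T ℓ b + T ℓ' b := fun ℓ ℓ' b => by ext x; rfl
  have hTsmul : ∀ (a : A) ℓ b, T (a • ℓ) b = a • T ℓ b := fun a ℓ b => by ext x; rfl
  let W : Module.Dual A (Module.Dual A ↥(integralClosure A L)) →
      (Module.Dual A ↥(integralClosure A L) →ₗ[A] Module.Dual A ↥(integralClosure A L)) :=
    fun φ =>
    { toFun := fun ℓ => φ ∘ₗ T ℓ
      map_add' := fun ℓ ℓ' => by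
        ext b
        show φ (T (ℓ + ℓ') b) = φ (T ℓ b) + φ (T ℓ' b)
        rw [hTadd, map_add]
      map_smul' := fun a ℓ => by
        ext b
        show φ (T (a • ℓ) b) = a • φ (T ℓ b)
        rw [hTsmul, map_smul] }
  have hW : ∀ φ ℓ b, W φ ℓ b = φ (T ℓ b) := fun φ ℓ b => rfl
  have claimM : ∀ φ φ', c • β (φ' ∘ₗ W φ) = β φ * β φ' := by
    intro φ φ'
    apply hjinj
    ext ℓ
    rw [Module.Dual.eval_apply, Module.Dual.eval_apply, map_smul, smul_eq_mul,
      ← hjβ (φ' ∘ₗ W φ) ℓ, LinearMap.comp_apply, hjβ φ' (W φ ℓ), hW, hjβ φ (T ℓ (β φ')), hT,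
      mul_comm (β φ') (β φ)]
  constructor
  refine ⟨hjinj, ?_⟩
  intro φ
  let N₀ : Submodule A L := LinearMap.range ((integralClosure A L).val.toLinearMap ∘ₗ β)
  have hN₀fg : N₀.FG := Module.Finite.iff_fg.mp inferInstance
  have hN₀ne : N₀ ≠ ⊥ := by
    rw [Submodule.ne_bot_iff]
    have h1 : β (Module.Dual.eval A ↥(integralClosure A L) 1) = c • 1 := by
      apply hjinj
      rw [hβ, map_smul]
    refine ⟨algebraMap A L c, ⟨Module.Dual.eval A ↥(integralClosure A L) 1, ?_⟩, hcL⟩
    show ((β (Module.Dual.eval A ↥(integralClosure A L) 1) : ↥(integralClosure A L)) : L) = _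
    rw [h1]
    show c • (1 : L) = _
    rw [Algebra.smul_def, mul_one]
  have hx : ∀ n ∈ N₀, ((algebraMap A L c)⁻¹ * (β φ : L)) • n ∈ N₀ := by
    rintro _ ⟨φ', rfl⟩
    refine ⟨φ' ∘ₗ W φ, ?_⟩
    show ((β (φ' ∘ₗ W φ) : ↥(integralClosure A L)) : L) =
      ((algebraMap A L c)⁻¹ * (β φ : L)) * ((β φ' : ↥(integralClosure A L)) : L)
    have h2 : algebraMap A L c * ((β (φ' ∘ₗ W φ) : ↥(integralClosure A L)) : L) =
        (β φ : L) * (β φ' : L) := by
      have := congrArg Subtype.val (claimM φ φ')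
      rw [← Algebra.smul_def]
      exact this
    field_simp
    rw [← h2]; ring
  have hint : IsIntegral A ((algebraMap A L c)⁻¹ * (β φ : L)) :=
    isIntegral_of_smul_mem_submodule N₀ hN₀ne hN₀fg _ hx
  obtain ⟨bv, hbv⟩ : ∃ bv : ↥(integralClosure A L),
      (bv : L) = (algebraMap A L c)⁻¹ * (β φ : L) := ⟨⟨_, hint⟩, rfl⟩
  refine ⟨bv, ?_⟩
  have h3 : c • bv = β φ := by
    apply Subtype.ext
    show c • (bv : L) = _
    rw [hbv, Algebra.smul_def, ← mul_assoc, mul_inv_cancel₀ hcL, one_mul]
  ext ℓ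
  rw [Module.Dual.eval_apply]
  have h4 : c * ℓ bv = c * φ ℓ := by
    rw [hjβ φ ℓ, ← h3, map_smul, smul_eq_mul]
  exact mul_left_cancel₀ hc h4


end Groth.Agent.S6881
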