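import Groth.Statements.S6882
import Mathlib

set_option autoImplicit false
universe u
open CAlg

namespace Groth.Agent.S6882

/-- For a finite module `M` over a discrete valuation ring `R`, the evaluation map from `M` to its
double dual `M**` is surjective. -/
theorem result (R : Type u) [CommRing R] [IsDomain R]
    [IsDiscreteValuationRing R] (M : Type u) [AddCommGroup M] [Module R M] [Module.Finite R M] :
    Function.Surjective (Module.Dual.eval R M) := by
  intro ψ
  set T := Submodule.torsion R M with hT
  -- F = M / T is finite torsion-free over a PID, hence free, hence reflexive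
  have hfree : Module.Free R (M ⧸ T) := Module.free_of_finite_type_torsion_free'
  have hrefl : Module.IsReflexive R (M ⧸ T) := inferInstance
  -- every functional on M kills torsion
  have hkill : ∀ φ : Module.Dual R M, T ≤ LinearMap.ker φ := by
    intro φ t ht
    rw [LinearMap.mem_ker]
    rw [hT, Submodule.mem_torsion_iff] at ht
    obtain ⟨a, ha⟩ := ht
    have h1 : (a : R) • φ t = 0 := by
      rw [← map_smul]
      have : (a : R) • t = 0 := ha
      rw [this, map_zero]
    rcases smul_eq_zero.mp h1 with h | h
    · exact absurd h (nonZeroDivisors.ne_zero a.2)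
    · exact h
  -- pull ψ back to the double dual of F
  let ψ' : Module.Dual R (Module.Dual R (M ⧸ T)) := ψ ∘ₗ (LinearMap.dualMap T.mkQ)
  obtain ⟨f, hf⟩ := (Module.bijective_dual_eval R (M ⧸ T)).2 ψ'
  obtain ⟨m, rfl⟩ := Submodule.mkQ_surjective T f
  refine ⟨m, ?_⟩
  ext φ
  have hφ : φ = (T.liftQ φ (hkill φ)) ∘ₗ T.mkQ := by
    ext x; simp
  have h2 := LinearMap.congr_fun hf (T.liftQ φ (hkill φ))
  simp only [Module.Dual.eval_apply, ψ', LinearMap.coe_comp, Function.comp_apply] at h2
  rw [Module.Dual.eval_apply]
  have h3 : LinearMap.dualMap T.mkQ (T.liftQ φ (hkill φ)) = φ := by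
    ext x; simp
  rw [h3] at h2
  rw [← h2]
  simp

end Groth.Agent.S6882
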