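import Groth.Statements.S6884
import Groth.Agent.Lib.Helper3.FlatDescN
import Groth.Agent.S6883

set_option autoImplicit false
universe u
open TensorProduct
open CAlg

namespace Groth.Agent.S6884

open Groth.Agent.Lib.helper3.FlatDesc

/-- For an injective integral ring map `R → S` and `n ≥ 0`, let `M` be a module of finite presentation
over the polynomial ring `R[x_1, …, x_n]`. Then flatness of `S ⊗_R M` over `S` forces flatness of
`M` over `R`. -/
theorem result (R S : Type u) [CommRing R]
    [CommRing S] [Algebra R S] [Algebra.IsIntegral R S] (hinj : Function.Injective (algebraMap R S)) (n : ℕ)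
    (M : Type u) [AddCommGroup M] [Module (MvPolynomial (Fin n) R) M] [Module R M]
    [IsScalarTower R (MvPolynomial (Fin n) R) M] [Module.FinitePresentation (MvPolynomial (Fin n) R) M]
    [Module.Flat S (S ⊗[R] M)] : Module.Flat R M := by
  classical
  -- step 1: a concrete model of `M`
  obtain ⟨n', b, c, v, ⟨e⟩⟩ := exists_model_of_finitePresentation R (MvPolynomial (Fin n) R) M
  -- step 2: descend the relations to a finitely generated subring
  obtain ⟨R0, hR0, v0, rfl⟩ := exists_vmap_eq R n' v
  haveI : Algebra.FiniteType ℤ R0 := (Subalgebra.fg_iff_finiteType R0).mp hR0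
  haveI : IsNoetherianRing R0 := Algebra.FiniteType.isNoetherianRing ℤ R0
  -- step 3: the model over `S` is flat
  have hS : Module.Flat S ((Fin b → MvPolynomial (Fin n') S) ⧸ NB (vmap S (vmap R v0))) :=
    (flat_baseChange_iff_model (vmap R v0) e S).mp inferInstance
  rw [vmap_vmap v0 R] at hS
  -- step 4: flat over a finitely generated subalgebra of `S`
  obtain ⟨B, hB, hBflat⟩ := exists_fg_subalgebra_flat_model v0 hS
  obtain ⟨T, hT⟩ := hB
  -- step 5: enlarge `R0` so that the generators of `B` are integral
  have hint : ∀ t : S, IsIntegral R t := Algebra.IsIntegral.isIntegral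
  choose p hpm hp0 using hint
  let C : Finset R := T.biUnion fun t => (p t).coeffs
  let R1 : Subalgebra ℤ R := R0 ⊔ Algebra.adjoin ℤ (C : Set R)
  have hR1 : R1.FG := hR0.sup (Subalgebra.fg_adjoin_finset C)
  have hR01 : R0 ≤ R1 := le_sup_left
  have hC1 : (C : Set R) ⊆ R1 := fun x hx =>
    (le_sup_right : Algebra.adjoin ℤ (C : Set R) ≤ R1) (Algebra.subset_adjoin hx)
  haveI : Algebra.FiniteType ℤ R1 := (Subalgebra.fg_iff_finiteType R1).mp hR1
  haveI : IsNoetherianRing R1 := Algebra.FiniteType.isNoetherianRing ℤ R1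
  letI alg01 : Algebra R0 R1 := (Subalgebra.inclusion hR01).toRingHom.toAlgebra
  haveI : IsScalarTower R0 R1 R := IsScalarTower.of_algebraMap_eq fun _ => rfl
  haveI : IsScalarTower R0 R1 S := IsScalarTower.of_algebraMap_eq fun _ => rfl
  have hintT : ∀ t ∈ (T : Set S), IsIntegral R1 t := by
    intro t ht
    have hl : p t ∈ Polynomial.lifts (algebraMap R1 R) := by
      rw [Polynomial.lifts_iff_coeffs_subset_range]
      intro x hx
      have hxC : x ∈ (C : Set R) := by
        simp only [C, Finset.coe_biUnion, Set.mem_iUnion]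
        exact ⟨t, ht, hx⟩
      exact ⟨⟨x, hC1 hxC⟩, rfl⟩
    obtain ⟨q, hq, -, hqm⟩ := Polynomial.lifts_and_natDegree_eq_and_monic hl (hpm t)
    refine ⟨q, hqm, ?_⟩
    have := hp0 t
    rw [← hq, Polynomial.eval₂_map] at this
    exact this
  let S1 : Subalgebra R1 S := Algebra.adjoin R1 (T : Set S)
  haveI : Module.Finite R1 S1 :=
    Module.Finite.of_fg (fg_adjoin_of_finite T.finite_toSet hintT)
  haveI : IsNoetherianRing S1 := Algebra.FiniteType.isNoetherianRing R1 S1
  have hinj1 : Function.Injective (algebraMap R1 S1) := by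
    intro x y hxy
    have h1 : algebraMap R S (x : R) = algebraMap R S (y : R) := congrArg Subtype.val hxy
    exact Subtype.ext (hinj h1)
  -- `B ⊆ S1`
  have hBS1 : ∀ x : B, (x : S) ∈ S1 := by
    intro x
    have hle : B ≤ S1.restrictScalars R0 := by
      rw [← hT]
      exact Algebra.adjoin_le (fun t ht => Algebra.subset_adjoin ht)
    exact hle x.2
  letI algBS1 : Algebra B S1 := (RingHom.codRestrict B.val.toRingHom S1 hBS1).toAlgebra
  haveI : IsScalarTower R0 B S1 := IsScalarTower.of_algebraMap_eq fun _ => rfl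
  haveI : IsScalarTower R0 R1 S1 := IsScalarTower.of_algebraMap_eq fun _ => rfl
  -- flatness over `S1`
  have hS1 := flat_model_baseChange (B' := S1) (vmap B v0) hBflat
  rw [vmap_vmap v0 B] at hS1
  rw [← vmap_vmap v0 R1] at hS1
  haveI : Module.Flat S1 (S1 ⊗[R1] ((Fin b → MvPolynomial (Fin n') R1) ⧸ NB (vmap R1 v0))) :=
    Module.Flat.of_linearEquiv (modelBaseChangeEquiv (B' := S1) (vmap R1 v0))
  -- step 6: the Noetherian finite case
  have hR1flat : Module.Flat R1 ((Fin b → MvPolynomial (Fin n') R1) ⧸ NB (vmap R1 v0)) :=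
    Groth.Agent.S6883.result R1 S1 hinj1 _
  -- step 7: base change to `R`
  have hRflat := flat_model_baseChange (B' := R) (vmap R1 v0) hR1flat
  rw [vmap_vmap v0 R1] at hRflat
  exact Module.Flat.of_linearEquiv e

end Groth.Agent.S6884
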