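import Groth.Statements.S6886
import Mathlib


set_option autoImplicit false
universe u
open TensorProduct
open CAlg

namespace Groth.Agent.S6886

set_option linter.style.haveILetI false
open Polynomial

theorem phiX (R S R' : Type u) [CommRing R] [CommRing S] [Algebra R S] [CommRing R'] [Algebra R R']
    (n : ℕ) (f : MvPolynomial (Fin n) R →ₐ[R] S) (i : Fin n) :
    ((Algebra.TensorProduct.map (AlgHom.id R' R') f).comp
        (MvPolynomial.algebraTensorAlgEquiv R R').symm.toAlgHom) (MvPolynomial.X i) =
      1 ⊗ₜ f (MvPolynomial.X i) := by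
  rw [AlgHom.comp_apply]
  erw [MvPolynomial.algebraTensorAlgEquiv_symm_X]
  rw [Algebra.TensorProduct.map_tmul]
  rfl

theorem main (R S : Type u) [CommRing R] [CommRing S] [Algebra R S]
    [Module.Finite R S] :
    ∃ (R' : Type u) (_ : CommRing R') (_ : Algebra R R'), Module.Finite R R' ∧ Module.Free R R' ∧
      Function.Injective (algebraMap R R') ∧
      ∃ (n : ℕ) (d : Fin n → ℕ) (α : (i : Fin n) → Fin (d i) → R')
        (φ : MvPolynomial (Fin n) R' →ₐ[R'] R' ⊗[R] S), Function.Surjective φ ∧
          ∀ i, φ (∏ j, (MvPolynomial.X i - MvPolynomial.C (α i j))) = 0 := by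
  rcases subsingleton_or_nontrivial R with hR | hR
  · haveI : Subsingleton (R ⊗[R] S) := Module.subsingleton R _
    refine ⟨R, inferInstance, Algebra.id R, inferInstance, inferInstance, Function.injective_id, 0,
      Fin.elim0, fun i => i.elim0, MvPolynomial.aeval (fun i => i.elim0), ?_, fun i => i.elim0⟩
    intro x; exact ⟨0, Subsingleton.elim _ _⟩
  · obtain ⟨n, f, hf⟩ := Algebra.FiniteType.iff_quotient_mvPolynomial''.mp
      (inferInstance : Algebra.FiniteType R S)
    have hint : ∀ i, IsIntegral R (f (MvPolynomial.X i)) := fun i => Algebra.IsIntegral.isIntegral _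
    choose P hPm hP using hint
    set Q := ∏ i, P i with hQdef
    have hQm : Q.Monic := monic_prod_of_monic _ _ (fun i _ => hPm i)
    have hQ : ∀ i, aeval (f (MvPolynomial.X i)) Q = 0 := by
      intro i
      rw [map_prod]
      exact Finset.prod_eq_zero (Finset.mem_univ i) (hP i)
    obtain ⟨R', _, _, hfin, hfree, hnt, hsplit⟩ := hQm.exists_splits_map
    obtain ⟨m, hm⟩ := splits_iff_exists_multiset.mp hsplit
    rw [(hQm.map _).leadingCoeff, C_1, one_mul] at hm
    have hinj : Function.Injective (algebraMap R R') := FaithfulSMul.algebraMap_injective R R'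
    let l := m.toList
    have hl : Q.map (algebraMap R R') = ∏ j : Fin l.length, (X - C (l.get j)) := by
      rw [hm, ← List.prod_ofFn]
      have : (List.ofFn fun j : Fin l.length => (X - C (l.get j) : R'[X])) =
          l.map (fun a => X - C a) := by
        conv_rhs => rw [← List.ofFn_get l, List.map_ofFn]
        rfl
      rw [this, ← Multiset.prod_coe, ← Multiset.map_coe, Multiset.coe_toList]
    let φ : MvPolynomial (Fin n) R' →ₐ[R'] R' ⊗[R] S :=
      (Algebra.TensorProduct.map (AlgHom.id R' R') f).comp
        (MvPolynomial.algebraTensorAlgEquiv R R').symm.toAlgHom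
    have hφX : ∀ i, φ (MvPolynomial.X i) = 1 ⊗ₜ f (MvPolynomial.X i) := by
      intro i
      exact phiX R S R' n f i
    refine ⟨R', inferInstance, inferInstance, hfin, hfree, hinj, n, fun _ => l.length,
      fun _ j => l.get j, φ, ?_, ?_⟩
    · have h1 : Function.Surjective (Algebra.TensorProduct.map (AlgHom.id R' R') f) :=
        Algebra.TensorProduct.map_surjective _ _ Function.surjective_id hf
      exact h1.comp (MvPolynomial.algebraTensorAlgEquiv R R').symm.surjective
    · intro i
      have h1 : (∏ j : Fin l.length, (MvPolynomial.X i - MvPolynomial.C (l.get j)) :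
          MvPolynomial (Fin n) R') = aeval (MvPolynomial.X i) (Q.map (algebraMap R R')) := by
        rw [hl, map_prod]
        simp [MvPolynomial.algebraMap_eq]
      rw [h1, ← Polynomial.aeval_algHom_apply, hφX, Polynomial.aeval_map_algebraMap]
      have h2 : (1 : R') ⊗ₜ[R] f (MvPolynomial.X i) =
          (Algebra.TensorProduct.includeRight : S →ₐ[R] R' ⊗[R] S) (f (MvPolynomial.X i)) := rfl
      rw [h2, Polynomial.aeval_algHom_apply, hQ, map_zero]



/-- Let `R → S` be a finite ring map. One can find an extension `R ⊆ R'` of rings, with `R'` finite and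
free as an `R`-module, for which the ring `S ⊗_R R'` arises as a quotient of `R'[T_1, …,
T_n]/(P_1(T_1), …, P_n(T_n))` with each `P_i(T) = ∏_j (T - α_{ij})` a product of linear factors over
`R'`. -/
theorem result (R S : Type u) [CommRing R] [CommRing S] [Algebra R S]
    [Module.Finite R S] :
    ∃ (R' : Type u) (_ : CommRing R') (_ : Algebra R R'), Module.Finite R R' ∧ Module.Free R R' ∧
      Function.Injective (algebraMap R R') ∧
      ∃ (n : ℕ) (d : Fin n → ℕ) (α : (i : Fin n) → Fin (d i) → R')
        (φ : MvPolynomial (Fin n) R' →ₐ[R'] R' ⊗[R] S), Function.Surjective φ ∧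
          ∀ i, φ (∏ j, (MvPolynomial.X i - MvPolynomial.C (α i j))) = 0 := by
  exact main R S

end Groth.Agent.S6886
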