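import Groth.Statements.S6887
import Mathlib.LinearAlgebra.Matrix.Charpoly.LinearMap
import Mathlib.RingTheory.Nakayama
import Mathlib.RingTheory.Finiteness.Defs
import Mathlib.Tactic.Ring

set_option autoImplicit false
universe u
open Polynomial
open CAlg

namespace Groth.Agent.S6887

/-- Let `(A, I)` be a Zariski pair (`I` inside the Jacobson radical) and `A → B` a finite ring map.
Suppose `B/IB ≅ B₁ × B₂` as `A`-algebras with `A → B₁` surjective, and `b ∈ B` maps to `(1, 0)`.
Then there is a monic `f ∈ A[x]` with `f(b) = 0` whose reduction modulo `I` is `(x - 1) x^d` for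
some `d ≥ 1`. -/
theorem result (A B : Type u) [CommRing A] [CommRing B]
    [Algebra A B] [Module.Finite A B] (I : Ideal A) (hI : I ≤ Ideal.jacobson (⊥ : Ideal A))
    (B₁ B₂ : Type u) [CommRing B₁] [CommRing B₂] [Algebra A B₁] [Algebra A B₂]
    (e : (B ⧸ I.map (algebraMap A B)) ≃ₐ[A] B₁ × B₂) (h₁ : Function.Surjective (algebraMap A B₁)) (b : B)
    (hb : e (Ideal.Quotient.mk (I.map (algebraMap A B)) b) = (1, 0)) :
    ∃ (f : A[X]) (d : ℕ), f.Monic ∧ Polynomial.aeval b f = 0 ∧ 1 ≤ d ∧
      f.map (Ideal.Quotient.mk I) = (X - 1) * X ^ d := by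
  classical
  let J : Ideal B := I.map (algebraMap A B)
  -- the ring hom `B → B₁ × B₂`
  let E : B →+* B₁ × B₂ := (e : (B ⧸ J) →+* B₁ × B₂).comp (Ideal.Quotient.mk J)
  have hEb : E b = (1, 0) := hb
  have hEalg : ∀ a : A, E (algebraMap A B a) = algebraMap A (B₁ × B₂) a := by
    intro a
    change e (algebraMap A (B ⧸ J) a) = _
    exact e.commutes a
  have hker : ∀ z : B, E z = 0 → z ∈ J := by
    intro z hz
    have h1 : Ideal.Quotient.mk J z = 0 := by
      apply e.injective
      rw [map_zero]
      exact hz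
    exact Ideal.Quotient.eq_zero_iff_mem.1 h1
  have hJtop : ∀ z : B, z ∈ J → z ∈ (I • ⊤ : Submodule A B) := by
    intro z hz
    rw [Ideal.smul_top_eq_map]
    exact hz
  have hbb : b * b - b ∈ J := by
    apply hker
    rw [map_sub, map_mul, hEb]
    ext <;> simp
  -- Nakayama: `B = A b + (1 - b) B`
  let N : Submodule A B := Submodule.span A {b} ⊔ LinearMap.range (LinearMap.mulLeft A (1 - b))
  have hN : (⊤ : Submodule A B) ≤ N := by
    apply Submodule.le_of_le_smul_of_le_jacobson_bot Module.Finite.fg_top hI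
    intro x _
    obtain ⟨a, ha⟩ := h₁ (E x).1
    have hx : x = (algebraMap A B a * b + (1 - b) * x) +
        (x - algebraMap A B a * b - (1 - b) * x) := by ring
    rw [hx]
    apply Submodule.add_mem_sup
    · apply Submodule.add_mem_sup
      · rw [← Algebra.smul_def]
        exact Submodule.smul_mem _ _ (Submodule.mem_span_singleton_self b)
      · exact ⟨x, rfl⟩
    · apply hJtop
      apply hker
      rw [map_sub, map_sub, map_mul, map_mul, map_sub, map_one, hEb, hEalg]
      ext
      · simp [ha]
      · simp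
  -- generators
  obtain ⟨n, x, hx⟩ := Module.Finite.exists_fin (R := A) (M := B)
  let w : Fin (n + 1) → B := Fin.cons 1 x
  let y : Fin (n + 2) → B := Fin.cons b (fun i => (1 - b) * w i)
  have hy0 : y 0 = b := rfl
  have hys : ∀ i : Fin (n + 1), y i.succ = (1 - b) * w i := fun i => rfl
  have hw : Submodule.span A (Set.range w) = ⊤ := by
    rw [eq_top_iff, ← hx]
    apply Submodule.span_mono
    rintro _ ⟨i, rfl⟩
    exact ⟨i.succ, rfl⟩
  have hy : Submodule.span A (Set.range y) = ⊤ := by
    rw [eq_top_iff]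
    refine hN.trans (sup_le ?_ ?_)
    · rw [Submodule.span_singleton_le_iff_mem]
      exact Submodule.subset_span ⟨0, rfl⟩
    · rw [LinearMap.range_eq_map, ← hw, Submodule.map_span]
      apply Submodule.span_mono
      rintro _ ⟨_, ⟨i, rfl⟩, rfl⟩
      exact ⟨i.succ, rfl⟩
  -- the matrix
  let d : Fin (n + 2) → A := fun i => if i = 0 then 1 else 0
  have hz : ∀ j : Fin (n + 2), b * y j - d j • y j ∈ (I • Submodule.span A (Set.range y)) := by
    intro j
    rw [hy]
    apply hJtop
    refine Fin.cases ?_ (fun i => ?_) j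
    · simpa [d, hy0] using hbb
    · have : b * y i.succ - d i.succ • y i.succ = -((b * b - b) * w i) := by
        simp only [d, Fin.succ_ne_zero, if_false, zero_smul, sub_zero, hys]
        ring
      rw [this]
      exact J.neg_mem (J.mul_mem_right _ hbb)
  have hc : ∀ j : Fin (n + 2), ∃ c : Fin (n + 2) → A, (∀ i, c i ∈ I) ∧
      ∑ i, c i • y i = b * y j - d j • y j := by
    intro j
    obtain ⟨c, hcI, hcs⟩ := (Submodule.mem_ideal_smul_span_iff_exists_sum I y _).1 (hz j)
    refine ⟨c, hcI, ?_⟩
    rw [← hcs, Finsupp.sum_fintype]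
    intro i
    exact zero_smul _ _
  choose c hcI hcs using hc
  let Mat : Matrix (Fin (n + 2)) (Fin (n + 2)) A := Matrix.diagonal d + Matrix.of (fun i j => c j i)
  have hrep : Mat.Represents y (Algebra.lmul A B b) := by
    rw [Matrix.represents_iff']
    intro j
    simp only [Mat, Matrix.add_apply, Matrix.of_apply, add_smul, Finset.sum_add_distrib, hcs j]
    have : ∑ i, Matrix.diagonal d i j • y i = d j • y j := by
      rw [Finset.sum_eq_single j]
      · rw [Matrix.diagonal_apply_eq]
      · intro i _ hij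
        rw [Matrix.diagonal_apply_ne _ hij, zero_smul]
      · intro h; exact absurd (Finset.mem_univ j) h
    rw [this]
    simp
  let A' : Matrix.isRepresentation A y := ⟨Mat, Algebra.lmul A B b, hrep⟩
  have htoEnd : Matrix.isRepresentation.toEnd A y hy A' = Algebra.lmul A B b :=
    Matrix.isRepresentation.eq_toEnd_of_represents A y hy A' hrep
  have h0 : Polynomial.aeval (Algebra.lmul A B b) Mat.charpoly = 0 := by
    rw [← htoEnd, Polynomial.aeval_algHom_apply,
      ← map_zero (Matrix.isRepresentation.toEnd A y hy)]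
    congr 1
    ext1
    rw [Polynomial.aeval_subalgebra_coe, Matrix.aeval_self_charpoly, Subalgebra.coe_zero]
  have h1 : Algebra.lmul A B (Polynomial.aeval b Mat.charpoly) = 0 := by
    rw [← Polynomial.aeval_algHom_apply]; exact h0
  have h2 : Polynomial.aeval b Mat.charpoly = 0 := by
    simpa using LinearMap.congr_fun h1 1
  refine ⟨Mat.charpoly, n + 1, Matrix.charpoly_monic _, h2, Nat.le_add_left 1 n, ?_⟩
  rw [← Matrix.charpoly_map]
  have hmap : Mat.map (Ideal.Quotient.mk I) =
      Matrix.diagonal (fun i : Fin (n + 2) => if i = 0 then (1 : A ⧸ I) else 0) := by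
    ext i j
    simp only [Mat, Matrix.map_apply, Matrix.add_apply, Matrix.of_apply, map_add,
      Ideal.Quotient.eq_zero_iff_mem.2 (hcI j i), add_zero, Matrix.diagonal_apply, d]
    split_ifs <;> simp
  rw [hmap, Matrix.charpoly_diagonal, Fin.prod_univ_succ]
  simp [Fin.succ_ne_zero]

end Groth.Agent.S6887
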