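import Groth.Statements.S6888
import Groth.Agent.Lib.Helper2.Henselian
import Mathlib.Algebra.Polynomial.Derivative
import Mathlib.Algebra.BigOperators.Ring.Finset
import Mathlib.Tactic.Ring
import Mathlib.Tactic.LinearCombination

set_option autoImplicit false
universe u
open Polynomial
open CAlg

namespace Groth.Agent.S6888


section aux

variable {A : Type*} [CommRing A]

/-- Idempotents congruent modulo an ideal in the Jacobson radical are equal. -/
lemma idem_eq_of_sub_mem {J : Ideal A} (hJ : J ≤ Ideal.jacobson ⊥) {e e' : A}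
    (he : IsIdempotentElem e) (he' : IsIdempotentElem e') (h : e - e' ∈ J) : e = e' := by
  have he2 : e * e = e := he
  have he2' : e' * e' = e' := he'
  have h3 : (e - e') * (1 + -((e - e') * (e - e'))) = 0 := by
    linear_combination (-(e + 1 - 3 * e')) * he2 + (-(3 * e - e' - 1)) * he2'
  have hu : IsUnit (1 + -((e - e') * (e - e'))) :=
    Groth.Agent.Lib.helper2.isUnit_add_of_mem_jacobson hJ isUnit_one
      (J.neg_mem (J.mul_mem_left _ h))
  exact sub_eq_zero.1 ((IsUnit.mul_left_eq_zero hu).1 h3)

end aux

/-- Core of the argument, with the roots indexed by `Fin n`. -/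
lemma core (A : Type u) [CommRing A] (I : Ideal A) (hI : I ≤ Ideal.jacobson (⊥ : Ideal A))
    (hidem : ∀ e : A ⧸ I, IsIdempotentElem e →
      ∃ e' : A, IsIdempotentElem e' ∧ Ideal.Quotient.mk I e' = e)
    (n : ℕ) (a : Fin n → A) (a₀ : A)
    (h0 : (∏ i, (X - C (a i))).eval a₀ ∈ I)
    (h1 : IsUnit ((∏ i, (X - C (a i))).derivative.eval a₀)) :
    ∃ r : A, (∏ i, (X - C (a i))).IsRoot r ∧ r - a₀ ∈ I := by
  classical
  set π := Ideal.Quotient.mk I with hπ
  set b : Fin n → A := fun i => a₀ - a i with hb
  set P : A := ∏ i, b i with hP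
  set c : Fin n → A := fun j => ∏ i ∈ Finset.univ.erase j, b i with hc
  have hPI : P ∈ I := by
    have : (∏ i, (X - C (a i))).eval a₀ = P := by
      rw [eval_prod]; simp [hP, hb]
    rwa [this] at h0
  have hD : (∏ i, (X - C (a i))).derivative.eval a₀ = ∑ j, c j := by
    rw [derivative_prod_finset, eval_finsetSum]
    refine Finset.sum_congr rfl fun j _ => ?_
    rw [eval_mul, eval_prod]
    simp [hc, hb]
  rw [hD] at h1
  obtain ⟨v, hv⟩ := h1.exists_right_inv
  have hcb : ∀ j, c j * b j = P := fun j => by
    rw [mul_comm]; exact Finset.mul_prod_erase Finset.univ b (Finset.mem_univ j)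
  have hcc : ∀ j k, j ≠ k → c j * c k ∈ I := by
    intro j k hjk
    obtain ⟨t, ht⟩ : b j ∣ c k :=
      Finset.dvd_prod_of_mem b (Finset.mem_erase.2 ⟨hjk, Finset.mem_univ j⟩)
    rw [ht, ← mul_assoc, hcb j]
    exact I.mul_mem_right _ hPI
  set ε : Fin n → A ⧸ I := fun j => π (c j * v) with hε
  have hεsum : ∑ j, ε j = 1 := by
    simp only [hε]
    rw [← map_sum, ← Finset.sum_mul, hv, map_one]
  have hεorth : ∀ j k, j ≠ k → ε j * ε k = 0 := by
    intro j k hjk
    simp only [hε]
    rw [← map_mul, hπ, Ideal.Quotient.eq_zero_iff_mem]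
    have : c j * v * (c k * v) = c j * c k * (v * v) := by ring
    rw [this]
    exact I.mul_mem_right _ (hcc j k hjk)
  have hεidem : ∀ j, IsIdempotentElem (ε j) := by
    intro j
    have : ε j = ε j * ∑ k, ε k := by rw [hεsum, mul_one]
    rw [Finset.mul_sum, Finset.sum_eq_single j (fun k _ hk => hεorth j k hk.symm)
      (fun h => absurd (Finset.mem_univ j) h)] at this
    exact this.symm
  choose e he using fun j => hidem (ε j) (hεidem j)
  have heorth : ∀ j k, j ≠ k → e j * e k = 0 := by
    intro j k hjk
    refine idem_eq_of_sub_mem hI ((he j).1.mul (he k).1) IsIdempotentElem.zero ?_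
    rw [sub_zero, ← Ideal.Quotient.eq_zero_iff_mem, map_mul]
    change π (e j) * π (e k) = 0
    rw [(he j).2, (he k).2, hεorth j k hjk]
  have hesq : ∀ j, e j * e j = e j := fun j => (he j).1
  have hesum : ∑ j, e j = 1 := by
    have hid : IsIdempotentElem (∑ j, e j) := by
      unfold IsIdempotentElem
      rw [Finset.sum_mul]
      refine Finset.sum_congr rfl fun j _ => ?_
      rw [Finset.mul_sum, Finset.sum_eq_single j (fun k _ hk => heorth j k hk.symm)
        (fun h => absurd (Finset.mem_univ j) h), hesq]
    refine idem_eq_of_sub_mem hI hid IsIdempotentElem.one ?_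
    rw [← Ideal.Quotient.eq_zero_iff_mem, map_sub, map_sum, map_one]
    change ∑ j, π (e j) - 1 = 0
    rw [Finset.sum_congr rfl fun j _ => (he j).2, hεsum, sub_self]
  set r : A := ∑ j, e j * a j with hr
  have hej : ∀ j, e j * (r - a j) = 0 := by
    intro j
    rw [hr, mul_sub, Finset.mul_sum, Finset.sum_eq_single j
      (fun k _ hk => by rw [← mul_assoc, heorth j k hk.symm, zero_mul])
      (fun h => absurd (Finset.mem_univ j) h), ← mul_assoc, hesq, sub_self]
  refine ⟨r, ?_, ?_⟩
  · rw [IsRoot, eval_prod]
    have : ∀ i, (X - C (a i)).eval r = r - a i := fun i => by simp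
    simp only [this]
    calc ∏ i, (r - a i) = (∑ j, e j) * ∏ i, (r - a i) := by rw [hesum, one_mul]
      _ = ∑ j, e j * ∏ i, (r - a i) := Finset.sum_mul _ _ _
      _ = 0 := Finset.sum_eq_zero fun j _ => by
          rw [← Finset.mul_prod_erase Finset.univ _ (Finset.mem_univ j), ← mul_assoc, hej j,
            zero_mul]
  · rw [← Ideal.Quotient.eq_zero_iff_mem]
    change π (r - a₀) = 0
    have h1' : π a₀ = ∑ j, ε j * π a₀ := by rw [← Finset.sum_mul, hεsum, one_mul]
    rw [map_sub, hr, map_sum, h1', ← Finset.sum_sub_distrib]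
    refine Finset.sum_eq_zero fun j _ => ?_
    rw [map_mul, (he j).2, ← mul_sub, ← map_sub]
    simp only [hε]
    rw [← map_mul, hπ, Ideal.Quotient.eq_zero_iff_mem]
    have : c j * v * (a j - a₀) = -(c j * b j) * v := by simp only [hb]; ring
    rw [this, hcb j]
    exact I.mul_mem_right _ (I.neg_mem hPI)

/-- Let `A` be absolutely integrally closed (every monic polynomial over `A` is a product of linear
factors) and `I ⊆ A` an ideal contained in the Jacobson radical such that `A → A/I` is surjective
(hence bijective) on idempotents. Then `(A, I)` is a henselian pair. (The published statement also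
records the converse, which holds for every henselian pair; this row states the sufficiency only.) -/
theorem result (A : Type u) [CommRing A]
    (hA : ∀ f : A[X], f.Monic → ∃ s : Multiset A, f = (s.map fun a => X - C a).prod) (I : Ideal A)
    (hI : I ≤ Ideal.jacobson (⊥ : Ideal A))
    (hidem : ∀ e : A ⧸ I, IsIdempotentElem e → ∃ e' : A, IsIdempotentElem e' ∧ Ideal.Quotient.mk I e' = e) :
    HenselianRing A I := by
  rw [Groth.Agent.Lib.helper2.henselianRing_iff]
  refine ⟨hI, fun f hf a₀ h0 h1 => ?_⟩
  obtain ⟨s, hs⟩ := hA f hf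
  obtain ⟨l, rfl⟩ := Quot.exists_rep s
  have hl : f = ∏ i : Fin l.length, (X - C (l.get i)) := by
    rw [hs]
    have : (l : Multiset A) = Multiset.map (fun i : Fin l.length => l.get i) Finset.univ.val := by
      rw [Fin.univ_val_map, List.ofFn_get]
    change (Multiset.map (fun a => X - C a) (l : Multiset A)).prod = _
    rw [this, Multiset.map_map]
    rfl
  rw [hl] at h0 h1 ⊢
  exact core A I hI hidem l.length (fun i => l.get i) a₀ h0 h1

end Groth.Agent.S6888
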