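import Groth.Statements.S6894
import Mathlib
import Groth.Agent.Lib.Helper15.FittLink

set_option autoImplicit false
universe u
open TensorProduct
open Fitt

namespace Groth.Agent.S6894

/-- Let `M` be a finite `R`-module, `k ≥ 0` and `𝔭 ⊆ R` a prime. Then each of the following conditions
implies all the others: the Fitting ideal `Fit_k(M)` is not contained in `𝔭`; the fiber `M ⊗_R κ(𝔭)`
has dimension at most `k` over `κ(𝔭)`; some `k` elements span the localization `M_𝔭` over `R_𝔭`; and
for some `f ∉ 𝔭`, the module `M_f` is spanned over `R_f` by `k` elements. -/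
theorem result {R : Type u} [CommRing R] (M : Type u) [AddCommGroup M] [Module R M]
    [Module.Finite R M] (k : ℕ) (p : Ideal R) [p.IsPrime] :
    (¬ Fitt.ideal R M k ≤ p ↔ Module.finrank p.ResidueField (p.ResidueField ⊗[R] M) ≤ k) ∧
    (¬ Fitt.ideal R M k ≤ p ↔
      ∃ g : Fin k → LocalizedModule p.primeCompl M, Submodule.span (Localization.AtPrime p) (Set.range g) = ⊤) ∧
    (¬ Fitt.ideal R M k ≤ p ↔ ∃ f : R, f ∉ p ∧
      ∃ g : Fin k → LocalizedModule (Submonoid.powers f) M,
        Submodule.span (Localization.Away f) (Set.range g) = ⊤) := by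
  classical
  refine ⟨?_, ?_, ?_⟩
  · -- fibre dimension
    have h1 : Fitt.ideal p.ResidueField (TensorProduct R p.ResidueField M) k =
        (Fitt.ideal R M k).map (algebraMap R p.ResidueField) :=
      Groth.Agent.Lib.helper15.FittLink.fitt_baseChange k
    have h2 : (Fitt.ideal R M k).map (algebraMap R p.ResidueField) = ⊥ ↔ Fitt.ideal R M k ≤ p := by
      rw [Ideal.map_eq_bot_iff_le_ker, Ideal.ker_algebraMap_residueField]
    let b := Module.finBasis p.ResidueField (TensorProduct R p.ResidueField M)
    rw [← h2, ← h1]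
    constructor
    · intro h
      by_contra hlt
      push Not at hlt
      exact h (Groth.Agent.Lib.helper15.FittLink.fitt_eq_bot_of_basis b hlt)
    · intro hle h
      have htop := Groth.Agent.Lib.helper15.FittLink.fitt_eq_top_of_basis b hle
      rw [h] at htop
      exact bot_ne_top htop
  · constructor
    · intro h
      obtain ⟨d, hdp, -, g, hg⟩ :=
        Groth.Agent.Lib.helper15.FittLink.exists_smul_mem_span_of_not_le k p h
      exact ⟨_, Groth.Agent.Lib.helper15.FittLink.span_localizedModule_eq_top p.primeCompl g d hdp hg⟩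
    · rintro ⟨g, hg⟩ hle
      obtain ⟨s, hs, hs'⟩ :=
        Groth.Agent.Lib.helper15.FittLink.exists_mem_fitt_of_span_localizedModule p.primeCompl g hg
      exact hs (hle hs')
  · constructor
    · intro h
      obtain ⟨d, hdp, -, g, hg⟩ :=
        Groth.Agent.Lib.helper15.FittLink.exists_smul_mem_span_of_not_le k p h
      exact ⟨d, hdp, _, Groth.Agent.Lib.helper15.FittLink.span_localizedModule_eq_top
        (Submonoid.powers d) g d (Submonoid.mem_powers d) hg⟩
    · rintro ⟨f, hfp, g, hg⟩ hle
      obtain ⟨s, ⟨n, rfl⟩, hs'⟩ :=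
        Groth.Agent.Lib.helper15.FittLink.exists_mem_fitt_of_span_localizedModule
          (Submonoid.powers f) g hg
      exact hfp (Ideal.IsPrime.mem_of_pow_mem inferInstance n (hle hs'))

end Groth.Agent.S6894
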