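import Groth.Statements.S6898
import Mathlib

set_option autoImplicit false
universe u
open TensorProduct
open CAlg

namespace Groth.Agent.S6898

section helpers
open IsLocalRing TensorProduct

variable {A : Type u} [CommRing A] [IsLocalRing A] {M N : Type u}
    [AddCommGroup M] [Module A M] [AddCommGroup N] [Module A N]

lemma tmul_eq_zero_of_mem (n : N) (h : n ∈ maximalIdeal A • (⊤ : Submodule A N)) :
    (1 : ResidueField A) ⊗ₜ[A] n = 0 := by
  refine Submodule.smul_induction_on (p := fun n => (1 : ResidueField A) ⊗ₜ[A] n = 0) h ?_ ?_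
  · intro r hr n _
    rw [← TensorProduct.smul_tmul]
    have : r • (1 : ResidueField A) = 0 := by
      rw [Algebra.smul_def, mul_one]
      exact (IsLocalRing.residue_eq_zero_iff r).mpr hr
    rw [this, TensorProduct.zero_tmul]
  · intro a b ha hb
    rw [TensorProduct.tmul_add, ha, hb, add_zero]

lemma mem_of_tmul_eq_zero (m : M) (h : (1 : ResidueField A) ⊗ₜ[A] m = 0) :
    m ∈ maximalIdeal A • (⊤ : Submodule A M) := by
  have h1 := TensorProduct.quotTensorEquivQuotSMul_mk_tmul (M := M) (maximalIdeal A) 1 m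
  rw [map_one, one_smul] at h1
  have h2 : (TensorProduct.quotTensorEquivQuotSMul M (maximalIdeal A)) ((1 : A ⧸ maximalIdeal A) ⊗ₜ[A] m) = 0 := by
    have : ((1 : A ⧸ maximalIdeal A) ⊗ₜ[A] m : (A ⧸ maximalIdeal A) ⊗[A] M) = 0 := h
    rw [this, map_zero]
  rw [h2] at h1
  exact (Submodule.Quotient.mk_eq_zero _).mp h1.symm

lemma mem_of_map_mem (u : M →ₗ[A] N)
    (hu : Function.Injective (u.baseChange (ResidueField A))) (m : M)
    (h : u m ∈ maximalIdeal A • (⊤ : Submodule A N)) :
    m ∈ maximalIdeal A • (⊤ : Submodule A M) := by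
  apply mem_of_tmul_eq_zero
  apply hu
  rw [LinearMap.baseChange_tmul, map_zero]
  exact tmul_eq_zero_of_mem _ h

lemma exists_sum_of_mem_span_smul (s : Finset A) (z : M)
    (hz : z ∈ (Ideal.span (s : Set A)) • (⊤ : Submodule A M)) :
    ∃ m : A → M, z = ∑ a ∈ s, a • m a := by
  refine Submodule.smul_induction_on (p := fun z => ∃ m : A → M, z = ∑ a ∈ s, a • m a) hz ?_ ?_
  · intro r hr n _
    obtain ⟨f, -, hf⟩ := (Submodule.mem_span_finset (R := A)).mp hr
    refine ⟨fun a => f a • n, ?_⟩
    rw [← hf, Finset.sum_smul]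
    apply Finset.sum_congr rfl
    intro a _
    rw [smul_eq_mul, mul_smul, smul_comm]
  · rintro z z' ⟨m, hm⟩ ⟨m', hm'⟩
    refine ⟨fun a => m a + m' a, ?_⟩
    rw [hm, hm', ← Finset.sum_add_distrib]
    apply Finset.sum_congr rfl
    intro a _
    rw [smul_add]


lemma key [Module.Flat A N] (u : M →ₗ[A] N)
    (hu : Function.Injective (u.baseChange (ResidueField A))) (x : M) (I J : Ideal A)
    (hxI : x ∈ I • (⊤ : Submodule A M))
    (hmin : ∀ J', x ∈ J' • (⊤ : Submodule A M) → I ≤ J') (hIfg : I.FG)
    (hJ : u x ∈ J • (⊤ : Submodule A N)) :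
    ∀ s : Finset A, (∀ a ∈ s, a ∈ I) → I ≤ Ideal.span (s : Set A) ⊔ (I ⊓ J) → I ≤ J := by
  classical
  intro s
  induction s using Finset.strongInduction with
  | H s ih =>
    intro hsI hspan
    -- decompose x
    have hx1 : x ∈ (Ideal.span (s : Set A) ⊔ (I ⊓ J)) • (⊤ : Submodule A M) :=
      Submodule.smul_mono_left hspan hxI
    rw [Submodule.sup_smul, Submodule.mem_sup] at hx1
    obtain ⟨x₁, hx₁, y, hy, hxy⟩ := hx1
    obtain ⟨m, hm⟩ := exists_sum_of_mem_span_smul s x₁ hx₁
    -- image
    have huy : u y ∈ J • (⊤ : Submodule A N) := by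
      have h1 : u y ∈ ((I ⊓ J) • (⊤ : Submodule A M)).map u := Submodule.mem_map_of_mem hy
      rw [Submodule.map_smul''] at h1
      exact Submodule.smul_mono inf_le_right le_top h1
    have hw : ∑ a ∈ s, a • u (m a) ∈ J • (⊤ : Submodule A N) := by
      have h1 : u x = ∑ a ∈ s, a • u (m a) + u y := by
        rw [← hxy, map_add, hm, map_sum]
        congr 1
        apply Finset.sum_congr rfl
        intro a _
        rw [map_smul]
      have h2 : ∑ a ∈ s, a • u (m a) = u x - u y := by rw [h1]; abel
      rw [h2]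
      exact Submodule.sub_mem _ hJ huy
    have hw' : ∑ a ∈ s, a • u (m a) ∈ J • Submodule.span A (Set.range (id : N → N)) := by
      rw [Set.range_id, Submodule.span_univ]; exact hw
    rw [Submodule.mem_ideal_smul_span_iff_exists_sum] at hw'
    obtain ⟨c, hcJ, hc⟩ := hw'
    -- relation
    let ι := (↥s) ⊕ (↥c.support)
    let f : ι → A := Sum.elim (fun a => (a : A)) (fun n => - c n)
    let xx : ι → N := Sum.elim (fun a => u (m a)) (fun n => (n : N))
    have hrel : ∑ i, f i • xx i = 0 := by
      rw [Fintype.sum_sum_type]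
      simp only [f, xx, Sum.elim_inl, Sum.elim_inr, neg_smul, Finset.sum_neg_distrib]
      rw [Finset.sum_coe_sort s (fun a => a • u (m a)),
        Finset.sum_coe_sort c.support (fun n => c n • n)]
      have : ∑ n ∈ c.support, c n • n = c.sum fun i c => c • id i := rfl
      rw [this, hc, add_neg_cancel]
    obtain ⟨k, b, y', hb1, hb2⟩ := Module.Flat.isTrivialRelation_of_sum_smul_eq_zero hrel
    have hb2' : ∀ j, ∑ a : ↥s, (a : A) * b (Sum.inl a) j ∈ I ⊓ J := by
      intro j
      have h1 := hb2 j
      rw [Fintype.sum_sum_type] at h1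
      simp only [f, Sum.elim_inl, Sum.elim_inr, neg_mul, Finset.sum_neg_distrib] at h1
      have h2 : ∑ a : ↥s, (a : A) * b (Sum.inl a) j = ∑ n : ↥c.support, c n * b (Sum.inr n) j := by
        rw [← sub_eq_zero, sub_eq_add_neg]; exact h1
      constructor
      · exact Ideal.sum_mem _ fun a _ => I.mul_mem_right _ (hsI a a.2)
      · rw [h2]; exact Ideal.sum_mem _ fun n _ => J.mul_mem_right _ (hcJ n)
    by_cases hunit : ∃ a₀ : ↥s, ∃ j, IsUnit (b (Sum.inl a₀) j)
    · obtain ⟨a₀, j, hv⟩ := hunit
      set T : Ideal A := Ideal.span ((s.erase (a₀ : A) : Finset A) : Set A) ⊔ (I ⊓ J) with hT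
      have h1 : (a₀ : A) * b (Sum.inl a₀) j +
          ∑ a ∈ (Finset.univ : Finset ↥s).erase a₀, (a : A) * b (Sum.inl a) j ∈ I ⊓ J := by
        rw [Finset.add_sum_erase Finset.univ (fun a : ↥s => (a : A) * b (Sum.inl a) j)
          (Finset.mem_univ a₀)]
        exact hb2' j
      have h2 : ∑ a ∈ (Finset.univ : Finset ↥s).erase a₀, (a : A) * b (Sum.inl a) j ∈ T := by
        apply Ideal.sum_mem
        intro a ha
        apply Ideal.mul_mem_right
        apply Ideal.mem_sup_left
        apply Ideal.subset_span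
        rw [Finset.mem_coe, Finset.mem_erase]
        exact ⟨fun h => (Finset.mem_erase.mp ha).1 (Subtype.ext h), a.2⟩
      have h3 : (a₀ : A) * b (Sum.inl a₀) j ∈ T := by
        have := T.sub_mem (Ideal.mem_sup_right h1 : _ ∈ T) h2
        rwa [add_sub_cancel_right] at this
      have h4 : (a₀ : A) ∈ T := by
        obtain ⟨v, hv'⟩ := hv
        have := T.mul_mem_right (↑v⁻¹ : A) h3
        rwa [← hv', mul_assoc, Units.mul_inv, mul_one] at this
      have h5 : Ideal.span (s : Set A) ≤ T := by
        rw [Ideal.span_le]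
        intro a ha
        by_cases haa : a = (a₀ : A)
        · rw [haa]; exact h4
        · apply Ideal.mem_sup_left
          apply Ideal.subset_span
          rw [Finset.mem_coe, Finset.mem_erase]
          exact ⟨haa, ha⟩
      apply ih (s.erase (a₀ : A)) (Finset.erase_ssubset a₀.2)
      · intro a ha
        exact hsI a (Finset.mem_of_mem_erase ha)
      · exact hspan.trans (sup_le h5 (le_sup_right))
    · push Not at hunit
      have hbm : ∀ (a : ↥s) j, b (Sum.inl a) j ∈ maximalIdeal A := fun a j =>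
        (IsLocalRing.mem_maximalIdeal _).mpr (hunit a j)
      have hma : ∀ a ∈ s, m a ∈ maximalIdeal A • (⊤ : Submodule A M) := by
        intro a ha
        apply mem_of_map_mem u hu
        have := hb1 (Sum.inl ⟨a, ha⟩)
        simp only [xx, Sum.elim_inl] at this
        rw [this]
        exact Submodule.sum_mem _ fun j _ => Submodule.smul_mem_smul (hbm ⟨a, ha⟩ j) trivial
      have hx2 : x ∈ (I * maximalIdeal A ⊔ I ⊓ J) • (⊤ : Submodule A M) := by
        rw [Submodule.sup_smul, ← hxy]
        apply Submodule.add_mem_sup _ hy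
        rw [hm, Submodule.mul_smul]
        exact Submodule.sum_mem _ fun a ha => Submodule.smul_mem_smul (hsI a ha) (hma a ha)
      have h6 := hmin _ hx2
      have h7 : I ≤ I ⊓ J := by
        apply Submodule.le_of_le_smul_of_le_jacobson_bot (I := maximalIdeal A) hIfg
          (IsLocalRing.maximalIdeal_le_jacobson _)
        rw [smul_eq_mul, mul_comm, sup_comm]
        exact h6
      exact h7.trans inf_le_right


end helpers

/-- Let `(A, 𝔪)` be a local ring and `u : M → N` a linear map between flat `A`-modules whose reduction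
`M/𝔪M → N/𝔪N` is injective. If `I` is the content ideal of some `x ∈ M` (the least ideal `I` with `x
∈ IM`), then `I` is also the least ideal `J` with `u(x) ∈ J·N`. -/
theorem result {A : Type u} [CommRing A] [IsLocalRing A] {M N : Type u}
    [AddCommGroup M] [Module A M] [Module.Flat A M] [AddCommGroup N] [Module A N] [Module.Flat A N] (u : M →ₗ[A] N)
    (hu : Function.Injective (u.baseChange (IsLocalRing.ResidueField A))) (x : M) (I : Ideal A)
    (hx : IsLeast {J : Ideal A | x ∈ J • (⊤ : Submodule A M)} I) :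
    IsLeast {J : Ideal A | u x ∈ J • (⊤ : Submodule A N)} I := by
  classical
  obtain ⟨hxI, hmin⟩ := hx
  have hxI' : x ∈ I • (⊤ : Submodule A M) := hxI
  have hmin' : ∀ J', x ∈ J' • (⊤ : Submodule A M) → I ≤ J' := fun J' h => hmin h
  -- finite generation
  have hxI'' : x ∈ I • Submodule.span A (Set.range (id : M → M)) := by
    rw [Set.range_id, Submodule.span_univ]; exact hxI'
  rw [Submodule.mem_ideal_smul_span_iff_exists_sum] at hxI''
  obtain ⟨c, hcI, hc⟩ := hxI''
  let s₀ : Finset A := c.support.image c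
  have hs₀I : ∀ a ∈ s₀, a ∈ I := by
    intro a ha
    obtain ⟨n, -, rfl⟩ := Finset.mem_image.mp ha
    exact hcI n
  have hxs₀ : x ∈ Ideal.span (s₀ : Set A) • (⊤ : Submodule A M) := by
    rw [← hc]
    apply Submodule.sum_mem
    intro n hn
    refine Submodule.smul_mem_smul ?_ (Submodule.mem_top)
    apply Ideal.subset_span
    exact Finset.mem_coe.mpr (Finset.mem_image_of_mem c hn)
  have hIs₀ : I = Ideal.span (s₀ : Set A) := by
    apply le_antisymm (hmin' _ hxs₀)
    rw [Ideal.span_le]
    intro a ha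
    exact hs₀I a (Finset.mem_coe.mp ha)
  have hIfg : I.FG := ⟨s₀, hIs₀.symm⟩
  refine ⟨?_, ?_⟩
  · show u x ∈ I • (⊤ : Submodule A N)
    have h1 : u x ∈ (I • (⊤ : Submodule A M)).map u := Submodule.mem_map_of_mem hxI'
    rw [Submodule.map_smul''] at h1
    exact Submodule.smul_mono le_rfl le_top h1
  · intro J hJ
    exact key u hu x I J hxI' hmin' hIfg hJ s₀ hs₀I (hIs₀.le.trans le_sup_left)

end Groth.Agent.S6898
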