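import Groth.Statements.S6899
import Mathlib

set_option autoImplicit false
universe u
open TensorProduct
open EtAlg

namespace Groth.Agent.S6899

/-- Let `B' = B ×_A A'` be a fibre square of rings with `A' → A` surjective, and let `(N₁, M₁', φ₁) →
(N₂, M₂', φ₂)` be a morphism of glueing data (a `B`-linear `u : N₁ → N₂` and an `A'`-linear `v : M₁'
→ M₂'` compatible with the `φ_i`) with `u` and `v` surjective. Then the induced map of glued modules
`N₁ ×_{φ₁} M₁' → N₂ ×_{φ₂} M₂'` is surjective. -/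
theorem result (B' B A' A : Type u) [CommRing B'] [CommRing B] [CommRing A'] [CommRing A]
    [Algebra B' B] [Algebra B' A'] [Algebra B A] [Algebra A' A] [Algebra B' A] [IsScalarTower B' B A] [IsScalarTower B' A' A]
    (hsq : EtMil.IsFibreSquare B' B A' A)
    {N₁ N₂ M₁' M₂' : Type u} [AddCommGroup N₁] [Module B N₁] [Module B' N₁] [IsScalarTower B' B N₁]
    [AddCommGroup N₂] [Module B N₂] [Module B' N₂] [IsScalarTower B' B N₂]
    [AddCommGroup M₁'] [Module A' M₁'] [Module B' M₁'] [IsScalarTower B' A' M₁']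
    [AddCommGroup M₂'] [Module A' M₂'] [Module B' M₂'] [IsScalarTower B' A' M₂']
    (φ₁ : A ⊗[B] N₁ ≃ₗ[A] A ⊗[A'] M₁') (φ₂ : A ⊗[B] N₂ ≃ₗ[A] A ⊗[A'] M₂') (u : N₁ →ₗ[B] N₂) (v : M₁' →ₗ[A'] M₂')
    (hc : (v.baseChange A).comp φ₁.toLinearMap = φ₂.toLinearMap.comp (u.baseChange A))
    (hu : Function.Surjective u) (hv : Function.Surjective v) :
    ∀ y : N₂ × M₂', y ∈ EtMil.glue B' φ₂ → ∃ x : N₁ × M₁', x ∈ EtMil.glue B' φ₁ ∧ u x.1 = y.1 ∧ v x.2 = y.2 := by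
  rintro ⟨n₂, m₂⟩ hy
  have hy' : φ₂ ((1 : A) ⊗ₜ[B] n₂) = (1 : A) ⊗ₜ[A'] m₂ := hy
  obtain ⟨n₁, rfl⟩ := hu n₂
  obtain ⟨m₁, rfl⟩ := hv m₂
  -- every element of A ⊗[A'] K is a pure tensor 1 ⊗ k
  have hpure : ∀ z : A ⊗[A'] (LinearMap.ker v), ∃ k : LinearMap.ker v, z = (1 : A) ⊗ₜ[A'] k := by
    intro z
    induction z using TensorProduct.induction_on with
    | zero => exact ⟨0, by simp⟩
    | tmul a k =>
      obtain ⟨a', rfl⟩ := hsq.1 a
      refine ⟨a' • k, ?_⟩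
      rw [← TensorProduct.smul_tmul, Algebra.smul_def, mul_one]
    | add z₁ z₂ h₁ h₂ =>
      obtain ⟨k₁, rfl⟩ := h₁
      obtain ⟨k₂, rfl⟩ := h₂
      exact ⟨k₁ + k₂, by rw [TensorProduct.tmul_add]⟩
  -- the defect
  set δ : A ⊗[A'] M₁' := φ₁ ((1 : A) ⊗ₜ[B] n₁) - (1 : A) ⊗ₜ[A'] m₁ with hδ
  have hδ0 : v.baseChange A δ = 0 := by
    have h1 := LinearMap.congr_fun hc ((1 : A) ⊗ₜ[B] n₁)
    simp only [LinearMap.coe_comp, LinearEquiv.coe_coe, Function.comp_apply,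
      LinearMap.baseChange_tmul] at h1
    rw [hδ, map_sub, h1, hy', LinearMap.baseChange_tmul, sub_self]
  have hex : Function.Exact (LinearMap.lTensor A (LinearMap.ker v).subtype) (LinearMap.lTensor A v) :=
    lTensor_exact A (LinearMap.exact_subtype_ker_map v) hv
  have hδ1 : LinearMap.lTensor A v δ = 0 := by
    have : (v.baseChange A : A ⊗[A'] M₁' → A ⊗[A'] M₂') = LinearMap.lTensor A v :=
      LinearMap.baseChange_eq_ltensor v
    rw [← this]; exact hδ0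
  obtain ⟨z, hz⟩ := (hex δ).mp hδ1
  obtain ⟨k, rfl⟩ := hpure z
  rw [LinearMap.lTensor_tmul] at hz
  refine ⟨(n₁, m₁ + (k : M₁')), ?_, rfl, ?_⟩
  · change φ₁ ((1 : A) ⊗ₜ[B] n₁) = (1 : A) ⊗ₜ[A'] (m₁ + (k : M₁'))
    rw [TensorProduct.tmul_add]
    have : (1 : A) ⊗ₜ[A'] ((LinearMap.ker v).subtype k) = δ := hz
    rw [Submodule.subtype_apply] at this
    rw [this, hδ]
    abel
  · simp only [map_add]
    have : v (k : M₁') = 0 := k.2
    rw [this, add_zero]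

end Groth.Agent.S6899
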