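import Groth.Statements.S6900
import Groth.Agent.Lib.Helper12.MilnorAlg1
import Groth.Agent.Lib.Helper12.MilnorAlg2

set_option autoImplicit false
universe u
open TensorProduct
open EtAlg

namespace Groth.Agent.S6900

/-- Let `B' = B ×_A A'` be a fibre square of rings with `A' → A` surjective. Let `D` be a `B`-algebra
and `C'` an `A'`-algebra with a common base change `C = D ⊗_B A = C' ⊗_{A'} A`, and let `D' = D ×_C
C'` be the fibre product ring with its `B'`-algebra structure. Then `B' → D'` is of finite type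
(resp. flat, resp. flat and of finite presentation, resp. smooth, resp. étale) if and only if `B →
D` and `A' → C'` both are. -/
theorem result (B' B A' A : Type u) [CommRing B'] [CommRing B] [CommRing A'] [CommRing A]
    [Algebra B' B] [Algebra B' A'] [Algebra B A] [Algebra A' A] [Algebra B' A] [IsScalarTower B' B A] [IsScalarTower B' A' A]
    (hsq : EtMil.IsFibreSquare B' B A' A)
    (D' D C' C : Type u) [CommRing D'] [CommRing D] [CommRing C'] [CommRing C]
    [Algebra D' D] [Algebra D' C'] [Algebra D C] [Algebra C' C] [Algebra D' C] [IsScalarTower D' D C] [IsScalarTower D' C' C]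
    (hsq' : EtMil.IsFibreSquare D' D C' C)
    [Algebra B' D'] [Algebra B D] [Algebra A' C'] [Algebra A C]
    [Algebra B' D] [IsScalarTower B' B D] [IsScalarTower B' D' D]
    [Algebra B' C'] [IsScalarTower B' A' C'] [IsScalarTower B' D' C']
    [Algebra B C] [IsScalarTower B A C] [IsScalarTower B D C]
    [Algebra A' C] [IsScalarTower A' A C] [IsScalarTower A' C' C]
    [Algebra.IsPushout B D A C] [Algebra.IsPushout A' C' A C] :
    (Algebra.FiniteType B' D' ↔ Algebra.FiniteType B D ∧ Algebra.FiniteType A' C') ∧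
    (Module.Flat B' D' ↔ Module.Flat B D ∧ Module.Flat A' C') ∧
    (Module.Flat B' D' ∧ Algebra.FinitePresentation B' D' ↔
      (Module.Flat B D ∧ Algebra.FinitePresentation B D) ∧ (Module.Flat A' C' ∧ Algebra.FinitePresentation A' C')) ∧
    (Algebra.Smooth B' D' ↔ Algebra.Smooth B D ∧ Algebra.Smooth A' C') ∧
    (Algebra.Etale B' D' ↔ Algebra.Etale B D ∧ Algebra.Etale A' C') := by
  classical
  have hL : Algebra.IsPushout B' B D' D :=
    Groth.Agent.Lib.Helper12.MilnorAlg.isPushout_left hsq hsq'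
  have hR : Algebra.IsPushout B' A' D' C' :=
    Groth.Agent.Lib.Helper12.MilnorAlg.isPushout_right hsq hsq'
  let eD : B ⊗[B'] D' ≃ₐ[B] D := Algebra.IsPushout.equiv B' B D' D
  let eC : A' ⊗[B'] D' ≃ₐ[A'] C' := Algebra.IsPushout.equiv B' A' D' C'
  have hp := Groth.Agent.Lib.Helper12.MilnorAlg.isPinch_of_isFibreSquare hsq
  have hp' := Groth.Agent.Lib.Helper12.MilnorAlg.isPinch_of_isFibreSquare hsq'
  have hFlat : Module.Flat B D ∧ Module.Flat A' C' → Module.Flat B' D' := by
    rintro ⟨h1, h2⟩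
    have : Module.Flat B (B ⊗[B'] D') := Module.Flat.of_linearEquiv eD.toLinearEquiv
    have : Module.Flat A' (A' ⊗[B'] D') := Module.Flat.of_linearEquiv eC.toLinearEquiv
    exact Groth.Agent.Lib.helper8.PinchAlg.flat_of_pinch hp D'
  have hFP : (Module.Flat B D ∧ Algebra.FinitePresentation B D) ∧
      (Module.Flat A' C' ∧ Algebra.FinitePresentation A' C') →
      Module.Flat B' D' ∧ Algebra.FinitePresentation B' D' := by
    rintro ⟨⟨h1, h1'⟩, ⟨h2, h2'⟩⟩
    have := hFlat ⟨h1, h2⟩
    have : Algebra.FinitePresentation B (B ⊗[B'] D') := Algebra.FinitePresentation.equiv eD.symm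
    have : Algebra.FinitePresentation A' (A' ⊗[B'] D') :=
      Algebra.FinitePresentation.equiv eC.symm
    exact ⟨inferInstance,
      Groth.Agent.Lib.Helper12.MilnorAlg.finitePresentation_of_pinch_alg hp D'⟩
  have hSm : Algebra.Smooth B D ∧ Algebra.Smooth A' C' → Algebra.Smooth B' D' := by
    rintro ⟨h1, h2⟩
    obtain ⟨hfl, hfp⟩ := hFP ⟨⟨inferInstance, h1.finitePresentation⟩,
      ⟨inferInstance, h2.finitePresentation⟩⟩
    have : Algebra.Smooth B (B ⊗[B'] D') := Algebra.Smooth.of_equiv eD.symm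
    have : Algebra.Smooth A' (A' ⊗[B'] D') := Algebra.Smooth.of_equiv eC.symm
    exact Groth.Agent.Lib.Helper12.MilnorAlg.smooth_of_pinch hp D'
  refine ⟨⟨?_, ?_⟩, ⟨?_, hFlat⟩, ⟨?_, hFP⟩, ⟨?_, hSm⟩, ⟨?_, ?_⟩⟩
  · intro h
    exact ⟨Algebra.FiniteType.equiv inferInstance eD, Algebra.FiniteType.equiv inferInstance eC⟩
  · rintro ⟨h1, h2⟩
    have : Algebra.FiniteType B (B ⊗[B'] D') := Algebra.FiniteType.equiv h1 eD.symm
    have : Algebra.FiniteType A' (A' ⊗[B'] D') := Algebra.FiniteType.equiv h2 eC.symm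
    exact Groth.Agent.Lib.Helper12.MilnorAlg.finiteType_of_pinch hp D'
  · intro h
    exact ⟨Module.Flat.of_linearEquiv eD.symm.toLinearEquiv,
      Module.Flat.of_linearEquiv eC.symm.toLinearEquiv⟩
  · rintro ⟨h, h'⟩
    exact ⟨⟨Module.Flat.of_linearEquiv eD.symm.toLinearEquiv, Algebra.FinitePresentation.equiv eD⟩,
      ⟨Module.Flat.of_linearEquiv eC.symm.toLinearEquiv, Algebra.FinitePresentation.equiv eC⟩⟩
  · intro h
    exact ⟨Algebra.Smooth.of_equiv eD, Algebra.Smooth.of_equiv eC⟩
  · intro h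
    exact ⟨Algebra.Etale.of_equiv eD, Algebra.Etale.of_equiv eC⟩
  · rintro ⟨h1, h2⟩
    have := hSm ⟨inferInstance, inferInstance⟩
    have : Algebra.FormallyUnramified B' D' :=
      Groth.Agent.Lib.Helper12.MilnorAlg.formallyUnramified_of_pinch (R := B') (Q := B) (Bq := A')
        (T := D') (TQ := D) (TB := C') hp'
    exact ⟨Algebra.FormallyEtale.of_formallyUnramified_and_formallySmooth, inferInstance⟩

end Groth.Agent.S6900
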