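import Groth.Statements.S6910
import Groth.Agent.Lib.Helper8.ArtinReesCongruent

set_option autoImplicit false
universe u
open CAlg

namespace Groth.Agent.S6910

/-- Let `A` be a Noetherian ring, `I ⊆ A` an ideal inside the Jacobson radical, and `L → M → N` two
complexes `(f, g)` and `(f', g')` of finite `A`-modules with `f' ≡ f` modulo `I^{c+1}M` and `g' ≡ g`
modulo `I^{c+1}N`, such that the Artin–Rees bound holds with constant `c` for both `f` and `g`, and
`(f, g)` is exact. Then for every `n` the submodules `I^{n+1}N + g(M) ∩ IⁿN` and `I^{n+1}N + g'(M) ∩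
IⁿN` of `N` are equal; consequently the associated graded modules of `Coker g` and `Coker g'` with
respect to `I` coincide degreewise as subquotients of `N`. -/
theorem result {A : Type u} [CommRing A] [IsNoetherianRing A] (I : Ideal A)
    (hI : I ≤ Ideal.jacobson (⊥ : Ideal A)) {L M N : Type u} [AddCommGroup L] [Module A L] [Module.Finite A L]
    [AddCommGroup M] [Module A M] [Module.Finite A M] [AddCommGroup N] [Module A N] [Module.Finite A N]
    (f f' : L →ₗ[A] M) (g g' : M →ₗ[A] N) (c : ℕ) (hgf : g.comp f = 0) (hgf' : g'.comp f' = 0)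
    (hf : (∀ n : ℕ, c ≤ n → LinearMap.range f ⊓ (I ^ n • (⊤ : Submodule A M)) ≤ Submodule.map f (I ^ (n - c) • (⊤ : Submodule A L))))
    (hg : (∀ n : ℕ, c ≤ n → LinearMap.range g ⊓ (I ^ n • (⊤ : Submodule A N)) ≤ Submodule.map g (I ^ (n - c) • (⊤ : Submodule A M))))
    (hex : Function.Exact f g)
    (hff' : ∀ x : L, f x - f' x ∈ I ^ (c + 1) • (⊤ : Submodule A M))
    (hgg' : ∀ y : M, g y - g' y ∈ I ^ (c + 1) • (⊤ : Submodule A N)) (n : ℕ) :
    I ^ (n + 1) • (⊤ : Submodule A N) ⊔ (LinearMap.range g ⊓ I ^ n • (⊤ : Submodule A N)) =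
      I ^ (n + 1) • (⊤ : Submodule A N) ⊔ (LinearMap.range g' ⊓ I ^ n • (⊤ : Submodule A N)) := by
  have hg' := (Groth.Agent.Lib.helper8.artinRees_congruent I f f' g g' c hI hgf' hf hg hex hff' hgg').1
  -- symmetric statement: if AR holds for `g₁` and `g₁ ≡ g₂`, then the `g₁` side is contained in the `g₂` side
  have key : ∀ (g₁ g₂ : M →ₗ[A] N),
      (∀ n : ℕ, c ≤ n → LinearMap.range g₁ ⊓ (I ^ n • (⊤ : Submodule A N)) ≤
        Submodule.map g₁ (I ^ (n - c) • (⊤ : Submodule A M))) →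
      (∀ y : M, g₁ y - g₂ y ∈ I ^ (c + 1) • (⊤ : Submodule A N)) →
      LinearMap.range g₁ ⊓ I ^ n • (⊤ : Submodule A N) ≤
        I ^ (n + 1) • (⊤ : Submodule A N) ⊔ (LinearMap.range g₂ ⊓ I ^ n • (⊤ : Submodule A N)) := by
    intro g₁ g₂ h1 h12
    rintro z ⟨⟨m, rfl⟩, hz⟩
    by_cases hn : c ≤ n
    · obtain ⟨m', hm', hgm'⟩ := h1 n hn ⟨⟨m, rfl⟩, hz⟩
      have h2 : (g₁ - g₂) m' ∈ I ^ (n - c + c + 1) • (⊤ : Submodule A N) :=
        Groth.Agent.Lib.helper8.ar_shift I (g₁ - g₂) c (fun x => by simpa using h12 x) (n - c) m' hm'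
      rw [show n - c + c + 1 = n + 1 by omega] at h2
      have h3 : g₁ m = (g₁ - g₂) m' + g₂ m' := by
        rw [← hgm']; simp
      rw [h3]
      refine Submodule.add_mem_sup h2 ⟨⟨m', rfl⟩, ?_⟩
      have : g₂ m' = g₁ m - (g₁ - g₂) m' := by rw [h3]; abel
      rw [this]
      exact sub_mem hz (Groth.Agent.Lib.helper8.ar_pow_le I (Nat.le_succ n) h2)
    · have h2 : (g₁ - g₂) m ∈ I ^ (n + 1) • (⊤ : Submodule A N) :=
        Groth.Agent.Lib.helper8.ar_pow_le I (k := n + 1) (l := c + 1) (by omega)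
          (by simpa using h12 m)
      have h3 : g₁ m = (g₁ - g₂) m + g₂ m := by simp
      rw [h3]
      refine Submodule.add_mem_sup h2 ⟨⟨m, rfl⟩, ?_⟩
      have : g₂ m = g₁ m - (g₁ - g₂) m := by rw [h3]; abel
      rw [this]
      exact sub_mem hz (Groth.Agent.Lib.helper8.ar_pow_le I (Nat.le_succ n) h2)
  apply le_antisymm
  · exact sup_le le_sup_left (key g g' hg hgg')
  · refine sup_le le_sup_left (key g' g hg' ?_)
    intro y
    have := hgg' y
    rw [← neg_sub]
    exact neg_mem this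

end Groth.Agent.S6910
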