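import Groth.Statements.S6911
import Mathlib

set_option autoImplicit false
universe u
open TensorProduct
open CAlg

namespace Groth.Agent.S6911

section helpers

section helpers
variable {A B : Type u} [CommRing A] [CommRing B] [Algebra A B]
variable {N : Type u} [AddCommGroup N] [Module A N]

lemma range_baseChange {M : Type u} [AddCommGroup M] [Module A M] (f : M →ₗ[A] N) :
    LinearMap.range (f.baseChange B) = (LinearMap.range f).baseChange B := by
  have h : f = (LinearMap.range f).subtype ∘ₗ f.rangeRestrict := by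
    ext x; rfl
  have hs : Function.Surjective (f.rangeRestrict.baseChange B) := by
    rw [LinearMap.baseChange_eq_ltensor]
    exact LinearMap.lTensor_surjective _ f.surjective_rangeRestrict
  conv_lhs => rw [h, LinearMap.baseChange_comp]
  rw [LinearMap.range_comp_of_range_eq_top _ (LinearMap.range_eq_top.mpr hs)]
  rfl

lemma baseChange_smul_top (J : Ideal A) :
    ((J • (⊤ : Submodule A N)).baseChange B) =
      (J.map (algebraMap A B)) • (⊤ : Submodule B (B ⊗[A] N)) := by
  apply le_antisymm
  · rw [Submodule.baseChange_eq_span, Submodule.span_le]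
    rintro _ ⟨x, hx, rfl⟩
    refine Submodule.smul_induction_on (p := fun x => (TensorProduct.mk A B N 1) x ∈
      ((J.map (algebraMap A B)) • (⊤ : Submodule B (B ⊗[A] N)))) hx ?_ ?_
    · intro j hj n _
      have : (TensorProduct.mk A B N 1) (j • n) = algebraMap A B j • ((1 : B) ⊗ₜ[A] n) := by
        simp [TensorProduct.smul_tmul', Algebra.smul_def]
      rw [this]
      exact Submodule.smul_mem_smul (Ideal.mem_map_of_mem _ hj) trivial
    · intro x y hx hy
      rw [map_add]
      exact add_mem hx hy
  · rw [Submodule.smul_le]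
    intro b hb y _
    refine Submodule.span_induction (p := fun b _ => b • y ∈ (J • (⊤ : Submodule A N)).baseChange B)
      ?_ ?_ ?_ ?_ hb
    · rintro _ ⟨j, hj, rfl⟩
      induction y using TensorProduct.induction_on with
      | zero => simp
      | tmul b' n =>
        have : algebraMap A B j • (b' ⊗ₜ[A] n) = b' ⊗ₜ[A] (j • n) := by
          rw [TensorProduct.smul_tmul', TensorProduct.tmul_smul, TensorProduct.smul_tmul']
          simp [Algebra.smul_def]
        rw [this]
        exact Submodule.tmul_mem_baseChange_of_mem _ (Submodule.smul_mem_smul hj trivial)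
      | add y z hy hz => rw [smul_add]; exact add_mem (hy trivial) (hz trivial)
    · simp
    · intro a b _ _ ha hb
      rw [add_smul]; exact add_mem ha hb
    · intro a b _ hb
      rw [smul_eq_mul, mul_smul]
      exact Submodule.smul_mem _ _ hb

lemma map_baseChange {M : Type u} [AddCommGroup M] [Module A M] (f : M →ₗ[A] N)
    (S : Submodule A M) :
    (S.map f).baseChange B = (S.baseChange B).map (f.baseChange B) := by
  rw [Submodule.baseChange_eq_span, Submodule.baseChange_eq_span, Submodule.map_span]
  congr 1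
  ext x
  constructor
  · rintro ⟨_, ⟨m, hm, rfl⟩, rfl⟩
    exact ⟨_, ⟨m, hm, rfl⟩, by simp⟩
  · rintro ⟨_, ⟨m, hm, rfl⟩, rfl⟩
    exact ⟨_, ⟨m, hm, rfl⟩, by simp⟩

lemma baseChange_inf [Module.Flat A B] (P Q : Submodule A N) :
    (P ⊓ Q).baseChange B = P.baseChange B ⊓ Q.baseChange B := by
  apply le_antisymm
  · exact le_inf (Submodule.baseChange_mono B inf_le_left) (Submodule.baseChange_mono B inf_le_right)
  · rintro x ⟨⟨y, rfl⟩, hxQ⟩
    obtain ⟨w, hw⟩ := hxQ
    have hex : Function.Exact (Q.subtype.lTensor B) (Q.mkQ.lTensor B) :=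
      lTensor_exact B (LinearMap.exact_subtype_mkQ Q) (Submodule.mkQ_surjective Q)
    have h0 : (Q.mkQ.lTensor B) ((P.subtype.lTensor B) y) = 0 := by
      rw [hex]
      exact ⟨w, by rw [← LinearMap.baseChange_eq_ltensor]; exact hw⟩
    set g : P →ₗ[A] N ⧸ Q := Q.mkQ ∘ₗ P.subtype with hg
    have h1 : (g.lTensor B) y = 0 := by
      rw [hg, LinearMap.lTensor_comp]; exact h0
    have hex2 : Function.Exact ((LinearMap.ker g).subtype.lTensor B) (g.lTensor B) :=
      Module.Flat.lTensor_exact B (LinearMap.exact_subtype_ker_map g)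
    obtain ⟨z, hz⟩ := (hex2 y).mp h1
    -- factor
    let j : LinearMap.ker g →ₗ[A] (P ⊓ Q : Submodule A N) :=
      LinearMap.codRestrict _ (P.subtype ∘ₗ (LinearMap.ker g).subtype) (by
        intro k
        refine ⟨k.1.2, ?_⟩
        have := k.2
        rw [LinearMap.mem_ker] at this
        have h2 : Q.mkQ (k.1 : N) = 0 := this
        simpa using h2)
    have hj : (P ⊓ Q).subtype ∘ₗ j = P.subtype ∘ₗ (LinearMap.ker g).subtype := by
      ext k; rfl
    refine ⟨(j.lTensor B) z, ?_⟩
    rw [LinearMap.baseChange_eq_ltensor, ← LinearMap.comp_apply, ← LinearMap.lTensor_comp, hj,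
      LinearMap.lTensor_comp, LinearMap.comp_apply, hz, LinearMap.baseChange_eq_ltensor]

end helpers


end helpers

/-- Let `A → B` be a flat map of Noetherian rings, `I ⊆ A` an ideal and `f : M → N` a map of finite
`A`-modules such that `c` works for `f` in the Artin–Rees lemma (`f(M) ∩ IⁿN ⊆ f(I^{n-c}M)` for `n ≥
c`). Then `c` works for `f ⊗ 1 : M ⊗_A B → N ⊗_A B` and the ideal `IB`. -/
theorem result {A B : Type u} [CommRing A] [IsNoetherianRing A] [CommRing B]
    [IsNoetherianRing B] [Algebra A B] [Module.Flat A B] (I : Ideal A) {M N : Type u} [AddCommGroup M] [Module A M]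
    [Module.Finite A M] [AddCommGroup N] [Module A N] [Module.Finite A N] (f : M →ₗ[A] N) (c : ℕ)
    (hf : (∀ n : ℕ, c ≤ n → LinearMap.range f ⊓ (I ^ n • (⊤ : Submodule A N)) ≤ Submodule.map f (I ^ (n - c) • (⊤ : Submodule A M)))) :
    ∀ n : ℕ, c ≤ n →
      LinearMap.range (f.baseChange B) ⊓ ((I.map (algebraMap A B)) ^ n • (⊤ : Submodule B (B ⊗[A] N))) ≤
        Submodule.map (f.baseChange B) ((I.map (algebraMap A B)) ^ (n - c) • (⊤ : Submodule B (B ⊗[A] M))) := by
  intro n hn
  rw [range_baseChange, ← Ideal.map_pow, ← Ideal.map_pow, ← baseChange_smul_top, ← baseChange_smul_top,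
    ← baseChange_inf, ← map_baseChange]
  exact Submodule.baseChange_mono B (hf n hn)

end Groth.Agent.S6911
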