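import Groth.Statements.S6912
import Mathlib.LinearAlgebra.Dimension.Localization
import Mathlib.LinearAlgebra.FreeModule.Finite.Matrix
import Mathlib.LinearAlgebra.Dimension.Constructions
import Mathlib.RingTheory.Localization.FractionRing
import Mathlib.RingTheory.Flat.Localization
-- import your own Groth.Agent.* helpers here

set_option autoImplicit false
universe u
open TensorProduct
open CAlg

namespace Groth.Agent.S6912

/-- Let `R` be a domain and `M`, `N` two `R`-modules; rank means dimension over the fraction field after
base change. Then `rank (M ⊗_R N) = rank M · rank N`, and when `M` is finitely presented also `rank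
Hom_R(M, N) = rank M · rank N`. -/
theorem result (R : Type u) [CommRing R] [IsDomain R] (M N : Type u)
    [AddCommGroup M] [Module R M] [AddCommGroup N] [Module R N] :
    Module.rank R (M ⊗[R] N) = Module.rank R M * Module.rank R N ∧
    (Module.FinitePresentation R M → Module.rank R (M →ₗ[R] N) = Module.rank R M * Module.rank R N) := by
  let K := FractionRing R
  have hM : Module.rank K (K ⊗[R] M) = Module.rank R M :=
    (TensorProduct.isBaseChange R M K).rank_eq
  have hN : Module.rank K (K ⊗[R] N) = Module.rank R N :=
    (TensorProduct.isBaseChange R N K).rank_eq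
  constructor
  · have h1 : Module.rank K (K ⊗[R] (M ⊗[R] N)) = Module.rank R (M ⊗[R] N) :=
      (TensorProduct.isBaseChange R (M ⊗[R] N) K).rank_eq
    rw [← h1, ← hM, ← hN]
    have e := TensorProduct.AlgebraTensorModule.distribBaseChange R K M N
    rw [e.rank_eq]
    exact rank_tensorProduct'
  · intro hfp
    have hbc := Module.FinitePresentation.isBaseChange_map R M N K
    have h0 := @IsBaseChange.lift_rank_eq R (M →ₗ[R] N) _ _ _ K _ _ _ _
      (K ⊗[R] M →ₗ[K] K ⊗[R] N) _ _ _ _ (LinearMap.baseChangeHom R K M N) hbc
    have h1 : Module.rank K (K ⊗[R] M →ₗ[K] K ⊗[R] N) = Module.rank R (M →ₗ[R] N) := by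
      simpa using h0
    rw [← h1, ← hM, ← hN, Module.rank_linearMap]
    simp

end Groth.Agent.S6912
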