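import Groth.Statements.S6913
import Mathlib
import Groth.Agent.Lib.Helper6.Reflexive

set_option autoImplicit false
universe u
open CAlg

namespace Groth.Agent.S6913



/-- Let `R` be a domain and `M` a finite `R`-module, of (finite) rank `r`. Then: some linear map `M →
R^r` has torsion kernel and torsion cokernel; some nonzero `f ∈ R` makes `M_f` free of rank `r` over
`R_f`; and some injective linear map `R^r → M` has torsion cokernel. -/
theorem result (R : Type u) [CommRing R] [IsDomain R] (M : Type u) [AddCommGroup M]
    [Module R M] [Module.Finite R M] :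
    (∃ h : M →ₗ[R] (Fin (Module.finrank R M) → R),
      (∀ x : M, h x = 0 → ∃ c : R, c ≠ 0 ∧ c • x = 0) ∧
      (∀ y : Fin (Module.finrank R M) → R, ∃ c : R, c ≠ 0 ∧ c • y ∈ LinearMap.range h)) ∧
    (∃ f : R, f ≠ 0 ∧ Module.Free (Localization.Away f) (LocalizedModule (Submonoid.powers f) M) ∧
      Module.finrank (Localization.Away f) (LocalizedModule (Submonoid.powers f) M) = Module.finrank R M) ∧
    (∃ g : (Fin (Module.finrank R M) → R) →ₗ[R] M, Function.Injective g ∧
      ∀ x : M, ∃ c : R, c ≠ 0 ∧ c • x ∈ LinearMap.range g) := by
  classical
  obtain ⟨n, x, c, hx, hc, hspan⟩ := Groth.Agent.Lib.Helper6.Reflexive.exists_free_sub (R := R) M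
  have hle : Submonoid.powers c ≤ nonZeroDivisors R :=
    powers_le_nonZeroDivisors_of_noZeroDivisors hc
  have hdom : IsDomain (Localization.Away c) := IsLocalization.isDomain_localization hle
  have hfs : FaithfulSMul R (Localization.Away c) :=
    (faithfulSMul_iff_algebraMap_injective R (Localization.Away c)).mpr
      (IsLocalization.injective (Localization.Away c) hle)
  -- coefficients
  have hcoef : ∀ m : M, ∃ a : Fin n → R, c • m = ∑ i, a i • x i := by
    intro m
    have := hspan m
    rw [← Fintype.range_linearCombination] at this
    obtain ⟨a, ha⟩ := this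
    exact ⟨a, by rw [← ha, Fintype.linearCombination_apply]⟩
  -- basis of the localization
  have hli : LinearIndependent (Localization.Away c)
      ((LocalizedModule.mkLinearMap (Submonoid.powers c) M) ∘ x) :=
    hx.of_isLocalizedModule (Localization.Away c) (Submonoid.powers c)
      (LocalizedModule.mkLinearMap (Submonoid.powers c) M)
  have hsp : ⊤ ≤ Submodule.span (Localization.Away c)
      (Set.range ((LocalizedModule.mkLinearMap (Submonoid.powers c) M) ∘ x)) := by
    intro p _
    obtain ⟨⟨m, s⟩, h⟩ := IsLocalizedModule.surj (Submonoid.powers c)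
      (LocalizedModule.mkLinearMap (Submonoid.powers c) M) p
    have h' : (s : R) • p = LocalizedModule.mkLinearMap (Submonoid.powers c) M m := h
    have hu : IsUnit (algebraMap R (Localization.Away c) (c * s)) := by
      rw [map_mul]
      exact (IsLocalization.map_units (Localization.Away c)
        (⟨c, Submonoid.mem_powers c⟩ : Submonoid.powers c)).mul
        (IsLocalization.map_units (Localization.Away c) s)
    have h2 : algebraMap R (Localization.Away c) (c * s) • p ∈
        Submodule.span (Localization.Away c)
          (Set.range ((LocalizedModule.mkLinearMap (Submonoid.powers c) M) ∘ x)) := by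
      rw [algebraMap_smul, mul_smul, h', ← map_smul]
      obtain ⟨a, ha⟩ := hcoef m
      rw [ha, map_sum]
      refine Submodule.sum_mem _ fun i _ => ?_
      rw [map_smul, ← algebraMap_smul (Localization.Away c) (a i)]
      exact Submodule.smul_mem _ _ (Submodule.subset_span ⟨i, rfl⟩)
    have h3 := Submodule.smul_mem _ ((hu.unit⁻¹ : (Localization.Away c)ˣ) : Localization.Away c) h2
    rwa [smul_smul, IsUnit.val_inv_mul, one_smul] at h3
  have hfree : Module.Free (Localization.Away c) (LocalizedModule (Submonoid.powers c) M) :=
    Module.Free.of_basis (Module.Basis.mk hli hsp)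
  have hrank : Module.finrank (Localization.Away c) (LocalizedModule (Submonoid.powers c) M) = n := by
    rw [Module.finrank_eq_card_basis (Module.Basis.mk hli hsp)]
    simp
  have hbc : Module.finrank (Localization.Away c) (LocalizedModule (Submonoid.powers c) M)
      = Module.finrank R M :=
    IsBaseChange.finrank_eq
      ((isLocalizedModule_iff_isBaseChange (Submonoid.powers c) (Localization.Away c)
        (LocalizedModule.mkLinearMap (Submonoid.powers c) M)).mp inferInstance)
  have hn : n = Module.finrank R M := hrank.symm.trans hbc
  subst hn
  -- the map g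
  have hginj : Function.Injective (Fintype.linearCombination R x) := by
    rw [injective_iff_map_eq_zero]
    intro a ha
    rw [Fintype.linearCombination_apply] at ha
    funext i
    exact Fintype.linearIndependent_iff.mp hx a ha i
  have hgrange : ∀ m : M, c • m ∈ LinearMap.range (Fintype.linearCombination R x) := by
    intro m
    rw [Fintype.range_linearCombination]
    exact hspan m
  -- the map h
  let e := LinearEquiv.ofInjective (Fintype.linearCombination R x) hginj
  let h : M →ₗ[R] (Fin (Module.finrank R M) → R) :=
    e.symm.toLinearMap.comp
      (LinearMap.codRestrict (LinearMap.range (Fintype.linearCombination R x))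
        (c • LinearMap.id) (fun m => hgrange m))
  have hkey : ∀ m : M, Fintype.linearCombination R x (h m) = c • m := by
    intro m
    have h1 : (e (h m) : M) = Fintype.linearCombination R x (h m) :=
      LinearEquiv.ofInjective_apply _ _
    rw [← h1]
    simp only [h, LinearMap.comp_apply, LinearEquiv.coe_coe, LinearEquiv.apply_symm_apply]
    rfl
  refine ⟨⟨h, ?_, ?_⟩, ⟨c, hc, hfree, hbc⟩, ⟨Fintype.linearCombination R x, hginj, ?_⟩⟩
  · intro m hm
    refine ⟨c, hc, ?_⟩
    rw [← hkey m, hm, map_zero]
  · intro y
    refine ⟨c, hc, Fintype.linearCombination R x y, ?_⟩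
    apply hginj
    rw [hkey, map_smul]
  · intro m
    exact ⟨c, hc, hgrange m⟩


end Groth.Agent.S6913
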