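import Groth.Statements.S6914
import Groth.Agent.Lib.Helper16.FittStrict

set_option autoImplicit false
universe u
open TensorProduct
open Fitt

namespace Groth.Agent.S6914

open Groth.Agent.Lib.helper15.Fitting Groth.Agent.Lib.helper15.FittLink

theorem result' {R : Type u} [CommRing R] (M : Type u) [AddCommGroup M] [Module R M]
    [Module.Finite R M] (k : ℕ) (a : R) (ha : a ∈ Fitt.ideal R M k)
    (R₁ : Type u) [CommRing R₁] [Algebra R R₁] (e : R₁ ≃ₐ[R] ↥(BlowUp.affineAlgebra R (Fitt.ideal R M k) a)) :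
    Fitt.ideal R₁ ((R₁ ⊗[R] M) ⧸ FlatCA.powTorsion R₁ (algebraMap R R₁ a) (R₁ ⊗[R] M)) k = ⊤ := by
  classical
  obtain ⟨a₁, ha₁⟩ : ∃ a₁ : R₁, a₁ = algebraMap R R₁ a := ⟨_, rfl⟩
  rw [← ha₁]
  have hB : ∀ x ∈ Fitt.ideal R M k, ∃ q : R₁, algebraMap R R₁ x = a₁ * q := by
    intro x hx
    refine ⟨e.symm ⟨IsLocalization.mk' (Localization.Away a) x ⟨a, Submonoid.mem_powers a⟩,
      (show _ ∈ BlowUp.affineAlgebra R (Fitt.ideal R M k) a from
        Algebra.subset_adjoin ⟨x, hx, rfl⟩)⟩, ?_⟩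
    apply e.injective
    rw [map_mul, AlgEquiv.apply_symm_apply, ha₁, AlgEquiv.commutes, AlgEquiv.commutes]
    apply Subtype.ext
    rw [Subalgebra.coe_mul, Subalgebra.coe_algebraMap, Subalgebra.coe_algebraMap]
    exact (IsLocalization.mk'_spec' (Localization.Away a) x ⟨a, Submonoid.mem_powers a⟩).symm
  have hfit : Fitt.ideal R₁ (R₁ ⊗[R] M) k = Ideal.span {a₁} := by
    rw [fitt_baseChange]
    apply le_antisymm
    · rw [Ideal.map_le_iff_le_comap]
      intro x hx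
      rw [Ideal.mem_comap, Ideal.mem_span_singleton']
      obtain ⟨q, hq⟩ := hB x hx
      exact ⟨q, by rw [hq, mul_comm]⟩
    · rw [Ideal.span_singleton_le_iff_mem, ha₁]
      exact Ideal.mem_map_of_mem _ ha
  exact Groth.Agent.Lib.helper16.FittStrict.fitt_quot_powTorsion_eq_top (R₁ ⊗[R] M) k a₁ hfit


/-- Let `M` be a finite `R`-module, `k ≥ 0`, `I = Fit_k(M)` and `a ∈ I`; let `R₁ ≅ R[I/a]` be (a copy
of) the affine blow-up algebra and `M' = (M ⊗_R R₁)/(a-power torsion)` the strict transform. Then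
`Fit_k(M') = R₁`. -/
theorem result {R : Type u} [CommRing R] (M : Type u) [AddCommGroup M] [Module R M]
    [Module.Finite R M] (k : ℕ) (a : R) (ha : a ∈ Fitt.ideal R M k)
    (R₁ : Type u) [CommRing R₁] [Algebra R R₁] (e : R₁ ≃ₐ[R] ↥(BlowUp.affineAlgebra R (Fitt.ideal R M k) a)) :
    Fitt.ideal R₁ ((R₁ ⊗[R] M) ⧸ FlatCA.powTorsion R₁ (algebraMap R R₁ a) (R₁ ⊗[R] M)) k = ⊤ := by
  exact result' M k a ha R₁ e

end Groth.Agent.S6914
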