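import Groth.Statements.S6915
import Mathlib
import Groth.Agent.Lib.Helper15.FittLink
import Groth.Agent.S6897

set_option autoImplicit false
universe u
open TensorProduct
open Fitt

namespace Groth.Agent.S6915

open Groth.Agent.Lib.helper15.Fitting Groth.Agent.Lib.helper15.FittLink

theorem exists_pow_mul_eq_zero {R : Type u} [CommRing R] (M : Type u) [AddCommGroup M]
    [Module R M] [Module.Finite R M] (k : ℕ) (hk : 0 < k)
    (hfree : ∀ (p : Ideal R) [p.IsPrime], ¬ Fitt.ideal R M k ≤ p →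
      Module.Free (Localization.AtPrime p) (LocalizedModule p.primeCompl M) ∧
        Module.finrank (Localization.AtPrime p) (LocalizedModule p.primeCompl M) = k)
    (a : R) (ha : a ∈ Fitt.ideal R M k) (y : R) (hy : y ∈ Fitt.ideal R M (k - 1)) :
    ∃ N : ℕ, a ^ N * y = 0 := by
  obtain ⟨J, hJ⟩ : ∃ J : Ideal R, J = LinearMap.ker (LinearMap.toSpanSingleton R R y) := ⟨_, rfl⟩
  have hJmem : ∀ r : R, r ∈ J ↔ r * y = 0 := fun r => by
    rw [hJ, LinearMap.mem_ker, LinearMap.toSpanSingleton_apply, smul_eq_mul]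
  have hrad : a ∈ J.radical := by
    rw [Ideal.radical_eq_sInf, Ideal.mem_sInf]
    rintro p ⟨hJp, hp⟩
    by_contra hap
    haveI := hp
    have hnle : ¬ Fitt.ideal R M k ≤ p := fun hle => hap (hle ha)
    obtain ⟨hfr, hrk⟩ := hfree p hnle
    haveI := hfr
    have b := Module.finBasisOfFinrankEq (Localization.AtPrime p)
      (LocalizedModule p.primeCompl M) hrk
    have h1 : Fitt.ideal (Localization.AtPrime p) (LocalizedModule p.primeCompl M) (k - 1) = ⊥ :=
      fitt_eq_bot_of_basis b (by omega)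
    have h2 := fitt_localizedModule (M := M) p.primeCompl (k - 1)
    rw [h1] at h2
    have h3 : algebraMap R (Localization.AtPrime p) y ∈
        (Fitt.ideal R M (k - 1)).map (algebraMap R (Localization.AtPrime p)) :=
      Ideal.mem_map_of_mem _ hy
    rw [← h2, Ideal.mem_bot] at h3
    obtain ⟨s, hs⟩ := (IsLocalization.map_eq_zero_iff p.primeCompl (Localization.AtPrime p) y).mp h3
    exact s.2 (hJp ((hJmem _).mpr hs))
  obtain ⟨N, hN⟩ := hrad
  exact ⟨N, (hJmem _).mp hN⟩



/-- Let `M` be a finite `R`-module, `k ≥ 0` and `I = Fit_k(M)`, and assume `M_𝔭` is free of rank `k` for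
every prime `𝔭` not containing `I`. Then for every `a ∈ I` and (a copy `R₁` of) the affine blow-up
algebra `R[I/a]`, the strict transform `M' = (M ⊗_R R₁)/(a-power torsion)` is finite locally free of
rank `k`: every prime of `R₁` has a basic open neighbourhood over which `M'` is free of rank `k`. -/
theorem result {R : Type u} [CommRing R] (M : Type u) [AddCommGroup M]
    [Module R M] [Module.Finite R M] (k : ℕ)
    (hfree : ∀ (p : Ideal R) [p.IsPrime], ¬ Fitt.ideal R M k ≤ p →
      Module.Free (Localization.AtPrime p) (LocalizedModule p.primeCompl M) ∧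
        Module.finrank (Localization.AtPrime p) (LocalizedModule p.primeCompl M) = k)
    (a : R) (ha : a ∈ Fitt.ideal R M k) (R₁ : Type u) [CommRing R₁] [Algebra R R₁] (e : R₁ ≃ₐ[R] ↥(BlowUp.affineAlgebra R (Fitt.ideal R M k) a)) :
    ∀ (p' : Ideal R₁) [p'.IsPrime], ∃ g : R₁, g ∉ p' ∧
      Module.Free (Localization.Away g) (LocalizedModule (Submonoid.powers g) ((R₁ ⊗[R] M) ⧸ FlatCA.powTorsion R₁ (algebraMap R R₁ a) (R₁ ⊗[R] M))) ∧
      Module.finrank (Localization.Away g) (LocalizedModule (Submonoid.powers g) ((R₁ ⊗[R] M) ⧸ FlatCA.powTorsion R₁ (algebraMap R R₁ a) (R₁ ⊗[R] M))) = k := by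
  classical
  obtain ⟨a₁, ha₁⟩ : ∃ a₁ : R₁, a₁ = algebraMap R R₁ a := ⟨_, rfl⟩
  rw [← ha₁]
  -- `a₁` is a nonzerodivisor
  have hnzd : a₁ ∈ nonZeroDivisors R₁ := by
    rw [mem_nonZeroDivisors_iff_right]
    intro y hy
    have h1 : e y * e a₁ = 0 := by rw [← map_mul, hy, map_zero]
    rw [ha₁, AlgEquiv.commutes] at h1
    have h2 : ((e y : Localization.Away a)) * algebraMap R (Localization.Away a) a = 0 := by
      have h3 := congrArg (Subtype.val) h1
      rw [Subalgebra.coe_mul, Subalgebra.coe_algebraMap] at h3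
      exact h3
    have h4 : ((e y : Localization.Away a)) = 0 :=
      (IsUnit.mul_left_eq_zero (IsLocalization.Away.algebraMap_isUnit a)).mp h2
    have h5 : e y = 0 := Subtype.ext h4
    exact (EmbeddingLike.map_eq_zero_iff (f := e)).mp h5
  -- elements of `I` become multiples of `a₁`
  have hB : ∀ x ∈ Fitt.ideal R M k, ∃ q : R₁, algebraMap R R₁ x = a₁ * q := by
    intro x hx
    refine ⟨e.symm ⟨IsLocalization.mk' (Localization.Away a) x ⟨a, Submonoid.mem_powers a⟩,
      (show _ ∈ BlowUp.affineAlgebra R (Fitt.ideal R M k) a from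
        Algebra.subset_adjoin ⟨x, hx, rfl⟩)⟩, ?_⟩
    apply e.injective
    rw [map_mul, AlgEquiv.apply_symm_apply, ha₁, AlgEquiv.commutes, AlgEquiv.commutes]
    apply Subtype.ext
    rw [Subalgebra.coe_mul, Subalgebra.coe_algebraMap, Subalgebra.coe_algebraMap]
    exact (IsLocalization.mk'_spec' (Localization.Away a) x ⟨a, Submonoid.mem_powers a⟩).symm
  have hfit : Fitt.ideal R₁ (R₁ ⊗[R] M) k = Ideal.span {a₁} := by
    rw [fitt_baseChange]
    apply le_antisymm
    · rw [Ideal.map_le_iff_le_comap]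
      intro x hx
      rw [Ideal.mem_comap, Ideal.mem_span_singleton']
      obtain ⟨q, hq⟩ := hB x hx
      exact ⟨q, by rw [hq, mul_comm]⟩
    · rw [Ideal.span_singleton_le_iff_mem, ha₁]
      exact Ideal.mem_map_of_mem _ ha
  have hk' : k = 0 ∨ Fitt.ideal R₁ (R₁ ⊗[R] M) (k - 1) = ⊥ := by
    rcases Nat.eq_zero_or_pos k with hk0 | hkpos
    · exact Or.inl hk0
    · right
      rw [fitt_baseChange, eq_bot_iff, Ideal.map_le_iff_le_comap]
      intro y hy
      rw [Ideal.mem_comap, Ideal.mem_bot]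
      obtain ⟨N, hN⟩ := exists_pow_mul_eq_zero M k hkpos hfree a ha y hy
      have h1 : a₁ ^ N * algebraMap R R₁ y = 0 := by
        rw [ha₁, ← map_pow, ← map_mul, hN, map_zero]
      exact (mul_left_mem_nonZeroDivisors_eq_zero_iff (pow_mem hnzd N)).mp h1
  obtain ⟨-, htors, -, h4, -⟩ := Groth.Agent.S6897.main (R := R₁) (R₁ ⊗[R] M) k a₁ hnzd hfit hk'
  have hEq : FlatCA.powTorsion R₁ a₁ (R₁ ⊗[R] M) =
      LinearMap.ker (a₁ • (LinearMap.id : (R₁ ⊗[R] M) →ₗ[R₁] (R₁ ⊗[R] M))) := by
    apply le_antisymm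
    · apply iSup_le
      intro l x hx
      rw [Submodule.mem_torsionBy_iff] at hx
      rw [LinearMap.mem_ker, LinearMap.smul_apply, LinearMap.id_apply]
      exact (htors x).mp ⟨l, hx⟩
    · refine le_trans ?_ (le_iSup (fun l : ℕ => Submodule.torsionBy R₁ (R₁ ⊗[R] M) (a₁ ^ l)) 1)
      intro x hx
      rw [LinearMap.mem_ker, LinearMap.smul_apply, LinearMap.id_apply] at hx
      rw [Submodule.mem_torsionBy_iff, pow_one]
      exact hx
  rw [hEq]
  exact h4


end Groth.Agent.S6915
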