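import Groth.Statements.S6917
import Mathlib
import Groth.Agent.Lib.Helper8.SpecPushout

set_option autoImplicit false
universe u
open CategoryTheory
open EtAlg

namespace Groth.Agent.S6917

/-- Let `B' = B ×_A A'` be a fibre square of rings with `A' → A` surjective. Then `Spec(B') = Spec(B)
⨿_{Spec(A)} Spec(A')`: the square of prime spectra is a pushout of topological spaces. -/
theorem result (B' B A' A : Type u) [CommRing B'] [CommRing B] [CommRing A'] [CommRing A]
    [Algebra B' B] [Algebra B' A'] [Algebra B A] [Algebra A' A] [Algebra B' A] [IsScalarTower B' B A] [IsScalarTower B' A' A]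
    (hsq : EtMil.IsFibreSquare B' B A' A) :
    IsPushout (TopCat.ofHom (ContinuousMap.mk (PrimeSpectrum.comap (algebraMap B A)) (PrimeSpectrum.continuous_comap _))) (TopCat.ofHom (ContinuousMap.mk (PrimeSpectrum.comap (algebraMap A' A)) (PrimeSpectrum.continuous_comap _)))
      (TopCat.ofHom (ContinuousMap.mk (PrimeSpectrum.comap (algebraMap B' B)) (PrimeSpectrum.continuous_comap _)))
      (TopCat.ofHom (ContinuousMap.mk (PrimeSpectrum.comap (algebraMap B' A')) (PrimeSpectrum.continuous_comap _))) := by
  have w : TopCat.ofHom (ContinuousMap.mk (PrimeSpectrum.comap (algebraMap B A)) (PrimeSpectrum.continuous_comap _)) ≫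
      TopCat.ofHom (ContinuousMap.mk (PrimeSpectrum.comap (algebraMap B' B)) (PrimeSpectrum.continuous_comap _)) =
      TopCat.ofHom (ContinuousMap.mk (PrimeSpectrum.comap (algebraMap A' A)) (PrimeSpectrum.continuous_comap _)) ≫
      TopCat.ofHom (ContinuousMap.mk (PrimeSpectrum.comap (algebraMap B' A')) (PrimeSpectrum.continuous_comap _)) := by
    ext x y
    change algebraMap B A (algebraMap B' B y) ∈ x.asIdeal ↔
      algebraMap A' A (algebraMap B' A' y) ∈ x.asIdeal
    rw [Groth.Agent.Lib.helper8.SpecPO.comm_apply (B := B) (A' := A') y]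
  have hT : IsPushout
      ((forget TopCat).map (TopCat.ofHom (ContinuousMap.mk (PrimeSpectrum.comap (algebraMap B A)) (PrimeSpectrum.continuous_comap _))))
      ((forget TopCat).map (TopCat.ofHom (ContinuousMap.mk (PrimeSpectrum.comap (algebraMap A' A)) (PrimeSpectrum.continuous_comap _))))
      ((forget TopCat).map (TopCat.ofHom (ContinuousMap.mk (PrimeSpectrum.comap (algebraMap B' B)) (PrimeSpectrum.continuous_comap _))))
      ((forget TopCat).map (TopCat.ofHom (ContinuousMap.mk (PrimeSpectrum.comap (algebraMap B' A')) (PrimeSpectrum.continuous_comap _)))) := by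
    haveI : Mono ((forget TopCat).map (TopCat.ofHom (ContinuousMap.mk (PrimeSpectrum.comap (algebraMap B' B)) (PrimeSpectrum.continuous_comap _)))) := by
      rw [mono_iff_injective]
      exact PrimeSpectrum.comap_injective_of_surjective _
        (Groth.Agent.Lib.helper12.milnor_surjective hsq)
    apply Limits.Types.isPushout_of_isPullback_of_mono'
    · rw [Limits.Types.isPullback_iff]
      refine ⟨by rw [← Functor.map_comp, ← Functor.map_comp, w], ?_, ?_⟩
      · rintro x y ⟨h1, h2⟩
        exact PrimeSpectrum.comap_injective_of_surjective _ hsq.1 h2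
      · intro q p h
        exact Groth.Agent.Lib.helper8.SpecPO.exists_comap_of_eq hsq q p h
    · ext p
      simp only [Set.sup_eq_union, Set.mem_union, Set.mem_range, Set.mem_univ, iff_true]
      exact Groth.Agent.Lib.helper8.SpecPO.exists_comap_eq hsq p
    · intro x y hx hy hxy
      exact Groth.Agent.Lib.helper8.SpecPO.comap_injOn hsq x y hx hxy
  refine ⟨⟨w⟩, ⟨?_⟩⟩
  have hforget := (Limits.isColimitMapCoconePushoutCoconeEquiv (forget TopCat) w).symm hT.isColimit
  refine ((TopCat.nonempty_isColimit_iff_eq_coinduced _ hforget).mpr ?_).some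
  apply TopologicalSpace.ext_isClosed
  intro Z
  constructor
  · intro hZ
    rw [isClosed_iSup_iff]
    intro j
    rw [isClosed_coinduced]
    exact hZ.preimage ((Limits.PushoutCocone.mk _ _ w).ι.app j).hom.continuous
  · intro hZ
    rw [isClosed_iSup_iff] at hZ
    have h1 := hZ Limits.WalkingSpan.left
    have h2 := hZ Limits.WalkingSpan.right
    rw [isClosed_coinduced] at h1 h2
    exact Groth.Agent.Lib.helper8.SpecPO.isClosed_of_preimages hsq Z h1 h2

end Groth.Agent.S6917
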