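import Groth.Statements.S6919
import Mathlib
import Groth.Agent.Lib.Helper24.FlatTens1
import Groth.Agent.Lib.Helper24.FibCons1

set_option autoImplicit false
universe u
open FlatMor

namespace Groth.Agent.S6919

set_option linter.style.haveILetI false
open TensorProduct

section
variable {R S R' S' : Type u} [CommRing R] [CommRing S] [CommRing R'] [CommRing S']
    [Algebra R S] [Algebra R R'] [Algebra S S'] [Algebra R' S'] [Algebra R S'] [IsScalarTower R S S']
    [IsScalarTower R R' S'] [Algebra.IsPushout R S R' S']

/-- flatness of `S → S'_{q'}` when `R'_{p'}` is flat over `R`. -/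
theorem flat_loc (q' : Ideal S') [q'.IsPrime] (p' : Ideal R') [p'.IsPrime]
    (hp : q'.comap (algebraMap R' S') = p') (h1 : Module.Flat R (Localization.AtPrime p')) :
    Module.Flat S (Localization.AtPrime q') := by
  haveI : IsScalarTower R (Localization.AtPrime p')
      (Localization (Algebra.algebraMapSubmonoid S' p'.primeCompl)) := by
    refine IsScalarTower.of_algebraMap_eq (fun x => ?_)
    rw [IsScalarTower.algebraMap_apply R R' (Localization.AtPrime p'),
      ← IsScalarTower.algebraMap_apply R' (Localization.AtPrime p')
        (Localization (Algebra.algebraMapSubmonoid S' p'.primeCompl)),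
      IsScalarTower.algebraMap_apply R' S' (Localization (Algebra.algebraMapSubmonoid S' p'.primeCompl)),
      ← IsScalarTower.algebraMap_apply R R' S',
      ← IsScalarTower.algebraMap_apply R S' (Localization (Algebra.algebraMapSubmonoid S' p'.primeCompl))]
  have hpo1 : Algebra.IsPushout R' S' (Localization.AtPrime p')
      (Localization (Algebra.algebraMapSubmonoid S' p'.primeCompl)) :=
    Algebra.isPushout_of_isLocalization p'.primeCompl _ _ _
  have hpo0 : Algebra.IsPushout R R' S S' := Algebra.IsPushout.symm inferInstance
  have hpo2 : Algebra.IsPushout R (Localization.AtPrime p') S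
      (Localization (Algebra.algebraMapSubmonoid S' p'.primeCompl)) :=
    (Algebra.IsPushout.comp_iff R R' S (S' := S') (T := Localization.AtPrime p')
      (T' := Localization (Algebra.algebraMapSubmonoid S' p'.primeCompl))).mpr hpo1.symm
  have hpo3 := hpo2.symm
  have hST : Module.Flat S (Localization (Algebra.algebraMapSubmonoid S' p'.primeCompl)) :=
    Module.Flat.isBaseChange R S (Localization.AtPrime p') _ hpo3.out
  have hle : Algebra.algebraMapSubmonoid S' p'.primeCompl ≤ q'.primeCompl := by
    rintro _ ⟨r, hr, rfl⟩
    intro hmem
    apply hr
    rw [← hp]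
    exact hmem
  letI : Algebra (Localization (Algebra.algebraMapSubmonoid S' p'.primeCompl))
      (Localization.AtPrime q') :=
    IsLocalization.localizationAlgebraOfSubmonoidLe _ _ _ _ hle
  haveI : IsScalarTower S' (Localization (Algebra.algebraMapSubmonoid S' p'.primeCompl))
      (Localization.AtPrime q') :=
    IsLocalization.localization_isScalarTower_of_submonoid_le _ _ _ _ hle
  haveI : IsLocalization (q'.primeCompl.map
      (algebraMap S' (Localization (Algebra.algebraMapSubmonoid S' p'.primeCompl))))
      (Localization.AtPrime q') :=
    IsLocalization.isLocalization_of_submonoid_le _ _ _ _ hle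
  haveI : Module.Flat (Localization (Algebra.algebraMapSubmonoid S' p'.primeCompl))
      (Localization.AtPrime q') :=
    IsLocalization.flat _ (q'.primeCompl.map
      (algebraMap S' (Localization (Algebra.algebraMapSubmonoid S' p'.primeCompl))))
  haveI : IsScalarTower S (Localization (Algebra.algebraMapSubmonoid S' p'.primeCompl))
      (Localization.AtPrime q') := by
    refine IsScalarTower.of_algebraMap_eq (fun x => ?_)
    rw [IsScalarTower.algebraMap_apply S S' (Localization.AtPrime q'),
      IsScalarTower.algebraMap_apply S S' (Localization (Algebra.algebraMapSubmonoid S' p'.primeCompl)),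
      ← IsScalarTower.algebraMap_apply S' (Localization (Algebra.algebraMapSubmonoid S' p'.primeCompl))
        (Localization.AtPrime q')]
  exact Module.Flat.trans S (Localization (Algebra.algebraMapSubmonoid S' p'.primeCompl)) _

/-- the core descent step at a fixed triple of primes. -/
theorem core {M M' : Type u} [AddCommGroup M] [Module S M] [Module R M] [IsScalarTower R S M]
    [AddCommGroup M'] [Module S' M'] [Module R' M'] [IsScalarTower R' S' M'] [Module S M']
    [IsScalarTower S S' M']
    (f : M →ₗ[S] M') (hf : IsBaseChange S' f)
    (q : Ideal S) [q.IsPrime] (q' : Ideal S') [q'.IsPrime] (p' : Ideal R') [p'.IsPrime]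
    (hq : q'.comap (algebraMap S S') = q) (hp : q'.comap (algebraMap R' S') = p')
    (h1 : Module.Flat R (Localization.AtPrime p'))
    (h2 : Module.Flat R' (LocalizedModule q'.primeCompl M')) :
    Module.Flat R (LocalizedModule q.primeCompl M) := by
  letI algAB : Algebra (Localization.AtPrime q) (Localization.AtPrime q') :=
    (Localization.localRingHom q q' (algebraMap S S') hq.symm).toAlgebra
  have towSAB : IsScalarTower S (Localization.AtPrime q) (Localization.AtPrime q') :=
    IsScalarTower.of_algebraMap_eq (fun x => by
      rw [RingHom.algebraMap_toAlgebra, Localization.localRingHom_to_map,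
        ← IsScalarTower.algebraMap_apply])
  letI algPB : Algebra (Localization.AtPrime p') (Localization.AtPrime q') :=
    (Localization.localRingHom p' q' (algebraMap R' S') hp.symm).toAlgebra
  have towR'PB : IsScalarTower R' (Localization.AtPrime p') (Localization.AtPrime q') :=
    IsScalarTower.of_algebraMap_eq (fun x => by
      rw [RingHom.algebraMap_toAlgebra, Localization.localRingHom_to_map,
        ← IsScalarTower.algebraMap_apply])
  -- (ii)
  have flSB : Module.Flat S (Localization.AtPrime q') := flat_loc q' p' hp h1
  have flAB : Module.Flat (Localization.AtPrime q) (Localization.AtPrime q') :=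
    (Module.flat_iff_of_isLocalization (Localization.AtPrime q) q.primeCompl
      (Localization.AtPrime q')).mpr flSB
  have locAB : IsLocalHom (algebraMap (Localization.AtPrime q) (Localization.AtPrime q')) := by
    rw [RingHom.algebraMap_toAlgebra]
    exact Localization.isLocalHom_localRingHom q q' (algebraMap S S') hq.symm
  have ffAB : Module.FaithfullyFlat (Localization.AtPrime q) (Localization.AtPrime q') :=
    Module.FaithfullyFlat.of_flat_of_isLocalHom
  -- (iii) flatness of N' over R
  letI modPN' : Module (Localization.AtPrime p') (LocalizedModule q'.primeCompl M') :=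
    Module.compHom _ (algebraMap (Localization.AtPrime p') (Localization.AtPrime q'))
  have towR'PN' : IsScalarTower R' (Localization.AtPrime p') (LocalizedModule q'.primeCompl M') :=
    IsScalarTower.of_algebraMap_smul (fun r n => by
      change algebraMap (Localization.AtPrime p') (Localization.AtPrime q')
        (algebraMap R' (Localization.AtPrime p') r) • n = r • n
      rw [← IsScalarTower.algebraMap_apply R' (Localization.AtPrime p') (Localization.AtPrime q'),
        IsScalarTower.algebraMap_apply R' S' (Localization.AtPrime q'), algebraMap_smul,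
        algebraMap_smul])
  have flPN' : Module.Flat (Localization.AtPrime p') (LocalizedModule q'.primeCompl M') :=
    (Module.flat_iff_of_isLocalization (Localization.AtPrime p') p'.primeCompl
      (LocalizedModule q'.primeCompl M')).mpr h2
  letI modRN' : Module R (LocalizedModule q'.primeCompl M') :=
    Module.compHom _ (algebraMap R R')
  have towRR'N' : IsScalarTower R R' (LocalizedModule q'.primeCompl M') :=
    IsScalarTower.of_algebraMap_smul (fun r n => rfl)
  have towRPN' : IsScalarTower R (Localization.AtPrime p') (LocalizedModule q'.primeCompl M') :=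
    IsScalarTower.of_algebraMap_smul (fun r n => by
      rw [IsScalarTower.algebraMap_apply R R' (Localization.AtPrime p'), algebraMap_smul,
        algebraMap_smul])
  have flRN' : Module.Flat R (LocalizedModule q'.primeCompl M') :=
    Module.Flat.trans R (Localization.AtPrime p') _
  -- (i) base change identification
  letI modAN' : Module (Localization.AtPrime q) (LocalizedModule q'.primeCompl M') :=
    Module.compHom _ (algebraMap (Localization.AtPrime q) (Localization.AtPrime q'))
  have towABN' : IsScalarTower (Localization.AtPrime q) (Localization.AtPrime q')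
      (LocalizedModule q'.primeCompl M') :=
    IsScalarTower.of_algebraMap_smul (fun r n => rfl)
  have towSAN' : IsScalarTower S (Localization.AtPrime q) (LocalizedModule q'.primeCompl M') :=
    IsScalarTower.of_algebraMap_smul (fun r n => by
      change algebraMap (Localization.AtPrime q) (Localization.AtPrime q')
        (algebraMap S (Localization.AtPrime q) r) • n = r • n
      rw [← IsScalarTower.algebraMap_apply S (Localization.AtPrime q) (Localization.AtPrime q'),
        IsScalarTower.algebraMap_apply S S' (Localization.AtPrime q'), algebraMap_smul,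
        algebraMap_smul])
  have towSBN' : IsScalarTower S (Localization.AtPrime q') (LocalizedModule q'.primeCompl M') :=
    IsScalarTower.of_algebraMap_smul (fun r n => by
      rw [IsScalarTower.algebraMap_apply S S' (Localization.AtPrime q'), algebraMap_smul,
        algebraMap_smul])
  have bc1 : IsBaseChange (Localization.AtPrime q')
      (LocalizedModule.mkLinearMap q'.primeCompl M') :=
    LocalizedModule.isBaseChange q'.primeCompl M'
  have bc2 : IsBaseChange (Localization.AtPrime q')
      (((LocalizedModule.mkLinearMap q'.primeCompl M').restrictScalars S).comp f) :=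
    IsBaseChange.comp hf bc1
  have bc3 : IsBaseChange (Localization.AtPrime q) (LocalizedModule.mkLinearMap q.primeCompl M) :=
    LocalizedModule.isBaseChange q.primeCompl M
  let g : LocalizedModule q.primeCompl M →ₗ[Localization.AtPrime q]
      LocalizedModule q'.primeCompl M' :=
    bc3.lift (((LocalizedModule.mkLinearMap q'.primeCompl M').restrictScalars S).comp f)
  have hg : IsBaseChange (Localization.AtPrime q') g := by
    apply IsBaseChange.of_comp bc3
    have e : (g.restrictScalars S) ∘ₗ LocalizedModule.mkLinearMap q.primeCompl M =
        ((LocalizedModule.mkLinearMap q'.primeCompl M').restrictScalars S).comp f :=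
      bc3.lift_comp _
    rw [e]
    exact bc2
  have towRAB : IsScalarTower R (Localization.AtPrime q) (Localization.AtPrime q') :=
    IsScalarTower.of_algebraMap_eq (fun r => by
      rw [IsScalarTower.algebraMap_apply R S (Localization.AtPrime q),
        ← IsScalarTower.algebraMap_apply S (Localization.AtPrime q) (Localization.AtPrime q'),
        ← IsScalarTower.algebraMap_apply R S (Localization.AtPrime q')])
  have towRBN' : IsScalarTower R (Localization.AtPrime q') (LocalizedModule q'.primeCompl M') :=
    IsScalarTower.of_algebraMap_smul (fun r n => by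
      rw [IsScalarTower.algebraMap_apply R S' (Localization.AtPrime q'), algebraMap_smul,
        IsScalarTower.algebraMap_apply R R' S', algebraMap_smul]
      rfl)
  haveI : Module.Flat R ((Localization.AtPrime q') ⊗[Localization.AtPrime q]
      (LocalizedModule q.primeCompl M)) :=
    Module.Flat.of_linearEquiv (hg.equiv.restrictScalars R)
  exact Groth.Agent.Lib.Helper24.FlatTens.flat_of_flat_tensor (C := R)
    (A := Localization.AtPrime q) (P := Localization.AtPrime q')
    (N := LocalizedModule q.primeCompl M)

end

/-- Let `R → S` be a ring map, `J ⊆ S` an ideal, `M` an `S`-module and `I ⊆ R` an ideal; let `R → R'` be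
a ring map and `I' ⊆ R'` an ideal containing `IR'`, and put `S' = S ⊗_R R'`, `M' = M ⊗_R R'`. Assume
that every prime of `R` containing `I` is the contraction of a prime of `R'` containing `I'`, and
that `R'_{𝔭'}` is flat over `R` for every prime `𝔭' ⊇ I'`. If `M'_{𝔮'}` is flat over `R'` for every
prime `𝔮' ⊇ I'S' + JS'` of `S'`, then `M_𝔮` is flat over `R` for every prime `𝔮 ⊇ IS + J` of `S`.
(The published statement descends from a pair `(R'', I'')` to an arbitrary pair `(R', I')` over `R`;
this row takes `(R', I') = (R, I)`.) -/
theorem result {R S R' S' : Type u} [CommRing R] [CommRing S] [CommRing R'] [CommRing S']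
    [Algebra R S] [Algebra R R'] [Algebra S S'] [Algebra R' S'] [Algebra R S'] [IsScalarTower R S S']
    [IsScalarTower R R' S'] [Algebra.IsPushout R S R' S']
    (I : Ideal R) (I' : Ideal R') (hII' : I.map (algebraMap R R') ≤ I')
    {M M' : Type u} [AddCommGroup M] [Module S M] [Module R M] [IsScalarTower R S M]
    [AddCommGroup M'] [Module S' M'] [Module R' M'] [IsScalarTower R' S' M'] [Module S M'] [IsScalarTower S S' M']
    (f : M →ₗ[S] M') (hf : IsBaseChange S' f) (J : Ideal S)
    (hsurj : ∀ (p : Ideal R) [p.IsPrime], I ≤ p → ∃ (p' : Ideal R') (_ : p'.IsPrime), I' ≤ p' ∧ p'.comap (algebraMap R R') = p)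
    (hflat : ∀ (p' : Ideal R') [p'.IsPrime], I' ≤ p' → Module.Flat R (Localization.AtPrime p'))
    (h : (∀ (q : Ideal S') [q.IsPrime], I'.map (algebraMap R' S') ⊔ J.map (algebraMap S S') ≤ q → FlatCA.FlatAt R' q M')) :
    (∀ (q : Ideal S) [q.IsPrime], I.map (algebraMap R S) ⊔ J ≤ q → FlatCA.FlatAt R q M) := by
  intro q hqp hle
  have hIq : I.map (algebraMap R S) ≤ q := le_trans le_sup_left hle
  have hJq : J ≤ q := le_trans le_sup_right hle
  have hIp : I ≤ q.comap (algebraMap R S) := Ideal.map_le_iff_le_comap.mp hIq
  obtain ⟨p', hp'prime, hI'p', hp'p⟩ := hsurj (q.comap (algebraMap R S)) hIp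
  obtain ⟨Q, hQprime, hQ1, hQ2⟩ :=
    Groth.Agent.Lib.Helper24.FibCons.exists_prime_tensor_both (P := R) (A₂ := S) (B₀ := R')
      q p' hp'p.symm
  let e := Algebra.IsPushout.equiv R S R' S'
  let q' : Ideal S' := Q.comap (e.symm : S' →+* S ⊗[R] R')
  have hq'prime : q'.IsPrime := Ideal.comap_isPrime _ _
  have hq'q : q'.comap (algebraMap S S') = q := by
    rw [← hQ1]
    ext s
    simp only [q', Ideal.mem_comap]
    rw [show ((e.symm : S' →+* S ⊗[R] R') (algebraMap S S' s)) = algebraMap S (S ⊗[R] R') s from
      Algebra.IsPushout.equiv_symm_algebraMap_left R S R' S' s]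
  have hq'p' : q'.comap (algebraMap R' S') = p' := by
    rw [← hQ2]
    ext s
    simp only [q', Ideal.mem_comap]
    rw [show ((e.symm : S' →+* S ⊗[R] R') (algebraMap R' S' s)) = (1 : S) ⊗ₜ[R] s from
      Algebra.IsPushout.equiv_symm_algebraMap_right R S R' S' s]
    rfl
  have hle' : I'.map (algebraMap R' S') ⊔ J.map (algebraMap S S') ≤ q' := by
    apply sup_le
    · rw [Ideal.map_le_iff_le_comap, hq'p']
      exact hI'p'
    · rw [Ideal.map_le_iff_le_comap, hq'q]
      exact hJq
  exact core f hf q q' p' hq'q hq'p' (hflat p' hI'p') (h q' hle')

end Groth.Agent.S6919
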