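import Groth.Statements.S6920
import Mathlib
import Groth.Agent.Lib.Helper23.EpiRes
-- import your own Groth.Agent.* helpers here

set_option autoImplicit false
universe u
open CategoryTheory CategoryTheory.Limits MonoidalCategory
open DRing

namespace Groth.Agent.S6920

/-- For an epimorphism of rings `φ : R → S` and a complex `I•` of `S`-modules, if the underlying complex
of `R`-modules of `I•` is K-injective, then `I•` itself is K-injective over `S`. -/
theorem result (R S : Type u) [CommRing R] [CommRing S] (φ : R →+* S)
    (hφ : Epi (CommRingCat.ofHom φ)) (I : DRing.Cx S)
    [CochainComplex.IsKInjective ((DRing.restrictCx φ).obj I)] : CochainComplex.IsKInjective I := by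
  haveI h : CochainComplex.IsKInjective
      (((ModuleCat.restrictScalars φ).mapHomologicalComplex (ComplexShape.up ℤ)).obj I) :=
    ‹CochainComplex.IsKInjective ((DRing.restrictCx φ).obj I)›
  exact Groth.Agent.Lib.helper23.EpiRes.isKInjective_of_restrict φ hφ I

end Groth.Agent.S6920
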