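import Groth.Statements.S6921
import Mathlib
import Groth.Agent.Lib.Helper8.MilnorRel

set_option autoImplicit false
universe u
open TensorProduct
open EtAlg

namespace Groth.Agent.S6921

/-- Let `B' = B ×_A A'` be a fibre square of rings with `A' → A` surjective, `B' → D'` a ring map, and
`D = D' ⊗_{B'} B`, `C' = D' ⊗_{B'} A'`, `C = D' ⊗_{B'} A`. Let `N` be a finite `D`-module, `M'` a
finite `C'`-module and `φ : N ⊗_D C ≅ M' ⊗_{C'} C` a `C`-linear isomorphism. Then the glued module
`N ×_φ M'` is a finite `D'`-module. -/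
theorem result (B' B A' A : Type u) [CommRing B'] [CommRing B] [CommRing A'] [CommRing A]
    [Algebra B' B] [Algebra B' A'] [Algebra B A] [Algebra A' A] [Algebra B' A] [IsScalarTower B' B A] [IsScalarTower B' A' A]
    (hsq : EtMil.IsFibreSquare B' B A' A)
    (D' D C' C : Type u) [CommRing D'] [CommRing D] [CommRing C'] [CommRing C]
    [Algebra B' D'] [Algebra B D] [Algebra A' C'] [Algebra A C]
    [Algebra D' D] [Algebra B' D] [IsScalarTower B' B D] [IsScalarTower B' D' D] [Algebra.IsPushout B' B D' D]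
    [Algebra D' C'] [Algebra B' C'] [IsScalarTower B' A' C'] [IsScalarTower B' D' C'] [Algebra.IsPushout B' A' D' C']
    [Algebra D' C] [Algebra B' C] [IsScalarTower B' A C] [IsScalarTower B' D' C] [Algebra.IsPushout B' A D' C]
    [Algebra D C] [IsScalarTower D' D C] [Algebra B C] [IsScalarTower B A C] [IsScalarTower B D C]
    [Algebra C' C] [IsScalarTower D' C' C] [Algebra A' C] [IsScalarTower A' A C] [IsScalarTower A' C' C]
    {N M' : Type u} [AddCommGroup N] [Module D N] [Module D' N] [IsScalarTower D' D N]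
    [AddCommGroup M'] [Module C' M'] [Module D' M'] [IsScalarTower D' C' M'] (φ : C ⊗[D] N ≃ₗ[C] C ⊗[C'] M')
    [Module.Finite D N] [Module.Finite C' M'] : Module.Finite D' ↥(EtMil.glue D' φ) := by
  have hBs : Function.Surjective (algebraMap B' B) :=
    Groth.Agent.Lib.helper12.milnor_surjective hsq
  -- `D' → D` is surjective
  have h1 : Function.Surjective (algebraMap D' D) := by
    intro x
    have hbc : IsBaseChange B (IsScalarTower.toAlgHom B' D' D).toLinearMap :=
      Algebra.IsPushout.out
    refine hbc.inductionOn x (fun x => ∃ d', algebraMap D' D d' = x) ⟨0, map_zero _⟩ ?_ ?_ ?_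
    · intro d'
      exact ⟨d', rfl⟩
    · rintro b _ ⟨d', rfl⟩
      obtain ⟨b', rfl⟩ := hBs b
      refine ⟨algebraMap B' D' b' * d', ?_⟩
      rw [map_mul, Algebra.smul_def, ← IsScalarTower.algebraMap_apply B' D' D,
        ← IsScalarTower.algebraMap_apply B' B D]
    · rintro _ _ ⟨d₁, rfl⟩ ⟨d₂, rfl⟩
      exact ⟨d₁ + d₂, map_add _ _ _⟩
  -- `C' → C` is surjective
  have h2 : Function.Surjective (algebraMap C' C) := by
    intro x
    have hbc : IsBaseChange A (IsScalarTower.toAlgHom B' D' C).toLinearMap :=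
      Algebra.IsPushout.out
    refine hbc.inductionOn x (fun x => ∃ c', algebraMap C' C c' = x) ⟨0, map_zero _⟩ ?_ ?_ ?_
    · intro d'
      exact ⟨algebraMap D' C' d', (IsScalarTower.algebraMap_apply D' C' C d').symm⟩
    · rintro a _ ⟨c', rfl⟩
      obtain ⟨a', rfl⟩ := hsq.1 a
      refine ⟨algebraMap A' C' a' * c', ?_⟩
      rw [map_mul, Algebra.smul_def, ← IsScalarTower.algebraMap_apply A' C' C,
        ← IsScalarTower.algebraMap_apply A' A C]
    · rintro _ _ ⟨c₁, rfl⟩ ⟨c₂, rfl⟩
      exact ⟨c₁ + c₂, map_add _ _ _⟩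
  -- the kernel of `C' → C` is covered by the kernel of `D' → D`
  have h3 : ∀ c' : C', algebraMap C' C c' = 0 →
      ∃ δ : D', algebraMap D' D δ = 0 ∧ algebraMap D' C' δ = c' := by
    have hbc' : IsBaseChange A' (IsScalarTower.toAlgHom B' D' C').toLinearMap :=
      Algebra.IsPushout.out
    have hbc : IsBaseChange A (IsScalarTower.toAlgHom B' D' C).toLinearMap :=
      Algebra.IsPushout.out
    let f : A' →ₗ[B'] A := (IsScalarTower.toAlgHom B' A' A).toLinearMap
    have hf : Function.Surjective f := hsq.1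
    let ψ : A' ⊗[B'] D' →ₗ[B'] A ⊗[B'] D' := LinearMap.rTensor D' f
    have hcomm : ∀ z : A' ⊗[B'] D', hbc.equiv (ψ z) = algebraMap C' C (hbc'.equiv z) := by
      intro z
      induction z using TensorProduct.induction_on with
      | zero => simp
      | tmul a' d' =>
        have e1 : ψ (a' ⊗ₜ[B'] d') = (algebraMap A' A a') ⊗ₜ[B'] d' := rfl
        rw [e1, IsBaseChange.equiv_tmul, IsBaseChange.equiv_tmul]
        show algebraMap A' A a' • algebraMap D' C d' = algebraMap C' C (a' • algebraMap D' C' d')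
        rw [Algebra.smul_def, Algebra.smul_def, map_mul, ← IsScalarTower.algebraMap_apply A' C' C,
          ← IsScalarTower.algebraMap_apply A' A C, ← IsScalarTower.algebraMap_apply D' C' C]
      | add x y hx hy => rw [map_add, map_add, map_add, map_add, hx, hy]
    have hex : Function.Exact (LinearMap.rTensor D' (LinearMap.ker f).subtype) ψ :=
      rTensor_exact D' (LinearMap.exact_subtype_ker_map f) hf
    have hw : ∀ w : (LinearMap.ker f) ⊗[B'] D', ∃ δ : D', algebraMap D' D δ = 0 ∧
        algebraMap D' C' δ = hbc'.equiv (LinearMap.rTensor D' (LinearMap.ker f).subtype w) := by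
      intro w
      induction w using TensorProduct.induction_on with
      | zero => exact ⟨0, map_zero _, by simp⟩
      | tmul i d' =>
        have hi : algebraMap A' A (i : A') = 0 := LinearMap.mem_ker.mp i.2
        obtain ⟨j, ⟨hj1, hj2⟩, -⟩ := hsq.2 0 (i : A') (by rw [map_zero, hi])
        refine ⟨algebraMap B' D' j * d', ?_, ?_⟩
        · rw [map_mul, ← IsScalarTower.algebraMap_apply B' D' D,
            IsScalarTower.algebraMap_apply B' B D, hj1, map_zero, zero_mul]
        · have e1 : LinearMap.rTensor D' (LinearMap.ker f).subtype (i ⊗ₜ[B'] d')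
              = (i : A') ⊗ₜ[B'] d' := rfl
          rw [e1, IsBaseChange.equiv_tmul]
          show _ = (i : A') • algebraMap D' C' d'
          rw [map_mul, ← IsScalarTower.algebraMap_apply B' D' C',
            IsScalarTower.algebraMap_apply B' A' C', hj2, Algebra.smul_def]
      | add x y hx hy =>
        obtain ⟨δ₁, a₁, b₁⟩ := hx
        obtain ⟨δ₂, a₂, b₂⟩ := hy
        exact ⟨δ₁ + δ₂, by rw [map_add, a₁, a₂, add_zero], by rw [map_add, map_add, map_add, b₁, b₂]⟩
    intro c' hc'
    have hz : ψ (hbc'.equiv.symm c') = 0 := by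
      apply hbc.equiv.injective
      rw [hcomm, LinearEquiv.apply_symm_apply, hc', map_zero]
    obtain ⟨w, hw'⟩ := (hex _).mp hz
    obtain ⟨δ, hδ1, hδ2⟩ := hw w
    exact ⟨δ, hδ1, by rw [hδ2, hw', LinearEquiv.apply_symm_apply]⟩
  exact Groth.Agent.Lib.helper8.Mil.glue_finite_of_surjective φ h1 h2 h3

end Groth.Agent.S6921
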