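import Groth.Statements.S6923
import Mathlib

set_option autoImplicit false
universe u
open Hensel

namespace Groth.Agent.S6923

open Matrix in
theorem exists_compat : ∀ (n : ℕ) (B : ℕ → Type u) (t : ∀ n, B (n + 1) → B n)
    (_ : ∀ n, Function.Surjective (t n)) (a : B n),
    ∃ z : ∀ m, B m, (∀ m, t m (z (m + 1)) = z m) ∧ z n = a := by
  intro n
  induction n with
  | zero =>
    intro B t ht a
    refine ⟨fun k => Nat.rec (motive := fun k => B k) a
      (fun k y => Classical.choose (ht k y)) k, fun k => ?_, rfl⟩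
    exact Classical.choose_spec (ht k (Nat.rec (motive := fun k => B k) a
      (fun k y => Classical.choose (ht k y)) k))
  | succ n ih =>
    intro B t ht a
    obtain ⟨x', hx', hm⟩ := ih (fun k => B (k + 1)) (fun k => t (k + 1))
      (fun k => ht (k + 1)) a
    refine ⟨fun j => Nat.rec (motive := fun j => B j) (t 0 (x' 0)) (fun k _ => x' k) j,
      fun k => ?_, hm⟩
    cases k with
    | zero => rfl
    | succ k => exact hx' k

theorem dep_choice {S : ℕ → Type u} (P : ∀ n, S n → S (n + 1) → Prop) (s0 : S 0)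
    (h : ∀ n d, ∃ d', P n d d') : ∃ D : ∀ n, S n, D 0 = s0 ∧ ∀ n, P n (D n) (D (n + 1)) :=
  ⟨fun n => Nat.rec (motive := fun n => S n) s0 (fun n d => Classical.choose (h n d)) n, rfl,
    fun n => Classical.choose_spec (h n _)⟩

theorem matrix_isNilpotent {R : Type u} [CommRing R] {r : ℕ}
    (X : Matrix (Fin r) (Fin r) R) (hX : ∀ i j, IsNilpotent (X i j)) : IsNilpotent X := by
  obtain ⟨I, hI⟩ : ∃ I : Ideal R,
      I = Ideal.span (Set.range fun ij : Fin r × Fin r => X ij.1 ij.2) := ⟨_, rfl⟩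
  have hIfg : I.FG := by rw [hI]; exact Submodule.fg_span (Set.finite_range _)
  have hIle : I ≤ nilradical R := by
    rw [hI, Ideal.span_le]
    rintro _ ⟨ij, rfl⟩
    exact (mem_nilradical).mpr (hX ij.1 ij.2)
  have hXI : ∀ i j, X i j ∈ I := fun i j => by
    rw [hI]; exact Ideal.subset_span ⟨(i, j), rfl⟩
  obtain ⟨N, hN⟩ := (Ideal.FG.isNilpotent_iff_le_nilradical hIfg).mpr hIle
  have key : ∀ k : ℕ, ∀ i j, (X ^ k) i j ∈ I ^ k := by
    intro k
    induction k with
    | zero => intro i j; rw [pow_zero, Ideal.one_eq_top]; exact Submodule.mem_top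
    | succ k ih =>
      intro i j
      rw [pow_succ, pow_succ, Matrix.mul_apply]
      exact Ideal.sum_mem _ fun l _ => Ideal.mul_mem_mul (ih i l) (hXI l j)
  refine ⟨N, ?_⟩
  ext i j
  have h1 := key N i j
  rw [hN, Ideal.zero_eq_bot, Ideal.mem_bot] at h1
  rw [h1]; rfl

open Matrix in
theorem step {R R' : Type u} [CommRing R] [CommRing R'] (t : R →+* R')
    (ht : Function.Surjective t) (hnil : ∀ x : R, t x = 0 → IsNilpotent x)
    {M M' : Type u} [AddCommGroup M] [Module R M] [AddCommGroup M'] [Module R' M']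
    [Module.Finite R M] [Module.Flat R M]
    (u : M →ₛₗ[t] M') (hker : LinearMap.ker u = RingHom.ker t • (⊤ : Submodule R M))
    {r : ℕ} (z : Fin r → M)
    (s' : M' →ₗ[R'] (Fin r → R')) (hs' : ∀ m', ∑ i, s' m' i • u (z i) = m') :
    ∃ s : M →ₗ[R] (Fin r → R), (∀ m, ∑ i, s m i • z i = m) ∧
      ∀ m i, t (s m i) = s' (u m) i := by
  classical
  obtain ⟨φ', hφ'⟩ : ∃ φ' : (Fin r → R') → M', ∀ w, φ' w = ∑ i, w i • u (z i) :=
    ⟨_, fun _ => rfl⟩
  have hφ's' : ∀ m', φ' (s' m') = m' := fun m' => by rw [hφ']; exact hs' m'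
  have hA : ∀ v : Fin r → R, u (∑ i, v i • z i) = φ' (fun i => t (v i)) := by
    intro v
    rw [hφ', map_sum]
    refine Finset.sum_congr rfl fun i _ => ?_
    rw [map_smulₛₗ]
  obtain ⟨E', hE'⟩ : ∃ E' : Matrix (Fin r) (Fin r) R', ∀ i j, E' i j = s' (u (z j)) i :=
    ⟨Matrix.of fun i j => s' (u (z j)) i, fun _ _ => rfl⟩
  have hB : ∀ w : Fin r → R', E' *ᵥ w = s' (φ' w) := by
    intro w
    funext i
    rw [hφ', map_sum, Finset.sum_apply]
    show ∑ j, E' i j * w j = _
    refine Finset.sum_congr rfl fun j _ => ?_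
    rw [map_smul, Pi.smul_apply, smul_eq_mul, hE', mul_comm]
  have hC : IsIdempotentElem E' := by
    show E' * E' = E'
    ext i k
    rw [Matrix.mul_apply]
    have h1 : s' (∑ j, s' (u (z k)) j • u (z j)) i = s' (u (z k)) i := by rw [hs']
    rw [map_sum, Finset.sum_apply] at h1
    rw [hE' i k, ← h1]
    refine Finset.sum_congr rfl fun j _ => ?_
    rw [map_smul, Pi.smul_apply, smul_eq_mul, hE', hE', mul_comm]
  have hkn : ∀ X ∈ RingHom.ker (RingHom.mapMatrix t :
      Matrix (Fin r) (Fin r) R →+* Matrix (Fin r) (Fin r) R'), IsNilpotent X := by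
    intro X hX
    refine matrix_isNilpotent X fun i j => hnil _ ?_
    have h0 := (RingHom.mem_ker).mp hX
    have h1 := congrFun (congrFun h0 i) j
    exact h1
  obtain ⟨E, hEid, hEmap⟩ := exists_isIdempotentElem_eq_of_ker_isNilpotent
    (RingHom.mapMatrix t : Matrix (Fin r) (Fin r) R →+* Matrix (Fin r) (Fin r) R') hkn E'
    ⟨Matrix.of fun i j => Function.surjInv ht (E' i j), by
      ext i j
      exact Function.surjInv_eq ht (E' i j)⟩ hC
  have hEt : ∀ i j, t (E i j) = E' i j := fun i j => congrFun (congrFun hEmap i) j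
  have hEE : ∀ v : Fin r → R, E *ᵥ (E *ᵥ v) = E *ᵥ v := fun v => by
    rw [Matrix.mulVec_mulVec, hEid.eq]
  have hD : ∀ (v : Fin r → R) (i : Fin r),
      t ((E *ᵥ v) i) = (E' *ᵥ fun j => t (v j)) i := by
    intro v i
    show t (∑ j, E i j * v j) = ∑ j, E' i j * t (v j)
    rw [map_sum]
    refine Finset.sum_congr rfl fun j _ => ?_
    rw [map_mul, hEt]
  obtain ⟨G, hG⟩ : ∃ G : (Fin r → R) →ₗ[R] M, ∀ v, G v = ∑ i, (E *ᵥ v) i • z i :=
    ⟨(Fintype.linearCombination R z) ∘ₗ (Matrix.mulVecLin E), fun v => by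
      rw [LinearMap.comp_apply, Fintype.linearCombination_apply, Matrix.mulVecLin_apply]⟩
  have huG : ∀ v : Fin r → R, u (G v) = φ' (fun j => t (v j)) := by
    intro v
    rw [hG, hA, show (fun i => t ((E *ᵥ v) i)) = E' *ᵥ (fun j => t (v j)) from funext (hD v),
      hB, hφ's']
  have htG : ∀ (v : Fin r → R) (i : Fin r),
      t ((E *ᵥ v) i) = s' (φ' (fun j => t (v j))) i := by
    intro v i
    rw [hD, hB]
  have hJ : RingHom.ker t ≤ Ideal.jacobson (⊥ : Ideal R) := by
    intro a ha
    have h1 : a ∈ nilradical R := mem_nilradical.mpr (hnil a ((RingHom.mem_ker).mp ha))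
    exact Ideal.radical_le_jacobson h1
  have hGsurj : Function.Surjective G := by
    rw [← LinearMap.range_eq_top]
    refine top_le_iff.mp ?_
    refine Submodule.le_of_le_smul_of_le_jacobson_bot (Module.Finite.fg_top) hJ ?_
    intro m _
    obtain ⟨w, hw⟩ : ∃ w : Fin r → R, ∀ i, t (w i) = s' (u m) i :=
      ⟨fun i => Function.surjInv ht (s' (u m) i), fun i => Function.surjInv_eq ht _⟩
    have h1 : u (m - G w) = 0 := by
      rw [map_sub, huG, show (fun j => t (w j)) = s' (u m) from funext hw, hφ's', sub_self]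
    have h2 : m - G w ∈ RingHom.ker t • (⊤ : Submodule R M) := by
      rw [← hker]; exact LinearMap.mem_ker.mpr h1
    have h3 : m = G w + (m - G w) := by abel
    rw [h3]
    exact Submodule.add_mem_sup (LinearMap.mem_range_self G w) h2
  have hF : ∀ v : Fin r → R, G v = 0 → ∀ i, t ((E *ᵥ v) i) = 0 := by
    intro v hv i
    have h1 : φ' (fun j => t (v j)) = 0 := by rw [← huG, hv, map_zero]
    rw [htG, h1, map_zero]; rfl
  have hGker : ∀ v : Fin r → R, G v = 0 → E *ᵥ v = 0 := by
    intro v hv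
    obtain ⟨c, hc⟩ : ∃ c : Fin r → R, c = E *ᵥ v := ⟨_, rfl⟩
    have hGc : G c = 0 := by
      rw [hG, hc, hEE, ← hG]; exact hv
    obtain ⟨k, a, y, hya, hac⟩ :=
      Module.Flat.exists_factorization_of_apply_eq_zero_of_free (R := R) (M := M) hGc
    obtain ⟨b, hb⟩ := Module.projective_lifting_property G y hGsurj
    obtain ⟨Θ, hΘ⟩ : ∃ Θ : (Fin r → R) →ₗ[R] (Fin r → R),
        ∀ w, Θ w = E *ᵥ (w - b (a w)) :=
      ⟨(Matrix.mulVecLin E) ∘ₗ (LinearMap.id - b ∘ₗ a), fun w => by
        rw [LinearMap.comp_apply, Matrix.mulVecLin_apply, LinearMap.sub_apply,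
          LinearMap.id_apply, LinearMap.comp_apply]⟩
    have hΘc : Θ c = c := by
      rw [hΘ, hac, map_zero, sub_zero, hc, hEE]
    have hGθ : ∀ w, G (w - b (a w)) = 0 := by
      intro w
      have h1 : G (b (a w)) = y (a w) := by
        rw [← LinearMap.comp_apply G b, hb]
      have h2 : G w = y (a w) := by
        rw [hya, LinearMap.comp_apply]
      rw [map_sub, h1, h2, sub_self]
    have hΘt : ∀ w i, t (Θ w i) = 0 := fun w i => by rw [hΘ]; exact hF _ (hGθ w) i
    obtain ⟨X, hX⟩ : ∃ X : Matrix (Fin r) (Fin r) R, X = LinearMap.toMatrix' Θ := ⟨_, rfl⟩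
    have hXnil : IsNilpotent X := by
      refine matrix_isNilpotent X fun i j => hnil _ ?_
      rw [hX, LinearMap.toMatrix'_apply]
      exact hΘt _ i
    have hXc : X *ᵥ c = c := by rw [hX, LinearMap.toMatrix'_mulVec, hΘc]
    obtain ⟨N, hN⟩ := hXnil
    have hpow : ∀ k : ℕ, (X ^ k) *ᵥ c = c := by
      intro k
      induction k with
      | zero => rw [pow_zero, Matrix.one_mulVec]
      | succ k ih => rw [pow_succ, ← Matrix.mulVec_mulVec, hXc, ih]
    have h5 := hpow N
    rw [hN, Matrix.zero_mulVec] at h5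
    rw [← hc, ← h5]
  have hle : LinearMap.ker G ≤ LinearMap.ker (Matrix.mulVecLin E) := fun v hv => by
    rw [LinearMap.mem_ker, Matrix.mulVecLin_apply]
    exact hGker v (LinearMap.mem_ker.mp hv)
  obtain ⟨s, hs⟩ : ∃ s : M →ₗ[R] (Fin r → R), ∀ v, s (G v) = E *ᵥ v := by
    refine ⟨((LinearMap.ker G).liftQ (Matrix.mulVecLin E) hle) ∘ₗ
      (G.quotKerEquivOfSurjective hGsurj).symm.toLinearMap, fun v => ?_⟩
    have h1 : (G.quotKerEquivOfSurjective hGsurj).symm (G v) = Submodule.Quotient.mk v := by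
      rw [LinearEquiv.symm_apply_eq, LinearMap.quotKerEquivOfSurjective_apply_mk]
    rw [LinearMap.comp_apply, LinearEquiv.coe_coe, h1, Submodule.liftQ_apply,
      Matrix.mulVecLin_apply]
  refine ⟨s, fun m => ?_, fun m i => ?_⟩
  · obtain ⟨v, rfl⟩ := hGsurj m
    rw [hs, ← hG]
  · obtain ⟨v, rfl⟩ := hGsurj m
    rw [hs, htG, huG]



/-- Let `A = lim A_n` be the limit of an inverse system of rings `(A_n)_{n ≥ 0}` in which each map
`A_{n+1} → A_n` is onto and every element of its kernel is nilpotent. Let `M_n` be `A_n`-modules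
with compatible maps `M_{n+1} → M_n` such that `M_0` is finite projective, every `M_n` is finite and
flat over `A_n`, and the maps induce isomorphisms `M_{n+1} ⊗_{A_{n+1}} A_n → M_n` (i.e. are
surjective with kernel `Ker(A_{n+1} → A_n) M_{n+1}`). Then the inverse limit of the `M_n` is a
finitely generated projective `A`-module whose base change to each `A_n` maps onto `M_n`
isomorphically: there is a finite projective `A`-module `P` with compatible maps `P → M_n`, each
surjective with kernel `Ker(A → A_n) P`, through which `P` maps bijectively onto the compatible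
sequences in `∏ M_n`. -/
theorem result (A : Type u) [CommRing A] (An : ℕ → Type u)
    [∀ n, CommRing (An n)] (t : ∀ n, An (n + 1) →+* An n) (π : ∀ n, A →+* An n)
    (ht : ∀ n, Function.Surjective (t n)) (hnil : ∀ n (x : An (n + 1)), t n x = 0 → IsNilpotent x)
    (hA : FlatCA.IsRingLimit A An t π)
    (M : ℕ → Type u) [∀ n, AddCommGroup (M n)] [∀ n, Module (An n) (M n)] (u : ∀ n, M (n + 1) →ₛₗ[t n] M n)
    [Module.Projective (An 0) (M 0)] (hfin : ∀ n, Module.Finite (An n) (M n)) (hflat : ∀ n, Module.Flat (An n) (M n))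
    (hu : ∀ n, Function.Surjective (u n) ∧ LinearMap.ker (u n) = RingHom.ker (t n) • (⊤ : Submodule (An (n + 1)) (M (n + 1)))) :
    ∃ (P : Type u) (_ : AddCommGroup P) (_ : Module A P) (p : ∀ n, P →ₛₗ[π n] M n),
      Module.Finite A P ∧ Module.Projective A P ∧ (∀ n (x : P), u n (p (n + 1) x) = p n x) ∧
      (∀ n, Function.Surjective (p n) ∧ LinearMap.ker (p n) = RingHom.ker (π n) • (⊤ : Submodule A P)) ∧
      (∀ x : (∀ n, M n), (∀ n, u n (x (n + 1)) = x n) → ∃! q : P, ∀ n, p n q = x n) := by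
  classical
  obtain ⟨hcomp, hinj, hex⟩ := hA
  haveI hfinI : ∀ n, Module.Finite (An n) (M n) := hfin
  haveI hflatI : ∀ n, Module.Flat (An n) (M n) := hflat
  have hc : ∀ n a, t n (π (n + 1) a) = π n a := fun n a => RingHom.congr_fun (hcomp n) a
  have hus : ∀ n, Function.Surjective (u n) := fun n => (hu n).1
  obtain ⟨r, x, hx⟩ := Module.Finite.exists_fin (R := An 0) (M := M 0)
  choose z hz0' hz0 using fun i : Fin r =>
    exists_compat 0 M (fun n => (u n : M (n + 1) → M n)) hus (x i)
  have hz : ∀ i m, u m (z i (m + 1)) = z i m := hz0'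
  -- s_0
  have hφ0surj : Function.Surjective (Fintype.linearCombination (An 0) (fun i => z i 0)) := by
    rw [← LinearMap.range_eq_top, Fintype.range_linearCombination,
      show (fun i => z i 0) = x from funext hz0, hx]
  obtain ⟨s0, hs0⟩ := Module.projective_lifting_property
    (Fintype.linearCombination (An 0) (fun i => z i 0)) LinearMap.id hφ0surj
  have hs0' : ∀ m, ∑ i, s0 m i • z i 0 = m := fun m => by
    have h1 := LinearMap.congr_fun hs0 m
    rw [LinearMap.comp_apply, Fintype.linearCombination_apply, LinearMap.id_apply] at h1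
    exact h1
  -- stages
  obtain ⟨D, -, hD⟩ := dep_choice
    (S := fun n => {s : M n →ₗ[An n] (Fin r → An n) // ∀ m, ∑ i, s m i • z i n = m})
    (fun n d d' => ∀ m i, t n (d'.1 m i) = d.1 (u n m) i) ⟨s0, hs0'⟩ (by
      intro n d
      obtain ⟨s, hs1, hs2⟩ := step (t n) (ht n) (hnil n) (u n) (hu n).2
        (fun i => z i (n + 1)) d.1 (fun m' => by
          have h1 := d.2 m'
          simp only [hz]
          exact h1)
      exact ⟨⟨s, hs1⟩, hs2⟩)
  obtain ⟨s, hsdef⟩ : ∃ s : ∀ n, M n →ₗ[An n] (Fin r → An n), ∀ n, s n = (D n).1 :=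
    ⟨fun n => (D n).1, fun _ => rfl⟩
  have hs_sec : ∀ n m, ∑ i, s n m i • z i n = m := fun n m => by rw [hsdef]; exact (D n).2 m
  have hs_compat : ∀ n m i, t n (s (n + 1) m i) = s n (u n m) i := fun n m i => by
    rw [hsdef, hsdef]; exact hD n m i
  -- π n surjective
  have hπsurj : ∀ n, Function.Surjective (π n) := by
    intro n a
    obtain ⟨zz, hzz, hzzn⟩ := exists_compat n An (fun k => (t k : An (k + 1) → An k)) ht a
    obtain ⟨a', ha'⟩ := hex zz hzz
    exact ⟨a', by rw [ha', hzzn]⟩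
  -- the module
  letI modM : ∀ n, Module A (M n) := fun n => Module.compHom (M n) (π n)
  have hsm : ∀ n (a : A) (m : M n), a • m = π n a • m := fun n a m => rfl
  let P : Submodule A (∀ n, M n) :=
    { carrier := {y | ∀ n, u n (y (n + 1)) = y n}
      add_mem' := fun {y y'} hy hy' n => by
        show u n ((y + y') (n + 1)) = (y + y') n
        rw [Pi.add_apply, Pi.add_apply, map_add, hy n, hy' n]
      zero_mem' := fun n => by
        show u n ((0 : ∀ n, M n) (n + 1)) = (0 : ∀ n, M n) n
        rw [Pi.zero_apply, Pi.zero_apply, map_zero]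
      smul_mem' := fun a y hy n => by
        show u n ((a • y) (n + 1)) = (a • y) n
        rw [Pi.smul_apply, Pi.smul_apply, hsm, hsm, map_smulₛₗ, hy n, hc] }
  have hPmem : ∀ y : ↥P, ∀ n, u n (y.1 (n + 1)) = y.1 n := fun y => y.2
  let p : ∀ n, ↥P →ₛₗ[π n] M n := fun n =>
    { toFun := fun y => y.1 n
      map_add' := fun _ _ => rfl
      map_smul' := fun _ _ => rfl }
  have hp : ∀ n (y : ↥P), p n y = y.1 n := fun _ _ => rfl
  -- ρ
  let ρ0 : (Fin r → A) →ₗ[A] (∀ n, M n) :=
    LinearMap.pi fun n => Fintype.linearCombination A (fun i => z i n)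
  have hρ0 : ∀ v n, ρ0 v n = ∑ i, π n (v i) • z i n := fun v n => by
    show (LinearMap.pi fun n => Fintype.linearCombination A (fun i => z i n)) v n = _
    rw [LinearMap.pi_apply, Fintype.linearCombination_apply]
    rfl
  have hρ0mem : ∀ v, ρ0 v ∈ P := by
    intro v n
    rw [hρ0, hρ0, map_sum]
    refine Finset.sum_congr rfl fun i _ => ?_
    rw [map_smulₛₗ, hz, hc]
  let ρ : (Fin r → A) →ₗ[A] ↥P := ρ0.codRestrict P hρ0mem
  have hρ : ∀ v n, (ρ v).1 n = ∑ i, π n (v i) • z i n := fun v n => hρ0 v n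
  -- ι
  have hι : ∀ (y : ↥P) (j : Fin r), ∃ a : A, ∀ n, π n a = s n (y.1 n) j := fun y j =>
    hex (fun n => s n (y.1 n) j) (fun n => by rw [hs_compat, hPmem y n])
  choose ιf hιf using hι
  let ι : ↥P →ₗ[A] (Fin r → A) :=
    { toFun := ιf
      map_add' := fun y y' => by
        funext j
        apply hinj
        intro n
        have h1 : (y + y').1 n = y.1 n + y'.1 n := rfl
        rw [Pi.add_apply, map_add, hιf, hιf, hιf, h1, map_add, Pi.add_apply]
      map_smul' := fun a y => by
        funext j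
        apply hinj
        intro n
        have h1 : (a • y).1 n = π n a • y.1 n := rfl
        rw [RingHom.id_apply, Pi.smul_apply, smul_eq_mul, map_mul, hιf, hιf, h1, map_smul,
          Pi.smul_apply, smul_eq_mul] }
  have hιapp : ∀ y, ι y = ιf y := fun _ => rfl
  have hρι : ∀ y, ρ (ι y) = y := by
    intro y
    apply Subtype.ext
    funext n
    rw [hρ]
    have h1 : ∀ i, π n (ι y i) = s n (y.1 n) i := fun i => by rw [hιapp, hιf]
    simp only [h1]
    exact hs_sec n (y.1 n)
  have hPfin : Module.Finite A ↥P := Module.Finite.of_surjective ρ (fun y => ⟨ι y, hρι y⟩)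
  have hPproj : Module.Projective A ↥P :=
    Module.Projective.of_split ι ρ (LinearMap.ext hρι)
  refine ⟨↥P, inferInstance, inferInstance, p, hPfin, hPproj, fun n y => hPmem y n, ?_, ?_⟩
  · intro n
    refine ⟨?_, ?_⟩
    · intro m
      obtain ⟨w, hw⟩ : ∃ w : Fin r → A, ∀ j, π n (w j) = s n m j :=
        ⟨fun j => Function.surjInv (hπsurj n) (s n m j),
          fun j => Function.surjInv_eq (hπsurj n) _⟩
      refine ⟨ρ w, ?_⟩
      rw [hp, hρ]
      simp only [hw]
      exact hs_sec n m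
    · apply le_antisymm
      · intro y hy
        have hy0 : y.1 n = 0 := by
          have h1 := LinearMap.mem_ker.mp hy
          rw [hp] at h1
          exact h1
        have hw : ∀ i, ιf y i ∈ RingHom.ker (π n) := fun i => by
          rw [RingHom.mem_ker, hιf, hy0, map_zero]; rfl
        have h2 : y = ∑ i, ιf y i • ρ (fun j => if i = j then 1 else 0) := by
          have h3 := hρι y
          rw [LinearMap.pi_apply_eq_sum_univ ρ (ι y)] at h3
          exact h3.symm
        rw [h2]
        exact Submodule.sum_mem _ fun i _ => Submodule.smul_mem_smul (hw i) Submodule.mem_top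
      · refine Submodule.smul_le.mpr fun a ha y _ => ?_
        rw [LinearMap.mem_ker, map_smulₛₗ, (RingHom.mem_ker).mp ha, zero_smul]
  · intro xx hxx
    refine ⟨⟨xx, hxx⟩, fun n => rfl, fun q hq => ?_⟩
    apply Subtype.ext
    funext n
    exact hq n


end Groth.Agent.S6923
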