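import Groth.Statements.S6924
import Mathlib
import Groth.Agent.Lib.Helper15.FittLink

set_option autoImplicit false
universe u
open TensorProduct
open Fitt

namespace Groth.Agent.S6924

open Groth.Agent.Lib.helper15.Fitting Groth.Agent.Lib.helper15.FittLink

theorem mem_powTorsion {S : Type u} [CommRing S] (x : S) {M : Type u} [AddCommGroup M]
    [Module S M] (m : M) :
    m ∈ FlatCA.powTorsion S x M ↔ ∃ l : ℕ, x ^ l • m = 0 := by
  unfold FlatCA.powTorsion
  rw [Submodule.mem_iSup_of_directed]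
  · simp only [Submodule.mem_torsionBy_iff]
  · apply Monotone.directed_le
    intro l l' hll m hm
    rw [Submodule.mem_torsionBy_iff] at hm ⊢
    obtain ⟨d, rfl⟩ := Nat.exists_eq_add_of_le hll
    rw [pow_add, mul_comm, mul_smul, hm, smul_zero]

theorem adj_rows {R : Type u} [CommRing R] {n j : ℕ} (z : Fin j → (Fin n → R))
    (e : Fin j → Fin n) :
    (∀ c i, ∑ b, (Matrix.of fun a b => z b (e a)).adjugate b c * z b i =
      (Matrix.of fun a b => z b (Function.update e c i a)).det) ∧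
    (∀ c a, ∑ b, (Matrix.of fun a b => z b (e a)).adjugate b c * z b (e a) =
      if a = c then (Matrix.of fun a b => z b (e a)).det else 0) := by
  classical
  obtain ⟨A, hA⟩ : ∃ A : Matrix (Fin j) (Fin j) R, A = Matrix.of fun a b => z b (e a) :=
    ⟨_, rfl⟩
  rw [← hA]
  have hAab : ∀ a b, A a b = z b (e a) := fun a b => by rw [hA, Matrix.of_apply]
  refine ⟨fun c i => ?_, fun c a => ?_⟩
  · have h1 : (Matrix.of fun a b => z b (Function.update e c i a)) =
        A.updateRow c (fun b => z b i) := by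
      ext a b
      rw [Matrix.of_apply, Matrix.updateRow_apply, Function.update_apply]
      by_cases hac : a = c
      · rw [if_pos hac, if_pos hac]
      · rw [if_neg hac, if_neg hac, hAab]
    rw [h1, ← Matrix.cramer_transpose_apply, Matrix.cramer_eq_adjugate_mulVec,
      ← Matrix.adjugate_transpose]
    rfl
  · have h3 : ∑ b, A.adjugate b c * z b (e a) = (A * A.adjugate) a c := by
      rw [Matrix.mul_apply]
      apply Finset.sum_congr rfl
      intro b _
      rw [hAab a b, mul_comm]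
    rw [h3, Matrix.mul_adjugate, Matrix.smul_apply, Matrix.one_apply, smul_eq_mul]
    by_cases hac : a = c
    · rw [if_pos hac, if_pos hac, mul_one]
    · rw [if_neg hac, if_neg hac, mul_zero]

theorem exists_u' {R : Type u} [CommRing R] {R₁ : Type u} [CommRing R₁] (φ : R →+* R₁)
    {n j : ℕ} (K₀ : Submodule R (Fin n → R)) (b₁ : R₁) (hb₁ : b₁ ∈ nonZeroDivisors R₁)
    (hdiv : ∀ x ∈ detIdeal K₀ j, ∃ q, φ x = b₁ * q)
    (z : Fin j → (Fin n → R)) (hz : ∀ b, z b ∈ K₀) (e : Fin j → Fin n) (q : R₁)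
    (hq : φ (Matrix.of fun a b => z b (e a)).det = b₁ * q) :
    ∃ (u : Fin j → (Fin n → R₁)) (y : Fin j → (Fin n → R)), (∀ c, y c ∈ K₀) ∧
      (∀ c i, b₁ * u c i = φ (y c i)) ∧ ∀ c a, u c (e a) = if a = c then q else 0 := by
  classical
  obtain ⟨h1, h2⟩ := adj_rows z e
  obtain ⟨y, hyK, hyi⟩ : ∃ y : Fin j → (Fin n → R), (∀ c, y c ∈ K₀) ∧
      ∀ c i, y c i = ∑ b, (Matrix.of fun a b => z b (e a)).adjugate b c * z b i := by
    refine ⟨fun c => ∑ b, (Matrix.of fun a b => z b (e a)).adjugate b c • z b,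
      fun c => Submodule.sum_mem _ (fun b _ => Submodule.smul_mem _ _ (hz b)), fun c i => ?_⟩
    show (∑ b, (Matrix.of fun a b => z b (e a)).adjugate b c • z b) i = _
    rw [Finset.sum_apply]
    apply Finset.sum_congr rfl
    intro b _
    rw [Pi.smul_apply, smul_eq_mul]
  have hymem : ∀ c i, y c i ∈ detIdeal K₀ j := by
    intro c i
    rw [hyi, h1 c i]
    exact minor_mem K₀ j z (Function.update e c i) hz
  choose u hu using fun c i => hdiv (y c i) (hymem c i)
  refine ⟨u, y, hyK, fun c i => (hu c i).symm, fun c a => ?_⟩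
  have h3 : b₁ * u c (e a) = b₁ * (if a = c then q else 0) := by
    rw [← hu c (e a), hyi, h2 c a]
    by_cases hac : a = c
    · rw [if_pos hac, if_pos hac, hq]
    · rw [if_neg hac, if_neg hac, map_zero, mul_zero]
  exact (mul_cancel_left_mem_nonZeroDivisors hb₁).mp h3



/-- Let `M` be a finite `R`-module and `f ∈ R` such that every prime of `D(f)` has a basic open
neighbourhood `D(g) ⊆ D(f)` with `M_g` free of rank `r` (in other words `M_f` is, locally on `D(f)`,
free of rank `r`). Then there is a finitely generated ideal `I ⊆ R` with `V(I) = V(f)` such that for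
every `a ∈ I` and (a copy `R₁` of) the affine blow-up algebra `R[I/a]`, the strict transform `(M ⊗_R
R₁)/(a-power torsion)` is finite locally free of rank `r` over `R₁`. -/
theorem result {R : Type u} [CommRing R] (M : Type u) [AddCommGroup M]
    [Module R M] [Module.Finite R M] (f : R) (r : ℕ)
    (hf : ∀ (p : Ideal R) [p.IsPrime], f ∉ p → ∃ g : R, g ∉ p ∧ g ∈ (Ideal.span {f}).radical ∧
      Module.Free (Localization.Away g) (LocalizedModule (Submonoid.powers g) M) ∧
        Module.finrank (Localization.Away g) (LocalizedModule (Submonoid.powers g) M) = r) :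
    ∃ I : Ideal R, I.FG ∧ I.radical = (Ideal.span {f}).radical ∧ ∀ a ∈ I, ∀ (R₁ : Type u) [CommRing R₁] [Algebra R R₁] (e : R₁ ≃ₐ[R] ↥(BlowUp.affineAlgebra R I a)),
      ∀ (p' : Ideal R₁) [p'.IsPrime], ∃ g : R₁, g ∉ p' ∧
        Module.Free (Localization.Away g) (LocalizedModule (Submonoid.powers g) ((R₁ ⊗[R] M) ⧸ FlatCA.powTorsion R₁ (algebraMap R R₁ a) (R₁ ⊗[R] M))) ∧
        Module.finrank (Localization.Away g) (LocalizedModule (Submonoid.powers g) ((R₁ ⊗[R] M) ⧸ FlatCA.powTorsion R₁ (algebraMap R R₁ a) (R₁ ⊗[R] M))) = r := by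
  classical
  obtain ⟨n0, x0, hx0⟩ := Module.Finite.exists_fin (R := R) (M := M)
  obtain ⟨n, x, hx, hnr⟩ : ∃ (n : ℕ) (x : Fin n → M),
      Submodule.span R (Set.range x) = ⊤ ∧ r ≤ n := by
    refine ⟨n0 + r, Fin.append x0 (fun _ => 0), ?_, Nat.le_add_left r n0⟩
    rw [eq_top_iff, ← hx0]
    apply Submodule.span_mono
    rintro _ ⟨i, rfl⟩
    exact ⟨Fin.castAdd r i, Fin.append_left x0 _ i⟩
  obtain ⟨j, hj⟩ : ∃ j, j = n - r := ⟨_, rfl⟩
  have hF1 : f ∈ (Fitt.ideal R M r).radical := by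
    rw [Ideal.radical_eq_sInf, Ideal.mem_sInf]
    rintro p ⟨hle, hp⟩
    by_contra hfp
    haveI := hp
    obtain ⟨g, hgp, -, hfr, hrk⟩ := hf p hfp
    haveI := hfr
    haveI := nontrivial_away_of_notMem p hgp
    have bb := Module.finBasisOfFinrankEq (Localization.Away g)
      (LocalizedModule (Submonoid.powers g) M) hrk
    have h1 : Fitt.ideal (Localization.Away g) (LocalizedModule (Submonoid.powers g) M) r = ⊤ :=
      fitt_eq_top_of_basis bb le_rfl
    have h2 := fitt_localizedModule (M := M) (Submonoid.powers g) r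
    rw [h1] at h2
    have h3 : algebraMap R (Localization.Away g) 1 ∈
        (Fitt.ideal R M r).map (algebraMap R (Localization.Away g)) := by
      rw [← h2]; exact Submodule.mem_top
    obtain ⟨mm, ⟨l, rfl⟩, hm⟩ := (IsLocalization.algebraMap_mem_map_algebraMap_iff
      (M := Submonoid.powers g) (S := Localization.Away g) (I := Fitt.ideal R M r) (x := 1)).mp h3
    rw [mul_one] at hm
    exact hgp (hp.mem_of_pow_mem l (hle hm))
  have hF2 : 0 < r → ∀ y ∈ Fitt.ideal R M (r - 1), ∃ c : ℕ, f ^ c * y = 0 := by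
    intro hr y hy
    obtain ⟨J, hJ⟩ : ∃ J : Ideal R, J = LinearMap.ker (LinearMap.toSpanSingleton R R y) :=
      ⟨_, rfl⟩
    have hJmem : ∀ s : R, s ∈ J ↔ s * y = 0 := fun s => by
      rw [hJ, LinearMap.mem_ker, LinearMap.toSpanSingleton_apply, smul_eq_mul]
    have hrad : f ∈ J.radical := by
      rw [Ideal.radical_eq_sInf, Ideal.mem_sInf]
      rintro p ⟨hJp, hp⟩
      by_contra hfp
      haveI := hp
      obtain ⟨g, hgp, -, hfr, hrk⟩ := hf p hfp
      haveI := hfr
      haveI := nontrivial_away_of_notMem p hgp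
      have bb := Module.finBasisOfFinrankEq (Localization.Away g)
        (LocalizedModule (Submonoid.powers g) M) hrk
      have h1 : Fitt.ideal (Localization.Away g) (LocalizedModule (Submonoid.powers g) M)
          (r - 1) = ⊥ := fitt_eq_bot_of_basis bb (by omega)
      have h2 := fitt_localizedModule (M := M) (Submonoid.powers g) (r - 1)
      rw [h1] at h2
      have h3 : algebraMap R (Localization.Away g) y ∈
          (Fitt.ideal R M (r - 1)).map (algebraMap R (Localization.Away g)) :=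
        Ideal.mem_map_of_mem _ hy
      rw [← h2, Ideal.mem_bot] at h3
      obtain ⟨s, hs⟩ := (IsLocalization.map_eq_zero_iff (Submonoid.powers g)
        (Localization.Away g) y).mp h3
      obtain ⟨l, hl⟩ := s.2
      have hl' : g ^ l = ↑s := hl
      have h4 : g ^ l ∈ p := hJp ((hJmem _).mpr (by rw [hl']; exact hs))
      exact hgp (hp.mem_of_pow_mem l h4)
    obtain ⟨c, hc⟩ := hrad
    exact ⟨c, (hJmem _).mp hc⟩
  obtain ⟨N, hN⟩ := hF1
  rw [fitt_eq x hx r, ← hj] at hN
  have hN' : f ^ N ∈ Submodule.span R {d | ∃ (z : Fin j → (Fin n → R)) (e : Fin j → Fin n),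
      (∀ b, z b ∈ rel R x) ∧ d = (Matrix.of fun a b => z b (e a)).det} := hN
  obtain ⟨m, cc, g, hg⟩ := Submodule.mem_span_set'.mp hN'
  choose z e hz hgd using fun t => (show ∃ (z : Fin j → (Fin n → R)) (e : Fin j → Fin n),
      (∀ b, z b ∈ rel R x) ∧ ((g t : R)) = (Matrix.of fun a b => z b (e a)).det from (g t).2)
  obtain ⟨K₀, hK₀⟩ : ∃ K₀ : Submodule R (Fin n → R),
      K₀ = Submodule.span R (Set.range (fun tb : Fin m × Fin j => z tb.1 tb.2)) := ⟨_, rfl⟩
  have hK₀le : K₀ ≤ rel R x := by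
    rw [hK₀]
    apply Submodule.span_le.mpr
    rintro _ ⟨tb, rfl⟩
    exact hz tb.1 tb.2
  have hK₀fg : K₀.FG := by
    rw [hK₀]; exact Submodule.fg_span (Set.finite_range _)
  have hzK₀ : ∀ t b, z t b ∈ K₀ := fun t b => by
    rw [hK₀]; exact Submodule.subset_span ⟨(t, b), rfl⟩
  have hJ₀fg : (detIdeal K₀ j).FG := detIdeal_fg hK₀fg j
  have hfN : f ^ N ∈ detIdeal K₀ j := by
    rw [← hg]
    refine Submodule.sum_mem _ (fun t _ => Submodule.smul_mem _ _ ?_)
    rw [hgd t]
    exact minor_mem K₀ j (z t) (e t) (hzK₀ t)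
  refine ⟨Ideal.span {f} * detIdeal K₀ j, Ideal.FG.mul (Submodule.fg_span_singleton f) hJ₀fg,
    ?_, ?_⟩
  · rw [Ideal.radical_mul, inf_eq_left]
    apply Ideal.radical_le_radical_iff.mpr
    rw [Ideal.span_singleton_le_iff_mem]
    exact ⟨N, hfN⟩
  · intro a ha R₁ _ _ e₁ p' hp'
    obtain ⟨b, hbJ, hab⟩ := Ideal.mem_span_singleton_mul.mp ha
    obtain ⟨a₁, ha₁⟩ : ∃ a₁ : R₁, a₁ = algebraMap R R₁ a := ⟨_, rfl⟩
    obtain ⟨f₁, hf₁⟩ : ∃ f₁ : R₁, f₁ = algebraMap R R₁ f := ⟨_, rfl⟩
    obtain ⟨b₁, hb₁⟩ : ∃ b₁ : R₁, b₁ = algebraMap R R₁ b := ⟨_, rfl⟩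
    have ha₁f : a₁ = f₁ * b₁ := by rw [ha₁, hf₁, hb₁, ← map_mul, hab]
    rw [← ha₁]
    generalize hT : FlatCA.powTorsion R₁ a₁ (R₁ ⊗[R] M) = T
    have hTmem : ∀ t : R₁ ⊗[R] M, t ∈ T ↔ ∃ l : ℕ, a₁ ^ l • t = 0 := fun t => by
      rw [← hT]; exact mem_powTorsion a₁ t
    have hnzd_a : a₁ ∈ nonZeroDivisors R₁ := by
      rw [mem_nonZeroDivisors_iff_right]
      intro y hy
      have h1 : e₁ y * e₁ a₁ = 0 := by rw [← map_mul, hy, map_zero]
      rw [ha₁, AlgEquiv.commutes] at h1
      have h2 : ((e₁ y : Localization.Away a)) * algebraMap R (Localization.Away a) a = 0 := by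
        have h3 := congrArg (Subtype.val) h1
        rw [Subalgebra.coe_mul, Subalgebra.coe_algebraMap] at h3
        exact h3
      have h4 : ((e₁ y : Localization.Away a)) = 0 :=
        (IsUnit.mul_left_eq_zero (IsLocalization.Away.algebraMap_isUnit a)).mp h2
      have h5 : e₁ y = 0 := Subtype.ext h4
      exact (EmbeddingLike.map_eq_zero_iff (f := e₁)).mp h5
    have hnzd_f : f₁ ∈ nonZeroDivisors R₁ := by
      rw [mem_nonZeroDivisors_iff_right]
      intro y hy
      apply (mem_nonZeroDivisors_iff_right.mp hnzd_a) y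
      rw [ha₁f, ← mul_assoc, hy, zero_mul]
    have hnzd_b : b₁ ∈ nonZeroDivisors R₁ := by
      rw [mem_nonZeroDivisors_iff_right]
      intro y hy
      apply (mem_nonZeroDivisors_iff_right.mp hnzd_a) y
      rw [ha₁f, mul_comm f₁ b₁, ← mul_assoc, hy, zero_mul]
    have hBI : ∀ x ∈ Ideal.span {f} * detIdeal K₀ j, ∃ q : R₁, algebraMap R R₁ x = a₁ * q := by
      intro x hx
      refine ⟨e₁.symm ⟨IsLocalization.mk' (Localization.Away a) x ⟨a, Submonoid.mem_powers a⟩,
        (show _ ∈ BlowUp.affineAlgebra R (Ideal.span {f} * detIdeal K₀ j) a from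
          Algebra.subset_adjoin ⟨x, hx, rfl⟩)⟩, ?_⟩
      apply e₁.injective
      rw [map_mul, AlgEquiv.apply_symm_apply, ha₁, AlgEquiv.commutes, AlgEquiv.commutes]
      apply Subtype.ext
      rw [Subalgebra.coe_mul, Subalgebra.coe_algebraMap, Subalgebra.coe_algebraMap]
      exact (IsLocalization.mk'_spec' (Localization.Away a) x ⟨a, Submonoid.mem_powers a⟩).symm
    have hdiv : ∀ x ∈ detIdeal K₀ j, ∃ q, (algebraMap R R₁) x = b₁ * q := by
      intro x hx
      obtain ⟨q, hq⟩ := hBI (f * x) (Ideal.mul_mem_mul (Ideal.mem_span_singleton_self f) hx)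
      refine ⟨q, ?_⟩
      apply (mul_cancel_left_mem_nonZeroDivisors hnzd_f).mp
      rw [hf₁, ← map_mul, hq, ha₁f, hf₁, mul_assoc]
    -- partition of unity
    have hbJ' : b ∈ Submodule.span R {d | ∃ (z : Fin j → (Fin n → R)) (e : Fin j → Fin n),
        (∀ b, z b ∈ K₀) ∧ d = (Matrix.of fun a b => z b (e a)).det} := hbJ
    obtain ⟨m', β, g', hg'⟩ := Submodule.mem_span_set'.mp hbJ'
    choose zs es hzs hgs using fun s => (show ∃ (z : Fin j → (Fin n → R)) (e : Fin j → Fin n),
      (∀ b, z b ∈ K₀) ∧ ((g' s : R)) = (Matrix.of fun a b => z b (e a)).det from (g' s).2)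
    choose qs hqs using fun s => hdiv _ (minor_mem K₀ j (zs s) (es s) (hzs s))
    have hpart : ∑ s, algebraMap R R₁ (β s) * qs s = 1 := by
      apply (mul_cancel_left_mem_nonZeroDivisors hnzd_b).mp
      calc b₁ * ∑ s, algebraMap R R₁ (β s) * qs s
          = ∑ s, algebraMap R R₁ (β s • (g' s : R)) := by
            rw [Finset.mul_sum]
            apply Finset.sum_congr rfl
            intro s _
            rw [hgs s, smul_eq_mul, map_mul, hqs s]
            ring
        _ = b₁ := by rw [← map_sum, hg', hb₁]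
        _ = b₁ * 1 := (mul_one b₁).symm
    -- generators
    obtain ⟨x₁, hx₁fun⟩ : ∃ x₁ : Fin n → R₁ ⊗[R] M, x₁ = fun i => (1 : R₁) ⊗ₜ[R] x i := ⟨_, rfl⟩
    have hx₁ : ∀ i, x₁ i = (1 : R₁) ⊗ₜ[R] x i := fun i => by rw [hx₁fun]
    have hx₁span : Submodule.span R₁ (Set.range x₁) = ⊤ := by
      rw [hx₁fun]; exact span_one_tmul (R' := R₁) x hx
    obtain ⟨x', hx'fun⟩ : ∃ x' : Fin n → (R₁ ⊗[R] M) ⧸ T, x' = fun i => T.mkQ (x₁ i) := ⟨_, rfl⟩
    have hx' : ∀ i, x' i = T.mkQ (x₁ i) := fun i => by rw [hx'fun]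
    have hx'span : Submodule.span R₁ (Set.range x') = ⊤ := by
      have h1 : Set.range x' = T.mkQ '' Set.range x₁ := by
        rw [hx'fun, ← Set.range_comp]; rfl
      rw [h1, ← Submodule.map_span, hx₁span, Submodule.map_top, Submodule.range_mkQ]
    have hrel' : ∀ v : Fin n → R₁, v ∈ rel R₁ x' ↔ ∃ l : ℕ, a₁ ^ l • v ∈ rel R₁ x₁ := by
      intro v
      have h1 : ∑ i, v i • x' i = T.mkQ (∑ i, v i • x₁ i) := by
        rw [map_sum]
        apply Finset.sum_congr rfl
        intro i _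
        rw [map_smul, hx']
      have h2 : ∀ l : ℕ, ∑ i, (a₁ ^ l • v) i • x₁ i = a₁ ^ l • ∑ i, v i • x₁ i := by
        intro l
        rw [Finset.smul_sum]
        apply Finset.sum_congr rfl
        intro i _
        rw [Pi.smul_apply, smul_eq_mul, mul_smul]
      rw [mem_rel, h1, Submodule.mkQ_apply, Submodule.Quotient.mk_eq_zero, hTmem]
      constructor
      · rintro ⟨l, hl⟩
        exact ⟨l, by rw [mem_rel, h2 l]; exact hl⟩
      · rintro ⟨l, hl⟩
        refine ⟨l, ?_⟩
        rw [mem_rel, h2 l] at hl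
        exact hl
    have hbot₁ : detIdeal (rel R₁ x₁) (j + 1) = ⊥ := by
      rcases Nat.eq_zero_or_pos r with hr0 | hrpos
      · apply detIdeal_eq_bot_of_card_lt
        rw [Fintype.card_fin]; omega
      · have h1 : n - (r - 1) = j + 1 := by omega
        rw [← h1, ← fitt_eq x₁ hx₁span (r - 1), fitt_baseChange, eq_bot_iff,
          Ideal.map_le_iff_le_comap]
        intro y hy
        rw [Ideal.mem_comap, Ideal.mem_bot]
        obtain ⟨c, hc⟩ := hF2 hrpos y hy
        have h2 : f₁ ^ c * algebraMap R R₁ y = 0 := by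
          rw [hf₁, ← map_pow, ← map_mul, hc, map_zero]
        exact (mul_left_mem_nonZeroDivisors_eq_zero_iff (pow_mem hnzd_f c)).mp h2
    have hN'bot : detIdeal (rel R₁ x') (j + 1) = ⊥ := by
      rw [eq_bot_iff]
      apply Ideal.span_le.mpr
      rintro d ⟨z', e', hz', rfl⟩
      rw [SetLike.mem_coe, Ideal.mem_bot]
      choose l hl using fun b => (hrel' (z' b)).mp (hz' b)
      obtain ⟨L, hL⟩ : ∃ L, ∀ b, l b ≤ L :=
        ⟨∑ b, l b, fun b => Finset.single_le_sum (fun _ _ => Nat.zero_le _) (Finset.mem_univ b)⟩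
      have hL' : ∀ b, a₁ ^ L • z' b ∈ rel R₁ x₁ := by
        intro b
        obtain ⟨d, hd⟩ := Nat.exists_eq_add_of_le (hL b)
        rw [hd, pow_add, mul_comm, mul_smul]
        exact Submodule.smul_mem _ _ (hl b)
      have h1 := minor_mem (rel R₁ x₁) (j + 1) (fun b => a₁ ^ L • z' b) e' hL'
      rw [hbot₁, Ideal.mem_bot] at h1
      have h2 : (Matrix.of fun a b => (a₁ ^ L • z' b) (e' a)) =
          (a₁ ^ L) • (Matrix.of fun a b => z' b (e' a)) := by
        ext a b
        rw [Matrix.smul_apply, Matrix.of_apply, Matrix.of_apply, Pi.smul_apply]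
      rw [h2, Matrix.det_smul] at h1
      exact (mul_left_mem_nonZeroDivisors_eq_zero_iff (pow_mem (pow_mem hnzd_a L) _)).mp h1
    have hN'top : detIdeal (rel R₁ x') j = ⊤ := by
      have h1 : ∀ s, qs s ^ j ∈ detIdeal (rel R₁ x') j := by
        intro s
        obtain ⟨u, y, hyK, hbu, hue⟩ := exists_u' (algebraMap R R₁) K₀ b₁ hnzd_b hdiv
          (zs s) (hzs s) (es s) (qs s) (hqs s)
        have hu_mem : ∀ c, u c ∈ rel R₁ x' := by
          intro c
          refine (hrel' _).mpr ⟨1, ?_⟩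
          rw [mem_rel]
          have h1 : ∀ i, (a₁ ^ 1 • u c) i • x₁ i = f₁ • ((1 : R₁) ⊗ₜ[R] (y c i • x i)) := by
            intro i
            rw [Pi.smul_apply, smul_eq_mul, pow_one, ha₁f, mul_assoc, hbu c i, mul_smul, hx₁,
              algebraMap_smul, ← TensorProduct.tmul_smul]
          rw [Finset.sum_congr rfl (fun i _ => h1 i), ← Finset.smul_sum,
            ← TensorProduct.tmul_sum, mem_rel.mp (hK₀le (hyK c)), TensorProduct.tmul_zero,
            smul_zero]
        have h2 := minor_mem (rel R₁ x') j u (es s) hu_mem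
        have h3 : (Matrix.of fun a b => u b (es s a)) =
            Matrix.diagonal (fun _ : Fin j => qs s) := by
          ext a b
          rw [Matrix.of_apply, hue b a, Matrix.diagonal_apply]
        rw [h3, Matrix.det_diagonal, Finset.prod_const, Finset.card_univ, Fintype.card_fin] at h2
        exact h2
      have hspan : Ideal.span (Set.range qs) = ⊤ := by
        rw [Ideal.eq_top_iff_one, Ideal.mem_span_range_iff_exists_fun]
        exact ⟨fun s => algebraMap R R₁ (β s), hpart⟩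
      have h5 := Ideal.span_pow_eq_top _ hspan j
      rw [eq_top_iff, ← h5]
      apply Ideal.span_le.mpr
      rintro _ ⟨_, ⟨s, rfl⟩, rfl⟩
      exact h1 s
    have key := (locFree_iff_fitt (M := (R₁ ⊗[R] M) ⧸ T) r).mpr
      ⟨fun l hl => by
        rw [fitt_eq x' hx'span l, eq_bot_iff, ← hN'bot]
        exact detIdeal_anti _ (by omega),
      fun l hl => by
        rw [fitt_eq x' hx'span l, eq_top_iff, ← hN'top]
        exact detIdeal_anti _ (by omega)⟩
    exact key p'


end Groth.Agent.S6924
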