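import Groth.Statements.S6925
import Mathlib
import Groth.Agent.Lib.Helper19.IdeallySep
import Groth.Agent.S4852

set_option autoImplicit false
universe u
open TensorProduct
open FlatMor

namespace Groth.Agent.S6925

open TensorProduct Function IsLocalRing
open Groth.Agent.Lib.Helper19.IdeallySep

section
variable {A : Type u} [CommRing A]

theorem flat_quot_of_le (X : Type u) [AddCommGroup X] [Module A X] {𝔞 𝔠 : Ideal A} (h : 𝔞 ≤ 𝔠)
    [Module.Flat (A ⧸ 𝔞) ((A ⧸ 𝔞) ⊗[A] X)] : Module.Flat (A ⧸ 𝔠) ((A ⧸ 𝔠) ⊗[A] X) := by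
  letI : Algebra (A ⧸ 𝔞) (A ⧸ 𝔠) := (Ideal.Quotient.factor h).toAlgebra
  haveI : IsScalarTower A (A ⧸ 𝔞) (A ⧸ 𝔠) := IsScalarTower.of_algebraMap_eq (fun x => rfl)
  exact Module.Flat.of_linearEquiv
    (AlgebraTensorModule.cancelBaseChange A (A ⧸ 𝔞) (A ⧸ 𝔠) (A ⧸ 𝔠) X).symm

/-- Artinian intersection: over a local ring, flatness mod each ideal of a family containing a
power of the maximal ideal gives flatness mod the intersection. -/
theorem flat_sInf [IsLocalRing A] (N : Type u) [AddCommGroup N] [Module A N] (k : ℕ)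
    (T : Set (Ideal A)) (hT : ∀ J ∈ T, maximalIdeal A ^ k ≤ J)
    (hflat : ∀ J ∈ T, Module.Flat (A ⧸ J) ((A ⧸ J) ⊗[A] N)) :
    Module.Flat (A ⧸ sInf T) ((A ⧸ sInf T) ⊗[A] N) := by
  by_cases htop : sInf T = ⊤
  · haveI : Subsingleton (A ⧸ sInf T) := by
      rw [htop]; exact Ideal.Quotient.subsingleton_iff.mpr rfl
    haveI : Subsingleton ((A ⧸ sInf T) ⊗[A] N) := by
      refine ⟨fun x y => ?_⟩
      rw [← one_smul (A ⧸ sInf T) x, ← one_smul (A ⧸ sInf T) y, Subsingleton.elim (1 : A ⧸ sInf T) 0,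
        zero_smul, zero_smul]
    infer_instance
  · have hpow : maximalIdeal A ^ k ≤ sInf T := le_sInf hT
    haveI : Nontrivial (A ⧸ sInf T) := Ideal.Quotient.nontrivial_iff.mpr htop
    haveI : IsLocalRing (A ⧸ sInf T) :=
      IsLocalRing.of_surjective' (Ideal.Quotient.mk (sInf T)) Ideal.Quotient.mk_surjective
    letI : ∀ i : ↥T, Algebra (A ⧸ sInf T) (A ⧸ i.1) :=
      fun i => (Ideal.Quotient.factor (sInf_le i.2)).toAlgebra
    haveI : ∀ i : ↥T, IsScalarTower A (A ⧸ sInf T) (A ⧸ i.1) :=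
      fun i => IsScalarTower.of_algebraMap_eq (fun x => rfl)
    have hnil : IsNilpotent (Ring.jacobson (A ⧸ sInf T)) := by
      refine ⟨k, ?_⟩
      rw [IsLocalRing.ringJacobson_eq_maximalIdeal]
      have h1 : maximalIdeal (A ⧸ sInf T) ≤ (maximalIdeal A).map (Ideal.Quotient.mk (sInf T)) := by
        intro x hx
        obtain ⟨a, rfl⟩ := Ideal.Quotient.mk_surjective x
        apply Ideal.mem_map_of_mem
        rw [IsLocalRing.mem_maximalIdeal, mem_nonunits_iff] at hx ⊢
        exact fun hu => hx (hu.map _)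
      rw [Ideal.zero_eq_bot, eq_bot_iff]
      calc maximalIdeal (A ⧸ sInf T) ^ k
          ≤ ((maximalIdeal A).map (Ideal.Quotient.mk (sInf T))) ^ k := Ideal.pow_right_mono h1 k
        _ = (maximalIdeal A ^ k).map (Ideal.Quotient.mk (sInf T)) := (Ideal.map_pow _ _ _).symm
        _ ≤ (sInf T).map (Ideal.Quotient.mk (sInf T)) := Ideal.map_mono hpow
        _ = ⊥ := Ideal.map_quotient_self _
    refine (Groth.Agent.S4852.result (A := A ⧸ sInf T) hnil
      (ι := ↥T) (fun i => A ⧸ i.1) ?_ ((A ⧸ sInf T) ⊗[A] N)).mpr ?_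
    · intro a ha
      obtain ⟨x, rfl⟩ := Ideal.Quotient.mk_surjective a
      rw [Ideal.Quotient.eq_zero_iff_mem, Submodule.mem_sInf]
      intro J hJ
      have := ha ⟨J, hJ⟩
      rwa [← Ideal.Quotient.eq_zero_iff_mem]
    · intro i
      haveI : Module.Flat (A ⧸ i.1) ((A ⧸ i.1) ⊗[A] N) := hflat i.1 i.2
      exact Module.Flat.of_linearEquiv
        (AlgebraTensorModule.cancelBaseChange A (A ⧸ sInf T) (A ⧸ i.1) (A ⧸ i.1) N)

end

section Complete
variable {A : Type u} [CommRing A] [IsLocalRing A] [IsNoetherianRing A]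

theorem mem_of_forall_mem_sup_pow (F : Ideal A) (x : A)
    (h : ∀ n, x ∈ F ⊔ maximalIdeal A ^ n) : x ∈ F := by
  have h1 : (Ideal.Quotient.mk F x) ∈ (⨅ i : ℕ, (maximalIdeal A) ^ i • ⊤ : Submodule A (A ⧸ F)) := by
    rw [Submodule.mem_iInf]
    intro n
    obtain ⟨f, hf, y, hy, rfl⟩ := Submodule.mem_sup.mp (h n)
    rw [map_add, Ideal.Quotient.eq_zero_iff_mem.mpr hf, zero_add]
    have : Ideal.Quotient.mk F y = y • (1 : A ⧸ F) := by
      rw [Algebra.smul_def, mul_one]; rfl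
    rw [this]
    exact Submodule.smul_mem_smul hy Submodule.mem_top
  rw [Ideal.iInf_pow_smul_eq_bot_of_isLocalRing _ (IsLocalRing.maximalIdeal.isMaximal A).ne_top,
    Submodule.mem_bot] at h1
  exact Ideal.Quotient.eq_zero_iff_mem.mp h1

theorem le_iInf_sup_pow [IsAdicComplete (maximalIdeal A) A] (F : ℕ → Ideal A)
    (hstep : ∀ j, F j ≤ F (j + 1) ⊔ maximalIdeal A ^ j) (hanti : ∀ j, F (j + 1) ≤ F j) (k : ℕ) :
    F k ≤ (⨅ j, F j) ⊔ maximalIdeal A ^ k := by
  intro xk hxk
  have hantitone : Antitone F := antitone_nat_of_succ_le hanti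
  have hchoose : ∀ j, ∀ y, y ∈ F j → ∃ y', y' ∈ F (j + 1) ∧ y - y' ∈ maximalIdeal A ^ j := by
    intro j y hy
    obtain ⟨a, ha, b, hb, rfl⟩ := Submodule.mem_sup.mp (hstep j hy)
    exact ⟨a, ha, by simpa using hb⟩
  choose! nxt hnxt1 hnxt2 using hchoose
  let seq : ℕ → A := fun n => Nat.rec xk (fun j y => nxt (k + j) y) n
  have hseq0 : seq 0 = xk := rfl
  have hseqS : ∀ j, seq (j + 1) = nxt (k + j) (seq j) := fun j => rfl
  have hmem : ∀ j, seq j ∈ F (k + j) := by
    intro j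
    induction j with
    | zero => exact hxk
    | succ j ih => rw [hseqS]; exact hnxt1 (k + j) (seq j) ih
  have hdiff : ∀ j, seq j - seq (j + 1) ∈ maximalIdeal A ^ (k + j) := by
    intro j
    rw [hseqS]; exact hnxt2 (k + j) (seq j) (hmem j)
  have htel : ∀ a b, a ≤ b → seq a - seq b ∈ maximalIdeal A ^ (k + a) := by
    intro a b hab
    induction b, hab using Nat.le_induction with
    | base => rw [sub_self]; exact zero_mem _
    | succ b hab ih =>
      have : seq a - seq (b + 1) = (seq a - seq b) + (seq b - seq (b + 1)) := by ring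
      rw [this]
      exact add_mem ih (Ideal.pow_le_pow_right (by omega) (hdiff b))
  obtain ⟨x, hx⟩ := IsPrecomplete.prec' (I := maximalIdeal A) (M := A) seq (by
    intro a b hab
    rw [SModEq.sub_mem, smul_eq_mul, Ideal.mul_top]
    exact Ideal.pow_le_pow_right (by omega) (htel a b hab))
  have hx' : ∀ n, seq n - x ∈ maximalIdeal A ^ n := by
    intro n
    have := hx n
    rwa [SModEq.sub_mem, smul_eq_mul, Ideal.mul_top] at this
  have hxI : x ∈ ⨅ j, F j := by
    rw [Submodule.mem_iInf]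
    intro j
    apply mem_of_forall_mem_sup_pow
    intro n
    have h1 : x = seq (max n j) + (x - seq (max n j)) := by ring
    rw [h1]
    refine Submodule.add_mem_sup (hantitone (by omega) (hmem (max n j))) ?_
    have h2 := hx' (max n j)
    have h3 : x - seq (max n j) = -(seq (max n j) - x) := by ring
    rw [h3]
    exact neg_mem (Ideal.pow_le_pow_right (le_max_left n j) h2)
  have h4 : xk = x + (xk - x) := by ring
  rw [h4]
  refine Submodule.add_mem_sup hxI ?_
  have h5 : xk - x = (seq 0 - seq k) + (seq k - x) := by rw [hseq0]; ring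
  rw [h5]
  exact add_mem (by simpa using htel 0 k (Nat.zero_le k)) (hx' k)

end Complete


section Haus
variable {R S : Type u} [CommRing R] [IsLocalRing R] [IsNoetherianRing R] [CommRing S] [Algebra R S]
  [IsNoetherianRing S]
  (M : Type u) [AddCommGroup M] [Module S M] [Module R M] [IsScalarTower R S M] [Module.Finite S M]

open Groth.Agent.Lib.helper8.LocalFlat in
theorem hausdorff_aux (I' : Ideal R) (q : Ideal S) [q.IsPrime]
    (hq : q.comap (algebraMap R S) = maximalIdeal R) (𝔟 : Ideal (R ⧸ I')) :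
    IsHausdorff ((maximalIdeal R).map (Ideal.Quotient.mk I'))
      (↥𝔟 ⊗[R ⧸ I'] ((R ⧸ I') ⊗[R] LocalizedModule q.primeCompl M)) := by
  constructor
  intro x hx
  let e : (↥𝔟 ⊗[R ⧸ I'] ((R ⧸ I') ⊗[R] LocalizedModule q.primeCompl M)) ≃ₗ[R]
      (LocalizedModule q.primeCompl M) ⊗[R] ↥𝔟 :=
    ((AlgebraTensorModule.cancelBaseChange R (R ⧸ I') (R ⧸ I') ↥𝔟
      (LocalizedModule q.primeCompl M)).restrictScalars R) ≪≫ₗ
      (TensorProduct.comm R ↥𝔟 (LocalizedModule q.primeCompl M))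
  haveI : Module.Finite R ↥𝔟 := Module.Finite.trans (R ⧸ I') ↥𝔟
  haveI : Module.Finite (Localization.AtPrime q) ((LocalizedModule q.primeCompl M) ⊗[R] ↥𝔟) :=
    finite_tensor_left (LocalizedModule q.primeCompl M) ↥𝔟
  have hI : (maximalIdeal R).map (algebraMap R (Localization.AtPrime q)) ≤ Ideal.jacobson ⊥ := by
    rw [IsLocalRing.jacobson_eq_maximalIdeal ⊥ bot_ne_top, Ideal.map_le_iff_le_comap]
    intro a ha
    rw [Ideal.mem_comap, IsScalarTower.algebraMap_apply R S (Localization.AtPrime q),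
      IsLocalization.AtPrime.to_map_mem_maximal_iff _ q]
    rw [← hq] at ha
    exact ha
  have step3 : e x ∈ (⨅ i : ℕ, ((maximalIdeal R).map (algebraMap R (Localization.AtPrime q))) ^ i • ⊤ :
      Submodule (Localization.AtPrime q) ((LocalizedModule q.primeCompl M) ⊗[R] ↥𝔟)) := by
    rw [Submodule.mem_iInf]
    intro n
    have hn := hx n
    rw [SModEq.zero] at hn
    refine Submodule.smul_induction_on hn ?_ ?_
    · intro a ha z _
      rw [← Ideal.map_pow] at ha
      obtain ⟨a', ha', rfl⟩ := (Ideal.mem_map_iff_of_surjective _ Ideal.Quotient.mk_surjective).mp ha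
      have h1 : (Ideal.Quotient.mk I' a') • z = a' • z := by
        rw [← algebraMap_smul (R ⧸ I') a' z]; rfl
      rw [h1, map_smul, ← algebraMap_smul (Localization.AtPrime q) a']
      refine Submodule.smul_mem_smul ?_ Submodule.mem_top
      rw [← Ideal.map_pow]
      exact Ideal.mem_map_of_mem _ ha'
    · intro a b ha hb
      rw [map_add]
      exact Submodule.add_mem _ ha hb
  rw [Ideal.iInf_pow_smul_eq_bot_of_le_jacobson _ hI, Submodule.mem_bot] at step3
  exact e.injective (by rw [step3, map_zero])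

end Haus


section Transfer
variable {R : Type u} [CommRing R]

open Groth.Agent.Lib.helper8.LocalFlat in
/-- transfer of flatness from `R ⧸ (I ⊔ K)` to `(R ⧸ I) ⧸ (K.map mk)^…`, stated with an arbitrary
ideal `K'` of `R ⧸ I` equal to the image of `K`. -/
theorem flat_doubleQuot (I K : Ideal R) (K' : Ideal (R ⧸ I)) (hK' : K' = K.map (Ideal.Quotient.mk I))
    (N : Type u) [AddCommGroup N] [Module R N]
    [Module.Flat (R ⧸ (I ⊔ K)) ((R ⧸ (I ⊔ K)) ⊗[R] N)] :
    Module.Flat ((R ⧸ I) ⧸ K') (((R ⧸ I) ⧸ K') ⊗[R ⧸ I] ((R ⧸ I) ⊗[R] N)) := by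
  have halg : ∀ x : R, algebraMap R ((R ⧸ I) ⧸ K') x =
      Ideal.Quotient.mk K' (Ideal.Quotient.mk I x) := fun x => rfl
  have hsurj : Function.Surjective (algebraMap R ((R ⧸ I) ⧸ K')) := by
    intro y
    obtain ⟨y', rfl⟩ := Ideal.Quotient.mk_surjective y
    obtain ⟨x, rfl⟩ := Ideal.Quotient.mk_surjective y'
    exact ⟨x, rfl⟩
  have hker : ∀ x : R, algebraMap R ((R ⧸ I) ⧸ K') x = 0 ↔ x ∈ I ⊔ K := by
    intro x
    rw [halg, Ideal.Quotient.eq_zero_iff_mem, hK',
      Ideal.mem_map_iff_of_surjective _ Ideal.Quotient.mk_surjective]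
    constructor
    · rintro ⟨b, hb, hbx⟩
      have h1 : x - b ∈ I := by
        rw [← Ideal.Quotient.eq_zero_iff_mem, map_sub, hbx, sub_self]
      have h2 : x = (x - b) + b := by ring
      rw [h2]
      exact Submodule.add_mem_sup h1 hb
    · intro hx
      obtain ⟨a, ha, b, hb, rfl⟩ := Submodule.mem_sup.mp hx
      refine ⟨b, hb, ?_⟩
      rw [map_add, Ideal.Quotient.eq_zero_iff_mem.mpr ha, zero_add]
  let φ : R →ₗ[R] ((R ⧸ I) ⧸ K') := Algebra.linearMap R ((R ⧸ I) ⧸ K')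
  have hφker : (I ⊔ K : Submodule R R) = LinearMap.ker φ := by
    ext x
    rw [LinearMap.mem_ker]
    exact (hker x).symm
  let e2 : (R ⧸ (I ⊔ K)) ≃ₗ[R] ((R ⧸ I) ⧸ K') :=
    (Submodule.quotEquivOfEq _ _ hφker) ≪≫ₗ (φ.quotKerEquivOfSurjective hsurj)
  let e1 := AlgebraTensorModule.cancelBaseChange R (R ⧸ I) ((R ⧸ I) ⧸ K') ((R ⧸ I) ⧸ K') N
  let f : ((R ⧸ (I ⊔ K)) ⊗[R] N) ≃ₗ[R] (((R ⧸ I) ⧸ K') ⊗[R ⧸ I] ((R ⧸ I) ⊗[R] N)) :=
    (TensorProduct.congr e2 (LinearEquiv.refl R N)) ≪≫ₗ (e1.restrictScalars R).symm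
  refine flat_of_linearEquiv_of_surjective (R := R) (R₁ := R ⧸ (I ⊔ K)) (R₂ := (R ⧸ I) ⧸ K')
    Ideal.Quotient.mk_surjective hsurj ?_ f
  intro x hx
  rw [RingHom.mem_ker] at hx ⊢
  exact (hker x).mpr (Ideal.Quotient.eq_zero_iff_mem.mp hx)

end Transfer

section Main
variable (R S : Type u) [CommRing R] [IsLocalRing R] [IsNoetherianRing R] [CommRing S] [Algebra R S]
  [IsNoetherianRing S]
  (M : Type u) [AddCommGroup M] [Module S M] [Module R M] [IsScalarTower R S M] [Module.Finite S M]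

def PP (J : Ideal R) : Prop :=
  ∀ (q : Ideal S) [q.IsPrime], q.comap (algebraMap R S) = maximalIdeal R →
    Module.Flat (R ⧸ J) ((R ⧸ J) ⊗[R] LocalizedModule q.primeCompl M)

variable {R S M}

theorem PP_mono {J J' : Ideal R} (h : J ≤ J') (hJ : PP R S M J) : PP R S M J' := by
  intro q _ hq
  haveI := hJ q hq
  exact flat_quot_of_le _ h

theorem PP_max : PP R S M (maximalIdeal R) := by
  intro q _ hq
  letI : Field (R ⧸ maximalIdeal R) := Ideal.Quotient.field _
  infer_instance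

variable (R S M)

def FF (k : ℕ) : Ideal R := sInf {J | PP R S M J ∧ maximalIdeal R ^ k ≤ J}

variable {R S M}

theorem PP_FF (k : ℕ) : PP R S M (FF R S M k) := by
  intro q _ hq
  exact flat_sInf (LocalizedModule q.primeCompl M) k _ (fun J hJ => hJ.2) (fun J hJ => hJ.1 q hq)

theorem pow_le_FF (k : ℕ) : maximalIdeal R ^ k ≤ FF R S M k := le_sInf (fun J hJ => hJ.2)

theorem FF_le (k : ℕ) (J : Ideal R) (hJ : PP R S M J) (hk : maximalIdeal R ^ k ≤ J) :
    FF R S M k ≤ J := sInf_le ⟨hJ, hk⟩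

theorem FF_anti (k : ℕ) : FF R S M (k + 1) ≤ FF R S M k :=
  FF_le (k + 1) _ (PP_FF k) ((Ideal.pow_le_pow_right (Nat.le_succ k)).trans (pow_le_FF k))

theorem FF_step (k : ℕ) : FF R S M k ≤ FF R S M (k + 1) ⊔ maximalIdeal R ^ k :=
  FF_le k _ (PP_mono le_sup_left (PP_FF (k + 1))) le_sup_right

theorem iInf_FF_le (J : Ideal R) (hJ : PP R S M J) : (⨅ k, FF R S M k) ≤ J := by
  intro x hx
  apply mem_of_forall_mem_sup_pow
  intro n
  have h1 : x ∈ FF R S M n := (Submodule.mem_iInf _).mp hx n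
  exact FF_le n _ (PP_mono le_sup_left hJ) le_sup_right h1

theorem PP_iInf_FF [IsAdicComplete (maximalIdeal R) R] : PP R S M (⨅ k, FF R S M k) := by
  intro q _ hq
  apply bourbaki (A := R ⧸ (⨅ k, FF R S M k))
    ((maximalIdeal R).map (Ideal.Quotient.mk (⨅ k, FF R S M k)))
    ((R ⧸ (⨅ k, FF R S M k)) ⊗[R] LocalizedModule q.primeCompl M)
  · intro 𝔟
    exact hausdorff_aux M _ q hq 𝔟
  · intro k hk
    haveI := PP_FF (R := R) (S := S) (M := M) k q hq
    haveI : Module.Flat (R ⧸ ((⨅ k, FF R S M k) ⊔ maximalIdeal R ^ k))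
        ((R ⧸ ((⨅ k, FF R S M k) ⊔ maximalIdeal R ^ k)) ⊗[R] LocalizedModule q.primeCompl M) :=
      flat_quot_of_le _ (le_iInf_sup_pow (FF R S M) FF_step FF_anti k)
    exact flat_doubleQuot (⨅ k, FF R S M k) (maximalIdeal R ^ k) _ (Ideal.map_pow _ _ _).symm
      (LocalizedModule q.primeCompl M)

end Main



/-- Let `(R, 𝔪)` be a complete Noetherian local ring, `R → S` a ring map with `S` Noetherian and `M` a
finite `S`-module. Then among ideals contained in `𝔪`, there is a smallest one `I` with the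
following property: whenever `𝔮` is a prime of `S` lying over `𝔪`, the module `(M/IM)_𝔮` is
`R/I`-flat. Namely, `I ⊆ 𝔪` has this property, and every ideal `J` with the property contains `I`. -/
theorem result (R S : Type u) [CommRing R] [IsLocalRing R]
    [IsNoetherianRing R] [IsAdicComplete (IsLocalRing.maximalIdeal R) R] [CommRing S] [Algebra R S] [IsNoetherianRing S]
    (M : Type u) [AddCommGroup M] [Module S M] [Module R M] [IsScalarTower R S M] [Module.Finite S M] :
    ∃ I : Ideal R, I ≤ IsLocalRing.maximalIdeal R ∧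
      (∀ (q : Ideal S) [q.IsPrime], q.comap (algebraMap R S) = IsLocalRing.maximalIdeal R →
        Module.Flat (R ⧸ I) ((R ⧸ I) ⊗[R] LocalizedModule q.primeCompl M)) ∧
      ∀ J : Ideal R, (∀ (q : Ideal S) [q.IsPrime], q.comap (algebraMap R S) = IsLocalRing.maximalIdeal R →
        Module.Flat (R ⧸ J) ((R ⧸ J) ⊗[R] LocalizedModule q.primeCompl M)) → I ≤ J := by
  refine ⟨⨅ k, FF R S M k, iInf_FF_le _ PP_max, PP_iInf_FF, fun J hJ => iInf_FF_le J hJ⟩

end Groth.Agent.S6925
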