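import Groth.Statements.S6927
import Groth.Agent.Lib.Helper3.UFlat13
import Groth.Agent.Lib.Helper3.FlatBC2

set_option autoImplicit false
universe u
open TensorProduct
open FlatMor

namespace Groth.Agent.S6927

/-- Let `(R, 𝔪)` be a complete Noetherian local ring, `R → S` of finite type, `M` a finite `S`-module,
and `I ⊆ 𝔪` the least ideal for which, at every prime `𝔮` of `S` lying over `𝔪`, the localization
`(M/IM)_𝔮` is an `R/I`-flat module. Then for every local homomorphism `φ : R → R'` of local rings
(`R'` arbitrary), with `S' = S ⊗_R R'` and `M' = M ⊗_R R'`: `M'_{𝔮'}` is flat over `R'` for every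
prime `𝔮'` of `S'` over `𝔪'` if and only if `φ(I) = 0`. -/
theorem result {R S R' S' : Type u} [CommRing R] [IsLocalRing R]
    [IsNoetherianRing R] [IsAdicComplete (IsLocalRing.maximalIdeal R) R] [CommRing S]
    [CommRing R'] [IsLocalRing R'] [CommRing S']
    [Algebra R S] [Algebra.FiniteType R S] [Algebra R R'] [IsLocalHom (algebraMap R R')] [Algebra S S'] [Algebra R' S']
    [Algebra R S'] [IsScalarTower R S S'] [IsScalarTower R R' S'] [Algebra.IsPushout R S R' S']
    {M M' : Type u} [AddCommGroup M] [Module S M] [Module R M] [IsScalarTower R S M] [Module.Finite S M]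
    [AddCommGroup M'] [Module S' M'] [Module R' M'] [IsScalarTower R' S' M'] [Module S M'] [IsScalarTower S S' M']
    (f : M →ₗ[S] M') (hf : IsBaseChange S' f) (I : Ideal R) (hIm : I ≤ IsLocalRing.maximalIdeal R)
    (hI : (∀ (q : Ideal S) [q.IsPrime], q.comap (algebraMap R S) = IsLocalRing.maximalIdeal R →
        Module.Flat (R ⧸ I) ((R ⧸ I) ⊗[R] LocalizedModule q.primeCompl M)))
    (hmin : ∀ J : Ideal R, (∀ (q : Ideal S) [q.IsPrime], q.comap (algebraMap R S) = IsLocalRing.maximalIdeal R →
        Module.Flat (R ⧸ J) ((R ⧸ J) ⊗[R] LocalizedModule q.primeCompl M)) → I ≤ J) :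
    (∀ (q' : Ideal S') [q'.IsPrime], q'.comap (algebraMap R' S') = IsLocalRing.maximalIdeal R' → FlatCA.FlatAt R' q' M') ↔
      I ≤ RingHom.ker (algebraMap R R') := by
  classical
  have : HenselianLocalRing R :=
    Groth.Agent.Lib.helper3.HensFinite.henselianLocalRing_of_isAdicComplete R
  have : IsNoetherianRing S := Algebra.FiniteType.isNoetherianRing R S
  constructor
  · intro h
    -- the sum of all universal flattening ideals at the points of the closed fibre
    set I₀ : Ideal R := sSup {J | ∃ (q : Ideal S) (_ : q.IsPrime)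
      (_ : q.LiesOver (IsLocalRing.maximalIdeal R)),
      Groth.Agent.Lib.helper3.UFlat.Flattens R S q M J} with hI₀
    have h1 : I₀ ≤ RingHom.ker (algebraMap R R') := by
      rw [hI₀]
      apply sSup_le
      rintro J ⟨q, _, hq, hJ⟩
      have h2 : J.map (algebraMap R R') = ⊥ :=
        (hJ R' S' M' f hf).mp (fun Q _ _ hQm => h Q hQm.over.symm)
      exact (Ideal.map_eq_bot_iff_le_ker _).mp h2
    have hex : ∀ (R'' : Type u) [CommRing R''] [Algebra R R''],
        I₀ ≤ RingHom.ker (algebraMap R R'') →
        ∀ (q : Ideal S) [q.IsPrime], q.LiesOver (IsLocalRing.maximalIdeal R) →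
        ∃ J : Ideal R, Groth.Agent.Lib.helper3.UFlat.Flattens R S q M J ∧
          J.map (algebraMap R R'') = ⊥ := by
      intro R'' _ _ hle q _ hq
      have := hq
      obtain ⟨J, hJ, -⟩ :=
        Groth.Agent.Lib.helper3.UFlat.exists_flattens_of_henselian (R := R) (S := S) M q
      refine ⟨J, hJ, (Ideal.map_eq_bot_iff_le_ker _).mpr (le_trans ?_ hle)⟩
      rw [hI₀]
      exact le_sSup ⟨q, inferInstance, hq, hJ⟩
    have h2 : I ≤ I₀ := by
      by_cases htop : I₀ = ⊤
      · rw [htop]
        exact le_top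
      · have : Nontrivial (R ⧸ I₀) := Ideal.Quotient.nontrivial_iff.mpr htop
        have : IsLocalRing (R ⧸ I₀) :=
          IsLocalRing.of_surjective' (Ideal.Quotient.mk I₀) Ideal.Quotient.mk_surjective
        have : IsLocalHom (algebraMap R (R ⧸ I₀)) :=
          IsLocalHom.of_surjective _ Ideal.Quotient.mk_surjective
        have hk : RingHom.ker (algebraMap R (R ⧸ I₀)) = I₀ := Ideal.mk_ker
        have h3 := Groth.Agent.Lib.helper3.UFlat.le_ker_of_flattens I hIm hI hmin (R ⧸ I₀)
          (hex (R ⧸ I₀) hk.ge)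
        rwa [hk] at h3
    exact h2.trans h1
  · intro h q' _ hq'
    have hqprime : (q'.comap (algebraMap S S')).IsPrime := Ideal.comap_isPrime _ _
    refine Groth.Agent.Lib.helper3.FlatBC.flatAt_of_le_ker f hf I h q'
      (q'.comap (algebraMap S S')) rfl (hI _ ?_)
    ext a
    rw [Ideal.mem_comap, Ideal.mem_comap, ← IsScalarTower.algebraMap_apply R S S',
      IsScalarTower.algebraMap_apply R R' S', ← Ideal.mem_comap, hq',
      IsLocalRing.mem_maximalIdeal, IsLocalRing.mem_maximalIdeal, mem_nonunits_iff,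
      mem_nonunits_iff, isUnit_map_iff]

end Groth.Agent.S6927
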