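import Groth.Statements.S6929
import Mathlib

set_option autoImplicit false
universe u
open EtAlg

namespace Groth.Agent.S6929

theorem pi_finiteType (R : Type u) [CommRing R] {ι : Type u} [Fintype ι] (A : ι → Type u)
    [∀ i, CommRing (A i)] [∀ i, Algebra R (A i)] (hA : ∀ i, Algebra.FiniteType R (A i)) :
    Algebra.FiniteType R (∀ i, A i) := by
  classical
  have h : ∀ i, ∃ s : Finset (A i), Algebra.adjoin R (s : Set (A i)) = ⊤ := fun i => (hA i).out
  choose s hs using h
  let T : Set (∀ i, A i) := ⋃ i, (Pi.single i) '' ((s i : Set (A i)) ∪ {1})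
  have hT : T.Finite :=
    Set.finite_iUnion (fun i => ((s i).finite_toSet.union (Set.finite_singleton 1)).image _)
  have key : ∀ i (a : A i), (Pi.single i a : ∀ j, A j) ∈ Algebra.adjoin R T := by
    intro i a
    have ha : a ∈ Algebra.adjoin R (s i : Set (A i)) := by rw [hs i]; trivial
    induction ha using Algebra.adjoin_induction with
    | mem x hx =>
      exact Algebra.subset_adjoin
        (Set.mem_iUnion_of_mem i (Set.mem_image_of_mem (Pi.single i) (Or.inl hx)))
    | algebraMap r =>
      have e : (Pi.single i (algebraMap R (A i) r) : ∀ j, A j)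
          = r • (Pi.single i (1 : A i) : ∀ j, A j) := by
        rw [Algebra.algebraMap_eq_smul_one, Pi.single_smul]
      rw [e]
      exact Subalgebra.smul_mem _
        (Algebra.subset_adjoin
          (Set.mem_iUnion_of_mem i (Set.mem_image_of_mem (Pi.single i) (Or.inr rfl)))) r
    | add x y _ _ hx hy => rw [Pi.single_add]; exact Subalgebra.add_mem _ hx hy
    | mul x y _ _ hx hy => rw [Pi.single_mul]; exact Subalgebra.mul_mem _ hx hy
  refine ⟨Subalgebra.fg_def.mpr ⟨T, hT, ?_⟩⟩
  rw [eq_top_iff]
  rintro f -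
  rw [← Finset.univ_sum_single f]
  exact Subalgebra.sum_mem _ (fun i _ => key i (f i))



/-- Let `R` be a Noetherian ring, `ι` a finite index type, and `φ_i : A_i → B_i`, `ψ_i : Q → B_i`
surjective `R`-algebra maps, where `Q` and all `A_i`, `B_i` are `R`-algebras of finite type. Then
the fibre product ring `P = Q ×_{∏ B_i} ∏ A_i` (pairs `(q, a)` with `ψ_i(q) = φ_i(a_i)` for all `i`)
is an `R`-algebra of finite type. -/
theorem result (R : Type u) [CommRing R] [IsNoetherianRing R] {ι : Type u} [Fintype ι]
    (Q : Type u) [CommRing Q] [Algebra R Q] [Algebra.FiniteType R Q] (A B : ι → Type u) [∀ i, CommRing (A i)]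
    [∀ i, CommRing (B i)] [∀ i, Algebra R (A i)] [∀ i, Algebra R (B i)] (hA : ∀ i, Algebra.FiniteType R (A i))
    (hB : ∀ i, Algebra.FiniteType R (B i)) (φ : ∀ i, A i →ₐ[R] B i) (ψ : ∀ i, Q →ₐ[R] B i)
    (hφ : ∀ i, Function.Surjective (φ i)) (hψ : ∀ i, Function.Surjective (ψ i)) :
    Algebra.FiniteType R ↥(AlgHom.equalizer ((AlgHom.pi ψ).comp (AlgHom.fst R Q (∀ i, A i)))
      ((AlgHom.pi fun i => (φ i).comp (Pi.evalAlgHom R A i)).comp (AlgHom.snd R Q (∀ i, A i)))) := by
  classical
  haveI : Algebra.FiniteType R (∀ i, A i) := pi_finiteType R A hA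
  have hmem : ∀ c : Q × (∀ i, A i),
      c ∈ AlgHom.equalizer ((AlgHom.pi ψ).comp (AlgHom.fst R Q (∀ i, A i)))
        ((AlgHom.pi fun i => (φ i).comp (Pi.evalAlgHom R A i)).comp (AlgHom.snd R Q (∀ i, A i)))
      ↔ ∀ i, ψ i c.1 = φ i (c.2 i) := by
    intro c
    rw [AlgHom.mem_equalizer]
    constructor
    · intro h i; exact congrFun h i
    · intro h; funext i; exact h i
  generalize hE : AlgHom.equalizer ((AlgHom.pi ψ).comp (AlgHom.fst R Q (∀ i, A i)))
    ((AlgHom.pi fun i => (φ i).comp (Pi.evalAlgHom R A i)).comp (AlgHom.snd R Q (∀ i, A i))) = E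
    at hmem
  refine ⟨fg_of_fg_of_fg R E (Q × ∀ i, A i) (Algebra.FiniteType.out) ?_
    (fun x y h => Subtype.ext h)⟩
  let g : Option ι → (Q × ∀ i, A i) := fun o => o.elim 1 (fun i => (0, Pi.single i 1))
  have hspan : Submodule.span E (Set.range g) = ⊤ := by
    rw [eq_top_iff]
    rintro ⟨q, a⟩ -
    -- elements of E lie in the span
    have hE1 : ∀ p : E, (p : Q × ∀ i, A i) ∈ Submodule.span E (Set.range g) := by
      intro p
      have h1 : (p : Q × ∀ i, A i) = p • (1 : Q × ∀ i, A i) := by
        rw [Algebra.smul_def, mul_one]; rfl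
      rw [h1]
      exact Submodule.smul_mem _ p (Submodule.subset_span ⟨none, rfl⟩)
    -- (0, single i d) lies in the span
    have hE2 : ∀ (i : ι) (d : A i), ((0 : Q), (Pi.single i d : ∀ j, A j))
        ∈ Submodule.span E (Set.range g) := by
      intro i d
      obtain ⟨qi, hqi⟩ := hψ i (φ i d)
      have hb : ∀ j, ∃ b : A j, φ j b = ψ j qi := fun j => hφ j (ψ j qi)
      choose b hb using hb
      have hp : (qi, Function.update b i d) ∈ E := by
        rw [hmem]
        intro j
        show ψ j qi = φ j (Function.update b i d j)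
        by_cases hj : j = i
        · subst hj
          rw [Function.update_self]; exact hqi
        · rw [Function.update_of_ne hj]; exact (hb j).symm
      have h2 : ((0 : Q), (Pi.single i d : ∀ j, A j))
          = (⟨(qi, Function.update b i d), hp⟩ : E) • g (some i) := by
        rw [Algebra.smul_def]
        show ((0 : Q), (Pi.single i d : ∀ j, A j))
          = (qi, Function.update b i d) * ((0 : Q), (Pi.single i (1 : A i) : ∀ j, A j))
        rw [Prod.mk_mul_mk, mul_zero]
        congr 1
        funext j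
        by_cases hj : j = i
        · subst hj
          rw [Pi.mul_apply, Pi.single_eq_same, Pi.single_eq_same, Function.update_self, mul_one]
        · rw [Pi.mul_apply, Pi.single_eq_of_ne hj, Pi.single_eq_of_ne hj, mul_zero]
      rw [h2]
      exact Submodule.smul_mem _ _ (Submodule.subset_span ⟨some i, rfl⟩)
    have ha' : ∀ i, ∃ a' : A i, φ i a' = ψ i q := fun i => hφ i (ψ i q)
    choose a' ha' using ha'
    have hp0 : (q, a') ∈ E := by
      rw [hmem]; intro i; exact (ha' i).symm
    have hdecomp : ((q, a) : Q × ∀ i, A i) = (q, a') + (0, a - a') := by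
      rw [Prod.mk_add_mk, add_zero, add_sub_cancel]
    have hsum : ((0 : Q), a - a') = ∑ i, ((0 : Q), (Pi.single i ((a - a') i) : ∀ j, A j)) := by
      have h3 : ∀ v : (∀ j, A j), ((0 : Q), v) = AddMonoidHom.inr Q (∀ j, A j) v := fun v => rfl
      rw [h3, Finset.sum_congr rfl (fun i _ => h3 (Pi.single i ((a - a') i))), ← map_sum,
        Finset.univ_sum_single]
    rw [hdecomp, hsum]
    exact Submodule.add_mem _ (hE1 ⟨(q, a'), hp0⟩)
      (Submodule.sum_mem _ (fun i _ => hE2 i ((a - a') i)))
  rw [← hspan]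
  exact Submodule.fg_span (Set.finite_range g)


end Groth.Agent.S6929
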