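import Groth.Statements.S6933
import Mathlib.Algebra.Category.Grp.EpiMono

set_option autoImplicit false
universe u
open CategoryTheory
open InjHull

namespace Groth.Agent.S6933

/-- An abelian group `J` that is injective as an object of the category of abelian groups is divisible:
`n J = J` for every nonzero integer `n`. (The published statement is an equivalence; this row states
the implication from injective to divisible.) -/
theorem result (J : Type u) [AddCommGroup J] (hJ : Injective (AddCommGrpCat.of J))
    (n : ℤ) (hn : n ≠ 0) (x : J) : ∃ y : J, n • y = x := by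
  let f₀ : ULift.{u} ℤ →+ ULift.{u} ℤ := DistribSMul.toAddMonoidHom (ULift.{u} ℤ) n
  let g₀ : ULift.{u} ℤ →+ J := (zmultiplesHom J x).comp AddEquiv.ulift.toAddMonoidHom
  let f : AddCommGrpCat.of (ULift.{u} ℤ) ⟶ AddCommGrpCat.of (ULift.{u} ℤ) := AddCommGrpCat.ofHom f₀
  let g : AddCommGrpCat.of (ULift.{u} ℤ) ⟶ AddCommGrpCat.of J := AddCommGrpCat.ofHom g₀
  have hf : Mono f := by
    rw [AddCommGrpCat.mono_iff_injective]
    intro a b hab
    have h1 : n • a = n • b := hab
    have h2 : n * a.down = n * b.down := congrArg ULift.down h1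
    exact ULift.ext _ _ (mul_left_cancel₀ hn h2)
  let h := Injective.factorThru g f
  have hfac : f ≫ h = g := Injective.comp_factorThru g f
  refine ⟨h.hom (ULift.up 1), ?_⟩
  have h3 : (f ≫ h).hom (ULift.up 1) = g.hom (ULift.up 1) := by rw [hfac]
  have h4 : (f ≫ h).hom (ULift.up 1) = h.hom (n • ULift.up 1) := rfl
  have h5 : g.hom (ULift.up 1) = x := by
    show (1 : ℤ) • x = x
    exact one_smul _ _
  rw [← map_zsmul, ← h4, h3, h5]

end Groth.Agent.S6933
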