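import Groth.Statements.S6934
import Mathlib

set_option autoImplicit false
universe u
open EtAlg

namespace Groth.Agent.S6934



/-- Let `s : B → R`, `t : R' → R` be ring maps and `B' = B ×_R R'` the fibre product ring, i.e. a ring
`B'` with maps `p : B' → B`, `q : B' → R'`, `s ∘ p = t ∘ q`, such that `(p, q)` is injective with
image the pairs `(b, r')` with `s(b) = t(r')`. Let `h ∈ B'` with images `g = p(h)`, `f = q(h)`. Then
the square of localizations `B'_h → B_g`, `B'_h → R'_f`, `B_g → R_{s(g)}`, `R'_f → R_{t(f)} =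
R_{s(g)}` (the induced maps) is cartesian as well: `B'_h = B_g ×_{R_{s(g)}} R'_f`. -/
theorem result {B R R' B' : Type u} [CommRing B] [CommRing R] [CommRing R'] [CommRing B']
    (s : B →+* R) (t : R' →+* R) (p : B' →+* B) (q : B' →+* R') (hc : s.comp p = t.comp q)
    (hinj : ∀ x y : B', p x = p y → q x = q y → x = y) (hsurj : ∀ (b : B) (r' : R'), s b = t r' → ∃ x : B', p x = b ∧ q x = r')
    (h : B') (Bh Bg Rf Rsg : Type u) [CommRing Bh] [CommRing Bg] [CommRing Rf] [CommRing Rsg]
    [Algebra B' Bh] [IsLocalization.Away h Bh] [Algebra B Bg] [IsLocalization.Away (p h) Bg]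
    [Algebra R' Rf] [IsLocalization.Away (q h) Rf] [Algebra R Rsg] [IsLocalization.Away (s (p h)) Rsg]
    (pL : Bh →+* Bg) (qL : Bh →+* Rf) (sL : Bg →+* Rsg) (tL : Rf →+* Rsg)
    (hp : pL.comp (algebraMap B' Bh) = (algebraMap B Bg).comp p) (hq : qL.comp (algebraMap B' Bh) = (algebraMap R' Rf).comp q)
    (hs : sL.comp (algebraMap B Bg) = (algebraMap R Rsg).comp s) (ht : tL.comp (algebraMap R' Rf) = (algebraMap R Rsg).comp t) :
    (∀ x y : Bh, pL x = pL y → qL x = qL y → x = y) ∧
    (∀ (b : Bg) (r : Rf), sL b = tL r → ∃ x : Bh, pL x = b ∧ qL x = r) := by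
  have hp' : ∀ a, pL (algebraMap B' Bh a) = algebraMap B Bg (p a) := fun a => congr($hp a)
  have hq' : ∀ a, qL (algebraMap B' Bh a) = algebraMap R' Rf (q a) := fun a => congr($hq a)
  have hs' : ∀ a, sL (algebraMap B Bg a) = algebraMap R Rsg (s a) := fun a => congr($hs a)
  have ht' : ∀ a, tL (algebraMap R' Rf a) = algebraMap R Rsg (t a) := fun a => congr($ht a)
  have hc' : ∀ a, s (p a) = t (q a) := fun a => congr($hc a)
  have uh : IsUnit (algebraMap B' Bh h) := IsLocalization.Away.algebraMap_isUnit h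
  have ug : IsUnit (algebraMap B Bg (p h)) := IsLocalization.Away.algebraMap_isUnit (p h)
  have uf : IsUnit (algebraMap R' Rf (q h)) := IsLocalization.Away.algebraMap_isUnit (q h)
  have uσ : IsUnit (algebraMap R Rsg (s (p h))) := IsLocalization.Away.algebraMap_isUnit (s (p h))
  constructor
  · intro x y hpx hqx
    obtain ⟨n, a, ha⟩ := IsLocalization.Away.surj h x
    obtain ⟨m, b, hb⟩ := IsLocalization.Away.surj h y
    -- common denominators
    have hx' : x * algebraMap B' Bh h ^ (n + m) = algebraMap B' Bh (a * h ^ m) := by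
      rw [pow_add, ← mul_assoc, ha, map_mul, map_pow]
    have hy' : y * algebraMap B' Bh h ^ (n + m) = algebraMap B' Bh (b * h ^ n) := by
      rw [pow_add, mul_comm (algebraMap B' Bh h ^ n), ← mul_assoc, hb, map_mul, map_pow]
    have e1 : algebraMap B Bg (p (a * h ^ m)) = algebraMap B Bg (p (b * h ^ n)) := by
      rw [← hp', ← hp', ← hx', ← hy', map_mul, map_mul, hpx]
    have e2 : algebraMap R' Rf (q (a * h ^ m)) = algebraMap R' Rf (q (b * h ^ n)) := by
      rw [← hq', ← hq', ← hx', ← hy', map_mul, map_mul, hqx]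
    obtain ⟨k, hk⟩ := IsLocalization.Away.exists_of_eq (p h) e1
    obtain ⟨l, hl⟩ := IsLocalization.Away.exists_of_eq (q h) e2
    have e3 : h ^ (k + l) * (a * h ^ m) = h ^ (k + l) * (b * h ^ n) := by
      apply hinj
      · simp only [map_mul, map_pow, pow_add] at hk ⊢
        rw [mul_comm (p h ^ k) (p h ^ l), mul_assoc, mul_assoc, hk]
      · simp only [map_mul, map_pow, pow_add] at hl ⊢
        rw [mul_assoc, mul_assoc, hl]
    have e4 : x * algebraMap B' Bh h ^ (n + m) = y * algebraMap B' Bh h ^ (n + m) := by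
      rw [hx', hy']
      have := congr(algebraMap B' Bh $e3)
      rw [map_mul, map_mul (algebraMap B' Bh) (h ^ (k + l)), map_pow] at this
      exact (uh.pow (k + l)).mul_left_cancel this
    exact (uh.pow (n + m)).mul_right_cancel e4
  · intro b r hbr
    obtain ⟨n, b₀, hb₀⟩ := IsLocalization.Away.surj (p h) b
    obtain ⟨m, r₀, hr₀⟩ := IsLocalization.Away.surj (q h) r
    have hb' : b * algebraMap B Bg (p h) ^ (n + m) = algebraMap B Bg (b₀ * p h ^ m) := by
      rw [pow_add, ← mul_assoc, hb₀, map_mul, map_pow]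
    have hr' : r * algebraMap R' Rf (q h) ^ (n + m) = algebraMap R' Rf (r₀ * q h ^ n) := by
      rw [pow_add, mul_comm (algebraMap R' Rf (q h) ^ n), ← mul_assoc, hr₀, map_mul, map_pow]
    have e1 : algebraMap R Rsg (s (b₀ * p h ^ m)) = algebraMap R Rsg (t (r₀ * q h ^ n)) := by
      rw [← hs', ← ht', ← hb', ← hr', map_mul, map_mul, map_pow, map_pow, hs', ht', hbr, hc']
    obtain ⟨k, hk⟩ := IsLocalization.Away.exists_of_eq (s (p h)) e1
    have e2 : s (p h ^ k * (b₀ * p h ^ m)) = t (q h ^ k * (r₀ * q h ^ n)) := by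
      have hσ := hc' h
      simp only [map_mul, map_pow] at hk ⊢
      rw [← hσ] at hk ⊢
      exact hk
    obtain ⟨x₀, hx₀p, hx₀q⟩ := hsurj _ _ e2
    let N := n + m + k
    let x : Bh := IsLocalization.mk' Bh x₀ (⟨h ^ N, N, rfl⟩ : Submonoid.powers h)
    have hx : x * algebraMap B' Bh h ^ N = algebraMap B' Bh x₀ := by
      have := IsLocalization.mk'_spec Bh x₀ (⟨h ^ N, N, rfl⟩ : Submonoid.powers h)
      simpa [map_pow] using this
    refine ⟨x, ?_, ?_⟩
    · apply (ug.pow N).mul_right_cancel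
      have : pL x * algebraMap B Bg (p h) ^ N = pL (algebraMap B' Bh x₀) := by
        rw [← hx, map_mul, map_pow, hp']
      rw [this, hp', hx₀p, map_mul, map_pow, ← hb']
      show _ = b * algebraMap B Bg (p h) ^ (n + m + k)
      rw [pow_add (algebraMap B Bg (p h)) (n + m) k]
      ring
    · apply (uf.pow N).mul_right_cancel
      have : qL x * algebraMap R' Rf (q h) ^ N = qL (algebraMap B' Bh x₀) := by
        rw [← hx, map_mul, map_pow, hq']
      rw [this, hq', hx₀q, map_mul, map_pow, ← hr']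
      show _ = r * algebraMap R' Rf (q h) ^ (n + m + k)
      rw [pow_add (algebraMap R' Rf (q h)) (n + m) k]
      ring

end Groth.Agent.S6934
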