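import Groth.Statements.S6936
import Mathlib
import Groth.Agent.Lib.Helper23.DRingPC2
-- import your own Groth.Agent.* helpers here

set_option autoImplicit false
universe u
open CategoryTheory CategoryTheory.Limits
attribute [local instance] HasDerivedCategory.standard
open DRing

namespace Groth.Agent.S6936

/-- Let R be a commutative ring, m an integer and K an object of D(R). If H^i(K) = 0 for every i > m +
1, H^(m+1)(K) is a finitely presented R-module and H^m(K) is a finitely generated R-module, then K
is m-pseudo-coherent. -/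
theorem result (R : Type u) [CommRing R]
    (m : ℤ) (K : Dual.D R) (hvan : ∀ i : ℤ, m + 1 < i → Subsingleton (Dual.HD R K i))
    (hfp : Module.FinitePresentation R (Dual.HD R K (m + 1))) (hfin : Module.Finite R (Dual.HD R K m)) :
    DRing.IsPseudoCoherent R m K := by
  have hb' : ∀ i : ℤ, m + 1 < i →
      IsZero ((DerivedCategory.homologyFunctor (ModuleCat.{u} R) i).obj K) := fun i hi => by
    haveI := hvan i hi
    exact ModuleCat.isZero_of_subsingleton _
  refine (Groth.Agent.Lib.helper23.DRingPC.isPseudoCoherent_iff_npc R m _).2 ?_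
  refine Groth.Agent.Lib.helper23.PCohCore.NPC.of_homology (Groth.Agent.Lib.helper23.DRingPC.FF R) (Groth.Agent.Lib.helper23.DRingPC.FF_sum R) (Groth.Agent.Lib.helper23.DRingPC.FF_hqs R) (Groth.Agent.Lib.helper23.DRingPC.FF_hql R) m K (m + 1) hb'
    (fun i hi => ?_)
  rcases eq_or_lt_of_le hi with rfl | hi'
  · rw [sub_self]
    exact (Groth.Agent.Lib.helper23.DRingPC.npc_zero_single_iff_finite R _).2 hfin
  · rcases eq_or_lt_of_le (show m + 1 ≤ i by omega) with rfl | hi''
    · rw [show m - (m + 1) = -1 by ring]
      exact (Groth.Agent.Lib.helper23.DRingPC.npc_negOne_single_iff_finitePresentation R _).2 hfp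
    · exact Groth.Agent.Lib.helper23.PCohCore.NPC.of_isZero (Groth.Agent.Lib.helper23.DRingPC.FF R) _
        ((DerivedCategory.singleFunctor (ModuleCat.{u} R) 0).map_isZero (hb' i hi''))

end Groth.Agent.S6936
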