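import Groth.Statements.S6937
import Mathlib
import Groth.Agent.Lib.Helper23.DRingPC2
-- import your own Groth.Agent.* helpers here

set_option autoImplicit false
universe u
open CategoryTheory CategoryTheory.Limits
attribute [local instance] HasDerivedCategory.standard
open DRing

namespace Groth.Agent.S6937

/-- Let R be a commutative ring, m an integer and K, L objects of D(R). If K ⊕ L is m-pseudo-coherent
then K and L are m-pseudo-coherent; if K ⊕ L is pseudo-coherent (isomorphic in D(R) to a bounded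
above complex of finite free modules) then so are K and L. -/
theorem result (R : Type u) [CommRing R] (m : ℤ) (K L : Dual.D R)
    [HasBinaryBiproduct K L] :
    (DRing.IsPseudoCoherent R m (K ⊞ L) → DRing.IsPseudoCoherent R m K ∧ DRing.IsPseudoCoherent R m L) ∧
      (DRing.IsPseudoCoherent' R (K ⊞ L) → DRing.IsPseudoCoherent' R K ∧ DRing.IsPseudoCoherent' R L) := by
  have key : ∀ m' : ℤ, Groth.Agent.Lib.helper23.PCohCore.NPC (Groth.Agent.Lib.helper23.DRingPC.FF R) m' (K ⊞ L) →
      Groth.Agent.Lib.helper23.PCohCore.NPC (Groth.Agent.Lib.helper23.DRingPC.FF R) m' K ∧ Groth.Agent.Lib.helper23.PCohCore.NPC (Groth.Agent.Lib.helper23.DRingPC.FF R) m' L := by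
    intro m' h
    have h' : Groth.Agent.Lib.helper23.PCohCore.NPC (Groth.Agent.Lib.helper23.DRingPC.FF R) m'
        (@biprod _ _ _ K L (HasBinaryBiproducts.has_binary_biproduct K L)) := by
      obtain ⟨E, hE, ⟨e⟩⟩ := h
      exact ⟨E, hE, ⟨e ≪≫ biprod.uniqueUpToIso K L (BinaryBiproduct.isBilimit K L)⟩⟩
    exact (Groth.Agent.Lib.helper23.PCohCore.NPC.biprod_iff (Groth.Agent.Lib.helper23.DRingPC.FF R) (Groth.Agent.Lib.helper23.DRingPC.FF_sum R) (Groth.Agent.Lib.helper23.DRingPC.FF_hqs R) (Groth.Agent.Lib.helper23.DRingPC.FF_hql R) m' K L).1 h'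
  constructor
  · intro h
    have := key m ((Groth.Agent.Lib.helper23.DRingPC.isPseudoCoherent_iff_npc R m _).1 h)
    exact ⟨(Groth.Agent.Lib.helper23.DRingPC.isPseudoCoherent_iff_npc R m _).2 this.1,
      (Groth.Agent.Lib.helper23.DRingPC.isPseudoCoherent_iff_npc R m _).2 this.2⟩
  · intro h
    have h' := (Groth.Agent.Lib.helper23.DRingPC.isPseudoCoherent'_iff_npc R _).1 h
    exact ⟨(Groth.Agent.Lib.helper23.DRingPC.isPseudoCoherent'_iff_npc R _).2 (fun m' => (key m' (h' m')).1),
      (Groth.Agent.Lib.helper23.DRingPC.isPseudoCoherent'_iff_npc R _).2 (fun m' => (key m' (h' m')).2)⟩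

end Groth.Agent.S6937
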