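import Groth.Statements.S6945
import Mathlib
import Groth.Agent.Lib.Helper23.TA8
-- import your own Groth.Agent.* helpers here

set_option autoImplicit false
universe u
open CategoryTheory CategoryTheory.Limits
attribute [local instance] HasDerivedCategory.standard
open DRing

namespace Groth.Agent.S6945

/-- With the definition of tor amplitude: let R be a commutative ring, K an object of D(R) and a, b
integers, and assume the derived tensor product - ⊗^L_R M exists on D(R) for every R-module M. Then
K is isomorphic in D(R) to a complex of flat R-modules vanishing outside [a, b] if and only if H^i(K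
⊗^L_R M) = 0 for every R-module M and every integer i outside [a, b]. -/
theorem result (R : Type u) [CommRing R]
    [∀ M : ModuleCat.{u} R, DRing.HasLTensor R M] (K : Dual.D R) (a b : ℤ) :
    DRing.HasTorAmplitudeIn R a b K ↔
      ∀ (M : ModuleCat.{u} R) (i : ℤ), (i < a ∨ b < i) → Subsingleton (Dual.HD R ((DRing.LTensor R M).obj K) i) := by
  rw [Groth.Agent.Lib.helper23.TA.hasTorAmplitudeIn_iff_LTensor]
  constructor
  · intro h M i hi
    exact ModuleCat.subsingleton_of_isZero (h M i hi)
  · intro h M i hi
    haveI := h M i hi
    exact ModuleCat.isZero_of_subsingleton _

end Groth.Agent.S6945
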