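import Groth.Statements.S6946
import Mathlib
import Groth.Agent.Lib.Helper23.TA10
-- import your own Groth.Agent.* helpers here

set_option autoImplicit false
universe u
open CategoryTheory CategoryTheory.Limits
attribute [local instance] HasDerivedCategory.standard
open DRing

namespace Groth.Agent.S6946

/-- With the definition of tor dimension: let R be a commutative ring, M an R-module and d a natural
number. Then Tor_p^R(M, N) = 0 for every R-module N and every p > d if and only if M[0] is
isomorphic in D(R) to a complex of flat modules vanishing outside [-d, 0] (a flat resolution of M of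
length d). In particular M has tor dimension 0 (Tor_p^R(M, N) = 0 for every N and every p > 0) if
and only if M is flat. -/
theorem result (R : Type u) [CommRing R] (M : Type u)
    [AddCommGroup M] [Module R M] (d : ℕ) :
    (DRing.HasTorDimLE R d M ↔ DRing.HasTorAmplitudeIn R (-(d : ℤ)) 0 (Dual.inD R M)) ∧
      (DRing.HasTorDimLE R 0 M ↔ Module.Flat R M) := by
  constructor
  · rw [Groth.Agent.Lib.helper23.TA.hasTorDimLE_iff_torVan,
      Groth.Agent.Lib.helper23.TA.torVan_iff_hasTorAmplitudeIn]
  · rw [Groth.Agent.Lib.helper23.TA.hasTorDimLE_iff_torVan,
      Groth.Agent.Lib.helper23.TA.torVan_zero_iff_flat]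

end Groth.Agent.S6946
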