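import Groth.Statements.S6951
import Mathlib
import Groth.Agent.Lib.Helper13.TorLow6
import Groth.Agent.Lib.Helper23.TA11
import Groth.Agent.Lib.Helper23.FlatBC1
-- import your own Groth.Agent.* helpers here

set_option autoImplicit false
universe u
open CategoryTheory CategoryTheory.Limits
attribute [local instance] HasDerivedCategory.standard
open DRing

namespace Groth.Agent.S6951

/-- Let R → A → B be homomorphisms of commutative rings with A → B faithfully flat, such that the
derived base change D(A) → D(B) exists, and let K be an object of D(A). Then for all integers a, b,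
the following are equivalent: the restriction of K to D(R) is of tor amplitude within [a, b]; the
restriction of K ⊗^L_A B to D(R) is of tor amplitude within [a, b]. -/
theorem result {R A B : Type u}
    [CommRing R] [CommRing A] [CommRing B] [Algebra R A] [Algebra A B] [Algebra R B] [IsScalarTower R A B]
    [Module.FaithfullyFlat A B] [DRing.HasLBaseChange (algebraMap A B)] (K : Dual.D A) (a b : ℤ) :
    DRing.HasTorAmplitudeIn R a b ((DRing.restrictD (algebraMap R A)).obj K) ↔
      DRing.HasTorAmplitudeIn R a b ((DRing.restrictD (algebraMap R B)).obj ((DRing.LBaseChange (algebraMap A B)).obj K)) := by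
  haveI : PreservesFiniteLimits (ModuleCat.extendScalars.{u, u, u} (algebraMap A B)) :=
    Groth.Agent.Lib.helper23.FlatBC.preservesFiniteLimits_extendScalars_algebraMap
  have eK : DerivedCategory.Q.obj (DerivedCategory.Q.objPreimage K) ≅ K :=
    DerivedCategory.Q.objObjPreimageIso K
  set K₀ : DRing.Cx A := DerivedCategory.Q.objPreimage K with hK₀
  have e1 : (DRing.restrictD (algebraMap R A)).obj K ≅
      DRing.toD ((Groth.Agent.Lib.helper13.ExtKFlat.resCx (algebraMap R A)).obj K₀) :=
    (DRing.restrictD (algebraMap R A)).mapIso eK.symm ≪≫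
      Groth.Agent.Lib.helper23.TA.restrictDQIso K₀
  have e2 : (DRing.restrictD (algebraMap R B)).obj ((DRing.LBaseChange (algebraMap A B)).obj K) ≅
      DRing.toD ((Groth.Agent.Lib.helper13.ExtKFlat.resCx (algebraMap R B)).obj
        ((Groth.Agent.Lib.helper13.ExtKFlat.extCx (algebraMap A B)).obj K₀)) :=
    (DRing.restrictD (algebraMap R B)).mapIso
      ((Groth.Agent.Lib.helper23.FlatBC.lbcIso (algebraMap A B)).app K ≪≫
        (Groth.Agent.Lib.helper23.FlatBC.extD (algebraMap A B)).mapIso eK.symm ≪≫
        (ModuleCat.extendScalars.{u, u, u} (algebraMap A B)).mapDerivedCategoryFactors.app K₀) ≪≫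
      Groth.Agent.Lib.helper23.TA.restrictDQIso _
  have key := Groth.Agent.Lib.helper13.TorLow.hasTorAmplitudeIn_res_ext_iff (R := R) (B := B) K₀ a b
  constructor
  · intro h
    exact Groth.Agent.Lib.helper23.TA.hasTorAmplitudeIn_of_iso e2.symm
      (key.1 (Groth.Agent.Lib.helper23.TA.hasTorAmplitudeIn_of_iso e1 h))
  · intro h
    exact Groth.Agent.Lib.helper23.TA.hasTorAmplitudeIn_of_iso e1.symm
      (key.2 (Groth.Agent.Lib.helper23.TA.hasTorAmplitudeIn_of_iso e2 h))

end Groth.Agent.S6951
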