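import Groth.Statements.S6953
import Mathlib
import Groth.Agent.Lib.Helper13.TorLow5
import Groth.Agent.Lib.Helper23.TA11
-- import your own Groth.Agent.* helpers here

set_option autoImplicit false
universe u
open CategoryTheory CategoryTheory.Limits
attribute [local instance] HasDerivedCategory.standard
open DRing

namespace Groth.Agent.S6953

/-- Let A → B be a homomorphism of commutative rings, K an object of D(B) with tor amplitude in [a, b]
over B, and L a cochain complex of B-modules whose restriction of scalars to A lies in D(A) with tor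
amplitude contained in [c, d]. Assume the derived tensor product - ⊗^L_B L exists on D(B). Then K
⊗^L_B L, with scalars restricted to A, has tor amplitude in [a + c, b + d] over A. -/
theorem result {A B : Type u} [CommRing A] [CommRing B] [Algebra A B]
    (K : Dual.D B) (a b c d : ℤ) (hK : DRing.HasTorAmplitudeIn B a b K) (L : DRing.Cx B)
    (hL : DRing.HasTorAmplitudeIn A c d (DRing.toD ((DRing.restrictCx (algebraMap A B)).obj L)))
    [DRing.HasLTensorCx B L] :
    DRing.HasTorAmplitudeIn A (a + c) (b + d)
      ((DRing.restrictD (algebraMap A B)).obj ((DRing.LTensorCx B L).obj K)) := by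
  obtain ⟨E, hV, hfl, ⟨e⟩⟩ := hK
  have hE : Groth.Agent.Lib.helper13.KFlat.IsKFlatR E :=
    Groth.Agent.Lib.helper13.KFlat.isKFlatR_of_bounded_above E b (fun i hi => hV i (Or.inr hi)) hfl
  obtain ⟨j⟩ := Groth.Agent.Lib.helper13.LTenCx.nonempty_LTensorCx_iso L L E hE (Iso.refl _) e
  have h := Groth.Agent.Lib.helper13.TorLow.hasTorAmplitudeIn_res_tensor (algebraMap A B) E L
    a b c d hV hfl hL
  exact Groth.Agent.Lib.helper23.TA.hasTorAmplitudeIn_of_iso
    ((Groth.Agent.Lib.helper23.TA.restrictDQIso (MonoidalCategory.tensorObj E L)).symm ≪≫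
      (DRing.restrictD (algebraMap A B)).mapIso j.symm) h

end Groth.Agent.S6953
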