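import Groth.Statements.S6955
import Mathlib
-- import your own Groth.Agent.* helpers here

set_option autoImplicit false
universe u
open CategoryTheory CategoryTheory.Limits
attribute [local instance] HasDerivedCategory.standard
open DRing

namespace Groth.Agent.S6955

section Aux
open CategoryTheory CategoryTheory.Limits
universe v

namespace S6955aux

section Abstract1

variable {C : Type u} [Category.{v} C] [Abelian C]

lemma epi_toCycles_of_exactAt (E : CochainComplex C ℤ) (i j : ℤ) (hij : i + 1 = j)
    (h : E.ExactAt j) : Epi (E.toCycles i j) := by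
  have hz : IsZero (E.homology j) := h.isZero_homology
  exact Preadditive.epi_of_isZero_cokernel' _ (E.homologyIsCokernel i j (by simp [← hij])) hz

/-- split retraction of cycles, by downward induction. -/
lemma exists_retraction_cycles (E : CochainComplex C ℤ) (hproj : ∀ i, Projective (E.X i))
    (b : ℤ) (hb : ∀ i, b < i → IsZero (E.X i)) (hex : ∀ i, 0 < i → E.ExactAt i) :
    ∀ (k : ℕ) (i : ℤ), i + k = b + 1 → 0 ≤ i →
      ∃ r : E.X i ⟶ E.cycles i, E.iCycles i ≫ r = 𝟙 _ := by
  intro k
  induction k with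
  | zero =>
    intro i hi _
    have hz : IsZero (E.X i) := hb i (by simp at hi; omega)
    have hz' : IsZero (E.cycles i) := IsZero.of_mono (E.iCycles i) hz
    exact ⟨0, hz'.eq_of_src _ _⟩
  | succ k ih =>
    intro i hi h0
    obtain ⟨r', hr'⟩ := ih (i + 1) (by push_cast at hi ⊢; omega) (by omega)
    haveI : Projective (E.X (i + 1)) := hproj _
    haveI : Projective (E.cycles (i + 1)) :=
      (Retract.mk (E.iCycles (i + 1)) r' hr').projective
    haveI : Epi (E.toCycles i (i + 1)) :=
      epi_toCycles_of_exactAt E i (i + 1) rfl (hex _ (by omega))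
    let s : E.cycles (i + 1) ⟶ E.X i := Projective.factorThru (𝟙 _) (E.toCycles i (i + 1))
    have hs : s ≫ E.toCycles i (i + 1) = 𝟙 _ := Projective.factorThru_comp _ _
    have h1 : (𝟙 (E.X i) - E.toCycles i (i + 1) ≫ s) ≫ E.d i (i + 1) = 0 := by
      rw [← E.toCycles_i i (i + 1), Preadditive.sub_comp, Category.id_comp, Category.assoc,
        reassoc_of% hs, sub_self]
    refine ⟨E.liftCycles _ (i + 1) (by simp) h1, ?_⟩
    rw [← cancel_mono (E.iCycles i), Category.assoc, HomologicalComplex.liftCycles_i,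
      Preadditive.comp_sub, Category.comp_id, Category.id_comp]
    have h2 : E.iCycles i ≫ E.toCycles i (i + 1) = 0 := by
      rw [← cancel_mono (E.iCycles (i + 1)), Category.assoc, E.toCycles_i, zero_comp]
      exact E.iCycles_d i (i + 1)
    rw [reassoc_of% h2, zero_comp, sub_zero]

end Abstract1


section Abstract2

variable {C : Type u} [Category.{v} C] [Abelian C]

set_option backward.defeqAttrib.useBackward true in
set_option backward.isDefEq.respectTransparency false in
/-- build a projective resolution from an exact chain complex. -/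
noncomputable def mkResolution (P : ChainComplex C ℕ) (M : C) (f : P.X 0 ⟶ M)
    (hf : P.d 1 0 ≫ f = 0) (hP : ∀ n, Projective (P.X n)) (hex : ∀ n, P.ExactAt (n + 1))
    (h0 : (ShortComplex.mk (P.d 1 0) f hf).Exact) (hepi : Epi f) : ProjectiveResolution M where
  complex := P
  projective := hP
  π := (ChainComplex.toSingle₀Equiv _ _).symm ⟨f, hf⟩
  quasiIso := ⟨fun n => by
    cases n
    · rw [ChainComplex.quasiIsoAt₀_iff, ShortComplex.quasiIso_iff_of_zeros' _ (P.shape _ _ (by simp)) rfl rfl]
      dsimp
      refine ⟨?_, ?_⟩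
      · refine (ShortComplex.exact_iff_of_iso ?_).2 h0
        exact ShortComplex.isoMk (Iso.refl _) (Iso.refl _) (Iso.refl _)
          (by simp) (by simp [ChainComplex.toSingle₀Equiv])
      · simpa [ChainComplex.toSingle₀Equiv] using hepi
    · rw [quasiIsoAt_iff_exactAt' (hL := ChainComplex.exactAt_succ_single_obj ..)]
      exact hex _⟩

lemma mkResolution_complex (P : ChainComplex C ℕ) (M : C) (f : P.X 0 ⟶ M)
    (hf : P.d 1 0 ≫ f = 0) (hP : ∀ n, Projective (P.X n)) (hex : ∀ n, P.ExactAt (n + 1))
    (h0 : (ShortComplex.mk (P.d 1 0) f hf).Exact) (hepi : Epi f) :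
    (mkResolution P M f hf hP hex h0 hepi).complex = P := rfl

/-- A strictly `≤ 0` cochain complex of projectives, exact in negative degrees, gives a projective
resolution of its `H⁰`. -/
theorem exists_resolution_of_strictlyLE (K : CochainComplex C ℤ) [K.IsStrictlyLE 0]
    (hproj : ∀ i, Projective (K.X i)) (hex : ∀ i : ℤ, i < 0 → K.ExactAt i)
    (M : C) (φ : K.homology 0 ≅ M) :
    ∃ P : ProjectiveResolution M,
      P.complex = K.restriction (ComplexShape.embeddingUpIntLE 0) := by
  let e := ComplexShape.embeddingUpIntLE 0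
  let P := K.restriction e
  have hd : K.d 0 1 = 0 := (K.isZero_of_isStrictlyLE 0 1 (by omega)).eq_of_tgt _ _
  have he0 : e.f 0 = 0 := by simp [e, ComplexShape.embeddingUpIntLE]
  have he1 : e.f 1 = -1 := by simp [e, ComplexShape.embeddingUpIntLE]
  let f : P.X 0 ⟶ M := (K.restrictionXIso e he0).hom ≫ K.pOpcycles 0 ≫
    (K.isoHomologyι 0 1 (by simp) hd).inv ≫ φ.hom
  have hPd : P.d 1 0 = (K.restrictionXIso e he1).hom ≫ K.d (-1) 0 ≫ (K.restrictionXIso e he0).inv :=
    K.restriction_d_eq e he1 he0
  have hf : P.d 1 0 ≫ f = 0 := by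
    rw [hPd]
    simp [f]
  have hex' : ∀ n, P.ExactAt (n + 1) := by
    intro n
    rw [HomologicalComplex.exactAt_iff' _ (n + 2) (n + 1) n (by simp) (by simp)]
    have h1 := hex (-((n : ℤ) + 1)) (by omega)
    rw [HomologicalComplex.exactAt_iff' _ (-((n : ℤ) + 2)) (-((n : ℤ) + 1)) (-(n : ℤ))
      (by simp; omega) (by simp)] at h1
    refine (ShortComplex.exact_iff_of_iso (HomologicalComplex.restriction.sc'Iso K e
      (n + 2) (n + 1) n (i' := -((n : ℤ) + 2)) (j' := -((n : ℤ) + 1)) (k' := -(n : ℤ))
      (by simp [e, ComplexShape.embeddingUpIntLE]) (by simp [e, ComplexShape.embeddingUpIntLE])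
      (by simp [e, ComplexShape.embeddingUpIntLE]) (by simp; omega) (by simp))).2 h1
  have h0 : (ShortComplex.mk (P.d 1 0) f hf).Exact := by
    have hc : (ShortComplex.mk (K.d (-1) 0) (K.pOpcycles 0) (by simp)).Exact :=
      ShortComplex.exact_of_g_is_cokernel _ (K.opcyclesIsCokernel (-1) 0 (by simp))
    refine (ShortComplex.exact_iff_of_iso ?_).2 hc
    refine ShortComplex.isoMk (K.restrictionXIso e he1) (K.restrictionXIso e he0)
      (((K.isoHomologyι 0 1 (by simp) hd).symm ≪≫ φ).symm) ?_ ?_
    · dsimp; rw [hPd]; simp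
    · dsimp; simp [f]
  have hepi : Epi f := by
    dsimp only [f]
    infer_instance
  exact ⟨mkResolution P M f hf (fun n => hproj _) hex' h0 hepi, rfl⟩

end Abstract2


variable {R : Type u} [CommRing R]

lemma finite_of_iso {X Y : ModuleCat.{u} R} (e : X ≅ Y) [Module.Finite R X] : Module.Finite R Y :=
  Module.Finite.equiv e.toLinearEquiv

lemma projective_of_cat {X : ModuleCat.{u} R} [Projective X] : Module.Projective R X := by
  have : Projective (ModuleCat.of R X) := ‹_›
  exact (IsProjective.iff_projective _).2 this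

lemma finite_of_isZero {X : ModuleCat.{u} R} (h : IsZero X) : Module.Finite R X := by
  haveI := ModuleCat.subsingleton_of_isZero h
  infer_instance

theorem perfect_of_resolution (M : Type u) [AddCommGroup M] [Module R M]
    (P : ProjectiveResolution (ModuleCat.of R M)) (d : ℕ)
    (hz : ∀ i : ℕ, d < i → IsZero (P.complex.X i))
    (hfin : ∀ i : ℕ, Module.Finite R (P.complex.X i)) :
    DRing.IsPerfectModule R M := by
  refine ⟨P.cochainComplex, -(d : ℤ), 0, ?_, ?_, ⟨?_⟩⟩
  · intro i hi
    rcases hi with hi | hi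
    · obtain ⟨k, rfl⟩ := Int.exists_eq_neg_ofNat (show i ≤ 0 by omega)
      exact (hz k (by omega)).of_iso (P.cochainComplexXIso (-(k : ℤ)) k)
    · exact CochainComplex.isZero_of_isStrictlyLE _ 0 _ hi
  · intro i
    refine ⟨?_, projective_of_cat⟩
    by_cases hi : i ≤ 0
    · obtain ⟨k, rfl⟩ := Int.exists_eq_neg_ofNat hi
      haveI := hfin k
      exact finite_of_iso (P.cochainComplexXIso (-(k : ℤ)) k).symm
    · exact finite_of_isZero (CochainComplex.isZero_of_isStrictlyLE _ 0 _ (by omega))
  · haveI : IsIso (DerivedCategory.Q.map P.π') := by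
      rw [DerivedCategory.isIso_Q_map_iff_quasiIso]; infer_instance
    exact asIso (DerivedCategory.Q.map P.π') ≪≫
      ((DerivedCategory.singleFunctorIsoCompQ (ModuleCat.{u} R) 0).app (ModuleCat.of R M)).symm


variable {R : Type u} [CommRing R]

/-- homology of `E` from an iso in the derived category to a module in degree 0. -/
noncomputable def homologyIsoOfIso (E : CochainComplex (ModuleCat.{u} R) ℤ) (M : ModuleCat.{u} R)
    (e : DerivedCategory.Q.obj E ≅ (DerivedCategory.singleFunctor (ModuleCat.{u} R) 0).obj M)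
    (i : ℤ) :
    E.homology i ≅ ((HomologicalComplex.single (ModuleCat.{u} R) (ComplexShape.up ℤ) 0).obj M).homology i :=
  ((DerivedCategory.homologyFunctorFactors (ModuleCat.{u} R) i).app E).symm ≪≫
    (DerivedCategory.homologyFunctor (ModuleCat.{u} R) i).mapIso
      (e ≪≫ (DerivedCategory.singleFunctorIsoCompQ (ModuleCat.{u} R) 0).app M) ≪≫
    (DerivedCategory.homologyFunctorFactors (ModuleCat.{u} R) i).app
      ((HomologicalComplex.single (ModuleCat.{u} R) (ComplexShape.up ℤ) 0).obj M)

lemma exactAt_of_iso (E : CochainComplex (ModuleCat.{u} R) ℤ) (M : ModuleCat.{u} R)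
    (e : DerivedCategory.Q.obj E ≅ (DerivedCategory.singleFunctor (ModuleCat.{u} R) 0).obj M)
    (i : ℤ) (hi : i ≠ 0) : E.ExactAt i := by
  rw [HomologicalComplex.exactAt_iff_isZero_homology]
  refine IsZero.of_iso ?_ (homologyIsoOfIso E M e i)
  exact (HomologicalComplex.exactAt_single_obj (ComplexShape.up ℤ) 0 M i hi).isZero_homology

theorem resolution_of_perfect (M : Type u) [AddCommGroup M] [Module R M]
    (h : DRing.IsPerfectModule R M) :
    ∃ (P : ProjectiveResolution (ModuleCat.of R M)) (d : ℕ),
      (∀ i : ℕ, d < i → IsZero (P.complex.X i)) ∧ ∀ i : ℕ, Module.Finite R (P.complex.X i) := by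
  obtain ⟨E, a, b, hv, hfp, ⟨e⟩⟩ := h
  have hexE : ∀ i : ℤ, i ≠ 0 → E.ExactAt i := exactAt_of_iso E (ModuleCat.of R M) e
  haveI : E.IsLE 0 := (E.isLE_iff 0).2 fun i hi => hexE i (by omega)
  have hprojE : ∀ i, Projective (E.X i) := fun i => by
    haveI := (hfp i).2
    exact (IsProjective.iff_projective _).1 inferInstance
  -- retraction of the cycles in degree 0
  obtain ⟨r, hr⟩ : ∃ r : E.X 0 ⟶ E.cycles 0, E.iCycles 0 ≫ r = 𝟙 _ := by
    refine exists_retraction_cycles E hprojE (max b 0) (fun i hi => hv i (Or.inr (by omega)))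
      (fun i hi => hexE i (by omega)) (max b 0 + 1).toNat 0 (by omega) le_rfl
  haveI hZproj : Projective (E.cycles 0) :=
    (Retract.mk (E.iCycles 0) r hr).projective
  have hZfin : Module.Finite R (E.cycles 0) := by
    haveI := (hfp 0).1
    refine Module.Finite.of_surjective r.hom (fun x => ⟨(E.iCycles 0).hom x, ?_⟩)
    exact congrArg (fun f => f.hom x) hr
  -- the truncation
  let K := E.truncLE 0
  let em := ComplexShape.embeddingUpIntLE 0
  have hKiso : ∀ n : ℕ, n ≠ 0 → Nonempty (K.X (em.f n) ≅ E.X (em.f n)) := fun n hn =>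
    ⟨HomologicalComplex.truncLEXIso E em rfl
      (by rw [ComplexShape.boundaryLE_embeddingUpIntLE_iff]; exact hn)⟩
  have hK0 : Nonempty (K.X (em.f 0) ≅ E.cycles (em.f 0)) :=
    ⟨HomologicalComplex.truncLEXIsoCycles E em rfl
      (by rw [ComplexShape.boundaryLE_embeddingUpIntLE_iff])⟩
  have hem0 : em.f 0 = 0 := by simp [em, ComplexShape.embeddingUpIntLE]
  have hprojK : ∀ i, Projective (K.X i) := by
    intro i
    by_cases hi : 0 < i
    · exact IsZero.projective (K.isZero_of_isStrictlyLE 0 i hi)
    · obtain ⟨n, rfl⟩ : ∃ n : ℕ, i = em.f n :=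
        ⟨(-i).toNat, by simp [em, ComplexShape.embeddingUpIntLE]; omega⟩
      by_cases hn : n = 0
      · subst hn
        obtain ⟨i0⟩ := hK0
        rw [hem0] at i0 ⊢
        exact Projective.of_iso i0.symm hZproj
      · obtain ⟨i0⟩ := hKiso n hn
        exact Projective.of_iso i0.symm (hprojE _)
  have hexK : ∀ i : ℤ, i < 0 → K.ExactAt i := by
    intro i hi
    have hq : QuasiIsoAt (E.ιTruncLE 0) i := E.quasiIsoAt_ιTruncLE 0 i (by omega)
    exact (quasiIsoAt_iff_exactAt' (E.ιTruncLE 0) i (hexE i (by omega))).1 hq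
  let φ : K.homology 0 ≅ ModuleCat.of R M :=
    isoOfQuasiIsoAt (E.ιTruncLE 0) 0 ≪≫ homologyIsoOfIso E (ModuleCat.of R M) e 0 ≪≫
      HomologicalComplex.singleObjHomologySelfIso (ComplexShape.up ℤ) 0 (ModuleCat.of R M)
  obtain ⟨P, hP⟩ := exists_resolution_of_strictlyLE K hprojK hexK (ModuleCat.of R M) φ
  refine ⟨P, (-a).toNat, ?_, ?_⟩
  · intro i hi
    rw [hP]
    show IsZero (K.X (em.f i))
    obtain ⟨i0⟩ := hKiso i (by omega)
    refine IsZero.of_iso (hv _ (Or.inl ?_)) i0
    simp [em, ComplexShape.embeddingUpIntLE]; omega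
  · intro i
    rw [hP]
    show Module.Finite R (K.X (em.f i))
    by_cases hn : i = 0
    · subst hn
      obtain ⟨i0⟩ := hK0
      rw [hem0] at i0 ⊢
      haveI := hZfin
      exact finite_of_iso i0.symm
    · obtain ⟨i0⟩ := hKiso i hn
      haveI := (hfp (em.f i)).1
      exact finite_of_iso i0.symm

end S6955aux

end Aux


/-- Let R be a commutative ring and M an R-module. Then M is perfect (M[0] is isomorphic in D(R) to a
bounded complex of finite projective modules) if and only if M admits a projective resolution of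
finite length whose terms are finitely generated, i.e. a resolution 0 → F_d → ... → F_0 → M → 0 by
finite projective modules. -/
theorem result (R : Type u) [CommRing R] (M : Type u)
    [AddCommGroup M] [Module R M] :
    DRing.IsPerfectModule R M ↔
      ∃ (P : ProjectiveResolution (ModuleCat.of R M)) (d : ℕ),
        (∀ i : ℕ, d < i → IsZero (P.complex.X i)) ∧ ∀ i : ℕ, Module.Finite R (P.complex.X i) := by
  exact ⟨S6955aux.resolution_of_perfect M, fun ⟨P, d, hz, hfin⟩ =>
    S6955aux.perfect_of_resolution M P d hz hfin⟩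

end Groth.Agent.S6955
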