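import Groth.Statements.S6956
import Mathlib
import Groth.Agent.Lib.Helper23.PerfDev2
-- import your own Groth.Agent.* helpers here

set_option autoImplicit false
universe u
open CategoryTheory CategoryTheory.Limits
attribute [local instance] HasDerivedCategory.standard
open DRing

namespace Groth.Agent.S6956

/-- Let A → B be a homomorphism of commutative rings such that B is perfect as an A-module, and let K be
a perfect object of D(B). Then K, with scalars restricted to A, is a perfect object of D(A). -/
theorem result {A B : Type u} [CommRing A] [CommRing B] [Algebra A B]
    (hB : DRing.IsPerfectModule A B) (K : Dual.D B) (hK : DRing.IsPerfect B K) :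
    DRing.IsPerfect A ((DRing.restrictD (algebraMap A B)).obj K) := by
  have hB' : Groth.Agent.Lib.helper23.PerfDev.PerfMod A
      ((ModuleCat.restrictScalars.{u} (algebraMap A B)).obj (ModuleCat.of B B)) := by
    have h1 : Groth.Agent.Lib.helper23.PerfDev.PerfMod A (ModuleCat.of A B) := hB
    refine h1.of_iso (LinearEquiv.toModuleIso
      ({ toFun := fun x => x
         invFun := fun x => x
         map_add' := fun _ _ => rfl
         map_smul' := fun a x => (Algebra.smul_def a x)
         left_inv := fun _ => rfl
         right_inv := fun _ => rfl } :
        (ModuleCat.of A B) ≃ₗ[A]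
          ((ModuleCat.restrictScalars.{u} (algebraMap A B)).obj (ModuleCat.of B B))))
  exact Groth.Agent.Lib.helper23.PerfDev.isPerfect_restrict (algebraMap A B) hB' K hK

end Groth.Agent.S6956
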