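import Groth.Statements.S6957
import Mathlib
import Groth.Agent.Lib.Helper23.LDer3
-- import your own Groth.Agent.* helpers here

set_option autoImplicit false
universe u
open CategoryTheory CategoryTheory.Limits
attribute [local instance] HasDerivedCategory.standard
open DRing

namespace Groth.Agent.S6957

/-- Let A → B be a homomorphism of commutative rings such that the derived base change D(A) → D(B)
exists, and let K be a perfect object of D(A). Then K ⊗^L_A B is a perfect object of D(B). -/
theorem result {A B : Type u} [CommRing A] [CommRing B] (φ : A →+* B)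
    [DRing.HasLBaseChange φ] (K : Dual.D A) (hK : DRing.IsPerfect A K) :
    DRing.IsPerfect B ((DRing.LBaseChange φ).obj K) := by
  haveI : (DRing.LBaseChange φ).IsRightKanExtension
      ((DRing.baseChangeKh φ).totalLeftDerivedCounit DerivedCategory.Qh
        (HomotopyCategory.quasiIso (ModuleCat.{u} A) (ComplexShape.up ℤ))) :=
    CategoryTheory.Functor.IsLeftDerivedFunctor.isRightKanExtension _ _
      (HomotopyCategory.quasiIso (ModuleCat.{u} A) (ComplexShape.up ℤ))
  obtain ⟨E, a, b, hV, hP, ⟨e⟩⟩ := hK
  have hproj : ∀ i, Projective (E.X i) := fun i => by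
    haveI := (hP i).1
    haveI := (hP i).2
    exact (IsProjective.iff_projective (R := A) (E.X i)).1 inferInstance
  obtain ⟨eL⟩ := Groth.Agent.Lib.helper23.LDer.nonempty_iso_of_projective
    (ModuleCat.extendScalars.{u, u, u} φ) (DRing.LBaseChange φ)
    ((DRing.baseChangeKh φ).totalLeftDerivedCounit DerivedCategory.Qh
      (HomotopyCategory.quasiIso (ModuleCat.{u} A) (ComplexShape.up ℤ))) E b hproj
    (fun i hi => hV i (Or.inr hi))
  refine ⟨((ModuleCat.extendScalars.{u, u, u} φ).mapHomologicalComplex (ComplexShape.up ℤ)).obj E,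
    a, b, fun i hi => ?_, fun i => ?_, ⟨eL.symm ≪≫ (DRing.LBaseChange φ).mapIso e⟩⟩
  · exact (ModuleCat.extendScalars.{u, u, u} φ).map_isZero (hV i hi)
  · haveI := (hP i).1
    haveI := (hP i).2
    letI : Algebra A B := φ.toAlgebra
    exact ⟨inferInstanceAs (Module.Finite B (TensorProduct A B (E.X i))),
      inferInstanceAs (Module.Projective B (TensorProduct A B (E.X i)))⟩

end Groth.Agent.S6957
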