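import Groth.Statements.S6959
import Mathlib
import Groth.Agent.Lib.Helper13.LTenCx1
import Groth.Agent.Lib.Helper13.LTenCx3
import Groth.Agent.Lib.Helper13.KFlat9
-- import your own Groth.Agent.* helpers here

set_option autoImplicit false
universe u
open CategoryTheory CategoryTheory.Limits
attribute [local instance] HasDerivedCategory.standard
open DRing

namespace Groth.Agent.S6959

/-- Let R be a commutative ring, K a perfect object of D(R) and L a cochain complex of R-modules
defining a perfect object of D(R); assume the derived tensor product - ⊗^L_R L exists on D(R). Then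
K ⊗^L_R L is a perfect object of D(R). -/
theorem result (R : Type u) [CommRing R] (K : Dual.D R) (hK : DRing.IsPerfect R K)
    (L : DRing.Cx R) (hL : DRing.IsPerfect R (DRing.toD L)) [DRing.HasLTensorCx R L] :
    DRing.IsPerfect R ((DRing.LTensorCx R L).obj K) := by
  obtain ⟨E₁, a₁, b₁, hV₁, hP₁, ⟨i₁⟩⟩ := hK
  obtain ⟨E₂, a₂, b₂, hV₂, hP₂, ⟨i₂⟩⟩ := hL
  have hE₁ : Groth.Agent.Lib.helper13.KFlat.IsKFlatR E₁ :=
    Groth.Agent.Lib.helper13.KFlat.isKFlatR_of_bounded_above E₁ b₁
      (fun q hq => hV₁ q (Or.inr hq))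
      (fun n => by
        haveI := (hP₁ n).2
        infer_instance)
  obtain ⟨e⟩ := Groth.Agent.Lib.helper13.LTenCx.nonempty_LTensorCx_iso L E₂ E₁ hE₁ i₂.symm i₁
  exact ⟨MonoidalCategory.tensorObj E₁ E₂, a₁ + a₂, b₁ + b₂,
    Groth.Agent.Lib.helper13.LTenCx.vanishesOutside_tensor hV₁ hV₂,
    Groth.Agent.Lib.helper13.LTenCx.termwiseFiniteProjective_tensor
      (fun i hi => hV₁ i (Or.inr hi)) (fun i hi => hV₂ i (Or.inr hi)) hP₁ hP₂, ⟨e.symm⟩⟩

end Groth.Agent.S6959
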