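import Groth.Statements.S6966
import Mathlib
import Groth.Agent.Lib.Helper23.ExtRestr1
-- import your own Groth.Agent.* helpers here

set_option autoImplicit false
universe u
open CategoryTheory CategoryTheory.Limits
attribute [local instance] HasDerivedCategory.standard
open CAlg

namespace Groth.Agent.S6966

/-- Let R be a commutative ring, I an ideal of R and M an R-module. Then the following two conditions
coincide: for each a ∈ I, the endomorphism of M given by multiplication by a can be written as a
composite M → P → M with P some projective R-module; and for every R-module N and every a ∈ I, a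
annihilates Ext^1_R(M, N) = Hom(M[0], N[1]) in D(R). -/
theorem result (R : Type u) [CommRing R] (I : Ideal R) (M : Type u)
    [AddCommGroup M] [Module R M] :
    (∀ a ∈ I, ∃ (P : Type u) (_ : AddCommGroup P) (_ : Module R P) (_ : Module.Projective R P)
        (f : M →ₗ[R] P) (g : P →ₗ[R] M), g ∘ₗ f = a • LinearMap.id) ↔
      ∀ (N : Type u) [AddCommGroup N] [Module R N], ∀ a ∈ I,
        ∀ x : DRing.ExtD R (Dual.inD R M) (Dual.inD R N) 1, a • x = 0 := by
  have hsm : ∀ (a : R) {X Y : Dual.D R} (x : X ⟶ Y), a • x = (a • 𝟙 X) ≫ x := by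
    intro a X Y x
    rw [Linear.smul_comp, Category.id_comp]
  have hmap : ∀ (a : R), (DerivedCategory.singleFunctor (ModuleCat.{u} R) 0).map
      (ModuleCat.ofHom (a • LinearMap.id : M →ₗ[R] M)) = a • 𝟙 (Dual.inD R M) := by
    intro a
    have h1 : ModuleCat.ofHom (a • LinearMap.id : M →ₗ[R] M) = a • 𝟙 (ModuleCat.of R M) := by
      apply ModuleCat.hom_ext
      ext x
      rfl
    rw [h1, Functor.map_smul, CategoryTheory.Functor.map_id]
  constructor
  · intro h N _ _ a ha x
    obtain ⟨P, _, _, hP, f, g, hgf⟩ := h a ha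
    haveI : Projective (ModuleCat.of R P) := (IsProjective.iff_projective (R := R) (P := P)).1 hP
    show a • x = 0
    rw [hsm a x, ← hmap a, ← hgf]
    have h2 : ModuleCat.ofHom (g ∘ₗ f) = ModuleCat.ofHom f ≫ ModuleCat.ofHom g := rfl
    rw [h2, Functor.map_comp, Category.assoc]
    have h3 : (DerivedCategory.singleFunctor (ModuleCat.{u} R) 0).map (ModuleCat.ofHom g) ≫ x = 0 :=
      Groth.Agent.Lib.helper23.ExtRestr.hom_eq_zero_of_projective (P := ModuleCat.of R P)
        (Y := ModuleCat.of R N) 1 (by omega) _
    rw [h3, comp_zero]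
  · intro h a ha
    let π : (M →₀ R) →ₗ[R] M := Finsupp.linearCombination R id
    have hπ : Function.Surjective π := fun m => ⟨Finsupp.single m 1, by simp [π]⟩
    have hS := LinearMap.shortExact_shortComplexKer hπ
    have h0 := h (LinearMap.ker π) a ha hS.singleδ
    have h1 : (a • 𝟙 (Dual.inD R M)) ≫ hS.singleδ = 0 := by
      rw [← hsm a]
      exact h0
    obtain ⟨g', hg'⟩ := Pretriangulated.Triangle.coyoneda_exact₃ _ hS.singleTriangle_distinguished
      (a • 𝟙 (Dual.inD R M)) h1
    obtain ⟨k, hk⟩ : ∃ k : ModuleCat.of R M ⟶ ModuleCat.of R (M →₀ R),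
        (DerivedCategory.singleFunctor (ModuleCat.{u} R) 0).map k = g' :=
      (DerivedCategory.singleFunctor (ModuleCat.{u} R) 0).map_surjective g'
    have h2 : (DerivedCategory.singleFunctor (ModuleCat.{u} R) 0).map
        (ModuleCat.ofHom (a • LinearMap.id : M →ₗ[R] M)) =
        (DerivedCategory.singleFunctor (ModuleCat.{u} R) 0).map (k ≫ ModuleCat.ofHom π) := by
      rw [hmap a, hg', ← hk, Functor.map_comp]
      rfl
    have h3 := (DerivedCategory.singleFunctor (ModuleCat.{u} R) 0).map_injective h2
    refine ⟨(M →₀ R), inferInstance, inferInstance, inferInstance, k.hom, π, ?_⟩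
    have h4 := congrArg ModuleCat.Hom.hom h3
    rw [ModuleCat.hom_comp, ModuleCat.hom_ofHom, ModuleCat.hom_ofHom] at h4
    exact h4.symm

end Groth.Agent.S6966
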