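import Groth.Statements.S6967
import Mathlib
-- import your own Groth.Agent.* helpers here

set_option autoImplicit false
universe u
open CAlg

namespace Groth.Agent.S6967

/-- Let R be a commutative ring, I an ideal of R and 0 → K → P → M → 0 a short exact sequence of
R-modules with P projective. If multiplication by a on M factors through a projective R-module for
every a ∈ I, then multiplication by a on K factors through a projective R-module for every a ∈ I. -/
theorem result (R : Type u) [CommRing R] (I : Ideal R)
    {K P M : Type u} [AddCommGroup K] [Module R K] [AddCommGroup P] [Module R P] [Module.Projective R P]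
    [AddCommGroup M] [Module R M] (f : K →ₗ[R] P) (g : P →ₗ[R] M) (hf : Function.Injective f)
    (hg : Function.Surjective g) (hfg : LinearMap.range f = LinearMap.ker g)
    (hM : ∀ a ∈ I, ∃ (P : Type u) (_ : AddCommGroup P) (_ : Module R P) (_ : Module.Projective R P)
        (f : M →ₗ[R] P) (g : P →ₗ[R] M), g ∘ₗ f = a • LinearMap.id) :
    ∀ a ∈ I, ∃ (P : Type u) (_ : AddCommGroup P) (_ : Module R P) (_ : Module.Projective R P)
        (f : K →ₗ[R] P) (g : P →ₗ[R] K), g ∘ₗ f = a • LinearMap.id := by
  intro a ha
  obtain ⟨Q, _, _, hQ, α, β, hβα⟩ := hM a ha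
  -- lift β : Q → M through g : P → M
  obtain ⟨β', hβ'⟩ := Module.projective_lifting_property g β hg
  -- the endomorphism a - β' α g of P lands in ker g = range f
  let ψ : P →ₗ[R] P := a • LinearMap.id - β' ∘ₗ α ∘ₗ g
  have hψ : ∀ p, ψ p ∈ LinearMap.range f := by
    intro p
    rw [hfg, LinearMap.mem_ker]
    simp only [ψ, LinearMap.sub_apply, LinearMap.smul_apply, LinearMap.id_apply, LinearMap.comp_apply,
      map_sub, map_smul]
    have h1 : g (β' (α (g p))) = β (α (g p)) := LinearMap.congr_fun hβ' _
    have h2 : β (α (g p)) = a • g p := LinearMap.congr_fun hβα _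
    rw [h1, h2, sub_self]
  let e := LinearEquiv.ofInjective f hf
  let h : P →ₗ[R] K := e.symm.toLinearMap ∘ₗ LinearMap.codRestrict (LinearMap.range f) ψ hψ
  have hfh : ∀ p, f (h p) = ψ p := by
    intro p
    have : (e (h p) : P) = ψ p := by
      simp only [h, LinearMap.comp_apply, LinearEquiv.coe_coe, LinearEquiv.apply_symm_apply,
        LinearMap.codRestrict_apply]
    simpa [e] using this
  refine ⟨P, inferInstance, inferInstance, inferInstance, f, h, ?_⟩
  ext k
  apply hf
  rw [LinearMap.comp_apply, hfh]
  have hgf : g (f k) = 0 := by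
    have : f k ∈ LinearMap.ker g := hfg ▸ LinearMap.mem_range_self f k
    exact this
  simp [ψ, hgf]

end Groth.Agent.S6967
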