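import Groth.Statements.S6971
import Mathlib
import Groth.Agent.Lib.Helper23.NilDesc3
-- import your own Groth.Agent.* helpers here

set_option autoImplicit false
universe u
open CategoryTheory CategoryTheory.Limits
attribute [local instance] HasDerivedCategory.standard
open DRing

namespace Groth.Agent.S6971

/-- Let R' → R be a surjective homomorphism of commutative rings whose kernel is a nilpotent ideal, such
that the derived base change D(R') → D(R) exists, and let K' be an object of D(R'). Then K' ⊗^L R is
pseudo-coherent over R (isomorphic in D(R) to a bounded above complex of finite free modules) if and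
only if K' is pseudo-coherent over R'. -/
theorem result {R' R : Type u} [CommRing R'] [CommRing R]
    (φ : R' →+* R) (hφ : Function.Surjective φ) (hnil : IsNilpotent (RingHom.ker φ))
    [DRing.HasLBaseChange φ] (K' : Dual.D R') :
    DRing.IsPseudoCoherent' R ((DRing.LBaseChange φ).obj K') ↔ DRing.IsPseudoCoherent' R' K' := by
  constructor
  · intro h
    obtain ⟨n, hn⟩ := hnil
    refine Groth.Agent.Lib.helper23.NilDesc.isPseudoCoherent'_of_family (k := n) (fun _ => R)
      (fun _ => φ) (fun _ => hφ) ?_ K' (fun _ => h)
    rw [Finset.prod_const, Finset.card_univ, Fintype.card_fin, hn, Ideal.zero_eq_bot]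
  · intro h
    haveI : (DRing.LBaseChange φ).IsRightKanExtension
        ((DRing.baseChangeKh φ).totalLeftDerivedCounit DerivedCategory.Qh
          (HomotopyCategory.quasiIso (ModuleCat.{u} R') (ComplexShape.up ℤ))) :=
      CategoryTheory.Functor.IsLeftDerivedFunctor.isRightKanExtension _ _
        (HomotopyCategory.quasiIso (ModuleCat.{u} R') (ComplexShape.up ℤ))
    rw [Groth.Agent.Lib.helper23.DRingPC.isPseudoCoherent'_iff_npc] at h ⊢
    intro m
    exact Groth.Agent.Lib.helper23.LDer.npc_leftDerived_baseChange φ (DRing.LBaseChange φ)
      ((DRing.baseChangeKh φ).totalLeftDerivedCounit DerivedCategory.Qh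
        (HomotopyCategory.quasiIso (ModuleCat.{u} R') (ComplexShape.up ℤ))) K' m (h m)

end Groth.Agent.S6971
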