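import Groth.Statements.S6976
import Mathlib
import Groth.Agent.Lib.Helper23.TA6
-- import your own Groth.Agent.* helpers here

set_option autoImplicit false
universe u
open CategoryTheory CategoryTheory.Limits
attribute [local instance] HasDerivedCategory.standard
open DRing

namespace Groth.Agent.S6976

/-- Let R be a commutative ring, K a pseudo-coherent object of D(R) and a, b integers. Then K is
isomorphic in D(R) to a complex of projective R-modules vanishing outside [a, b] if and only if K is
perfect with tor amplitude in [a, b]. -/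
theorem result (R : Type u) [CommRing R]
    (K : Dual.D R) (hK : DRing.IsPseudoCoherent' R K) (a b : ℤ) :
    (∃ P : DRing.Cx R, DRing.VanishesOutside P a b ∧ (∀ i : ℤ, Module.Projective R (P.X i)) ∧
        Nonempty (DRing.toD P ≅ K)) ↔ DRing.IsPerfect R K ∧ DRing.HasTorAmplitudeIn R a b K := by
  have hPC := (Groth.Agent.Lib.helper23.DRingPC.isPseudoCoherent'_iff_npc R K).1 hK
  constructor
  · rintro ⟨P, hz, hP, ⟨e⟩⟩
    have hTA : DRing.HasTorAmplitudeIn R a b K := by
      refine ⟨P, hz, fun i => ?_, ⟨e⟩⟩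
      haveI := hP i
      infer_instance
    refine ⟨?_, hTA⟩
    obtain ⟨E, hP', hz', he'⟩ :=
      Groth.Agent.Lib.helper23.TA.amp_FP_of_npc_of_hasTorAmplitudeIn K a b (hPC (a - 1)) hTA
    exact ⟨E, a, b, hz', hP', he'⟩
  · rintro ⟨-, hTA⟩
    obtain ⟨E, hP', hz', he'⟩ :=
      Groth.Agent.Lib.helper23.TA.amp_FP_of_npc_of_hasTorAmplitudeIn K a b (hPC (a - 1)) hTA
    exact ⟨E, hz', fun i => (hP' i).2, he'⟩

end Groth.Agent.S6976
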