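import Groth.Statements.S6983
import Mathlib
import Groth.Agent.Lib.Helper23.DRingPC6
-- import your own Groth.Agent.* helpers here

set_option autoImplicit false
universe u
open CategoryTheory CategoryTheory.Limits
attribute [local instance] HasDerivedCategory.standard
open DerCA

namespace Groth.Agent.S6983

/-- Let R → A be a homomorphism of commutative rings, α : R[x_1, ..., x_n] → A and β : R[y_1, ..., y_k]
→ A surjective R-algebra homomorphisms, K an object of D(A) and m an integer. Then K, restricted
along α, is m-pseudo-coherent over R[x_1, ..., x_n] if and only if K, restricted along β, is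
m-pseudo-coherent over R[y_1, ..., y_k]. -/
theorem result {R A : Type u} [CommRing R] [CommRing A] [Algebra R A]
    {n k : ℕ} (α : MvPolynomial (Fin n) R →ₐ[R] A) (hα : Function.Surjective α)
    (β : MvPolynomial (Fin k) R →ₐ[R] A) (hβ : Function.Surjective β) (K : Dual.D A) (m : ℤ) :
    DerCA.IsRelPseudoCoherentVia α m K ↔ DerCA.IsRelPseudoCoherentVia β m K := by
  unfold DerCA.IsRelPseudoCoherentVia
  rw [Groth.Agent.Lib.helper23.DRingPC.isPseudoCoherent_iff_npc,
    Groth.Agent.Lib.helper23.DRingPC.isPseudoCoherent_iff_npc]
  exact Groth.Agent.Lib.helper23.DRingPC.npc_restrict_indep α hα β hβ K m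

end Groth.Agent.S6983
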