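import Groth.Statements.S6988
import Mathlib
import Groth.Agent.Lib.Helper23.MonoH
-- import your own Groth.Agent.* helpers here

set_option autoImplicit false
universe u
open CategoryTheory CategoryTheory.Limits
attribute [local instance] HasDerivedCategory.standard
open DRing

namespace Groth.Agent.S6988

/-- Let R be a commutative ring, K a pseudo-coherent object of D(R) and i an integer. Then some finitely
presented R-module M admits a morphism K → M[-i] in D(R) that is injective on H^i (here H^i(M[-i]) =
M). -/
theorem result (R : Type u) [CommRing R] (K : Dual.D R)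
    (hK : DRing.IsPseudoCoherent' R K) (i : ℤ) :
    ∃ (M : Type u) (_ : AddCommGroup M) (_ : Module R M) (_ : Module.FinitePresentation R M)
      (f : K ⟶ (shiftFunctor (Dual.D R) (-i)).obj (Dual.inD R M)),
      Mono ((DerivedCategory.homologyFunctor (ModuleCat.{u} R) i).map f) := by
  obtain ⟨E, c, hc, hE, ⟨e⟩⟩ := hK
  haveI : Module.Finite R (E.X (i - 1)) := (hE (i - 1)).1
  haveI : Module.Finite R (E.X i) := (hE i).1
  haveI : Module.Free R (E.X i) := (hE i).2
  haveI : Module.FinitePresentation R (E.X i) := Module.finitePresentation_of_projective _ _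
  obtain ⟨f, hf⟩ := Groth.Agent.Lib.helper23.MonoH.exists_hom_mono E K e i
  exact ⟨E.opcycles i, inferInstance, inferInstance,
    Groth.Agent.Lib.helper23.MonoH.finitePresentation_opcycles E i, f, hf⟩

end Groth.Agent.S6988
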