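import Groth.Statements.S6989
import Mathlib
import Groth.Agent.Lib.Helper23.MonoH2
-- import your own Groth.Agent.* helpers here

set_option autoImplicit false
universe u
open CategoryTheory CategoryTheory.Limits
attribute [local instance] HasDerivedCategory.standard
open DRing

namespace Groth.Agent.S6989

/-- Let A be a Noetherian commutative ring, K an object of D(A) whose cohomology vanishes in large
degrees and whose cohomology modules are all finitely generated, m a maximal ideal of A and i an
integer such that m H^i(K) ≠ H^i(K). Then some finitely generated A-module E killed by a power of m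
receives a morphism K → E[-i] in D(A) whose induced map H^i(K) → H^i(E[-i]) is nonzero. -/
theorem result (A : Type u) [CommRing A]
    [IsNoetherianRing A] (K : Dual.D A) (hb : ∃ b : ℤ, ∀ j : ℤ, b < j → Subsingleton (Dual.HD A K j))
    (hfin : ∀ j : ℤ, Module.Finite A (Dual.HD A K j)) (m : Ideal A) [m.IsMaximal] (i : ℤ)
    (hi : m • (⊤ : Submodule A (Dual.HD A K i)) ≠ ⊤) :
    ∃ (E : Type u) (_ : AddCommGroup E) (_ : Module A E) (_ : Module.Finite A E) (n : ℕ)
      (_ : m ^ n • (⊤ : Submodule A E) = ⊥) (f : K ⟶ (shiftFunctor (Dual.D A) (-i)).obj (Dual.inD A E)),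
      (DerivedCategory.homologyFunctor (ModuleCat.{u} A) i).map f ≠ 0 := by
  obtain ⟨b, hb⟩ := hb
  have hpc : DRing.IsPseudoCoherent' A K :=
    (Groth.Agent.Lib.helper23.DRingPC.isPseudoCoherent'_iff_npc A K).2 (fun k =>
      (Groth.Agent.Lib.helper23.DRingPC.npc_iff_of_noetherian A k K).2
        ⟨⟨b, hb⟩, fun j _ => hfin j⟩)
  obtain ⟨E, c, hc, hE, ⟨e⟩⟩ := hpc
  haveI : Module.Finite A (E.X (i - 1)) := (hE (i - 1)).1
  haveI : Module.Finite A (E.X i) := (hE i).1
  haveI : Module.Free A (E.X i) := (hE i).2
  haveI : Module.FinitePresentation A (E.X i) := Module.finitePresentation_of_projective _ _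
  haveI : Module.FinitePresentation A (E.opcycles i) :=
    Groth.Agent.Lib.helper23.MonoH.finitePresentation_opcycles E i
  obtain ⟨n, f, hf⟩ := Groth.Agent.Lib.helper23.MonoH.exists_hom_torsion_nonzero E K e i m hi
  exact ⟨_, inferInstance, inferInstance, inferInstance, n,
    Groth.Agent.Lib.helper23.MonoH.pow_smul_top_quotient_eq_bot m n, f, hf⟩

end Groth.Agent.S6989
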