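import Groth.Statements.S6996
import Mathlib
import Groth.Agent.Lib.Helper23.RHomCx2
-- import your own Groth.Agent.* helpers here

set_option autoImplicit false
universe u
open CategoryTheory CategoryTheory.Limits
attribute [local instance] HasDerivedCategory.standard
open DRing

namespace Groth.Agent.S6996

/-- Let R be a commutative ring, P a bounded above cochain complex of projective R-modules such that
RHom_R(P, -) exists, and L a cochain complex of R-modules. Then RHom_R(P, L) is isomorphic in D(R)
to the class of the Hom complex Hom(P, L) (existence of an isomorphism only; the canonical one is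
the derived-functor comparison map). -/
theorem result (R : Type u) [CommRing R] (P : DRing.Cx R) (b : ℤ)
    (hb : DRing.VanishesAbove P b) (hP : ∀ i : ℤ, Module.Projective R (P.X i)) [DRing.HasRHomCx P]
    (L : DRing.Cx R) :
    Nonempty ((DRing.RHomCx P).obj (DRing.toD L) ≅ DRing.toD (DRing.homCx P L)) := by
  haveI : P.IsStrictlyLE b := by
    rw [CochainComplex.isStrictlyLE_iff]
    exact fun i hi => hb i hi
  haveI : ∀ n : ℤ, Projective (P.X n) := fun n => by
    haveI := hP n
    exact (IsProjective.iff_projective (P.X n)).1 inferInstance
  haveI : P.IsKProjective := CochainComplex.isKProjective_of_projective P b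
  exact Groth.Agent.Lib.helper23.RHomCx.nonempty_RHomCx_iso_of_isKProjective P L

end Groth.Agent.S6996
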