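import Groth.Statements.S7015
import Mathlib
-- import your own Groth.Agent.* helpers here

set_option autoImplicit false
universe u
open CategoryTheory MonoidalCategory
open DRing

namespace Groth.Agent.S7015

section helpers
open TensorProduct

/-- Pure linear algebra: a "dual basis" obtained from a coevaluation/evaluation pair. -/
lemma finite_projective_of_pairing (R : Type u) [CommRing R] (M N : Type u) [AddCommGroup M]
    [Module R M] [AddCommGroup N] [Module R N] (t : M ⊗[R] N) (ε : N ⊗[R] M →ₗ[R] R)
    (h : ∀ m : M, (TensorProduct.rid R M) ((ε.lTensor M) ((TensorProduct.assoc R M N M) (t ⊗ₜ[R] m))) = m) :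
    Module.Finite R M ∧ Module.Projective R M := by
  classical
  obtain ⟨S, hS⟩ := TensorProduct.exists_finset t
  -- i : M → (S → R), p : (S → R) → M
  let i : M →ₗ[R] (S → R) := LinearMap.pi fun s => ε ∘ₗ (TensorProduct.mk R N M (s : M × N).2)
  let p : (S → R) →ₗ[R] M := Fintype.linearCombination R (fun s : S => (s : M × N).1)
  have hpi : ∀ m, p (i m) = m := by
    intro m
    have := h m
    rw [hS, TensorProduct.sum_tmul, map_sum, map_sum, map_sum] at this
    simp only [TensorProduct.assoc_tmul, LinearMap.lTensor_tmul, TensorProduct.rid_tmul] at this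
    refine Eq.trans ?_ this
    simp only [p, i, Fintype.linearCombination_apply, LinearMap.pi_apply, LinearMap.coe_comp,
      Function.comp_apply, TensorProduct.mk_apply]
    rw [Finset.sum_coe_sort S (fun s => ε (s.2 ⊗ₜ[R] m) • s.1)]
  constructor
  · exact Module.Finite.of_surjective p (fun m => ⟨i m, hpi m⟩)
  · exact Module.Projective.of_split i p (LinearMap.ext hpi)

/-- The same for the other side of the pairing. -/
lemma finite_projective_of_pairing' (R : Type u) [CommRing R] (M N : Type u) [AddCommGroup M]
    [Module R M] [AddCommGroup N] [Module R N] (t : M ⊗[R] N) (ε : N ⊗[R] M →ₗ[R] R)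
    (h : ∀ n : N, (TensorProduct.lid R N) ((ε.rTensor N) ((TensorProduct.assoc R N M N).symm (n ⊗ₜ[R] t))) = n) :
    Module.Finite R N ∧ Module.Projective R N := by
  classical
  obtain ⟨S, hS⟩ := TensorProduct.exists_finset t
  let i : N →ₗ[R] (S → R) := LinearMap.pi fun s => ε ∘ₗ (TensorProduct.mk R N M).flip (s : M × N).1
  let p : (S → R) →ₗ[R] N := Fintype.linearCombination R (fun s : S => (s : M × N).2)
  have hpi : ∀ n, p (i n) = n := by
    intro n
    have := h n
    rw [hS, TensorProduct.tmul_sum, map_sum, map_sum, map_sum] at this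
    simp only [TensorProduct.assoc_symm_tmul, LinearMap.rTensor_tmul, TensorProduct.lid_tmul] at this
    refine Eq.trans ?_ this
    simp only [p, i, Fintype.linearCombination_apply, LinearMap.pi_apply, LinearMap.coe_comp,
      Function.comp_apply, LinearMap.flip_apply, TensorProduct.mk_apply]
    rw [Finset.sum_coe_sort S (fun s => ε (n ⊗ₜ[R] s.1) • s.2)]
  constructor
  · exact Module.Finite.of_surjective p (fun n => ⟨i n, hpi n⟩)
  · exact Module.Projective.of_split i p (LinearMap.ext hpi)

open CategoryTheory MonoidalCategory in
theorem main (R : Type u) [CommRing R] (M N : Type u) [AddCommGroup M]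
    [Module R M] [AddCommGroup N] [Module R N] [ExactPairing (ModuleCat.of R M) (ModuleCat.of R N)] :
    Module.Finite R M ∧ Module.Projective R M ∧ Module.Finite R N ∧ Module.Projective R N := by
  let X := ModuleCat.of R M
  let Y := ModuleCat.of R N
  let η : 𝟙_ (ModuleCat R) ⟶ X ⊗ Y := η_ X Y
  let ε : Y ⊗ X ⟶ 𝟙_ (ModuleCat R) := ε_ X Y
  have h1 := ExactPairing.evaluation_coevaluation X Y
  have h2 := ExactPairing.coevaluation_evaluation X Y
  have hM := finite_projective_of_pairing R M N (η.hom (1 : R)) ε.hom (by
    intro m
    have := congrArg (fun f => (ρ_ X).hom.hom (f.hom ((1 : R) ⊗ₜ[R] m))) h1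
    simp only [ModuleCat.hom_comp, LinearMap.coe_comp, Function.comp_apply] at this
    convert this using 1
    · rfl
    · rw [ModuleCat.hom_hom_rightUnitor, ModuleCat.hom_inv_rightUnitor, ModuleCat.hom_hom_leftUnitor]
      simp only [LinearEquiv.coe_coe, LinearEquiv.apply_symm_apply]
      exact (one_smul R m).symm)
  have hN := finite_projective_of_pairing' R M N (η.hom (1 : R)) ε.hom (by
    intro n
    have := congrArg (fun f => (λ_ Y).hom.hom (f.hom (n ⊗ₜ[R] (1 : R)))) h2
    simp only [ModuleCat.hom_comp, LinearMap.coe_comp, Function.comp_apply] at this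
    convert this using 1
    · rfl
    · rw [ModuleCat.hom_hom_rightUnitor, ModuleCat.hom_inv_leftUnitor, ModuleCat.hom_hom_leftUnitor]
      simp only [LinearEquiv.coe_coe, LinearEquiv.apply_symm_apply]
      exact (one_smul R n).symm)
  exact ⟨hM.1, hM.2, hN.1, hN.2⟩

end helpers


/-- Let R be a commutative ring and M, N R-modules such that N is a left dual of M for the tensor
product of R-modules, i.e. there are a coevaluation R → M ⊗ N and an evaluation N ⊗ M → R satisfying
the triangle identities (an exact pairing). Then M and N are finitely generated projective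
R-modules. -/
theorem result (R : Type u) [CommRing R] (M N : Type u) [AddCommGroup M]
    [Module R M] [AddCommGroup N] [Module R N] [ExactPairing (ModuleCat.of R M) (ModuleCat.of R N)] :
    Module.Finite R M ∧ Module.Projective R M ∧ Module.Finite R N ∧ Module.Projective R N := by
  exact main R M N

end Groth.Agent.S7015
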