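import Groth.Statements.S7016
import Mathlib


set_option autoImplicit false
universe u
open CategoryTheory CategoryTheory.Limits
attribute [local instance] HasDerivedCategory.standard
open DRing

namespace Groth.Agent.S7016

set_option linter.style.haveILetI false
open MonoidalCategory HomologicalComplex

variable {R : Type u} [CommRing R]

abbrev CC (R : Type u) [CommRing R] := CochainComplex (ModuleCat.{u} R) ℤ

/-- inclusion of a summand, with second index `j - a` -/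
noncomputable abbrev inc (K L : CC R) (a b j : ℤ) (h : a + b = j) :
    K.X a ⊗ L.X b ⟶ (K ⊗ L).X j :=
  ιTensorObj K L a b j h

theorem inc_whiskerRight {K K' : CC R} (f : K ⟶ K') (L : CC R) (a b j : ℤ) (h : a + b = j) :
    inc K L a b j h ≫ (f ▷ L).f j = (f.f a ▷ L.X b) ≫ inc K' L a b j h := by
  refine (ι_mapBifunctorMap f (𝟙 L) (curriedTensor (ModuleCat.{u} R)) (ComplexShape.up ℤ)
    a b j h).trans ?_
  simp

theorem inc_whiskerLeft (K : CC R) {L L' : CC R} (g : L ⟶ L') (a b j : ℤ) (h : a + b = j) :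
    inc K L a b j h ≫ (K ◁ g).f j = (K.X a ◁ g.f b) ≫ inc K L' a b j h := by
  refine (ι_mapBifunctorMap (𝟙 K) g (curriedTensor (ModuleCat.{u} R)) (ComplexShape.up ℤ)
    a b j h).trans ?_
  simp

theorem span_inc (K L : CC R) (j : ℤ) (x : ((K ⊗ L).X j : ModuleCat.{u} R)) :
    ∃ (S : Finset ℤ) (y : ∀ a : ℤ, ((K.X a ⊗ L.X (j - a) : ModuleCat.{u} R))),
      x = ∑ a ∈ S, inc K L a (j - a) j (by omega) (y a) := by
  classical
  let U : Submodule R ((K ⊗ L).X j : ModuleCat.{u} R) :=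
    ⨆ a : ℤ, LinearMap.range (inc K L a (j - a) j (by omega)).hom
  have hU : U = ⊤ := by
    have h0 : ModuleCat.ofHom U.mkQ = 0 := by
      apply mapBifunctor.hom_ext
      intro a b hab
      have hab' : a + b = j := hab
      obtain rfl : b = j - a := by omega
      rw [comp_zero]
      ext y
      simp only [ModuleCat.hom_comp, ModuleCat.hom_ofHom, LinearMap.comp_apply,
        ModuleCat.hom_zero, LinearMap.zero_apply, Submodule.mkQ_apply,
        Submodule.Quotient.mk_eq_zero]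
      exact Submodule.mem_iSup_of_mem a ⟨y, rfl⟩
    have h1 : U.mkQ = 0 := by
      have := congrArg ModuleCat.Hom.hom h0
      simpa using this
    rw [← Submodule.ker_mkQ U, h1, LinearMap.ker_zero]
  have hx : x ∈ U := by rw [hU]; trivial
  rw [Submodule.mem_iSup_iff_exists_finsupp] at hx
  obtain ⟨f, hf, hfx⟩ := hx
  choose y hy using hf
  refine ⟨f.support, y, ?_⟩
  rw [← hfx, Finsupp.sum]
  apply Finset.sum_congr rfl
  intro a _
  exact (hy a).symm

theorem span_inc' (K L : CC R) (j : ℤ) (x : ((K ⊗ L).X j : ModuleCat.{u} R)) :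
    ∃ (S : Finset ℤ) (y : ∀ b : ℤ, ((K.X (j - b) ⊗ L.X b : ModuleCat.{u} R))),
      x = ∑ b ∈ S, inc K L (j - b) b j (by omega) (y b) := by
  classical
  let U : Submodule R ((K ⊗ L).X j : ModuleCat.{u} R) :=
    ⨆ b : ℤ, LinearMap.range (inc K L (j - b) b j (by omega)).hom
  have hU : U = ⊤ := by
    have h0 : ModuleCat.ofHom U.mkQ = 0 := by
      apply mapBifunctor.hom_ext
      intro a b hab
      have hab' : a + b = j := hab
      obtain rfl : a = j - b := by omega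
      rw [comp_zero]
      ext y
      simp only [ModuleCat.hom_comp, ModuleCat.hom_ofHom, LinearMap.comp_apply,
        ModuleCat.hom_zero, LinearMap.zero_apply, Submodule.mkQ_apply,
        Submodule.Quotient.mk_eq_zero]
      exact Submodule.mem_iSup_of_mem b ⟨y, rfl⟩
    have h1 : U.mkQ = 0 := by
      have := congrArg ModuleCat.Hom.hom h0
      simpa using this
    rw [← Submodule.ker_mkQ U, h1, LinearMap.ker_zero]
  have hx : x ∈ U := by rw [hU]; trivial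
  rw [Submodule.mem_iSup_iff_exists_finsupp] at hx
  obtain ⟨f, hf, hfx⟩ := hx
  choose y hy using hf
  refine ⟨f.support, y, ?_⟩
  rw [← hfx, Finsupp.sum]
  apply Finset.sum_congr rfl
  intro a _
  exact (hy a).symm

theorem assoc_hom_inc (K₁ K₂ K₃ : CC R) (a b c ab bc j : ℤ) (hab : a + b = ab) (hbc : b + c = bc)
    (h : ab + c = j) (h' : a + bc = j) :
    (inc K₁ K₂ a b ab hab ▷ K₃.X c) ≫ inc (K₁ ⊗ K₂) K₃ ab c j h ≫ (α_ K₁ K₂ K₃).hom.f j =
      (α_ (K₁.X a) (K₂.X b) (K₃.X c)).hom ≫ (K₁.X a ◁ inc K₂ K₃ b c bc hbc) ≫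
        inc K₁ (K₂ ⊗ K₃) a bc j h' := by
  have hr : ComplexShape.r (ComplexShape.up ℤ) (ComplexShape.up ℤ) (ComplexShape.up ℤ)
      (ComplexShape.up ℤ) (ComplexShape.up ℤ) (a, b, c) = j := by
    subst hab h; rfl
  have e1 := mapBifunctor₁₂.ι_eq (curriedTensor (ModuleCat.{u} R)) (curriedTensor (ModuleCat.{u} R))
    K₁ K₂ K₃ (ComplexShape.up ℤ) (ComplexShape.up ℤ) a b c ab j hab h
  have e2 := mapBifunctor₂₃.ι_eq (curriedTensor (ModuleCat.{u} R)) (curriedTensor (ModuleCat.{u} R))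
    K₁ K₂ K₃ (ComplexShape.up ℤ) (ComplexShape.up ℤ) (ComplexShape.up ℤ) a b c bc j hbc h'
  have e3 := ι_mapBifunctorAssociatorX_hom (curriedAssociatorNatIso (ModuleCat.{u} R)) K₁ K₂ K₃
    (ComplexShape.up ℤ) (ComplexShape.up ℤ) (ComplexShape.up ℤ) a b c j hr
  have e1' : (inc K₁ K₂ a b ab hab ▷ K₃.X c) ≫ inc (K₁ ⊗ K₂) K₃ ab c j h =
      mapBifunctor₁₂.ι (curriedTensor (ModuleCat.{u} R)) (curriedTensor (ModuleCat.{u} R))
        K₁ K₂ K₃ (ComplexShape.up ℤ) (ComplexShape.up ℤ) a b c j hr := e1.symm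
  have e2' : (K₁.X a ◁ inc K₂ K₃ b c bc hbc) ≫ inc K₁ (K₂ ⊗ K₃) a bc j h' =
      mapBifunctor₂₃.ι (curriedTensor (ModuleCat.{u} R)) (curriedTensor (ModuleCat.{u} R))
        K₁ K₂ K₃ (ComplexShape.up ℤ) (ComplexShape.up ℤ) (ComplexShape.up ℤ) a b c j hr := e2.symm
  rw [← Category.assoc, e1', e2']
  exact e3

theorem assoc_inv_inc (K₁ K₂ K₃ : CC R) (a b c ab bc j : ℤ) (hab : a + b = ab) (hbc : b + c = bc)
    (h : ab + c = j) (h' : a + bc = j) :
    (K₁.X a ◁ inc K₂ K₃ b c bc hbc) ≫ inc K₁ (K₂ ⊗ K₃) a bc j h' ≫ (α_ K₁ K₂ K₃).inv.f j =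
      (α_ (K₁.X a) (K₂.X b) (K₃.X c)).inv ≫ (inc K₁ K₂ a b ab hab ▷ K₃.X c) ≫
        inc (K₁ ⊗ K₂) K₃ ab c j h := by
  have e := assoc_hom_inc K₁ K₂ K₃ a b c ab bc j hab hbc h h'
  have e' : (α_ K₁ K₂ K₃).hom.f j ≫ (α_ K₁ K₂ K₃).inv.f j = 𝟙 _ := by
    rw [← HomologicalComplex.comp_f, Iso.hom_inv_id, HomologicalComplex.id_f]
  rw [← cancel_epi (α_ (K₁.X a) (K₂.X b) (K₃.X c)).hom, Iso.hom_inv_id_assoc]
  have := congrArg (fun f => f ≫ (α_ K₁ K₂ K₃).inv.f j) e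
  simp only [Category.assoc, e', Category.comp_id] at this
  exact this.symm

/-- the unit complex -/
noncomputable abbrev T (R : Type u) [CommRing R] : CC R := 𝟙_ (CC R)

noncomputable abbrev sIso (R : Type u) [CommRing R] : (T R).X 0 ≅ 𝟙_ (ModuleCat.{u} R) :=
  singleObjXSelf (ComplexShape.up ℤ) 0 (𝟙_ (ModuleCat.{u} R))

theorem isZero_T (j : ℤ) (hj : j ≠ 0) : IsZero ((T R).X j) :=
  isZero_single_obj_X (ComplexShape.up ℤ) 0 (𝟙_ (ModuleCat.{u} R)) j hj

theorem leftUnitor_inv_f (K : CC R) (i : ℤ) :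
    (λ_ K).inv.f i = (λ_ (K.X i)).inv ≫ ((sIso R).inv ▷ K.X i) ≫ inc (T R) K 0 i i (zero_add i) :=
  leftUnitor'_inv K i

theorem rightUnitor_inv_f (K : CC R) (i : ℤ) :
    (ρ_ K).inv.f i = (ρ_ (K.X i)).inv ≫ (K.X i ◁ (sIso R).inv) ≫ inc K (T R) i 0 i (add_zero i) :=
  rightUnitor'_inv K i

theorem inc_leftUnitor_hom_f (K : CC R) (i : ℤ) :
    ((sIso R).inv ▷ K.X i) ≫ inc (T R) K 0 i i (zero_add i) ≫ (λ_ K).hom.f i = (λ_ (K.X i)).hom := by
  have e' : (λ_ K).inv.f i ≫ (λ_ K).hom.f i = 𝟙 _ := by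
    rw [← HomologicalComplex.comp_f, Iso.inv_hom_id, HomologicalComplex.id_f]
  rw [leftUnitor_inv_f] at e'
  rw [← cancel_epi (λ_ (K.X i)).inv, Iso.inv_hom_id]
  simpa using e'

theorem inc_rightUnitor_hom_f (K : CC R) (i : ℤ) :
    (K.X i ◁ (sIso R).inv) ≫ inc K (T R) i 0 i (add_zero i) ≫ (ρ_ K).hom.f i = (ρ_ (K.X i)).hom := by
  have e' : (ρ_ K).inv.f i ≫ (ρ_ K).hom.f i = 𝟙 _ := by
    rw [← HomologicalComplex.comp_f, Iso.inv_hom_id, HomologicalComplex.id_f]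
  rw [rightUnitor_inv_f] at e'
  rw [← cancel_epi (ρ_ (K.X i)).inv, Iso.inv_hom_id]
  simpa using e'

theorem inc_retraction (K L : CC R) (a b j : ℤ) (h : a + b = j) :
    ∃ r : (K ⊗ L).X j ⟶ K.X a ⊗ L.X b, inc K L a b j h ≫ r = 𝟙 _ := by
  classical
  refine ⟨mapBifunctorDesc (fun a' b' _ =>
    if h' : a' = a ∧ b' = b then eqToHom (by rw [h'.1, h'.2]; rfl) else 0), ?_⟩
  rw [ι_mapBifunctorDesc, dif_pos ⟨rfl, rfl⟩]
  rfl

open TensorProduct in
theorem fin_proj_of_dual_basis {P : Type u} [AddCommGroup P] [Module R P] {ι : Type u} [Fintype ι]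
    (m : ι → P) (φ : ι → (P →ₗ[R] R)) (h : ∀ x, x = ∑ i, φ i x • m i) :
    Module.Finite R P ∧ Module.Projective R P := by
  classical
  let i : P →ₗ[R] (ι → R) := LinearMap.pi φ
  let s : (ι → R) →ₗ[R] P := Fintype.linearCombination R m
  have hsi : s.comp i = LinearMap.id := by
    ext x
    simp only [LinearMap.comp_apply, LinearMap.id_apply, s, i, Fintype.linearCombination_apply,
      LinearMap.pi_apply]
    exact (h x).symm
  have hs : Function.Surjective s := fun x => ⟨i x, by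
    have := congrArg (fun f => f x) hsi
    simpa using this⟩
  exact ⟨Module.Finite.of_surjective s hs, Module.Projective.of_split i s hsi⟩

open TensorProduct in
theorem fin_proj_left (P Q : ModuleCat.{u} R) (e : Q ⊗ P ⟶ 𝟙_ (ModuleCat.{u} R))
    (y : (P ⊗ Q : ModuleCat.{u} R))
    (h : ∀ m : P, (ρ_ P).hom ((P ◁ e) ((α_ P Q P).hom (y ⊗ₜ[R] m))) = m) :
    Module.Finite R P ∧ Module.Projective R P := by
  classical
  obtain ⟨F, hF⟩ := TensorProduct.exists_finset (R := R) (M := P) (N := Q) y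
  refine fin_proj_of_dual_basis (ι := F) (fun i => i.1.1)
    (fun i => e.hom.comp (TensorProduct.mk R Q P i.1.2)) ?_
  intro x
  conv_lhs => rw [← h x, hF]
  rw [TensorProduct.sum_tmul, map_sum, map_sum, map_sum,
    Finset.sum_coe_sort F (fun i => (e.hom.comp (TensorProduct.mk R Q P i.2)) x • i.1)]
  apply Finset.sum_congr rfl
  intro i _
  erw [ModuleCat.MonoidalCategory.associator_hom_apply]
  erw [ModuleCat.MonoidalCategory.whiskerLeft_apply]
  erw [ModuleCat.MonoidalCategory.rightUnitor_hom_apply]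
  rfl

open TensorProduct in
theorem fin_proj_right (P Q : ModuleCat.{u} R) (e : Q ⊗ P ⟶ 𝟙_ (ModuleCat.{u} R))
    (y : (P ⊗ Q : ModuleCat.{u} R))
    (h : ∀ n : Q, (λ_ Q).hom ((e ▷ Q) ((α_ Q P Q).inv (n ⊗ₜ[R] y))) = n) :
    Module.Finite R Q ∧ Module.Projective R Q := by
  classical
  obtain ⟨F, hF⟩ := TensorProduct.exists_finset (R := R) (M := P) (N := Q) y
  refine fin_proj_of_dual_basis (ι := F) (fun i => i.1.2)
    (fun i => e.hom.comp ((TensorProduct.mk R Q P).flip i.1.1)) ?_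
  intro x
  conv_lhs => rw [← h x, hF]
  rw [TensorProduct.tmul_sum, map_sum, map_sum, map_sum,
    Finset.sum_coe_sort F (fun i => (e.hom.comp ((TensorProduct.mk R Q P).flip i.1)) x • i.2)]
  apply Finset.sum_congr rfl
  intro i _
  erw [ModuleCat.MonoidalCategory.associator_inv_apply]
  erw [ModuleCat.MonoidalCategory.whiskerRight_apply]
  erw [ModuleCat.MonoidalCategory.leftUnitor_hom_apply]
  rfl

section Pairing

variable (M N : CC R) [ExactPairing M N]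

theorem CM_aux (q b p bc : ℤ) (hqb : q + b = 0) (hbc : b + p = bc) (h' : q + bc = p) :
    (inc M N q b 0 hqb ▷ M.X p) ≫ inc (M ⊗ N) M 0 p p (zero_add p) ≫ (α_ M N M).hom.f p ≫
      (M ◁ ε_ M N).f p =
    (α_ (M.X q) (N.X b) (M.X p)).hom ≫ (M.X q ◁ (inc N M b p bc hbc ≫ (ε_ M N).f bc)) ≫
      inc M (T R) q bc p h' := by
  have e := assoc_hom_inc M N M q b p 0 bc p hqb hbc (zero_add p) h'
  calc _ = ((inc M N q b 0 hqb ▷ M.X p) ≫ inc (M ⊗ N) M 0 p p (zero_add p) ≫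
        (α_ M N M).hom.f p) ≫ (M ◁ ε_ M N).f p := by simp only [Category.assoc]
    _ = _ := by
      rw [e]
      simp only [Category.assoc, inc_whiskerLeft, MonoidalCategory.whiskerLeft_comp]

theorem CM_ne (q b p : ℤ) (hqb : q + b = 0) (hqp : q ≠ p) :
    (inc M N q b 0 hqb ▷ M.X p) ≫ inc (M ⊗ N) M 0 p p (zero_add p) ≫ (α_ M N M).hom.f p ≫
      (M ◁ ε_ M N).f p = 0 := by
  rw [CM_aux M N q b p (b + p) hqb rfl (by omega)]
  have : (ε_ M N).f (b + p) = 0 := (isZero_T (R := R) (b + p) (by omega)).eq_of_tgt _ _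
  rw [this, comp_zero, MonoidalPreadditive.whiskerLeft_zero, zero_comp, comp_zero]

theorem CM_eq (p b : ℤ) (hpb : p + b = 0) :
    (inc M N p b 0 hpb ▷ M.X p) ≫ inc (M ⊗ N) M 0 p p (zero_add p) ≫ (α_ M N M).hom.f p ≫
      (M ◁ ε_ M N).f p =
    (α_ (M.X p) (N.X b) (M.X p)).hom ≫
      (M.X p ◁ (inc N M b p 0 (by omega) ≫ (ε_ M N).f 0)) ≫ inc M (T R) p 0 p (add_zero p) :=
  CM_aux M N p b p 0 hpb (by omega) (add_zero p)

/-- the key identity coming from the triangle identity, on the M side -/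
theorem DM (p : ℤ) :
    ((sIso R).inv ▷ M.X p) ≫ ((η_ M N).f 0 ▷ M.X p) ≫ inc (M ⊗ N) M 0 p p (zero_add p) ≫
      (α_ M N M).hom.f p ≫ (M ◁ ε_ M N).f p =
    (λ_ (M.X p)).hom ≫ (ρ_ (M.X p)).inv ≫ (M.X p ◁ (sIso R).inv) ≫
      inc M (T R) p 0 p (add_zero p) := by
  have e := congrArg (fun φ => φ.f p) (ExactPairing.evaluation_coevaluation M N)
  simp only [HomologicalComplex.comp_f] at e
  have e2 := congrArg (fun φ => ((sIso R).inv ▷ M.X p) ≫ inc (T R) M 0 p p (zero_add p) ≫ φ) e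
  rw [← Category.assoc (inc (T R) M 0 p p (zero_add p)), inc_whiskerRight] at e2
  simp only [Category.assoc] at e2
  rw [e2]
  have e3 := congrArg (fun φ => φ ≫ (ρ_ M).inv.f p) (inc_leftUnitor_hom_f M p)
  simp only [Category.assoc] at e3
  rw [e3, rightUnitor_inv_f]

/-- the unit element of the unit object -/
abbrev u1 (R : Type u) [CommRing R] : (𝟙_ (ModuleCat.{u} R) : ModuleCat.{u} R) := (1 : R)

open TensorProduct in
theorem M_key (p : ℤ) (m : M.X p) :
    (inc (M ⊗ N) M 0 p p (zero_add p) ≫ (α_ M N M).hom.f p ≫ (M ◁ ε_ M N).f p)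
      (((η_ M N).f 0 ((sIso R).inv (u1 R))) ⊗ₜ[R] m) =
    inc M (T R) p 0 p (add_zero p) (m ⊗ₜ[R] (sIso R).inv (u1 R)) := by
  have h := congrArg (fun φ => (ConcreteCategory.hom φ) ((u1 R) ⊗ₜ[R] m)) (DM M N p)
  rw [ConcreteCategory.comp_apply, ConcreteCategory.comp_apply] at h
  have h1 : ((sIso R).inv ▷ M.X p) ((u1 R) ⊗ₜ[R] m) = ((sIso R).inv (u1 R)) ⊗ₜ[R] m :=
    ModuleCat.MonoidalCategory.whiskerRight_apply _ _ _ _
  have h2 : ((η_ M N).f 0 ▷ M.X p) (((sIso R).inv (u1 R)) ⊗ₜ[R] m) =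
      ((η_ M N).f 0 ((sIso R).inv (u1 R))) ⊗ₜ[R] m :=
    ModuleCat.MonoidalCategory.whiskerRight_apply _ _ _ _
  rw [h1, h2] at h
  rw [h]
  rw [ConcreteCategory.comp_apply, ConcreteCategory.comp_apply, ConcreteCategory.comp_apply]
  have h3 : (λ_ (M.X p)).hom ((u1 R) ⊗ₜ[R] m) = m := by
    erw [ModuleCat.MonoidalCategory.leftUnitor_hom_apply]
    exact one_smul R m
  have h4 : (ρ_ (M.X p)).inv m = m ⊗ₜ[R] (u1 R) :=
    ModuleCat.MonoidalCategory.rightUnitor_inv_apply _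
  have h5 : (M.X p ◁ (sIso R).inv) (m ⊗ₜ[R] (u1 R)) = m ⊗ₜ[R] (sIso R).inv (u1 R) :=
    ModuleCat.MonoidalCategory.whiskerLeft_apply _ _ _ _
  rw [h3, h4, h5]

open TensorProduct in
theorem M_main (S : Finset ℤ) (y : ∀ a : ℤ, ((M.X a ⊗ N.X (0 - a) : ModuleCat.{u} R)))
    (hS : (η_ M N).f 0 ((sIso R).inv (u1 R)) =
      ∑ a ∈ S, inc M N a (0 - a) 0 (by omega) (y a)) (p : ℤ) (m : M.X p) :
    (ρ_ (M.X p)).hom ((M.X p ◁ (inc N M (0 - p) p 0 (by omega) ≫ (ε_ M N).f 0 ≫ (sIso R).hom))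
      ((α_ (M.X p) (N.X (0 - p)) (M.X p)).hom ((if p ∈ S then y p else 0) ⊗ₜ[R] m))) = m := by
  classical
  have hk := M_key M N p m
  rw [hS, TensorProduct.sum_tmul, map_sum] at hk
  have hne : ∀ a, a ≠ p →
      (inc (M ⊗ N) M 0 p p (zero_add p) ≫ (α_ M N M).hom.f p ≫ (M ◁ ε_ M N).f p)
        ((inc M N a (0 - a) 0 (by omega) (y a)) ⊗ₜ[R] m) = 0 := by
    intro a ha
    have h1 : (inc M N a (0 - a) 0 (by omega) (y a)) ⊗ₜ[R] m =
        (inc M N a (0 - a) 0 (by omega) ▷ M.X p) (y a ⊗ₜ[R] m) :=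
      (ModuleCat.MonoidalCategory.whiskerRight_apply _ _ _ _).symm
    rw [h1, ← ConcreteCategory.comp_apply, CM_ne M N a (0 - a) p (by omega) ha]
    rfl
  have heq : (inc (M ⊗ N) M 0 p p (zero_add p) ≫ (α_ M N M).hom.f p ≫ (M ◁ ε_ M N).f p)
        ((inc M N p (0 - p) 0 (by omega) (y p)) ⊗ₜ[R] m) =
      inc M (T R) p 0 p (add_zero p)
        ((M.X p ◁ (inc N M (0 - p) p 0 (by omega) ≫ (ε_ M N).f 0))
          ((α_ (M.X p) (N.X (0 - p)) (M.X p)).hom (y p ⊗ₜ[R] m))) := by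
    have h1 : (inc M N p (0 - p) 0 (by omega) (y p)) ⊗ₜ[R] m =
        (inc M N p (0 - p) 0 (by omega) ▷ M.X p) (y p ⊗ₜ[R] m) :=
      (ModuleCat.MonoidalCategory.whiskerRight_apply _ _ _ _).symm
    rw [h1, ← ConcreteCategory.comp_apply, CM_eq M N p (0 - p) (by omega)]
    rfl
  have hboth : inc M (T R) p 0 p (add_zero p)
        ((M.X p ◁ (inc N M (0 - p) p 0 (by omega) ≫ (ε_ M N).f 0))
          ((α_ (M.X p) (N.X (0 - p)) (M.X p)).hom ((if p ∈ S then y p else 0) ⊗ₜ[R] m))) =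
      inc M (T R) p 0 p (add_zero p) (m ⊗ₜ[R] (sIso R).inv (u1 R)) := by
    rw [← hk]
    by_cases hp : p ∈ S
    · rw [if_pos hp, Finset.sum_eq_single_of_mem p hp (fun a _ ha => hne a ha), heq]
    · rw [if_neg hp, Finset.sum_eq_zero (fun a ha => hne a (ne_of_mem_of_not_mem ha hp)),
        TensorProduct.zero_tmul, map_zero, map_zero, map_zero]
  obtain ⟨r, hr⟩ := inc_retraction M (T R) p 0 p (add_zero p)
  have hcancel : ∀ x, r (inc M (T R) p 0 p (add_zero p) x) = x := by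
    intro x
    rw [← ConcreteCategory.comp_apply, hr]
    rfl
  have h2 := congrArg r hboth
  rw [hcancel, hcancel] at h2
  have h3 := congrArg (M.X p ◁ (sIso R).hom) h2
  rw [← ConcreteCategory.comp_apply, ← MonoidalCategory.whiskerLeft_comp, Category.assoc] at h3
  rw [h3]
  have h4 : (M.X p ◁ (sIso R).hom) (m ⊗ₜ[R] (sIso R).inv (u1 R)) =
      m ⊗ₜ[R] (sIso R).hom ((sIso R).inv (u1 R)) :=
    ModuleCat.MonoidalCategory.whiskerLeft_apply _ _ _ _
  have h5 : (sIso R).hom ((sIso R).inv (u1 R)) = u1 R := by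
    rw [← ConcreteCategory.comp_apply, Iso.inv_hom_id]
    rfl
  rw [h4, h5]
  erw [ModuleCat.MonoidalCategory.rightUnitor_hom_apply]
  exact one_smul R m

theorem CN_aux (p a b ab : ℤ) (hab : a + b = 0) (hpa : p + a = ab) (h : ab + b = p) :
    (N.X p ◁ inc M N a b 0 hab) ≫ inc N (M ⊗ N) p 0 p (add_zero p) ≫ (α_ N M N).inv.f p ≫
      (ε_ M N ▷ N).f p =
    (α_ (N.X p) (M.X a) (N.X b)).inv ≫ ((inc N M p a ab hpa ≫ (ε_ M N).f ab) ▷ N.X b) ≫
      inc (T R) N ab b p h := by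
  have e := assoc_inv_inc N M N p a b ab 0 p hpa hab h (add_zero p)
  calc _ = ((N.X p ◁ inc M N a b 0 hab) ≫ inc N (M ⊗ N) p 0 p (add_zero p) ≫
        (α_ N M N).inv.f p) ≫ (ε_ M N ▷ N).f p := by simp only [Category.assoc]
    _ = _ := by
      rw [e]
      simp only [Category.assoc, inc_whiskerRight, MonoidalCategory.comp_whiskerRight]

theorem CN_ne (p a b : ℤ) (hab : a + b = 0) (hne : b ≠ p) :
    (N.X p ◁ inc M N a b 0 hab) ≫ inc N (M ⊗ N) p 0 p (add_zero p) ≫ (α_ N M N).inv.f p ≫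
      (ε_ M N ▷ N).f p = 0 := by
  rw [CN_aux M N p a b (p + a) hab rfl (by omega)]
  have : (ε_ M N).f (p + a) = 0 := (isZero_T (R := R) (p + a) (by omega)).eq_of_tgt _ _
  rw [this, comp_zero, MonoidalPreadditive.zero_whiskerRight, zero_comp, comp_zero]

theorem CN_eq (p a : ℤ) (hap : a + p = 0) :
    (N.X p ◁ inc M N a p 0 hap) ≫ inc N (M ⊗ N) p 0 p (add_zero p) ≫ (α_ N M N).inv.f p ≫
      (ε_ M N ▷ N).f p =
    (α_ (N.X p) (M.X a) (N.X p)).inv ≫
      ((inc N M p a 0 (by omega) ≫ (ε_ M N).f 0) ▷ N.X p) ≫ inc (T R) N 0 p p (zero_add p) :=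
  CN_aux M N p a p 0 hap (by omega) (zero_add p)

theorem DN (p : ℤ) :
    (N.X p ◁ (sIso R).inv) ≫ (N.X p ◁ (η_ M N).f 0) ≫ inc N (M ⊗ N) p 0 p (add_zero p) ≫
      (α_ N M N).inv.f p ≫ (ε_ M N ▷ N).f p =
    (ρ_ (N.X p)).hom ≫ (λ_ (N.X p)).inv ≫ ((sIso R).inv ▷ N.X p) ≫
      inc (T R) N 0 p p (zero_add p) := by
  have e := congrArg (fun φ => φ.f p) (ExactPairing.coevaluation_evaluation M N)
  simp only [HomologicalComplex.comp_f] at e
  have e2 := congrArg (fun φ => (N.X p ◁ (sIso R).inv) ≫ inc N (T R) p 0 p (add_zero p) ≫ φ) e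
  rw [← Category.assoc (inc N (T R) p 0 p (add_zero p)), inc_whiskerLeft] at e2
  simp only [Category.assoc] at e2
  rw [e2]
  have e3 := congrArg (fun φ => φ ≫ (λ_ N).inv.f p) (inc_rightUnitor_hom_f N p)
  simp only [Category.assoc] at e3
  rw [e3, leftUnitor_inv_f]

open TensorProduct in
theorem N_key (p : ℤ) (n : N.X p) :
    (inc N (M ⊗ N) p 0 p (add_zero p) ≫ (α_ N M N).inv.f p ≫ (ε_ M N ▷ N).f p)
      (n ⊗ₜ[R] ((η_ M N).f 0 ((sIso R).inv (u1 R)))) =
    inc (T R) N 0 p p (zero_add p) ((sIso R).inv (u1 R) ⊗ₜ[R] n) := by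
  have h := congrArg (fun φ => (ConcreteCategory.hom φ) (n ⊗ₜ[R] (u1 R))) (DN M N p)
  rw [ConcreteCategory.comp_apply, ConcreteCategory.comp_apply] at h
  have h1 : (N.X p ◁ (sIso R).inv) (n ⊗ₜ[R] (u1 R)) = n ⊗ₜ[R] ((sIso R).inv (u1 R)) :=
    ModuleCat.MonoidalCategory.whiskerLeft_apply _ _ _ _
  have h2 : (N.X p ◁ (η_ M N).f 0) (n ⊗ₜ[R] ((sIso R).inv (u1 R))) =
      n ⊗ₜ[R] ((η_ M N).f 0 ((sIso R).inv (u1 R))) :=
    ModuleCat.MonoidalCategory.whiskerLeft_apply _ _ _ _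
  rw [h1, h2] at h
  rw [h]
  rw [ConcreteCategory.comp_apply, ConcreteCategory.comp_apply, ConcreteCategory.comp_apply]
  have h3 : (ρ_ (N.X p)).hom (n ⊗ₜ[R] (u1 R)) = n := by
    erw [ModuleCat.MonoidalCategory.rightUnitor_hom_apply]
    exact one_smul R n
  have h4 : (λ_ (N.X p)).inv n = (u1 R) ⊗ₜ[R] n :=
    ModuleCat.MonoidalCategory.leftUnitor_inv_apply _
  have h5 : ((sIso R).inv ▷ N.X p) ((u1 R) ⊗ₜ[R] n) = (sIso R).inv (u1 R) ⊗ₜ[R] n :=
    ModuleCat.MonoidalCategory.whiskerRight_apply _ _ _ _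
  rw [h3, h4, h5]

open TensorProduct in
theorem N_main (S : Finset ℤ) (y : ∀ b : ℤ, ((M.X (0 - b) ⊗ N.X b : ModuleCat.{u} R)))
    (hS : (η_ M N).f 0 ((sIso R).inv (u1 R)) =
      ∑ b ∈ S, inc M N (0 - b) b 0 (by omega) (y b)) (p : ℤ) (n : N.X p) :
    (λ_ (N.X p)).hom (((inc N M p (0 - p) 0 (by omega) ≫ (ε_ M N).f 0 ≫ (sIso R).hom) ▷ N.X p)
      ((α_ (N.X p) (M.X (0 - p)) (N.X p)).inv (n ⊗ₜ[R] (if p ∈ S then y p else 0)))) = n := by
  classical
  have hk := N_key M N p n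
  rw [hS, TensorProduct.tmul_sum, map_sum] at hk
  have hne : ∀ b, b ≠ p →
      (inc N (M ⊗ N) p 0 p (add_zero p) ≫ (α_ N M N).inv.f p ≫ (ε_ M N ▷ N).f p)
        (n ⊗ₜ[R] (inc M N (0 - b) b 0 (by omega) (y b))) = 0 := by
    intro b hb
    have h1 : n ⊗ₜ[R] (inc M N (0 - b) b 0 (by omega) (y b)) =
        (N.X p ◁ inc M N (0 - b) b 0 (by omega)) (n ⊗ₜ[R] y b) :=
      (ModuleCat.MonoidalCategory.whiskerLeft_apply _ _ _ _).symm
    rw [h1, ← ConcreteCategory.comp_apply, CN_ne M N p (0 - b) b (by omega) hb]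
    rfl
  have heq : (inc N (M ⊗ N) p 0 p (add_zero p) ≫ (α_ N M N).inv.f p ≫ (ε_ M N ▷ N).f p)
        (n ⊗ₜ[R] (inc M N (0 - p) p 0 (by omega) (y p))) =
      inc (T R) N 0 p p (zero_add p)
        (((inc N M p (0 - p) 0 (by omega) ≫ (ε_ M N).f 0) ▷ N.X p)
          ((α_ (N.X p) (M.X (0 - p)) (N.X p)).inv (n ⊗ₜ[R] y p))) := by
    have h1 : n ⊗ₜ[R] (inc M N (0 - p) p 0 (by omega) (y p)) =
        (N.X p ◁ inc M N (0 - p) p 0 (by omega)) (n ⊗ₜ[R] y p) :=
      (ModuleCat.MonoidalCategory.whiskerLeft_apply _ _ _ _).symm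
    rw [h1, ← ConcreteCategory.comp_apply, CN_eq M N p (0 - p) (by omega)]
    rfl
  have hboth : inc (T R) N 0 p p (zero_add p)
        (((inc N M p (0 - p) 0 (by omega) ≫ (ε_ M N).f 0) ▷ N.X p)
          ((α_ (N.X p) (M.X (0 - p)) (N.X p)).inv
            (n ⊗ₜ[R] (if p ∈ S then y p else 0)))) =
      inc (T R) N 0 p p (zero_add p) ((sIso R).inv (u1 R) ⊗ₜ[R] n) := by
    rw [← hk]
    by_cases hp : p ∈ S
    · rw [if_pos hp, Finset.sum_eq_single_of_mem p hp (fun b _ hb => hne b hb), heq]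
    · rw [if_neg hp, Finset.sum_eq_zero (fun b hb => hne b (ne_of_mem_of_not_mem hb hp)),
        TensorProduct.tmul_zero, map_zero, map_zero, map_zero]
  obtain ⟨r, hr⟩ := inc_retraction (T R) N 0 p p (zero_add p)
  have hcancel : ∀ x, r (inc (T R) N 0 p p (zero_add p) x) = x := by
    intro x
    rw [← ConcreteCategory.comp_apply, hr]
    rfl
  have h2 := congrArg r hboth
  rw [hcancel, hcancel] at h2
  have h3 := congrArg ((sIso R).hom ▷ N.X p) h2
  rw [← ConcreteCategory.comp_apply, ← MonoidalCategory.comp_whiskerRight, Category.assoc] at h3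
  rw [h3]
  have h4 : ((sIso R).hom ▷ N.X p) ((sIso R).inv (u1 R) ⊗ₜ[R] n) =
      (sIso R).hom ((sIso R).inv (u1 R)) ⊗ₜ[R] n :=
    ModuleCat.MonoidalCategory.whiskerRight_apply _ _ _ _
  have h5 : (sIso R).hom ((sIso R).inv (u1 R)) = u1 R := by
    rw [← ConcreteCategory.comp_apply, Iso.inv_hom_id]
    rfl
  rw [h4, h5]
  erw [ModuleCat.MonoidalCategory.leftUnitor_hom_apply]
  exact one_smul R n

end Pairing

open TensorProduct in
theorem main (R : Type u) [CommRing R] (M N : DRing.Cx R)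
    [ExactPairing M N] :
    (∃ a b : ℤ, DRing.VanishesOutside M a b) ∧ (∃ a b : ℤ, DRing.VanishesOutside N a b) ∧
      DRing.TermwiseFiniteProjective M ∧ DRing.TermwiseFiniteProjective N := by
  classical
  obtain ⟨S, y, hS⟩ := span_inc M N 0 ((η_ M N).f 0 ((sIso R).inv (u1 R)))
  obtain ⟨S', y', hS'⟩ := span_inc' M N 0 ((η_ M N).f 0 ((sIso R).inv (u1 R)))
  have hM0 : ∀ p, p ∉ S → IsZero (M.X p) := by
    intro p hp
    have : Subsingleton (M.X p) := by
      refine ⟨fun m m' => ?_⟩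
      have h1 := M_main M N S y hS p m
      have h2 := M_main M N S y hS p m'
      rw [if_neg hp, TensorProduct.zero_tmul, map_zero, map_zero, map_zero] at h1 h2
      rw [← h1, ← h2]
    exact ModuleCat.isZero_of_subsingleton _
  have hN0 : ∀ p, p ∉ S' → IsZero (N.X p) := by
    intro p hp
    have : Subsingleton (N.X p) := by
      refine ⟨fun m m' => ?_⟩
      have h1 := N_main M N S' y' hS' p m
      have h2 := N_main M N S' y' hS' p m'
      rw [if_neg hp, TensorProduct.tmul_zero, map_zero, map_zero, map_zero] at h1 h2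
      rw [← h1, ← h2]
    exact ModuleCat.isZero_of_subsingleton _
  have bound : ∀ (S : Finset ℤ) (i : ℤ), (i < -((S.sup Int.natAbs : ℕ) : ℤ) ∨
      ((S.sup Int.natAbs : ℕ) : ℤ) < i) → i ∉ S := by
    intro S i hi his
    have := Finset.le_sup (f := Int.natAbs) his
    omega
  refine ⟨⟨-((S.sup Int.natAbs : ℕ) : ℤ), ((S.sup Int.natAbs : ℕ) : ℤ),
      fun i hi => hM0 i (bound S i hi)⟩,
    ⟨-((S'.sup Int.natAbs : ℕ) : ℤ), ((S'.sup Int.natAbs : ℕ) : ℤ),
      fun i hi => hN0 i (bound S' i hi)⟩, ?_, ?_⟩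
  · intro p
    exact fin_proj_left (M.X p) (N.X (0 - p)) _ _ (M_main M N S y hS p)
  · intro p
    exact fin_proj_right (M.X (0 - p)) (N.X p) _ _ (N_main M N S' y' hS' p)



open MonoidalCategory in
/-- Let R be a commutative ring and M, N cochain complexes of R-modules such that N is a left dual of M
for the tensor product of cochain complexes of R-modules (coevaluation R[0] → M ⊗ N and evaluation N
⊗ M → R[0] with the triangle identities, an exact pairing). Then M and N are bounded and every term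
M^n, N^n is a finitely generated projective R-module. -/
theorem result (R : Type u) [CommRing R] (M N : DRing.Cx R)
    [ExactPairing M N] :
    (∃ a b : ℤ, DRing.VanishesOutside M a b) ∧ (∃ a b : ℤ, DRing.VanishesOutside N a b) ∧
      DRing.TermwiseFiniteProjective M ∧ DRing.TermwiseFiniteProjective N := by
  exact main R M N

end Groth.Agent.S7016
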