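import Groth.Statements.S7017
import Mathlib
import Groth.Agent.Lib.Helper23.PerfCone
-- import your own Groth.Agent.* helpers here

set_option autoImplicit false
universe u
open CategoryTheory CategoryTheory.Limits
attribute [local instance] HasDerivedCategory.standard
open DRing

namespace Groth.Agent.S7017

open CategoryTheory.Pretriangulated in
/-- Let R be a commutative ring and K → L → M → K[1] a distinguished triangle in D(R). Whenever two of
K, L, M are pseudo-coherent (isomorphic in D(R) to bounded above complexes of finite free modules),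
the remaining one is as well. -/
theorem result (R : Type u) [CommRing R] (T : Triangle (Dual.D R))
    (hT : T ∈ distinguishedTriangles) :
    (DRing.IsPseudoCoherent' R T.obj₁ → DRing.IsPseudoCoherent' R T.obj₂ → DRing.IsPseudoCoherent' R T.obj₃) ∧
      (DRing.IsPseudoCoherent' R T.obj₁ → DRing.IsPseudoCoherent' R T.obj₃ → DRing.IsPseudoCoherent' R T.obj₂) ∧
      (DRing.IsPseudoCoherent' R T.obj₂ → DRing.IsPseudoCoherent' R T.obj₃ → DRing.IsPseudoCoherent' R T.obj₁) := by
  let P : ModuleCat.{u} R → Prop := fun M => Module.Finite R M ∧ Module.Free R M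
  have hproj : ∀ M, P M → Projective M := fun M h => by
    haveI := h.1
    haveI := h.2
    exact (IsProjective.iff_projective (R := R) M).1 (Module.Projective.of_free)
  have hprod : ∀ (M N X : ModuleCat.{u} R), P M → P N → (X ≃ₗ[R] (M × N)) → P X := by
    intro M N X hM hN e
    haveI := hM.1
    haveI := hM.2
    haveI := hN.1
    haveI := hN.2
    exact ⟨Module.Finite.equiv e.symm, Module.Free.of_equiv e.symm⟩
  have toRep : ∀ K : Dual.D R, DRing.IsPseudoCoherent' R K → Groth.Agent.Lib.helper23.PerfCone.Rep P False K :=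
    fun K => fun ⟨E, b, hV, hFF, he⟩ => ⟨E, 0, b, fun i hi => hV i (hi.resolve_left (fun h => h.1)), hFF, he⟩
  have from_ : ∀ K : Dual.D R, Groth.Agent.Lib.helper23.PerfCone.Rep P False K → DRing.IsPseudoCoherent' R K :=
    fun K => fun ⟨E, _, b, h1, h2, he⟩ => ⟨E, b, fun i hi => h1 i (Or.inr hi), h2, he⟩
  obtain ⟨h1, h2, h3⟩ := Groth.Agent.Lib.helper23.PerfCone.Rep.two_of_three (lo := False) hproj hprod T hT
  exact ⟨fun a b => from_ _ (h1 (toRep _ a) (toRep _ b)), fun a b => from_ _ (h2 (toRep _ a) (toRep _ b)),
    fun a b => from_ _ (h3 (toRep _ a) (toRep _ b))⟩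

end Groth.Agent.S7017
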