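import Groth.Statements.S7019
import Mathlib
import Groth.Agent.Lib.Helper23.PerfThick
-- import your own Groth.Agent.* helpers here

set_option autoImplicit false
universe u
open CategoryTheory CategoryTheory.Limits
attribute [local instance] HasDerivedCategory.standard
open DRing

namespace Groth.Agent.S7019

/-- Let R be a commutative ring such that the derived tensor product - ⊗^L_R M exists on D(R) for every
R-module M, and let K, L be objects of D(R). If K ⊕ L is perfect, then K and L are perfect. -/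
theorem result (R : Type u) [CommRing R] [∀ M : ModuleCat.{u} R, DRing.HasLTensor R M]
    (K L : Dual.D R) [HasBinaryBiproduct K L] (h : DRing.IsPerfect R (K ⊞ L)) :
    DRing.IsPerfect R K ∧ DRing.IsPerfect R L := by
  obtain ⟨E, a, b, hz, hP, ⟨e⟩⟩ := h
  have hamp : Groth.Agent.Lib.helper23.PCohAmp.Amp
      (Groth.Agent.Lib.helper23.PerfThick.FP R) a b (K ⊞ L) := ⟨E, hP, hz, ⟨e⟩⟩
  have hamp' : Groth.Agent.Lib.helper23.PCohAmp.Amp
      (Groth.Agent.Lib.helper23.PerfThick.FP R) (min a b) b (K ⊞ L) :=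
    hamp.mono (min_le_left _ _) le_rfl
  have hdf : ∀ (E' E'' : ModuleCat.{u} R) [HasBinaryBiproduct E' E''],
      Groth.Agent.Lib.helper23.PerfThick.FP R (E' ⊞ E'') →
        Groth.Agent.Lib.helper23.PerfThick.FP R E' ∧
          Groth.Agent.Lib.helper23.PerfThick.FP R E'' := by
    intro E' E'' _ h
    exact ⟨Groth.Agent.Lib.helper23.PerfThick.FP_of_retract R biprod.inl biprod.fst
      biprod.inl_fst h,
      Groth.Agent.Lib.helper23.PerfThick.FP_of_retract R biprod.inr biprod.snd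
        biprod.inr_snd h⟩
  obtain ⟨h1, h2⟩ := Groth.Agent.Lib.helper23.PCohAmp.Amp.summand_both
    (Groth.Agent.Lib.helper23.PerfThick.FP_sum R)
    (Groth.Agent.Lib.helper23.PerfThick.FP_lift R)
    (Groth.Agent.Lib.helper23.PerfThick.FP_kernel R) hdf (min_le_right a b)
    (Groth.Agent.Lib.helper23.PCohAmp.Amp.of_bilimit (BinaryBiproduct.bicone K L)
      (BinaryBiproduct.isBilimit K L) hamp')
  obtain ⟨E1, hP1, hz1, ⟨e1⟩⟩ := h1
  obtain ⟨E2, hP2, hz2, ⟨e2⟩⟩ := h2
  exact ⟨⟨E1, min a b, b, hz1, hP1, ⟨e1⟩⟩, ⟨E2, min a b, b, hz2, hP2, ⟨e2⟩⟩⟩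

end Groth.Agent.S7019
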