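import Groth.Statements.S7020
import Mathlib
import Groth.Agent.Lib.Helper23.DRingPC7
-- import your own Groth.Agent.* helpers here

set_option autoImplicit false
universe u
open CategoryTheory CategoryTheory.Limits
attribute [local instance] HasDerivedCategory.standard
open DerCA

namespace Groth.Agent.S7020

open CategoryTheory.Pretriangulated in
/-- Let R → A be a finite type homomorphism of commutative rings, m an integer and K → L → M → K[1] a
distinguished triangle in D(A); all pseudo-coherence below is relative to R. (1) M is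
m-pseudo-coherent when K is (m+1)-pseudo-coherent and L is m-pseudo-coherent. (2) L is
m-pseudo-coherent when K and M are. (3) K is (m+1)-pseudo-coherent when L is (m+1)-pseudo-coherent
and M is m-pseudo-coherent. (4) Pseudo-coherence in every degree of any two of K, L, M implies that
of the third. -/
theorem result {R A : Type u} [CommRing R] [CommRing A] [Algebra R A] [Algebra.FiniteType R A] (m : ℤ) (T : Triangle (Dual.D A))
    (hT : T ∈ distinguishedTriangles) :
    (DerCA.IsRelPseudoCoherent R A (m + 1) T.obj₁ → DerCA.IsRelPseudoCoherent R A m T.obj₂ →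
        DerCA.IsRelPseudoCoherent R A m T.obj₃) ∧
      (DerCA.IsRelPseudoCoherent R A m T.obj₁ → DerCA.IsRelPseudoCoherent R A m T.obj₃ →
        DerCA.IsRelPseudoCoherent R A m T.obj₂) ∧
      (DerCA.IsRelPseudoCoherent R A (m + 1) T.obj₂ → DerCA.IsRelPseudoCoherent R A m T.obj₃ →
        DerCA.IsRelPseudoCoherent R A (m + 1) T.obj₁) ∧
      ((DerCA.IsRelPseudoCoherentAll R A T.obj₁ → DerCA.IsRelPseudoCoherentAll R A T.obj₂ →
          DerCA.IsRelPseudoCoherentAll R A T.obj₃) ∧
        (DerCA.IsRelPseudoCoherentAll R A T.obj₁ → DerCA.IsRelPseudoCoherentAll R A T.obj₃ →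
          DerCA.IsRelPseudoCoherentAll R A T.obj₂) ∧
        (DerCA.IsRelPseudoCoherentAll R A T.obj₂ → DerCA.IsRelPseudoCoherentAll R A T.obj₃ →
          DerCA.IsRelPseudoCoherentAll R A T.obj₁)) := by
  obtain ⟨n, α, hα⟩ := Groth.Agent.Lib.helper23.DRingPC.exists_presentation (R := R) (A := A)
  have hFT := (ModuleCat.restrictScalars.{u}
    (α : MvPolynomial (Fin n) R →+* A)).mapDerivedCategory.map_distinguished T hT
  have key : ∀ m' : ℤ, _ := fun m' =>
    Groth.Agent.Lib.helper23.PCohCore.NPC.two_of_three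
      (Groth.Agent.Lib.helper23.DRingPC.FF (MvPolynomial (Fin n) R))
      (Groth.Agent.Lib.helper23.DRingPC.FF_sum _) (Groth.Agent.Lib.helper23.DRingPC.FF_hqs _)
      (Groth.Agent.Lib.helper23.DRingPC.FF_hql _) m' _ hFT
  have br : ∀ (m' : ℤ) (K : Dual.D A), _ := fun m' K =>
    Groth.Agent.Lib.helper23.DRingPC.isRelPseudoCoherent_iff_npc α hα m' K
  refine ⟨fun h1 h2 => (br _ _).2 ((key m).1 ((br _ _).1 h1) ((br _ _).1 h2)),
    fun h1 h3 => (br _ _).2 ((key m).2.1 ((br _ _).1 h1) ((br _ _).1 h3)),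
    fun h2 h3 => (br _ _).2 ((key m).2.2 ((br _ _).1 h2) ((br _ _).1 h3)),
    fun h1 h2 m' => (br _ _).2 ((key m').1 ((br _ _).1 (h1 (m' + 1))) ((br _ _).1 (h2 m'))),
    fun h1 h3 m' => (br _ _).2 ((key m').2.1 ((br _ _).1 (h1 m')) ((br _ _).1 (h3 m'))),
    fun h2 h3 m' => ?_⟩
  have := (br _ _).2 ((key (m' - 1)).2.2 ((br _ _).1 (h2 (m' - 1 + 1))) ((br _ _).1 (h3 (m' - 1))))
  rwa [sub_add_cancel] at this

end Groth.Agent.S7020
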