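import Groth.Statements.S7021
import Mathlib
import Groth.Agent.Lib.Helper23.DRingPC8
-- import your own Groth.Agent.* helpers here

set_option autoImplicit false
universe u
open CategoryTheory CategoryTheory.Limits
attribute [local instance] HasDerivedCategory.standard
open DerCA

namespace Groth.Agent.S7021

/-- Let R → A be a finite type homomorphism of commutative rings, α : R[x_1, ..., x_n] → A a surjective
R-algebra homomorphism and M an A-module. Then relative 0-pseudo-coherence of M over R amounts to M
being a finitely generated A-module, and relative (-1)-pseudo-coherence of M over R amounts to M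
being finitely presented as an R[x_1, ..., x_n]-module through α. -/
theorem result {R A : Type u} [CommRing R] [CommRing A]
    [Algebra R A] [Algebra.FiniteType R A] {n : ℕ} (α : MvPolynomial (Fin n) R →ₐ[R] A)
    (hα : Function.Surjective α) (M : Type u) [AddCommGroup M] [Module A M] :
    (DerCA.IsRelPseudoCoherentModule R A 0 M ↔ Module.Finite A M) ∧
      (DerCA.IsRelPseudoCoherentModule R A (-1) M ↔
        @Module.FinitePresentation (MvPolynomial (Fin n) R) M _ _ (Module.compHom M α.toRingHom)) := by
  have br : ∀ (m' : ℤ), DerCA.IsRelPseudoCoherentModule R A m' M ↔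
      Groth.Agent.Lib.helper23.PCohCore.NPC
        (Groth.Agent.Lib.helper23.DRingPC.FF (MvPolynomial (Fin n) R)) m'
        ((DerivedCategory.singleFunctor (ModuleCat.{u} (MvPolynomial (Fin n) R)) 0).obj
          ((ModuleCat.restrictScalars.{u} (α : MvPolynomial (Fin n) R →+* A)).obj
            (ModuleCat.of A M))) := fun m' =>
    (Groth.Agent.Lib.helper23.DRingPC.isRelPseudoCoherent_iff_npc α hα m' _).trans
      (Groth.Agent.Lib.helper23.DRingPC.npc_restrict_single_iff _ (ModuleCat.of A M) m')
  refine ⟨?_, ?_⟩
  · rw [br, Groth.Agent.Lib.helper23.DRingPC.npc_zero_single_iff_finite]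
    exact Groth.Agent.Lib.helper23.DRingPC.finite_restrict_iff _ hα (ModuleCat.of A M)
  · rw [br, Groth.Agent.Lib.helper23.DRingPC.npc_negOne_single_iff_finitePresentation]
    exact Iff.rfl

end Groth.Agent.S7021
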