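import Groth.Statements.S7022
import Mathlib
import Groth.Agent.Lib.Helper23.DRingPC7
-- import your own Groth.Agent.* helpers here

set_option autoImplicit false
universe u
open CategoryTheory CategoryTheory.Limits
attribute [local instance] HasDerivedCategory.standard
open DerCA

namespace Groth.Agent.S7022

/-- Let R → A be a finite type homomorphism of commutative rings, m an integer and K, L objects of the
derived category D(A). Whenever the direct sum K ⊕ L is pseudo-coherent relative to R in degree m,
both summands K and L are too; likewise, relative pseudo-coherence of K ⊕ L (in every degree) passes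
to K and to L. -/
theorem result {R A : Type u} [CommRing R] [CommRing A] [Algebra R A] [Algebra.FiniteType R A] (m : ℤ) (K L : Dual.D A) [HasBinaryBiproduct K L] :
    (DerCA.IsRelPseudoCoherent R A m (K ⊞ L) → DerCA.IsRelPseudoCoherent R A m K ∧ DerCA.IsRelPseudoCoherent R A m L) ∧
      (DerCA.IsRelPseudoCoherentAll R A (K ⊞ L) →
        DerCA.IsRelPseudoCoherentAll R A K ∧ DerCA.IsRelPseudoCoherentAll R A L) := by
  obtain ⟨n, α, hα⟩ := Groth.Agent.Lib.helper23.DRingPC.exists_presentation (R := R) (A := A)
  have br : ∀ (m' : ℤ) (K : Dual.D A), _ := fun m' K =>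
    Groth.Agent.Lib.helper23.DRingPC.isRelPseudoCoherent_iff_npc α hα m' K
  haveI : PreservesBinaryBiproducts ((ModuleCat.restrictScalars.{u}
      (α : MvPolynomial (Fin n) R →+* A)).mapDerivedCategory) :=
    preservesBinaryBiproducts_of_preservesBiproducts _
  have key : ∀ m' : ℤ, DerCA.IsRelPseudoCoherent R A m' (K ⊞ L) →
      DerCA.IsRelPseudoCoherent R A m' K ∧ DerCA.IsRelPseudoCoherent R A m' L := by
    intro m' h
    have h1 := ((br _ _).1 h).of_iso (((ModuleCat.restrictScalars.{u}
      (α : MvPolynomial (Fin n) R →+* A)).mapDerivedCategory).mapBiprod K L)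
    have h2 := (Groth.Agent.Lib.helper23.PCohCore.NPC.biprod_iff
      (Groth.Agent.Lib.helper23.DRingPC.FF (MvPolynomial (Fin n) R))
      (Groth.Agent.Lib.helper23.DRingPC.FF_sum _) (Groth.Agent.Lib.helper23.DRingPC.FF_hqs _)
      (Groth.Agent.Lib.helper23.DRingPC.FF_hql _) m' _ _).1 h1
    exact ⟨(br _ _).2 h2.1, (br _ _).2 h2.2⟩
  exact ⟨key m, fun h => ⟨fun m' => (key m' (h m')).1, fun m' => (key m' (h m')).2⟩⟩

end Groth.Agent.S7022
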