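import Groth.Statements.S7024
import Mathlib
import Groth.Agent.Lib.Helper23.DRingPC7
-- import your own Groth.Agent.* helpers here

set_option autoImplicit false
universe u
open CategoryTheory CategoryTheory.Limits
attribute [local instance] HasDerivedCategory.standard
open DerCA

namespace Groth.Agent.S7024

/-- Let R → A be a finite type homomorphism of commutative rings, m an integer and K an object of D(A)
whose cohomology vanishes in large degrees. If the module H^i(K) is (m - i)-pseudo-coherent relative
to R for every i, then K is m-pseudo-coherent relative to R. Moreover, K is relatively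
pseudo-coherent over R as soon as each cohomology module H^i(K) has this property over R. -/
theorem result {R A : Type u} [CommRing R] [CommRing A] [Algebra R A] [Algebra.FiniteType R A] (m : ℤ) (K : Dual.D A)
    (hb : ∃ b : ℤ, ∀ i : ℤ, b < i → Subsingleton (Dual.HD A K i)) :
    ((∀ i : ℤ, DerCA.IsRelPseudoCoherentModule R A (m - i) (Dual.HD A K i)) → DerCA.IsRelPseudoCoherent R A m K) ∧
      ((∀ i : ℤ, DerCA.IsRelPseudoCoherentModuleAll R A (Dual.HD A K i)) → DerCA.IsRelPseudoCoherentAll R A K) := by
  obtain ⟨n, α, hα⟩ := Groth.Agent.Lib.helper23.DRingPC.exists_presentation (R := R) (A := A)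
  obtain ⟨b, hb⟩ := hb
  have br : ∀ (m' : ℤ) (K : Dual.D A), _ := fun m' K =>
    Groth.Agent.Lib.helper23.DRingPC.isRelPseudoCoherent_iff_npc α hα m' K
  refine ⟨fun h => (br _ _).2 ?_, fun h m' => (br _ _).2 ?_⟩
  · exact Groth.Agent.Lib.helper23.DRingPC.npc_restrict_of_homology _ m K b hb
      (fun i => (br _ _).1 (h i))
  · exact Groth.Agent.Lib.helper23.DRingPC.npc_restrict_of_homology _ m' K b hb
      (fun i => (br _ _).1 (h i (m' - i)))

end Groth.Agent.S7024
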