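import Groth.Statements.S7026
import Mathlib
import Groth.Agent.Lib.Helper23.DRingPC8
-- import your own Groth.Agent.* helpers here

set_option autoImplicit false
universe u
open CategoryTheory CategoryTheory.Limits
attribute [local instance] HasDerivedCategory.standard
open DerCA

namespace Groth.Agent.S7026

/-- Let R be a Noetherian commutative ring, R → A a finite type ring homomorphism, m an integer, K an
object of D(A) and M an A-module. Then: m-pseudo-coherence of K relative to R is equivalent to
H^i(K) vanishing for all large i together with H^i(K) being a finitely generated A-module for each i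
≥ m; pseudo-coherence of K relative to R (every degree) is equivalent to the same with H^i(K)
finitely generated for every i; and the A-module M is pseudo-coherent relative to R exactly when M
is finitely generated. -/
theorem result {R A : Type u} [CommRing R]
    [IsNoetherianRing R] [CommRing A] [Algebra R A] [Algebra.FiniteType R A] (m : ℤ) (K : Dual.D A)
    (M : Type u) [AddCommGroup M] [Module A M] :
    (DerCA.IsRelPseudoCoherent R A m K ↔
      (∃ b : ℤ, ∀ i : ℤ, b < i → Subsingleton (Dual.HD A K i)) ∧ ∀ i : ℤ, m ≤ i → Module.Finite A (Dual.HD A K i)) ∧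
    (DerCA.IsRelPseudoCoherentAll R A K ↔
      (∃ b : ℤ, ∀ i : ℤ, b < i → Subsingleton (Dual.HD A K i)) ∧ ∀ i : ℤ, Module.Finite A (Dual.HD A K i)) ∧
    (DerCA.IsRelPseudoCoherentModuleAll R A M ↔ Module.Finite A M) := by
  obtain ⟨n, α, hα⟩ := Groth.Agent.Lib.helper23.DRingPC.exists_presentation (R := R) (A := A)
  have key : ∀ (m' : ℤ), _ := fun m' =>
    Groth.Agent.Lib.helper23.DRingPC.isRelPseudoCoherent_iff_of_noetherian α hα m' K
  refine ⟨key m, ?_, ?_⟩
  · constructor
    · intro h
      exact ⟨((key 0).1 (h 0)).1, fun i => ((key i).1 (h i)).2 i le_rfl⟩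
    · rintro ⟨h1, h2⟩ m'
      exact (key m').2 ⟨h1, fun i _ => h2 i⟩
  · exact Groth.Agent.Lib.helper23.DRingPC.isRelPseudoCoherentModuleAll_iff_of_noetherian α hα
      (ModuleCat.of A M)

end Groth.Agent.S7026
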