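import Groth.Statements.S7027
import Mathlib
import Groth.Agent.Lib.Helper23.TA5
-- import your own Groth.Agent.* helpers here

set_option autoImplicit false
universe u
open CategoryTheory CategoryTheory.Limits
attribute [local instance] HasDerivedCategory.standard
open DRing

namespace Groth.Agent.S7027

open CategoryTheory.Pretriangulated in
/-- Let R be a commutative ring such that the derived tensor product - ⊗^L_R M exists on D(R) for every
R-module M, let a, b be integers and K → L → M → K[1] a distinguished triangle in D(R). (1) Tor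
amplitude of K in [a+1, b+1] together with tor amplitude of L in [a, b] gives tor amplitude of M in
[a, b]. (2) Tor amplitude of both K and M in [a, b] gives tor amplitude of L in [a, b]. (3) Tor
amplitude of L in [a+1, b+1] together with tor amplitude of M in [a, b] gives tor amplitude of K in
[a+1, b+1]. (Tor amplitude is taken in the flat-representative sense: isomorphic in D(R) to a
complex of flat modules vanishing outside the interval.) -/
theorem result (R : Type u) [CommRing R] [∀ M : ModuleCat.{u} R, DRing.HasLTensor R M] (a b : ℤ)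
    (T : Triangle (Dual.D R)) (hT : T ∈ distinguishedTriangles) :
    (DRing.HasTorAmplitudeIn R (a + 1) (b + 1) T.obj₁ → DRing.HasTorAmplitudeIn R a b T.obj₂ →
        DRing.HasTorAmplitudeIn R a b T.obj₃) ∧
      (DRing.HasTorAmplitudeIn R a b T.obj₁ → DRing.HasTorAmplitudeIn R a b T.obj₃ →
        DRing.HasTorAmplitudeIn R a b T.obj₂) ∧
      (DRing.HasTorAmplitudeIn R (a + 1) (b + 1) T.obj₂ → DRing.HasTorAmplitudeIn R a b T.obj₃ →
        DRing.HasTorAmplitudeIn R (a + 1) (b + 1) T.obj₁) := by
  refine ⟨fun h₁ h₂ => ?_, fun h₁ h₃ => ?_, fun h₂ h₃ => ?_⟩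
  · exact Groth.Agent.Lib.helper23.TA.hasTorAmplitudeIn_cone T hT h₁ h₂ (by omega) le_rfl
      (by omega) le_rfl
  · have hT' := inv_rot_of_distTriang _ hT
    have h₃' := Groth.Agent.Lib.helper23.TA.hasTorAmplitudeIn_shift h₃ (-1)
    exact Groth.Agent.Lib.helper23.TA.hasTorAmplitudeIn_cone T.invRotate hT' h₃' h₁ (by omega) le_rfl
      (by omega) le_rfl
  · have hT' := rot_of_distTriang _ hT
    have h := Groth.Agent.Lib.helper23.TA.hasTorAmplitudeIn_cone T.rotate hT' h₂ h₃
      (a := a) (b := b) (by omega) le_rfl (by omega) le_rfl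
    have h' := Groth.Agent.Lib.helper23.TA.hasTorAmplitudeIn_shift h (-1)
    have e : ((T.obj₁⟦(1 : ℤ)⟧)⟦(-1 : ℤ)⟧) ≅ T.obj₁ :=
      (shiftEquiv (Dual.D R) (1 : ℤ)).unitIso.symm.app T.obj₁
    have h'' := Groth.Agent.Lib.helper23.TA.hasTorAmplitudeIn_of_iso e h'
    have e1 : a - -1 = a + 1 := by ring
    have e2 : b - -1 = b + 1 := by ring
    rwa [e1, e2] at h''

end Groth.Agent.S7027
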