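import Groth.Statements.S7028
import Mathlib
import Groth.Agent.Lib.Helper23.PerfCone
-- import your own Groth.Agent.* helpers here

set_option autoImplicit false
universe u
open CategoryTheory CategoryTheory.Limits
attribute [local instance] HasDerivedCategory.standard
open DRing

namespace Groth.Agent.S7028

open CategoryTheory.Pretriangulated in
/-- Let R be a commutative ring such that the derived tensor product - ⊗^L_R M exists on D(R) for every
R-module M, and let K → L → M → K[1] be a distinguished triangle in D(R). If two out of K, L, M are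
perfect, then so is the third. -/
theorem result (R : Type u) [CommRing R] [∀ M : ModuleCat.{u} R, DRing.HasLTensor R M]
    (T : Triangle (Dual.D R)) (hT : T ∈ distinguishedTriangles) :
    (DRing.IsPerfect R T.obj₁ → DRing.IsPerfect R T.obj₂ → DRing.IsPerfect R T.obj₃) ∧
      (DRing.IsPerfect R T.obj₁ → DRing.IsPerfect R T.obj₃ → DRing.IsPerfect R T.obj₂) ∧
      (DRing.IsPerfect R T.obj₂ → DRing.IsPerfect R T.obj₃ → DRing.IsPerfect R T.obj₁) := by
  let P : ModuleCat.{u} R → Prop := fun M => Module.Finite R M ∧ Module.Projective R M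
  have hproj : ∀ M, P M → Projective M := fun M h => by
    haveI := h.1
    haveI := h.2
    exact (IsProjective.iff_projective (R := R) M).1 h.2
  have hprod : ∀ (M N X : ModuleCat.{u} R), P M → P N → (X ≃ₗ[R] (M × N)) → P X := by
    intro M N X hM hN e
    haveI := hM.1
    haveI := hM.2
    haveI := hN.1
    haveI := hN.2
    exact ⟨Module.Finite.equiv e.symm, Module.Projective.of_equiv e.symm⟩
  have toRep : ∀ K : Dual.D R, DRing.IsPerfect R K → Groth.Agent.Lib.helper23.PerfCone.Rep P True K :=
    fun K => fun ⟨E, a, b, hV, hFF, he⟩ => ⟨E, a, b, fun i hi => hV i (hi.imp (fun h => h.2) id), hFF, he⟩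
  have from_ : ∀ K : Dual.D R, Groth.Agent.Lib.helper23.PerfCone.Rep P True K → DRing.IsPerfect R K :=
    fun K => fun ⟨E, a, b, h1, h2, he⟩ => ⟨E, a, b, fun i hi => h1 i (hi.imp (fun h => ⟨trivial, h⟩) id), h2, he⟩
  obtain ⟨h1, h2, h3⟩ := Groth.Agent.Lib.helper23.PerfCone.Rep.two_of_three (lo := True) hproj hprod T hT
  exact ⟨fun a b => from_ _ (h1 (toRep _ a) (toRep _ b)), fun a b => from_ _ (h2 (toRep _ a) (toRep _ b)),
    fun a b => from_ _ (h3 (toRep _ a) (toRep _ b))⟩

end Groth.Agent.S7028
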