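import Groth.Statements.S7037
import Mathlib
import Groth.Agent.Lib.Helper13.LTenCx1
import Groth.Agent.Lib.Helper13.LTenCx3
import Groth.Agent.Lib.Helper13.KFlat9
-- import your own Groth.Agent.* helpers here

set_option autoImplicit false
universe u
open CategoryTheory CategoryTheory.Limits
attribute [local instance] HasDerivedCategory.standard
open DRing

namespace Groth.Agent.S7037

/-- Let R be a commutative ring, K a pseudo-coherent object of D(R), and L a cochain complex of
R-modules which is pseudo-coherent as an object of D(R); assume the derived tensor product - ⊗^L_R L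
exists on D(R). Then K ⊗^L_R L is pseudo-coherent. -/
theorem result (R : Type u) [CommRing R] (K : Dual.D R) (hK : DRing.IsPseudoCoherent' R K)
    (L : DRing.Cx R) (hL : DRing.IsPseudoCoherent' R (DRing.toD L)) [DRing.HasLTensorCx R L] :
    DRing.IsPseudoCoherent' R ((DRing.LTensorCx R L).obj K) := by
  obtain ⟨E₁, b₁, hV₁, hP₁, ⟨i₁⟩⟩ := hK
  obtain ⟨E₂, b₂, hV₂, hP₂, ⟨i₂⟩⟩ := hL
  have hE₁ : Groth.Agent.Lib.helper13.KFlat.IsKFlatR E₁ :=
    Groth.Agent.Lib.helper13.KFlat.isKFlatR_of_bounded_above E₁ b₁ hV₁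
      (fun n => by
        haveI := (hP₁ n).2
        infer_instance)
  obtain ⟨e⟩ := Groth.Agent.Lib.helper13.LTenCx.nonempty_LTensorCx_iso L E₂ E₁ hE₁ i₂.symm i₁
  exact ⟨MonoidalCategory.tensorObj E₁ E₂, b₁ + b₂,
    Groth.Agent.Lib.helper13.LTenCx.vanishesAbove_tensor hV₁ hV₂,
    Groth.Agent.Lib.helper13.LTenCx.termwiseFiniteFree_tensor hV₁ hV₂ hP₁ hP₂, ⟨e.symm⟩⟩

end Groth.Agent.S7037
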