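import Groth.Statements.S7040
import Mathlib.Algebra.Homology.ShortComplex.ModuleCat
import Mathlib.Algebra.Category.ModuleCat.EpiMono

set_option autoImplicit false
universe u
open CategoryTheory
open LocCoh

namespace Groth.Agent.S7040

theorem key2 {R : Type u} [CommRing R] (I J : Ideal R) (hJ : J.FG)
    {M : Type u} [AddCommGroup M] [Module R M] (m : M)
    (h : ∀ a ∈ J, ∃ n : ℕ, ∀ b ∈ I ^ n, b • a • m = 0) :
    ∃ K : ℕ, ∀ c ∈ I ^ K * J, c • m = 0 := by
  classical
  obtain ⟨S, hS⟩ := hJ
  have h1 : ∀ s ∈ S, ∃ n : ℕ, ∀ b ∈ I ^ n, b • s • m = 0 :=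
    fun s hs => h s (hS ▸ Ideal.subset_span hs)
  choose! n hn using h1
  refine ⟨S.sup n, fun c hc => ?_⟩
  refine Submodule.mul_induction_on hc ?_ ?_
  · intro b hb a ha
    rw [← hS] at ha
    refine Submodule.span_induction (p := fun a _ => (b * a) • m = 0) ?_ ?_ ?_ ?_ ha
    · intro s hs
      rw [mul_smul]
      exact hn s hs b (Ideal.pow_le_pow_right (Finset.le_sup hs) hb)
    · simp
    · intro x y _ _ hx hy
      rw [mul_add, add_smul, hx, hy, add_zero]
    · intro r x _ hx
      rw [smul_eq_mul, mul_left_comm, mul_smul, hx, smul_zero]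
  · intro x y hx hy
    rw [add_smul, hx, hy, add_zero]

/-- For a finitely generated ideal I of a commutative ring R, the property of being an I-power torsion
module (every element killed by a power of I) is a Serre class in the category of R-modules: it
holds for 0 and is closed under subobjects, quotients and extensions. -/
theorem result {R : Type u} [CommRing R] (I : Ideal R) (hI : I.FG) :
    ObjectProperty.IsSerreClass (C := ModuleCat.{u} R) (fun M => LocCoh.IsPowerTorsion I M) := by
  refine { exists_zero := ?_, prop_of_mono := ?_, prop_of_epi := ?_, prop_X₂_of_shortExact := ?_ }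
  · refine ⟨ModuleCat.of R PUnit, ModuleCat.isZero_of_subsingleton _, fun m => ⟨0, fun a _ => ?_⟩⟩
    exact Subsingleton.elim _ _
  · intro X Y f hf hY m
    obtain ⟨n, hn⟩ := hY (f.hom m)
    refine ⟨n, fun a ha => ?_⟩
    apply (ModuleCat.mono_iff_injective f).mp hf
    have := hn a ha
    rw [← map_smul] at this
    rw [this, map_zero]
  · intro X Y f hf hX y
    obtain ⟨x, rfl⟩ := (ModuleCat.epi_iff_surjective f).mp hf y
    obtain ⟨n, hn⟩ := hX x
    refine ⟨n, fun a ha => ?_⟩
    have : a • f.hom x = 0 := by rw [← map_smul, hn a ha, map_zero]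
    exact this
  · intro S hS h₁ h₃ m
    have hex : Function.Exact S.f.hom S.g.hom :=
      (CategoryTheory.ShortComplex.ShortExact.moduleCat_exact_iff_function_exact S).mp hS.exact
    obtain ⟨n, hn⟩ := h₃ (S.g.hom m)
    have hJ : (I ^ n).FG := hI.pow
    obtain ⟨K, hK⟩ := key2 I (I ^ n) hJ m (by
      intro a ha
      have h0 : S.g.hom (a • m) = 0 := by rw [map_smul]; exact hn a ha
      obtain ⟨l, hl⟩ := (hex (a • m)).mp h0
      obtain ⟨k, hk⟩ := h₁ l
      refine ⟨k, fun b hb => ?_⟩
      rw [← hl, ← map_smul, hk b hb, map_zero])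
    refine ⟨K + n, fun c hc => ?_⟩
    rw [pow_add] at hc
    exact hK c hc

end Groth.Agent.S7040
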