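import Groth.Statements.S7041
import Mathlib
-- import your own Groth.Agent.* helpers here

set_option autoImplicit false
universe u
open TensorProduct
open LocCoh

namespace Groth.Agent.S7041

section
variable {R R' : Type u} [CommRing R] [CommRing R'] [Algebra R R'] (I : Ideal R)
  (M : Type u) [AddCommGroup M] [Module R M]

/-- `(n, r)` is a valid presentation of the action of `r'` on `m`. -/
def Valid (r' : R') (m : M) (n : ℕ) (r : R) : Prop :=
  0 < n ∧ (∀ a ∈ I ^ n, a • m = 0) ∧
    algebraMap R R' r - r' ∈ Ideal.map (algebraMap R R') (I ^ n)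

variable (hq : ∀ n : ℕ, 0 < n → Function.Bijective
      (Ideal.quotientMap (Ideal.map (algebraMap R R') (I ^ n)) (algebraMap R R') Ideal.le_comap_map))
include hq

theorem mem_of_algebraMap_mem {n : ℕ} (hn : 0 < n) {r : R}
    (h : algebraMap R R' r ∈ Ideal.map (algebraMap R R') (I ^ n)) : r ∈ I ^ n := by
  rw [← Ideal.Quotient.eq_zero_iff_mem]
  apply (hq n hn).1
  rw [Ideal.quotientMap_mk, map_zero, Ideal.Quotient.eq_zero_iff_mem]
  exact h

theorem valid_unique {r' : R'} {m : M} {n n' : ℕ} {r r₂ : R} (h : Valid I M r' m n r)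
    (h' : Valid I M r' m n' r₂) : r • m = r₂ • m := by
  obtain ⟨hn, hk, hr⟩ := h
  obtain ⟨hn', hk', hr'⟩ := h'
  rw [← sub_eq_zero, ← sub_smul]
  rcases le_total n n' with hle | hle
  · apply hk
    apply mem_of_algebraMap_mem I hq hn
    have h1 : algebraMap R R' r₂ - r' ∈ Ideal.map (algebraMap R R') (I ^ n) :=
      Ideal.map_mono (Ideal.pow_le_pow_right hle) hr'
    have := Ideal.sub_mem _ hr h1
    rw [map_sub]
    convert this using 1
    ring
  · apply hk'
    apply mem_of_algebraMap_mem I hq hn'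
    have h1 : algebraMap R R' r - r' ∈ Ideal.map (algebraMap R R') (I ^ n') :=
      Ideal.map_mono (Ideal.pow_le_pow_right hle) hr
    have := Ideal.sub_mem _ h1 hr'
    rw [map_sub]
    convert this using 1
    ring

theorem valid_exists (hM : LocCoh.IsPowerTorsion I M) (r' : R') (m : M) :
    ∃ n r, Valid I M r' m n r := by
  obtain ⟨n, hn⟩ := hM m
  obtain ⟨x, hx⟩ := (hq (n + 1) (Nat.succ_pos n)).2 (Ideal.Quotient.mk _ r')
  obtain ⟨r, rfl⟩ := Ideal.Quotient.mk_surjective x
  refine ⟨n + 1, r, Nat.succ_pos n, fun a ha => hn a (Ideal.pow_le_pow_right (Nat.le_succ n) ha), ?_⟩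
  rw [Ideal.quotientMap_mk] at hx
  exact Ideal.Quotient.eq.mp hx

theorem exists_approx {n : ℕ} (hn : 0 < n) (r' : R') :
    ∃ r : R, algebraMap R R' r - r' ∈ Ideal.map (algebraMap R R') (I ^ n) := by
  obtain ⟨x, hx⟩ := (hq n hn).2 (Ideal.Quotient.mk _ r')
  obtain ⟨r, rfl⟩ := Ideal.Quotient.mk_surjective x
  rw [Ideal.quotientMap_mk] at hx
  exact ⟨r, Ideal.Quotient.eq.mp hx⟩

/-- the action of `R'` on a power-torsion module -/
noncomputable def act (hM : LocCoh.IsPowerTorsion I M) (r' : R') (m : M) : M :=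
  (Classical.choose (Classical.choose_spec (valid_exists I M hq hM r' m))) • m

theorem act_eq (hM : LocCoh.IsPowerTorsion I M) {r' : R'} {m : M} {n : ℕ} {r : R}
    (h : Valid I M r' m n r) : act I M hq hM r' m = r • m :=
  valid_unique I M hq (Classical.choose_spec (Classical.choose_spec (valid_exists I M hq hM r' m))) h

theorem exists_kill (hM : LocCoh.IsPowerTorsion I M) (m₁ m₂ : M) :
    ∃ n : ℕ, 0 < n ∧ (∀ a ∈ I ^ n, a • m₁ = 0) ∧ (∀ a ∈ I ^ n, a • m₂ = 0) := by
  obtain ⟨n₁, h₁⟩ := hM m₁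
  obtain ⟨n₂, h₂⟩ := hM m₂
  refine ⟨n₁ + n₂ + 1, Nat.succ_pos _, fun a ha => h₁ a (Ideal.pow_le_pow_right (by omega) ha),
    fun a ha => h₂ a (Ideal.pow_le_pow_right (by omega) ha)⟩

theorem act_add_right (hM : LocCoh.IsPowerTorsion I M) (r' : R') (m₁ m₂ : M) :
    act I M hq hM r' (m₁ + m₂) = act I M hq hM r' m₁ + act I M hq hM r' m₂ := by
  obtain ⟨n, hn, hk₁, hk₂⟩ := exists_kill I M hq hM m₁ m₂
  obtain ⟨r, hr⟩ := exists_approx I hq hn r'
  rw [act_eq I M hq hM (⟨hn, hk₁, hr⟩ : Valid I M r' m₁ n r),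
    act_eq I M hq hM (⟨hn, hk₂, hr⟩ : Valid I M r' m₂ n r),
    act_eq I M hq hM (⟨hn, fun a ha => by rw [smul_add, hk₁ a ha, hk₂ a ha, add_zero], hr⟩ :
      Valid I M r' (m₁ + m₂) n r), smul_add]

theorem act_smul_right (hM : LocCoh.IsPowerTorsion I M) (r' : R') (c : R) (m : M) :
    act I M hq hM r' (c • m) = c • act I M hq hM r' m := by
  obtain ⟨n, r, hn, hk, hr⟩ := valid_exists I M hq hM r' m
  rw [act_eq I M hq hM (⟨hn, hk, hr⟩ : Valid I M r' m n r),
    act_eq I M hq hM (⟨hn, fun a ha => by rw [smul_comm, hk a ha, smul_zero], hr⟩ :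
      Valid I M r' (c • m) n r), smul_comm]

theorem act_add_left (hM : LocCoh.IsPowerTorsion I M) (r'₁ r'₂ : R') (m : M) :
    act I M hq hM (r'₁ + r'₂) m = act I M hq hM r'₁ m + act I M hq hM r'₂ m := by
  obtain ⟨n, hn, hk, -⟩ := exists_kill I M hq hM m m
  obtain ⟨r₁, hr₁⟩ := exists_approx I hq hn r'₁
  obtain ⟨r₂, hr₂⟩ := exists_approx I hq hn r'₂
  rw [act_eq I M hq hM (⟨hn, hk, hr₁⟩ : Valid I M r'₁ m n r₁),
    act_eq I M hq hM (⟨hn, hk, hr₂⟩ : Valid I M r'₂ m n r₂),
    act_eq I M hq hM (⟨hn, hk, by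
      have := Ideal.add_mem _ hr₁ hr₂
      rw [map_add]
      convert this using 1
      ring⟩ : Valid I M (r'₁ + r'₂) m n (r₁ + r₂)), add_smul]

theorem act_smul_left (hM : LocCoh.IsPowerTorsion I M) (c : R) (r' : R') (m : M) :
    act I M hq hM (c • r') m = c • act I M hq hM r' m := by
  obtain ⟨n, r, hn, hk, hr⟩ := valid_exists I M hq hM r' m
  rw [act_eq I M hq hM (⟨hn, hk, hr⟩ : Valid I M r' m n r),
    act_eq I M hq hM (⟨hn, hk, by
      have := Ideal.mul_mem_left _ (algebraMap R R' c) hr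
      rw [map_mul, Algebra.smul_def]
      convert this using 1
      ring⟩ : Valid I M (c • r') m n (c * r)), mul_smul]

theorem act_one (hM : LocCoh.IsPowerTorsion I M) (m : M) : act I M hq hM 1 m = m := by
  obtain ⟨n, hn, hk, -⟩ := exists_kill I M hq hM m m
  rw [act_eq I M hq hM (⟨hn, hk, by rw [map_one, sub_self]; exact Ideal.zero_mem _⟩ :
    Valid I M (1 : R') m n 1), one_smul]

end

/-- Let R → R' be a homomorphism of commutative rings and I an ideal of R such that the induced map
R/I^n → R'/I^n R' is bijective for every n > 0. Then for every R-module M in which every element is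
killed by a power of I, the map M → R' ⊗_R M sending m to 1 ⊗ m is bijective. -/
theorem result {R R' : Type u} [CommRing R] [CommRing R'] [Algebra R R']
    (I : Ideal R)
    (hq : ∀ n : ℕ, 0 < n → Function.Bijective
      (Ideal.quotientMap (Ideal.map (algebraMap R R') (I ^ n)) (algebraMap R R') Ideal.le_comap_map))
    (M : Type u) [AddCommGroup M] [Module R M] (hM : LocCoh.IsPowerTorsion I M) :
    Function.Bijective (fun m : M => (1 : R') ⊗ₜ[R] m) := by
  constructor
  · -- injective via left inverse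
    have hleft : Function.LeftInverse
        (TensorProduct.lift (LinearMap.mk₂ R (act I M hq hM) (act_add_left I M hq hM)
          (act_smul_left I M hq hM) (act_add_right I M hq hM)
          (fun c r' m => act_smul_right I M hq hM r' c m)))
        (fun m : M => (1 : R') ⊗ₜ[R] m) := by
      intro m
      rw [TensorProduct.lift.tmul, LinearMap.mk₂_apply, act_one]
    exact hleft.injective
  · intro z
    induction z using TensorProduct.induction_on with
    | zero => exact ⟨0, TensorProduct.tmul_zero _ _⟩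
    | tmul r' m =>
      obtain ⟨n, r, hn, hk, hr⟩ := valid_exists I M hq hM r' m
      refine ⟨r • m, ?_⟩
      have hzero : ∀ x ∈ Ideal.map (algebraMap R R') (I ^ n), x ⊗ₜ[R] m = 0 := by
        intro x hx
        refine Submodule.span_induction ?_ ?_ ?_ ?_ hx
        · rintro _ ⟨a, ha, rfl⟩
          rw [Algebra.algebraMap_eq_smul_one, TensorProduct.smul_tmul, hk a ha,
            TensorProduct.tmul_zero]
        · exact TensorProduct.zero_tmul _ _
        · intro x y _ _ hx hy
          rw [TensorProduct.add_tmul, hx, hy, add_zero]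
        · intro c x _ hx
          rw [smul_eq_mul, ← smul_eq_mul, ← TensorProduct.smul_tmul', hx, smul_zero]
      have h1 := hzero _ hr
      rw [TensorProduct.sub_tmul, sub_eq_zero] at h1
      show (1 : R') ⊗ₜ[R] (r • m) = r' ⊗ₜ[R] m
      rw [← h1, Algebra.algebraMap_eq_smul_one, TensorProduct.smul_tmul]
    | add x y hx hy =>
      obtain ⟨m₁, h₁⟩ := hx
      obtain ⟨m₂, h₂⟩ := hy
      exact ⟨m₁ + m₂, by show (1 : R') ⊗ₜ[R] (m₁ + m₂) = x + y; rw [TensorProduct.tmul_add]; exact congrArg₂ _ h₁ h₂⟩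

end Groth.Agent.S7041
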