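import Groth.Statements.S7042
import Mathlib
import Groth.Agent.Lib.Helper23.DCompl7
-- import your own Groth.Agent.* helpers here

set_option autoImplicit false
universe u
attribute [local instance] HasDerivedCategory.standard
open DRing

namespace Groth.Agent.S7042

/-- Let I be a finitely generated ideal of a commutative ring A and let M be an A-module which, placed
in degree 0, is derived complete with respect to I, and in which every element is killed by a power
of I. Then a single power of I kills M. -/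
theorem result {A : Type u} [CommRing A]
    (I : Ideal A) (hI : I.FG) (M : Type u) [AddCommGroup M] [Module A M]
    (hc : DRing.IsDerivedComplete I (Dual.inD A M)) (ht : LocCoh.IsPowerTorsion I M) :
    ∃ n : ℕ, I ^ n • (⊤ : Submodule A M) = ⊥ := by
  classical
  obtain ⟨s, rfl⟩ := hI
  have hb : ∀ f ∈ s, ∃ n : ℕ, ∀ x : M, f ^ n • x = 0 := fun f hf =>
    Groth.Agent.Lib.helper23.DCompl.bounded_of_torsion f (hc f (Ideal.subset_span hf) 0)
      (hc f (Ideal.subset_span hf) 1) (fun x => by
        obtain ⟨n, hn⟩ := ht x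
        exact ⟨n, hn _ (Ideal.pow_mem_pow (Ideal.subset_span hf) n)⟩)
  have hN : ∃ N : ℕ, ∀ f ∈ s, ∀ x : M, f ^ N • x = 0 := by
    choose! n hn using hb
    refine ⟨s.sup n, fun f hf x => ?_⟩
    have : n f ≤ s.sup n := Finset.le_sup hf
    rw [← Nat.sub_add_cancel this, pow_add, mul_smul, hn f hf, smul_zero]
  obtain ⟨N, hN⟩ := hN
  obtain ⟨k, hk⟩ : ∃ k : ℕ, (Ideal.span (s : Set A)) ^ k ≤
      Ideal.span ((fun a : A => a ^ N) '' (s : Set A)) := by
    apply Ideal.exists_pow_le_of_le_radical_of_fg
    · rw [Ideal.span_le]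
      intro a ha
      exact ⟨N, Ideal.subset_span ⟨a, ha, rfl⟩⟩
    · exact ⟨s, rfl⟩
  refine ⟨k, ?_⟩
  rw [eq_bot_iff]
  intro x hx
  have hx' := Submodule.smul_mono_left (N := (⊤ : Submodule A M)) hk hx
  obtain ⟨m, hm⟩ := Groth.Agent.Lib.helper23.DCompl.exists_sum_of_mem s N x hx'
  rw [Submodule.mem_bot, hm]
  exact Finset.sum_eq_zero (fun g hg => hN g hg _)

end Groth.Agent.S7042
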