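import Groth.Statements.S7043
import Mathlib
import Groth.Agent.Lib.Helper23.DCompl2
-- import your own Groth.Agent.* helpers here

set_option autoImplicit false
universe u
attribute [local instance] HasDerivedCategory.standard
open DRing

namespace Groth.Agent.S7043

/-- Let f be an element of a commutative ring A and let M be an A-module which, placed in degree 0, is
derived complete with respect to the ideal (f). Then the ideal J = ⋂ f^n A annihilates the submodule
⋂ f^n M, which is the kernel of M → lim M/f^n M. (The case M = A says that J has square zero when A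
itself is derived complete.) -/
theorem result {A : Type u} [CommRing A] (f : A)
    (M : Type u) [AddCommGroup M] [Module A M]
    (hc : DRing.IsDerivedComplete (Ideal.span {f}) (Dual.inD A M)) :
    (⨅ n : ℕ, Ideal.span {f ^ n}) • (⨅ n : ℕ, (Ideal.span {f ^ n}) • (⊤ : Submodule A M)) = (⊥ : Submodule A M) := by
  have h0 : Groth.Agent.Lib.helper23.DCompl.En f 0 M :=
    hc f (Ideal.mem_span_singleton_self f) 0
  rw [eq_bot_iff, Submodule.smul_le]
  intro a ha x hx
  rw [Submodule.mem_bot]
  have ha' : ∀ n : ℕ, ∃ b : A, a = f ^ n * b := fun n => by
    have := (Submodule.mem_iInf _).1 ha n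
    rwa [Ideal.mem_span_singleton] at this
  have hx' : ∀ n : ℕ, ∃ z : M, f ^ n • z = x := fun n => by
    have := (Submodule.mem_iInf _).1 hx n
    rw [Submodule.ideal_span_singleton_smul, Submodule.mem_smul_pointwise_iff_exists] at this
    obtain ⟨z, _, hz⟩ := this
    exact ⟨z, hz⟩
  choose b hb using ha'
  choose z hz using hx'
  have hcompat : ∀ k, f • (b (k + 1) • x) = b k • x := by
    intro k
    have e : (f * b (k + 1) - b k) • x = 0 := by
      rw [← hz k, smul_smul]
      have : (f * b (k + 1) - b k) * f ^ k = 0 := by
        have h1 := hb (k + 1)
        have h2 := hb k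
        rw [pow_succ] at h1
        linear_combination h2 - h1
      rw [this, zero_smul]
    rw [sub_smul, sub_eq_zero, mul_smul] at e
    exact e
  have := Groth.Agent.Lib.helper23.DCompl.compat_zero f h0 (fun k => b k • x) hcompat
  have hb0 : b 0 = a := by
    have := hb 0
    rw [pow_zero, one_mul] at this
    exact this.symm
  rwa [hb0] at this

end Groth.Agent.S7043
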