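import Groth.Statements.S7046
import Mathlib
import Groth.Agent.Lib.Helper23.DCompl8
-- import your own Groth.Agent.* helpers here

set_option autoImplicit false
universe u
attribute [local instance] HasDerivedCategory.standard
open DRing

namespace Groth.Agent.S7046

/-- A reduced commutative ring A which, placed in degree 0 of D(A), is derived complete with respect to
a finitely generated ideal I is I-adically complete, i.e. separated and complete for the I-adic
topology. -/
theorem result {A : Type u} [CommRing A] [IsReduced A]
    (I : Ideal A) (hI : I.FG) (hc : DRing.IsDerivedComplete I (Dual.inD A A)) :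
    IsAdicComplete I A := by
  obtain ⟨s, rfl⟩ := hI
  have h := Groth.Agent.Lib.helper23.DCompl.cyclic_bound s A (1 : A)
    (fun x => ⟨x, by simp⟩) (fun f hf n => hc f hf n)
  have hT : Ideal.torsionOf A A (1 : A) = ⊥ := by
    ext a
    rw [Ideal.mem_torsionOf_iff]
    simp
  rw [hT] at h
  simp only [sup_bot_eq] at h
  have hpre : IsPrecomplete (Ideal.span (s : Set A)) A :=
    Groth.Agent.Lib.helper23.DCompl.isPrecomplete_of_En s
      (fun f hf => hc f (Ideal.subset_span hf) 1)
  have hhaus : IsHausdorff (Ideal.span (s : Set A)) A := by
    refine ⟨fun x hx => ?_⟩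
    have hxJ : x ∈ ⨅ m : ℕ, (Ideal.span (s : Set A)) ^ m := by
      rw [Submodule.mem_iInf]
      intro m
      have := hx m
      rw [SModEq.zero] at this
      simpa using this
    have : x ^ (2 ^ s.card) ∈ (⊥ : Ideal A) := h (Ideal.pow_mem_pow hxJ _)
    rw [Ideal.mem_bot] at this
    exact IsReduced.eq_zero x ⟨_, this⟩
  exact { toIsHausdorff := hhaus, toIsPrecomplete := hpre }

end Groth.Agent.S7046
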