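import Groth.Statements.S7047
import Mathlib
import Groth.Agent.Lib.Helper23.DCompl11
-- import your own Groth.Agent.* helpers here

set_option autoImplicit false
universe u
attribute [local instance] HasDerivedCategory.standard
open DRing

namespace Groth.Agent.S7047

/-- For a commutative ring A and an object K of D(A), the set of elements f of A such that every
morphism from A_f (placed in degree 0) to any shift K[n] vanishes is a radical ideal of A. -/
theorem result {A : Type u} [CommRing A] (K : Dual.D A) :
    ∃ J : Ideal A, J.IsRadical ∧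
      (J : Set A) = {f : A | ∀ n : ℤ, Subsingleton (Dual.inD A (Localization.Away f) ⟶ K⟦n⟧)} := by
  have hS : ∀ f : A, (∀ n : ℤ, Subsingleton (Dual.inD A (Localization.Away f) ⟶ K⟦n⟧)) ↔
      ∀ n : ℤ, Groth.Agent.Lib.helper23.DCompl.SeqC f
        ((DerivedCategory.homologyFunctor (ModuleCat.{u} A) n).obj K) :=
    fun f => Groth.Agent.Lib.helper23.DCompl.general_criterion f K
  let J : Ideal A :=
    { carrier := {f : A | ∀ n : ℤ, Subsingleton (Dual.inD A (Localization.Away f) ⟶ K⟦n⟧)}
      add_mem' := by
        intro f g hf hg
        rw [Set.mem_ofPred_eq, hS] at hf hg ⊢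
        exact fun n => (hf n).add (hg n)
      zero_mem' := by
        rw [Set.mem_ofPred_eq, hS]
        exact fun n => Groth.Agent.Lib.helper23.DCompl.SeqC.zero
      smul_mem' := by
        intro g f hf
        rw [Set.mem_ofPred_eq, hS] at hf ⊢
        exact fun n => (hf n).mul g }
  refine ⟨J, ?_, rfl⟩
  intro f hf
  obtain ⟨m, hm⟩ := hf
  rcases Nat.eq_zero_or_pos m with rfl | hpos
  · rw [pow_zero] at hm
    have := J.smul_mem f hm
    simpa using this
  · intro n
    exact Groth.Agent.Lib.helper23.DCompl.subsingleton_away_of_pow f m hpos _ (hm n)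

end Groth.Agent.S7047
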