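import Groth.Statements.S7048
import Mathlib
import Groth.Agent.Lib.Helper23.DCompl5
-- import your own Groth.Agent.* helpers here

set_option autoImplicit false
universe u
attribute [local instance] HasDerivedCategory.standard
open DRing

namespace Groth.Agent.S7048

/-- For a commutative ring A, an ideal I and an A-module M which is I-adically complete, the object M[0]
of D(A) is derived complete with respect to I. -/
theorem result {A : Type u} [CommRing A] (I : Ideal A)
    (M : Type u) [AddCommGroup M] [Module A M] [IsAdicComplete I M] :
    DRing.IsDerivedComplete I (Dual.inD A M) := by
  intro f hf n
  exact Groth.Agent.Lib.helper23.DCompl.En_of_complete I f hf n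

end Groth.Agent.S7048
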