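import Groth.Statements.S7052
import Mathlib
-- import your own Groth.Agent.* helpers here

set_option autoImplicit false
universe u
attribute [local instance] HasDerivedCategory.standard
open DRing

namespace Groth.Agent.S7052

open CategoryTheory CategoryTheory.Limits in
theorem main {A : Type u} [CommRing A] (I : Ideal A)
    (M : Type u) [AddCommGroup M] [Module A M] (M₁ : Submodule A M)
    (h1 : DRing.IsDerivedComplete I (Dual.inD A M₁)) (h3 : DRing.IsDerivedComplete I (Dual.inD A (M ⧸ M₁))) :
    DRing.IsDerivedComplete I (Dual.inD A M) := by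
  intro f hf n
  let S : ShortComplex (ModuleCat.{u} A) :=
    ShortComplex.mk (ModuleCat.ofHom M₁.subtype) (ModuleCat.ofHom M₁.mkQ)
      (by ext x; simp)
  have hS : S.ShortExact := by
    have hex : S.Exact := by
      rw [ShortComplex.moduleCat_exact_iff_range_eq_ker]
      simp [S]
    have hmono : Mono S.f := (ModuleCat.mono_iff_injective _).2 M₁.injective_subtype
    have hepi : Epi S.g := (ModuleCat.epi_iff_surjective _).2 M₁.mkQ_surjective
    exact ShortComplex.ShortExact.mk' hex hmono hepi
  have hT := hS.singleTriangle_distinguished
  have hTn := Pretriangulated.Triangle.shift_distinguished _ hT n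
  suffices ∀ φ : Dual.inD A (Localization.Away f) ⟶ (Dual.inD A M)⟦n⟧, φ = 0 from
    ⟨fun a b => by rw [this a, this b]⟩
  intro φ
  have h3' := h3 f hf n
  have h1' := h1 f hf n
  obtain ⟨ψ, hψ⟩ := Pretriangulated.Triangle.coyoneda_exact₂ _ hTn φ (Subsingleton.elim (h := h3') _ _)
  have : ψ = 0 := Subsingleton.elim (h := h1') _ _
  rw [hψ, this]
  exact zero_comp

/-- For a commutative ring A, an ideal I, an A-module M and a submodule M₁ such that both M₁ and M/M₁
(placed in degree 0) are derived complete with respect to I, the module M is derived complete with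
respect to I. -/
theorem result {A : Type u} [CommRing A] (I : Ideal A)
    (M : Type u) [AddCommGroup M] [Module A M] (M₁ : Submodule A M)
    (h1 : DRing.IsDerivedComplete I (Dual.inD A M₁)) (h3 : DRing.IsDerivedComplete I (Dual.inD A (M ⧸ M₁))) :
    DRing.IsDerivedComplete I (Dual.inD A M) := by
  exact main I M M₁ h1 h3

end Groth.Agent.S7052
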