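import Groth.Statements.S7054
import Mathlib
import Groth.Agent.Lib.Helper23.DCompl10
-- import your own Groth.Agent.* helpers here

set_option autoImplicit false
universe u
attribute [local instance] HasDerivedCategory.standard
open DRing

namespace Groth.Agent.S7054

/-- For a commutative ring A and an ideal I such that A, placed in degree 0, is derived complete with
respect to I, every object of D(A) isomorphic to a bounded above complex of finite free A-modules is
derived complete with respect to I. -/
theorem result {A : Type u} [CommRing A] (I : Ideal A)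
    (hA : DRing.IsDerivedComplete I (Dual.inD A A)) (K : Dual.D A) (hK : DRing.IsPseudoCoherent' A K) :
    DRing.IsDerivedComplete I K := by
  obtain ⟨E, b, _, hff, ⟨e⟩⟩ := hK
  intro f hf
  have hAf : Groth.Agent.Lib.helper23.DCompl.SeqC f A :=
    Groth.Agent.Lib.helper23.DCompl.seqC_of_En f (hA f hf 0) (hA f hf 1)
  have hE : ∀ i, Groth.Agent.Lib.helper23.DCompl.SeqC f (E.X i) := fun i => by
    have h1 := (hff i).1
    have h2 := (hff i).2
    exact Groth.Agent.Lib.helper23.DCompl.seqC_of_finite_free f hAf _
  have hQ := Groth.Agent.Lib.helper23.DCompl.seqC_homology f E hE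
  have hK : ∀ n : ℤ, Groth.Agent.Lib.helper23.DCompl.SeqC f
      ((DerivedCategory.homologyFunctor (ModuleCat.{u} A) n).obj K) := fun n =>
    (hQ n).of_equiv
      ((DerivedCategory.homologyFunctor (ModuleCat.{u} A) n).mapIso e).toLinearEquiv
  exact (Groth.Agent.Lib.helper23.DCompl.general_criterion f K).2 hK

end Groth.Agent.S7054
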