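import Groth.Statements.S7057
import Mathlib
import Groth.Agent.Lib.Helper23.DCompl12
-- import your own Groth.Agent.* helpers here

set_option autoImplicit false
universe u
attribute [local instance] HasDerivedCategory.standard
open DRing

namespace Groth.Agent.S7057

/-- For a homomorphism of commutative rings A → B, an ideal I of A and an object L of D(B), L is derived
complete with respect to the extended ideal IB if and only if L viewed in D(A) by restriction of
scalars is derived complete with respect to I. -/
theorem result {A B : Type u} [CommRing A] [CommRing B] (φ : A →+* B)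
    (I : Ideal A) (L : Dual.D B) :
    DRing.IsDerivedComplete (I.map φ) L ↔ DRing.IsDerivedComplete I ((DRing.restrictD φ).obj L) := by
  have hB : ∀ g : B, (∀ n : ℤ, Subsingleton (Dual.inD B (Localization.Away g) ⟶ L⟦n⟧)) ↔
      ∀ n : ℤ, Groth.Agent.Lib.helper23.DCompl.SeqC g
        ((DerivedCategory.homologyFunctor (ModuleCat.{u} B) n).obj L) :=
    fun g => Groth.Agent.Lib.helper23.DCompl.general_criterion g L
  have hA : ∀ f : A, (∀ n : ℤ, Subsingleton (Dual.inD A (Localization.Away f) ⟶
        ((DRing.restrictD φ).obj L)⟦n⟧)) ↔
      ∀ n : ℤ, Groth.Agent.Lib.helper23.DCompl.SeqC (φ f)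
        ((DerivedCategory.homologyFunctor (ModuleCat.{u} B) n).obj L) :=
    fun f => (Groth.Agent.Lib.helper23.DCompl.general_criterion f _).trans
      (Groth.Agent.Lib.helper23.DCompl.restrict_criterion φ f L)
  constructor
  · intro h f hf
    exact (hA f).2 ((hB (φ f)).1 (h (φ f) (Ideal.mem_map_of_mem φ hf)))
  · intro h
    let J : Ideal B :=
      { carrier := {g : B | ∀ n : ℤ, Groth.Agent.Lib.helper23.DCompl.SeqC g
          ((DerivedCategory.homologyFunctor (ModuleCat.{u} B) n).obj L)}
        add_mem' := fun hf hg n => (hf n).add (hg n)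
        zero_mem' := fun n => Groth.Agent.Lib.helper23.DCompl.SeqC.zero
        smul_mem' := fun g f hf n => (hf n).mul g }
    have hle : I.map φ ≤ J := by
      rw [Ideal.map_le_iff_le_comap]
      intro f hf
      exact (hA f).1 (h f hf)
    intro g hg
    exact (hB g).2 (hle hg)

end Groth.Agent.S7057
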