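import Groth.Statements.S7098
import Groth.Agent.Lib.Helper25.DerAdjK
import Groth.Agent.Lib.Helper25.DerBC2
import Groth.Agent.Lib.Helper25.KInjMain
import Groth.Agent.Lib.Helper1.ProjHom

set_option autoImplicit false
universe u
attribute [local instance] HasDerivedCategory.standard
open DRing

namespace Groth.Agent.S7098

open CategoryTheory CategoryTheory.Limits DerivedCategory

section adj

variable {A B : Type u} [CommRing A] [CommRing B] (φ : A →+* B)

/-- K-injective resolutions of complexes of modules. -/
theorem hKinj (K : CochainComplex (ModuleCat.{u} A) ℤ) :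
    ∃ (I : CochainComplex (ModuleCat.{u} A) ℤ) (f : K ⟶ I), I.IsKInjective ∧ QuasiIso f := by
  obtain ⟨I, f, hI, hf, -, -⟩ := Groth.Agent.Lib.Helper25.KInjMain.exists_kInjective_resolution K
  exact ⟨I, f, hI, hf⟩

instance : (ModuleCat.coextendScalars.{u, u, u} φ).Additive :=
  (ModuleCat.restrictCoextendScalarsAdj.{u, u, u} φ).right_adjoint_additive

/-- restriction of scalars on derived categories has a right adjoint. -/
theorem exists_adj :
    ∃ (RG : Dual.D A ⥤ Dual.D B), Nonempty (DRing.restrictD φ ⊣ RG) := by
  have hK := hKinj (A := A)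
  have hD : ((ModuleCat.coextendScalars.{u, u, u} φ).mapHomotopyCategory (ComplexShape.up ℤ) ⋙
      DerivedCategory.Qh).HasRightDerivedFunctor
      (HomotopyCategory.quasiIso (ModuleCat.{u} A) (ComplexShape.up ℤ)) :=
    Groth.Agent.Lib.Helper25.DerBC.hasRightDerivedFunctor hK _
  obtain ⟨adj', -⟩ := Groth.Agent.Lib.Helper25.DerAdjK.exists_adjunction hK
    (ModuleCat.restrictCoextendScalarsAdj.{u, u, u} φ)
    (((ModuleCat.coextendScalars.{u, u, u} φ).mapHomotopyCategory (ComplexShape.up ℤ) ⋙
      DerivedCategory.Qh).totalRightDerived DerivedCategory.Qh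
      (HomotopyCategory.quasiIso (ModuleCat.{u} A) (ComplexShape.up ℤ)))
    (((ModuleCat.coextendScalars.{u, u, u} φ).mapHomotopyCategory (ComplexShape.up ℤ) ⋙
      DerivedCategory.Qh).totalRightDerivedUnit DerivedCategory.Qh
      (HomotopyCategory.quasiIso (ModuleCat.{u} A) (ComplexShape.up ℤ)))
  exact ⟨_, ⟨adj'⟩⟩

end adj

section general

open Groth.Agent.H1.SingleHom Groth.Agent.H1.ProjHom

variable {𝒜 : Type (u + 1)} [Category.{u} 𝒜] [Abelian 𝒜]

/-- `Hom(M[0], K[j]) ≃ Hom(M[-j], K)`. -/
noncomputable def homShiftEquiv (M : 𝒜) (K : DerivedCategory 𝒜) (j : ℤ) :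
    ((singleFunctor 𝒜 0).obj M ⟶ K⟦j⟧) ≃ ((singleFunctor 𝒜 j).obj M ⟶ K) :=
  (((singleFunctors 𝒜).shiftIso j 0 j (add_zero j)).app M).homFromEquiv.symm.trans
    (Functor.FullyFaithful.ofFullyFaithful (shiftFunctor (DerivedCategory 𝒜) j)).homEquiv.symm

lemma isZero_of_hom_single {B : Type u} [CommRing B] (X : Dual.D B)
    (h : ∀ j : ℤ, Subsingleton
      ((singleFunctor (ModuleCat.{u} B) j).obj (ModuleCat.of B B) ⟶ X)) : IsZero X := by
  have hP : Projective (ModuleCat.of B B) := ModuleCat.projective_of_free (Module.Free.chooseBasis B B)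
  have hH : ∀ j, IsZero ((homologyFunctor (ModuleCat.{u} B) j).obj X) := by
    intro j
    have : Subsingleton ((homologyFunctor (ModuleCat.{u} B) j).obj X) := by
      refine ⟨fun x y => ?_⟩
      have key : ∀ z : (homologyFunctor (ModuleCat.{u} B) j).obj X, z = 0 := by
        intro z
        let g : ModuleCat.of B B ⟶ (homologyFunctor (ModuleCat.{u} B) j).obj X :=
          ModuleCat.ofHom (LinearMap.toSpanSingleton B _ z)
        obtain ⟨σ, hσ⟩ := (rho_bijective (P := ModuleCat.of B B) X j).2 g
        have hσ0 : σ = 0 := (h j).elim _ _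
        rw [hσ0, rho_zero] at hσ
        have : g (1 : B) = z := by
          simp [g]
        rw [← this, ← hσ]
        rfl
      rw [key x, key y]
    exact ModuleCat.isZero_of_subsingleton _
  have h1 : X.IsLE 0 := (isLE_iff X 0).2 (fun i _ => hH i)
  have h2 : X.IsGE 1 := (isGE_iff X 1).2 (fun i _ => hH i)
  exact TStructure.t.isZero X 0 1

end general

section main

variable {A B : Type u} [CommRing A] [CommRing B] [Algebra A B]

/-- `B` as an `A`-module is the restriction of scalars of `B` as a module over itself. -/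
noncomputable def resIso :
    (ModuleCat.restrictScalars.{u} (algebraMap A B)).obj (ModuleCat.of B B) ≅ ModuleCat.of A B where
  hom := ModuleCat.ofHom (X := (ModuleCat.restrictScalars.{u} (algebraMap A B)).obj (ModuleCat.of B B))
    (Y := ModuleCat.of A B)
    { toFun := fun x => x
      map_add' := fun _ _ => rfl
      map_smul' := fun a (x : B) => (Algebra.smul_def a x).symm }
  inv := ModuleCat.ofHom (X := ModuleCat.of A B)
    (Y := (ModuleCat.restrictScalars.{u} (algebraMap A B)).obj (ModuleCat.of B B))
    { toFun := fun x => x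
      map_add' := fun _ _ => rfl
      map_smul' := fun a (x : B) => Algebra.smul_def a x }
  hom_inv_id := by ext x; rfl
  inv_hom_id := by ext x; rfl

/-- the key equivalence. -/
noncomputable def keyEquiv (K : Dual.D A) (j : ℤ) :
    (Dual.inD A B ⟶ K⟦j⟧) ≃
      ((DRing.restrictD (algebraMap A B)).obj
        ((singleFunctor (ModuleCat.{u} B) j).obj (ModuleCat.of B B)) ⟶ K) :=
  (homShiftEquiv (ModuleCat.of A B) K j).trans
    (((singleFunctor (ModuleCat.{u} A) j).mapIso (resIso (A := A) (B := B)).symm ≪≫
      (((ModuleCat.restrictScalars.{u} (algebraMap A B)).mapDerivedCategorySingleFunctor j).app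
        (ModuleCat.of B B)).symm).homFromEquiv)

theorem main (K : Dual.D A) :
    (∀ n : ℤ, Subsingleton (Dual.inD A B ⟶ K⟦n⟧)) ↔
      ∀ E : Dual.D B, Subsingleton ((DRing.restrictD (algebraMap A B)).obj E ⟶ K) := by
  constructor
  · intro h1 E
    obtain ⟨RG, ⟨adj⟩⟩ := exists_adj (algebraMap A B)
    have hz : IsZero (RG.obj K) := by
      apply isZero_of_hom_single
      intro j
      have := h1 j
      exact ((adj.homEquiv _ _).symm.trans (keyEquiv K j).symm).subsingleton
    have : Subsingleton (E ⟶ RG.obj K) := ⟨fun a b => hz.eq_of_tgt a b⟩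
    exact (adj.homEquiv E K).subsingleton
  · intro h2 n
    have := h2 ((singleFunctor (ModuleCat.{u} B) n).obj (ModuleCat.of B B))
    exact (keyEquiv K n).subsingleton

end main

/-- (1)⇔(2): let A be a commutative ring, f an element of A and K an object of D(A). Then every morphism
A_f[0] → K[n] vanishes for every integer n if and only if every morphism E → K vanishes for every
object E of D(A) obtained by restriction of scalars from D(A_f). -/
theorem result {A : Type u} [CommRing A] (f : A)
    (K : Dual.D A) :
    (∀ n : ℤ, Subsingleton (Dual.inD A (Localization.Away f) ⟶ K⟦n⟧)) ↔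
      ∀ E : Dual.D (Localization.Away f),
        Subsingleton ((DRing.restrictD (algebraMap A (Localization.Away f))).obj E ⟶ K) := by
  exact main (B := Localization.Away f) K

end Groth.Agent.S7098
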