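import Groth.Statements.S7058
import Mathlib
import Groth.Agent.S7098

set_option autoImplicit false
universe u
attribute [local instance] HasDerivedCategory.standard
open CategoryTheory
open DRing

namespace Groth.Agent.S7058

open TensorProduct

section

variable {A B : Type u} [CommRing A] [CommRing B] (φ : A →+* B) (f : A)

theorem mk_bijective
    (hB : @IsLocalization A _ (Submonoid.powers f) B _ φ.toAlgebra)
    (M : Type u) [AddCommGroup M] [Module A M]
    (hM : Function.Bijective (fun x : M => f • x)) :
    letI := φ.toAlgebra
    Function.Bijective (fun m : M => (1 : B) ⊗ₜ[A] m) := by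
  let _ := φ.toAlgebra
  have hloc : IsLocalizedModule (Submonoid.powers f)
      (TensorProduct.mk A B M 1) :=
    (isLocalizedModule_iff_isBaseChange (Submonoid.powers f) B _).mpr
      (TensorProduct.isBaseChange A M B)
  have hpow : ∀ n : ℕ, Function.Bijective (fun x : M => f ^ n • x) := by
    intro n
    induction n with
    | zero => 
      have : (fun x : M => f ^ 0 • x) = id := by funext x; simp
      rw [this]; exact Function.bijective_id
    | succ n ih =>
      have : (fun x : M => f ^ (n + 1) • x) = (fun x : M => f ^ n • x) ∘ (fun x : M => f • x) := by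
        funext x
        simp [pow_succ, mul_smul]
      rw [this]
      exact ih.comp hM
  constructor
  · intro m m' h
    obtain ⟨⟨c, n, rfl⟩, hc⟩ := hloc.exists_of_eq (x₁ := m) (x₂ := m') h
    exact (hpow n).1 hc
  · intro y
    obtain ⟨⟨m, ⟨c, n, rfl⟩⟩, hy⟩ := hloc.surj y
    obtain ⟨m', hm'⟩ := (hpow n).2 m
    refine ⟨m', ?_⟩
    have hu := hloc.map_units ⟨f ^ n, n, rfl⟩
    have hinj : Function.Injective
        (algebraMap A (Module.End A (B ⊗[A] M)) (f ^ n)) :=
      ((Module.End.isUnit_iff _).mp hu).1
    apply hinj
    simp only [Module.algebraMap_end_apply]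
    change f ^ n • (TensorProduct.mk A B M 1 m') = _
    rw [← map_smul]
    replace hy : f ^ n • y = (TensorProduct.mk A B M 1) m := hy
    simp only at hm'
    rw [hm']
    exact hy.symm

theorem isIso_unit (hB : @IsLocalization A _ (Submonoid.powers f) B _ φ.toAlgebra)
    (M : ModuleCat.{u} A) (hM : Function.Bijective (fun x : M => f • x)) :
    IsIso ((ModuleCat.extendRestrictScalarsAdj.{u,u,u} φ).unit.app M) := by
  rw [ConcreteCategory.isIso_iff_bijective]
  exact mk_bijective φ f hB M hM

end

theorem isLoc' {A : Type u} [CommRing A] (f : A) :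
    @IsLocalization A _ (Submonoid.powers f) (Localization.Away f) _
      (algebraMap A (Localization.Away f)).toAlgebra :=
  (@isLocalization_iff_isLocalizationMap A _ (Submonoid.powers f) (Localization.Away f) _
    (algebraMap A (Localization.Away f)).toAlgebra).mpr
    ((isLocalization_iff_isLocalizationMap (M := Submonoid.powers f)
      (S := Localization.Away f)).mp inferInstance)


section cx

variable {A B : Type u} [CommRing A] [CommRing B] (φ : A →+* B) (f : A)

instance : (ModuleCat.extendScalars.{u,u,u} φ).Additive :=
  (ModuleCat.extendRestrictScalarsAdj.{u,u,u} φ).left_adjoint_additive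

/-- the complex of `B`-modules `B ⊗ K`. -/
noncomputable abbrev extCx (K : DRing.Cx A) : DRing.Cx B :=
  ((ModuleCat.extendScalars.{u,u,u} φ).mapHomologicalComplex (ComplexShape.up ℤ)).obj K

noncomputable def cxIso (hB : @IsLocalization A _ (Submonoid.powers f) B _ φ.toAlgebra)
    (K : DRing.Cx A) (hK : ∀ i : ℤ, Function.Bijective (fun x : K.X i => f • x)) :
    K ≅ ((ModuleCat.restrictScalars.{u,u,u} φ).mapHomologicalComplex (ComplexShape.up ℤ)).obj
      (extCx φ K) :=
  HomologicalComplex.Hom.isoOfComponents
    (fun i => @asIso _ _ _ _ ((ModuleCat.extendRestrictScalarsAdj.{u,u,u} φ).unit.app (K.X i))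
      (isIso_unit φ f hB (K.X i) (hK i)))
    (fun i j _ => by
      dsimp
      exact (ModuleCat.extendRestrictScalarsAdj.{u,u,u} φ).unit.naturality (K.d i j))

noncomputable def dIso (hB : @IsLocalization A _ (Submonoid.powers f) B _ φ.toAlgebra)
    (K : DRing.Cx A) (hK : ∀ i : ℤ, Function.Bijective (fun x : K.X i => f • x)) :
    DRing.toD K ≅ (DRing.restrictD φ).obj (DRing.toD (extCx φ K)) :=
  DerivedCategory.Q.mapIso (cxIso φ f hB K hK) ≪≫
    ((ModuleCat.restrictScalars.{u,u,u} φ).mapDerivedCategoryFactors.app (extCx φ K)).symm

end cx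

section final

variable {A : Type u} [CommRing A] (I : Ideal A) [DRing.HasDerivedCompletion I]

theorem main (K : DRing.Cx A) (f : A) (hf : f ∈ I)
    (hK : ∀ i : ℤ, Function.Bijective (fun x : K.X i => f • x)) :
    Limits.IsZero ((DRing.derivedCompletion I).obj (DRing.toD K)).obj := by
  set L := (DRing.derivedCompletion I).obj (DRing.toD K) with hL
  have hLc : DRing.IsDerivedComplete I L.obj := L.property
  have h1 := (Groth.Agent.S7098.result f L.obj).mp (hLc f hf)
    (DRing.toD (extCx (algebraMap A (Localization.Away f)) K))
  have h2 : Subsingleton (DRing.toD K ⟶ L.obj) :=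
    ((dIso _ f (isLoc' f) K hK).homFromEquiv (Z := L.obj)).subsingleton
  have h3 : Subsingleton (L ⟶ L) :=
    @Equiv.subsingleton _ _ ((DRing.derivedCompletionAdj I).homEquiv (DRing.toD K) L) h2
  have h4 : Subsingleton (L.obj ⟶ L.obj) :=
    ((ObjectProperty.fullyFaithfulι (DRing.IsDerivedComplete I)).homEquiv (X := L) (Y := L)).symm.subsingleton
  rw [Limits.IsZero.iff_id_eq_zero]
  exact Subsingleton.elim _ _

end final

/-- Let A be a commutative ring, I a finitely generated ideal, and assume the derived completion functor
(left adjoint to the inclusion of derived complete objects of D(A)) exists. If K is a cochain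
complex of A-modules and some f in I acts bijectively on every term of K, then the derived
completion of K is zero. -/
theorem result {A : Type u} [CommRing A] (I : Ideal A) (hI : I.FG)
    [DRing.HasDerivedCompletion I] (K : DRing.Cx A) (f : A) (hf : f ∈ I)
    (hK : ∀ i : ℤ, Function.Bijective (fun x : K.X i => f • x)) :
    Limits.IsZero ((DRing.derivedCompletion I).obj (DRing.toD K)).obj := by
  exact main I K f hf hK

end Groth.Agent.S7058
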