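import Groth.Statements.S7062
import Groth.Agent.Lib.Helper7.GlueTor

set_option autoImplicit false
universe u
open EtGlue

namespace Groth.Agent.S7062


open Groth.Agent.Lib.helper7

/-- For a glueing pair (R → R', f), i.e. R/f^nR → R'/f^nR' is bijective for all n > 0 and the sequence 0
→ R → R' ⊕ R_f → R'_f → 0 is exact, the group Tor_1^R(R', f^n R) vanishes for every n > 0 (Tor
computed by resolving the second argument, the ideal f^n R). -/
theorem result {R R' : Type u} [CommRing R] [CommRing R'] [Algebra R R']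
    (f : R) (h : EtGlue.IsGlueingPair R R' f) (n : ℕ) (hn : 0 < n) :
    Subsingleton (DRing.Tor R 1 R' ↥(Ideal.span ({f ^ n} : Set R))) := by
  obtain ⟨π, hπ⟩ : ∃ π : R →ₗ[R] ↥(Ideal.span ({f ^ n} : Set R)),
      ∀ r, ((π r : ↥(Ideal.span ({f ^ n} : Set R))) : R) = r * f ^ n :=
    ⟨LinearMap.codRestrict _ (LinearMap.toSpanSingleton R R (f ^ n))
      (fun r => Ideal.mem_span_singleton'.mpr ⟨r, rfl⟩), fun r => rfl⟩
  apply GlueTor.tor_one_of_tors_ker h _ π
  · rintro ⟨y, hy⟩
    obtain ⟨r, rfl⟩ := Ideal.mem_span_singleton'.mp hy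
    exact ⟨r, Subtype.ext (hπ r)⟩
  · intro r hr
    refine ⟨n, ?_⟩
    have := congrArg Subtype.val hr
    rw [hπ] at this
    rw [mul_comm]
    exact this

end Groth.Agent.S7062
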