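import Groth.Statements.S7065
import Mathlib

set_option autoImplicit false
universe u
open EtGlue

namespace Groth.Agent.S7065

/-- Let R → R' be a homomorphism of commutative rings and f an element of R such that the induced map
R/fR → R'/fR' is bijective. Then Spec(R') ⊔ Spec(R_f) → Spec(R) is surjective: every prime of R is
the contraction of a prime of R' or of a prime of R_f. -/
theorem result {R R' : Type u} [CommRing R] [CommRing R']
    [Algebra R R'] (f : R)
    (hq : Function.Bijective
      (Ideal.quotientMap (Ideal.map (algebraMap R R') (Ideal.span {f})) (algebraMap R R') Ideal.le_comap_map))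
    (p : PrimeSpectrum R) :
    (∃ q : PrimeSpectrum R', PrimeSpectrum.comap (algebraMap R R') q = p) ∨
      ∃ q : PrimeSpectrum (Localization.Away f), PrimeSpectrum.comap (algebraMap R (Localization.Away f)) q = p := by
  by_cases hfp : f ∈ p.asIdeal
  · left
    set I : Ideal R := Ideal.span {f} with hI
    set I' : Ideal R' := Ideal.map (algebraMap R R') I with hI'
    have hIp : I ≤ p.asIdeal := by
      rw [hI, Ideal.span_singleton_le_iff_mem]
      exact hfp
    let e : (R ⧸ I) ≃+* (R' ⧸ I') := RingEquiv.ofBijective _ hq
    let ψ : R' →+* R ⧸ I := (e.symm : (R' ⧸ I') →+* (R ⧸ I)).comp (Ideal.Quotient.mk I')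
    have hψ : ψ.comp (algebraMap R R') = Ideal.Quotient.mk I := by
      ext x
      simp only [ψ, RingHom.comp_apply, RingHom.coe_coe]
      rw [RingEquiv.symm_apply_eq]
      simp only [e, RingEquiv.ofBijective_apply, Ideal.quotientMap_mk]
      rfl
    have hprime : (p.asIdeal.map (Ideal.Quotient.mk I)).IsPrime := by
      apply Ideal.map_isPrime_of_surjective Ideal.Quotient.mk_surjective
      rw [Ideal.mk_ker]
      exact hIp
    refine ⟨⟨(p.asIdeal.map (Ideal.Quotient.mk I)).comap ψ, Ideal.comap_isPrime _ _⟩, ?_⟩
    ext1
    change ((p.asIdeal.map (Ideal.Quotient.mk I)).comap ψ).comap (algebraMap R R') = p.asIdeal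
    rw [Ideal.comap_comap, hψ, Ideal.comap_map_of_surjective _ Ideal.Quotient.mk_surjective,
      ← RingHom.ker_eq_comap_bot, Ideal.mk_ker, sup_eq_left]
    exact hIp
  · right
    have : p ∈ Set.range (PrimeSpectrum.comap (algebraMap R (Localization.Away f))) := by
      rw [PrimeSpectrum.localization_away_comap_range (Localization.Away f) f]
      exact hfp
    exact this

end Groth.Agent.S7065
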