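import Groth.Statements.S7066
import Groth.Agent.Lib.Helper23.RegFibre2
import Groth.Agent.Lib.Helper23.RegGap
import Groth.Agent.Lib.Helper3.LciPerf

set_option autoImplicit false
universe u
attribute [local instance] HasDerivedCategory.standard
open MoreMor CategoryTheory TensorProduct Groth.Agent.Lib.helper23.PCohCore Groth.Agent.Lib.helper23.DRingPC Groth.Agent.Lib.helper23.TA Groth.Agent.Lib.helper23.PCohAmp

namespace Groth.Agent.S7066

/-- A homomorphism of commutative rings A → B is perfect, i.e. pseudo-coherent with B of finite tor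
dimension as an A-module, if and only if B is a quotient of a polynomial ring A[x_1, …, x_n] over
which B is a perfect module, i.e. B placed in degree 0 is isomorphic in the derived category of the
polynomial ring to a bounded complex of finite projective modules. -/
theorem result (A B : Type u) [CommRing A] [CommRing B] [Algebra A B] :
    MoreMor.IsPerfectHom A B ↔
      ∃ (n : ℕ) (φ : MvPolynomial (Fin n) A →ₐ[A] B), Function.Surjective φ ∧
        letI := φ.toRingHom.toAlgebra
        DRing.IsPerfectModule (MvPolynomial (Fin n) A) B := by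
  constructor
  · rintro ⟨⟨n, φ, hφ, hpc⟩, d, hd⟩
    refine ⟨n, φ, hφ, ?_⟩
    letI := φ.toRingHom.toAlgebra
    haveI : IsScalarTower A (MvPolynomial (Fin n) A) B :=
      IsScalarTower.of_algebraMap_eq' φ.comp_algebraMap.symm
    have hgl : ∀ (p : PrimeSpectrum A) (M : Type u) [AddCommGroup M]
        [Module (TensorProduct A p.asIdeal.ResidueField (MvPolynomial (Fin n) A)) M],
        HasProjectiveDimensionLT (ModuleCat.of
          (TensorProduct A p.asIdeal.ResidueField (MvPolynomial (Fin n) A)) M) (n + 1) := by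
      intro p M _ _
      let κ := p.asIdeal.ResidueField
      let e : (κ ⊗[A] MvPolynomial (Fin n) A) ≃ₐ[κ] MvPolynomial (Fin n) κ :=
        MvPolynomial.algebraTensorAlgEquiv A κ
      haveI : IsRegularRing (MvPolynomial (Fin n) κ) := inferInstance
      haveI : IsRegularRing (κ ⊗[A] MvPolynomial (Fin n) A) :=
        IsRegularRing.of_ringEquiv e.symm.toRingEquiv
      have hd : ringKrullDim (κ ⊗[A] MvPolynomial (Fin n) A) = n := by
        rw [ringKrullDim_eq_of_ringEquiv e.toRingEquiv,
          MvPolynomial.ringKrullDim_of_isNoetherianRing]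
        simp
      exact Groth.Agent.Lib.helper23.RegGap.hasProjectiveDimensionLT_of_regular
        (fun q => inferInstance) n hd _
    have iso2 : (DRing.restrictD (algebraMap A (MvPolynomial (Fin n) A))).obj
        (Dual.inD (MvPolynomial (Fin n) A) B) ≅ Dual.inD A B :=
      ((ModuleCat.restrictScalars.{u}
        (algebraMap A (MvPolynomial (Fin n) A))).mapDerivedCategorySingleFunctor 0).app _ ≪≫
        (DerivedCategory.singleFunctor _ 0).mapIso
          (Groth.Agent.Lib.helper3.PCQuot.restrictOfIso (algebraMap A (MvPolynomial (Fin n) A)) B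
            (fun a b => (algebraMap_smul (MvPolynomial (Fin n) A) a b).symm)).symm
    have h3 : DRing.HasTorAmplitudeIn A (-(d : ℤ)) 0 (Dual.inD A B) :=
      (torVan_iff_hasTorAmplitudeIn d _).1 ((hasTorDimLE_iff_torVan d B).1 hd)
    have hKa := hasTorAmplitudeIn_of_iso iso2.symm h3
    exact (Groth.Agent.Lib.helper23.RegFibre.isPerfect_of_fibres_globalDimension
      (A := A) (B := MvPolynomial (Fin n) A) n hgl (-(d : ℤ)) 0
      (Dual.inD (MvPolynomial (Fin n) A) B) hpc hKa).1
  · rintro ⟨n, φ, hφ, hperf⟩
    letI := φ.toRingHom.toAlgebra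
    haveI : IsScalarTower A (MvPolynomial (Fin n) A) B :=
      IsScalarTower.of_algebraMap_eq' φ.comp_algebraMap.symm
    obtain ⟨hnpc, a, b, hab⟩ := npc_and_hasTorAmplitudeIn_of_isPerfect _ hperf
    refine ⟨⟨n, φ, hφ, (isPseudoCoherent'_iff_npc _ _).2 hnpc⟩, (-a).toNat, ?_⟩
    set d : ℕ := (-a).toNat with hd
    have h1 : DRing.HasTorAmplitudeIn (MvPolynomial (Fin n) A) (-(d : ℤ)) 0
        (Dual.inD (MvPolynomial (Fin n) A) B) := by
      have h0 := hasTorAmplitudeIn_mono hab (a' := -(d : ℤ)) (b' := max b 0) (by omega)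
        (le_max_left _ _)
      rw [hasTorAmplitudeIn_iff_amp] at h0 ⊢
      exact amp_truncate_to (FlatP (MvPolynomial (Fin n) A)) flatP_kernel _ 0 _ _
        (fun i hi => DerivedCategory.isZero_of_isLE _ 0 i hi) h0
    have hP : DRing.HasTorAmplitudeIn A (-((0 : ℕ) : ℤ)) 0
        (Dual.inD A (MvPolynomial (Fin n) A)) := by
      simpa using hasTorAmplitudeIn_single_flat (ModuleCat.of A (MvPolynomial (Fin n) A))
        (inferInstanceAs (Module.Flat A (MvPolynomial (Fin n) A))) 0
    have h2 := hasTorAmplitudeIn_restrict (A := A) (B := MvPolynomial (Fin n) A) 0 hP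
      (Dual.inD (MvPolynomial (Fin n) A) B) (-(d : ℤ)) 0 h1
    have iso2 : (DRing.restrictD (algebraMap A (MvPolynomial (Fin n) A))).obj
        (Dual.inD (MvPolynomial (Fin n) A) B) ≅ Dual.inD A B :=
      ((ModuleCat.restrictScalars.{u}
        (algebraMap A (MvPolynomial (Fin n) A))).mapDerivedCategorySingleFunctor 0).app _ ≪≫
        (DerivedCategory.singleFunctor _ 0).mapIso
          (Groth.Agent.Lib.helper3.PCQuot.restrictOfIso (algebraMap A (MvPolynomial (Fin n) A)) B
            (fun a b => (algebraMap_smul (MvPolynomial (Fin n) A) a b).symm)).symm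
    have h3 := hasTorAmplitudeIn_of_iso iso2 h2
    simp only [Nat.cast_zero, sub_zero] at h3
    exact (hasTorDimLE_iff_torVan d B).2 ((torVan_iff_hasTorAmplitudeIn d _).2 h3)

end Groth.Agent.S7066
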