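import Groth.Statements.S7073
import Mathlib
import Groth.Agent.Lib.Helper23.DRingPC9
-- import your own Groth.Agent.* helpers here

set_option autoImplicit false
universe u
attribute [local instance] HasDerivedCategory.standard
open Dual2

namespace Groth.Agent.S7073

/-- For a flat homomorphism of finite presentation R → A of commutative rings, every perfect object of
D(A) is R-perfect, i.e. pseudo-coherent over A and of finite tor dimension as a complex of
R-modules. -/
theorem result (R A : Type u) [CommRing R] [CommRing A] [Algebra R A]
    [Module.Flat R A] [Algebra.FinitePresentation R A] (K : Dual.D A) (hK : DRing.IsPerfect A K) :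
    Dual2.IsRelPerfect R A K := by
  obtain ⟨E, a, b, hV, hP, ⟨e⟩⟩ := hK
  refine ⟨?_, a, b,
    ((ModuleCat.restrictScalars.{u} (algebraMap R A)).mapHomologicalComplex (ComplexShape.up ℤ)).obj E,
    fun i hi => (ModuleCat.restrictScalars.{u} (algebraMap R A)).map_isZero (hV i hi), fun i => ?_,
    ⟨((ModuleCat.restrictScalars.{u} (algebraMap R A)).mapDerivedCategoryFactors.app E).symm ≪≫
      (ModuleCat.restrictScalars.{u} (algebraMap R A)).mapDerivedCategory.mapIso e⟩⟩
  · exact (Groth.Agent.Lib.helper23.DRingPC.isPseudoCoherent'_iff_npc A K).2 (fun m =>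
      (Groth.Agent.Lib.helper23.DRingPC.npc_of_termwiseFiniteProjective A E b
        (fun i hi => hV i (Or.inr hi)) hP m).of_iso e)
  · haveI := (hP i).2
    letI m1 : Module R (E.X i) := Module.compHom (E.X i) (algebraMap R A)
    haveI : IsScalarTower R A (E.X i) := ⟨fun r a m => by
      show (r • a) • m = (algebraMap R A r) • (a • m)
      rw [Algebra.smul_def, mul_smul]⟩
    exact (Module.Flat.trans R A (E.X i) : Module.Flat R (E.X i))

end Groth.Agent.S7073
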