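import Groth.Statements.S7078
import Mathlib
import Groth.Agent.Lib.Helper23.DTwoTerm2
-- import your own Groth.Agent.* helpers here

set_option autoImplicit false
universe u
attribute [local instance] HasDerivedCategory.standard
open CategoryTheory
open DRing

namespace Groth.Agent.S7078

/-- For a commutative ring R and an object K of D(R) whose cohomology modules vanish outside degrees -1
and 0, K is represented by a two-term complex K^{-1} → K^0 with K^0 a free R-module. -/
theorem result {R : Type u} [CommRing R] (K : Dual.D R)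
    (hK : ∀ i : ℤ, i ≠ -1 → i ≠ 0 → Subsingleton (Dual.HD R K i)) :
    ∃ E : DRing.Cx R, DRing.VanishesOutside E (-1) 0 ∧ Module.Free R (E.X 0) ∧ Nonempty (DRing.toD E ≅ K) := by
  let N0 : ModuleCat.{u} R := (DerivedCategory.homologyFunctor (ModuleCat.{u} R) 0).obj K
  let P : ModuleCat.{u} R := ModuleCat.of R (N0 →₀ R)
  let π : P ⟶ N0 := ModuleCat.ofHom (Finsupp.linearCombination R id)
  haveI hπ : CategoryTheory.Epi π :=
    (ModuleCat.epi_iff_surjective _).2 (Finsupp.linearCombination_id_surjective R N0)
  haveI : CategoryTheory.Projective P :=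
    (IsProjective.iff_projective (R := R) (N0 →₀ R)).1 inferInstance
  obtain ⟨N, d, ⟨e⟩, _⟩ := Groth.Agent.Lib.helper23.DTwoTerm.exists_rep K hK P π
  refine ⟨Groth.Agent.Lib.helper23.DTwoTerm.twoTerm d, ?_, ?_, ⟨e⟩⟩
  · intro i hi
    exact Groth.Agent.Lib.helper23.DTwoTerm.twoTerm_isZero d i hi
  · exact Module.Free.of_equiv
      (Groth.Agent.Lib.helper23.DTwoTerm.twoTermX0Iso d).symm.toLinearEquiv

end Groth.Agent.S7078
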