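import Groth.Statements.S7079
import Mathlib
import Groth.Agent.Lib.Helper23.DTwoTerm2
-- import your own Groth.Agent.* helpers here

set_option autoImplicit false
universe u
attribute [local instance] HasDerivedCategory.standard
open CategoryTheory
open DRing

namespace Groth.Agent.S7079

/-- For a Noetherian commutative ring R and an object K of D(R) whose cohomology modules vanish outside
degrees -1 and 0 and are finite modules in those two degrees, K is represented by a two-term complex
K^{-1} → K^0 with K^0 finite free and K^{-1} finite. -/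
theorem result {R : Type u} [CommRing R] [IsNoetherianRing R] (K : Dual.D R)
    (hK : ∀ i : ℤ, i ≠ -1 → i ≠ 0 → Subsingleton (Dual.HD R K i))
    (h1 : Module.Finite R (Dual.HD R K (-1))) (h0 : Module.Finite R (Dual.HD R K 0)) :
    ∃ E : DRing.Cx R, DRing.VanishesOutside E (-1) 0 ∧ Module.Free R (E.X 0) ∧ Module.Finite R (E.X 0) ∧
      Module.Finite R (E.X (-1)) ∧ Nonempty (DRing.toD E ≅ K) := by
  let N0 : ModuleCat.{u} R := (DerivedCategory.homologyFunctor (ModuleCat.{u} R) 0).obj K
  obtain ⟨n, f, hf⟩ := Module.Finite.exists_fin' R N0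
  let P : ModuleCat.{u} R := ModuleCat.of R (Fin n → R)
  let π : P ⟶ N0 := ModuleCat.ofHom f
  haveI hπ : CategoryTheory.Epi π := (ModuleCat.epi_iff_surjective _).2 hf
  haveI : CategoryTheory.Projective P :=
    (IsProjective.iff_projective (R := R) (Fin n → R)).1 inferInstance
  obtain ⟨N, d, ⟨e⟩, hN⟩ := Groth.Agent.Lib.helper23.DTwoTerm.exists_rep K hK P π
  have hNoeth : IsNoetherian R N := hN
    (isNoetherian_of_isNoetherianRing_of_finite R _)
    (isNoetherian_of_isNoetherianRing_of_finite R (Fin n → R))
  refine ⟨Groth.Agent.Lib.helper23.DTwoTerm.twoTerm d, ?_, ?_, ?_, ?_, ⟨e⟩⟩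
  · intro i hi
    exact Groth.Agent.Lib.helper23.DTwoTerm.twoTerm_isZero d i hi
  · exact Module.Free.of_equiv
      (Groth.Agent.Lib.helper23.DTwoTerm.twoTermX0Iso d).symm.toLinearEquiv
  · exact Module.Finite.equiv
      (Groth.Agent.Lib.helper23.DTwoTerm.twoTermX0Iso d).symm.toLinearEquiv
  · haveI : Module.Finite R N := Module.IsNoetherian.finite R N
    exact Module.Finite.equiv
      (Groth.Agent.Lib.helper23.DTwoTerm.twoTermXNegOneIso d).symm.toLinearEquiv

end Groth.Agent.S7079
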