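import Groth.Statements.S7082
import Mathlib
import Groth.Agent.Lib.Helper23.DTwoTerm6
-- import your own Groth.Agent.* helpers here

set_option autoImplicit false
universe u
attribute [local instance] HasDerivedCategory.standard
open CategoryTheory
open DRing

namespace Groth.Agent.S7082

/-- (1)⇔(3): let R be a commutative ring, I an ideal and K an object of D(R) whose cohomology vanishes
outside degrees -1 and 0. Then I annihilates Ext^1_R(K, N) = Hom_{D(R)}(K, N[1]) for every R-module
N if and only if, for every two-term complex E in degrees -1 and 0 with E^0 projective that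
represents K, and every a in I, multiplication by a on E^{-1} factors through the differential
E^{-1} → E^0. -/
theorem result {R : Type u} [CommRing R] (I : Ideal R) (K : Dual.D R)
    (hK : ∀ i : ℤ, i ≠ -1 → i ≠ 0 → Subsingleton (Dual.HD R K i)) :
    (∀ (N : Type u) [AddCommGroup N] [Module R N] (a : R), a ∈ I →
        ∀ ξ : K ⟶ (Dual.inD R N)⟦(1 : ℤ)⟧, a • ξ = 0) ↔
      ∀ (E : DRing.Cx R), DRing.VanishesOutside E (-1) 0 → Module.Projective R (E.X 0) →
        Nonempty (DRing.toD E ≅ K) → ∀ a : R, a ∈ I →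
          ∃ h : E.X 0 ⟶ E.X (-1), E.d (-1) 0 ≫ h = a • 𝟙 (E.X (-1)) := by
  constructor
  · intro h1 E hE _ he a ha
    obtain ⟨e⟩ := he
    refine Groth.Agent.Lib.helper23.DTwoTerm.factor_of_smul_eq_zero E hE a (fun ξ => ?_)
    have h2 := h1 (E.X (-1)) a ha (e.inv ≫ ξ)
    have h3 : a • ξ = e.hom ≫ (a • (e.inv ≫ ξ)) := by
      rw [Linear.comp_smul, Iso.hom_inv_id_assoc]
    rw [h3, h2, Limits.comp_zero]
  · intro h3 N _ _ a ha ξ
    let N0 : ModuleCat.{u} R := (DerivedCategory.homologyFunctor (ModuleCat.{u} R) 0).obj K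
    let P : ModuleCat.{u} R := ModuleCat.of R (N0 →₀ R)
    let π : P ⟶ N0 := ModuleCat.ofHom (Finsupp.linearCombination R id)
    haveI hπ : Epi π :=
      (ModuleCat.epi_iff_surjective _).2 (Finsupp.linearCombination_id_surjective R N0)
    haveI : Projective P := (IsProjective.iff_projective (R := R) (N0 →₀ R)).1 inferInstance
    obtain ⟨N', d, ⟨e⟩, _⟩ := Groth.Agent.Lib.helper23.DTwoTerm.exists_rep K hK P π
    have hE := Groth.Agent.Lib.helper23.DTwoTerm.twoTerm_isZero d
    have hproj : Module.Projective R ((Groth.Agent.Lib.helper23.DTwoTerm.twoTerm d).X 0) :=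
      Module.Projective.of_equiv
        (Groth.Agent.Lib.helper23.DTwoTerm.twoTermX0Iso d).symm.toLinearEquiv
    obtain ⟨h, hh⟩ := h3 (Groth.Agent.Lib.helper23.DTwoTerm.twoTerm d) hE hproj ⟨e⟩ a ha
    haveI : Projective ((Groth.Agent.Lib.helper23.DTwoTerm.twoTerm d).X 0) :=
      (IsProjective.iff_projective (R := R) _).1 hproj
    have h4 := Groth.Agent.Lib.helper23.DTwoTerm.smul_eq_zero_of_factor
      (Groth.Agent.Lib.helper23.DTwoTerm.twoTerm d) hE a h hh (ModuleCat.of R N) (e.hom ≫ ξ)
    have h5 : a • ξ = e.inv ≫ (a • (e.hom ≫ ξ)) := by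
      rw [Linear.comp_smul, Iso.inv_hom_id_assoc]
    rw [h5, h4, Limits.comp_zero]

end Groth.Agent.S7082
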