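import Groth.Statements.S7085
import Mathlib
-- import your own Groth.Agent.* helpers here

set_option autoImplicit false
universe u
open LocCoh

namespace Groth.Agent.S7085

theorem torsion_pow {R : Type u} [CommRing R] (I : Ideal R) (M : Type u) [AddCommGroup M] [Module R M]
    (h : LocCoh.torsionBy I M = ⊥) : ∀ n : ℕ, 1 ≤ n → LocCoh.torsionBy (I ^ n) M = ⊥ := by
  intro n hn
  induction n, hn using Nat.le_induction with
  | base => simpa using h
  | succ n hn ih =>
    rw [eq_bot_iff]
    intro m hm
    rw [Submodule.mem_torsionBySet_iff] at hm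
    have hm' : m ∈ LocCoh.torsionBy I M := by
      rw [Submodule.mem_torsionBySet_iff]
      rintro ⟨a, ha⟩
      have : a • m ∈ LocCoh.torsionBy (I ^ n) M := by
        rw [Submodule.mem_torsionBySet_iff]
        rintro ⟨b, hb⟩
        have hba : b * a ∈ I ^ (n + 1) := by
          rw [pow_succ]
          exact Ideal.mul_mem_mul hb ha
        simpa [mul_smul] using hm ⟨b * a, hba⟩
      rw [ih] at this
      simpa using this
    rw [h] at hm'
    exact hm'

/-- Let R be a commutative ring, I an ideal generated by finitely many elements f_1, …, f_t, and M an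
R-module. Then: M has no nonzero element killed by I if and only if it has no nonzero element killed
by I^n for every n ≥ 1; and M has no nonzero element killed by I if and only if an element of M
vanishing in every localization M_{f_i} is zero. -/
theorem result {R : Type u} [CommRing R] {t : ℕ} (f : Fin t → R)
    (I : Ideal R) (hI : Ideal.span (Set.range f) = I) (M : Type u) [AddCommGroup M] [Module R M] :
    (LocCoh.torsionBy I M = ⊥ ↔ ∀ n : ℕ, 1 ≤ n → LocCoh.torsionBy (I ^ n) M = ⊥) ∧
    (LocCoh.torsionBy I M = ⊥ ↔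
      ∀ m : M, (∀ i : Fin t, LocalizedModule.mkLinearMap (Submonoid.powers (f i)) M m = 0) → m = 0) := by
  subst hI
  refine ⟨⟨torsion_pow _ M, fun h => by simpa using h 1 le_rfl⟩, ?_⟩
  constructor
  · intro h m hm
    -- the annihilator of m
    let J : Ideal R := LinearMap.ker (LinearMap.toSpanSingleton R M m)
    have hJ : ∀ a, a ∈ J ↔ a • m = 0 := fun a => by simp [J, LinearMap.mem_ker]
    have hle : Ideal.span (Set.range f) ≤ J.radical := by
      rw [Ideal.span_le]
      rintro _ ⟨i, rfl⟩
      obtain ⟨⟨_, k, rfl⟩, hk⟩ := (IsLocalizedModule.eq_zero_iff (Submonoid.powers (f i))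
        (LocalizedModule.mkLinearMap (Submonoid.powers (f i)) M)).mp (hm i)
      exact ⟨k, (hJ _).mpr hk⟩
    obtain ⟨k, hk⟩ := Ideal.exists_pow_le_of_le_radical_of_fg hle
      (Submodule.fg_span (Set.finite_range f))
    have hk' : Ideal.span (Set.range f) ^ (k + 1) ≤ J :=
      (Ideal.pow_le_pow_right (Nat.le_succ k)).trans hk
    have hm' : m ∈ LocCoh.torsionBy (Ideal.span (Set.range f) ^ (k + 1)) M := by
      rw [Submodule.mem_torsionBySet_iff]
      rintro ⟨a, ha⟩
      exact (hJ a).mp (hk' ha)
    rw [torsion_pow _ M h (k + 1) (Nat.le_add_left 1 k)] at hm'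
    exact hm'
  · intro h
    rw [eq_bot_iff]
    intro m hm
    rw [Submodule.mem_torsionBySet_iff] at hm
    refine h m fun i => ?_
    rw [IsLocalizedModule.eq_zero_iff (Submonoid.powers (f i))]
    exact ⟨⟨f i, Submonoid.mem_powers _⟩, hm ⟨f i, Ideal.subset_span ⟨i, rfl⟩⟩⟩

end Groth.Agent.S7085
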