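import Groth.Statements.S7089
import Mathlib
-- import your own Groth.Agent.* helpers here

set_option autoImplicit false
universe u
open CategoryTheory
open LocCoh

namespace Groth.Agent.S7089

section aux

attribute [local instance] Classical.propDecidable

variable {R : Type u} [CommRing R] (I : Ideal R)

/-- index type for the canonical cover of a module by `R ⧸ I ^ n`'s -/
abbrev Idx (N : ModuleCat.{u} R) : Type u := {p : N × ℕ // ∀ a ∈ I ^ p.2, a • p.1 = 0}

/-- the canonical direct sum of `R ⧸ I ^ n`'s mapping to `N` -/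
noncomputable abbrev GObj (N : ModuleCat.{u} R) : ModuleCat.{u} R :=
  ModuleCat.of R (DirectSum (Idx I N) fun p => R ⧸ I ^ p.1.2)

/-- component maps -/
noncomputable def comp (N : ModuleCat.{u} R) (p : Idx I N) : (R ⧸ I ^ p.1.2) →ₗ[R] N :=
  Submodule.liftQ _ (LinearMap.toSpanSingleton R N p.1.1) (by
    intro a ha
    exact LinearMap.mem_ker.mpr (by rw [LinearMap.toSpanSingleton_apply]; exact p.2 a ha))

/-- the canonical map -/
noncomputable def Gπ (N : ModuleCat.{u} R) : GObj I N ⟶ N :=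
  ModuleCat.ofHom (DirectSum.toModule R (Idx I N) N (comp I N))

theorem Gπ_surjective (N : ModuleCat.{u} R) (hN : LocCoh.IsPowerTorsion I N) :
    Function.Surjective (Gπ I N).hom := by
  intro m
  obtain ⟨k, hk⟩ := hN m
  refine ⟨DirectSum.lof R (Idx I N) (fun p => R ⧸ I ^ p.1.2) ⟨(m, k), hk⟩
    (Ideal.Quotient.mk _ 1), ?_⟩
  simp only [Gπ, ModuleCat.hom_ofHom]
  erw [DirectSum.toModule_lof]
  change Submodule.liftQ _ _ _ (Submodule.Quotient.mk 1) = m
  rw [Submodule.liftQ_apply]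
  simp

theorem GObj_isPowerTorsion (N : ModuleCat.{u} R) : LocCoh.IsPowerTorsion I (GObj I N) := by
  intro x
  induction x using DirectSum.induction_on with
  | zero => exact ⟨0, fun a _ => smul_zero a⟩
  | of p y =>
    refine ⟨p.1.2, fun a ha => ?_⟩
    obtain ⟨r, rfl⟩ := Ideal.Quotient.mk_surjective y
    rw [← DirectSum.lof_eq_of R, ← map_smul]
    have : a • (Ideal.Quotient.mk (I ^ p.1.2) r) = 0 := by
      change Ideal.Quotient.mk (I ^ p.1.2) (a • r) = 0
      rw [Ideal.Quotient.eq_zero_iff_mem, smul_eq_mul]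
      exact Ideal.mul_mem_right _ _ ha
    rw [this, map_zero]
  | add x y hx hy =>
    obtain ⟨k, hk⟩ := hx
    obtain ⟨l, hl⟩ := hy
    refine ⟨k + l, fun a ha => ?_⟩
    rw [smul_add, hk a (Ideal.pow_le_pow_right (Nat.le_add_right k l) ha),
      hl a (Ideal.pow_le_pow_right (Nat.le_add_left l k) ha), add_zero]

open Limits

theorem kernel_isPowerTorsion {X Y : ModuleCat.{u} R} (f : X ⟶ Y) (hX : LocCoh.IsPowerTorsion I X) :
    LocCoh.IsPowerTorsion I (kernel f : ModuleCat.{u} R) := by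
  intro x
  obtain ⟨k, hk⟩ := hX ((kernel.ι f).hom x)
  refine ⟨k, fun a ha => ?_⟩
  have hinj : Function.Injective (kernel.ι f).hom := (ModuleCat.mono_iff_injective _).mp inferInstance
  apply hinj
  rw [map_smul, hk a ha, map_zero]

theorem exact_Gπ_kernel {X Y : ModuleCat.{u} R} (f : X ⟶ Y) (hX : LocCoh.IsPowerTorsion I X) :
    (ShortComplex.mk (Gπ I (kernel f) ≫ kernel.ι f) f (by simp)).Exact := by
  let α : ShortComplex.mk (Gπ I (kernel f) ≫ kernel.ι f) f (by simp) ⟶
      ShortComplex.mk (kernel.ι f) f (by simp) :=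
    { τ₁ := Gπ I (kernel f)
      τ₂ := 𝟙 _
      τ₃ := 𝟙 _ }
  have : Epi (Gπ I (kernel f)) :=
    (ModuleCat.epi_iff_surjective _).mpr (Gπ_surjective I _ (kernel_isPowerTorsion I f hX))
  rw [ShortComplex.exact_iff_of_epi_of_isIso_of_mono α]
  apply ShortComplex.exact_of_f_is_kernel
  apply kernelIsKernel

/-- the inductive step -/
noncomputable def succFn {X₀ X₁ : ModuleCat.{u} R} (f : X₁ ⟶ X₀) :
    Σ' (X₂ : ModuleCat.{u} R) (d : X₂ ⟶ X₁), d ≫ f = 0 :=
  ⟨GObj I (kernel f), Gπ I (kernel f) ≫ kernel.ι f, by simp⟩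

/-- the resolution -/
noncomputable def cx (M : ModuleCat.{u} R) : ChainComplex (ModuleCat.{u} R) ℕ :=
  ChainComplex.mk' (GObj I M) (GObj I (kernel (Gπ I M))) (Gπ I (kernel (Gπ I M)) ≫ kernel.ι _)
    (fun f => succFn I f)

lemma cx_d_1_0 (M : ModuleCat.{u} R) :
    (cx I M).d 1 0 = Gπ I (kernel (Gπ I M)) ≫ kernel.ι _ := by
  simp [cx]

theorem isPowerTorsion_of_iso {X Y : ModuleCat.{u} R} (e : X ≅ Y) (hY : LocCoh.IsPowerTorsion I Y) :
    LocCoh.IsPowerTorsion I X := by
  intro x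
  obtain ⟨k, hk⟩ := hY (e.hom.hom x)
  refine ⟨k, fun a ha => ?_⟩
  have hinj : Function.Injective e.hom.hom := (ModuleCat.mono_iff_injective _).mp inferInstance
  apply hinj
  rw [map_smul, hk a ha, map_zero]

lemma cx_X_isPowerTorsion (M : ModuleCat.{u} R) (i : ℕ) :
    LocCoh.IsPowerTorsion I ((cx I M).X i : ModuleCat.{u} R) := by
  obtain (_ | _ | i) := i
  · exact GObj_isPowerTorsion I M
  · exact GObj_isPowerTorsion I _
  · exact isPowerTorsion_of_iso I (ChainComplex.mk'XIso _ _ _ _ i) (GObj_isPowerTorsion I _)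

/-- the inductive isomorphism -/
noncomputable def cxIso (M : ModuleCat.{u} R) (n : ℕ) :
    (cx I M).X (n + 2) ≅ (succFn I ((cx I M).d (n + 1) n)).1 :=
  ChainComplex.mk'XIso _ _ _ _ n

lemma cx_d_succ (M : ModuleCat.{u} R) (n : ℕ) :
    (cx I M).d (n + 2) (n + 1) = (cxIso I M n).hom ≫ (succFn I ((cx I M).d (n + 1) n)).2.1 :=
  ChainComplex.mk'_d _ _ _ _ n

lemma cx_exactAt_succ (M : ModuleCat.{u} R) (n : ℕ) : (cx I M).ExactAt (n + 1) := by
  rw [HomologicalComplex.exactAt_iff' _ (n + 2) (n + 1) n (by simp) (by simp)]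
  have hex := exact_Gπ_kernel I ((cx I M).d (n + 1) n) (cx_X_isPowerTorsion I M (n + 1))
  refine (ShortComplex.exact_iff_of_iso ?_).mpr hex
  refine ShortComplex.isoMk (cxIso I M n) (Iso.refl _) (Iso.refl _) ?_ ?_
  · change (cxIso I M n).hom ≫ (succFn I ((cx I M).d (n + 1) n)).2.1 =
      (cx I M).d (n + 2) (n + 1) ≫ 𝟙 _
    rw [cx_d_succ, Category.comp_id]
  · change 𝟙 _ ≫ (cx I M).d (n + 1) n = (cx I M).d (n + 1) n ≫ 𝟙 _
    rw [Category.comp_id, Category.id_comp]

lemma cx_X_form (M : ModuleCat.{u} R) (i : ℕ) : ∃ (ι : Type u) (n : ι → ℕ),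
    Nonempty ((cx I M).X i ≅ ModuleCat.of R (DirectSum ι fun j => R ⧸ I ^ n j)) := by
  obtain (_ | _ | i) := i
  · exact ⟨Idx I M, fun p => p.1.2, ⟨Iso.refl _⟩⟩
  · exact ⟨Idx I _, fun p => p.1.2, ⟨Iso.refl _⟩⟩
  · exact ⟨Idx I _, fun p => p.1.2, ⟨ChainComplex.mk'XIso _ _ _ _ i⟩⟩

/-- the augmentation -/
noncomputable def aug (M : ModuleCat.{u} R) : (cx I M).X 0 ⟶ M := Gπ I M

lemma d_comp_aug (M : ModuleCat.{u} R) : (cx I M).d 1 0 ≫ aug I M = 0 := by
  rw [cx_d_1_0]
  exact (by simp : (Gπ I (kernel (Gπ I M)) ≫ kernel.ι (Gπ I M)) ≫ Gπ I M = 0)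

lemma exact_d_aug (M : ModuleCat.{u} R) :
    (ShortComplex.mk ((cx I M).d 1 0) (aug I M) (d_comp_aug I M)).Exact := by
  have hex := exact_Gπ_kernel I (Gπ I M) (GObj_isPowerTorsion I M)
  refine (ShortComplex.exact_iff_of_iso ?_).mpr hex
  refine ShortComplex.isoMk (Iso.refl _) (Iso.refl _) (Iso.refl _) ?_ ?_
  · change 𝟙 _ ≫ (Gπ I (kernel (Gπ I M)) ≫ kernel.ι (Gπ I M)) = (cx I M).d 1 0 ≫ 𝟙 _
    exact (Category.id_comp _).trans ((cx_d_1_0 I M).symm.trans (Category.comp_id _).symm)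
  · change 𝟙 _ ≫ Gπ I M = aug I M ≫ 𝟙 _
    exact (Category.id_comp _).trans (Category.comp_id _).symm

end aux

/-- Let R be a commutative ring, I an ideal and M an R-module in which every element is killed by a
power of I. Then M has a left resolution by modules each of which is a direct sum of copies of R/I^n
for varying n: there are a chain complex K of R-modules, a quasi-isomorphism from K to M placed in
degree 0, and for each i an isomorphism of K_i with such a direct sum. -/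
theorem result {R : Type u} [CommRing R] (I : Ideal R)
    (M : Type u) [AddCommGroup M] [Module R M] (hM : LocCoh.IsPowerTorsion I M) :
    ∃ (K : ChainComplex (ModuleCat.{u} R) ℕ) (π : K ⟶ (ChainComplex.single₀ (ModuleCat.{u} R)).obj (ModuleCat.of R M)),
      QuasiIso π ∧ ∀ i : ℕ, ∃ (ι : Type u) (n : ι → ℕ),
        Nonempty (K.X i ≅ ModuleCat.of R (DirectSum ι fun j => R ⧸ I ^ n j)) := by
  let Mc : ModuleCat.{u} R := ModuleCat.of R M
  have hMc : LocCoh.IsPowerTorsion I Mc := hM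
  have hepi : Epi (aug I Mc) := (ModuleCat.epi_iff_surjective _).mpr (Gπ_surjective I Mc hMc)
  refine ⟨cx I Mc, (ChainComplex.toSingle₀Equiv _ _).symm ⟨aug I Mc, d_comp_aug I Mc⟩, ?_,
    cx_X_form I Mc⟩
  exact ⟨fun n => by
    cases n
    · rw [ChainComplex.quasiIsoAt₀_iff, ShortComplex.quasiIso_iff_of_zeros' _ rfl rfl rfl]
      refine ⟨?_, ?_⟩
      · exact exact_d_aug I Mc
      · exact hepi
    · rw [quasiIsoAt_iff_exactAt']
      · apply cx_exactAt_succ
      · apply ChainComplex.exactAt_succ_single_obj⟩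

end Groth.Agent.S7089
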