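import Groth.Statements.S7091
import Mathlib
import Groth.Agent.Lib.Helper13.DComp7
-- import your own Groth.Agent.* helpers here

set_option autoImplicit false
universe u
attribute [local instance] HasDerivedCategory.standard
open CategoryTheory
open DRing

namespace Groth.Agent.S7091

/-- Let A be a commutative ring, I a finitely generated ideal, and assume the derived completion functor
(left adjoint to the inclusion of derived complete objects) exists. If a morphism K → L in D(A)
induces isomorphisms on cohomology in degrees ≥ 1 and a surjection in degree 0, then so does the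
induced morphism between the derived completions. -/
theorem result {A : Type u} [CommRing A] (I : Ideal A) (hI : I.FG)
    [DRing.HasDerivedCompletion I] {K L : Dual.D A} (φ : K ⟶ L)
    (hiso : ∀ i : ℤ, 1 ≤ i → IsIso ((DerivedCategory.homologyFunctor (ModuleCat.{u} A) i).map φ))
    (hepi : Epi ((DerivedCategory.homologyFunctor (ModuleCat.{u} A) 0).map φ)) :
    (∀ i : ℤ, 1 ≤ i → IsIso ((DerivedCategory.homologyFunctor (ModuleCat.{u} A) i).map
        ((DRing.derivedCompletion I).map φ).hom)) ∧
      Epi ((DerivedCategory.homologyFunctor (ModuleCat.{u} A) 0).map ((DRing.derivedCompletion I).map φ).hom) := by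
  classical
  obtain ⟨s, hs⟩ := hI
  have hspan : Ideal.span {x : A | x ∈ s.toList} = I := by
    rw [← hs]
    congr 1
    ext x
    simp
  have h : ∀ n : ℤ, -1 < n → Epi ((DerivedCategory.homologyFunctor (ModuleCat.{u} A) n).map φ) ∧
      Mono ((DerivedCategory.homologyFunctor (ModuleCat.{u} A) (n + 1)).map φ) := by
    intro n hn
    haveI := hiso (n + 1) (by omega)
    refine ⟨?_, inferInstance⟩
    rcases eq_or_lt_of_le (show (0 : ℤ) ≤ n by omega) with h0 | h0
    · subst h0
      exact hepi
    · haveI := hiso n (by omega)
      infer_instance
  have key := Groth.Agent.Lib.helper13.DComp.epi_mono_completion_of_lt s.toList I hspan φ (-1) h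
  refine ⟨fun i hi => ?_, (key 0 (by norm_num)).1⟩
  haveI := (key i (by omega)).1
  haveI : Mono ((DerivedCategory.homologyFunctor (ModuleCat.{u} A) i).map
      ((DRing.derivedCompletion I).map φ).hom) := by
    have := (key (i - 1) (by omega)).2
    rwa [sub_add_cancel] at this
  exact isIso_of_mono_of_epi _

end Groth.Agent.S7091
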