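import Groth.Statements.S7092
import Mathlib
import Groth.Agent.Lib.Helper13.DComp7
-- import your own Groth.Agent.* helpers here

set_option autoImplicit false
universe u
attribute [local instance] HasDerivedCategory.standard
open CategoryTheory
open DRing

namespace Groth.Agent.S7092

/-- Let A be a commutative ring, I an ideal generated by a finite set of r elements, and assume the
derived completion functor exists. If a morphism K → L in D(A) induces isomorphisms on cohomology in
degrees ≤ -1 and an injection in degree 0, then the induced morphism of derived completions induces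
isomorphisms on cohomology in degrees ≤ -r-1 and an injection in degree -r. -/
theorem result {A : Type u} [CommRing A] (I : Ideal A) (s : Finset A)
    (hs : Ideal.span (s : Set A) = I) [DRing.HasDerivedCompletion I] {K L : Dual.D A} (φ : K ⟶ L)
    (hiso : ∀ i : ℤ, i ≤ -1 → IsIso ((DerivedCategory.homologyFunctor (ModuleCat.{u} A) i).map φ))
    (hmono : Mono ((DerivedCategory.homologyFunctor (ModuleCat.{u} A) 0).map φ)) :
    (∀ i : ℤ, i ≤ -(s.card : ℤ) - 1 → IsIso ((DerivedCategory.homologyFunctor (ModuleCat.{u} A) i).map
        ((DRing.derivedCompletion I).map φ).hom)) ∧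
      Mono ((DerivedCategory.homologyFunctor (ModuleCat.{u} A) (-(s.card : ℤ))).map
        ((DRing.derivedCompletion I).map φ).hom) := by
  classical
  have hspan : Ideal.span {x : A | x ∈ s.toList} = I := by
    rw [← hs]
    congr 1
    ext x
    simp
  have h : ∀ n : ℤ, n < 0 → Epi ((DerivedCategory.homologyFunctor (ModuleCat.{u} A) n).map φ) ∧
      Mono ((DerivedCategory.homologyFunctor (ModuleCat.{u} A) (n + 1)).map φ) := by
    intro n hn
    haveI := hiso n (by omega)
    refine ⟨inferInstance, ?_⟩
    rcases eq_or_lt_of_le (show n + 1 ≤ 0 by omega) with h0 | h0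
    · rw [h0]
      exact hmono
    · haveI := hiso (n + 1) (by omega)
      infer_instance
  have key := Groth.Agent.Lib.helper13.DComp.epi_mono_completion_of_gt s.toList I hspan φ 0 h
  have hlen : (s.toList.length : ℤ) = s.card := by
    rw [Finset.length_toList]
  refine ⟨fun i hi => ?_, ?_⟩
  · haveI := (key i (by omega)).1
    haveI : Mono ((DerivedCategory.homologyFunctor (ModuleCat.{u} A) i).map
        ((DRing.derivedCompletion I).map φ).hom) := by
      have := (key (i - 1) (by omega)).2
      rwa [sub_add_cancel] at this
    exact isIso_of_mono_of_epi _
  · have := (key (-(s.card : ℤ) - 1) (by omega)).2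
    rwa [sub_add_cancel] at this

end Groth.Agent.S7092
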