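import Groth.Statements.S7099
import Mathlib
import Groth.Agent.Lib.Helper23.TensHom3
-- import your own Groth.Agent.* helpers here

set_option autoImplicit false
universe u
attribute [local instance] HasDerivedCategory.standard
open CategoryTheory
open DRing

namespace Groth.Agent.S7099

/-- Let A be a commutative ring, f and g elements of A, and K an object of D(A). Assuming the derived
functors RHom_A(A_f, −), RHom_A(A_g, −) and RHom_A(A_{fg}, −) (total right derived functors of the
Hom complexes out of the localizations placed in degree 0) exist, RHom_A(A_f, RHom_A(A_g, K)) is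
isomorphic in D(A) to RHom_A(A_{fg}, K). (Existence of an isomorphism only.) -/
theorem result {A : Type u} [CommRing A] (f g : A)
    [DRing.HasRHomCx ((HomologicalComplex.single (ModuleCat.{u} A) (ComplexShape.up ℤ) 0).obj
      (ModuleCat.of A (Localization.Away f)))]
    [DRing.HasRHomCx ((HomologicalComplex.single (ModuleCat.{u} A) (ComplexShape.up ℤ) 0).obj
      (ModuleCat.of A (Localization.Away g)))]
    [DRing.HasRHomCx ((HomologicalComplex.single (ModuleCat.{u} A) (ComplexShape.up ℤ) 0).obj
      (ModuleCat.of A (Localization.Away (f * g))))]
    (K : Dual.D A) :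
    Nonempty ((DRing.RHomCx ((HomologicalComplex.single (ModuleCat.{u} A) (ComplexShape.up ℤ) 0).obj
        (ModuleCat.of A (Localization.Away f)))).obj
      ((DRing.RHomCx ((HomologicalComplex.single (ModuleCat.{u} A) (ComplexShape.up ℤ) 0).obj
        (ModuleCat.of A (Localization.Away g)))).obj K) ≅
      (DRing.RHomCx ((HomologicalComplex.single (ModuleCat.{u} A) (ComplexShape.up ℤ) 0).obj
        (ModuleCat.of A (Localization.Away (f * g))))).obj K) := by
  open Groth.Agent.Lib.helper23.TensHom in
  obtain ⟨e⟩ := nonempty_awayTensorEquiv f g
  have hL : Groth.Agent.Lib.helper13.KFlat.IsKFlatR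
      ((HomologicalComplex.single (ModuleCat.{u} A) (ComplexShape.up ℤ) 0).obj
        (ModuleCat.of A (Localization.Away g))) := by
    refine Groth.Agent.Lib.helper13.KFlat.isKFlatR_of_bounded_above _ 0 ?_ ?_
    · intro i hi
      exact HomologicalComplex.isZero_single_obj_X _ _ _ _ (by omega)
    · intro i
      by_cases hi : i = 0
      · subst hi
        exact Module.Flat.of_linearEquiv
          (HomologicalComplex.singleObjXSelf (ComplexShape.up ℤ) 0
            (ModuleCat.of A (Localization.Away g))).toLinearEquiv
      · haveI : Subsingleton (((HomologicalComplex.single (ModuleCat.{u} A)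
            (ComplexShape.up ℤ) 0).obj (ModuleCat.of A (Localization.Away g))).X i) :=
          ModuleCat.subsingleton_of_isZero
            (HomologicalComplex.isZero_single_obj_X _ _ _ _ hi)
        infer_instance
  let e' : ModuleCat.of A (Localization.Away (f * g)) ≅
      MonoidalCategory.tensorObj (ModuleCat.of A (Localization.Away f))
        (ModuleCat.of A (Localization.Away g)) := e.toModuleIso.symm
  exact nonempty_RHomCx_RHomCx_iso _ _ _ hL
    ((HomologicalComplex.single (ModuleCat.{u} A) (ComplexShape.up ℤ) 0).mapIso e' ≪≫
      (singleTensorIso (ModuleCat.of A (Localization.Away f))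
        (ModuleCat.of A (Localization.Away g))).symm) K

end Groth.Agent.S7099
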