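import Groth.Statements.S7100
import Groth.Agent.S1507
import Groth.Agent.S7068
import Groth.Agent.Lib.Helper3.PCQuot

set_option autoImplicit false
universe u
attribute [local instance] HasDerivedCategory.standard
open DerCA CategoryTheory Groth.Agent.Lib.helper23.PCohCore Groth.Agent.Lib.helper23.DRingPC Groth.Agent.Lib.helper3.PCQuot

namespace Groth.Agent.S7100

/-- (1)⇔(4): let R → B → A be homomorphisms of commutative rings with B → A surjective and with R → B
and R → A both flat and of finite presentation. Then an object K of D(A) is pseudo-coherent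
(isomorphic in D(A) to a bounded above complex of finite free modules) if and only if its
restriction of scalars to D(B) is pseudo-coherent; and for every integer m, K is m-pseudo-coherent
if and only if its restriction of scalars to D(B) is m-pseudo-coherent. -/
theorem result (R B A : Type u) [CommRing R] [CommRing B] [CommRing A]
    [Algebra R B] [Algebra R A] [Algebra B A] [IsScalarTower R B A]
    (hφ : Function.Surjective (algebraMap B A))
    [Module.Flat R B] [Algebra.FinitePresentation R B] [Module.Flat R A] [Algebra.FinitePresentation R A]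
    (K : Dual.D A) :
    (DRing.IsPseudoCoherent' A K ↔ DRing.IsPseudoCoherent' B ((DRing.restrictD (algebraMap B A)).obj K)) ∧
      ∀ m : ℤ, (DRing.IsPseudoCoherent A m K ↔
        DRing.IsPseudoCoherent B m ((DRing.restrictD (algebraMap B A)).obj K)) := by
  classical
  let f : B →ₐ[R] A := IsScalarTower.toAlgHom R B A
  have hf : Function.Surjective f := hφ
  let I : Ideal B := RingHom.ker f
  let eR : (B ⧸ I) ≃ₐ[R] A := Ideal.quotientKerAlgEquivOfSurjective hf
  haveI : Module.Flat R (B ⧸ I) := Module.Flat.of_linearEquiv eR.toLinearEquiv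
  haveI : Algebra.FinitePresentation R (B ⧸ I) := Algebra.FinitePresentation.equiv eR.symm
  have hpc : MoreMor.IsPseudoCoherentHom R (B ⧸ I) := (Groth.Agent.S7068.result R (B ⧸ I)).1
  have hI : DRing.IsPseudoCoherentModule' B ↥I := (Groth.Agent.S1507.result (A := R) (B := B) I).1 hpc
  have hI' : PCMod B (ModuleCat.of B ↥I) := (isPseudoCoherent'_iff_npc _ _).1 hI
  have hB : PCMod B (ModuleCat.of B B) := fun a =>
    NPC.single_of_prop (FF B) ⟨inferInstanceAs (Module.Finite B B),
      inferInstanceAs (Module.Free B B)⟩ 0 a
  have hQ : PCMod B (ModuleCat.of B (B ⧸ I)) := fun m =>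
    (NPC.two_of_three (FF B) (FF_sum _) (FF_hqs _) (FF_hql _) m
      (sesB_shortExact I).singleTriangle (sesB_shortExact I).singleTriangle_distinguished).1
      (hI' (m + 1)) (hB m)
  have hsm : ∀ (b : B) (x : B ⧸ I), eR (b • x) = algebraMap B A b * eR x := by
    intro b x
    obtain ⟨y, rfl⟩ := Ideal.Quotient.mk_surjective x
    rw [Algebra.smul_def, map_mul]
    rfl
  let iso : ModuleCat.of B (B ⧸ I) ≅
      (ModuleCat.restrictScalars.{u} (algebraMap B A)).obj (ModuleCat.of A A) :=
    LinearEquiv.toModuleIso
      (X₂ := ((ModuleCat.restrictScalars.{u} (algebraMap B A)).obj (ModuleCat.of A A)))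
      ({ toFun := fun x => eR x
         invFun := fun x => eR.symm x
         map_add' := fun x y => map_add eR x y
         map_smul' := fun b x => hsm b x
         left_inv := fun x => eR.symm_apply_apply x
         right_inv := fun x => eR.apply_symm_apply x } :
        (B ⧸ I) ≃ₗ[B] ((ModuleCat.restrictScalars.{u} (algebraMap B A)).obj (ModuleCat.of A A)))
  have hA : PCMod B ((ModuleCat.restrictScalars.{u} (algebraMap B A)).obj (ModuleCat.of A A)) :=
    hQ.of_iso iso
  refine ⟨?_, fun m => ?_⟩
  · rw [isPseudoCoherent'_iff_npc, isPseudoCoherent'_iff_npc]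
    exact forall_congr' fun m => npc_restrict_iff (algebraMap B A) hA K m
  · rw [isPseudoCoherent_iff_npc, isPseudoCoherent_iff_npc]
    exact npc_restrict_iff (algebraMap B A) hA K m

end Groth.Agent.S7100
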