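import Groth.Statements.S7102
import Mathlib
import Groth.Agent.Lib.Helper13.TorLow5
import Groth.Agent.Lib.Helper23.TA11
import Groth.Agent.Lib.Helper23.DRingPC9
import Groth.Agent.S7037
-- import your own Groth.Agent.* helpers here

set_option autoImplicit false
universe u
attribute [local instance] HasDerivedCategory.standard
open Dual2

namespace Groth.Agent.S7102

/-- Let R → A be a flat homomorphism of finite presentation of commutative rings, E a bounded cochain
complex of finite projective A-modules (a perfect object of D(A)) for which the derived functor −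
⊗^L_A E exists, and M an R-perfect object of D(A). Then M ⊗^L_A E is R-perfect. -/
theorem result (R A : Type u) [CommRing R] [CommRing A] [Algebra R A]
    [Module.Flat R A] [Algebra.FinitePresentation R A] (E : DRing.Cx A) (a b : ℤ)
    (hEb : DRing.VanishesOutside E a b) (hEp : DRing.TermwiseFiniteProjective E) [DRing.HasLTensorCx A E]
    (M : Dual.D A) (hM : Dual2.IsRelPerfect R A M) :
    Dual2.IsRelPerfect R A ((DRing.LTensorCx A E).obj M) := by
  obtain ⟨hMpc, c, d, hMtor⟩ := hM
  constructor
  · exact Groth.Agent.S7037.result A M hMpc E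
      ((Groth.Agent.Lib.helper23.DRingPC.isPseudoCoherent'_iff_npc A _).2 (fun m =>
        Groth.Agent.Lib.helper23.DRingPC.npc_of_termwiseFiniteProjective A E b
          (fun i hi => hEb i (Or.inr hi)) hEp m))
  · obtain ⟨P, f, hP, -, hf, -⟩ :=
      Groth.Agent.Lib.helper13.KRes.exists_isKFlatR_resolution (DerivedCategory.Q.objPreimage M)
    haveI : QuasiIso f := hf
    have eM : DerivedCategory.Q.obj P ≅ M :=
      CategoryTheory.asIso (DerivedCategory.Q.map f) ≪≫ DerivedCategory.Q.objObjPreimageIso M
    obtain ⟨j⟩ := Groth.Agent.Lib.helper13.LTenCx.nonempty_LTensorCx_iso E E P hP (CategoryTheory.Iso.refl _) eM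
    have hfl : DRing.TermwiseFlat E := fun i => by
      haveI := (hEp i).2
      infer_instance
    have hPtor : DRing.HasTorAmplitudeIn R c d
        (DRing.toD ((Groth.Agent.Lib.helper13.ExtKFlat.resCx (algebraMap R A)).obj P)) :=
      Groth.Agent.Lib.helper23.TA.hasTorAmplitudeIn_of_iso
        ((DRing.restrictD (algebraMap R A)).mapIso eM.symm ≪≫
          Groth.Agent.Lib.helper23.TA.restrictDQIso P) hMtor
    have h := Groth.Agent.Lib.helper13.TorLow.hasTorAmplitudeIn_res_tensor (algebraMap R A) E P
      a b c d hEb hfl hPtor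
    refine ⟨a + c, b + d, Groth.Agent.Lib.helper23.TA.hasTorAmplitudeIn_of_iso ?_ h⟩
    exact (Groth.Agent.Lib.helper23.TA.restrictDQIso (CategoryTheory.MonoidalCategory.tensorObj E P)).symm ≪≫
      (DRing.restrictD (algebraMap R A)).mapIso
        (DerivedCategory.Q.mapIso (DTen.braidCx E P) ≪≫ j.symm)

end Groth.Agent.S7102
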