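import Groth.Statements.S7107
import Mathlib
-- import your own Groth.Agent.* helpers here

set_option autoImplicit false
universe u
open CAlg
open TensorProduct

namespace Groth.Agent.S7107

/-- Let R be a ring and P, Q modules such that P ⊕ Q is isomorphic to a free module F on an infinite
basis. Then P ⊕ F is isomorphic to F. -/
theorem result (R : Type u) [CommRing R] (P Q : Type u) [AddCommGroup P] [Module R P]
    [AddCommGroup Q] [Module R Q] (ι : Type u) [Infinite ι] (e : (P × Q) ≃ₗ[R] (ι →₀ R)) :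
    Nonempty ((P × (ι →₀ R)) ≃ₗ[R] (ι →₀ R)) := by
  -- ℕ × ι ≃ ι
  have hcard : Cardinal.mk (ℕ × ι) = Cardinal.mk ι := by
    simp [Cardinal.aleph0_mul_eq (Cardinal.aleph0_le_mk ι)]
  obtain ⟨σ⟩ := Cardinal.eq.mp hcard
  -- N := ℕ →₀ R
  let N := ℕ →₀ R
  -- F ≅ N ⊗ F
  let e1 : (N ⊗[R] (ι →₀ R)) ≃ₗ[R] (ι →₀ R) :=
    (finsuppTensorFinsupp' R ℕ ι) ≪≫ₗ Finsupp.domLCongr σ
  -- N ⊗ F ≅ N ⊗ (P × Q) ≅ N ⊗ P × N ⊗ Q
  let e2 : (N ⊗[R] (ι →₀ R)) ≃ₗ[R] (N ⊗[R] P) × (N ⊗[R] Q) :=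
    (TensorProduct.congr (LinearEquiv.refl R N) e.symm) ≪≫ₗ TensorProduct.prodRight R R N P Q
  -- N ≅ R × N
  let e3 : N ≃ₗ[R] R × N :=
    (Finsupp.domLCongr (Equiv.natSumPUnitEquivNat.{0}).symm) ≪≫ₗ
      (Finsupp.sumFinsuppLEquivProdFinsupp R) ≪≫ₗ
      (LinearEquiv.prodComm R _ _) ≪≫ₗ
      (LinearEquiv.prodCongr (Finsupp.uniqueLinearEquiv R R PUnit.unit) (LinearEquiv.refl R N))
  -- N ⊗ P ≅ P × N ⊗ P
  let e4 : (N ⊗[R] P) ≃ₗ[R] P × (N ⊗[R] P) :=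
    (TensorProduct.congr e3 (LinearEquiv.refl R P)) ≪≫ₗ TensorProduct.prodLeft R R R N P ≪≫ₗ
      (LinearEquiv.prodCongr (TensorProduct.lid R P) (LinearEquiv.refl R _))
  -- F ≅ A × B
  let e5 : (ι →₀ R) ≃ₗ[R] (N ⊗[R] P) × (N ⊗[R] Q) := e1.symm ≪≫ₗ e2
  exact ⟨(LinearEquiv.prodCongr (LinearEquiv.refl R P) e5) ≪≫ₗ
    (LinearEquiv.prodAssoc R P (N ⊗[R] P) (N ⊗[R] Q)).symm ≪≫ₗ
    (LinearEquiv.prodCongr e4.symm (LinearEquiv.refl R _)) ≪≫ₗ e5.symm⟩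

end Groth.Agent.S7107
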