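import Groth.Statements.S7108
import Mathlib
import Groth.Agent.S7107

set_option autoImplicit false
universe u
open CAlg

namespace Groth.Agent.S7108

/-- Every projective module P over a ring R becomes free after adding a suitable free module: P ⊕ F is
free for some free module F (here F is the free module on some index type). -/
theorem result (R : Type u) [CommRing R] (P : Type u) [AddCommGroup P]
    [Module R P] [Module.Projective R P] : ∃ ι : Type u, Module.Free R (P × (ι →₀ R)) := by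
  obtain ⟨s, hs⟩ := (Module.projective_def (R := R) (P := P)).mp inferInstance
  -- P is a direct summand of F0 := P →₀ R
  let π : (P →₀ R) →ₗ[R] P := Finsupp.linearCombination R id
  have hsinj : Function.Injective s := hs.injective
  let p : Submodule R (P →₀ R) := LinearMap.range s
  let eP : P ≃ₗ[R] p := LinearEquiv.ofInjective s hsinj
  let f : (P →₀ R) →ₗ[R] p := s.rangeRestrict ∘ₗ π
  have hf : ∀ x : p, f x = x := by
    rintro ⟨_, y, rfl⟩
    apply Subtype.ext
    change s (π (s y)) = s y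
    rw [show π (s y) = y from hs y]
  have hcompl : IsCompl p (LinearMap.ker f) := LinearMap.isCompl_of_proj hf
  let Q := LinearMap.ker f
  let e0 : (P × Q) ≃ₗ[R] (P →₀ R) :=
    (LinearEquiv.prodCongr eP (LinearEquiv.refl R Q)) ≪≫ₗ Submodule.prodEquivOfIsCompl p Q hcompl
  -- enlarge to an infinite index type
  let σ : P × ℕ ≃ (P × ℕ) ⊕ P :=
    (Equiv.prodCongr (Equiv.refl P) (Equiv.natSumPUnitEquivNat.{0}).symm).trans
      ((Equiv.prodSumDistrib P ℕ PUnit).trans
        (Equiv.sumCongr (Equiv.refl _) (Equiv.prodPUnit P)))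
  let e1 : ((P × ℕ) →₀ R) ≃ₗ[R] ((P × ℕ) →₀ R) × (P →₀ R) :=
    (Finsupp.domLCongr σ) ≪≫ₗ (Finsupp.sumFinsuppLEquivProdFinsupp R)
  -- P × (Q × F) ≅ F
  let e2 : (P × (Q × ((P × ℕ) →₀ R))) ≃ₗ[R] ((P × ℕ) →₀ R) :=
    (LinearEquiv.prodAssoc R P Q _).symm ≪≫ₗ (LinearEquiv.prodCongr e0 (LinearEquiv.refl R _)) ≪≫ₗ
      (LinearEquiv.prodComm R _ _) ≪≫ₗ e1.symm
  obtain ⟨e3⟩ := Groth.Agent.S7107.result R P (Q × ((P × ℕ) →₀ R)) (P × ℕ) e2
  exact ⟨P × ℕ, Module.Free.of_equiv e3.symm⟩

end Groth.Agent.S7108
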