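import Groth.Statements.S7114
import Mathlib
-- import your own Groth.Agent.* helpers here

set_option autoImplicit false
universe u
open CAlg

namespace Groth.Agent.S7114

section
variable {R : Type u} [CommRing R] (x : R) (n : ℕ)

/-- multiplication by `xⁿ` from `R/(x)` to `R/(x^(n+1))`. -/
noncomputable def α : (R ⧸ Ideal.span {x}) →ₗ[R] (R ⧸ Ideal.span {x ^ (n + 1)}) :=
  Submodule.liftQ (Ideal.span {x}) ((Ideal.span {x ^ (n + 1)}).mkQ ∘ₗ ((x ^ n) • LinearMap.id)) (by
    rw [Ideal.span_le, Set.singleton_subset_iff]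
    change x ∈ LinearMap.ker _
    rw [LinearMap.mem_ker, LinearMap.comp_apply, LinearMap.smul_apply, LinearMap.id_apply,
      Submodule.mkQ_apply, Submodule.Quotient.mk_eq_zero, smul_eq_mul, ← pow_succ]
    exact Ideal.subset_span rfl)

lemma α_mk (r : R) : α x n (Submodule.Quotient.mk r) = Submodule.Quotient.mk (x ^ n * r) := rfl

/-- the projection `R/(x^(n+1)) → R/(xⁿ)`. -/
noncomputable def β : (R ⧸ Ideal.span {x ^ (n + 1)}) →ₗ[R] (R ⧸ Ideal.span {x ^ n}) :=
  Submodule.liftQ (Ideal.span {x ^ (n + 1)}) (Ideal.span {x ^ n}).mkQ (by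
    rw [Submodule.ker_mkQ, Ideal.span_le, Set.singleton_subset_iff, pow_succ]
    exact Ideal.mul_mem_right _ _ (Ideal.subset_span rfl))

lemma β_mk (r : R) : β x n (Submodule.Quotient.mk r) = Submodule.Quotient.mk r := rfl

lemma β_surjective : Function.Surjective (β x n) := by
  intro y
  obtain ⟨r, rfl⟩ := Submodule.Quotient.mk_surjective _ y
  exact ⟨Submodule.Quotient.mk r, rfl⟩

lemma exact_αβ : Function.Exact (α x n) (β x n) := by
  intro y
  obtain ⟨r, rfl⟩ := Submodule.Quotient.mk_surjective _ y
  rw [β_mk, Submodule.Quotient.mk_eq_zero]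
  constructor
  · intro h
    obtain ⟨c, hc⟩ := Ideal.mem_span_singleton'.1 h
    refine ⟨Submodule.Quotient.mk c, ?_⟩
    rw [α_mk, mul_comm, hc]
  · rintro ⟨z, hz⟩
    obtain ⟨c, rfl⟩ := Submodule.Quotient.mk_surjective _ z
    rw [α_mk, Submodule.Quotient.eq] at hz
    have h1 : x ^ n * c - r ∈ Ideal.span {x ^ n} := by
      refine (Ideal.span_le.2 ?_) hz
      rw [Set.singleton_subset_iff, pow_succ]
      exact Ideal.mul_mem_right _ _ (Ideal.subset_span rfl)
    have h2 : x ^ n * c ∈ Ideal.span {x ^ n} := Ideal.mul_mem_right _ _ (Ideal.subset_span rfl)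
    have := Ideal.sub_mem _ h2 h1
    simpa using this

lemma α_injective (hx : x ∈ nonZeroDivisors R) : Function.Injective (α x n) := by
  rw [injective_iff_map_eq_zero]
  intro y hy
  obtain ⟨r, rfl⟩ := Submodule.Quotient.mk_surjective _ y
  rw [α_mk, Submodule.Quotient.mk_eq_zero] at hy
  obtain ⟨c, hc⟩ := Ideal.mem_span_singleton'.1 hy
  have hxn : x ^ n ∈ nonZeroDivisors R := pow_mem hx n
  have h1 : x ^ n * (c * x) = x ^ n * r := by rw [← hc, pow_succ]; ring
  have h2 : c * x = r := (mul_cancel_left_mem_nonZeroDivisors hxn).1 h1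
  rw [Submodule.Quotient.mk_eq_zero, ← h2]
  exact Ideal.mul_mem_left _ _ (Ideal.subset_span rfl)

lemma length_succ :
    Module.length R (R ⧸ Ideal.span {x ^ (n + 1)}) =
      Module.length R (LinearMap.range (α x n)) + Module.length R (R ⧸ Ideal.span {x ^ n}) := by
  refine Module.length_eq_add_of_exact (LinearMap.range (α x n)).subtype (β x n)
    (Submodule.subtype_injective _) (β_surjective x n) ?_
  rw [LinearMap.exact_iff, Submodule.range_subtype]
  exact LinearMap.exact_iff.1 (exact_αβ x n)

lemma main :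
    Module.length R (R ⧸ Ideal.span {x ^ n}) ≤ (n : ℕ∞) * Module.length R (R ⧸ Ideal.span {x}) ∧
      (x ∈ nonZeroDivisors R →
        Module.length R (R ⧸ Ideal.span {x ^ n}) = (n : ℕ∞) * Module.length R (R ⧸ Ideal.span {x})) := by
  induction n with
  | zero =>
    have : Subsingleton (R ⧸ Ideal.span {x ^ 0}) := by
      rw [pow_zero, Ideal.span_singleton_one]
      exact Ideal.Quotient.subsingleton_iff.2 rfl
    rw [Module.length_eq_zero]
    simp
  | succ n ih =>
    have hle : Module.length R (LinearMap.range (α x n)) ≤ Module.length R (R ⧸ Ideal.span {x}) :=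
      Module.length_le_of_surjective (α x n).rangeRestrict (LinearMap.surjective_rangeRestrict _)
    have hcast : ((n + 1 : ℕ) : ℕ∞) * Module.length R (R ⧸ Ideal.span {x}) =
        Module.length R (R ⧸ Ideal.span {x}) + (n : ℕ∞) * Module.length R (R ⧸ Ideal.span {x}) := by
      rw [Nat.cast_add, Nat.cast_one, add_mul, one_mul, add_comm]
    constructor
    · rw [length_succ, hcast]
      exact add_le_add hle ih.1
    · intro hx
      have heq : Module.length R (LinearMap.range (α x n)) = Module.length R (R ⧸ Ideal.span {x}) :=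
        (LinearEquiv.ofInjective (α x n) (α_injective x n hx)).length_eq.symm
      rw [length_succ, hcast, heq, ih.2 hx]

end

/-- Let R be a Noetherian local ring of Krull dimension one and x an element of the maximal ideal lying
in no minimal prime of R. Then for every n the length of R/xⁿR is at most n times the length of
R/xR, and equality holds when x is a nonzerodivisor. -/
theorem result (R : Type u) [CommRing R] [IsNoetherianRing R] [IsLocalRing R]
    (hdim : ringKrullDim R = 1) (x : R) (hx : x ∈ IsLocalRing.maximalIdeal R)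
    (hmin : ∀ p ∈ minimalPrimes R, x ∉ p) (n : ℕ) :
    Module.length R (R ⧸ Ideal.span {x ^ n}) ≤ (n : ℕ∞) * Module.length R (R ⧸ Ideal.span {x}) ∧
      (x ∈ nonZeroDivisors R →
        Module.length R (R ⧸ Ideal.span {x ^ n}) = (n : ℕ∞) * Module.length R (R ⧸ Ideal.span {x})) := by
  exact main x n

end Groth.Agent.S7114
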