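import Groth.Statements.S7116
import Groth.Agent.Lib.Helper26.Sop1


set_option autoImplicit false
universe u
open CAlg

namespace Groth.Agent.S7116


open Groth.Agent.Lib.helper26.Sop


/-- Let R be a Noetherian local ring of Krull dimension d with maximal ideal m and let f be an element
of m contained in no minimal prime. Then there are g_1, ..., g_{d-1} in m and a natural number N
such that f, g_1, ..., g_{d-1} is a system of parameters (these d elements of m generate an ideal
with radical m) and, for every h in m^N, the elements f + h, g_1, ..., g_{d-1} again form a system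
of parameters and the lengths of R/(f, g_1, ..., g_{d-1}) and R/(f + h, g_1, ..., g_{d-1}) agree. -/
theorem result (R : Type u) [CommRing R] [IsNoetherianRing R] [IsLocalRing R]
    (d : ℕ) (hd : ringKrullDim R = d) (f : R) (hf : f ∈ IsLocalRing.maximalIdeal R)
    (hmin : ∀ p ∈ minimalPrimes R, f ∉ p) :
    ∃ (g : Fin (d - 1) → R) (N : ℕ), (∀ i, g i ∈ IsLocalRing.maximalIdeal R) ∧
      IsLocalRing.maximalIdeal R ≤ (Ideal.span (insert f (Set.range g))).radical ∧
      ∀ h ∈ IsLocalRing.maximalIdeal R ^ N,
        IsLocalRing.maximalIdeal R ≤ (Ideal.span (insert (f + h) (Set.range g))).radical ∧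
        Module.length R (R ⧸ Ideal.span (insert f (Set.range g))) =
          Module.length R (R ⧸ Ideal.span (insert (f + h) (Set.range g))) := by
  obtain ⟨g, hgm, hrad⟩ := exists_sop_containing R d hd f hf hmin
  obtain ⟨N₀, hN₀⟩ := Ideal.exists_pow_le_of_le_radical_of_fg hrad
    (IsNoetherian.noetherian (IsLocalRing.maximalIdeal R))
  refine ⟨g, N₀ + 1, hgm, hrad, fun h hh => ?_⟩
  have hh' : h ∈ IsLocalRing.maximalIdeal R • Ideal.span (insert f (Set.range g)) := by
    rw [pow_succ'] at hh
    exact Ideal.mul_mono_right hN₀ hh
  have hhI : h ∈ Ideal.span (insert f (Set.range g)) :=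
    (Ideal.mul_le_right : IsLocalRing.maximalIdeal R * Ideal.span (insert f (Set.range g)) ≤ Ideal.span (insert f (Set.range g))) hh'
  have heq : Ideal.span (insert (f + h) (Set.range g)) = Ideal.span (insert f (Set.range g)) := by
    apply le_antisymm
    · rw [Ideal.span_le]
      intro x hx
      rcases hx with rfl | hx
      · exact Ideal.add_mem _ (Ideal.subset_span (Set.mem_insert _ _)) hhI
      · exact Ideal.subset_span (Set.mem_insert_of_mem _ hx)
    · apply Submodule.le_of_le_smul_of_le_jacobson_bot
        (I := IsLocalRing.maximalIdeal R) (IsNoetherian.noetherian _)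
      · rw [IsLocalRing.jacobson_eq_maximalIdeal ⊥ bot_ne_top]
      · rw [Ideal.span_le]
        intro x hx
        rcases hx with hx | hx
        · rw [hx]
          have key : (f + h) + (-h) ∈ Ideal.span (insert (f + h) (Set.range g)) ⊔
              IsLocalRing.maximalIdeal R • Ideal.span (insert f (Set.range g)) :=
            Submodule.add_mem_sup (Ideal.subset_span (Set.mem_insert _ _))
              (Submodule.neg_mem _ hh')
          rwa [add_neg_cancel_right] at key
        · exact Submodule.mem_sup_left (Ideal.subset_span (Set.mem_insert_of_mem _ hx))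
  rw [heq]
  exact ⟨hrad, rfl⟩


end Groth.Agent.S7116
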