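import Groth.Statements.S7117
import Groth.Agent.S12212
import Groth.Agent.Lib.Helper26.Mult5


set_option autoImplicit false
universe u
open CAlg

namespace Groth.Agent.S7117


open Groth.Agent.Lib.helper26.HS Pointwise

/-- `(t + d)^d / t^d → 1`. -/
theorem tendsto_shift_pow (d : ℕ) :
    Filter.Tendsto (fun t : ℕ => ((t : ℝ) + d) ^ d / (t : ℝ) ^ d) Filter.atTop (nhds 1) := by
  have h3 : Filter.Tendsto (fun t : ℕ => (1 + (d : ℝ) / (t : ℝ))) Filter.atTop (nhds (1 + 0)) :=
    tendsto_const_nhds.add (tendsto_const_div_atTop_nhds_zero_nat (d : ℝ))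
  rw [add_zero] at h3
  have h4 := h3.pow d
  rw [one_pow] at h4
  refine h4.congr' ?_
  filter_upwards [Filter.eventually_gt_atTop 0] with t ht
  have ht0 : (t : ℝ) ≠ 0 := by
    have : (0 : ℝ) < t := by exact_mod_cast ht
    exact ne_of_gt this
  rw [← div_pow]
  congr 1
  field_simp

theorem support_self_eq_univ (R : Type u) [CommRing R] (p : PrimeSpectrum R) :
    p ∈ Module.support R R := by
  rw [Module.mem_support_iff_of_finite]
  have : Module.annihilator R R = ⊥ := by
    rw [Module.annihilator_eq_bot]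
    exact (faithfulSMul_iff_algebraMap_injective R R).mpr fun {a₁ a₂} a ↦ a
  rw [this]
  exact bot_le


/-- Let R be a Noetherian local ring of Krull dimension d with maximal ideal m, and suppose g_1, ...,
g_d in m form a system of parameters (they generate an ideal with radical m). Then the number of
minimal prime ideals p of R with R/p of Krull dimension d is at most the length of R/(g_1, ...,
g_d). -/
theorem result (R : Type u) [CommRing R] [IsNoetherianRing R] [IsLocalRing R]
    (d : ℕ) (hd : ringKrullDim R = d) (g : Fin d → R) (hg : ∀ i, g i ∈ IsLocalRing.maximalIdeal R)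
    (hsop : IsLocalRing.maximalIdeal R ≤ (Ideal.span (Set.range g)).radical) :
    (Set.ncard {p : Ideal R | p ∈ minimalPrimes R ∧ ringKrullDim (R ⧸ p) = d} : ℕ∞) ≤
      Module.length R (R ⧸ Ideal.span (Set.range g)) := by
  classical
  set q : Ideal R := Ideal.span (Set.range g) with hqdef
  have hq_le : q ≤ IsLocalRing.maximalIdeal R := by
    rw [hqdef, Ideal.span_le]
    rintro _ ⟨i, rfl⟩
    exact hg i
  have hpow : ∃ n : ℕ, IsLocalRing.maximalIdeal R ^ n ≤ q :=
    Ideal.exists_pow_le_of_le_radical_of_fg hsop (IsNoetherian.noetherian _)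
  have hone : ∀ (N : Type u) [AddCommGroup N] [Module R N] [Module.Finite R N], hs q N 1 ≠ ⊤ :=
    fun N _ _ _ => Groth.Agent.S12211.hs_one_ne_top R q hpow N
  have hjac : q ≤ Ring.jacobson R := by
    rw [IsLocalRing.ringJacobson_eq_maximalIdeal]
    exact hq_le
  by_cases hlam : Module.length R (R ⧸ q) = ⊤
  · rw [hlam]
    exact le_top
  have hdR : Module.supportDim R R ≤ d := by
    rw [Module.supportDim_self_eq_ringKrullDim, hd]
  -- the multiplicities of the `R ⧸ p`
  have hex : ∀ p : PrimeSpectrum R, ∃ P : Polynomial ℚ, IsHSPoly q (R ⧸ p.asIdeal) P :=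
    fun p => exists_isHSPoly q (hone _)
  choose Pp hPp using hex
  let e : PrimeSpectrum R → ℝ := fun p => (d.factorial : ℝ) * (((Pp p).leadingCoeff : ℚ) : ℝ)
  have hdeg : ∀ p : PrimeSpectrum R, ringKrullDim (R ⧸ p.asIdeal) = d → (Pp p).natDegree = d := by
    intro p hp
    have hsd : Module.supportDim R (R ⧸ p.asIdeal) = d := by
      rw [Module.supportDim_quotient_eq_ringKrullDim, hp]
    have h1 := supportDim_le_of_natDegree_le q hjac (Pp p).natDegree (R ⧸ p.asIdeal) (hone _)
      (Pp p) (hPp p) le_rfl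
    rw [hsd] at h1
    have h1' : d ≤ (Pp p).natDegree := by exact_mod_cast h1
    have h2 := natDegree_le_of_supportDim_le q d (R ⧸ p.asIdeal) (hone _) (Pp p) (hPp p)
      (le_of_eq hsd)
    omega
  have he : ∀ p : PrimeSpectrum R, ringKrullDim (R ⧸ p.asIdeal) = d →
      Filter.Tendsto (fun t : ℕ => (d.factorial : ℝ) *
        ((Module.length R ((R ⧸ p.asIdeal) ⧸ (q ^ t • (⊤ : Submodule R (R ⧸ p.asIdeal))))).toNat : ℝ)
          / (t : ℝ) ^ d) Filter.atTop (nhds (e p)) :=
    fun p hp => tendsto_of_isHSPoly q (hPp p) d (hdeg p hp)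
  have he1 : ∀ p : PrimeSpectrum R, ringKrullDim (R ⧸ p.asIdeal) = d → 1 ≤ e p := by
    intro p hp
    have : Nontrivial (R ⧸ p.asIdeal) := Ideal.Quotient.nontrivial_iff.2 p.2.ne_top
    exact one_le_mult q hjac (hone _) (hPp p) d (hdeg p hp)
  have hlim := Groth.Agent.S12212.result R q ⟨hq_le, hpow⟩ R d hdR e he
  -- upper bound for the limit
  have hbound : ∀ n, hs q R n ≤ Module.length R (R ⧸ q) * ((n + d).choose d : ℕ∞) := by
    intro n
    have hmem : ∀ x ∈ List.ofFn g, x ∈ q := by
      intro x hx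
      rw [List.mem_ofFn] at hx
      obtain ⟨i, rfl⟩ := hx
      exact Ideal.subset_span ⟨i, rfl⟩
    have hofList : Ideal.ofList (List.ofFn g) = q := by
      rw [hqdef]
      unfold Ideal.ofList
      congr 1
      ext x
      simp [List.mem_ofFn]
    have hyp : ∀ n, hsN q ((⊥ : Submodule R R) ⊔
        Ideal.ofList (List.ofFn g) • (⊤ : Submodule R R)) n ≤ Module.length R (R ⧸ q) := by
      intro n
      unfold hsN
      refine (col_le_col (le_sup_left)).trans ?_
      rw [hofList, bot_sup_eq]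
      have : q • (⊤ : Submodule R R) = q := by
        rw [smul_eq_mul, ← Ideal.one_eq_top, mul_one]
      rw [this]
      exact le_rfl
    have := hsN_le_of_list q (List.ofFn g) hmem _ ⊥ hyp n
    rwa [hsN_bot, List.length_ofFn] at this
  set lam : ℕ := (Module.length R (R ⧸ q)).toNat with hlamdef
  have hlamc : (lam : ℕ∞) = Module.length R (R ⧸ q) := ENat.natCast_toNat hlam
  have hboundN : ∀ n, (hs q R n).toNat ≤ lam * (n + d).choose d := by
    intro n
    have h1 := hbound n
    rw [← hlamc] at h1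
    have h2 : hs q R n ≤ ((lam * (n + d).choose d : ℕ) : ℕ∞) := by
      push_cast
      exact h1
    exact ENat.toNat_le_of_le_natCast h2
  have hupper : Filter.Tendsto (fun t : ℕ => (lam : ℝ) * (((t : ℝ) + d) ^ d / (t : ℝ) ^ d))
      Filter.atTop (nhds ((lam : ℝ) * 1)) := (tendsto_shift_pow d).const_mul _
  rw [mul_one] at hupper
  have hle_lim := le_of_tendsto_of_tendsto' hlim hupper (fun t => ?_)
  swap
  · show (d.factorial : ℝ) * ((hs q R t).toNat : ℝ) / (t : ℝ) ^ d ≤ _
    rw [← mul_div_assoc]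
    apply div_le_div_of_nonneg_right _ (by positivity)
    have h1 : ((hs q R t).toNat : ℝ) ≤ (lam : ℝ) * ((t + d).choose d : ℝ) := by
      exact_mod_cast hboundN t
    have h2 : (((t + d).choose d : ℕ) : ℝ) ≤ ((t + d : ℕ) : ℝ) ^ d / (d.factorial : ℝ) :=
      Nat.choose_le_pow_div d (t + d)
    have hfac : (0 : ℝ) < (d.factorial : ℝ) := by exact_mod_cast Nat.factorial_pos d
    calc (d.factorial : ℝ) * ((hs q R t).toNat : ℝ)
        ≤ (d.factorial : ℝ) * ((lam : ℝ) * ((t + d).choose d : ℝ)) := by gcongr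
      _ ≤ (d.factorial : ℝ) * ((lam : ℝ) * (((t + d : ℕ) : ℝ) ^ d / (d.factorial : ℝ))) := by gcongr
      _ = (lam : ℝ) * ((t : ℝ) + d) ^ d := by
        push_cast
        field_simp
  -- lower bound for the limit by the number of primes
  set T : Set (PrimeSpectrum R) := {p | ringKrullDim (R ⧸ p.asIdeal) = d} with hTdef
  have hTmin : ∀ p ∈ T, p.asIdeal ∈ minimalPrimes R := by
    intro p hp
    obtain ⟨r, hrm, hr⟩ := Ideal.exists_minimalPrimes_le (I := ⊥) (J := p.asIdeal) bot_le
    have := eq_of_le_of_coheight_eq hdR hp (support_self_eq_univ R ⟨r, hrm.1.1⟩) hr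
    rw [← this]
    exact hrm
  have hTfin : T.Finite := by
    have hfin : (minimalPrimes R).Finite := minimalPrimes.finite_of_isNoetherianRing R
    have hinj : Set.InjOn (fun p : PrimeSpectrum R => p.asIdeal)
        ((fun p : PrimeSpectrum R => p.asIdeal) ⁻¹' (minimalPrimes R)) :=
      fun p _ p' _ h => PrimeSpectrum.ext h
    exact (hfin.preimage hinj).subset hTmin
  have hS : {p : Ideal R | p ∈ minimalPrimes R ∧ ringKrullDim (R ⧸ p) = d} =
      (fun p : PrimeSpectrum R => p.asIdeal) '' T := by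
    ext p
    constructor
    · rintro ⟨hp1, hp2⟩
      exact ⟨⟨p, hp1.1.1⟩, hp2, rfl⟩
    · rintro ⟨P, hP, rfl⟩
      exact ⟨hTmin P hP, hP⟩
  have hcard : Set.ncard {p : Ideal R | p ∈ minimalPrimes R ∧ ringKrullDim (R ⧸ p) = d} =
      hTfin.toFinset.card := by
    rw [hS, Set.ncard_image_of_injective _ (fun p p' h => PrimeSpectrum.ext h),
      Set.ncard_eq_toFinset_card T hTfin]
  have hsum : ((hTfin.toFinset.card : ℕ) : ℝ) ≤
      ∑ᶠ (p : PrimeSpectrum R) (_ : ringKrullDim (R ⧸ p.asIdeal) = d),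
        ((Module.length (Localization.AtPrime p.asIdeal)
          (LocalizedModule p.asIdeal.primeCompl R)).toNat : ℝ) * e p := by
    have h1 : (∑ᶠ (p : PrimeSpectrum R) (_ : ringKrullDim (R ⧸ p.asIdeal) = d),
        ((Module.length (Localization.AtPrime p.asIdeal)
          (LocalizedModule p.asIdeal.primeCompl R)).toNat : ℝ) * e p) =
        ∑ p ∈ hTfin.toFinset, ((locLen R p).toNat : ℝ) * e p :=
      finsum_mem_eq_finite_toFinset_sum _ hTfin
    rw [h1]
    have h2 : ((hTfin.toFinset.card : ℕ) : ℝ) = ∑ p ∈ hTfin.toFinset, (1 : ℝ) := by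
      simp
    rw [h2]
    apply Finset.sum_le_sum
    intro p hp
    rw [Set.Finite.mem_toFinset] at hp
    have hl0 : locLen R p ≠ 0 := fun h => (locLen_eq_zero_iff.1 h) (support_self_eq_univ R p)
    have hltop : locLen R p ≠ ⊤ := locLen_ne_top hdR hp
    have hl1 : 1 ≤ (locLen R p).toNat := by
      rcases Nat.eq_zero_or_pos (locLen R p).toNat with h | h
      · rcases (ENat.toNat_eq_zero).1 h with h' | h'
        · exact absurd h' hl0
        · exact absurd h' hltop
      · exact h
    have hl1' : (1 : ℝ) ≤ ((locLen R p).toNat : ℝ) := by exact_mod_cast hl1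
    calc (1 : ℝ) = 1 * 1 := (mul_one 1).symm
      _ ≤ ((locLen R p).toNat : ℝ) * e p := by
        apply mul_le_mul hl1' (he1 p hp) zero_le_one
        linarith
  have hfinal : ((hTfin.toFinset.card : ℕ) : ℝ) ≤ (lam : ℝ) := hsum.trans hle_lim
  have hfinal' : hTfin.toFinset.card ≤ lam := by exact_mod_cast hfinal
  rw [hcard, ← hlamc]
  exact_mod_cast hfinal'


end Groth.Agent.S7117
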