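import Groth.Statements.S7119
import Groth.Agent.Lib.Helper26.RedDiv3

set_option autoImplicit false
universe u
open CAlg

namespace Groth.Agent.S7119

/-- Let R be a Noetherian normal local domain of Krull dimension 2 and let p_1, ..., p_r be finitely
many prime ideals of height one. Then there is a nonzero element f lying in all the p_i such that
R/fR is reduced. -/
theorem result (R : Type u) [CommRing R] [IsDomain R]
    [IsNoetherianRing R] [IsLocalRing R] [IsIntegrallyClosed R] (hdim : ringKrullDim R = 2)
    (s : Finset (Ideal R)) (hs : ∀ p ∈ s, p.IsPrime ∧ p.height = 1) :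
    ∃ f : R, f ≠ 0 ∧ (∀ p ∈ s, f ∈ p) ∧ IsReduced (R ⧸ Ideal.span {f}) := by

  obtain ⟨f, hf0, hfs, hrad⟩ := Groth.Agent.Lib.helper26.RedDiv.exists_isRadical hdim s hs
  exact ⟨f, hf0, hfs, (Ideal.isRadical_iff_quotient_reduced _).mp hrad⟩

end Groth.Agent.S7119
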