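import Groth.Statements.S7121
import Mathlib
import Groth.Agent.S2016

set_option autoImplicit false
universe u
open CAlg

namespace Groth.Agent.S7121


section aux

open scoped Classical

variable {R : Type u} [CommRing R]

theorem loc_dvd [IsDomain R] [IsBezout R] (m : Ideal R) [hm : m.IsMaximal]
    (a b : Localization.AtPrime m) : a ∣ b ∨ b ∣ a := by
  obtain ⟨x, s, rfl⟩ := IsLocalization.exists_mk'_eq m.primeCompl a
  obtain ⟨y, t, rfl⟩ := IsLocalization.exists_mk'_eq m.primeCompl b
  have hx : algebraMap R (Localization.AtPrime m) x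
      = IsLocalization.mk' (Localization.AtPrime m) x s *
        algebraMap R (Localization.AtPrime m) s :=
    (IsLocalization.mk'_spec _ x s).symm
  have hy : algebraMap R (Localization.AtPrime m) y
      = IsLocalization.mk' (Localization.AtPrime m) y t *
        algebraMap R (Localization.AtPrime m) t :=
    (IsLocalization.mk'_spec _ y t).symm
  have hus : IsUnit (algebraMap R (Localization.AtPrime m) s) := IsLocalization.map_units _ s
  have hut : IsUnit (algebraMap R (Localization.AtPrime m) t) := IsLocalization.map_units _ t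
  have key : algebraMap R (Localization.AtPrime m) x ∣ algebraMap R (Localization.AtPrime m) y ∨
      algebraMap R (Localization.AtPrime m) y ∣ algebraMap R (Localization.AtPrime m) x := by
    obtain ⟨g, x', y', α, β, hx', hy', hαβ⟩ :
        ∃ g x' y' α β : R, x = g * x' ∧ y = g * y' ∧ α * x + β * y = g := by
      obtain ⟨x', hx'⟩ := IsBezout.gcd_dvd_left x y
      obtain ⟨y', hy'⟩ := IsBezout.gcd_dvd_right x y
      obtain ⟨α, β, hαβ⟩ := IsBezout.gcd_eq_sum x y
      exact ⟨_, x', y', α, β, hx', hy', hαβ⟩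
    by_cases hg0 : g = 0
    · left
      rw [hx', hy', hg0, zero_mul, zero_mul]
    · have h1 : α * x' + β * y' = 1 := by
        have h2 : g * (α * x' + β * y') = g * 1 := by
          calc g * (α * x' + β * y') = α * (g * x') + β * (g * y') := by ring
            _ = α * x + β * y := by rw [← hx', ← hy']
            _ = g := hαβ
            _ = g * 1 := (mul_one g).symm
        exact mul_left_cancel₀ hg0 h2
      have hnot : x' ∉ m ∨ y' ∉ m := by
        by_contra hcon
        push Not at hcon
        have h3 : (1 : R) ∈ m :=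
          h1 ▸ m.add_mem (m.mul_mem_left α hcon.1) (m.mul_mem_left β hcon.2)
        exact hm.ne_top ((Ideal.eq_top_iff_one m).mpr h3)
      rcases hnot with hx'm | hy'm
      · left
        have hu : IsUnit (algebraMap R (Localization.AtPrime m) x') :=
          IsLocalization.map_units _ (⟨x', hx'm⟩ : m.primeCompl)
        rw [hx', hy', map_mul, map_mul]
        exact (hu.mul_right_dvd).mpr (dvd_mul_right _ _)
      · right
        have hu : IsUnit (algebraMap R (Localization.AtPrime m) y') :=
          IsLocalization.map_units _ (⟨y', hy'm⟩ : m.primeCompl)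
        rw [hx', hy', map_mul, map_mul]
        exact (hu.mul_right_dvd).mpr (dvd_mul_right _ _)
  rcases key with h | h
  · left
    rw [hx, hy] at h
    exact (hut.dvd_mul_right).mp ((hus.mul_right_dvd).mp h)
  · right
    rw [hx, hy] at h
    exact (hus.dvd_mul_right).mp ((hut.mul_right_dvd).mp h)

theorem split_of_section {P Q : Type*} [AddCommGroup P] [Module R P] [AddCommGroup Q]
    [Module R Q] (ρ : P →ₗ[R] Q) (σ : Q →ₗ[R] P) (h : ∀ q, ρ (σ q) = q) :
    Nonempty (P ≃ₗ[R] (LinearMap.ker ρ × Q)) := by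
  let g₂ : P →ₗ[R] LinearMap.ker ρ :=
    LinearMap.codRestrict (LinearMap.ker ρ) (LinearMap.id - σ ∘ₗ ρ) (fun y => by
      rw [LinearMap.mem_ker, LinearMap.sub_apply, map_sub, LinearMap.id_apply,
        LinearMap.comp_apply, h, sub_self])
  have hg₂ : ∀ y, ((g₂ y : LinearMap.ker ρ) : P) = y - σ (ρ y) := fun y => rfl
  refine ⟨LinearEquiv.ofLinearMap (g₂.prod ρ) ((LinearMap.ker ρ).subtype.coprod σ) ?_ ?_⟩
  · apply LinearMap.ext
    rintro ⟨k, q⟩
    have hk : ρ (k : P) = 0 := LinearMap.mem_ker.mp k.2
    have h1 : ρ ((k : P) + σ q) = q := by rw [map_add, h, hk, zero_add]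
    show (g₂ ((k : P) + σ q), ρ ((k : P) + σ q)) = (k, q)
    refine Prod.ext (Subtype.ext ?_) h1
    show ((g₂ ((k : P) + σ q) : LinearMap.ker ρ) : P) = k
    rw [hg₂, h1]
    abel
  · apply LinearMap.ext
    intro y
    show ((g₂ y : LinearMap.ker ρ) : P) + σ (ρ y) = y
    rw [hg₂]
    abel

theorem free_of_injective [IsDomain R] [IsBezout R] :
    ∀ (n : ℕ) (P : Type u) [AddCommGroup P] [Module R P] [Module.Finite R P]
      (j : P →ₗ[R] (Fin n → R)), Function.Injective j → Module.Free R P := by
  intro n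
  induction n with
  | zero =>
    intro P _ _ _ j hj
    haveI : Subsingleton P := ⟨fun a b => hj (Subsingleton.elim _ _)⟩
    exact Module.Free.of_subsingleton R P
  | succ n ih =>
    intro P _ _ _ j hj
    let π : P →ₗ[R] R := LinearMap.proj (Fin.last n) ∘ₗ j
    let init : (Fin (n + 1) → R) →ₗ[R] (Fin n → R) := LinearMap.funLeft R R Fin.castSucc
    have hπ_apply : ∀ p, π p = j p (Fin.last n) := fun p => rfl
    have hinit_apply : ∀ (v : Fin (n + 1) → R) (i : Fin n), init v i = v (Fin.castSucc i) :=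
      fun v i => rfl
    have hinj : ∀ p q : P, π p = π q → init (j p) = init (j q) → p = q := by
      intro p q h1 h2
      apply hj
      funext i
      refine Fin.lastCases ?_ (fun k => ?_) i
      · exact h1
      · exact congr_fun h2 k
    by_cases hπ : π = 0
    · refine ih P (init ∘ₗ j) ?_
      intro p q hpq
      exact hinj p q (by rw [hπ, LinearMap.zero_apply, LinearMap.zero_apply]) hpq
    · have hfg : (LinearMap.range π).FG := by
        rw [LinearMap.range_eq_map]
        exact (Module.Finite.fg_top (R := R) (M := P)).map π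
      haveI hprinc : (LinearMap.range π : Ideal R).IsPrincipal :=
        IsBezout.isPrincipal_of_FG _ hfg
      have hne : (LinearMap.range π : Ideal R) ≠ ⊥ := fun h0 => hπ (LinearMap.range_eq_bot.mp h0)
      let iso : R ≃ₗ[R] (LinearMap.range π : Ideal R) := Ideal.isoBaseOfIsPrincipal hne
      let ρ : P →ₗ[R] R := iso.symm.toLinearMap ∘ₗ π.rangeRestrict
      have hρ_surj : Function.Surjective ρ :=
        iso.symm.surjective.comp π.surjective_rangeRestrict
      obtain ⟨p₀, hp₀⟩ := hρ_surj 1
      let σ : R →ₗ[R] P := LinearMap.toSpanSingleton R P p₀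
      have hρσ : ∀ r, ρ (σ r) = r := by
        intro r
        show ρ (r • p₀) = r
        rw [map_smul, hp₀, smul_eq_mul, mul_one]
      obtain ⟨e⟩ := split_of_section ρ σ hρσ
      haveI : Module.Finite R (LinearMap.ker ρ) :=
        Module.Finite.of_surjective ((LinearMap.fst R (LinearMap.ker ρ) R) ∘ₗ e.toLinearMap)
          (fun k => ⟨e.symm (k, 0), by
            show (e (e.symm (k, 0))).1 = k
            rw [LinearEquiv.apply_symm_apply]⟩)
      have hρ0 : ∀ p : P, ρ p = 0 → π p = 0 := by
        intro p hp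
        have h1 : π.rangeRestrict p = 0 := by
          have : iso.symm (π.rangeRestrict p) = 0 := hp
          exact iso.symm.map_eq_zero_iff.mp this
        have h2 : ((π.rangeRestrict p : LinearMap.range π) : R) = 0 := by rw [h1]; rfl
        exact h2
      haveI : Module.Free R (LinearMap.ker ρ) := by
        refine ih (LinearMap.ker ρ) (init ∘ₗ j ∘ₗ (LinearMap.ker ρ).subtype) ?_
        intro p q hpq
        apply Subtype.ext
        refine hinj p q ?_ hpq
        rw [hρ0 p (LinearMap.mem_ker.mp p.2), hρ0 q (LinearMap.mem_ker.mp q.2)]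
      exact Module.Free.of_equiv e.symm

noncomputable def gI (a : R) : R := if a = 0 then 1 else a

theorem gI_ne [Nontrivial R] (a : R) : gI a ≠ 0 := by
  unfold gI
  split_ifs with h
  · exact one_ne_zero
  · exact h

theorem span_le_gI (a : R) : Ideal.span {a} ≤ Ideal.span {gI a} := by
  unfold gI
  split_ifs with h
  · rw [h, Ideal.span_singleton_eq_bot.mpr rfl]; exact bot_le
  · exact le_refl _

theorem span_gI_le (a : R) (h : a ≠ 0) : Ideal.span {gI a} ≤ Ideal.span {a} := by
  unfold gI
  rw [if_neg h]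

theorem smul_quot_eq_zero (a d : R) (h : a ∣ d) (z : R ⧸ Ideal.span {a}) : d • z = 0 := by
  obtain ⟨r, rfl⟩ := Submodule.Quotient.mk_surjective _ z
  obtain ⟨e, rfl⟩ := h
  rw [← Submodule.Quotient.mk_smul, Submodule.Quotient.mk_eq_zero, smul_eq_mul,
    Ideal.mem_span_singleton]
  exact ⟨e * r, by ring⟩

theorem tors_zero [IsDomain R] (a : R) (ha : a = 0) (c : R) (hc : c ≠ 0)
    (z : R ⧸ Ideal.span {a}) (hz : c • z = 0) : z = 0 := by
  obtain ⟨r, rfl⟩ := Submodule.Quotient.mk_surjective _ z
  rw [← Submodule.Quotient.mk_smul, Submodule.Quotient.mk_eq_zero, smul_eq_mul,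
    Ideal.mem_span_singleton, ha, zero_dvd_iff] at hz
  rcases mul_eq_zero.mp hz with h | h
  · exact absurd h hc
  · rw [h]; rfl

noncomputable def thetaI (a : R) : (R ⧸ Ideal.span {a}) →ₗ[R] R :=
  Submodule.liftQ (Ideal.span {a}) (if a = 0 then LinearMap.id else 0) (by
    split_ifs with h
    · rw [h, Ideal.span_singleton_eq_bot.mpr rfl]; exact bot_le
    · rw [LinearMap.ker_zero]; exact le_top)

theorem thetaI_mk (a r : R) :
    thetaI a (Submodule.Quotient.mk r) = if a = 0 then r else 0 := by
  unfold thetaI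
  rw [Submodule.liftQ_apply]
  split_ifs <;> rfl

theorem thetaI_K1 (a : R) (z : R ⧸ Ideal.span {a}) (hz : thetaI a z = 0) (d : R)
    (hd : gI a ∣ d) : d • z = 0 := by
  by_cases h : a = 0
  · obtain ⟨r, rfl⟩ := Submodule.Quotient.mk_surjective _ z
    rw [thetaI_mk, if_pos h] at hz
    rw [hz, Submodule.Quotient.mk_zero, smul_zero]
  · unfold gI at hd
    rw [if_neg h] at hd
    exact smul_quot_eq_zero a d hd z

theorem thetaI_K2 [IsDomain R] (a : R) (z : R ⧸ Ideal.span {a}) (c : R) (hc : c ≠ 0)
    (hz : c • z = 0) : thetaI a z = 0 := by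
  have h1 : c * thetaI a z = 0 := by
    rw [← smul_eq_mul, ← map_smul, hz, map_zero]
  rcases mul_eq_zero.mp h1 with h | h
  · exact absurd h hc
  · exact h

noncomputable def alphaI (a : R) : (R ⧸ Ideal.span {a}) →ₗ[R] (R ⧸ Ideal.span {gI a}) :=
  Submodule.factor (span_le_gI a)

noncomputable def betaI (a : R) : (R ⧸ Ideal.span {gI a}) →ₗ[R] (R ⧸ Ideal.span {a}) :=
  if h : a = 0 then 0 else Submodule.factor (span_gI_le a h)

theorem betaI_alphaI (a : R) (h : a ≠ 0) (z : R ⧸ Ideal.span {a}) :
    betaI a (alphaI a z) = z := by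
  obtain ⟨r, rfl⟩ := Submodule.Quotient.mk_surjective _ z
  unfold betaI alphaI
  rw [dif_neg h]
  rfl

end aux


/-- Over a Bézout domain R, a finitely presented module M splits as R^r ⊕ M_tors for some r, and its
torsion part M_tors is a retract (direct summand) of R/f_1R ⊕ … ⊕ R/f_nR for some nonzero f_1, …,
f_n. -/
theorem result (R : Type u) [CommRing R] [IsDomain R] [IsBezout R]
    (M : Type u) [AddCommGroup M] [Module R M] [Module.FinitePresentation R M] :
    (∃ r : ℕ, Nonempty (M ≃ₗ[R] ((Fin r → R) × Submodule.torsion R M))) ∧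
      ∃ (n : ℕ) (f : Fin n → R), (∀ j, f j ≠ 0) ∧
        ∃ (i : Submodule.torsion R M →ₗ[R] ((j : Fin n) → R ⧸ Ideal.span {f j}))
          (p : ((j : Fin n) → R ⧸ Ideal.span {f j}) →ₗ[R] Submodule.torsion R M),
          p ∘ₗ i = LinearMap.id := by
  classical
  obtain ⟨n, f, N, _, _, ⟨E⟩⟩ := Groth.Agent.S2016.result R (fun m _ a b => loc_dvd m a b) M
  -- the product of the nonzero generators
  let d : R := ∏ i, gI (f i)
  have hd : d ≠ 0 := Finset.prod_ne_zero_iff.mpr (fun i _ => gI_ne (f i))
  have hgd : ∀ i, gI (f i) ∣ d := fun i => Finset.dvd_prod_of_mem _ (Finset.mem_univ i)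
  constructor
  · -- the free part
    let θ : ((i : Fin n) → R ⧸ Ideal.span {f i}) →ₗ[R] (Fin n → R) :=
      LinearMap.pi (fun i => thetaI (f i) ∘ₗ LinearMap.proj i)
    have hθ : ∀ y i, θ y i = thetaI (f i) (y i) := fun y i => rfl
    let τ : M →ₗ[R] (Fin n → R) := θ ∘ₗ E.toLinearMap ∘ₗ LinearMap.inl R M N
    have hτ : ∀ x, τ x = θ (E (x, 0)) := fun x => rfl
    have hker : LinearMap.ker τ = Submodule.torsion R M := by
      ext x
      rw [LinearMap.mem_ker, Submodule.mem_torsion_iff]
      constructor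
      · intro hx
        refine ⟨⟨d, mem_nonZeroDivisors_of_ne_zero hd⟩, ?_⟩
        show d • x = 0
        have h1 : d • E (x, 0) = 0 := by
          funext i
          rw [Pi.smul_apply, Pi.zero_apply]
          refine thetaI_K1 (f i) _ ?_ d (hgd i)
          rw [← hθ, ← hτ, hx, Pi.zero_apply]
        rw [← map_smul, E.map_eq_zero_iff, Prod.smul_mk, Prod.mk_eq_zero] at h1
        exact h1.1
      · rintro ⟨⟨c, hc⟩, hcx⟩
        have hcx' : c • x = 0 := hcx
        have hc0 : c ≠ 0 := nonZeroDivisors.ne_zero hc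
        have h1 : c • E (x, 0) = 0 := by
          rw [← map_smul, Prod.smul_mk, hcx', smul_zero, Prod.mk_zero_zero, map_zero]
        rw [hτ]
        funext i
        rw [hθ, Pi.zero_apply]
        refine thetaI_K2 (f i) _ c hc0 ?_
        rw [← Pi.smul_apply, h1, Pi.zero_apply]
    haveI : Module.Free R (LinearMap.range τ) :=
      free_of_injective n (LinearMap.range τ) (LinearMap.range τ).subtype
        (Submodule.subtype_injective _)
    obtain ⟨σ, hσ⟩ := Module.projective_lifting_property τ.rangeRestrict LinearMap.id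
      τ.surjective_rangeRestrict
    obtain ⟨e⟩ := split_of_section τ.rangeRestrict σ (fun q => LinearMap.congr_fun hσ q)
    have hker' : LinearMap.ker τ.rangeRestrict = Submodule.torsion R M := by
      rw [LinearMap.ker_rangeRestrict, hker]
    refine ⟨Module.finrank R (LinearMap.range τ), ⟨?_⟩⟩
    exact e ≪≫ₗ (LinearEquiv.prodCongr (LinearEquiv.ofEq _ _ hker')
      (Module.finBasis R (LinearMap.range τ)).equivFun) ≪≫ₗ LinearEquiv.prodComm R _ _
  · -- the torsion part
    let α : ((i : Fin n) → R ⧸ Ideal.span {f i}) →ₗ[R] ((i : Fin n) → R ⧸ Ideal.span {gI (f i)}) :=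
      LinearMap.pi (fun i => alphaI (f i) ∘ₗ LinearMap.proj i)
    let β : ((i : Fin n) → R ⧸ Ideal.span {gI (f i)}) →ₗ[R] ((i : Fin n) → R ⧸ Ideal.span {f i}) :=
      LinearMap.pi (fun i => betaI (f i) ∘ₗ LinearMap.proj i)
    have hα : ∀ y i, α y i = alphaI (f i) (y i) := fun y i => rfl
    have hβ : ∀ y i, β y i = betaI (f i) (y i) := fun y i => rfl
    have hdB : ∀ b : (i : Fin n) → R ⧸ Ideal.span {gI (f i)}, d • b = 0 := by
      intro b
      funext i
      rw [Pi.smul_apply, Pi.zero_apply]
      exact smul_quot_eq_zero _ d (hgd i) (b i)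
    let i₀ : Submodule.torsion R M →ₗ[R] ((i : Fin n) → R ⧸ Ideal.span {gI (f i)}) :=
      α ∘ₗ E.toLinearMap ∘ₗ LinearMap.inl R M N ∘ₗ (Submodule.torsion R M).subtype
    let p₁ : ((i : Fin n) → R ⧸ Ideal.span {gI (f i)}) →ₗ[R] M :=
      LinearMap.fst R M N ∘ₗ E.symm.toLinearMap ∘ₗ β
    let p₀ : ((i : Fin n) → R ⧸ Ideal.span {gI (f i)}) →ₗ[R] Submodule.torsion R M :=
      LinearMap.codRestrict (Submodule.torsion R M) p₁ (fun b => by
        rw [Submodule.mem_torsion_iff]
        refine ⟨⟨d, mem_nonZeroDivisors_of_ne_zero hd⟩, ?_⟩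
        show d • p₁ b = 0
        rw [← map_smul, hdB, map_zero])
    refine ⟨n, fun j => gI (f j), fun j => gI_ne (f j), i₀, p₀, ?_⟩
    apply LinearMap.ext
    intro t
    apply Subtype.ext
    show (E.symm (β (α (E ((t : M), 0))))).1 = (t : M)
    obtain ⟨⟨c, hc⟩, hct⟩ := (Submodule.mem_torsion_iff _).mp t.2
    have hct' : c • (t : M) = 0 := hct
    have hc0 : c ≠ 0 := nonZeroDivisors.ne_zero hc
    have h1 : c • E ((t : M), 0) = 0 := by
      rw [← map_smul, Prod.smul_mk, hct', smul_zero, Prod.mk_zero_zero, map_zero]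
    have hβα : β (α (E ((t : M), 0))) = E ((t : M), 0) := by
      funext i
      rw [hβ, hα]
      by_cases h : f i = 0
      · have h0 : (E ((t : M), 0)) i = 0 := by
          refine tors_zero (f i) h c hc0 _ ?_
          rw [← Pi.smul_apply, h1, Pi.zero_apply]
        rw [h0, map_zero, map_zero]
      · exact betaI_alphaI (f i) h _
    rw [hβα, LinearEquiv.symm_apply_apply]


end Groth.Agent.S7121
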