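import Groth.Statements.S7122
import Groth.Agent.Lib.Helper22.BezoutFree

set_option autoImplicit false
universe u
open CAlg

namespace Groth.Agent.S7122

/-- Let R be a Bézout domain, n ≥ 1, and f_1, ..., f_n elements generating the unit ideal. Then some
invertible n × n matrix over R has (f_1, ..., f_n) as its first row. -/
theorem result (R : Type u) [CommRing R] [IsDomain R] [IsBezout R]
    (n : ℕ) (f : Fin (n + 1) → R) (hf : Ideal.span (Set.range f) = ⊤) :
    ∃ A : Matrix (Fin (n + 1)) (Fin (n + 1)) R, IsUnit A.det ∧ A 0 = f := by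
  classical
  let φ : (Fin (n + 1) → R) →ₗ[R] R := Fintype.linearCombination R f
  have hφ : Function.Surjective φ := by
    rw [← LinearMap.range_eq_top, Fintype.range_linearCombination]
    exact hf
  obtain ⟨s, hs⟩ := Module.projective_lifting_property φ LinearMap.id hφ
  have hex : Function.Exact (LinearMap.ker φ).subtype φ := by
    intro x
    constructor
    · intro hx
      exact ⟨⟨x, hx⟩, rfl⟩
    · rintro ⟨y, rfl⟩
      exact y.2
  have hinjK : Function.Injective (LinearMap.ker φ).subtype := Submodule.injective_subtype _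
  have hsplit := (Function.Exact.splitSurjectiveEquiv hex hinjK) ⟨s, hs⟩
  obtain ⟨e, he1, he2⟩ := hsplit
  have hKfin : Module.Finite R (LinearMap.ker φ) := by
    have hsurj : Function.Surjective
        ((LinearMap.fst R (LinearMap.ker φ) R) ∘ₗ e.toLinearMap) := by
      intro k
      exact ⟨e.symm (k, 0), by simp⟩
    exact Module.Finite.of_surjective _ hsurj
  have hKfree : Module.Free R (LinearMap.ker φ) :=
    Groth.Agent.Lib.helper22.BezoutFree.free_of_fg _ (Module.Finite.iff_fg.1 hKfin)
  have hrank : Module.finrank R (LinearMap.ker φ) = n := by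
    have h1 : Module.finrank R (Fin (n + 1) → R) = Module.finrank R ((LinearMap.ker φ) × R) :=
      LinearEquiv.finrank_eq e
    rw [Module.finrank_prod, Module.finrank_self, Module.finrank_fin_fun] at h1
    omega
  let bK : Module.Basis (Fin n) R (LinearMap.ker φ) := Module.finBasisOfFinrankEq R _ hrank
  let E : (Fin (n + 1) → R) ≃ₗ[R] (Fin (n + 1) → R) :=
    e ≪≫ₗ (LinearEquiv.prodCongr bK.equivFun (LinearEquiv.refl R R)) ≪≫ₗ
      (LinearEquiv.prodComm R (Fin n → R) R) ≪≫ₗ Fin.consLinearEquiv R (fun _ : Fin (n + 1) => R)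
  have hE0 : ∀ x, E x 0 = φ x := by
    intro x
    have h2 : φ x = (e x).2 := LinearMap.congr_fun he2 x
    rw [h2]
    rfl
  refine ⟨LinearMap.toMatrix' E.toLinearMap, ?_, ?_⟩
  · rw [LinearMap.det_toMatrix']
    exact E.isUnit_det'
  · funext j
    rw [LinearMap.toMatrix'_apply]
    change E _ 0 = f j
    rw [hE0]
    exact Fintype.linearCombination_apply_single R f j 1 |>.trans (one_smul _ _)

end Groth.Agent.S7122
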