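import Groth.Statements.S7123
import Mathlib


set_option autoImplicit false
universe u
open CAlg

namespace Groth.Agent.S7123

set_option linter.style.haveILetI false

open DirectSum

section
variable {R : Type u} [CommRing R]

/-- the map `R/(f) → X` sending `1` to `x`, when `f • x = 0` -/
noncomputable def cyc {X : Type u} [AddCommGroup X] [Module R X] (f : R) (x : X) (hx : f • x = 0) :
    (R ⧸ Ideal.span {f}) →ₗ[R] X :=
  Submodule.liftQ (Ideal.span {f}) (LinearMap.toSpanSingleton R X x) (by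
    rw [Ideal.span, Submodule.span_le]
    intro r hr
    rw [Set.mem_singleton_iff] at hr
    rw [hr]
    change (LinearMap.toSpanSingleton R X x) f = 0
    rw [LinearMap.toSpanSingleton_apply]
    exact hx)

theorem cyc_mk {X : Type u} [AddCommGroup X] [Module R X] (f : R) (x : X) (hx : f • x = 0) (r : R) :
    cyc f x hx (Ideal.Quotient.mk _ r) = r • x := rfl

theorem cyc_ext {X : Type u} [AddCommGroup X] [Module R X] (f : R)
    (u v : (R ⧸ Ideal.span {f}) →ₗ[R] X) (h : u (Ideal.Quotient.mk _ 1) = v (Ideal.Quotient.mk _ 1)) :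
    u = v := by
  apply LinearMap.ext
  intro q
  obtain ⟨r, rfl⟩ := Ideal.Quotient.mk_surjective q
  have : (Ideal.Quotient.mk (Ideal.span {f}) r) = r • (Ideal.Quotient.mk (Ideal.span {f}) 1) := by
    change Submodule.Quotient.mk r = r • Submodule.Quotient.mk (1 : R)
    rw [← Submodule.Quotient.mk_smul, smul_eq_mul, mul_one]
  rw [this, map_smul, map_smul, h]

end

theorem main (R : Type u) [CommRing R] (P : Type u)
    [AddCommGroup P] [Module R P] :
    (∃ (ι : Type u) (f : ι → R) (i : P →ₗ[R] (⨁ j, R ⧸ Ideal.span {f j}))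
        (p : (⨁ j, R ⧸ Ideal.span {f j}) →ₗ[R] P), p ∘ₗ i = LinearMap.id) ↔
      ∀ (B C : Type u) [AddCommGroup B] [Module R B] [AddCommGroup C] [Module R C] (π : B →ₗ[R] C),
        Function.Surjective π →
        (∀ (f : R) (b : B), π (f • b) = 0 → ∃ a : B, π a = 0 ∧ f • a = f • b) →
        ∀ ψ : P →ₗ[R] C, ∃ φ : P →ₗ[R] B, π ∘ₗ φ = ψ := by
  classical
  constructor
  · rintro ⟨ι, f, i, p, hpi⟩ B C _ _ _ _ π hπ hRD ψ
    -- lift each cyclic summand
    have hcyc : ∀ j : ι, ∃ φj : (R ⧸ Ideal.span {f j}) →ₗ[R] B,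
        π ∘ₗ φj = ψ ∘ₗ p ∘ₗ (DirectSum.lof R ι (fun j => R ⧸ Ideal.span {f j}) j) := by
      intro j
      set c : C := ψ (p (DirectSum.lof R ι (fun j => R ⧸ Ideal.span {f j}) j
        (Ideal.Quotient.mk _ 1))) with hc
      have hfc : f j • c = 0 := by
        rw [hc, ← map_smul, ← map_smul, ← map_smul]
        have : f j • (Ideal.Quotient.mk (Ideal.span {f j}) 1) = 0 := by
          rw [← Ideal.Quotient.mk_eq_mk, ← Submodule.Quotient.mk_smul, Submodule.Quotient.mk_eq_zero]
          simp [Ideal.mem_span_singleton]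
        rw [this, map_zero, map_zero, map_zero]
      obtain ⟨b, hb⟩ := hπ c
      obtain ⟨a, ha, hfa⟩ := hRD (f j) b (by rw [map_smul, hb, hfc])
      have hb' : f j • (b - a) = 0 := by rw [smul_sub, hfa, sub_self]
      refine ⟨cyc (f j) (b - a) hb', ?_⟩
      apply cyc_ext
      change π (cyc (f j) (b - a) hb' (Ideal.Quotient.mk _ 1)) = c
      rw [cyc_mk, one_smul, map_sub, ha, sub_zero, hb]
    choose φj hφj using hcyc
    let Φ : (⨁ j, R ⧸ Ideal.span {f j}) →ₗ[R] B := DirectSum.toModule R ι B φj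
    have hΦ : π ∘ₗ Φ = ψ ∘ₗ p := by
      apply DirectSum.linearMap_ext
      intro j
      apply LinearMap.ext
      intro q
      change π (Φ (DirectSum.lof R ι _ j q)) = ψ (p (DirectSum.lof R ι _ j q))
      have : Φ (DirectSum.lof R ι _ j q) = φj j q := DirectSum.toModule_lof (φ := φj) R j q
      rw [this]
      exact LinearMap.congr_fun (hφj j) q
    refine ⟨Φ ∘ₗ i, ?_⟩
    ext x
    change π (Φ (i x)) = ψ x
    have h1 := LinearMap.congr_fun hΦ (i x)
    change π (Φ (i x)) = ψ (p (i x)) at h1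
    rw [h1]
    have h2 := LinearMap.congr_fun hpi x
    change p (i x) = x at h2
    rw [h2]
  · intro h
    let ι := {fx : R × P // fx.1 • fx.2 = 0}
    let f : ι → R := fun j => j.1.1
    let π : (⨁ j : ι, R ⧸ Ideal.span {f j}) →ₗ[R] P :=
      DirectSum.toModule R ι P (fun j => cyc (f j) j.1.2 j.2)
    have hπlof : ∀ (j : ι) (q : R ⧸ Ideal.span {f j}),
        π (DirectSum.lof R ι (fun j => R ⧸ Ideal.span {f j}) j q) = cyc (f j) j.1.2 j.2 q :=
      fun j q => DirectSum.toModule_lof (φ := fun j : ι => cyc (f j) j.1.2 j.2) R j q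
    have hsurj : Function.Surjective π := by
      intro x
      let j : ι := ⟨(0, x), zero_smul R x⟩
      refine ⟨DirectSum.lof R ι (fun j => R ⧸ Ideal.span {f j}) j (Ideal.Quotient.mk _ 1), ?_⟩
      rw [hπlof, cyc_mk, one_smul]
    have hRD : ∀ (r : R) (b : ⨁ j : ι, R ⧸ Ideal.span {f j}), π (r • b) = 0 →
        ∃ a, π a = 0 ∧ r • a = r • b := by
      intro r b hb
      rw [map_smul] at hb
      let j : ι := ⟨(r, π b), hb⟩
      let b₀ := DirectSum.lof R ι (fun j => R ⧸ Ideal.span {f j}) j (Ideal.Quotient.mk _ 1)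
      have hb₀ : π b₀ = π b := by
        change π (DirectSum.lof R ι _ j _) = _
        rw [hπlof, cyc_mk, one_smul]
      have hrb₀ : r • b₀ = 0 := by
        change r • DirectSum.lof R ι _ j _ = 0
        rw [← map_smul]
        have : r • (Ideal.Quotient.mk (Ideal.span {f j}) 1) = 0 := by
          rw [← Ideal.Quotient.mk_eq_mk, ← Submodule.Quotient.mk_smul, Submodule.Quotient.mk_eq_zero]
          simp [Ideal.mem_span_singleton, f, j]
        rw [this, map_zero]
      refine ⟨b - b₀, ?_, ?_⟩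
      · rw [map_sub, hb₀, sub_self]
      · rw [smul_sub, hrb₀, sub_zero]
    obtain ⟨φ, hφ⟩ := h _ P π hsurj hRD LinearMap.id
    exact ⟨ι, f, φ, π, hφ⟩



open DirectSum in
/-- For a module P over a ring R these two conditions are equivalent: (1) P is a retract (direct
summand) of a direct sum of cyclic modules R/fR, f ranging over R; (2) for every surjection of
R-modules π : B → C whose kernel A satisfies fA = A ∩ fB for every f in R, each linear map P → C
lifts through π. -/
theorem result (R : Type u) [CommRing R] (P : Type u)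
    [AddCommGroup P] [Module R P] :
    (∃ (ι : Type u) (f : ι → R) (i : P →ₗ[R] (⨁ j, R ⧸ Ideal.span {f j}))
        (p : (⨁ j, R ⧸ Ideal.span {f j}) →ₗ[R] P), p ∘ₗ i = LinearMap.id) ↔
      ∀ (B C : Type u) [AddCommGroup B] [Module R B] [AddCommGroup C] [Module R C] (π : B →ₗ[R] C),
        Function.Surjective π →
        (∀ (f : R) (b : B), π (f • b) = 0 → ∃ a : B, π a = 0 ∧ f • a = f • b) →
        ∀ ψ : P →ₗ[R] C, ∃ φ : P →ₗ[R] B, π ∘ₗ φ = ψ := by
  exact main R P

end Groth.Agent.S7123
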