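import Groth.Statements.S7124
import Mathlib

set_option autoImplicit false
universe u
open CAlg

namespace Groth.Agent.S7124

open IsLocalRing

section

variable {A B K L : Type u} [CommRing A] [IsDomain A]
    [ValuationRing A] [CommRing B] [IsDomain B] [ValuationRing B] [Field K] [Field L]
    [Algebra A K] [IsFractionRing A K] [Algebra B L] [IsFractionRing B L] [Algebra A B] [Algebra K L]
    [Algebra A L] [IsScalarTower A K L] [IsScalarTower A B L]
    [IsLocalHom (algebraMap A B)]

theorem smul_residue (a : A) (w : B) :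
    (residue A a) • (residue B w) = residue B (algebraMap A B a * w) := by
  rw [Algebra.smul_def, ResidueField.algebraMap_residue, map_mul]

/-- a nontrivial `K`-combination of elements of `B` with independent residues is in `Kˣ Bˣ`. -/
theorem comb_unit (f : ℕ) (ω : Fin f → B)
    (hω : LinearIndependent (ResidueField A) (fun i => residue B (ω i)))
    (b : Fin f → K) (hb : ∃ i, b i ≠ 0) :
    ∃ (c : Kˣ) (u : Bˣ), ∑ i, b i • algebraMap B L (ω i) =
      algebraMap K L c * algebraMap B L u := by
  classical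
  obtain ⟨i₁, hi₁⟩ := hb
  let vA := ValuationRing.valuation A K
  obtain ⟨i₀, -, hmax⟩ := Finset.exists_max_image Finset.univ (fun i => vA (b i))
    ⟨i₁, Finset.mem_univ _⟩
  have hb0 : b i₀ ≠ 0 := by
    intro h0
    have h1 := hmax i₁ (Finset.mem_univ _)
    simp only [h0, map_zero, le_zero_iff, map_eq_zero] at h1
    exact hi₁ h1
  have hint : ∀ i, ∃ a : A, algebraMap A K a = b i / b i₀ := by
    intro i
    rw [← ValuationRing.mem_integer_iff, Valuation.mem_integer_iff, map_div₀]
    exact div_le_one_of_le₀ (hmax i (Finset.mem_univ _)) zero_le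
  choose α hα using hint
  have hα0 : α i₀ = 1 := by
    apply IsFractionRing.injective A K
    rw [hα, div_self hb0, map_one]
  let u₀ : B := ∑ i, algebraMap A B (α i) * ω i
  have hu₀ : IsUnit u₀ := by
    by_contra hnu
    have h1 : residue B u₀ = 0 := (residue_eq_zero_iff _).mpr ((mem_maximalIdeal _).mpr hnu)
    have h2 : ∑ i, residue A (α i) • residue B (ω i) = 0 := by
      rw [← h1, map_sum]
      exact Finset.sum_congr rfl (fun i _ => smul_residue (α i) (ω i))
    have h3 := (Fintype.linearIndependent_iff.mp hω) (fun i => residue A (α i)) h2 i₀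
    rw [hα0, map_one] at h3
    exact one_ne_zero h3
  refine ⟨Units.mk0 (b i₀) hb0, hu₀.unit, ?_⟩
  rw [Units.val_mk0, IsUnit.unit_spec, map_sum, Finset.mul_sum]
  refine Finset.sum_congr rfl (fun i _ => ?_)
  rw [map_mul, ← IsScalarTower.algebraMap_apply A B L, IsScalarTower.algebraMap_apply A K L, hα,
    Algebra.smul_def, ← mul_assoc, ← map_mul, mul_div_cancel₀ _ hb0]

theorem key [FiniteDimensional K L] (e f : ℕ) (ω : Fin f → B)
    (hω : LinearIndependent (ResidueField A) (fun i => residue B (ω i)))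
    (π : Fin e → Lˣ)
    (hπ : ∀ j j', j ≠ j' → ¬ ∃ (c : Kˣ) (w : Bˣ),
      (π j' : L) = algebraMap K L c * algebraMap B L w * π j) :
    e * f ≤ Module.finrank K L := by
  classical
  have hli : LinearIndependent K
      (fun p : Fin e × Fin f => algebraMap B L (ω p.2) * (π p.1 : L)) := by
    rw [Fintype.linearIndependent_iff]
    intro a ha
    by_contra hne
    push Not at hne
    obtain ⟨⟨j₁, i₁⟩, hji⟩ := hne
    let s : Fin e → L := fun j => ∑ i, a (j, i) • algebraMap B L (ω i)
    have hsum : ∑ j, s j * (π j : L) = 0 := by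
      rw [← ha, Fintype.sum_prod_type]
      refine Finset.sum_congr rfl (fun j _ => ?_)
      rw [Finset.sum_mul]
      refine Finset.sum_congr rfl (fun i _ => ?_)
      rw [smul_mul_assoc]
    let T : Finset (Fin e) := Finset.univ.filter (fun j => ∃ i, a (j, i) ≠ 0)
    have hT : ∀ j, j ∈ T ↔ ∃ i, a (j, i) ≠ 0 := by
      intro j; simp [T]
    have hs0 : ∀ j, j ∉ T → s j = 0 := by
      intro j hj
      rw [hT] at hj
      push Not at hj
      simp [s, hj]
    have hcu : ∀ j, j ∈ T → ∃ (c : Kˣ) (u : Bˣ),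
        s j = algebraMap K L c * algebraMap B L u :=
      fun j hj => comb_unit f ω hω (fun i => a (j, i)) ((hT j).mp hj)
    let t : Fin e → L := fun j => s j * (π j : L)
    have hsumT : ∑ j ∈ T, t j = 0 := by
      rw [← hsum]
      exact Finset.sum_subset (Finset.subset_univ _)
        (fun j _ hj => by simp only [t]; rw [hs0 j hj, zero_mul])
    have hTne : T.Nonempty := ⟨j₁, (hT j₁).mpr ⟨i₁, hji⟩⟩
    let vB := ValuationRing.valuation B L
    have hBinj := IsFractionRing.injective B L
    have ht0 : ∀ j ∈ T, t j ≠ 0 := by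
      intro j hj
      obtain ⟨c, u, hcu'⟩ := hcu j hj
      simp only [t, hcu']
      refine mul_ne_zero (mul_ne_zero ?_ ?_) (π j).ne_zero
      · exact (map_ne_zero _).mpr c.ne_zero
      · exact (map_ne_zero_iff _ hBinj).mpr u.ne_zero
    obtain ⟨j₀, hj₀T, hmax⟩ := Finset.exists_max_image T (fun j => vB (t j)) hTne
    have hβ : ∀ j ∈ T, j ≠ j₀ →
        ∃ β : B, β ∈ maximalIdeal B ∧ algebraMap B L β = t j / t j₀ := by
      intro j hj hne
      have h1 : ∃ β : B, algebraMap B L β = t j / t j₀ := by
        rw [← ValuationRing.mem_integer_iff, Valuation.mem_integer_iff, map_div₀]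
        exact div_le_one_of_le₀ (hmax j hj) zero_le
      obtain ⟨β, hβ⟩ := h1
      refine ⟨β, ?_, hβ⟩
      rw [mem_maximalIdeal, mem_nonunits_iff]
      intro hu
      apply hπ j₀ j (Ne.symm hne)
      obtain ⟨c, u, hc⟩ := hcu j hj
      obtain ⟨c₀, u₀, hc₀⟩ := hcu j₀ hj₀T
      refine ⟨c₀ * c⁻¹, hu.unit * u₀ * u⁻¹, ?_⟩
      have h2 : t j = algebraMap B L β * t j₀ := by
        rw [hβ, div_mul_cancel₀ _ (ht0 j₀ hj₀T)]
      simp only [t, hc, hc₀] at h2
      have hcne : algebraMap K L (c : K) ≠ 0 := (map_ne_zero _).mpr c.ne_zero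
      have hune : algebraMap B L (u : B) ≠ 0 := (map_ne_zero_iff _ hBinj).mpr u.ne_zero
      have hinv : algebraMap B L ((u⁻¹ : Bˣ) : B) = (algebraMap B L (u : B))⁻¹ :=
        eq_inv_of_mul_eq_one_left (by rw [← map_mul, Units.inv_mul, map_one])
      apply mul_left_cancel₀ (mul_ne_zero hcne hune)
      rw [h2]
      simp only [Units.val_mul, map_mul, IsUnit.unit_spec, Units.val_inv_eq_inv_val, map_inv₀,
        hinv]
      field_simp
    choose! β hβm hβe using hβ
    have h3 : (1 : L) + ∑ j ∈ T.erase j₀, algebraMap B L (β j) = 0 := by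
      have h4 : ∑ j ∈ T, t j / t j₀ = 0 := by
        rw [← Finset.sum_div, hsumT, zero_div]
      rw [← Finset.add_sum_erase T _ hj₀T, div_self (ht0 j₀ hj₀T)] at h4
      rw [← h4]
      congr 1
      exact Finset.sum_congr rfl (fun j hj =>
        hβe j (Finset.mem_of_mem_erase hj) (Finset.ne_of_mem_erase hj))
    have h5 : algebraMap B L (1 + ∑ j ∈ T.erase j₀, β j) = 0 := by
      rw [map_add, map_one, map_sum]
      exact h3
    have h6 : (1 + ∑ j ∈ T.erase j₀, β j : B) = 0 := (map_eq_zero_iff _ hBinj).mp h5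
    have h7 : ∑ j ∈ T.erase j₀, β j ∈ maximalIdeal B :=
      Ideal.sum_mem _ (fun j hj =>
        hβm j (Finset.mem_of_mem_erase hj) (Finset.ne_of_mem_erase hj))
    have h8 : (1 : B) ∈ maximalIdeal B := by
      have h9 : (1 : B) = -(∑ j ∈ T.erase j₀, β j) := eq_neg_of_add_eq_zero_left h6
      rw [h9]
      exact neg_mem h7
    exact (Ideal.ne_top_iff_one _).mp (maximalIdeal.isMaximal B).ne_top h8
  have h10 := hli.fintype_card_le_finrank
  simpa using h10

end

theorem result (A B K L : Type u) [CommRing A] [IsDomain A]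
    [ValuationRing A] [CommRing B] [IsDomain B] [ValuationRing B] [Field K] [Field L]
    [Algebra A K] [IsFractionRing A K] [Algebra B L] [IsFractionRing B L] [Algebra A B] [Algebra K L]
    [Algebra A L] [IsScalarTower A K L] [IsScalarTower A B L] (hinj : Function.Injective (algebraMap A B))
    [IsLocalHom (algebraMap A B)] [FiniteDimensional K L] :
    let UB : Subgroup Lˣ := (Units.map (algebraMap B L).toMonoidHom).range
    let ΓA : Subgroup (Lˣ ⧸ UB) := ((QuotientGroup.mk' UB).comp (Units.map (algebraMap K L).toMonoidHom)).range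
    Module.Finite (IsLocalRing.ResidueField A) (IsLocalRing.ResidueField B) ∧ ΓA.index ≠ 0 ∧
      ΓA.index * Module.finrank (IsLocalRing.ResidueField A) (IsLocalRing.ResidueField B) ≤
        Module.finrank K L := by
  intro UB ΓA
  classical
  have hQ : ∀ x y : Lˣ, (QuotientGroup.mk (QuotientGroup.mk x : Lˣ ⧸ UB) : (Lˣ ⧸ UB) ⧸ ΓA) ≠
      QuotientGroup.mk (QuotientGroup.mk y : Lˣ ⧸ UB) →
      ¬ ∃ (c : Kˣ) (w : Bˣ), (y : L) = algebraMap K L c * algebraMap B L w * x := by
    rintro x y hne ⟨c, w, h⟩
    apply hne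
    rw [QuotientGroup.eq]
    refine ⟨c, ?_⟩
    show (QuotientGroup.mk (Units.map (algebraMap K L).toMonoidHom c) : Lˣ ⧸ UB) = _
    rw [← QuotientGroup.mk_inv, ← QuotientGroup.mk_mul, QuotientGroup.eq]
    refine ⟨w, ?_⟩
    ext
    simp only [Units.coe_map, Units.val_mul, Units.val_inv_eq_inv_val, RingHom.toMonoidHom_eq_coe,
      MonoidHom.coe_coe]
    rw [h]
    have hc : algebraMap K L (c : K) ≠ 0 := (map_ne_zero _).mpr c.ne_zero
    have hx : (x : L) ≠ 0 := x.ne_zero
    field_simp
  have hrepq : ∀ q : (Lˣ ⧸ UB) ⧸ ΓA, ∃ x : Lˣ,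
      (QuotientGroup.mk (QuotientGroup.mk x : Lˣ ⧸ UB) : (Lˣ ⧸ UB) ⧸ ΓA) = q := by
    intro q
    obtain ⟨q', hq'⟩ := QuotientGroup.mk_surjective q
    obtain ⟨x, hx⟩ := QuotientGroup.mk_surjective q'
    exact ⟨x, by rw [hx, hq']⟩
  choose rep hrep using hrepq
  choose lift hlift using fun x : ResidueField B => residue_surjective x
  have hfin_bound : ∀ s : Finset (ResidueField B),
      LinearIndependent (ResidueField A) (fun i : s => (i : ResidueField B)) →
      s.card ≤ Module.finrank K L := by
    intro s hs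
    let eqv := s.equivFin
    have h1 := key (A := A) (B := B) (K := K) (L := L) 1 s.card
      (fun i => lift (eqv.symm i)) (by
        have h2 : (fun i => residue B (lift ((eqv.symm i : s) : ResidueField B))) =
            (fun i : s => (i : ResidueField B)) ∘ eqv.symm := by
          funext i
          simp [hlift]
        rw [h2]
        exact hs.comp _ eqv.symm.injective) (fun _ => 1)
      (fun j j' hjj' => absurd (Subsingleton.elim j j') hjj')
    simpa using h1
  have hrank : Module.rank (ResidueField A) (ResidueField B) ≤ (Module.finrank K L : ℕ) :=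
    rank_le hfin_bound
  have hfinite : Module.Finite (ResidueField A) (ResidueField B) := by
    rw [← Module.rank_lt_aleph0_iff]
    exact lt_of_le_of_lt hrank Cardinal.natCast_lt_aleph0
  have hidx : ΓA.index ≠ 0 := by
    intro h0
    rw [Subgroup.index_eq_zero_iff_infinite] at h0
    let emb := Infinite.natEmbedding ((Lˣ ⧸ UB) ⧸ ΓA)
    have h1 := key (A := A) (B := B) (K := K) (L := L) (Module.finrank K L + 1) 1
      (fun _ => 1) (by
        rw [linearIndependent_unique_iff]
        simp) (fun j => rep (emb j.1)) (fun j j' hjj' => hQ _ _ (by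
        rw [hrep, hrep]
        exact fun h => hjj' (Fin.ext (emb.injective h))))
    omega
  refine ⟨hfinite, hidx, ?_⟩
  have hfinq : Finite ((Lˣ ⧸ UB) ⧸ ΓA) := Subgroup.index_ne_zero_iff_finite.mp hidx
  let eqv : ((Lˣ ⧸ UB) ⧸ ΓA) ≃ Fin (Nat.card ((Lˣ ⧸ UB) ⧸ ΓA)) := Finite.equivFin _
  let bs := Module.finBasis (ResidueField A) (ResidueField B)
  have h1 := key (A := A) (B := B) (K := K) (L := L) (Nat.card ((Lˣ ⧸ UB) ⧸ ΓA))
    (Module.finrank (ResidueField A) (ResidueField B)) (fun i => lift (bs i)) (by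
      have h2 : (fun i => residue B (lift (bs i))) = bs := by
        funext i
        exact hlift _
      rw [h2]
      exact bs.linearIndependent) (fun j => rep (eqv.symm j)) (fun j j' hjj' => hQ _ _ (by
      rw [hrep, hrep]
      exact fun h => hjj' (eqv.symm.injective h)))
  exact h1

end Groth.Agent.S7124
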