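import Groth.Statements.S7125
import Mathlib
import Groth.Agent.Lib.Helper26.RedDiv1

set_option autoImplicit false
universe u
open CAlg

namespace Groth.Agent.S7125

section aux

open IsLocalRing Groth.Agent.Lib.helper26.Hironaka Groth.Agent.Lib.helper26.HullFinite
  Groth.Agent.Lib.helper26.RedDiv

/-- Divisibility in the localization at a prime gives divisibility up to a denominator. -/
lemma loc_dvd {A : Type u} [CommRing A] (P : Ideal A) [P.IsPrime] (a b : A)
    (h : algebraMap A (Localization.AtPrime P) b ∣ algebraMap A (Localization.AtPrime P) a) :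
    ∃ s, s ∉ P ∧ b ∣ s * a := by
  obtain ⟨z, hz⟩ := h
  obtain ⟨c, s', hcs⟩ := IsLocalization.exists_mk'_eq P.primeCompl z
  have h1 : z * algebraMap A (Localization.AtPrime P) (s' : A) =
      algebraMap A (Localization.AtPrime P) c := by
    rw [← hcs, IsLocalization.mk'_spec]
  have h2 : algebraMap A (Localization.AtPrime P) ((s' : A) * a) =
      algebraMap A (Localization.AtPrime P) (b * c) := by
    rw [map_mul, map_mul, hz, ← h1]; ring
  obtain ⟨s'', hs''⟩ := (IsLocalization.eq_iff_exists P.primeCompl (Localization.AtPrime P)).mp h2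
  refine ⟨(s'' : A) * (s' : A), ?_, ⟨(s'' : A) * c, ?_⟩⟩
  · intro hmem
    rcases Ideal.IsPrime.mem_or_mem inferInstance hmem with h | h
    · exact s''.2 h
    · exact s'.2 h
  · linear_combination hs''

/-- In a Noetherian normal domain divisibility can be checked at height one primes. -/
lemma dvd_of_forall_height_one {A : Type u} [CommRing A] [IsDomain A] [IsNoetherianRing A]
    [IsIntegrallyClosed A] (a b : A) (hb : b ≠ 0)
    (H : ∀ (P : Ideal A) [P.IsPrime], P.height = 1 → ∃ s, s ∉ P ∧ b ∣ s * a) : b ∣ a := by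
  have hinj := IsFractionRing.injective A (FractionRing A)
  have hb' : algebraMap A (FractionRing A) b ≠ 0 := fun h0 => hb (hinj (by rw [h0, map_zero]))
  obtain ⟨d, hd⟩ := exists_algebraMap_eq_of_forall_height_one A (FractionRing A)
    (algebraMap A (FractionRing A) a / algebraMap A (FractionRing A) b) (by
    intro P _ hP
    obtain ⟨s, hs, c, hc⟩ := H P hP
    refine ⟨s, hs, c, ?_⟩
    rw [mul_div_assoc', eq_div_iff hb', ← map_mul, ← map_mul]
    congr 1
    rw [hc]; ring)
  refine ⟨d, ?_⟩
  apply hinj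
  rw [map_mul, hd]
  field_simp

/-- The weakly unramified computation: the valuation of `f` at `p` is divisible by `n`. -/
lemma n_dvd_of_weaklyUnramified {A B : Type u} [CommRing A] [IsDomain A] [IsNoetherianRing A]
    [IsIntegrallyClosed A] [CommRing B] [IsDomain B] [IsNoetherianRing B] [IsIntegrallyClosed B]
    [Algebra A B]
    (p : Ideal A) [p.IsPrime] (hp : p.height = 1) (q : Ideal B) [q.IsPrime] (hq : q.height = 1)
    (hqp : q.comap (algebraMap A B) = p)
    (hmap : Ideal.map (algebraMap B (Localization.AtPrime q)) (Ideal.map (algebraMap A B) p) =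
          IsLocalRing.maximalIdeal (Localization.AtPrime q))
    (f : A) (h : B) (hh : h ≠ 0) (n : ℕ) (w : Bˣ) (hf : algebraMap A B f = (w : B) * h ^ n)
    (ϖ : Localization.AtPrime p) (hϖ : Irreducible ϖ) (k : ℕ) (u : (Localization.AtPrime p)ˣ)
    (hfk : algebraMap A (Localization.AtPrime p) f = u * ϖ ^ k) : ∃ j, k = n * j := by
  haveI := isDiscreteValuationRing_atPrime p hp
  haveI := isDiscreteValuationRing_atPrime q hq
  let φ : Localization.AtPrime p →+* Localization.AtPrime q :=
    Localization.localRingHom p q (algebraMap A B) hqp.symm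
  have hφ : ∀ a : A, φ (algebraMap A (Localization.AtPrime p) a) =
      algebraMap B (Localization.AtPrime q) (algebraMap A B a) := fun a =>
    Localization.localRingHom_to_map p q (algebraMap A B) hqp.symm a
  have hcomp : φ.comp (algebraMap A (Localization.AtPrime p)) =
      (algebraMap B (Localization.AtPrime q)).comp (algebraMap A B) := RingHom.ext hφ
  have hm : IsLocalRing.maximalIdeal (Localization.AtPrime q) = Ideal.span {φ ϖ} := by
    rw [← hmap, Ideal.map_map, ← hcomp, ← Ideal.map_map,
      IsLocalization.AtPrime.map_eq_maximalIdeal p (Localization.AtPrime p),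
      (IsDiscreteValuationRing.irreducible_iff_uniformizer ϖ).mp hϖ, Ideal.map_span,
      Set.image_singleton]
  have hirr : Irreducible (φ ϖ) :=
    (IsDiscreteValuationRing.irreducible_iff_uniformizer _).mpr hm
  have hinjB : Function.Injective (algebraMap B (Localization.AtPrime q)) :=
    IsLocalization.injective (Localization.AtPrime q) q.primeCompl_le_nonZeroDivisors
  have hh' : algebraMap B (Localization.AtPrime q) h ≠ 0 :=
    fun h0 => hh (hinjB (by rw [h0, map_zero]))
  obtain ⟨j, u', hj⟩ := IsDiscreteValuationRing.eq_unit_mul_pow_irreducible hh' hirr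
  refine ⟨j, ?_⟩
  have hU1 : IsUnit (φ (u : Localization.AtPrime p)) := u.isUnit.map φ
  have hU2 : IsUnit (algebraMap B (Localization.AtPrime q) (w : B) *
      (u' : Localization.AtPrime q) ^ n) :=
    (w.isUnit.map (algebraMap B (Localization.AtPrime q))).mul (u'.isUnit.pow n)
  have e1 : algebraMap B (Localization.AtPrime q) (algebraMap A B f) =
      (hU1.unit : Localization.AtPrime q) * (φ ϖ) ^ k := by
    rw [IsUnit.unit_spec, ← hφ, hfk, map_mul, map_pow]
  have e2 : algebraMap B (Localization.AtPrime q) (algebraMap A B f) =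
      (hU2.unit : Localization.AtPrime q) * (φ ϖ) ^ (n * j) := by
    rw [IsUnit.unit_spec, hf, map_mul, map_pow, hj]; ring
  exact IsDiscreteValuationRing.unit_mul_pow_congr_pow hirr hirr _ _ k (n * j) (e1.symm.trans e2)

/-- A uniformizer at a height one prime avoiding finitely many other height one primes. -/
lemma exists_unif_avoid {A : Type u} [CommRing A] [IsDomain A] [IsNoetherianRing A]
    [IsIntegrallyClosed A]
    (p : PrimeSpectrum A) (hp : p.asIdeal.height = 1) (Z : Finset (PrimeSpectrum A))
    (hZ : ∀ q ∈ Z, q.asIdeal.height = 1) :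
    ∃ t : A, Irreducible (algebraMap A (Localization.AtPrime p.asIdeal) t) ∧
      ∀ q ∈ Z, q ≠ p → t ∉ q.asIdeal := by
  classical
  haveI := isDiscreteValuationRing_atPrime p.asIdeal hp
  obtain ⟨ϖ, hϖ⟩ := IsDiscreteValuationRing.exists_irreducible (Localization.AtPrime p.asIdeal)
  have hm : IsLocalRing.maximalIdeal (Localization.AtPrime p.asIdeal) = Ideal.span {ϖ} :=
    (IsDiscreteValuationRing.irreducible_iff_uniformizer ϖ).mp hϖ
  let P2 : Ideal A :=
    Ideal.comap (algebraMap A (Localization.AtPrime p.asIdeal)) (Ideal.span {ϖ ^ 2})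
  have h1 : ¬ p.asIdeal ≤ P2 := by
    intro hle
    obtain ⟨y, s, hys⟩ := IsLocalization.exists_mk'_eq p.asIdeal.primeCompl ϖ
    have hy : algebraMap A (Localization.AtPrime p.asIdeal) y =
        ϖ * algebraMap A (Localization.AtPrime p.asIdeal) (s : A) := by
      rw [← hys, IsLocalization.mk'_spec]
    have hyp : y ∈ p.asIdeal := by
      rw [← IsLocalization.AtPrime.to_map_mem_maximal_iff (Localization.AtPrime p.asIdeal)
        p.asIdeal, hy, hm]
      exact Ideal.mul_mem_right _ _ (Ideal.mem_span_singleton_self ϖ)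
    have h3 : algebraMap A (Localization.AtPrime p.asIdeal) y ∈ Ideal.span {ϖ ^ 2} := hle hyp
    rw [Ideal.mem_span_singleton] at h3
    obtain ⟨c, hc⟩ := h3
    have h2 : algebraMap A (Localization.AtPrime p.asIdeal) (s : A) = ϖ * c := by
      apply mul_left_cancel₀ hϖ.ne_zero
      rw [← hy, hc]; ring
    have h4 : algebraMap A (Localization.AtPrime p.asIdeal) (s : A) ∈
        IsLocalRing.maximalIdeal (Localization.AtPrime p.asIdeal) := by
      rw [h2, hm]; exact Ideal.mul_mem_right _ _ (Ideal.mem_span_singleton_self ϖ)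
    exact s.2 ((IsLocalization.AtPrime.to_map_mem_maximal_iff (Localization.AtPrime p.asIdeal)
      p.asIdeal _).mp h4)
  have hpbot : p.asIdeal ≠ ⊥ := by
    intro hb
    rw [hb, Ideal.height_bot] at hp
    exact absurd hp (by decide)
  let s : Finset (Ideal A) := insert P2 ((Z.erase p).image PrimeSpectrum.asIdeal)
  have hnot : ¬ ∃ i ∈ s, p.asIdeal ≤ (fun i : Ideal A => i) i := by
    rintro ⟨i, hi, hpi⟩
    rw [Finset.mem_insert] at hi
    rcases hi with rfl | hi
    · exact h1 hpi
    · rw [Finset.mem_image] at hi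
      obtain ⟨q, hq, rfl⟩ := hi
      rw [Finset.mem_erase] at hq
      apply hq.1
      apply PrimeSpectrum.ext
      exact (eq_of_le_of_height_le_one p.asIdeal q.asIdeal hpbot hpi (hZ q hq.2).le).symm
  have hprime : ∀ i ∈ s, i ≠ P2 → i ≠ P2 → ((fun i : Ideal A => i) i).IsPrime := by
    intro i hi hia _
    rw [Finset.mem_insert] at hi
    rcases hi with rfl | hi
    · exact absurd rfl hia
    · rw [Finset.mem_image] at hi
      obtain ⟨q, _, rfl⟩ := hi
      exact q.isPrime
  have key := (Ideal.subset_union_prime (s := s) (f := fun i : Ideal A => i) P2 P2 hprime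
    (I := p.asIdeal)).not.mpr hnot
  obtain ⟨t, htp, htn⟩ := Set.not_subset.mp key
  have htn' : ∀ i ∈ s, t ∉ i := fun i hi hti =>
    htn (Set.mem_iUnion₂.mpr ⟨i, Finset.mem_coe.mpr hi, hti⟩)
  refine ⟨t, ?_, ?_⟩
  · have ht1 : algebraMap A (Localization.AtPrime p.asIdeal) t ∈
        IsLocalRing.maximalIdeal (Localization.AtPrime p.asIdeal) :=
      (IsLocalization.AtPrime.to_map_mem_maximal_iff (Localization.AtPrime p.asIdeal)
        p.asIdeal t).mpr htp
    rw [hm, Ideal.mem_span_singleton] at ht1
    obtain ⟨c, hc⟩ := ht1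
    have hcu : IsUnit c := by
      by_contra hcn
      have hc1 : c ∈ IsLocalRing.maximalIdeal (Localization.AtPrime p.asIdeal) :=
        (IsLocalRing.mem_maximalIdeal c).mpr (mem_nonunits_iff.mpr hcn)
      rw [hm, Ideal.mem_span_singleton] at hc1
      obtain ⟨c', hc'⟩ := hc1
      apply htn' P2 (Finset.mem_insert_self _ _)
      change algebraMap A (Localization.AtPrime p.asIdeal) t ∈ Ideal.span {ϖ ^ 2}
      rw [Ideal.mem_span_singleton]
      exact ⟨c', by rw [hc, hc']; ring⟩
    obtain ⟨cu, rfl⟩ := hcu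
    exact Associated.irreducible ⟨cu, hc.symm⟩ hϖ
  · intro q hq hne
    exact htn' q.asIdeal (Finset.mem_insert_of_mem
      (Finset.mem_image_of_mem _ (Finset.mem_erase.mpr ⟨hne, hq⟩)))

/-- Local structure of a product of powers of uniformizers. -/
lemma prod_local {A : Type u} [CommRing A] (p : PrimeSpectrum A) (Z : Finset (PrimeSpectrum A))
    (hpZ : p ∈ Z) (t : PrimeSpectrum A → A) (m : PrimeSpectrum A → ℕ)
    (ht : ∀ q ∈ Z, q ≠ p → t q ∉ p.asIdeal) :
    Associated (algebraMap A (Localization.AtPrime p.asIdeal) (∏ q ∈ Z, t q ^ m q))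
      ((algebraMap A (Localization.AtPrime p.asIdeal) (t p)) ^ m p) := by
  classical
  have h1 : (∏ q ∈ Z.erase p, t q ^ m q) ∉ p.asIdeal := by
    intro hmem
    obtain ⟨q, hq, hqm⟩ := (Ideal.IsPrime.prod_mem_iff (hp := inferInstance)).mp hmem
    rw [Finset.mem_erase] at hq
    exact ht q hq.2 hq.1 (Ideal.IsPrime.mem_of_pow_mem inferInstance _ hqm)
  have h2 : IsUnit (algebraMap A (Localization.AtPrime p.asIdeal)
      (∏ q ∈ Z.erase p, t q ^ m q)) :=
    IsLocalization.map_units (Localization.AtPrime p.asIdeal)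
      (⟨_, h1⟩ : p.asIdeal.primeCompl)
  symm
  refine ⟨h2.unit, ?_⟩
  rw [IsUnit.unit_spec, ← Finset.mul_prod_erase Z (fun q => t q ^ m q) hpZ, map_mul, map_pow]

end aux



/-- Let A and B be Noetherian local normal domains and A → B a flat homomorphism that is local, and let
f in A, h in B, n > 1 and a unit w of B satisfy f = w·hⁿ in B. Assume that for every height-one
prime p of A there is a height-one prime q of B lying over p such that A_p ⊆ B_q is weakly
unramified, i.e. p generates the maximal ideal of B_q. Then f = u·gⁿ for some g in A and some unit u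
of A. -/
theorem result (A B : Type u) [CommRing A] [IsDomain A]
    [IsNoetherianRing A] [IsLocalRing A] [IsIntegrallyClosed A] [CommRing B] [IsDomain B] [IsNoetherianRing B]
    [IsLocalRing B] [IsIntegrallyClosed B] [Algebra A B] [IsLocalHom (algebraMap A B)] [Module.Flat A B]
    (f : A) (h : B) (n : ℕ) (hn : 1 < n) (w : Bˣ) (hf : algebraMap A B f = (w : B) * h ^ n)
    (hram : ∀ (p : Ideal A) [p.IsPrime], p.height = 1 →
      ∃ (q : Ideal B) (_ : q.IsPrime), q.height = 1 ∧ q.comap (algebraMap A B) = p ∧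
        Ideal.map (algebraMap B (Localization.AtPrime q)) (Ideal.map (algebraMap A B) p) =
          IsLocalRing.maximalIdeal (Localization.AtPrime q)) :
    ∃ (g : A) (u : Aˣ), f = (u : A) * g ^ n := by
  classical
  by_cases hf0 : f = 0
  · refine ⟨0, 1, ?_⟩
    rw [hf0, zero_pow (by omega), mul_zero]
  obtain ⟨n', rfl⟩ : ∃ n', n = n' + 1 := ⟨n - 1, by omega⟩
  haveI : Module.FaithfullyFlat A B := Module.FaithfullyFlat.of_flat_of_isLocalHom
  have hinj : Function.Injective (algebraMap A B) := FaithfulSMul.algebraMap_injective A B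
  have hn0 : n' + 1 ≠ 0 := by omega
  have hh0 : h ≠ 0 := by
    rintro rfl
    apply hf0; apply hinj
    rw [hf, zero_pow hn0, mul_zero, map_zero]
  -- the finite set `Z` of height one primes containing `f`
  have hfin : (Ideal.span {f}).minimalPrimes.Finite :=
    Ideal.finite_minimalPrimes_of_isNoetherianRing A _
  have hfin' : (PrimeSpectrum.asIdeal ⁻¹' (Ideal.span {f}).minimalPrimes).Finite :=
    hfin.preimage (fun a _ b _ hab => PrimeSpectrum.ext hab)
  set Z : Finset (PrimeSpectrum A) := hfin'.toFinset with hZdef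
  have hZmin : ∀ q, q ∈ Z ↔ q.asIdeal ∈ (Ideal.span {f}).minimalPrimes := by
    intro q
    rw [hZdef, Set.Finite.mem_toFinset, Set.mem_preimage]
  have hZ : ∀ q ∈ Z, q.asIdeal.height = 1 := by
    intro q hq
    rw [hZmin] at hq
    refine le_antisymm (Ideal.height_le_one_of_isPrincipal_of_mem_minimalPrimes _ _ hq) ?_
    apply Groth.Agent.Lib.helper26.Hironaka.one_le_height_of_ne_bot
    intro hbot
    have : f ∈ (⊥ : Ideal A) := by
      rw [← hbot]
      exact hq.1.2 (Ideal.mem_span_singleton_self f)
    exact hf0 (by simpa using this)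
  have hZmem : ∀ q : PrimeSpectrum A, q.asIdeal.height = 1 → f ∈ q.asIdeal → q ∈ Z := by
    intro q hP hfP
    rw [hZmin]
    exact Groth.Agent.Lib.helper26.Hironaka.mem_minimalPrimes_span_of_height_le_one f hf0
      q.asIdeal hfP hP.le
  -- uniformizers
  have ht : ∀ q ∈ Z, ∃ t : A, Irreducible (algebraMap A (Localization.AtPrime q.asIdeal) t) ∧
      ∀ q' ∈ Z, q' ≠ q → t ∉ q'.asIdeal := fun q hq => exists_unif_avoid q (hZ q hq) Z hZ
  choose! t ht using ht
  -- valuations of `f`
  have hj : ∀ q ∈ Z, ∃ j : ℕ, Associated (algebraMap A (Localization.AtPrime q.asIdeal) f)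
      ((algebraMap A (Localization.AtPrime q.asIdeal) (t q)) ^ ((n' + 1) * j)) := by
    intro q hq
    haveI := Groth.Agent.Lib.helper26.RedDiv.isDiscreteValuationRing_atPrime q.asIdeal (hZ q hq)
    have hinjq : Function.Injective (algebraMap A (Localization.AtPrime q.asIdeal)) :=
      IsLocalization.injective (Localization.AtPrime q.asIdeal)
        q.asIdeal.primeCompl_le_nonZeroDivisors
    have hfne : algebraMap A (Localization.AtPrime q.asIdeal) f ≠ 0 :=
      fun h0 => hf0 (hinjq (by rw [h0, map_zero]))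
    obtain ⟨k, u, hk⟩ := IsDiscreteValuationRing.eq_unit_mul_pow_irreducible hfne (ht q hq).1
    obtain ⟨Q, hQp, hQh, hQc, hQm⟩ := hram q.asIdeal (hZ q hq)
    haveI := hQp
    obtain ⟨j, hkj⟩ := n_dvd_of_weaklyUnramified q.asIdeal (hZ q hq) Q hQh hQc hQm f h hh0
      (n' + 1) w hf _ (ht q hq).1 k u hk
    refine ⟨j, ?_⟩
    rw [← hkj]
    exact Associated.symm ⟨u, by rw [hk, mul_comm]⟩
  choose! j hj using hj
  -- the element `x`
  set x : A := ∏ q ∈ Z, t q ^ (n' * j q) with hxdef
  have hxloc : ∀ q ∈ Z, Associated (algebraMap A (Localization.AtPrime q.asIdeal) x)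
      ((algebraMap A (Localization.AtPrime q.asIdeal) (t q)) ^ (n' * j q)) := by
    intro q hq
    exact prod_local q Z hq t (fun q => n' * j q) (fun q' hq' hne => (ht q' hq').2 q hq hne.symm)
  have htne : ∀ q ∈ Z, algebraMap A (Localization.AtPrime q.asIdeal) (t q) ≠ 0 :=
    fun q hq => (ht q hq).1.ne_zero
  -- (3) `f ^ n' ∣ x ^ (n' + 1)`
  have hx : f ^ n' ∣ x ^ (n' + 1) := by
    apply dvd_of_forall_height_one _ _ (pow_ne_zero _ hf0)
    intro P _ hP
    by_cases hfP : f ∈ P
    · obtain ⟨q, hqP⟩ : ∃ q : PrimeSpectrum A, q.asIdeal = P := ⟨⟨P, inferInstance⟩, rfl⟩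
      subst hqP
      have hqZ : q ∈ Z := hZmem q hP hfP
      apply loc_dvd
      have h1 := (hj q hqZ).pow_pow (n := n')
      have h2 := (hxloc q hqZ).pow_pow (n := n' + 1)
      rw [← map_pow] at h1 h2
      have e : ((algebraMap A (Localization.AtPrime q.asIdeal) (t q)) ^ ((n' + 1) * j q)) ^ n' =
          ((algebraMap A (Localization.AtPrime q.asIdeal) (t q)) ^ (n' * j q)) ^ (n' + 1) := by
        rw [← pow_mul, ← pow_mul]
        congr 1
        ring
      rw [e] at h1
      exact (h1.trans h2.symm).dvd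
    · refine ⟨f ^ n', fun hmem => hfP (Ideal.IsPrime.mem_of_pow_mem inferInstance _ hmem), ?_⟩
      exact Dvd.intro _ rfl
  -- (4) `h ^ n' ∣ x` in `B`
  have hxh : h ^ n' ∣ algebraMap A B x := by
    rw [← IsIntegrallyClosed.pow_dvd_pow_iff hn0]
    obtain ⟨c, hc⟩ := hx
    refine ⟨(w : B) ^ n' * algebraMap A B c, ?_⟩
    rw [← map_pow, hc, map_mul, map_pow, hf]
    ring
  obtain ⟨b, hb⟩ := hxh
  -- (5) the relation
  have hrel : algebraMap A B x * h = algebraMap A B f * ((↑w⁻¹ : B) * b) := by
    rw [hb, hf]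
    have e1 : (w : B) * h ^ (n' + 1) * ((↑w⁻¹ : B) * b) =
        ((w : B) * ↑w⁻¹) * (h ^ (n' + 1) * b) := by
      ring
    rw [e1, Units.mul_inv, one_mul]
    ring
  -- (6) equational criterion
  have hsum : ∑ i : Fin 2, (![x, -f] i) • (![h, (↑w⁻¹ : B) * b] i) = 0 := by
    rw [Fin.sum_univ_two]
    simp only [Matrix.cons_val_zero, Matrix.cons_val_one, Matrix.cons_val_fin_one,
      Algebra.smul_def, map_neg]
    rw [hrel]; ring
  obtain ⟨κ, a, y, hxy, hay⟩ := Module.Flat.isTrivialRelation_of_sum_smul_eq_zero (R := A) (M := B)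
    (f := ![x, -f]) (x := ![h, (↑w⁻¹ : B) * b]) hsum
  have hxy0 : h = ∑ i, a 0 i • y i := by
    have := hxy 0
    simpa using this
  have hay' : ∀ i, x * a 0 i = f * a 1 i := by
    intro i
    have := hay i
    rw [Fin.sum_univ_two] at this
    simp only [Matrix.cons_val_zero, Matrix.cons_val_one, Matrix.cons_val_fin_one] at this
    linear_combination this
  -- (7) each `a 0 i` is divisible by `h`
  have hdiv : ∀ i, h ∣ algebraMap A B (a 0 i) := by
    intro i
    rw [← IsIntegrallyClosed.pow_dvd_pow_iff hn0]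
    have hfa : f ∣ (a 0 i) ^ (n' + 1) := by
      apply dvd_of_forall_height_one _ _ hf0
      intro P _ hP
      by_cases hfP : f ∈ P
      · obtain ⟨q, hqP⟩ : ∃ q : PrimeSpectrum A, q.asIdeal = P := ⟨⟨P, inferInstance⟩, rfl⟩
        subst hqP
        have hqZ : q ∈ Z := hZmem q hP hfP
        apply loc_dvd
        have hfa := hj q hqZ
        have hxa := hxloc q hqZ
        have hϖne := htne q hqZ
        have hxne : algebraMap A (Localization.AtPrime q.asIdeal) x ≠ 0 :=
          hxa.ne_zero_iff.mpr (pow_ne_zero _ hϖne)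
        have hrelP : algebraMap A (Localization.AtPrime q.asIdeal) x *
            algebraMap A (Localization.AtPrime q.asIdeal) (a 0 i) =
            algebraMap A (Localization.AtPrime q.asIdeal) f *
            algebraMap A (Localization.AtPrime q.asIdeal) (a 1 i) := by
          rw [← map_mul, ← map_mul, hay' i]
        have H1 : Associated (algebraMap A (Localization.AtPrime q.asIdeal) x *
            algebraMap A (Localization.AtPrime q.asIdeal) (a 0 i))
            ((algebraMap A (Localization.AtPrime q.asIdeal) (t q)) ^ (n' * j q) *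
              ((algebraMap A (Localization.AtPrime q.asIdeal) (t q)) ^ (j q) *
                algebraMap A (Localization.AtPrime q.asIdeal) (a 1 i))) := by
          rw [hrelP]
          have h5 := hfa.mul_right (algebraMap A (Localization.AtPrime q.asIdeal) (a 1 i))
          have e : (algebraMap A (Localization.AtPrime q.asIdeal) (t q)) ^ ((n' + 1) * j q) *
              algebraMap A (Localization.AtPrime q.asIdeal) (a 1 i) =
              (algebraMap A (Localization.AtPrime q.asIdeal) (t q)) ^ (n' * j q) *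
              ((algebraMap A (Localization.AtPrime q.asIdeal) (t q)) ^ (j q) *
                algebraMap A (Localization.AtPrime q.asIdeal) (a 1 i)) := by
            rw [← mul_assoc, ← pow_add]
            congr 2
            ring
          rwa [e] at h5
        have H2 := Associated.of_mul_left H1 hxa hxne
        have H3 := H2.pow_pow (n := n' + 1)
        rw [← map_pow] at H3
        have H4 : algebraMap A (Localization.AtPrime q.asIdeal) f ∣
            ((algebraMap A (Localization.AtPrime q.asIdeal) (t q)) ^ (j q) *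
              algebraMap A (Localization.AtPrime q.asIdeal) (a 1 i)) ^ (n' + 1) := by
          refine hfa.dvd.trans ⟨(algebraMap A (Localization.AtPrime q.asIdeal) (a 1 i)) ^ (n' + 1),
            ?_⟩
          rw [mul_pow, ← pow_mul]
          congr 2
          ring
        exact H4.trans H3.symm.dvd
      · exact ⟨f, hfP, Dvd.intro _ rfl⟩
    obtain ⟨d, hd⟩ := hfa
    refine ⟨(w : B) * algebraMap A B d, ?_⟩
    rw [← map_pow, hd, map_mul, hf]; ring
  choose c' hc' using hdiv
  -- (8) some `c' i` is a unit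
  have hone : (1 : B) = ∑ i, c' i * y i := by
    apply mul_left_cancel₀ hh0
    rw [mul_one, Finset.mul_sum]
    conv_lhs => rw [hxy0]
    apply Finset.sum_congr rfl
    intro i _
    rw [Algebra.smul_def, hc' i]; ring
  obtain ⟨i0, hi0⟩ : ∃ i, IsUnit (c' i) := by
    by_contra hno
    push Not at hno
    have h1 : (1 : B) ∈ IsLocalRing.maximalIdeal B := by
      rw [hone]
      exact Ideal.sum_mem _ (fun i _ => Ideal.mul_mem_right _ _
        ((IsLocalRing.mem_maximalIdeal _).mpr (mem_nonunits_iff.mpr (hno i))))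
    exact (IsLocalRing.maximalIdeal.isMaximal B).ne_top ((Ideal.eq_top_iff_one _).mpr h1)
  obtain ⟨cu, hcu⟩ := hi0
  -- (9) conclusion
  set g : A := a 0 i0 with hgdef
  have hg : algebraMap A B g = h * (cu : B) := by rw [hcu]; exact hc' i0
  have hfg : algebraMap A B f = algebraMap A B (g ^ (n' + 1)) *
      ((w * (cu ^ (n' + 1))⁻¹ : Bˣ) : B) := by
    rw [map_pow, hg, hf, Units.val_mul]
    calc (w : B) * h ^ (n' + 1)
        = (w : B) * h ^ (n' + 1) * (((cu ^ (n' + 1) : Bˣ) : B) * ↑(cu ^ (n' + 1))⁻¹) := by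
          rw [Units.mul_inv, mul_one]
      _ = (h * (cu : B)) ^ (n' + 1) * ((w : B) * ↑(cu ^ (n' + 1))⁻¹) := by
          rw [Units.val_pow_eq_pow_val]; ring
  have hmem : f ∈ ((Ideal.span {g ^ (n' + 1)}).map (algebraMap A B)).comap (algebraMap A B) := by
    rw [Ideal.mem_comap, Ideal.map_span, Set.image_singleton, Ideal.mem_span_singleton]
    exact ⟨_, hfg⟩
  rw [Ideal.comap_map_eq_self_of_faithfullyFlat, Ideal.mem_span_singleton] at hmem
  obtain ⟨u0, hu0⟩ := hmem
  have hgne : algebraMap A B (g ^ (n' + 1)) ≠ 0 := by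
    rw [map_pow, hg]
    exact pow_ne_zero _ (mul_ne_zero hh0 cu.ne_zero)
  have hu0B : algebraMap A B u0 = ((w * (cu ^ (n' + 1))⁻¹ : Bˣ) : B) := by
    apply mul_left_cancel₀ hgne
    rw [← map_mul, ← hu0, hfg]
  have hu0unit : IsUnit u0 := by
    apply isUnit_of_map_unit (algebraMap A B)
    rw [hu0B]
    exact Units.isUnit _
  refine ⟨g, hu0unit.unit, ?_⟩
  rw [IsUnit.unit_spec, hu0, mul_comm]


end Groth.Agent.S7125
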