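import Groth.Statements.S7128
import Mathlib
import Groth.Agent.Lib.Helper3.WEtale3

set_option autoImplicit false
universe u
open EtAlg

namespace Groth.Agent.S7128

/-- a ring in which every element `a` is of the form `a * a * b` has all modules flat. -/
theorem allFlat_of_vnr (C : Type u) [CommRing C] (key : ∀ a : C, ∃ b : C, a = a * a * b) :
    ∀ (M : Type u) [AddCommGroup M] [Module C M], Module.Flat C M := by
  have h := (Groth.Agent.S7130.result C).out 0 1
  refine h.mpr ⟨?_, ?_⟩
  · rw [isReduced_iff_pow_one_lt 2 (by norm_num)]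
    intro x hx
    obtain ⟨b, hb⟩ := key x
    rw [hb, ← pow_two, hx, zero_mul]
  · intro p hp
    rw [Ideal.isMaximal_iff]
    refine ⟨hp.one_notMem, fun J x hpJ hxp hxJ => ?_⟩
    obtain ⟨b, hb⟩ := key x
    have h0 : x * (1 - x * b) = 0 := by
      rw [mul_sub, mul_one, ← mul_assoc, ← hb, sub_self]
    have h1 : 1 - x * b ∈ p := by
      have : x * (1 - x * b) ∈ p := by rw [h0]; exact p.zero_mem
      exact (hp.mem_or_mem this).resolve_left hxp
    have h2 : (1 : C) = (1 - x * b) + x * b := by ring
    rw [h2]
    exact J.add_mem (hpJ h1) (J.mul_mem_right _ hxJ)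

/-- product of all residue fields -/
abbrev PiRes (A : Type u) [CommRing A] : Type u :=
  ∀ p : PrimeSpectrum A, p.asIdeal.ResidueField

theorem algebraMap_piRes_apply (A : Type u) [CommRing A] (a : A) (p : PrimeSpectrum A) :
    algebraMap A (PiRes A) a p = algebraMap A p.asIdeal.ResidueField a := rfl

theorem algebraMap_piRes_injective (A : Type u) [CommRing A] [IsReduced A] :
    Function.Injective (algebraMap A (PiRes A)) := by
  rw [injective_iff_map_eq_zero]
  intro a ha
  have h1 : a ∈ nilradical A := by
    rw [nilradical_eq_sInf, Ideal.mem_sInf]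
    intro p hp
    haveI : p.IsPrime := hp
    have h3 : algebraMap A (Ideal.ResidueField p) a = 0 := by
      have := algebraMap_piRes_apply A a ⟨p, hp⟩
      rw [ha] at this
      exact this.symm
    rwa [Ideal.algebraMap_residueField_eq_zero] at h3
  rw [nilradical_eq_zero A] at h1
  exact h1

theorem allFlat_piRes (A : Type u) [CommRing A] :
    ∀ (M : Type u) [AddCommGroup M] [Module (PiRes A) M], Module.Flat (PiRes A) M := by
  apply allFlat_of_vnr
  intro a
  refine ⟨fun p => (a p)⁻¹, ?_⟩
  funext p
  by_cases h : a p = 0
  · simp [h]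
  · simp only [Pi.mul_apply]
    field_simp

/-- A weakly étale algebra over a reduced ring is itself reduced. -/
theorem result (A B : Type u) [CommRing A] [CommRing B] [Algebra A B] [IsReduced A]
    [Algebra.WeaklyEtale A B] : IsReduced B := by
  have hC : ∀ (M : Type u) [AddCommGroup M] [Module (TensorProduct A (PiRes A) B) M],
      Module.Flat (TensorProduct A (PiRes A) B) M :=
    Groth.Agent.Lib.helper3.WEtale3.absFlat (allFlat_piRes A)
      (Algebra.WeaklyEtale.flat_lmul' (PiRes A) (TensorProduct A (PiRes A) B))
  have hred : IsReduced (TensorProduct A (PiRes A) B) := by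
    have h := (Groth.Agent.S7130.result (TensorProduct A (PiRes A) B)).out 0 1
    exact (h.mp hC).1
  exact isReduced_of_injective
    (Algebra.TensorProduct.includeRight : B →ₐ[A] TensorProduct A (PiRes A) B)
    (Algebra.TensorProduct.includeRight_injective (algebraMap_piRes_injective A))

end Groth.Agent.S7128
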