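import Groth.Statements.S7129
import Mathlib

set_option autoImplicit false
universe u
open EtAlg

namespace Groth.Agent.S7129

section
variable {ι : Type*} {K : ι → Type*} [∀ i, Field (K i)]

theorem exists_idem_principal (a : ∀ i, K i) :
    ∃ e : ∀ i, K i, IsIdempotentElem e ∧ Ideal.span {a} = Ideal.span {e} := by
  let b : ∀ i, K i := fun i => (a i)⁻¹
  have hab : a * b * a = a := by
    funext i
    show a i * (a i)⁻¹ * a i = a i
    by_cases h : a i = 0
    · simp [h]
    · rw [mul_inv_cancel₀ h, one_mul]
  refine ⟨a * b, ?_, ?_⟩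
  · show a * b * (a * b) = a * b
    calc a * b * (a * b) = (a * b * a) * b := by ring
      _ = a * b := by rw [hab]
  · apply le_antisymm
    · rw [Ideal.span_singleton_le_iff_mem, Ideal.mem_span_singleton']
      exact ⟨a, by rw [mul_comm]; exact hab⟩
    · rw [Ideal.span_singleton_le_iff_mem, Ideal.mem_span_singleton']
      exact ⟨b, by rw [mul_comm]⟩

theorem exists_idem_of_fg (I : Ideal (∀ i, K i)) (hI : I.FG) :
    ∃ e : ∀ i, K i, IsIdempotentElem e ∧ I = Ideal.span {e} := by
  induction I, hI using Submodule.fg_induction with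
  | singleton a => exact exists_idem_principal a
  | sup I J hI hJ ihI ihJ =>
    obtain ⟨e, he, rfl⟩ := ihI
    obtain ⟨e', he', rfl⟩ := ihJ
    have he2 : e * e = e := he
    have he'2 : e' * e' = e' := he'
    refine ⟨e + e' - e * e', ?_, ?_⟩
    · show (e + e' - e * e') * (e + e' - e * e') = e + e' - e * e'
      linear_combination (1 - 2 * e' + e' * e') * he2 + (1 - e) * he'2
    · apply le_antisymm
      · rw [sup_le_iff, Ideal.span_singleton_le_iff_mem, Ideal.span_singleton_le_iff_mem,
          Ideal.mem_span_singleton', Ideal.mem_span_singleton']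
        refine ⟨⟨e, ?_⟩, ⟨e', ?_⟩⟩
        · linear_combination (1 - e') * he2
        · linear_combination (1 - e) * he'2
      · rw [Ideal.span_singleton_le_iff_mem]
        refine Submodule.sub_mem _ (Submodule.add_mem _ ?_ ?_) ?_
        · exact Submodule.mem_sup_left (Ideal.subset_span rfl)
        · exact Submodule.mem_sup_right (Ideal.subset_span rfl)
        · exact Submodule.mem_sup_left (Ideal.mul_mem_right _ _ (Ideal.subset_span rfl))

end

/-- Every module over a product of fields is flat. -/
theorem result (ι : Type u) (K : ι → Type u) [∀ i, Field (K i)] (M : Type u)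
    [AddCommGroup M] [Module (∀ i, K i) M] : Module.Flat (∀ i, K i) M := by
  rw [Module.Flat.iff_rTensor_injective]
  intro I hI
  obtain ⟨e, he, rfl⟩ := exists_idem_of_fg I hI
  have he2 : e * e = e := he
  let r : (∀ i, K i) →ₗ[∀ i, K i] (Ideal.span {e} : Ideal (∀ i, K i)) :=
    { toFun := fun x => ⟨e * x, Ideal.mul_mem_right _ _ (Ideal.subset_span rfl)⟩
      map_add' := fun x y => by ext1; simp [mul_add]
      map_smul' := fun c x => by ext1; simp [mul_left_comm] }
  have hr : r.comp (Ideal.span {e} : Ideal (∀ i, K i)).subtype = LinearMap.id := by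
    ext1 ⟨y, hy⟩
    obtain ⟨z, rfl⟩ := Ideal.mem_span_singleton'.mp hy
    ext1
    show e * (z * e) = z * e
    linear_combination z * he2
  have : (r.rTensor M).comp ((Ideal.span {e} : Ideal (∀ i, K i)).subtype.rTensor M) =
      LinearMap.id := by
    rw [← LinearMap.rTensor_comp, hr, LinearMap.rTensor_id]
  exact Function.LeftInverse.injective (g := r.rTensor M) (fun x => by
    have := LinearMap.congr_fun this x
    simpa using this)

end Groth.Agent.S7129
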