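import Groth.Statements.S7133
import Mathlib.Tactic.FieldSimp
import Mathlib.Tactic.Ring
import Mathlib.Tactic.LinearCombination

set_option autoImplicit false
universe u
open EtAlg

namespace Groth.Agent.S7133

/-- For an injective local homomorphism A → B of discrete valuation rings whose fields of fractions are
K ⊆ L: if K has characteristic p > 0 and L/K is purely inseparable, then the ramification index of B
over A is a power of p. -/
theorem result (A B K L : Type u) [CommRing A] [IsDomain A]
    [IsDiscreteValuationRing A] [CommRing B] [IsDomain B] [IsDiscreteValuationRing B] [Algebra A B]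
    (hinj : Function.Injective (algebraMap A B)) [IsLocalHom (algebraMap A B)]
    [Field K] [Field L] [Algebra A K] [IsFractionRing A K] [Algebra B L] [IsFractionRing B L]
    [Algebra K L] [Algebra A L] [IsScalarTower A K L] [IsScalarTower A B L]
    (p : ℕ) (hp : p.Prime) [CharP K p] [IsPurelyInseparable K L] :
    ∃ k : ℕ, Ideal.ramificationIdx' (IsLocalRing.maximalIdeal A) (IsLocalRing.maximalIdeal B) =
      p ^ k := by
  obtain ⟨ϖA, hA⟩ := IsDiscreteValuationRing.exists_irreducible A
  obtain ⟨ϖB, hB⟩ := IsDiscreteValuationRing.exists_irreducible B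
  have hmA : IsLocalRing.maximalIdeal A = Ideal.span {ϖA} := hA.maximalIdeal_eq
  have hmB : IsLocalRing.maximalIdeal B = Ideal.span {ϖB} := hB.maximalIdeal_eq
  have hϖA0 : algebraMap A B ϖA ≠ 0 := by
    intro h
    exact hA.ne_zero (hinj (by rw [h, map_zero]))
  obtain ⟨e, u, hu⟩ := IsDiscreteValuationRing.eq_unit_mul_pow_irreducible hϖA0 hB
  have hmap : Ideal.map (algebraMap A B) (IsLocalRing.maximalIdeal A) =
      IsLocalRing.maximalIdeal B ^ e := by
    rw [hmA, hmB, Ideal.map_span, Set.image_singleton, hu, Ideal.span_singleton_pow]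
    exact Ideal.span_singleton_eq_span_singleton.2 ⟨u⁻¹, by
      rw [mul_comm, ← mul_assoc]; simp⟩
  have hram : Ideal.ramificationIdx' (IsLocalRing.maximalIdeal A) (IsLocalRing.maximalIdeal B) = e := by
    apply Ideal.ramificationIdx'_spec
    · rw [hmap]
    · rw [hmap, hmB, Ideal.span_singleton_pow, Ideal.span_singleton_pow,
        Ideal.span_singleton_le_span_singleton]
      intro hdvd
      obtain ⟨c, hc⟩ := hdvd
      rw [pow_succ, mul_assoc] at hc
      have h1 : ϖB * c = 1 := by
        have h0 : ϖB ^ e ≠ 0 := pow_ne_zero _ hB.ne_zero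
        exact (mul_left_cancel₀ h0 (by rw [mul_one]; exact hc)).symm
      exact hB.not_isUnit (IsUnit.of_mul_eq_one _ h1)
  rw [hram]
  have : ExpChar K p := ExpChar.prime hp
  obtain ⟨n, y, hy⟩ := IsPurelyInseparable.pow_mem K p (algebraMap B L ϖB)
  obtain ⟨a, s, hs, hys⟩ := IsFractionRing.div_surjective (A := A) y
  have hs0 : s ≠ 0 := nonZeroDivisors.ne_zero hs
  have hxL : algebraMap B L ϖB ≠ 0 := by
    intro h
    exact hB.ne_zero ((IsFractionRing.injective B L) (by rw [h, map_zero]))
  have hsK : algebraMap A K s ≠ 0 := by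
    intro h
    exact hs0 ((IsFractionRing.injective A K) (by rw [h, map_zero]))
  have hy0 : y ≠ 0 := by
    intro h
    rw [h, map_zero] at hy
    exact pow_ne_zero _ hxL hy.symm
  have ha0 : a ≠ 0 := by
    intro h
    rw [h, map_zero, zero_div] at hys
    exact hy0 hys.symm
  -- equation in B
  have hB_eq : algebraMap A B a = algebraMap A B s * ϖB ^ (p ^ n) := by
    apply IsFractionRing.injective B L
    rw [map_mul, map_pow, ← hy, ← hys, map_div₀, ← IsScalarTower.algebraMap_apply A B L,
      ← IsScalarTower.algebraMap_apply A B L, ← IsScalarTower.algebraMap_apply A K L,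
      ← IsScalarTower.algebraMap_apply A K L]
    have : algebraMap A L s ≠ 0 := by
      rw [IsScalarTower.algebraMap_apply A K L]
      intro h
      exact hsK ((algebraMap K L).injective (by rw [h, map_zero]))
    field_simp
  obtain ⟨i, ua, hua⟩ := IsDiscreteValuationRing.eq_unit_mul_pow_irreducible ha0 hA
  obtain ⟨j, us, hus⟩ := IsDiscreteValuationRing.eq_unit_mul_pow_irreducible hs0 hA
  have hunit : ∀ v : Aˣ, IsUnit (algebraMap A B v) := fun v => v.isUnit.map _
  rw [hua, hus, map_mul, map_mul, map_pow, map_pow, hu, mul_pow, mul_pow] at hB_eq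
  obtain ⟨wa, hwa⟩ := hunit ua
  obtain ⟨ws, hws⟩ := hunit us
  rw [← hwa, ← hws, ← pow_mul, ← pow_mul] at hB_eq
  have key : e * i = e * j + p ^ n := by
    apply IsDiscreteValuationRing.unit_mul_pow_congr_pow hB hB (wa * u ^ i) (ws * u ^ j)
    rw [pow_add]
    push_cast
    linear_combination hB_eq
  have hdvd : e ∣ p ^ n := by
    have : e ∣ e * j + p ^ n := ⟨i, key.symm⟩
    exact (Nat.dvd_add_right (dvd_mul_right e j)).1 this
  obtain ⟨k, _, hk⟩ := (Nat.dvd_prime_pow hp).1 hdvd
  exact ⟨k, hk⟩

end Groth.Agent.S7133
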