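import Groth.Statements.S7134
import Mathlib
import Groth.Agent.S2454
import Groth.Agent.S9318
import Groth.Agent.S0542
import Groth.Agent.Lib.Helper17.AdicFS
import Groth.Agent.Lib.Helper17.SmoothArtin
import Groth.Agent.Lib.Helper15.Regular
import Groth.Agent.Lib.Helper19.CohenK4

set_option autoImplicit false
universe u
open EtAlg

namespace Groth.Agent.S7134

-- MARK
open IsLocalRing

/-- base change of adic formal smoothness along `A → k_A`. -/
theorem bc_residue {A B : Type u} [CommRing A] [IsLocalRing A] [CommRing B] [Algebra A B]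
    (I' : Ideal B) (hI' : I' = (maximalIdeal A).map (algebraMap A B))
    [Algebra (ResidueField A) (B ⧸ I')] [IsScalarTower A (ResidueField A) (B ⧸ I')]
    (𝔫 : Ideal B) (h : CAlgX.IsAdicFormallySmooth A B 𝔫) :
    CAlgX.IsAdicFormallySmooth (ResidueField A) (B ⧸ I') (𝔫.map (Ideal.Quotient.mk I')) := by
  intro C _ _ J hJ ψ hψ
  obtain ⟨n, hn⟩ := hψ
  letI : Algebra A C := ((algebraMap (ResidueField A) C).comp (algebraMap A (ResidueField A))).toAlgebra
  haveI : IsScalarTower A (ResidueField A) C := IsScalarTower.of_algebraMap_eq fun _ => rfl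
  let ψ' : B →ₐ[A] C ⧸ J := (ψ.restrictScalars A).comp (Ideal.Quotient.mkₐ A I')
  have hψ' : ∃ k : ℕ, ∀ x ∈ 𝔫 ^ k, ψ' x = 0 := by
    refine ⟨n, fun x hx => ?_⟩
    have : Ideal.Quotient.mk I' x ∈ (𝔫.map (Ideal.Quotient.mk I')) ^ n := by
      rw [← Ideal.map_pow]
      exact Ideal.mem_map_of_mem _ hx
    exact hn _ this
  obtain ⟨χ', hχ'⟩ := h C J hJ ψ' hψ'
  have hkill : ∀ b ∈ I', χ' b = 0 := by
    intro b hb
    rw [hI'] at hb
    have hle : (maximalIdeal A).map (algebraMap A B) ≤ RingHom.ker χ'.toRingHom := by
      rw [Ideal.map_le_iff_le_comap]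
      intro a ha
      rw [Ideal.mem_comap, RingHom.mem_ker]
      show χ' (algebraMap A B a) = 0
      rw [χ'.commutes, IsScalarTower.algebraMap_apply A (ResidueField A) C]
      have : algebraMap A (ResidueField A) a = 0 := by
        rw [ResidueField.algebraMap_eq]
        exact (residue_eq_zero_iff a).mpr ha
      rw [this, map_zero]
    exact hle hb
  let χ : B ⧸ I' →ₐ[A] C := Ideal.Quotient.liftₐ I' χ' hkill
  have hcomm : ∀ r : ResidueField A, χ (algebraMap (ResidueField A) (B ⧸ I') r) =
      algebraMap (ResidueField A) C r := by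
    intro r
    obtain ⟨a, rfl⟩ := residue_surjective r
    rw [← ResidueField.algebraMap_eq, ← IsScalarTower.algebraMap_apply A (ResidueField A) (B ⧸ I'),
      χ.commutes, IsScalarTower.algebraMap_apply A (ResidueField A) C]
  let χk : B ⧸ I' →ₐ[ResidueField A] C := { χ.toRingHom with commutes' := hcomm }
  refine ⟨χk, ?_⟩
  apply AlgHom.ext
  intro x
  obtain ⟨b, rfl⟩ := Ideal.Quotient.mk_surjective x
  have := congrArg (fun f => f b) hχ'
  simpa [χk, χ, ψ'] using this


theorem weaklyUnramified_of (A B : Type u) [CommRing A]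
    [IsDomain A] [IsDiscreteValuationRing A] [CommRing B] [IsDomain B] [IsDiscreteValuationRing B] [Algebra A B]
    (hinj : Function.Injective (algebraMap A B)) [IsLocalHom (algebraMap A B)]
    (hfs : CAlgX.IsAdicFormallySmooth A B (IsLocalRing.maximalIdeal B)) :
    (maximalIdeal A).map (algebraMap A B) = maximalIdeal B := by
  have hIle : (maximalIdeal A).map (algebraMap A B) ≤ maximalIdeal B :=
    ((IsLocalRing.local_hom_TFAE (algebraMap A B)).out 0 2 rfl rfl).mp inferInstance
  letI : Algebra (ResidueField A) (B ⧸ (maximalIdeal A).map (algebraMap A B)) :=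
    inferInstanceAs (Algebra (A ⧸ maximalIdeal A) (B ⧸ (maximalIdeal A).map (algebraMap A B)))
  haveI : IsScalarTower A (ResidueField A) (B ⧸ (maximalIdeal A).map (algebraMap A B)) :=
    inferInstanceAs (IsScalarTower A (A ⧸ maximalIdeal A) (B ⧸ (maximalIdeal A).map (algebraMap A B)))
  have h1 := bc_residue ((maximalIdeal A).map (algebraMap A B)) rfl (maximalIdeal B) hfs
  have hne : (maximalIdeal A).map (algebraMap A B) ≠ ⊤ := fun h =>
    (IsLocalRing.maximalIdeal.isMaximal B).ne_top (top_le_iff.mp (h ▸ hIle))
  haveI : Nontrivial (B ⧸ (maximalIdeal A).map (algebraMap A B)) := Ideal.Quotient.nontrivial_iff.mpr hne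
  haveI : IsLocalRing (B ⧸ (maximalIdeal A).map (algebraMap A B)) :=
    IsLocalRing.of_surjective' (Ideal.Quotient.mk _) Ideal.Quotient.mk_surjective
  have hmax : maximalIdeal (B ⧸ (maximalIdeal A).map (algebraMap A B)) =
      (maximalIdeal B).map (Ideal.Quotient.mk _) := by
    symm
    apply IsLocalRing.eq_maximalIdeal
    exact Ideal.IsMaximal.map_of_surjective_of_ker_le Ideal.Quotient.mk_surjective (by simpa using hIle)
  rw [← hmax] at h1
  have hreg := Groth.Agent.Lib.helper19.CohenK.isRegularLocalRing_of_isAdicFormallySmooth_field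
    (ResidueField A) (B ⧸ (maximalIdeal A).map (algebraMap A B)) h1
  have hdom := Groth.Agent.Lib.helper15.isDomain_of_isRegularLocalRing
    (B ⧸ (maximalIdeal A).map (algebraMap A B))
  have hprime : ((maximalIdeal A).map (algebraMap A B)).IsPrime :=
    (Ideal.Quotient.isDomain_iff_prime _).mp hdom
  have hnb : (maximalIdeal A).map (algebraMap A B) ≠ ⊥ := by
    intro hbot
    have hA : maximalIdeal A ≠ ⊥ := IsDiscreteValuationRing.not_a_field A
    obtain ⟨x, hx, hx0⟩ := Submodule.exists_mem_ne_zero_of_ne_bot hA
    have : algebraMap A B x ∈ (maximalIdeal A).map (algebraMap A B) := Ideal.mem_map_of_mem _ hx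
    rw [hbot, Ideal.mem_bot] at this
    exact hx0 (hinj (this.trans (map_zero _).symm))
  have hmaxl : ((maximalIdeal A).map (algebraMap A B)).IsMaximal := hprime.isMaximal hnb
  exact IsLocalRing.eq_maximalIdeal hmaxl


theorem geomReduced_of (A B : Type u) [CommRing A] [IsLocalRing A] [CommRing B] [IsLocalRing B] [Algebra A B]
    [IsLocalHom (algebraMap A B)]
    (hW : (maximalIdeal A).map (algebraMap A B) = maximalIdeal B)
    (hfs : CAlgX.IsAdicFormallySmooth A B (IsLocalRing.maximalIdeal B)) :
    Algebra.IsGeometricallyReduced (ResidueField A) (ResidueField B) := by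
  letI : Algebra (ResidueField A) (B ⧸ maximalIdeal B) :=
    inferInstanceAs (Algebra (ResidueField A) (ResidueField B))
  haveI : IsScalarTower A (ResidueField A) (B ⧸ maximalIdeal B) :=
    inferInstanceAs (IsScalarTower A (ResidueField A) (ResidueField B))
  have h2 := bc_residue (maximalIdeal B) hW.symm (maximalIdeal B) hfs
  rw [Ideal.map_quotient_self] at h2
  haveI : Algebra.FormallySmooth (ResidueField A) (ResidueField B) := by
    apply Algebra.FormallySmooth.of_comp_surjective
    intro C _ _ I hI ψ
    obtain ⟨χ, hχ⟩ := h2 C I hI ψ ⟨1, fun x hx => by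
      rw [pow_one, Ideal.mem_bot] at hx
      rw [hx, map_zero]⟩
    exact ⟨χ, hχ⟩
  exact Groth.Agent.Lib.helper17.SmoothArtin.isGeometricallyReduced_of_formallySmooth


theorem fs_of (A B : Type u) [CommRing A]
    [IsDomain A] [IsDiscreteValuationRing A] [CommRing B] [IsDomain B] [IsDiscreteValuationRing B] [Algebra A B]
    (hinj : Function.Injective (algebraMap A B)) [IsLocalHom (algebraMap A B)]
    (hW : (maximalIdeal A).map (algebraMap A B) = maximalIdeal B)
    (hgr : Algebra.IsGeometricallyReduced (ResidueField A) (ResidueField B)) :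
    CAlgX.IsAdicFormallySmooth A B (maximalIdeal B) := by
  have hfg : (maximalIdeal B).FG := IsNoetherian.noetherian _
  rw [Groth.Agent.S9318.result (maximalIdeal B) hfg]
  haveI : IsScalarTower A B (AdicCompletion (maximalIdeal B) B) :=
    IsScalarTower.of_algebraMap_eq fun _ => rfl
  haveI hloc : IsLocalHom (algebraMap A (AdicCompletion (maximalIdeal B) B)) := by
    rw [IsScalarTower.algebraMap_eq A B (AdicCompletion (maximalIdeal B) B)]
    exact RingHom.isLocalHom_comp _ _
  have hmaxBh : maximalIdeal (AdicCompletion (maximalIdeal B) B) =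
      (maximalIdeal B).map (algebraMap B (AdicCompletion (maximalIdeal B) B)) :=
    AdicCompletion.maximalIdeal_eq_map
  have hmap : (maximalIdeal A).map (algebraMap A (AdicCompletion (maximalIdeal B) B)) =
      maximalIdeal (AdicCompletion (maximalIdeal B) B) := by
    rw [IsScalarTower.algebraMap_eq A B (AdicCompletion (maximalIdeal B) B), ← Ideal.map_map, hW, hmaxBh]
  haveI hN : IsNoetherianRing (AdicCompletion (maximalIdeal B) B) :=
    Groth.Agent.S0542.result B (maximalIdeal B) hfg
  have hCohen : EGA41.IsCohenAlgebra A (AdicCompletion (maximalIdeal B) B) := by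
    refine ⟨inferInstance, hN, inferInstance, ?_, hmap, ?_⟩
    · haveI : Module.IsTorsionFree A B := by
        rw [Module.isTorsionFree_iff_algebraMap_injective]
        exact hinj
      haveI : Module.Flat A B := inferInstance
      haveI : Module.Flat B (AdicCompletion (maximalIdeal B) B) := inferInstance
      exact Module.Flat.trans A B (AdicCompletion (maximalIdeal B) B)
    · haveI : IsLocalHom (IsScalarTower.toAlgHom A B (AdicCompletion (maximalIdeal B) B)) :=
        ⟨fun b hb => IsLocalHom.map_nonunit (f := algebraMap B (AdicCompletion (maximalIdeal B) B)) b hb⟩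
      let φ : ResidueField B →ₐ[ResidueField A] ResidueField (AdicCompletion (maximalIdeal B) B) :=
        ResidueField.mapAlgHom' (IsScalarTower.toAlgHom A B (AdicCompletion (maximalIdeal B) B))
      have hbij : Function.Bijective φ := AdicCompletion.residueField_map_bijective B
      let e := AlgEquiv.ofBijective φ hbij
      exact Algebra.IsGeometricallyReduced.of_injective e.symm.toAlgHom e.symm.injective
  have h1 := Groth.Agent.S2454.result hCohen
  have h2 := Groth.Agent.Lib.helper17.AdicFS.sqzero_of_isFormallySmoothAdic (maximalIdeal A)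
    (maximalIdeal (AdicCompletion (maximalIdeal B) B)) hmap.le h1
  rw [hmaxBh] at h2
  exact h2



/-- For an injective local homomorphism A → B of discrete valuation rings, A → B is formally smooth for
the adic topology of the maximal ideal of B if and only if A → B is weakly unramified and the
residue field of B is a separable (possibly transcendental, i.e. geometrically reduced) extension of
the residue field of A. -/
theorem result (A B : Type u) [CommRing A]
    [IsDomain A] [IsDiscreteValuationRing A] [CommRing B] [IsDomain B] [IsDiscreteValuationRing B] [Algebra A B]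
    (hinj : Function.Injective (algebraMap A B)) [IsLocalHom (algebraMap A B)] :
    CAlgX.IsAdicFormallySmooth A B (IsLocalRing.maximalIdeal B) ↔
      EtRam.IsWeaklyUnramified A B ∧
        Algebra.IsGeometricallyReduced (IsLocalRing.ResidueField A) (IsLocalRing.ResidueField B) := by
    classical
  constructor
  · intro hfs
    have hW : (maximalIdeal A).map (algebraMap A B) = maximalIdeal B :=
      weaklyUnramified_of A B hinj hfs
    exact ⟨hW, geomReduced_of A B hW hfs⟩
  · rintro ⟨hW, hgr⟩
    exact fs_of A B hinj hW hgr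

end Groth.Agent.S7134
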