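import Groth.Statements.S7135
import Mathlib

set_option autoImplicit false
universe u
open CAlg

namespace Groth.Agent.S7135


theorem mem_smul_top_pi {A : Type u} [CommRing A] (J : Ideal A) {N : Type u} [AddCommGroup N]
    [Module A N] {s : ℕ} (x : Fin s → N) (hx : ∀ j, x j ∈ (J • ⊤ : Submodule A N)) :
    x ∈ (J • ⊤ : Submodule A (Fin s → N)) := by
  have hsum : x = ∑ j, (LinearMap.single A (fun _ : Fin s => N) j) (x j) :=
    (Finset.univ_sum_single x).symm
  rw [hsum]
  refine Submodule.sum_mem _ (fun j _ => ?_)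
  have h1 : (LinearMap.single A (fun _ : Fin s => N) j) (x j) ∈
      Submodule.map (LinearMap.single A (fun _ : Fin s => N) j) (J • ⊤ : Submodule A N) :=
    Submodule.mem_map_of_mem (hx j)
  rw [Submodule.map_smul''] at h1
  exact Submodule.smul_mono le_rfl le_top h1

theorem apply_mem_smul_top {A : Type u} [CommRing A] (J : Ideal A) {N : Type u} [AddCommGroup N]
    [Module A N] {r : ℕ} (x : Fin r → N) (hx : x ∈ (J • ⊤ : Submodule A (Fin r → N))) (i : Fin r) :
    x i ∈ (J • ⊤ : Submodule A N) := by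
  have h1 : (LinearMap.proj (R := A) (φ := fun _ : Fin r => N) i) x ∈
      Submodule.map (LinearMap.proj (R := A) (φ := fun _ : Fin r => N) i)
        (J • ⊤ : Submodule A (Fin r → N)) :=
    Submodule.mem_map_of_mem hx
  rw [Submodule.map_smul''] at h1
  exact Submodule.smul_mono le_rfl le_top h1

theorem exists_lift_mod (A : Type u) [CommRing A] [IsNoetherianRing A] (I : Ideal A)
    (M N : Type u) [AddCommGroup M] [Module A M] [Module.Finite A M] [AddCommGroup N] [Module A N]
    [Module.Finite A N] :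
    ∃ c : ℕ, ∀ (θ : (M ⧸ (I ^ (c + 1) • ⊤ : Submodule A M)) →ₗ[A]
        (N ⧸ (I ^ (c + 1) • ⊤ : Submodule A N))),
      ∃ φ : M →ₗ[A] N, ∀ m : M, (Submodule.mkQ (I • ⊤ : Submodule A N)) (φ m) =
        Submodule.factor (Submodule.smul_mono_left (Ideal.pow_le_self (Nat.succ_ne_zero c)))
          (θ (Submodule.Quotient.mk m)) := by
  obtain ⟨r, m, hm⟩ := Module.Finite.exists_fin (R := A) (M := M)
  have hπ : Function.Surjective (Fintype.linearCombination A m) :=
    (span_range_eq_top_iff_surjective_fintypeLinearCombination A m).mp hm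
  obtain ⟨s, l, hl⟩ := Submodule.fg_iff_exists_fin_generating_family.mp
    (IsNoetherian.noetherian (LinearMap.ker (Fintype.linearCombination A m)))
  obtain ⟨Φ, hΦ⟩ : ∃ Φ : (Fin r → N) →ₗ[A] (Fin s → N), ∀ n j, Φ n j = ∑ i, l j i • n i :=
    ⟨LinearMap.pi (fun j => ∑ i, (l j i) • LinearMap.proj i), fun n j => by
      simp only [LinearMap.pi_apply, LinearMap.sum_apply, LinearMap.smul_apply,
        LinearMap.proj_apply]⟩
  obtain ⟨c, hc⟩ := Ideal.exists_pow_inf_eq_pow_smul I (LinearMap.range Φ)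
  refine ⟨c, fun θ => ?_⟩
  have hn : ∀ i, ∃ x : N, (Submodule.Quotient.mk x : N ⧸ (I ^ (c + 1) • ⊤ : Submodule A N)) =
      θ (Submodule.Quotient.mk (m i)) :=
    fun i => Submodule.Quotient.mk_surjective _ _
  choose n hn using hn
  have h1 : Φ n ∈ (I ^ (c + 1) • ⊤ : Submodule A (Fin s → N)) := by
    refine mem_smul_top_pi _ _ (fun j => ?_)
    rw [hΦ]
    have hlj : Fintype.linearCombination A m (l j) = 0 := by
      have : l j ∈ LinearMap.ker (Fintype.linearCombination A m) := by
        rw [← hl]; exact Submodule.subset_span ⟨j, rfl⟩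
      exact this
    rw [Fintype.linearCombination_apply] at hlj
    have e1 : (Submodule.mkQ (I ^ (c + 1) • ⊤ : Submodule A N)) (∑ i, l j i • n i) =
        θ ((Submodule.mkQ (I ^ (c + 1) • ⊤ : Submodule A M)) (∑ i, l j i • m i)) := by
      rw [map_sum, map_sum, map_sum]
      refine Finset.sum_congr rfl (fun i _ => ?_)
      rw [map_smul, map_smul, map_smul]
      congr 1
      exact hn i
    rw [hlj, map_zero, map_zero] at e1
    exact (Submodule.Quotient.mk_eq_zero _).mp e1
  have h2 : Φ n ∈ I ^ (c + 1) • (⊤ : Submodule A (Fin s → N)) ⊓ LinearMap.range Φ :=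
    ⟨h1, ⟨n, rfl⟩⟩
  rw [hc (c + 1) (Nat.le_succ c), Nat.add_sub_cancel_left, pow_one] at h2
  have h3 : Φ n ∈ Submodule.map Φ (I • ⊤ : Submodule A (Fin r → N)) := by
    rw [Submodule.map_smul'', Submodule.map_top]
    exact Submodule.smul_mono le_rfl inf_le_right h2
  obtain ⟨n', hn'mem, hn'⟩ := h3
  have hker : Φ (n - n') = 0 := by rw [map_sub, hn', sub_self]
  have hle : LinearMap.ker (Fintype.linearCombination A m) ≤
      LinearMap.ker (Fintype.linearCombination A (n - n')) := by
    rw [← hl, Submodule.span_le]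
    rintro _ ⟨j, rfl⟩
    show Fintype.linearCombination A (n - n') (l j) = 0
    rw [Fintype.linearCombination_apply, ← hΦ, hker]
    rfl
  obtain ⟨φ, hφ⟩ : ∃ φ : M →ₗ[A] N, ∀ a, φ (Fintype.linearCombination A m a) =
      Fintype.linearCombination A (n - n') a := by
    refine ⟨(Submodule.liftQ _ (Fintype.linearCombination A (n - n')) hle) ∘ₗ
      ((Fintype.linearCombination A m).quotKerEquivOfSurjective hπ).symm.toLinearMap, fun a => ?_⟩
    rw [LinearMap.comp_apply, LinearEquiv.coe_coe, LinearMap.quotKerEquivOfSurjective_symm_apply,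
      Submodule.liftQ_apply]
  refine ⟨φ, fun m0 => ?_⟩
  obtain ⟨a, rfl⟩ := hπ m0
  rw [hφ]
  have hlin : (Submodule.mkQ (I • ⊤ : Submodule A N)) ∘ₗ (Fintype.linearCombination A (n - n')) =
      (Submodule.factor (Submodule.smul_mono_left (Ideal.pow_le_self (Nat.succ_ne_zero c)))) ∘ₗ θ ∘ₗ
        (Submodule.mkQ (I ^ (c + 1) • ⊤ : Submodule A M)) ∘ₗ (Fintype.linearCombination A m) := by
    refine LinearMap.pi_ext (fun i x => ?_)
    rw [LinearMap.comp_apply, LinearMap.comp_apply, LinearMap.comp_apply, LinearMap.comp_apply,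
      Fintype.linearCombination_apply_single, Fintype.linearCombination_apply_single,
      map_smul, map_smul, map_smul, map_smul]
    congr 1
    have e2 : (Submodule.mkQ (I • ⊤ : Submodule A N)) (n' i) = 0 :=
      (Submodule.Quotient.mk_eq_zero _).mpr (apply_mem_smul_top I n' hn'mem i)
    rw [Pi.sub_apply, map_sub, e2, sub_zero]
    have e3 : θ ((Submodule.mkQ (I ^ (c + 1) • ⊤ : Submodule A M)) (m i)) =
        (Submodule.mkQ (I ^ (c + 1) • ⊤ : Submodule A N)) (n i) := (hn i).symm
    rw [e3, Submodule.factor_mk]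
  exact LinearMap.congr_fun hlin a


/-- Let A be a Noetherian ring, I an ideal and M, N finite A-modules. If M/IⁿM and N/IⁿN are isomorphic
for every n, then the I-adic completions of M and N are isomorphic as modules over the I-adic
completion of A. -/
theorem result (A : Type u) [CommRing A] [IsNoetherianRing A] (I : Ideal A)
    (M N : Type u) [AddCommGroup M] [Module A M] [Module.Finite A M] [AddCommGroup N] [Module A N]
    [Module.Finite A N]
    (h : ∀ n : ℕ, Nonempty ((M ⧸ (I ^ n • ⊤ : Submodule A M)) ≃ₗ[A] (N ⧸ (I ^ n • ⊤ : Submodule A N)))) :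
    Nonempty (AdicCompletion I M ≃ₗ[AdicCompletion I A] AdicCompletion I N) := by
  obtain ⟨c, hc⟩ := exists_lift_mod A I M N
  obtain ⟨c', hc'⟩ := exists_lift_mod A I N M
  obtain ⟨e⟩ := h (c + 1)
  obtain ⟨e'⟩ := h (c' + 1)
  obtain ⟨φ, hφ⟩ := hc e.toLinearMap
  obtain ⟨ψ, hψ⟩ := hc' e'.symm.toLinearMap
  have hφs : Function.Surjective ((Submodule.mkQ (I • ⊤ : Submodule A N)) ∘ₗ φ) := by
    intro y
    obtain ⟨y0, rfl⟩ := Submodule.mkQ_surjective _ y
    obtain ⟨m, hm⟩ := Submodule.mkQ_surjective _ (e.symm (Submodule.Quotient.mk y0))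
    refine ⟨m, ?_⟩
    rw [LinearMap.comp_apply, hφ m]
    have : e.toLinearMap (Submodule.Quotient.mk m) = Submodule.Quotient.mk y0 := by
      rw [LinearEquiv.coe_coe]
      have hm' : (Submodule.Quotient.mk m : M ⧸ (I ^ (c + 1) • ⊤ : Submodule A M)) =
          e.symm (Submodule.Quotient.mk y0) := hm
      rw [hm', LinearEquiv.apply_symm_apply]
    rw [this]
    rfl
  have hψs : Function.Surjective ((Submodule.mkQ (I • ⊤ : Submodule A M)) ∘ₗ ψ) := by
    intro y
    obtain ⟨y0, rfl⟩ := Submodule.mkQ_surjective _ y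
    obtain ⟨m, hm⟩ := Submodule.mkQ_surjective _ (e' (Submodule.Quotient.mk y0))
    refine ⟨m, ?_⟩
    rw [LinearMap.comp_apply, hψ m]
    have : e'.symm.toLinearMap (Submodule.Quotient.mk m) = Submodule.Quotient.mk y0 := by
      rw [LinearEquiv.coe_coe]
      have hm' : (Submodule.Quotient.mk m : N ⧸ (I ^ (c' + 1) • ⊤ : Submodule A N)) =
          e' (Submodule.Quotient.mk y0) := hm
      rw [hm', LinearEquiv.symm_apply_apply]
    rw [this]
    rfl
  have s1 := AdicCompletion.map_surjective_of_mkQ_comp_surjective hφs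
  have s2 := AdicCompletion.map_surjective_of_mkQ_comp_surjective hψs
  haveI : Module.Finite (AdicCompletion I A) (AdicCompletion I M) :=
    Module.Finite.equiv (AdicCompletion.ofTensorProductEquivOfFiniteNoetherian I M)
  have inj : Function.Injective ((AdicCompletion.map I ψ) ∘ₗ (AdicCompletion.map I φ)) :=
    OrzechProperty.injective_of_surjective_endomorphism _ (s2.comp s1)
  have injφ : Function.Injective (AdicCompletion.map I φ) := by
    intro x y hxy
    apply inj
    rw [LinearMap.comp_apply, LinearMap.comp_apply, hxy]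
  exact ⟨LinearEquiv.ofBijective (AdicCompletion.map I φ) ⟨injφ, s1⟩⟩


end Groth.Agent.S7135
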