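import Groth.Statements.S7136
import Mathlib

set_option autoImplicit false
universe u
open CAlg

namespace Groth.Agent.S7136

theorem mem_smul_top_pi {A : Type u} [CommRing A] {ι : Type} [Fintype ι] [DecidableEq ι] (J : Ideal A)
    {N : Type u} [AddCommGroup N] [Module A N] (p : ι → N) :
    p ∈ (J • ⊤ : Submodule A (ι → N)) ↔ ∀ i, p i ∈ (J • ⊤ : Submodule A N) := by
  constructor
  · intro hp i
    have h : Submodule.map (LinearMap.proj i : (ι → N) →ₗ[A] N) (J • ⊤) ≤ J • ⊤ := by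
      rw [Submodule.map_smul'']
      exact Submodule.smul_mono le_rfl le_top
    exact h ⟨p, hp, rfl⟩
  · intro hp
    rw [← Finset.univ_sum_single p]
    refine Submodule.sum_mem _ fun i _ => ?_
    have h : Submodule.map (LinearMap.single A (fun _ : ι => N) i) (J • ⊤) ≤ J • ⊤ := by
      rw [Submodule.map_smul'']
      exact Submodule.smul_mono le_rfl le_top
    exact h ⟨p i, hp i, rfl⟩


/-- Let A be a Noetherian ring, I an ideal, and M, N finite A-modules; write N_n = N/IⁿN, so that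
Hom_A(M/IⁿM, N_n) = Hom_A(M, N_n). Then (1) the inverse system (Hom_A(M, N_n))_n, with transition
maps induced by the projections N_k → N_n, is Mittag-Leffler; (2) there is c ≥ 0 such that for all n
the kernel and the cokernel of Hom_A(M, N)/IⁿHom_A(M, N) → Hom_A(M, N_n) are annihilated by I^c. -/
theorem result (A : Type u) [CommRing A] [IsNoetherianRing A]
    (I : Ideal A) (M N : Type u) [AddCommGroup M] [Module A M] [Module.Finite A M] [AddCommGroup N] [Module A N]
    [Module.Finite A N] :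
    let Nq : ℕ → Submodule A N := fun n => I ^ n • ⊤
    let pr : ∀ n k : ℕ, n ≤ k → (N ⧸ Nq k) →ₗ[A] (N ⧸ Nq n) :=
      fun n k hnk => Submodule.mapQ (Nq k) (Nq n) (LinearMap.id : N →ₗ[A] N) (Submodule.smul_mono_left (Ideal.pow_le_pow_right hnk))
    let red : ∀ n : ℕ, (M →ₗ[A] N) → (M →ₗ[A] N ⧸ Nq n) := fun n φ => (Nq n).mkQ ∘ₗ φ
    (∀ n : ℕ, ∃ m : ℕ, n ≤ m ∧ ∀ (k : ℕ) (hmk : m ≤ k) (hnm : n ≤ m) (ψ : M →ₗ[A] N ⧸ Nq m),
        ∃ ψ' : M →ₗ[A] N ⧸ Nq k, pr n k (hnm.trans hmk) ∘ₗ ψ' = pr n m hnm ∘ₗ ψ) ∧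
    ∃ c : ℕ, ∀ n : ℕ,
      (∀ φ : M →ₗ[A] N, red n φ = 0 → ∀ a ∈ I ^ c, a • φ ∈ (I ^ n • ⊤ : Submodule A (M →ₗ[A] N))) ∧
      (∀ (ψ : M →ₗ[A] N ⧸ Nq n), ∀ a ∈ I ^ c, ∃ φ : M →ₗ[A] N, red n φ = a • ψ) := by
  intro Nq pr red
  classical
  obtain ⟨r, f, hf⟩ := Module.Finite.exists_fin' A M
  have hK : (LinearMap.ker f).FG := IsNoetherian.noetherian _
  obtain ⟨s, ρ, hρ⟩ := Submodule.fg_iff_exists_fin_generating_family.mp hK
  set m : Fin r → M := fun i => f (Pi.single i 1) with hm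
  let ev : (M →ₗ[A] N) →ₗ[A] (Fin r → N) := LinearMap.pi fun i => LinearMap.applyₗ (m i)
  let d : (Fin r → N) →ₗ[A] (Fin s → N) :=
    LinearMap.pi fun j => ∑ i, (ρ j i) • (LinearMap.proj i : (Fin r → N) →ₗ[A] N)
  have hd : ∀ (p : Fin r → N) (j : Fin s), d p j = ∑ i, ρ j i • p i := by
    intro p j
    simp [d, LinearMap.pi_apply, LinearMap.sum_apply]
  have hev : ∀ (φ : M →ₗ[A] N) (i : Fin r), ev φ i = φ (m i) := fun φ i => rfl
  -- F1: maps out of M are determined on the m i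
  have F1 : ∀ (P : Type u) [AddCommGroup P] [Module A P] (φ₁ φ₂ : M →ₗ[A] P),
      (∀ i, φ₁ (m i) = φ₂ (m i)) → φ₁ = φ₂ := by
    intro P _ _ φ₁ φ₂ h
    rw [← LinearMap.cancel_right hf]
    apply LinearMap.pi_ext'
    intro i
    apply LinearMap.ext_ring
    simpa using h i
  -- relations
  have hrel : ∀ j, ∑ i, ρ j i • m i = 0 := by
    intro j
    have h1 : ρ j = ∑ i, ρ j i • (Pi.single i 1 : Fin r → A) := by
      ext k
      simp [Finset.sum_apply, Pi.single_apply]
    have h2 : ρ j ∈ LinearMap.ker f := by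
      rw [← hρ]
      exact Submodule.subset_span ⟨j, rfl⟩
    have h3 : f (ρ j) = 0 := h2
    rw [h1, map_sum] at h3
    simpa [hm, map_smul] using h3
  have hrel' : ∀ (P : Type u) [AddCommGroup P] [Module A P] (ψ : M →ₗ[A] P) (j : Fin s),
      ∑ i, ρ j i • ψ (m i) = 0 := by
    intro P _ _ ψ j
    have := congrArg ψ (hrel j)
    rw [map_sum, map_zero] at this
    simpa [map_smul] using this
  -- F2: kernel of d consists of homs
  have F2 : ∀ p : Fin r → N, d p = 0 → ∃ φ : M →ₗ[A] N, ∀ i, φ (m i) = p i := by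
    intro p hp
    let g : (Fin r → A) →ₗ[A] N := Fintype.linearCombination A p
    have hg : ∀ j, g (ρ j) = 0 := by
      intro j
      have := congrFun hp j
      rw [hd] at this
      simpa [g, Fintype.linearCombination_apply] using this
    have hle : LinearMap.ker f ≤ LinearMap.ker g := by
      rw [← hρ, Submodule.span_le]
      rintro _ ⟨j, rfl⟩
      exact hg j
    refine ⟨(LinearMap.ker f).liftQ g hle ∘ₗ (f.quotKerEquivOfSurjective hf).symm.toLinearMap, ?_⟩
    intro i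
    have h1 : (f.quotKerEquivOfSurjective hf).symm (m i) =
        Submodule.Quotient.mk (Pi.single i 1) := by
      rw [LinearEquiv.symm_apply_eq, LinearMap.quotKerEquivOfSurjective_apply_mk]
    simp only [LinearMap.comp_apply, LinearEquiv.coe_coe, h1, Submodule.liftQ_apply]
    simp [g]
  have hev_inj : Function.Injective ev := by
    intro φ₁ φ₂ h
    exact F1 N φ₁ φ₂ fun i => congrFun h i
  obtain ⟨c₁, hc₁⟩ := Ideal.exists_pow_inf_eq_pow_smul I (LinearMap.range ev)
  obtain ⟨c₂, hc₂⟩ := Ideal.exists_pow_inf_eq_pow_smul I (LinearMap.range d)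
  -- the lifting lemma
  have hL : ∀ (n : ℕ) (ψ : M →ₗ[A] N ⧸ Nq (n + c₂)), ∃ φ : M →ₗ[A] N,
      red n φ = pr n (n + c₂) (Nat.le_add_right _ _) ∘ₗ ψ := by
    intro n ψ
    choose p hp using fun i => Submodule.mkQ_surjective (Nq (n + c₂)) (ψ (m i))
    have hdp : d p ∈ (I ^ (n + c₂) • ⊤ : Submodule A (Fin s → N)) := by
      rw [mem_smul_top_pi]
      intro j
      have h0 : (Nq (n + c₂)).mkQ (d p j) = 0 := by
        rw [hd, map_sum]
        simp only [map_smul, hp]
        exact hrel' _ ψ j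
      exact (Submodule.Quotient.mk_eq_zero _).mp h0
    have hmem : d p ∈ I ^ (n + c₂) • ⊤ ⊓ LinearMap.range d := ⟨hdp, LinearMap.mem_range_self d p⟩
    rw [hc₂ (n + c₂) (Nat.le_add_left _ _), Nat.add_sub_cancel] at hmem
    have hmem' : d p ∈ I ^ n • LinearMap.range d := Submodule.smul_mono le_rfl inf_le_right hmem
    rw [LinearMap.range_eq_map, ← Submodule.map_smul''] at hmem'
    obtain ⟨q, hq, hdq⟩ := hmem'
    have hker : d (p - q) = 0 := by rw [map_sub, hdq, sub_self]
    obtain ⟨φ, hφ⟩ := F2 (p - q) hker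
    refine ⟨φ, F1 _ _ _ fun i => ?_⟩
    show (Nq n).mkQ (φ (m i)) = pr n (n + c₂) (Nat.le_add_right _ _) (ψ (m i))
    rw [hφ, ← hp i]
    show (Nq n).mkQ (p i - q i) = (Nq n).mkQ (p i)
    rw [map_sub, sub_eq_self]
    exact (Submodule.Quotient.mk_eq_zero _).mpr ((mem_smul_top_pi _ _).mp hq i)
  refine ⟨?_, ?_⟩
  · intro n
    refine ⟨n + c₂, Nat.le_add_right _ _, fun k hmk hnm ψ => ?_⟩
    obtain ⟨φ, hφ⟩ := hL n ψ
    refine ⟨red k φ, ?_⟩
    rw [← hφ]
    ext x
    rfl
  · refine ⟨c₁ + c₂, fun n => ⟨?_, ?_⟩⟩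
    · intro φ hφ a ha
      have ha₁ : a ∈ I ^ c₁ := Ideal.pow_le_pow_right (Nat.le_add_right _ _) ha
      by_cases hn : c₁ ≤ n
      · have hevφ : ev φ ∈ (I ^ n • ⊤ : Submodule A (Fin r → N)) := by
          rw [mem_smul_top_pi]
          intro i
          have h0 : (Nq n).mkQ (φ (m i)) = 0 := LinearMap.congr_fun hφ (m i)
          exact (Submodule.Quotient.mk_eq_zero _).mp h0
        have h1 : ev φ ∈ I ^ n • ⊤ ⊓ LinearMap.range ev := ⟨hevφ, LinearMap.mem_range_self _ _⟩
        rw [hc₁ n hn] at h1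
        have h2 : ev φ ∈ I ^ (n - c₁) • LinearMap.range ev :=
          Submodule.smul_mono le_rfl inf_le_right h1
        have h3 : a • ev φ ∈ I ^ c₁ • (I ^ (n - c₁) • LinearMap.range ev) :=
          Submodule.smul_mem_smul ha₁ h2
        rw [← mul_smul, ← pow_add, Nat.add_sub_cancel' hn, LinearMap.range_eq_map,
          ← Submodule.map_smul'', ← map_smul] at h3
        obtain ⟨φ', hφ', he⟩ := h3
        have h4 : φ' = a • φ := hev_inj he
        rw [h4] at hφ'
        exact hφ'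
      · have h5 : a ∈ I ^ n := Ideal.pow_le_pow_right (by omega) ha₁
        exact Submodule.smul_mem_smul h5 Submodule.mem_top
    · intro ψ a ha
      have ha₂ : a ∈ I ^ c₂ := Ideal.pow_le_pow_right (Nat.le_add_left _ _) ha
      by_cases hn : c₂ ≤ n
      · obtain ⟨n', rfl⟩ : ∃ n', n = n' + c₂ := ⟨n - c₂, by omega⟩
        obtain ⟨φ, hφ⟩ := hL n' ψ
        refine ⟨a • φ, ?_⟩
        ext x
        obtain ⟨y, hy⟩ := Submodule.mkQ_surjective (Nq (n' + c₂)) (ψ x)
        have h1 : (Nq n').mkQ (φ x) = (Nq n').mkQ y := by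
          have h := LinearMap.congr_fun hφ x
          change (Nq n').mkQ (φ x) = pr n' (n' + c₂) (Nat.le_add_right _ _) (ψ x) at h
          rw [← hy] at h
          exact h
        have h2 : φ x - y ∈ Nq n' := by
          have := sub_eq_zero.mpr h1
          rw [← map_sub] at this
          exact (Submodule.Quotient.mk_eq_zero _).mp this
        have h3 : a • (φ x - y) ∈ Nq (n' + c₂) := by
          show _ ∈ I ^ (n' + c₂) • (⊤ : Submodule A N)
          rw [add_comm, pow_add, mul_smul]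
          exact Submodule.smul_mem_smul ha₂ h2
        show (Nq (n' + c₂)).mkQ (a • φ x) = a • ψ x
        rw [← hy, ← LinearMap.map_smul (Nq (n' + c₂)).mkQ a y, ← sub_eq_zero, ← map_sub, ← smul_sub]
        exact (Submodule.Quotient.mk_eq_zero _).mpr h3
      · refine ⟨0, ?_⟩
        ext x
        obtain ⟨y, hy⟩ := Submodule.mkQ_surjective (Nq n) (ψ x)
        show (Nq n).mkQ 0 = a • ψ x
        rw [map_zero, ← hy, ← LinearMap.map_smul (Nq n).mkQ a y]
        symm
        exact (Submodule.Quotient.mk_eq_zero _).mpr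
          (Submodule.smul_mem_smul (Ideal.pow_le_pow_right (by omega) ha₂) Submodule.mem_top)

end Groth.Agent.S7136
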