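import Groth.Statements.S7139
import Groth.Agent.Lib.Helper22.InertiaEtaleDimOne

set_option autoImplicit false
universe u
open EtAlg

namespace Groth.Agent.S7139

/-- A is a discrete valuation ring, K its field of fractions, and L/K is finite Galois with Galois group
G. Write B for the integral closure of A in L, equipped with the induced G-action, m a maximal ideal
of B and I ⊆ G its inertia group. Denote by B' the integral closure of A inside the fixed field L^I,
with a map to B compatible with L^I ⊆ L. Then the image of B' in B is the ring of invariants B^I,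
and A → B'_{m'} is étale, where m' = m ∩ B'. -/
theorem result (A K L B : Type u) [CommRing A] [IsDomain A]
    [IsDiscreteValuationRing A] [Field K] [Field L] [Algebra A K] [IsFractionRing A K] [Algebra K L]
    [Algebra A L] [IsScalarTower A K L] [FiniteDimensional K L] [IsGalois K L]
    [CommRing B] [Algebra A B] [Algebra B L] [IsScalarTower A B L] [IsIntegralClosure B A L]
    [MulSemiringAction (L ≃ₐ[K] L) B]
    (hact : ∀ (σ : L ≃ₐ[K] L) (b : B), algebraMap B L (σ • b) = σ (algebraMap B L b))
    (m : Ideal B) [m.IsMaximal]
    (B' : Type u) [CommRing B'] [Algebra A B'] [Algebra B' B] [IsScalarTower A B' B] [Algebra B' L]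
    [IsScalarTower B' B L]
    [Algebra B' (IntermediateField.fixedField (m.inertia (L ≃ₐ[K] L)))]
    [IsScalarTower B' (IntermediateField.fixedField (m.inertia (L ≃ₐ[K] L))) L]
    [IsIntegralClosure B' A (IntermediateField.fixedField (m.inertia (L ≃ₐ[K] L)))] :
    (∀ b : B, (∀ σ ∈ m.inertia (L ≃ₐ[K] L), σ • b = b) ↔ b ∈ Set.range (algebraMap B' B)) ∧
      Algebra.Etale A (Localization.AtPrime (m.comap (algebraMap B' B))) := by
  classical
  have hBL : Function.Injective (algebraMap B L) := IsIntegralClosure.algebraMap_injective B A L
  haveI : IsDomain B := hBL.isDomain _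
  have hAL : Function.Injective (algebraMap A L) := by
    rw [IsScalarTower.algebraMap_eq A K L]
    exact (algebraMap K L).injective.comp (IsFractionRing.injective A K)
  have hAinj : Function.Injective (algebraMap A B) := by
    have : Function.Injective ((algebraMap B L).comp (algebraMap A B)) := by
      rw [← IsScalarTower.algebraMap_eq A B L]; exact hAL
    exact Function.Injective.of_comp this
  have hB'F : Function.Injective (algebraMap B' (IntermediateField.fixedField (m.inertia (L ≃ₐ[K] L)))) := IsIntegralClosure.algebraMap_injective B' A (IntermediateField.fixedField (m.inertia (L ≃ₐ[K] L)))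
  have hB'L : Function.Injective (algebraMap B' L) := by
    rw [IsScalarTower.algebraMap_eq B' (IntermediateField.fixedField (m.inertia (L ≃ₐ[K] L))) L]
    exact (algebraMap (IntermediateField.fixedField (m.inertia (L ≃ₐ[K] L))) L).injective.comp hB'F
  have hB'inj : Function.Injective (algebraMap B' B) := by
    have : Function.Injective ((algebraMap B L).comp (algebraMap B' B)) := by
      rw [← IsScalarTower.algebraMap_eq B' B L]; exact hB'L
    exact Function.Injective.of_comp this
  haveI : IsScalarTower A (IntermediateField.fixedField (m.inertia (L ≃ₐ[K] L))) L :=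
    IsScalarTower.of_algebraMap_eq (fun x => rfl)
  have hint : ∀ z : B, IsIntegral A (algebraMap B L z) := fun z =>
    (IsIntegralClosure.isIntegral_iff (A := B) (R := A) (B := L)).mpr ⟨z, rfl⟩
  have hA : ∀ z : B, (∀ σ : L ≃ₐ[K] L, σ • z = z) ↔ z ∈ Set.range (algebraMap A B) := by
    intro z
    constructor
    · intro hz
      have h1 : algebraMap B L z ∈ Set.range (algebraMap K L) := by
        rw [IsGalois.mem_range_algebraMap_iff_fixed]
        intro σ
        rw [← hact, hz]
      obtain ⟨k, hk⟩ := h1
      have h2 : IsIntegral A k := by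
        rw [← isIntegral_algebraMap_iff (algebraMap K L).injective, hk]
        exact hint z
      obtain ⟨a, rfl⟩ := IsIntegrallyClosed.isIntegral_iff.mp h2
      refine ⟨a, hBL ?_⟩
      rw [← hk, ← IsScalarTower.algebraMap_apply, ← IsScalarTower.algebraMap_apply]
    · rintro ⟨a, rfl⟩ σ
      apply hBL
      rw [hact, ← IsScalarTower.algebraMap_apply, IsScalarTower.algebraMap_apply A K L,
        AlgEquiv.commutes]
  have hB' : ∀ z : B, (∀ σ ∈ m.inertia (L ≃ₐ[K] L), σ • z = z) ↔
      z ∈ Set.range (algebraMap B' B) := by
    intro z
    constructor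
    · intro hz
      have h1 : algebraMap B L z ∈ (IntermediateField.fixedField (m.inertia (L ≃ₐ[K] L))) := by
        rw [IntermediateField.mem_fixedField_iff]
        intro σ hσ
        rw [← hact, hz σ hσ]
      have h2 : IsIntegral A (⟨algebraMap B L z, h1⟩ : (IntermediateField.fixedField (m.inertia (L ≃ₐ[K] L)))) := by
        rw [← isIntegral_algebraMap_iff (algebraMap (IntermediateField.fixedField (m.inertia (L ≃ₐ[K] L))) L).injective]
        exact hint z
      obtain ⟨b', hb'⟩ := (IsIntegralClosure.isIntegral_iff (A := B') (R := A) (B := (IntermediateField.fixedField (m.inertia (L ≃ₐ[K] L))))).mp h2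
      refine ⟨b', hBL ?_⟩
      rw [← IsScalarTower.algebraMap_apply, IsScalarTower.algebraMap_apply B' (IntermediateField.fixedField (m.inertia (L ≃ₐ[K] L))) L, hb']
      rfl
    · rintro ⟨b', rfl⟩ σ hσ
      apply hBL
      rw [hact, ← IsScalarTower.algebraMap_apply, IsScalarTower.algebraMap_apply B' (IntermediateField.fixedField (m.inertia (L ≃ₐ[K] L))) L]
      have := (algebraMap B' (IntermediateField.fixedField (m.inertia (L ≃ₐ[K] L))) b').2
      rw [IntermediateField.mem_fixedField_iff] at this
      exact this σ hσ
  refine ⟨hB', ?_⟩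
  apply Groth.Agent.Lib.helper22.InertiaEtaleDimOne.etale_atPrime_inertia_invariants
    (G := L ≃ₐ[K] L) ?_ hAinj hB'inj hA m hB'
  intro p hp
  by_cases hp0 : p = ⊥
  · exact Or.inl hp0
  · exact Or.inr (IsLocalRing.eq_maximalIdeal (hp.isMaximal hp0))

end Groth.Agent.S7139
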