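import Groth.Statements.S7140
import Mathlib


set_option autoImplicit false
universe u
open EtAlg

namespace Groth.Agent.S7140

set_option linter.style.haveILetI false

open Polynomial

/-- `p = (1 - ζ)^(p-1) * u` with `u ≡ -1` modulo `1 - ζ`, for a primitive `p`-th root of unity
in a domain. -/
theorem exists_unit_factor {D : Type*} [CommRing D] [IsDomain D] (p : ℕ) (hp : p.Prime) (ζ : D)
    (hprim : IsPrimitiveRoot ζ p) :
    ∃ u : D, (p : D) = (1 - ζ) ^ (p - 1) * u ∧ u + 1 ∈ Ideal.span {1 - ζ} := by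
  have hp1 : p - 1 + 1 = p := Nat.sub_add_cancel hp.one_le
  have hprim' : IsPrimitiveRoot ζ (p - 1 + 1) := by rw [hp1]; exact hprim
  have hprod := hprim'.prod_one_sub_pow_eq_order
  let u : D := ∏ k ∈ Finset.range (p - 1), ∑ i ∈ Finset.range (k + 1), ζ ^ i
  have hpu : (p : D) = (1 - ζ) ^ (p - 1) * u := by
    have h1 : ∏ k ∈ Finset.range (p - 1), (1 - ζ ^ (k + 1)) =
        ∏ k ∈ Finset.range (p - 1), ((1 - ζ) * ∑ i ∈ Finset.range (k + 1), ζ ^ i) :=
      Finset.prod_congr rfl fun k _ => (mul_neg_geom_sum ζ (k + 1)).symm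
    rw [h1, Finset.prod_mul_distrib, Finset.prod_const, Finset.card_range] at hprod
    rw [hprod]
    have : ((p - 1 : ℕ) : D) + 1 = ((p - 1 + 1 : ℕ) : D) := by push_cast; ring
    rw [this, hp1]
  refine ⟨u, hpu, ?_⟩
  -- congruence modulo `1 - ζ`
  let I : Ideal D := Ideal.span {1 - ζ}
  have hζ1 : Ideal.Quotient.mk I ζ = 1 := by
    have h1 : Ideal.Quotient.mk I (1 - ζ) = 0 :=
      Ideal.Quotient.eq_zero_iff_mem.mpr (Ideal.subset_span rfl)
    rw [map_sub, map_one, sub_eq_zero] at h1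
    exact h1.symm
  have hu : Ideal.Quotient.mk I u = (((p - 1).factorial : ℕ) : D ⧸ I) := by
    simp only [u, map_prod, map_sum, map_pow, hζ1, one_pow, Finset.sum_const, Finset.card_range,
      nsmul_eq_mul, mul_one]
    rw [← Finset.prod_range_add_one_eq_factorial]
    push_cast
    rfl
  have hpI : ((p : ℕ) : D ⧸ I) = 0 := by
    have h1 : (p : D) ∈ I := by
      rw [hpu]
      have h2 : (1 - ζ) ^ (p - 1) = (1 - ζ) * (1 - ζ) ^ (p - 2) := by
        rw [← pow_succ']
        congr 1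
        have := hp.two_le
        omega
      rw [h2, mul_assoc]
      exact Ideal.mul_mem_right _ _ (Ideal.subset_span rfl)
    have h3 := Ideal.Quotient.eq_zero_iff_mem.mpr h1
    rwa [map_natCast] at h3
  -- Wilson
  have hw : ((p : ℕ) : ℤ) ∣ ((p - 1).factorial : ℤ) + 1 := by
    haveI : Fact p.Prime := ⟨hp⟩
    have h1 : (((p - 1).factorial : ℤ) + 1 : ZMod p) = 0 := by
      have := ZMod.wilsons_lemma (p := p)
      push_cast
      rw [this]
      ring
    have h2 : ((((p - 1).factorial : ℤ) + 1 : ℤ) : ZMod p) = 0 := by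
      push_cast
      exact_mod_cast h1
    exact (ZMod.intCast_zmod_eq_zero_iff_dvd _ _).mp h2
  obtain ⟨m, hm⟩ := hw
  rw [← Ideal.Quotient.eq_zero_iff_mem, map_add, map_one, hu]
  have h4 : ((((p - 1).factorial : ℤ) + 1 : ℤ) : D ⧸ I) = 0 := by
    rw [hm]
    push_cast
    rw [hpI, zero_mul]
  push_cast at h4
  exact h4

/-- the polynomial `((1 + w X)^p - 1) / w^p` -/
theorem exists_poly {D : Type*} [CommRing D] (p : ℕ) (hp : p.Prime) (w u : D)
    (hpu : (p : D) = w ^ (p - 1) * u) (hu : u + 1 ∈ Ideal.span {w}) :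
    ∃ P : D[X], C (w ^ p) * P = (1 + C w * X) ^ p - 1 ∧
      (∃ a : ℕ → D, (∀ i, a i ∈ Ideal.span {w}) ∧
        P = X ^ p - X + (Finset.Ioo 0 p).sum (fun i => C (a i) * X ^ i)) := by
  classical
  let c : ℕ → ℕ := fun j => p.choose j / p
  have hc : ∀ j ∈ Finset.Ioo 0 p, p.choose j = p * c j := by
    intro j hj
    rw [Finset.mem_Ioo] at hj
    exact (Nat.mul_div_cancel' (hp.dvd_choose_self hj.1.ne' hj.2)).symm
  have hc1 : c 1 = 1 := by
    change p.choose 1 / p = 1
    rw [Nat.choose_one_right, Nat.div_self hp.pos]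
  let b : ℕ → D := fun j => u * (c j : D) * w ^ (j - 1)
  let P : D[X] := X ^ p + (Finset.Ioo 0 p).sum (fun j => C (b j) * X ^ j)
  refine ⟨P, ?_, ?_⟩
  · -- the defining equation
    have h1 : (1 + C w * X) ^ p = (C w * X + 1) ^ p := by rw [add_comm]
    rw [h1, add_pow, Finset.sum_range_succ, Finset.range_eq_Ico,
      Finset.sum_eq_sum_Ico_succ_bot hp.pos, Finset.Ico_add_one_left_eq_Ioo]
    simp only [one_pow, mul_one, pow_zero, Nat.choose_zero_right, Nat.cast_one, Nat.sub_self,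
      Nat.choose_self]
    have hmid : ∀ j ∈ Finset.Ioo 0 p, (C w * X) ^ j * ((p.choose j : ℕ) : D[X]) =
        C (w ^ p) * (C (b j) * X ^ j) := by
      intro j hj
      have hj' := Finset.mem_Ioo.mp hj
      rw [hc j hj, mul_pow, ← C_pow]
      have h2 : ((p * c j : ℕ) : D[X]) = C ((p : D) * (c j : D)) := by
        rw [Nat.cast_mul, C_mul]
        simp
      rw [h2, hpu]
      have hw : w ^ j * w ^ (p - 1) = w ^ p * w ^ (j - 1) := by
        rw [← pow_add, ← pow_add]
        congr 1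
        omega
      calc C (w ^ j) * X ^ j * C (w ^ (p - 1) * u * (c j : D))
          = C (w ^ j * w ^ (p - 1) * (u * (c j : D))) * X ^ j := by simp only [C_mul]; ring
        _ = C (w ^ p * w ^ (j - 1) * (u * (c j : D))) * X ^ j := by rw [hw]
        _ = C (w ^ p) * (C (u * (c j : D) * w ^ (j - 1)) * X ^ j) := by
            simp only [C_mul]; ring
    rw [Finset.sum_congr rfl hmid]
    change C (w ^ p) * (X ^ p + (Finset.Ioo 0 p).sum (fun j => C (b j) * X ^ j)) = _
    rw [mul_add, Finset.mul_sum, mul_pow, ← C_pow]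
    ring
  · -- the shape
    let a : ℕ → D := fun i => if i = 1 then u + 1 else w * (u * (c i : D) * w ^ (i - 2))
    refine ⟨a, ?_, ?_⟩
    · intro i
      by_cases hi : i = 1
      · simp only [a, if_pos hi]; exact hu
      · simp only [a, if_neg hi]
        exact Ideal.mul_mem_right _ _ (Ideal.subset_span rfl)
    · have hterm : ∀ i ∈ Finset.Ioo 0 p, C (a i) * X ^ i =
          C (b i) * X ^ i + (if i = 1 then (X : D[X]) else 0) := by
        intro i hi
        have hi' := Finset.mem_Ioo.mp hi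
        by_cases h1 : i = 1
        · subst h1
          simp only [a, b, if_pos rfl, hc1, Nat.cast_one, mul_one, Nat.sub_self, pow_zero, pow_one,
            C_add, C_1, if_true]
          ring
        · simp only [a, b, if_neg h1, add_zero]
          congr 2
          have h2 : i - 1 = (i - 2) + 1 := by omega
          rw [h2, pow_succ]
          ring
      rw [Finset.sum_congr rfl hterm, Finset.sum_add_distrib, Finset.sum_ite_eq',
        if_pos (Finset.mem_Ioo.mpr ⟨Nat.one_pos, hp.one_lt⟩)]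
      change X ^ p + (Finset.Ioo 0 p).sum (fun j => C (b j) * X ^ j) = _
      ring

/-- the functional equation, by reduction to the universal (domain) case -/
theorem funeq {D : Type*} [CommRing D] [IsDomain D] (p : ℕ) (w : D) (hw : w ≠ 0) (P : D[X])
    (hP : C (w ^ p) * P = (1 + C w * X) ^ p - 1)
    {S : Type*} [CommRing S] (f : D →+* S) (z₁ z₂ : S) :
    P.eval₂ f (z₁ + z₂ + f w * z₁ * z₂) =
      P.eval₂ f z₁ + P.eval₂ f z₂ + f (w ^ p) * P.eval₂ f z₁ * P.eval₂ f z₂ := by
  let U := MvPolynomial (Fin 2) D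
  let cU : D →+* U := MvPolynomial.C
  have key : ∀ t : U, cU (w ^ p) * P.eval₂ cU t = (1 + cU w * t) ^ p - 1 := by
    intro t
    have h1 := congrArg (Polynomial.eval₂ cU t) hP
    rw [Polynomial.eval₂_mul, Polynomial.eval₂_C, Polynomial.eval₂_sub, Polynomial.eval₂_pow,
      Polynomial.eval₂_add, Polynomial.eval₂_mul, Polynomial.eval₂_C, Polynomial.eval₂_X,
      Polynomial.eval₂_one] at h1
    exact h1
  let x0 : U := MvPolynomial.X 0
  let x1 : U := MvPolynomial.X 1
  have hU : P.eval₂ cU (x0 + x1 + cU w * x0 * x1) =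
      P.eval₂ cU x0 + P.eval₂ cU x1 + cU (w ^ p) * P.eval₂ cU x0 * P.eval₂ cU x1 := by
    have hne : cU (w ^ p) ≠ 0 := by
      intro h0
      exact pow_ne_zero p hw ((MvPolynomial.C_eq_zero).mp h0)
    apply mul_left_cancel₀ hne
    rw [key]
    have h2 : cU (w ^ p) * (P.eval₂ cU x0 + P.eval₂ cU x1 +
        cU (w ^ p) * P.eval₂ cU x0 * P.eval₂ cU x1) =
        cU (w ^ p) * P.eval₂ cU x0 + cU (w ^ p) * P.eval₂ cU x1 +
          (cU (w ^ p) * P.eval₂ cU x0) * (cU (w ^ p) * P.eval₂ cU x1) := by ring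
    rw [h2, key x0, key x1]
    have hb : 1 + cU w * (x0 + x1 + cU w * x0 * x1) = (1 + cU w * x0) * (1 + cU w * x1) := by
      ring
    rw [hb, mul_pow]
    ring
  let Ψ : U →+* S := MvPolynomial.eval₂Hom f ![z₁, z₂]
  have hΨC : Ψ.comp cU = f := by
    ext a
    exact MvPolynomial.eval₂Hom_C f _ a
  have hE : ∀ t : U, Ψ (P.eval₂ cU t) = P.eval₂ f (Ψ t) := by
    intro t
    rw [Polynomial.hom_eval₂, hΨC]
  have hΨc : ∀ a : D, Ψ (cU a) = f a := fun a => by
    rw [← hΨC]; rfl
  have h0 : Ψ x0 = z₁ := MvPolynomial.eval₂Hom_X' f _ 0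
  have h1 : Ψ x1 = z₂ := MvPolynomial.eval₂Hom_X' f _ 1
  have h3 := congrArg Ψ hU
  simp only [map_add, map_mul, hE, hΨc, h0, h1] at h3
  exact h3

theorem main (p : ℕ) (hp : p.Prime) (A : Type u) [CommRing A] (ζ : A)
    (hζ : aeval ζ (cyclotomic p ℤ) = 0) :
    ∃ P : A[X], C ((1 - ζ) ^ p) * P = (1 + C (1 - ζ) * X) ^ p - 1 ∧
      (∃ a : ℕ → A, (∀ i, a i ∈ Ideal.span {1 - ζ}) ∧
        P = X ^ p - X + (Finset.Ioo 0 p).sum (fun i => C (a i) * X ^ i)) ∧
      ∀ (S : Type u) [CommRing S] [Algebra A S] (z₁ z₂ : S),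
        aeval (z₁ + z₂ + algebraMap A S (1 - ζ) * z₁ * z₂) P =
          aeval z₁ P + aeval z₂ P + algebraMap A S ((1 - ζ) ^ p) * aeval z₁ P * aeval z₂ P := by
  haveI : Fact p.Prime := ⟨hp⟩
  let Φ := cyclotomic p ℤ
  let A0 := AdjoinRoot Φ
  have hirr : Irreducible Φ := cyclotomic.irreducible hp.pos
  haveI : IsDomain A0 := AdjoinRoot.isDomain_of_prime hirr.prime
  let ζ0 : A0 := AdjoinRoot.root Φ
  have hdeg : Φ.degree ≠ 0 := by
    rw [degree_cyclotomic, Nat.totient_prime hp]
    have := hp.two_le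
    intro h0
    have h1 : (p - 1 : ℕ) = 0 := by exact_mod_cast h0
    omega
  have hinj : Function.Injective (AdjoinRoot.of Φ) :=
    AdjoinRoot.of.injective_of_degree_ne_zero hdeg
  have hp0 : (p : A0) ≠ 0 := by
    intro h0
    have h1 : AdjoinRoot.of Φ (p : ℤ) = AdjoinRoot.of Φ 0 := by
      rw [map_natCast, map_zero]; exact h0
    have h2 := hinj h1
    exact hp.ne_zero (by exact_mod_cast h2)
  haveI : NeZero (p : A0) := ⟨hp0⟩
  have hroot : IsRoot (cyclotomic p A0) ζ0 := by
    rw [IsRoot.def, ← map_cyclotomic_int, eval_map]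
    have h1 : (Int.castRingHom A0) = AdjoinRoot.of Φ := RingHom.ext_int _ _
    rw [h1]
    exact AdjoinRoot.eval₂_root Φ
  have hprim : IsPrimitiveRoot ζ0 p := (isRoot_cyclotomic_iff).mp hroot
  obtain ⟨u, hpu, hu⟩ := exists_unit_factor p hp ζ0 hprim
  obtain ⟨P0, hP0, a0, ha0, hshape⟩ := exists_poly p hp (1 - ζ0) u hpu hu
  have hw0 : (1 - ζ0 : A0) ≠ 0 := by
    intro h0
    apply hp0
    rw [hpu, h0, zero_pow (by have := hp.two_le; omega), zero_mul]
  have hζ' : Φ.eval₂ (Int.castRingHom A) ζ = 0 := by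
    rw [← hζ]
    rfl
  let φ : A0 →+* A := AdjoinRoot.lift (Int.castRingHom A) ζ hζ'
  have hφζ : φ ζ0 = ζ := AdjoinRoot.lift_root hζ'
  have hφw : φ (1 - ζ0) = 1 - ζ := by rw [map_sub, map_one, hφζ]
  refine ⟨P0.map φ, ?_, ⟨fun i => φ (a0 i), ?_, ?_⟩, ?_⟩
  · have h1 := congrArg (Polynomial.map φ) hP0
    simp only [Polynomial.map_mul, Polynomial.map_pow, Polynomial.map_sub, Polynomial.map_add,
      Polynomial.map_one, Polynomial.map_C, Polynomial.map_X, map_pow, hφw] at h1
    rw [C_pow]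
    exact h1
  · intro i
    obtain ⟨y, hy⟩ := Ideal.mem_span_singleton.mp (ha0 i)
    change φ (a0 i) ∈ _
    rw [hy, map_mul, hφw]
    exact Ideal.mul_mem_right _ _ (Ideal.subset_span rfl)
  · rw [hshape]
    simp only [Polynomial.map_add, Polynomial.map_sub, Polynomial.map_pow, Polynomial.map_X,
      Polynomial.map_sum, Polynomial.map_mul, Polynomial.map_C]
  · intro S _ _ z₁ z₂
    have h1 := funeq p (1 - ζ0) hw0 P0 hP0 ((algebraMap A S).comp φ) z₁ z₂
    simp only [aeval_def, eval₂_map]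
    simp only [RingHom.comp_apply, map_pow, hφw] at h1
    rw [map_pow]
    exact h1



open Polynomial in
/-- Let p be a prime and A a ring with an element ζ satisfying 1 + ζ + ... + ζ^(p-1) = 0 (so that A is
an algebra over the ring of integers of the p-th cyclotomic field); set w = 1 - ζ. Then the
polynomial ((1 + wz)^p - 1)/w^p makes sense in A[z]: there is P in A[z] with w^p·P = (1 + wz)^p - 1,
of the form z^p - z + Σ_{0<i<p} a_i z^i with all a_i in the ideal (w), and P(z₁ + z₂ + w z₁ z₂) =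
P(z₁) + P(z₂) + w^p P(z₁)P(z₂) for all z₁, z₂ in any A-algebra. (The published statement asks only
for a primitive p-th root of unity; this row asks that ζ be a root of the p-th cyclotomic
polynomial, the case its proof treats. With ζ only of multiplicative order p the published statement
fails, for example for ζ = (1, e^{2πi/p}) in ℂ × ℂ.) -/
theorem result (p : ℕ) (hp : p.Prime) (A : Type u) [CommRing A] (ζ : A)
    (hζ : aeval ζ (cyclotomic p ℤ) = 0) :
    ∃ P : A[X], C ((1 - ζ) ^ p) * P = (1 + C (1 - ζ) * X) ^ p - 1 ∧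
      (∃ a : ℕ → A, (∀ i, a i ∈ Ideal.span {1 - ζ}) ∧
        P = X ^ p - X + (Finset.Ioo 0 p).sum (fun i => C (a i) * X ^ i)) ∧
      ∀ (S : Type u) [CommRing S] [Algebra A S] (z₁ z₂ : S),
        aeval (z₁ + z₂ + algebraMap A S (1 - ζ) * z₁ * z₂) P =
          aeval z₁ P + aeval z₂ P + algebraMap A S ((1 - ζ) ^ p) * aeval z₁ P * aeval z₂ P := by
  exact main p hp A ζ hζ

end Groth.Agent.S7140
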