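import Groth.Statements.S7141
import Mathlib
import Groth.Agent.Lib.Helper3.WEtale5

set_option autoImplicit false
universe u
open EtAlg

namespace Groth.Agent.S7141

/-- Let K be a field and, for a K-algebra A, let B_max(A) be its largest weakly étale K-subalgebra. (2)
For a K-subalgebra A' ⊆ A one has B_max(A') = B_max(A) ∩ A'. (4) The quotient map A → A_red =
A/nilradical restricts to a bijection B_max(A) → B_max(A_red). (6) If A ≠ 0 and its only idempotents
are 0 and 1, then B_max(A) is a field, algebraic and separable over K. (The published statement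
omits A ≠ 0; this row assumes it, since for A = 0 the largest weakly étale subalgebra is the zero
ring.) -/
theorem result (K : Type u) [Field K] (A : Type u) [CommRing A] [Algebra K A] :
    (∀ A' : Subalgebra K A,
      (EtAlgD.maxWeaklyEtale K A').map A'.val = EtAlgD.maxWeaklyEtale K A ⊓ A') ∧
    (Set.BijOn (Ideal.Quotient.mkₐ K (nilradical A)) (EtAlgD.maxWeaklyEtale K A)
      (EtAlgD.maxWeaklyEtale K (A ⧸ nilradical A))) ∧
    ((∀ e : A, IsIdempotentElem e → e = 0 ∨ e = 1) → Nontrivial A →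
      IsField (EtAlgD.maxWeaklyEtale K A) ∧ Algebra.IsSeparable K (EtAlgD.maxWeaklyEtale K A)) := by
  haveI hA : Algebra.WeaklyEtale K (EtAlgD.maxWeaklyEtale K A) :=
    Groth.Agent.Lib.helper3.WEtale4.weaklyEtale_sSup
  refine ⟨?_, ?_, ?_⟩
  · intro A'
    haveI hA' : Algebra.WeaklyEtale K (EtAlgD.maxWeaklyEtale K A') :=
      Groth.Agent.Lib.helper3.WEtale4.weaklyEtale_sSup
    apply le_antisymm
    · apply le_inf
      · haveI := Groth.Agent.Lib.helper3.WEtale5.weaklyEtale_map A'.val
          (EtAlgD.maxWeaklyEtale K A')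
        exact Groth.Agent.Lib.helper3.WEtale4.le_sSup_of_weaklyEtale _
      · rintro _ ⟨x, -, rfl⟩
        exact x.2
    · haveI h1 : Algebra.WeaklyEtale K ↥(EtAlgD.maxWeaklyEtale K A ⊓ A') :=
        Groth.Agent.Lib.helper3.WEtale5.weaklyEtale_of_le
          (inf_le_left : EtAlgD.maxWeaklyEtale K A ⊓ A' ≤ EtAlgD.maxWeaklyEtale K A)
      haveI h2 : Algebra.WeaklyEtale K ((EtAlgD.maxWeaklyEtale K A ⊓ A').comap A'.val) :=
        Groth.Agent.Lib.helper3.WEtale5.weaklyEtale_comap_val A' _ inf_le_right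
      have h3 : (EtAlgD.maxWeaklyEtale K A ⊓ A').comap A'.val ≤ EtAlgD.maxWeaklyEtale K A' :=
        Groth.Agent.Lib.helper3.WEtale4.le_sSup_of_weaklyEtale _
      intro x hx
      exact ⟨⟨x, hx.2⟩, h3 hx, rfl⟩
  · refine ⟨?_, ?_, ?_⟩
    · intro x hx
      haveI := Groth.Agent.Lib.helper3.WEtale5.weaklyEtale_map
        (Ideal.Quotient.mkₐ K (nilradical A)) (EtAlgD.maxWeaklyEtale K A)
      exact Groth.Agent.Lib.helper3.WEtale4.le_sSup_of_weaklyEtale
        ((EtAlgD.maxWeaklyEtale K A).map (Ideal.Quotient.mkₐ K (nilradical A))) ⟨x, hx, rfl⟩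
    · intro x hx y hy hxy
      haveI := Groth.Agent.Lib.helper3.WEtale3.isReduced (k := K)
        (B := EtAlgD.maxWeaklyEtale K A)
      have h1 : x - y ∈ nilradical A := by
        rw [← Ideal.Quotient.mk_eq_mk_iff_sub_mem]
        exact hxy
      obtain ⟨n, hn⟩ := h1
      have h2 : IsNilpotent ((⟨x, hx⟩ - ⟨y, hy⟩ : EtAlgD.maxWeaklyEtale K A)) :=
        ⟨n, Subtype.ext hn⟩
      have h3 := h2.eq_zero
      have h4 := congrArg Subtype.val h3
      exact sub_eq_zero.mp h4
    · intro c hc
      obtain ⟨r, hr, hrc⟩ := Groth.Agent.Lib.helper3.WEtale5.exists_lift (K := K) c hc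
      exact ⟨r, hr, hrc⟩
  · intro hidem hnt
    haveI : Nontrivial (EtAlgD.maxWeaklyEtale K A) :=
      ⟨0, 1, fun h => zero_ne_one (congrArg Subtype.val h)⟩
    have hF : IsField (EtAlgD.maxWeaklyEtale K A) := by
      apply Groth.Agent.Lib.helper3.WEtale5.isField_of_idempotents (K := K)
      intro e he
      rcases hidem e.1 (congrArg Subtype.val he) with h0 | h1
      · exact Or.inl (Subtype.ext h0)
      · exact Or.inr (Subtype.ext h1)
    refine ⟨hF, ?_⟩
    letI : Field (EtAlgD.maxWeaklyEtale K A) := hF.toField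
    exact Groth.Agent.S0426.result (K := K) (L := EtAlgD.maxWeaklyEtale K A)

end Groth.Agent.S7141
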