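import Groth.Statements.S7145
import Mathlib

set_option autoImplicit false
universe u
open CategoryTheory CategoryTheory.Limits
open CAlg

namespace Groth.Agent.S7145

section comb
variable {R : Type u} [CommRing R] (F : CochainComplex (ModuleCat.{u} R) ℤ)
  (ι : ℤ → Type u) (β : ∀ n : ℤ, Module.Basis (ι n) R (F.X n))

/-- the span of a finite subset of the basis -/
def Gs (T : ∀ n : ℤ, Finset (ι n)) (n : ℤ) : Submodule R (F.X n) :=
  Submodule.span R ((β n) '' (T n : Set (ι n)))

theorem comb (b : ℤ) (hb : ∀ n : ℤ, b < n → IsZero (F.X n)) :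
    ∀ (m : ℕ) (S : ∀ n : ℤ, Finset (F.X n)) (_ : ∀ n, n < b - m → S n = ∅),
      ∃ T : ∀ n : ℤ, Finset (ι n), (∀ n, n < b - m → T n = ∅) ∧
        (∀ n, ∀ s ∈ S n, s ∈ Gs F ι β T n) ∧
        (∀ n, ∀ t ∈ T n, (F.d n (n + 1)).hom (β n t) ∈ Gs F ι β T (n + 1)) := by
  classical
  intro m
  induction m with
  | zero =>
    intro S hS
    refine ⟨fun n => if n < b then ∅ else (S n).biUnion (fun s => ((β n).repr s).support),
      ?_, ?_, ?_⟩
    · intro n hn
      have : n < b := by simpa using hn
      simp [this]
    · intro n s hs
      by_cases hn : n < b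
      · rw [hS n (by simpa using hn)] at hs
        simp at hs
      · unfold Gs
        rw [Module.Basis.mem_span_image]
        simp only [hn, if_false]
        intro t ht
        simp only [Finset.coe_biUnion, Set.mem_iUnion]
        exact ⟨s, hs, ht⟩
    · intro n t ht
      by_cases hn : n < b
      · simp [hn] at ht
      · have hz : IsZero (F.X (n + 1)) := hb (n + 1) (by omega)
        have : (F.d n (n + 1)).hom (β n t) = 0 :=
          (ModuleCat.isZero_iff_subsingleton.mp hz).elim _ _
        rw [this]
        exact zero_mem _
  | succ m ih =>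
    intro S hS
    set a : ℤ := b - ((m + 1 : ℕ) : ℤ) with ha
    have hab : a + 1 = b - (m : ℤ) := by rw [ha]; push_cast; ring
    let Ta : Finset (ι a) := (S a).biUnion (fun s => ((β a).repr s).support)
    let S' : ∀ n : ℤ, Finset (F.X n) :=
      Function.update (Function.update S a ∅) (a + 1)
        (S (a + 1) ∪ Ta.image (fun t => (F.d a (a + 1)).hom (β a t)))
    have haa : a ≠ a + 1 := by omega
    have hS'ne : ∀ n, n ≠ a → n ≠ a + 1 → S' n = S n := by
      intro n h1 h2
      simp only [S']
      rw [Function.update_of_ne h2, Function.update_of_ne h1]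
    have hS'a : S' a = ∅ := by
      simp only [S']
      rw [Function.update_of_ne haa, Function.update_self]
    have hS'a1 : S' (a + 1) = S (a + 1) ∪ Ta.image (fun t => (F.d a (a + 1)).hom (β a t)) := by
      simp only [S']
      rw [Function.update_self]
    have hS' : ∀ n, n < b - (m : ℤ) → S' n = ∅ := by
      intro n hn
      rw [← hab] at hn
      rcases eq_or_ne n a with rfl | hna
      · exact hS'a
      · rw [hS'ne n hna (by omega)]
        exact hS n (by omega)
    obtain ⟨T', hT'0, hT'S, hT'd⟩ := ih S' hS'
    have hT'a : T' a = ∅ := hT'0 a (by omega)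
    refine ⟨Function.update T' a Ta, ?_, ?_, ?_⟩
    · intro n hn
      have hna : n ≠ a := by omega
      rw [Function.update_of_ne hna]
      exact hT'0 n (by omega)
    · intro n s hs
      rcases eq_or_ne n a with rfl | hna
      · unfold Gs
        rw [Function.update_self, Module.Basis.mem_span_image]
        intro t ht
        simp only [Ta, Finset.coe_biUnion, Set.mem_iUnion]
        exact ⟨s, hs, ht⟩
      · have h1 : s ∈ S' n := by
          rcases eq_or_ne n (a + 1) with rfl | hna1
          · rw [hS'a1]; exact Finset.mem_union_left _ hs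
          · rw [hS'ne n hna hna1]; exact hs
        have h2 := hT'S n s h1
        unfold Gs at h2 ⊢
        rw [Function.update_of_ne hna]
        exact h2
    · intro n t ht
      rcases eq_or_ne n a with rfl | hna
      · rw [Function.update_self] at ht
        have h1 : (F.d a (a + 1)).hom (β a t) ∈ S' (a + 1) := by
          rw [hS'a1]
          exact Finset.mem_union_right _ (Finset.mem_image_of_mem _ ht)
        have h2 := hT'S (a + 1) _ h1
        unfold Gs at h2 ⊢
        rw [Function.update_of_ne (by omega)]
        exact h2
      · rw [Function.update_of_ne hna] at ht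
        have h2 := hT'd n t ht
        rcases eq_or_ne (n + 1) a with h1 | h1
        · unfold Gs at h2 ⊢
          rw [h1] at h2 ⊢
          rw [hT'a] at h2
          simp only [Finset.coe_empty, Set.image_empty, Submodule.span_empty,
            Submodule.mem_bot] at h2
          rw [h2]
          exact zero_mem _
        · unfold Gs at h2 ⊢
          rw [Function.update_of_ne h1]
          exact h2
end comb

section build
variable {R : Type u} [CommRing R] (F : CochainComplex (ModuleCat.{u} R) ℤ)
  (Gs : ∀ n : ℤ, Submodule R (F.X n))
  (hd : ∀ i j : ℤ, ∀ x ∈ Gs i, (F.d i j).hom x ∈ Gs j)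

/-- the subcomplex given by a family of submodules stable under the differential -/
noncomputable def subCx : CochainComplex (ModuleCat.{u} R) ℤ where
  X n := ModuleCat.of R (Gs n)
  d i j := ModuleCat.ofHom ((F.d i j).hom.restrict (hd i j))
  shape i j h := by
    ext x
    simp [F.shape i j h]
  d_comp_d' i j k _ _ := by
    ext x
    have h1 : (F.d j k).hom ((F.d i j).hom x.1) = 0 := by
      have h2 : (F.d i j ≫ F.d j k).hom x.1 = 0 := by rw [F.d_comp_d i j k]; rfl
      exact h2
    simpa using h1

/-- the inclusion of the subcomplex -/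
noncomputable def subCxι : subCx F Gs hd ⟶ F where
  f n := ModuleCat.ofHom (Gs n).subtype
  comm' i j _ := by
    ext x
    rfl

end build


/-- Let R be a ring and F a cochain complex of free R-modules that is zero in all sufficiently large
degrees. Given finitely many elements f_i of F, f_i lying in degree n_i, there is a subcomplex G of
F (a map of complexes G → F injective in every degree) through which every f_i passes, such that G
is zero outside a finite range of degrees and each term of G is a finitely generated free R-module. -/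
theorem result (R : Type u) [CommRing R]
    (F : CochainComplex (ModuleCat.{u} R) ℤ) (hfree : ∀ n : ℤ, Module.Free R (F.X n))
    (b : ℤ) (hb : ∀ n : ℤ, b < n → IsZero (F.X n))
    (N : ℕ) (deg : Fin N → ℤ) (f : ∀ i : Fin N, F.X (deg i)) :
    ∃ (G : CochainComplex (ModuleCat.{u} R) ℤ) (ι : G ⟶ F),
      (∀ n : ℤ, Function.Injective (ι.f n)) ∧
      (∃ a c : ℤ, ∀ n : ℤ, (n < a ∨ c < n) → IsZero (G.X n)) ∧
      (∀ n : ℤ, Module.Finite R (G.X n) ∧ Module.Free R (G.X n)) ∧
      ∀ i : Fin N, f i ∈ Set.range (ι.f (deg i)) := by
  classical
  let ι : ℤ → Type u := fun n => Module.Free.ChooseBasisIndex R (F.X n)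
  let β : ∀ n, Module.Basis (ι n) R (F.X n) := fun n => Module.Free.chooseBasis R (F.X n)
  let S : ∀ n : ℤ, Finset (F.X n) := fun n =>
    Finset.univ.image (fun i : {i : Fin N // deg i = n} => (i.2 ▸ f i.1 : F.X n))
  let m : ℕ := Finset.univ.sup (fun i : Fin N => (b - deg i).toNat)
  have hS : ∀ n, n < b - (m : ℤ) → S n = ∅ := by
    intro n hn
    rw [Finset.eq_empty_iff_forall_notMem]
    intro s hs
    obtain ⟨⟨i, hi⟩, -, -⟩ := Finset.mem_image.mp hs
    have h1 : (b - deg i).toNat ≤ m :=
      Finset.le_sup (f := fun i : Fin N => (b - deg i).toNat) (Finset.mem_univ i)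
    omega
  obtain ⟨T, hT0, hTS, hTd⟩ := comb F ι β b hb m S hS
  have hd : ∀ i j : ℤ, ∀ x ∈ Gs F ι β T i, (F.d i j).hom x ∈ Gs F ι β T j := by
    intro i j x hx
    by_cases hij : i + 1 = j
    · subst hij
      unfold Gs at hx
      induction hx using Submodule.span_induction with
      | mem x hx =>
        obtain ⟨t, ht, rfl⟩ := hx
        exact hTd i t ht
      | zero => rw [map_zero]; exact zero_mem _
      | add x y _ _ hx hy => rw [map_add]; exact add_mem hx hy
      | smul r x _ hx => rw [map_smul]; exact Submodule.smul_mem _ _ hx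
    · rw [F.shape i j hij]
      exact zero_mem _
  refine ⟨subCx F (Gs F ι β T) hd, subCxι F (Gs F ι β T) hd, ?_, ⟨b - (m : ℤ), b, ?_⟩, ?_, ?_⟩
  · intro n
    exact Subtype.val_injective
  · intro n hn
    have hsub : Subsingleton (Gs F ι β T n) := by
      rcases hn with hn | hn
      · have : Gs F ι β T n = ⊥ := by
          unfold Gs
          rw [hT0 n hn]
          simp
        rw [this]
        infer_instance
      · have hz : Subsingleton (F.X n) := ModuleCat.isZero_iff_subsingleton.mp (hb n hn)
        infer_instance
    exact ModuleCat.isZero_of_subsingleton (ModuleCat.of R (Gs F ι β T n))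
  · intro n
    have hfin : Module.Finite R (Gs F ι β T n) :=
      Module.Finite.span_of_finite R ((T n).finite_toSet.image _)
    have hli : LinearIndependent R (fun t : (T n : Set (ι n)) => β n t) :=
      (β n).linearIndependent.comp _ Subtype.val_injective
    have heq : Submodule.span R (Set.range (fun t : (T n : Set (ι n)) => β n t)) =
        Gs F ι β T n := by
      unfold Gs
      rw [Set.image_eq_range]
    have hfree0 : Module.Free R
        (Submodule.span R (Set.range (fun t : (T n : Set (ι n)) => β n t))) :=
      Module.Free.of_basis (Module.Basis.span hli)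
    have hfree : Module.Free R (Gs F ι β T n) :=
      Module.Free.of_equiv (LinearEquiv.ofEq _ _ heq)
    exact ⟨hfin, hfree⟩
  · intro i
    have h1 : f i ∈ S (deg i) :=
      Finset.mem_image.mpr ⟨⟨i, rfl⟩, Finset.mem_univ _, rfl⟩
    have h2 := hTS (deg i) (f i) h1
    exact ⟨⟨f i, h2⟩, rfl⟩

end Groth.Agent.S7145
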