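import Groth.Statements.S7146
import Mathlib

set_option autoImplicit false
open Filter
universe u
open CAlg

namespace Groth.Agent.S7146

theorem length_quot_pow_le {R : Type u} [CommRing R] (d : ℕ) (g : Fin d → R) (n : ℕ) :
    Module.length R (R ⧸ Ideal.span (Set.range g) ^ n) ≤
      ((∑ k ∈ Finset.range n, d.multichoose k : ℕ) : ℕ∞) *
        Module.length R (R ⧸ Ideal.span (Set.range g)) := by
  classical
  set I := Ideal.span (Set.range g) with hI
  induction n with
  | zero =>
    have : Subsingleton (R ⧸ I ^ 0) := by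
      rw [pow_zero, Ideal.one_eq_top]; exact Ideal.Quotient.subsingleton_iff.mpr rfl
    rw [Module.length_eq_zero]; exact bot_le
  | succ k ih =>
    have hle : I ^ (k+1) ≤ I ^ k := Ideal.pow_le_pow_right (Nat.le_succ k)
    let π : (R ⧸ I ^ (k+1)) →ₗ[R] (R ⧸ I ^ k) := Submodule.factor hle
    have hπ : Function.Surjective π := Submodule.factor_surjective hle
    have h1 : Module.length R (R ⧸ I ^ (k+1)) =
        Module.length R (LinearMap.ker π) + Module.length R (R ⧸ I ^ k) :=
      Module.length_eq_add_of_exact (LinearMap.ker π).subtype π (Submodule.subtype_injective _) hπ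
        (LinearMap.exact_subtype_ker_map π)
    let ι := ↥((Finset.univ : Finset (Fin d)).finsuppAntidiag k)
    have hcard : Fintype.card ι = d.multichoose k := by
      simp [ι, Finset.card_finsuppAntidiag_nat_eq_multichoose]
    let mon : ι → R := fun α => ∏ i, g i ^ (α.1 i)
    have hmon : ∀ α : ι, mon α ∈ I ^ k := by
      intro α
      have h := (Finset.mem_finsuppAntidiag.mp α.2).1
      rw [← h, ← Finset.prod_pow_eq_pow_sum]
      exact Ideal.prod_mem_prod (fun i _ => Ideal.pow_mem_pow (Ideal.subset_span (Set.mem_range_self i)) _)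
    let Ψ : (ι → R) →ₗ[R] (R ⧸ I ^ (k+1)) :=
      (Submodule.mkQ (I ^ (k+1))) ∘ₗ (Fintype.linearCombination R mon)
    have hK : Submodule.pi Set.univ (fun _ : ι => I) ≤ LinearMap.ker Ψ := by
      intro c hc
      rw [LinearMap.mem_ker]
      show Submodule.Quotient.mk (Fintype.linearCombination R mon c) = 0
      rw [Submodule.Quotient.mk_eq_zero, Fintype.linearCombination_apply]
      refine Ideal.sum_mem _ (fun α _ => ?_)
      rw [pow_succ', smul_eq_mul]
      exact Ideal.mul_mem_mul (hc α (Set.mem_univ _)) (hmon α)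
    let Ψ' := Submodule.liftQ _ Ψ hK
    have hker : LinearMap.ker π ≤ LinearMap.range Ψ' := by
      intro y hy
      obtain ⟨y, rfl⟩ := Submodule.Quotient.mk_surjective _ y
      have hy' : y ∈ I ^ k := by
        rw [LinearMap.mem_ker] at hy
        have : π (Submodule.Quotient.mk y) = Submodule.Quotient.mk y := rfl
        rw [this, Submodule.Quotient.mk_eq_zero] at hy
        exact hy
      rw [hI, Ideal.mem_span_pow_iff_exists_isHomogeneous] at hy'
      obtain ⟨p, hp, rfl⟩ := hy'
      refine ⟨Submodule.Quotient.mk (fun α => p.coeff α.1), ?_⟩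
      show Submodule.Quotient.mk (Fintype.linearCombination R mon (fun α => p.coeff α.1)) = _
      congr 1
      rw [Fintype.linearCombination_apply, MvPolynomial.eval_eq']
      rw [Finset.sum_coe_sort ((Finset.univ : Finset (Fin d)).finsuppAntidiag k)
        (fun α => p.coeff α • ∏ i, g i ^ (α i))]
      symm
      refine Finset.sum_subset ?_ ?_
      · intro α hα
        rw [MvPolynomial.mem_support_iff] at hα
        have := hp hα
        rw [Finset.mem_finsuppAntidiag]
        refine ⟨?_, Finset.subset_univ _⟩
        rw [← this]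
        simp [Finsupp.weight_apply, Finsupp.sum_fintype]
      · intro α _ hα
        rw [MvPolynomial.notMem_support_iff] at hα
        rw [hα, zero_mul]
    have h2 : Module.length R (LinearMap.ker π) ≤
        (d.multichoose k : ℕ∞) * Module.length R (R ⧸ I) := by
      calc Module.length R (LinearMap.ker π) ≤ Module.length R (LinearMap.range Ψ') :=
            Module.length_le_of_injective (Submodule.inclusion hker)
              (Submodule.inclusion_injective hker)
        _ ≤ Module.length R ((ι → R) ⧸ Submodule.pi Set.univ (fun _ : ι => I)) :=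
            Module.length_le_of_surjective Ψ'.rangeRestrict Ψ'.surjective_rangeRestrict
        _ = Module.length R (ι → R ⧸ I) :=
            (Submodule.quotientPi (fun _ : ι => I)).length_eq
        _ = (d.multichoose k : ℕ∞) * Module.length R (R ⧸ I) := by
            rw [Module.length_pi, ENat.card_eq_coe_fintype_card, hcard]
    rw [h1, Finset.sum_range_succ, Nat.cast_add, add_mul, add_comm]
    exact add_le_add ih h2

theorem sum_multichoose (d n : ℕ) :
    ∑ k ∈ Finset.range (n+1), d.multichoose k = (d+1).multichoose n := by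
  induction n with
  | zero => simp
  | succ n ih => rw [Finset.sum_range_succ, ih, Nat.multichoose_succ_succ, add_comm]

theorem factorial_mul_sum_le (d n : ℕ) :
    d.factorial * ∑ k ∈ Finset.range n, d.multichoose k ≤ (n + d) ^ d := by
  have h1 : ∑ k ∈ Finset.range n, d.multichoose k ≤ ∑ k ∈ Finset.range (n+1), d.multichoose k :=
    Finset.sum_le_sum_of_subset (Finset.range_mono (Nat.le_succ n))
  rw [sum_multichoose, Nat.multichoose_eq] at h1
  have h2 : (d + 1 + n - 1).choose n = (n + d).choose d := by
    have : d + 1 + n - 1 = n + d := by omega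
    rw [this, Nat.choose_symm_add]
  rw [h2] at h1
  calc d.factorial * _ ≤ d.factorial * (n+d).choose d := Nat.mul_le_mul_left _ h1
    _ = (n+d).descFactorial d := (Nat.descFactorial_eq_factorial_mul_choose _ _).symm
    _ ≤ (n+d)^d := Nat.descFactorial_le_pow _ _

theorem result (R : Type u) [CommRing R] [IsNoetherianRing R] [IsLocalRing R]
    (d : ℕ) (hd : ringKrullDim R = d) (g : Fin d → R) (hg : ∀ i, g i ∈ IsLocalRing.maximalIdeal R)
    (hsop : IsLocalRing.maximalIdeal R ≤ (Ideal.span (Set.range g)).radical) (e : ℕ)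
    (he : Tendsto (fun n : ℕ => (d.factorial : ℝ) * ((Module.length R (R ⧸ Ideal.span (Set.range g) ^ n)).toNat : ℝ) / (n : ℝ) ^ d)
      atTop (nhds (e : ℝ))) :
    (e : ℕ∞) ≤ Module.length R (R ⧸ Ideal.span (Set.range g)) := by
  set I := Ideal.span (Set.range g) with hI
  rcases eq_or_ne (Module.length R (R ⧸ I)) ⊤ with htop | hfin
  · rw [htop]; exact le_top
  obtain ⟨L, hL⟩ := ENat.ne_top_iff_exists.mp hfin
  rw [← hL]
  have hbound : ∀ n : ℕ, (d.factorial : ℝ) * ((Module.length R (R ⧸ I ^ n)).toNat : ℝ) ≤
      ((n + d : ℕ) : ℝ) ^ d * L := by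
    intro n
    have h1 := length_quot_pow_le d g n
    rw [← hI, ← hL] at h1
    have h2 : (Module.length R (R ⧸ I ^ n)).toNat ≤ (∑ k ∈ Finset.range n, d.multichoose k) * L :=
      ENat.toNat_le_of_le_natCast (by exact_mod_cast h1)
    have h3 := factorial_mul_sum_le d n
    have : d.factorial * (Module.length R (R ⧸ I ^ n)).toNat ≤ (n + d)^d * L :=
      calc _ ≤ d.factorial * ((∑ k ∈ Finset.range n, d.multichoose k) * L) :=
            Nat.mul_le_mul_left _ h2
        _ = (d.factorial * ∑ k ∈ Finset.range n, d.multichoose k) * L := by ring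
        _ ≤ (n+d)^d * L := Nat.mul_le_mul_right _ h3
    exact_mod_cast this
  have hlim : Tendsto (fun n : ℕ => (1 + (d : ℝ) / (n : ℝ)) ^ d * (L : ℝ)) atTop
      (nhds (L : ℝ)) := by
    have h1 : Tendsto (fun n : ℕ => (d : ℝ) / (n : ℝ)) atTop (nhds 0) :=
      tendsto_const_div_atTop_nhds_zero_nat (d : ℝ)
    have h2 := ((tendsto_const_nhds (x := (1:ℝ))).add h1).pow d
    have h3 := h2.mul_const (L : ℝ)
    simpa using h3
  have hle : (e : ℝ) ≤ (L : ℝ) := by
    refine le_of_tendsto_of_tendsto he hlim ?_
    filter_upwards [eventually_ge_atTop 1] with n hn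
    have hn' : (0 : ℝ) < n := by exact_mod_cast hn
    have : (1 + (d : ℝ) / (n : ℝ)) ^ d * (L : ℝ) = ((n + d : ℕ) : ℝ) ^ d * L / (n : ℝ) ^ d := by
      rw [Nat.cast_add]
      have h : 1 + (d : ℝ) / (n : ℝ) = ((n : ℝ) + d) / n := by field_simp
      rw [h, div_pow]; ring
    rw [this]
    exact div_le_div_of_nonneg_right (hbound n) (by positivity)
  exact_mod_cast hle

end Groth.Agent.S7146
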