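import Groth.Statements.S7147
import Mathlib

set_option autoImplicit false
universe u
open CAlg

namespace Groth.Agent.S7147

section aux
open TensorProduct

variable {R : Type u} [CommRing R] {M : Type u} [AddCommGroup M] [Module R M]

/-- units act invertibly -/
lemma units_end (f : R) (N : Type*) [AddCommGroup N] [Module R N] [Module (Localization.Away f) N]
    [IsScalarTower R (Localization.Away f) N] (s : Submonoid.powers f) :
    IsUnit (algebraMap R (Module.End R N) s) := by
  have h1 : IsUnit (algebraMap R (Localization.Away f) s) := IsLocalization.map_units _ s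
  have h2 := h1.map (Module.toModuleEnd R (S := Localization.Away f) N)
  convert h2 using 1
  ext v
  simp [Module.toModuleEnd_apply]

/-- the set `T` of elements on which all forms take values in `x`. -/
def Tset (x : Ideal R) (M : Type u) [AddCommGroup M] [Module R M] : Submodule R M where
  carrier := {m : M | ∀ φ : M →ₗ[R] R, φ m ∈ x}
  add_mem' := by
    intro a b ha hb φ
    rw [map_add]; exact x.add_mem (ha φ) (hb φ)
  zero_mem' := by
    intro φ; rw [map_zero]; exact x.zero_mem
  smul_mem' := by
    intro c a ha φ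
    rw [map_smul]; exact x.mul_mem_left c (ha φ)

lemma smul_top_le_Tset (x : Ideal R) : (x • ⊤ : Submodule R M) ≤ Tset x M := by
  rw [Submodule.smul_le]
  intro a ha m _ φ
  rw [map_smul]
  exact x.mul_mem_right _ ha

lemma mem_Bx_iff (x : Ideal R) [x.IsMaximal] (m : M) :
    (x • ⊤ : Submodule R M).mkQ m ∈ Submodule.span (R ⧸ x)
      ((x • ⊤ : Submodule R M).mkQ '' {m : M | ∀ φ : M →ₗ[R] R, φ m ∈ x}) ↔
    ∀ φ : M →ₗ[R] R, φ m ∈ x := by
  constructor
  · intro h
    suffices H : ∀ v ∈ Submodule.span (R ⧸ x)
        ((x • ⊤ : Submodule R M).mkQ '' {m : M | ∀ φ : M →ₗ[R] R, φ m ∈ x}),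
        ∀ m : M, (x • ⊤ : Submodule R M).mkQ m = v → m ∈ Tset x M from H _ h m rfl
    intro v hv
    induction hv using Submodule.span_induction with
    | mem v hv =>
      obtain ⟨t, ht, rfl⟩ := hv
      intro m hm
      have : m - t ∈ (x • ⊤ : Submodule R M) := by
        rw [← Submodule.Quotient.mk_eq_zero, Submodule.Quotient.mk_sub, sub_eq_zero]
        exact hm
      have h2 := (Tset x M).add_mem (smul_top_le_Tset x this) (show t ∈ Tset x M from ht)
      simpa using h2
    | zero =>
      intro m hm
      exact smul_top_le_Tset x ((Submodule.Quotient.mk_eq_zero _).mp hm)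
    | add v w _ _ hv hw =>
      intro m hm
      obtain ⟨m1, rfl⟩ := Submodule.mkQ_surjective _ v
      have h1 := hv m1 rfl
      have h2 := hw (m - m1) (by rw [map_sub, hm]; abel)
      have := (Tset x M).add_mem h1 h2
      simpa using this
    | smul c v _ hv =>
      intro m hm
      obtain ⟨a, rfl⟩ := Ideal.Quotient.mk_surjective c
      obtain ⟨m0, rfl⟩ := Submodule.mkQ_surjective _ v
      have h0 := hv m0 rfl
      have h1 : m - a • m0 ∈ (x • ⊤ : Submodule R M) := by
        rw [← Submodule.Quotient.mk_eq_zero, Submodule.Quotient.mk_sub, sub_eq_zero]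
        exact hm
      have := (Tset x M).add_mem (smul_top_le_Tset x h1) ((Tset x M).smul_mem a h0)
      simpa using this
  · intro h
    exact Submodule.subset_span ⟨m, h, rfl⟩

end aux
section aux2
open TensorProduct

variable {R : Type u} [CommRing R] {M : Type u} [AddCommGroup M] [Module R M]

lemma dir1 [Module.FinitePresentation R M] (x : Ideal R) [x.IsMaximal] (r : ℕ) (s : Fin r → M)
    (f : R) (hf : f ∉ x)
    (g : LocalizedModule (Submonoid.powers f) M →ₗ[Localization.Away f] (Fin r → Localization.Away f))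
    (hg : g ∘ₗ Fintype.linearCombination (Localization.Away f)
      (fun i => LocalizedModule.mkLinearMap (Submonoid.powers f) M (s i)) = LinearMap.id)
    (a : Fin r → R) (ha : ∀ φ : M →ₗ[R] R, φ (∑ i, a i • s i) ∈ x) : ∀ j, a j ∈ x := by
  intro j
  have hpow : ∀ c ∈ Submonoid.powers f, c ∉ x := by
    rintro c ⟨n, rfl⟩ hc
    exact hf ((‹x.IsMaximal›).isPrime.mem_of_pow_mem n hc)
  let gj : M →ₗ[R] Localization.Away f :=
    ((LinearMap.proj j : (Fin r → Localization.Away f) →ₗ[Localization.Away f] _).restrictScalars R) ∘ₗ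
      (g.restrictScalars R) ∘ₗ LocalizedModule.mkLinearMap (Submonoid.powers f) M
  obtain ⟨φ, σ, hφ⟩ := Module.FinitePresentation.exists_lift_of_isLocalizedModule
    (Submonoid.powers f) (Algebra.linearMap R (Localization.Away f)) gj
  have hgs : ∀ i, g (LocalizedModule.mkLinearMap (Submonoid.powers f) M (s i)) = Pi.single i 1 := by
    intro i
    have := LinearMap.congr_fun hg (Pi.single i 1)
    simpa [Fintype.linearCombination_apply_single] using this
  have hgj : ∀ i, gj (s i) = if j = i then 1 else 0 := by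
    intro i
    change (g (LocalizedModule.mkLinearMap (Submonoid.powers f) M (s i))) j = _
    rw [hgs i, Pi.single_apply]
  have h1 : algebraMap R (Localization.Away f) (φ (∑ i, a i • s i)) =
      algebraMap R (Localization.Away f) (σ * a j) := by
    have := LinearMap.congr_fun hφ (∑ i, a i • s i)
    simp only [LinearMap.coe_comp, Function.comp_apply, Algebra.linearMap_apply,
      LinearMap.smul_apply] at this
    rw [this, map_sum]
    simp only [map_smul, hgj]
    simp [Algebra.smul_def, Submonoid.smul_def]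
  obtain ⟨c, hc⟩ := (IsLocalization.eq_iff_exists (Submonoid.powers f) _).mp h1
  have h2 : (c : R) * (σ * a j) ∈ x := by
    rw [← hc]; exact x.mul_mem_left _ (ha φ)
  have hp := (‹x.IsMaximal›).isPrime
  rcases hp.mem_or_mem h2 with h | h
  · exact absurd h (hpow c c.2)
  · rcases hp.mem_or_mem h with h | h
    · exact absurd h (hpow σ σ.2)
    · exact h

end aux2
section aux3
open TensorProduct

variable {R : Type u} [CommRing R] {M : Type u} [AddCommGroup M] [Module R M]

/-- the space of value vectors mod `x` of linear forms -/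
def Wsub (x : Ideal R) (r : ℕ) (s : Fin r → M) : Submodule (R ⧸ x) (Fin r → R ⧸ x) where
  carrier := {w | ∃ φ : M →ₗ[R] R, ∀ i, w i = Ideal.Quotient.mk x (φ (s i))}
  add_mem' := by
    rintro v w ⟨φ, hφ⟩ ⟨ψ, hψ⟩
    exact ⟨φ + ψ, fun i => by simp [hφ i, hψ i]⟩
  zero_mem' := ⟨0, fun i => by simp⟩
  smul_mem' := by
    rintro c w ⟨φ, hφ⟩
    obtain ⟨a, rfl⟩ := Ideal.Quotient.mk_surjective c
    exact ⟨a • φ, fun i => by simp [hφ i]⟩

lemma Wsub_eq_top (x : Ideal R) [x.IsMaximal] (r : ℕ) (s : Fin r → M)
    (hli : ∀ a : Fin r → R, (∀ φ : M →ₗ[R] R, φ (∑ i, a i • s i) ∈ x) → ∀ j, a j ∈ x) :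
    Wsub x r s = ⊤ := by
  let _ := Ideal.Quotient.field x
  by_contra h
  obtain ⟨F, hF0, hFW⟩ := (Wsub x r s).exists_le_ker_of_lt_top (lt_top_iff_ne_top.mpr h)
  have hsurj : ∀ i, ∃ a : R, Ideal.Quotient.mk x a = F (Pi.single i 1) :=
    fun i => Ideal.Quotient.mk_surjective _
  choose a ha using hsurj
  have key : ∀ φ : M →ₗ[R] R, φ (∑ i, a i • s i) ∈ x := by
    intro φ
    have hw : (fun i => Ideal.Quotient.mk x (φ (s i))) ∈ Wsub x r s := ⟨φ, fun i => rfl⟩
    have h0 := hFW hw
    rw [LinearMap.mem_ker, LinearMap.pi_apply_eq_sum_univ] at h0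
    rw [← Ideal.Quotient.eq_zero_iff_mem, map_sum, map_sum]
    rw [← h0]
    refine Finset.sum_congr rfl fun i _ => ?_
    rw [map_smul, smul_eq_mul, map_mul, ha i, smul_eq_mul, mul_comm]
    congr 2
    ext j
    simp [Pi.single_apply, eq_comm]
  have haj := hli a key
  apply hF0
  apply LinearMap.pi_ext'
  intro j
  apply LinearMap.ext_ring
  rw [LinearMap.comp_apply, LinearMap.single_apply, ← ha j, LinearMap.zero_comp,
    LinearMap.zero_apply]
  exact Ideal.Quotient.eq_zero_iff_mem.mpr (haj j)

end aux3
section aux4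
open TensorProduct

variable {R : Type u} [CommRing R] {M : Type u} [AddCommGroup M] [Module R M]

lemma dir2 (x : Ideal R) [x.IsMaximal] (r : ℕ) (s : Fin r → M)
    (hli : ∀ a : Fin r → R, (∀ φ : M →ₗ[R] R, φ (∑ i, a i • s i) ∈ x) → ∀ j, a j ∈ x) :
    ∃ f : R, f ∉ x ∧
      ∃ g : LocalizedModule (Submonoid.powers f) M →ₗ[Localization.Away f] (Fin r → Localization.Away f),
        g ∘ₗ Fintype.linearCombination (Localization.Away f)
            (fun i => LocalizedModule.mkLinearMap (Submonoid.powers f) M (s i)) = LinearMap.id := by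
  have hW := Wsub_eq_top x r s hli
  have hex : ∀ j : Fin r, ∃ φ : M →ₗ[R] R, ∀ i, (Pi.single j 1 : Fin r → R ⧸ x) i =
      Ideal.Quotient.mk x (φ (s i)) := by
    intro j
    have : (Pi.single j 1 : Fin r → R ⧸ x) ∈ Wsub x r s := by rw [hW]; trivial
    exact this
  choose φ hφ using hex
  let A : Matrix (Fin r) (Fin r) R := Matrix.of fun j i => φ j (s i)
  have hA : A.map (Ideal.Quotient.mk x) = 1 := by
    ext j i
    rw [Matrix.map_apply]
    change Ideal.Quotient.mk x (φ j (s i)) = _
    rw [← hφ j i, Matrix.one_apply, Pi.single_apply]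
    simp [eq_comm]
  have hdet : Ideal.Quotient.mk x A.det = 1 := by
    rw [RingHom.map_det, RingHom.mapMatrix_apply, hA, Matrix.det_one]
  have hf : A.det ∉ x := by
    intro h
    rw [← Ideal.Quotient.eq_zero_iff_mem, hdet] at h
    have : Nontrivial (R ⧸ x) := Ideal.Quotient.nontrivial_iff.mpr (‹x.IsMaximal›).ne_top
    exact one_ne_zero h
  refine ⟨A.det, hf, ?_⟩
  generalize hfdef : A.det = f at hf ⊢
  let A' : Matrix (Fin r) (Fin r) (Localization.Away f) := A.map (algebraMap R (Localization.Away f))
  have hA'det : IsUnit A'.det := by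
    have : A'.det = algebraMap R (Localization.Away f) A.det := by
      rw [RingHom.map_det, RingHom.mapMatrix_apply]
    rw [this, hfdef]
    exact IsLocalization.Away.algebraMap_isUnit f
  let ψ' : M →ₗ[R] (Fin r → Localization.Away f) :=
    LinearMap.pi (fun j => (Algebra.linearMap R (Localization.Away f)) ∘ₗ φ j)
  let ψf : LocalizedModule (Submonoid.powers f) M →ₗ[R] (Fin r → Localization.Away f) :=
    LocalizedModule.lift (Submonoid.powers f) ψ' (units_end f _)
  let ψf' := ψf.extendScalarsOfIsLocalization (Submonoid.powers f) (Localization.Away f)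
  refine ⟨(A'⁻¹).mulVecLin ∘ₗ ψf', ?_⟩
  apply LinearMap.pi_ext'
  intro i
  apply LinearMap.ext_ring
  simp only [LinearMap.coe_comp, Function.comp_apply, LinearMap.coe_single, LinearMap.id_coe, id_eq,
    Fintype.linearCombination_apply_single, one_smul]
  have h1 : ψf' (LocalizedModule.mkLinearMap (Submonoid.powers f) M (s i)) = A'.mulVec (Pi.single i 1) := by
    change ψf (LocalizedModule.mkLinearMap (Submonoid.powers f) M (s i)) = _
    rw [LocalizedModule.mkLinearMap_apply, LocalizedModule.lift_mk_one, Matrix.mulVec_single_one]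
    ext j
    simp [ψ', A', A]
  rw [h1, Matrix.mulVecLin_apply, Matrix.mulVec_mulVec, Matrix.nonsing_inv_mul _ hA'det,
    Matrix.one_mulVec]

end aux4


/-- Let R be a ring, M a finitely presented R-module and x a maximal ideal of R with residue field κ(x);
write M(x) = M/xM and let B(x) ⊆ M(x) be the orthogonal of the image of Hom_R(M, R) in the dual of
M(x), i.e. the classes of those m in M with φ(m) in x for every linear form φ on M, and V(x) =
M(x)/B(x). For s_1, ..., s_r in M the following are equivalent: (1) there is f in R, f not in x,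
such that the map R_f^r → M_f given by the s_i is the inclusion of a direct summand; (2) the images
of s_1, ..., s_r in V(x) are linearly independent over κ(x). -/
theorem result (R : Type u) [CommRing R] (M : Type u)
    [AddCommGroup M] [Module R M] [Module.FinitePresentation R M] (x : Ideal R) [x.IsMaximal]
    (r : ℕ) (s : Fin r → M) :
    let Mx := M ⧸ (x • ⊤ : Submodule R M)
    let Bx : Submodule (R ⧸ x) Mx :=
      Submodule.span (R ⧸ x) ((x • ⊤ : Submodule R M).mkQ '' {m : M | ∀ φ : M →ₗ[R] R, φ m ∈ x})
    (∃ f : R, f ∉ x ∧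
      ∃ g : LocalizedModule (Submonoid.powers f) M →ₗ[Localization.Away f] (Fin r → Localization.Away f),
        g ∘ₗ Fintype.linearCombination (Localization.Away f)
            (fun i => LocalizedModule.mkLinearMap (Submonoid.powers f) M (s i)) = LinearMap.id) ↔
    LinearIndependent (R ⧸ x) (fun i => Bx.mkQ ((x • ⊤ : Submodule R M).mkQ (s i))) := by
  intro Mx Bx
  have hcond : LinearIndependent (R ⧸ x) (fun i => Bx.mkQ ((x • ⊤ : Submodule R M).mkQ (s i))) ↔
      ∀ a : Fin r → R, (∀ φ : M →ₗ[R] R, φ (∑ i, a i • s i) ∈ x) → ∀ j, a j ∈ x := by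
    rw [Fintype.linearIndependent_iff]
    have hsum : ∀ a : Fin r → R,
        (∑ i, Ideal.Quotient.mk x (a i) • Bx.mkQ ((x • ⊤ : Submodule R M).mkQ (s i))) =
          Bx.mkQ ((x • ⊤ : Submodule R M).mkQ (∑ i, a i • s i)) := by
      intro a
      rw [map_sum, map_sum]
      refine Finset.sum_congr rfl fun i _ => ?_
      rw [← map_smul]
      rfl
    constructor
    · intro h a ha j
      have h1 := h (fun i => Ideal.Quotient.mk x (a i)) (by
        rw [hsum a, Submodule.mkQ_apply, Submodule.Quotient.mk_eq_zero]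
        exact (mem_Bx_iff x _).mpr ha) j
      exact Ideal.Quotient.eq_zero_iff_mem.mp h1
    · intro h c hc j
      have hsurj : ∀ i, ∃ a : R, Ideal.Quotient.mk x a = c i := fun i => Ideal.Quotient.mk_surjective _
      choose a ha using hsurj
      have hc' : (∑ i, Ideal.Quotient.mk x (a i) • Bx.mkQ ((x • ⊤ : Submodule R M).mkQ (s i))) = 0 := by
        simp only [ha]; exact hc
      rw [hsum a, Submodule.mkQ_apply, Submodule.Quotient.mk_eq_zero] at hc'
      have := h a ((mem_Bx_iff x _).mp hc') j
      rw [← ha j]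
      exact Ideal.Quotient.eq_zero_iff_mem.mpr this
  rw [hcond]
  constructor
  · rintro ⟨f, hf, g, hg⟩ a ha
    exact dir1 x r s f hf g hg a ha
  · intro h
    exact dir2 x r s h

end Groth.Agent.S7147
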