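import Groth.Statements.S7153
import Mathlib

set_option autoImplicit false
universe u
open CAlg

namespace Groth.Agent.S7153

theorem ar {A : Type u} [CommRing A] [IsNoetherianRing A] (I : Ideal A)
    {L : Type u} [AddCommGroup L] [Module A L] [Module.Finite A L] (P : Submodule A L) :
    ∃ k : ℕ, ∀ c : ℕ, k ≤ c → ∀ n : ℕ, (I ^ (n + c) • ⊤ ⊓ P : Submodule A L) ≤ I ^ n • P := by
  obtain ⟨k, hk⟩ := Ideal.exists_pow_inf_eq_pow_smul I P
  refine ⟨k, fun c hc n => ?_⟩
  rw [hk (n + c) (by omega)]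
  calc I ^ (n + c - k) • (I ^ k • ⊤ ⊓ P) ≤ I ^ (n + c - k) • P := Submodule.smul_mono le_rfl inf_le_right
    _ ≤ I ^ n • P := Submodule.smul_mono_left (Ideal.pow_le_pow_right (by omega))



/-- Let A be a Noetherian ring, I an ideal and K → L → M a complex of finite A-modules with maps α, β
and homology H = Ker β / Im α; for n ≥ 0 let H_n be the homology of the induced complex K/IⁿK →
L/IⁿL → M/IⁿM, which is β⁻¹(IⁿM)/(Im α + IⁿL). Then there is c > 0 such that for every n: (i) the
image of H_(n+c) → H_n is contained in, hence equal to, the image of H → H_n; (ii) the kernel and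
the cokernel of H/IⁿH → H_n are annihilated by I^c. Everything is phrased with representatives in L. -/
theorem result (A : Type u) [CommRing A] [IsNoetherianRing A] (I : Ideal A)
    (K L M : Type u) [AddCommGroup K] [Module A K] [Module.Finite A K] [AddCommGroup L] [Module A L]
    [Module.Finite A L] [AddCommGroup M] [Module A M] [Module.Finite A M]
    (α : K →ₗ[A] L) (β : L →ₗ[A] M) (hαβ : β ∘ₗ α = 0) :
    ∃ c : ℕ, 0 < c ∧ ∀ n : ℕ,
      (∀ y ∈ (I ^ (n + c) • ⊤ : Submodule A M).comap β,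
        ∃ z ∈ LinearMap.ker β, y - z ∈ LinearMap.range α ⊔ (I ^ n • ⊤ : Submodule A L)) ∧
      (∀ z ∈ LinearMap.ker β, z ∈ LinearMap.range α ⊔ (I ^ n • ⊤ : Submodule A L) →
        ∀ a ∈ I ^ c, a • z ∈ LinearMap.range α ⊔ I ^ n • LinearMap.ker β) ∧
      (∀ y ∈ (I ^ n • ⊤ : Submodule A M).comap β, ∀ a ∈ I ^ c,
        ∃ z ∈ LinearMap.ker β, a • y - z ∈ LinearMap.range α ⊔ (I ^ n • ⊤ : Submodule A L)) := by
  obtain ⟨c1, h1⟩ := ar I (LinearMap.range β)
  obtain ⟨c2, h2⟩ := ar I (LinearMap.ker β)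
  set c := max c1 c2 + 1 with hc
  have hc1 : c1 ≤ c := by omega
  have hc2 : c2 ≤ c := by omega
  -- key fact: β y ∈ I^(n+c) ⊤ implies decomposition
  have key : ∀ (n : ℕ) (y : L), β y ∈ (I ^ (n + c) • ⊤ : Submodule A M) →
      ∃ z ∈ LinearMap.ker β, y - z ∈ LinearMap.range α ⊔ (I ^ n • ⊤ : Submodule A L) := by
    intro n y hy
    have h3 : β y ∈ (I ^ n • LinearMap.range β : Submodule A M) :=
      h1 c hc1 n ⟨hy, LinearMap.mem_range_self β y⟩
    rw [LinearMap.range_eq_map, ← Submodule.map_smul''] at h3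
    obtain ⟨l, hl, hly⟩ := h3
    refine ⟨y - l, ?_, ?_⟩
    · rw [LinearMap.mem_ker, map_sub, hly, sub_self]
    · rw [sub_sub_cancel]
      exact Submodule.mem_sup_right hl
  refine ⟨c, by omega, fun n => ⟨?_, ?_, ?_⟩⟩
  · intro y hy
    exact key n y hy
  · intro z hz hz2 a ha
    obtain ⟨x, hx, l, hl, rfl⟩ := Submodule.mem_sup.mp hz2
    obtain ⟨k, rfl⟩ := hx
    have hlk : l ∈ LinearMap.ker β := by
      rw [LinearMap.mem_ker] at hz ⊢
      rw [map_add] at hz
      have : β (α k) = 0 := by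
        have := LinearMap.congr_fun hαβ k
        simpa using this
      rw [this, zero_add] at hz
      exact hz
    have hal : a • l ∈ (I ^ n • LinearMap.ker β : Submodule A L) := by
      apply h2 c hc2 n
      refine ⟨?_, Submodule.smul_mem _ _ hlk⟩
      rw [add_comm, pow_add, mul_smul]
      exact Submodule.smul_mem_smul ha hl
    rw [smul_add]
    exact Submodule.add_mem_sup ⟨a • k, by rw [map_smul]⟩ hal
  · intro y hy a ha
    apply key n (a • y)
    rw [map_smul, add_comm, pow_add, mul_smul]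
    exact Submodule.smul_mem_smul ha hy

end Groth.Agent.S7153
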