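import Groth.Statements.S7157
import Mathlib

set_option autoImplicit false
universe u
open EtAlg

namespace Groth.Agent.S7157


section aux

open IsLocalRing Polynomial

variable {A : Type u} [CommRing A] [IsDomain A] [IsDiscreteValuationRing A]
  {L : Type u} [Field L]

theorem isUnit_of_not_dvd {π : A} (hπ : Irreducible π) (a : A) (h : ¬ π ∣ a) : IsUnit a := by
  by_contra hu
  apply h
  have hm : a ∈ maximalIdeal A := (IsLocalRing.mem_maximalIdeal a).2 (mem_nonunits_iff.2 hu)
  rw [hπ.maximalIdeal_eq, Ideal.mem_span_singleton] at hm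
  exact hm

theorem lt_aux {Γ : Type*} [LinearOrderedCommGroupWithZero Γ] {t c : Γ} (ht0 : 0 < t) (ht1 : t < 1)
    (hc : c ≤ 1) {m n : ℕ} (hmn : m < n) : c * t ^ n < t ^ m :=
  (mul_le_of_le_one_left' hc).trans_lt (pow_lt_pow_right_of_lt_one₀ ht0 ht1 hmn)

theorem dom_le_one {g : A →+* L} {V : ValuationSubring L} (hD : EtRam.Dominates A g V) (a : A) :
    V.valuation (g a) ≤ 1 :=
  (ValuationSubring.valuation_le_one_iff V _).2 (hD.1 a)

theorem dom_unit {g : A →+* L} {V : ValuationSubring L} (hD : EtRam.Dominates A g V) {a : A}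
    (ha : IsUnit a) : V.valuation (g a) = 1 := by
  obtain ⟨u, rfl⟩ := ha
  have h1 : V.valuation (g (u : A)) * V.valuation (g ((u⁻¹ : Aˣ) : A)) = 1 := by
    rw [← Valuation.map_mul, ← map_mul, Units.mul_inv, map_one, Valuation.map_one]
  refine le_antisymm (dom_le_one hD _) ?_
  calc (1 : V.ValueGroup) = V.valuation (g (u : A)) * V.valuation (g ((u⁻¹ : Aˣ) : A)) := h1.symm
    _ ≤ V.valuation (g (u : A)) := mul_le_of_le_one_right' (dom_le_one hD _)

theorem dom_pi_lt {g : A →+* L} {V : ValuationSubring L} (hD : EtRam.Dominates A g V)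
    {π : A} (hπ : Irreducible π) : V.valuation (g π) < 1 :=
  hD.2 π ((IsLocalRing.mem_maximalIdeal π).2 (mem_nonunits_iff.2 hπ.not_isUnit))

theorem dom_pi_ne {g : A →+* L} (hg : Function.Injective g) (V : ValuationSubring L)
    {π : A} (hπ : Irreducible π) : V.valuation (g π) ≠ 0 := by
  rw [Valuation.ne_zero_iff]
  exact fun h => hπ.ne_zero (hg (h.trans (map_zero g).symm))

theorem dom_x_lt {g : A →+* L} {V : ValuationSubring L}
    (hD : EtRam.Dominates A g V) {π : A} (hπ : Irreducible π) {x : L} {q' : ℕ}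
    (h1 : V.valuation x ^ (q' + 1) = V.valuation (g π)) : V.valuation x < 1 := by
  by_contra hge
  rw [not_lt] at hge
  have h3 : (1 : V.ValueGroup) ≤ V.valuation x ^ (q' + 1) := one_le_pow₀ hge
  rw [h1] at h3
  exact absurd (dom_pi_lt hD hπ) (not_lt.2 h3)

theorem step {g : A →+* L} (hg : Function.Injective g) {V : ValuationSubring L}
    (hD : EtRam.Dominates A g V) {π : A} (hπ : Irreducible π) {x : L} {q' : ℕ}
    (h1 : V.valuation x ^ (q' + 1) = V.valuation (g π))
    {z : L} (hz : V.valuation z ≤ 1) (a : ℕ → A)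
    (hsum : g π * z = ∑ i ∈ Finset.range (q' + 1), g (a i) * x ^ i) :
    ∀ i, i < q' + 1 → π ∣ a i := by
  classical
  have hπ0 : V.valuation (g π) ≠ 0 := dom_pi_ne hg V hπ
  have hx1 : V.valuation x < 1 := dom_x_lt hD hπ h1
  have hx0 : V.valuation x ≠ 0 := by
    intro h0
    rw [h0, zero_pow (Nat.succ_ne_zero q')] at h1
    exact hπ0 h1.symm
  have hxpos : 0 < V.valuation x := zero_lt_iff.2 hx0
  by_contra hcon
  have hex : ∃ i, i < q' + 1 ∧ ¬ π ∣ a i := by
    by_contra hne
    apply hcon
    intro i hi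
    by_contra hnd
    exact hne ⟨i, hi, hnd⟩
  obtain ⟨hi₀, hnd⟩ := Nat.find_spec hex
  have hmin : ∀ j, j < Nat.find hex → π ∣ a j := by
    intro j hj
    by_contra hjn
    exact Nat.find_min hex hj ⟨lt_trans hj hi₀, hjn⟩
  generalize Nat.find hex = i₀ at hi₀ hnd hmin
  have hunit : V.valuation (g (a i₀)) = 1 := dom_unit hD (isUnit_of_not_dvd hπ _ hnd)
  have hmain : V.valuation (g (a i₀) * x ^ i₀) = V.valuation x ^ i₀ := by
    rw [Valuation.map_mul, hunit, one_mul, Valuation.map_pow]
  have hothers : ∀ j ∈ (Finset.range (q' + 1)).erase i₀,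
      V.valuation (g (a j) * x ^ j) < V.valuation x ^ i₀ := by
    intro j hj
    rw [Finset.mem_erase, Finset.mem_range] at hj
    obtain ⟨hji, hjq⟩ := hj
    rcases lt_or_gt_of_ne hji with hlt | hgt
    · obtain ⟨c, hc⟩ := hmin j hlt
      have e : V.valuation (g (a j) * x ^ j)
          = V.valuation (g c) * V.valuation x ^ (q' + 1 + j) := by
        rw [hc]
        simp only [map_mul, map_pow]
        rw [← h1, pow_add (V.valuation x) (q' + 1) j,
          mul_comm (V.valuation x ^ (q' + 1)) (V.valuation (g c)), mul_assoc]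
      rw [e]
      exact lt_aux hxpos hx1 (dom_le_one hD c) (by omega)
    · rw [Valuation.map_mul, Valuation.map_pow]
      exact lt_aux hxpos hx1 (dom_le_one hD _) hgt
  have hsplit : ∑ i ∈ Finset.range (q' + 1), g (a i) * x ^ i
      = g (a i₀) * x ^ i₀ + ∑ i ∈ (Finset.range (q' + 1)).erase i₀, g (a i) * x ^ i :=
    (Finset.add_sum_erase _ _ (Finset.mem_range.2 hi₀)).symm
  have hrest : V.valuation (∑ i ∈ (Finset.range (q' + 1)).erase i₀, g (a i) * x ^ i)
      < V.valuation (g (a i₀) * x ^ i₀) := by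
    rw [hmain]
    exact Valuation.map_sum_lt _ (pow_ne_zero _ hx0) hothers
  have htot : V.valuation (g π * z) = V.valuation x ^ i₀ := by
    rw [hsum, hsplit, Valuation.map_add_eq_of_lt_left _ hrest, hmain]
  have hle : V.valuation (g π * z) < V.valuation x ^ i₀ := by
    rw [Valuation.map_mul, ← h1, mul_comm]
    exact lt_aux hxpos hx1 hz hi₀
  exact absurd htot (ne_of_lt hle)

theorem mem_aux {g : A →+* L} (hg : Function.Injective g) {V : ValuationSubring L}
    (hD : EtRam.Dominates A g V) {π : A} (hπ : Irreducible π) {x : L} {q' : ℕ}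
    (h1 : V.valuation x ^ (q' + 1) = V.valuation (g π)) :
    ∀ (N : ℕ) (y : L), V.valuation y ≤ 1 → ∀ a : ℕ → A,
      g (π ^ N) * y = ∑ i ∈ Finset.range (q' + 1), g (a i) * x ^ i →
      ∃ a' : ℕ → A, y = ∑ i ∈ Finset.range (q' + 1), g (a' i) * x ^ i := by
  intro N
  induction N with
  | zero =>
    intro y _ a h
    exact ⟨a, by rw [← h, pow_zero, map_one, one_mul]⟩
  | succ N ih =>
    intro y hy a h
    have hz : V.valuation (g (π ^ N) * y) ≤ 1 := by
      rw [Valuation.map_mul]
      exact mul_le_one' (dom_le_one hD _) hy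
    have h' : g π * (g (π ^ N) * y) = ∑ i ∈ Finset.range (q' + 1), g (a i) * x ^ i := by
      rw [← h, pow_succ, map_mul]; ring
    have hdvd := step hg hD hπ h1 hz a h'
    have hch : ∀ i, ∃ c, i < q' + 1 → a i = π * c := by
      intro i
      by_cases hi : i < q' + 1
      · obtain ⟨c, hc⟩ := hdvd i hi
        exact ⟨c, fun _ => hc⟩
      · exact ⟨0, fun h => absurd h hi⟩
    choose c hc using hch
    have hπ0 : g π ≠ 0 := fun h0 => hπ.ne_zero (hg (h0.trans (map_zero g).symm))
    have h'' : g (π ^ N) * y = ∑ i ∈ Finset.range (q' + 1), g (c i) * x ^ i := by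
      apply mul_left_cancel₀ hπ0
      rw [h', Finset.mul_sum]
      refine Finset.sum_congr rfl fun i hi => ?_
      rw [hc i (Finset.mem_range.1 hi), map_mul, mul_assoc]
    exact ih y hy c h''

theorem core {g : A →+* L} (hg : Function.Injective g) {V : ValuationSubring L}
    (hD : EtRam.Dominates A g V) {π : A} (hπ : Irreducible π) {x : L} {q' : ℕ}
    (h1 : V.valuation x ^ (q' + 1) = V.valuation (g π))
    (h2 : ∀ y : L, ∃ (b : A) (a : ℕ → A), b ≠ 0 ∧
      g b * y = ∑ i ∈ Finset.range (q' + 1), g (a i) * x ^ i) (y : L) :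
    y ∈ V ↔ ∃ a : ℕ → A, y = ∑ i ∈ Finset.range (q' + 1), g (a i) * x ^ i := by
  constructor
  · intro hy
    have hy1 : V.valuation y ≤ 1 := (ValuationSubring.valuation_le_one_iff V y).2 hy
    obtain ⟨b, a, hb, hba⟩ := h2 y
    obtain ⟨N, u, hu⟩ := IsDiscreteValuationRing.eq_unit_mul_pow_irreducible hb hπ
    have hu1 : g ((u⁻¹ : Aˣ) : A) * g (u : A) = 1 := by
      rw [← map_mul, Units.inv_mul, map_one]
    have h3 : g (π ^ N) * y
        = ∑ i ∈ Finset.range (q' + 1), g (((u⁻¹ : Aˣ) : A) * a i) * x ^ i := by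
      have h4 : g (π ^ N) * y = g ((u⁻¹ : Aˣ) : A) * (g b * y) := by
        rw [hu, map_mul]
        calc g (π ^ N) * y = (g ((u⁻¹ : Aˣ) : A) * g (u : A)) * (g (π ^ N) * y) := by
              rw [hu1, one_mul]
          _ = _ := by ring
      rw [h4, hba, Finset.mul_sum]
      refine Finset.sum_congr rfl fun i _ => ?_
      rw [map_mul, mul_assoc]
    exact mem_aux hg hD hπ h1 N y hy1 _ h3
  · rintro ⟨a, rfl⟩
    have hx : x ∈ V :=
      (ValuationSubring.valuation_le_one_iff V x).1 (dom_x_lt hD hπ h1).le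
    exact sum_mem fun i _ => mul_mem (hD.1 _) (pow_mem hx i)

theorem totRam {g : A →+* L} (hg : Function.Injective g) {π : A} (hπ : Irreducible π)
    {x : L} {q' : ℕ}
    (h1 : ∀ V : ValuationSubring L, EtRam.Dominates A g V →
      V.valuation x ^ (q' + 1) = V.valuation (g π))
    (h2 : ∀ y : L, ∃ (b : A) (a : ℕ → A), b ≠ 0 ∧
      g b * y = ∑ i ∈ Finset.range (q' + 1), g (a i) * x ^ i) :
    EtRam.IsTotallyRamified A g := by
  refine ⟨?_, ?_, ?_⟩
  · obtain ⟨V, h, hloc⟩ := IsLocalRing.exists_factor_valuationRing g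
    refine ⟨V, fun a => h a, fun a ha => ?_⟩
    have hle : V.valuation (g a) ≤ 1 := (ValuationSubring.valuation_le_one_iff V _).2 (h a)
    by_contra hlt
    have heq : V.valuation (g a) = 1 := le_antisymm hle (not_lt.1 hlt)
    have hne : g a ≠ 0 := by
      intro h0
      rw [h0, Valuation.map_zero] at heq
      exact zero_ne_one heq
    have hinv : (g a)⁻¹ ∈ V.toSubring :=
      (ValuationSubring.valuation_le_one_iff V _).1 (by rw [map_inv₀, heq, inv_one])
    have hu : IsUnit ((g.codRestrict V.toSubring h) a) :=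
      IsUnit.of_mul_eq_one (⟨(g a)⁻¹, hinv⟩ : V.toSubring)
        (Subtype.ext (mul_inv_cancel₀ hne))
    have hua : IsUnit a := hloc.map_nonunit a hu
    exact (mem_nonunits_iff.1 ((IsLocalRing.mem_maximalIdeal a).1 ha)) hua
  · intro V V' hV hV'
    apply SetLike.ext
    intro y
    rw [core hg hV hπ (h1 V hV) h2 y, core hg hV' hπ (h1 V' hV') h2 y]
  · intro V hD r
    obtain ⟨⟨y, hy⟩, rfl⟩ := IsLocalRing.residue_surjective r
    obtain ⟨a, ha⟩ := (core hg hD hπ (h1 V hD) h2 y).1 hy
    have hx1 := dom_x_lt hD hπ (h1 V hD)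
    have key : V.valuation (g (a 0) - y) < 1 := by
      have e : g (a 0) - y = -∑ i ∈ Finset.range q', g (a (i + 1)) * x ^ (i + 1) := by
        rw [ha, Finset.sum_range_succ', pow_zero, mul_one]; ring
      rw [e, Valuation.map_neg]
      refine Valuation.map_sum_lt _ one_ne_zero fun i _ => ?_
      rw [Valuation.map_mul, Valuation.map_pow]
      exact (mul_le_of_le_one_left' (dom_le_one hD _)).trans_lt
        (pow_lt_one₀ zero_le' hx1 (Nat.succ_ne_zero i))
    refine ⟨a 0, ?_⟩
    show IsLocalRing.residue V _ = IsLocalRing.residue V _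
    rw [← sub_eq_zero, ← map_sub, IsLocalRing.residue_eq_zero_iff,
      ValuationSubring.valuation_lt_one_iff]
    exact key

theorem sep_case {K : Type u} [Field K] {L : Type u} [Field L] [Algebra K L]
    (pb : PowerBasis K L) (f : K[X]) (hirr : Irreducible f) (hmon : f.Monic)
    (hroot : aeval pb.gen f = 0) (hder : derivative f ≠ 0) : Algebra.IsSeparable K L := by
  have hmin : f = minpoly K pb.gen := minpoly.eq_of_irreducible_of_monic hirr hroot hmon
  have hsep : IsSeparable K pb.gen := by
    show (minpoly K pb.gen).Separable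
    rw [← hmin]
    exact (separable_iff_derivative_ne_zero hirr).2 hder
  rw [← separableClosure.eq_top_iff]
  have h1 : IntermediateField.adjoin K {pb.gen} ≤ separableClosure K L :=
    IntermediateField.adjoin_le_iff.2
      (Set.singleton_subset_iff.2 (mem_separableClosure_iff.2 hsep))
  have h2 : IntermediateField.adjoin K {pb.gen} = ⊤ :=
    IntermediateField.adjoin_eq_top_of_algebra K _ pb.adjoin_gen_eq_top
  rw [h2] at h1
  exact top_le_iff.1 h1

theorem field_case {A K : Type u} [CommRing A] [IsDomain A] [IsDiscreteValuationRing A] [Field K]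
    [Algebra A K] [IsFractionRing A K] {L : Type u} [Field L] [Algebra K L] [Algebra A L]
    [IsScalarTower A K L] {π : A} (hπ : Irreducible π) (n' q' : ℕ) (hn : 1 ≤ n') (hq : 1 ≤ q')
    (pb : PowerBasis K L) (hdim : pb.dim = q' + 1)
    (g : A →+* L) (hg : g = algebraMap A L) (x : L) (hx : x = pb.gen)
    (hroot : x ^ (q' + 1) = g π + g π ^ (n' + 1) * x) :
    EtRam.IsTotallyRamified A g ∧
      ∃ πB b b' : L, πB ∈ integralClosure A L ∧ b ∈ integralClosure A L ∧
        b' ∈ integralClosure A L ∧
        πB ^ (q' + 1) = g π + g π ^ (n' + 1) * b ∧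
        πB ^ (q' + 1) = g π + πB ^ ((n' + 1) * (q' + 1)) * b' := by
  have hginj : Function.Injective g := by
    rw [hg, IsScalarTower.algebraMap_eq A K L]
    exact (algebraMap K L).injective.comp (IsFractionRing.injective A K)
  have hgπ0 : g π ≠ 0 := fun h0 => hπ.ne_zero (hginj (h0.trans (map_zero g).symm))
  obtain ⟨w, hw⟩ : ∃ w : L, w = 1 + g π ^ n' * x := ⟨_, rfl⟩
  have hxw : x ^ (q' + 1) = g π * w := by rw [hroot, hw]; ring
  refine ⟨?_, ?_⟩
  · refine totRam hginj hπ (x := x) (q' := q') ?_ ?_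
    · intro V hD
      have hπ1 : V.valuation (g π) < 1 := dom_pi_lt hD hπ
      have hxle : V.valuation x ≤ 1 := by
        by_contra hgt
        rw [not_le] at hgt
        have h1 : V.valuation (x ^ (q' + 1)) ≤ V.valuation x := by
          rw [hroot]
          refine (Valuation.map_add _ _ _).trans (max_le ?_ ?_)
          · exact (hπ1.le).trans hgt.le
          · rw [Valuation.map_mul, Valuation.map_pow]
            exact mul_le_of_le_one_left' (pow_le_one₀ zero_le' hπ1.le)
        rw [Valuation.map_pow] at h1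
        exact absurd (lt_self_pow₀ hgt (by omega : 1 < q' + 1)) (not_lt.2 h1)
      have hm : V.valuation (g π ^ n' * x) < 1 := by
        rw [Valuation.map_mul, Valuation.map_pow]
        calc V.valuation (g π) ^ n' * V.valuation x ≤ V.valuation (g π) ^ n' :=
              mul_le_of_le_one_right' hxle
          _ < 1 := pow_lt_one₀ zero_le' hπ1 (by omega)
      have hw1 : V.valuation w = 1 := by rw [hw]; exact Valuation.map_one_add_of_lt _ hm
      rw [← Valuation.map_pow, hxw, Valuation.map_mul, hw1, mul_one]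
    · intro y
      obtain ⟨P, hPdeg, hPy⟩ := pb.exists_eq_aeval y
      obtain ⟨b, hbM, hb⟩ := IsLocalization.integerNormalization_spec (nonZeroDivisors A) P
      refine ⟨b, fun i => (IsLocalization.integerNormalization (nonZeroDivisors A) P).coeff i,
        nonZeroDivisors.ne_zero hbM, ?_⟩
      have hPdeg' : P.natDegree < q' + 1 := lt_of_lt_of_eq hPdeg hdim
      rw [hPy, ← hx, aeval_eq_sum_range' hPdeg' x, Finset.mul_sum]
      refine Finset.sum_congr rfl fun i _ => ?_
      have hbi : algebraMap A K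
          ((IsLocalization.integerNormalization (nonZeroDivisors A) P).coeff i)
          = algebraMap A K b * P.coeff i := by
        have h3 : (map (algebraMap A K)
            (IsLocalization.integerNormalization (nonZeroDivisors A) P)).coeff i
            = (b • P).coeff i := by rw [hb]
        rw [coeff_map, coeff_smul, Algebra.smul_def] at h3
        exact h3
      have e1 : g ((IsLocalization.integerNormalization (nonZeroDivisors A) P).coeff i)
          = g b * algebraMap K L (P.coeff i) := by
        rw [hg, IsScalarTower.algebraMap_apply A K L, hbi, map_mul,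
          ← IsScalarTower.algebraMap_apply A K L]
      rw [e1, Algebra.smul_def, mul_assoc]
  · have hxint : IsIntegral A x := by
      refine ⟨X ^ (q' + 1) - (C (π ^ (n' + 1)) * X + C π), monic_X_pow_sub ?_, ?_⟩
      · exact lt_of_le_of_lt degree_linear_le (by exact_mod_cast (by omega : 1 < q' + 1))
      · rw [← aeval_def]
        simp only [map_sub, map_add, map_mul, map_pow, aeval_X, aeval_C]
        rw [← hg]
        linear_combination hroot
    have hxB : x ∈ integralClosure A L := hxint
    have hgB : ∀ a, g a ∈ integralClosure A L := fun a => by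
      rw [hg]; exact Subalgebra.algebraMap_mem _ a
    have hwB : w ∈ integralClosure A L := by
      rw [hw]
      exact add_mem (one_mem _) (mul_mem (pow_mem (hgB π) n') hxB)
    obtain ⟨c, hc⟩ : ∃ c : A, c = π ^ (n' * (q' + 1) + 1) := ⟨_, rfl⟩
    have hm : (w - 1) ^ (q' + 1) = g c * w := by
      have h5 : w - 1 = g π ^ n' * x := by rw [hw]; ring
      rw [h5, mul_pow, hxw, hc, map_pow]
      ring
    obtain ⟨Pw, hPw⟩ : ∃ Pw : A[X], Pw = (X - 1) ^ (q' + 1) - C c * X := ⟨_, rfl⟩
    have hPwroot : aeval w Pw = 0 := by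
      rw [hPw]
      simp only [map_sub, map_mul, map_pow, map_one, aeval_X, aeval_C]
      rw [← hg, hm, sub_self]
    have hPw0 : Pw.coeff 0 = (-1) ^ (q' + 1) := by
      rw [hPw, coeff_zero_eq_eval_zero]
      simp
    have hdiv : aeval w (divX Pw) * w + g (Pw.coeff 0) = 0 := by
      have h3 := congrArg (aeval w) (divX_mul_X_add Pw)
      rw [map_add, map_mul, aeval_X, aeval_C, hPwroot, ← hg] at h3
      exact h3
    obtain ⟨s, hs⟩ : ∃ s : L, s = aeval w (divX Pw) := ⟨_, rfl⟩
    have hsB : s ∈ integralClosure A L := by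
      rw [hs]
      exact Algebra.adjoin_le (Set.singleton_subset_iff.2 hwB)
        (aeval_mem_adjoin_singleton A w)
    obtain ⟨ε, hε⟩ : ∃ ε : L, ε = g ((-1) ^ (q' + 1)) := ⟨_, rfl⟩
    have hεε : ε * ε = 1 := by
      rw [hε, ← map_mul, ← mul_pow]
      simp
    have hsw : s * w + ε = 0 := by rw [hs, hε, ← hPw0]; exact hdiv
    obtain ⟨t, ht⟩ : ∃ t : L, t = -(ε * s) := ⟨_, rfl⟩
    have hwt : w * t = 1 := by
      rw [ht]
      linear_combination (-ε) * hsw + hεε
    have htB : t ∈ integralClosure A L := by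
      rw [ht]
      exact neg_mem (mul_mem (by rw [hε]; exact hgB _) hsB)
    refine ⟨x, x, x * t ^ (n' + 1), hxB, hxB, mul_mem hxB (pow_mem htB _), hroot, ?_⟩
    have e1 : x ^ ((n' + 1) * (q' + 1)) = g π ^ (n' + 1) * w ^ (n' + 1) := by
      rw [pow_mul', hxw, mul_pow]
    have e2 : w ^ (n' + 1) * t ^ (n' + 1) = 1 := by rw [← mul_pow, hwt, one_pow]
    rw [e1, hroot]
    linear_combination (-(g π ^ (n' + 1) * x)) * e2

theorem main_aux (A K : Type u) [CommRing A] [IsDomain A] [IsDiscreteValuationRing A] [Field K]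
    [Algebra A K] [IsFractionRing A K] (π : A) (hπ : Irreducible π) (n' q' : ℕ)
    (hn : 1 ≤ n') (hq : 1 ≤ q') :
    ∃ (L : Type u) (_ : Field L) (_ : Algebra K L) (_ : Algebra A L) (_ : IsScalarTower A K L),
      Module.finrank K L = q' + 1 ∧ Algebra.IsSeparable K L ∧
      EtRam.IsTotallyRamified A (algebraMap A L) ∧
      ∃ πB b b' : L, πB ∈ integralClosure A L ∧ b ∈ integralClosure A L ∧
        b' ∈ integralClosure A L ∧
        πB ^ (q' + 1) = algebraMap A L π + algebraMap A L π ^ (n' + 1) * b ∧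
        πB ^ (q' + 1) = algebraMap A L π + πB ^ ((n' + 1) * (q' + 1)) * b' := by
  classical
  obtain ⟨d, hd⟩ : ∃ d : A, d = π ^ (n' + 1) := ⟨_, rfl⟩
  obtain ⟨fA, hfA⟩ : ∃ fA : A[X], fA = X ^ (q' + 1) - (C d * X + C π) := ⟨_, rfl⟩
  have hdeglt : (C d * X + C π : A[X]).degree < ((q' + 1 : ℕ) : WithBot ℕ) :=
    lt_of_le_of_lt degree_linear_le (by exact_mod_cast (by omega : 1 < q' + 1))
  have hmon : fA.Monic := by rw [hfA]; exact monic_X_pow_sub hdeglt
  have hnd : fA.natDegree = q' + 1 := by
    have h1 : (C d * X + C π : A[X]).natDegree < (X ^ (q' + 1) : A[X]).natDegree := by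
      rw [natDegree_X_pow]
      exact lt_of_le_of_lt natDegree_linear_le (by omega)
    rw [hfA, natDegree_sub_eq_left_of_natDegree_lt h1, natDegree_X_pow]
  have hc0 : fA.coeff 0 = -π := by
    rw [hfA]; simp [coeff_X_pow, show ¬ (0 = q' + 1) by omega]
  have hc1 : fA.coeff 1 = -d := by
    rw [hfA]; simp [coeff_X_pow, show ¬ (1 = q' + 1) by omega, show q' ≠ 0 by omega]
  have hP : IsLocalRing.maximalIdeal A = Ideal.span {π} := hπ.maximalIdeal_eq
  have hπP : π ∈ IsLocalRing.maximalIdeal A := by
    rw [hP]; exact Ideal.mem_span_singleton_self π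
  have hdP : d ∈ IsLocalRing.maximalIdeal A := by
    rw [hd, pow_succ]; exact Ideal.mul_mem_left _ _ hπP
  have hdeg : fA.degree = ((q' + 1 : ℕ) : WithBot ℕ) := by
    rw [degree_eq_natDegree hmon.ne_zero, hnd]
  have hirrA : Irreducible fA := by
    refine irreducible_of_eisenstein_criterion (P := IsLocalRing.maximalIdeal A)
      (IsLocalRing.maximalIdeal.isMaximal A).isPrime ?_ ?_ ?_ ?_ hmon.isPrimitive
    · rw [hmon.leadingCoeff]
      exact fun h => mem_nonunits_iff.1 ((IsLocalRing.mem_maximalIdeal 1).1 h) isUnit_one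
    · intro i hi
      have hi' : i < q' + 1 := by
        rw [hdeg] at hi
        exact_mod_cast hi
      rw [hfA, coeff_sub, coeff_X_pow, if_neg (ne_of_lt hi'), zero_sub, Ideal.neg_mem_iff,
        coeff_add, coeff_C_mul, coeff_C]
      refine add_mem (Ideal.mul_mem_right _ _ hdP) ?_
      split_ifs
      · exact hπP
      · exact zero_mem _
    · rw [hdeg]
      exact_mod_cast Nat.succ_pos q'
    · rw [hc0, hP, Ideal.span_singleton_pow, Ideal.mem_span_singleton, dvd_neg]
      intro hdvd
      have h2 : π * π ∣ π * 1 := by rwa [mul_one, ← sq]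
      exact hπ.not_isUnit (isUnit_of_dvd_one ((mul_dvd_mul_iff_left hπ.ne_zero).1 h2))
  obtain ⟨f, hf⟩ : ∃ f : K[X], f = fA.map (algebraMap A K) := ⟨_, rfl⟩
  have hirr : Irreducible f := by
    rw [hf]; exact (hmon.irreducible_iff_irreducible_map_fraction_map).1 hirrA
  have hfmon : f.Monic := by rw [hf]; exact hmon.map _
  have hf0 : f ≠ 0 := hfmon.ne_zero
  have hfnd : f.natDegree = q' + 1 := by rw [hf, hmon.natDegree_map, hnd]
  haveI : Fact (Irreducible f) := ⟨hirr⟩
  let pb := AdjoinRoot.powerBasis hf0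
  have hgen : pb.gen = AdjoinRoot.root f := AdjoinRoot.powerBasis_gen hf0
  have hdim : pb.dim = q' + 1 := by rw [AdjoinRoot.powerBasis_dim hf0, hfnd]
  have hrootK : aeval pb.gen f = 0 := by
    rw [hgen, AdjoinRoot.aeval_eq, AdjoinRoot.mk_self]
  have hrootA : aeval pb.gen fA = 0 := by
    rw [← aeval_map_algebraMap K pb.gen fA, ← hf]; exact hrootK
  have hroot : pb.gen ^ (q' + 1) = algebraMap A (AdjoinRoot f) π
      + algebraMap A (AdjoinRoot f) π ^ (n' + 1) * pb.gen := by
    have h := hrootA
    rw [hfA] at h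
    simp only [map_sub, map_add, map_mul, map_pow, aeval_X, aeval_C] at h
    rw [hd, map_pow] at h
    linear_combination h
  have hder : derivative f ≠ 0 := by
    intro h0
    have h1 : (derivative f).coeff 0 = 0 := by rw [h0, coeff_zero]
    rw [coeff_derivative] at h1
    simp only [zero_add, Nat.cast_zero, mul_one] at h1
    rw [hf, coeff_map, hc1, map_neg, neg_eq_zero] at h1
    have h2 : d = 0 := (IsFractionRing.injective A K) (h1.trans (map_zero _).symm)
    rw [hd] at h2
    exact hπ.ne_zero ((pow_eq_zero_iff (Nat.succ_ne_zero n')).1 h2)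
  obtain ⟨htr, hex⟩ := field_case (K := K) hπ n' q' hn hq pb hdim
    (algebraMap A (AdjoinRoot f)) rfl pb.gen rfl hroot
  exact ⟨AdjoinRoot f, inferInstance, inferInstance, inferInstance, inferInstance,
    by rw [pb.finrank, hdim], sep_case pb f hirr hfmon hrootK hder, htr, hex⟩

end aux


/-- Let A be a discrete valuation ring, π a uniformizer, K its field of fractions, and suppose the
residue field of A has characteristic p > 0. For every n > 1 and every power q of p there is a
separable degree-q extension L/K that is totally ramified with respect to A and whose ring of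
integers B (the integral closure of A in L) contains elements π_B, b, b' with π_B^q = π + πⁿ·b and
π_B^q = π + π_B^(nq)·b' (π_B is then a uniformizer of B and the ramification index is q). -/
theorem result (p : ℕ) (hp : p.Prime) (A K : Type u)
    [CommRing A] [IsDomain A] [IsDiscreteValuationRing A] [Field K] [Algebra A K] [IsFractionRing A K]
    [CharP (IsLocalRing.ResidueField A) p] (π : A) (hπ : IsLocalRing.maximalIdeal A = Ideal.span {π})
    (n : ℕ) (hn : 1 < n) (k : ℕ) :
    ∃ (L : Type u) (_ : Field L) (_ : Algebra K L) (_ : Algebra A L) (_ : IsScalarTower A K L),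
      Module.finrank K L = p ^ k ∧ Algebra.IsSeparable K L ∧ EtRam.IsTotallyRamified A (algebraMap A L) ∧
      ∃ πB b b' : L, πB ∈ integralClosure A L ∧ b ∈ integralClosure A L ∧ b' ∈ integralClosure A L ∧
        πB ^ (p ^ k) = algebraMap A L π + algebraMap A L π ^ n * b ∧
        πB ^ (p ^ k) = algebraMap A L π + πB ^ (n * p ^ k) * b' := by
  have hirrπ : Irreducible π := (IsDiscreteValuationRing.irreducible_iff_uniformizer π).2 hπ
  rcases Nat.eq_zero_or_pos k with hk | hk
  · subst hk
    have hinj : Function.Injective (algebraMap A K) := IsFractionRing.injective A K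
    refine ⟨K, inferInstance, Algebra.id K, inferInstance, inferInstance, ?_, ?_, ?_, ?_⟩
    · rw [pow_zero]; exact Module.finrank_self K
    · infer_instance
    · refine totRam hinj hirrπ (x := algebraMap A K π) (q' := 0) ?_ ?_
      · intro V _
        rw [zero_add, pow_one]
      · intro y
        obtain ⟨a, b, hb, rfl⟩ := IsFractionRing.div_surjective A y
        have hb0 : b ≠ 0 := nonZeroDivisors.ne_zero hb
        have hgb : algebraMap A K b ≠ 0 := fun h => hb0 (hinj (h.trans (map_zero _).symm))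
        refine ⟨b, fun _ => a, hb0, ?_⟩
        rw [zero_add, Finset.sum_range_one, pow_zero, mul_one]
        field_simp
    · refine ⟨algebraMap A K π, 0, 0, Subalgebra.algebraMap_mem _ π, zero_mem _, zero_mem _,
        ?_, ?_⟩
      · simp
      · simp
  · obtain ⟨n', rfl⟩ : ∃ n', n = n' + 1 := ⟨n - 1, by omega⟩
    have hq2 : 2 ≤ p ^ k :=
      calc 2 ≤ p := hp.two_le
        _ = p ^ 1 := (pow_one p).symm
        _ ≤ p ^ k := Nat.pow_le_pow_right hp.pos hk
    obtain ⟨q', hq'⟩ : ∃ q', p ^ k = q' + 1 := ⟨p ^ k - 1, by omega⟩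
    rw [hq']
    exact main_aux A K π hirrπ n' q' (by omega) (by omega)


end Groth.Agent.S7157
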