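import Groth.Statements.S7155
import Mathlib
import Groth.Agent.Lib.Helper10.EppAS7
import Groth.Agent.S6332
import Groth.Agent.S7157

set_option autoImplicit false
universe u
open EtAlg

namespace Groth.Agent.S7155

set_option linter.style.haveILetI false
set_option linter.unusedSectionVars false

open IsLocalRing Groth.Agent.Lib.helper10 Groth.Agent.Lib.helper10.EppAS

theorem main (p : ℕ) (hp : p.Prime) (A B C K L M : Type u)
    [CommRing A] [IsDomain A] [IsDiscreteValuationRing A] [CommRing B] [IsDomain B] [IsDiscreteValuationRing B]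
    [CommRing C] [IsDomain C] [IsDiscreteValuationRing C]
    [Algebra A B] [Algebra B C] [Algebra A C] [IsScalarTower A B C]
    (hAB : Function.Injective (algebraMap A B)) (hBC : Function.Injective (algebraMap B C))
    [IsLocalHom (algebraMap A B)] [IsLocalHom (algebraMap B C)]
    [Field K] [Field L] [Field M] [Algebra A K] [IsFractionRing A K] [Algebra B L] [IsFractionRing B L]
    [Algebra C M] [IsFractionRing C M] [Algebra K L] [Algebra L M] [Algebra K M] [IsScalarTower K L M]
    [Algebra A L] [IsScalarTower A K L] [IsScalarTower A B L] [Algebra B M] [IsScalarTower B L M] [IsScalarTower B C M]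
    [Algebra A M] [IsScalarTower A K M] [IsScalarTower A C M]
    (hw : EtRam.IsWeaklyUnramified A B) [CharP K p] [IsGalois L M] (hdeg : Module.finrank L M = p)
    (hk : ∀ x : IsLocalRing.ResidueField B, (∀ n : ℕ, ∃ y : IsLocalRing.ResidueField B, y ^ (p ^ n) = x) ↔
      x ∈ Set.range (algebraMap (IsLocalRing.ResidueField A) (IsLocalRing.ResidueField B))) :
    ∃ (K₁ : Type u) (_ : Field K₁) (_ : Algebra K K₁), FiniteDimensional K K₁ ∧ Algebra.IsSeparable K K₁ ∧
      EtRam.IsTotallyRamified A ((algebraMap K K₁).comp (algebraMap A K)) ∧ EtRam.IsWeakSolution C K M K₁ := by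
  classical
  haveI : Fact p.Prime := ⟨hp⟩
  haveI : CharP L p := charP_of_injective_algebraMap (algebraMap K L).injective p
  haveI : CharP A p := (algebraMap A K).charP (IsFractionRing.injective A K) p
  haveI : CharP B p := (algebraMap B L).charP (IsFractionRing.injective B L) p
  haveI hκA : CharP (ResidueField A) p := by
    rw [CharP.charP_iff_prime_eq_zero hp, ← map_natCast (residue A), CharP.cast_eq_zero,
      map_zero]
  haveI hκB : CharP (ResidueField B) p := by
    rw [CharP.charP_iff_prime_eq_zero hp, ← map_natCast (residue B), CharP.cast_eq_zero,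
      map_zero]
  haveI : FiniteDimensional L M := Module.finite_of_finrank_pos (by rw [hdeg]; exact hp.pos)
  obtain ⟨z, ⟨ξ, hξz⟩, hzgen⟩ := Groth.Agent.S6332.result (K := L) (L := M) p hdeg
  have hz : z ^ p - z = algebraMap L M ξ := hξz.symm
  obtain ⟨π, hπirr⟩ := IsDiscreteValuationRing.exists_irreducible A
  have hπ : maximalIdeal A = Ideal.span {π} := hπirr.maximalIdeal_eq
  have hperf : ∀ x : ResidueField A, ∃ y : ResidueField A, y ^ p = x := by
    intro x
    have h1 : algebraMap (ResidueField A) (ResidueField B) x ∈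
        Set.range (algebraMap (ResidueField A) (ResidueField B)) := ⟨x, rfl⟩
    obtain ⟨y', hy'⟩ := (hk _).mpr h1 1
    rw [pow_one] at hy'
    have h2 : y' ∈ Set.range (algebraMap (ResidueField A) (ResidueField B)) := by
      rw [← hk]
      intro n
      obtain ⟨y'', hy''⟩ := (hk _).mpr h1 (n + 1)
      refine ⟨y'', ?_⟩
      apply frobenius_inj (ResidueField B) p
      rw [frobenius_def, frobenius_def, ← pow_mul, ← pow_succ, hy'', hy']
    obtain ⟨y₀, rfl⟩ := h2
    refine ⟨y₀, (algebraMap (ResidueField A) (ResidueField B)).injective ?_⟩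
    rw [map_pow, hy']
  rcases analysis p A B K L hw hk π hπ ξ with ⟨a, ha⟩ | ⟨N, r, y, u, s, j₀, h1, h2, h3, h4, h5, h6⟩
  · obtain ⟨c, n, rfl⟩ := exists_mon A K hπ a
    rcases red_A A K p π hperf hπ n c with ⟨y₀, hy₀⟩ | ⟨y₀, m, a₀, hm, hpm, heq⟩
    · obtain ⟨K₁, _, _, _, _, hdegK₁, hsep, htr, -⟩ :=
        Groth.Agent.S7157.result p hp A K π hπ 2 (by norm_num) 0
      haveI : FiniteDimensional K K₁ :=
        Module.finite_of_finrank_pos (by rw [hdegK₁]; exact pow_pos hp.pos 0)
      haveI := hsep
      have ht : EtRam.IsTotallyRamified A ((algebraMap K K₁).comp (algebraMap A K)) := by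
        rw [← IsScalarTower.algebraMap_eq A K K₁]; exact htr
      refine ⟨K₁, inferInstance, inferInstance, inferInstance, inferInstance, ht, ?_⟩
      apply ws_of_good p hp A B C K L M K₁ hw ht z ξ hz hzgen
      intro F₁ _ _ _ _ _ _ hgen₁ W₁ hdom₁
      obtain ⟨a', ha'⟩ := hy₀
      exact hgood_of_mem p A B K L K₁ ξ _ ha ⟨algebraMap K K₁ y₀, a', by
        have ha'' : algebraMap A K a' = mon A K π c n - (y₀ ^ p - y₀) := ha'
        rw [ha'', map_sub, map_sub, map_pow]⟩ F₁ W₁ hdom₁
    · obtain ⟨K₁, _, _, hfd, hsep, ht, z₁, hz₁⟩ := as_ext p hp A K hπ _ m a₀ hm hpm heq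
      haveI := hfd
      haveI := hsep
      refine ⟨K₁, inferInstance, inferInstance, inferInstance, inferInstance, ht, ?_⟩
      apply ws_of_good p hp A B C K L M K₁ hw ht z ξ hz hzgen
      intro F₁ _ _ _ _ _ _ hgen₁ W₁ hdom₁
      haveI : CharP K₁ p := charP_of_injective_algebraMap (algebraMap K K₁).injective p
      exact hgood_of_mem p A B K L K₁ ξ _ ha ⟨algebraMap K K₁ y₀ + z₁, 0, by
        rw [add_pow_char, map_zero, map_zero]
        have : algebraMap K K₁ (mon A K π c n) - (algebraMap K K₁ y₀ ^ p + z₁ ^ p -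
            (algebraMap K K₁ y₀ + z₁)) =
            algebraMap K K₁ (mon A K π c n - (y₀ ^ p - y₀)) - (z₁ ^ p - z₁) := by
          rw [map_sub, map_sub, map_pow]; ring
        rw [this, hz₁, sub_self]⟩ F₁ W₁ hdom₁
  · obtain ⟨K₁, _, _, _, _, hdegK₁, hsep, htr, πB, b, b', hπBint, hbint, hb'int, hrel, -⟩ :=
      Groth.Agent.S7157.result p hp A K π hπ (N + 2) (by omega) r
    haveI : FiniteDimensional K K₁ :=
      Module.finite_of_finrank_pos (by rw [hdegK₁]; exact pow_pos hp.pos r)
    haveI := hsep
    have ht : EtRam.IsTotallyRamified A ((algebraMap K K₁).comp (algebraMap A K)) := by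
      rw [← IsScalarTower.algebraMap_eq A K K₁]; exact htr
    refine ⟨K₁, inferInstance, inferInstance, inferInstance, inferInstance, ht, ?_⟩
    apply ws_of_good p hp A B C K L M K₁ hw ht z ξ hz hzgen
    intro F₁ _ _ _ _ _ _ hgen₁ W₁ hdom₁
    have hbint' : ((algebraMap K K₁).comp (algebraMap A K)).IsIntegralElem b := by
      rw [← IsScalarTower.algebraMap_eq A K K₁]; exact hbint
    have hrel' : πB ^ (p ^ r) = algebraMap K K₁ (algebraMap A K π) +
        algebraMap K K₁ (algebraMap A K π) ^ (N + 2) * b := by
      rw [← IsScalarTower.algebraMap_apply A K K₁]; exact hrel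
    exact hgood_ram p A B K L K₁ hw ht hπ (le_refl (N + 2)) hdegK₁ πB b hbint' hrel'
      y u s j₀ h1 h2 h3 h4 h5 ξ h6 F₁ hgen₁ W₁ hdom₁



/-- Let A → B → C be injective local homomorphisms of discrete valuation rings whose fields of fractions
are K ⊆ L ⊆ M, where A → B is weakly unramified, K has characteristic p, M/L is Galois of degree p,
and κ_A, inside κ_B, is exactly the set of elements admitting a pⁿ-th root for every n. Then some
finite separable extension K₁/K that is totally ramified with respect to A is a weak solution for A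
→ C. (The published statement asks for K₁/K Galois; this row asks only that K₁/K be separable, which
is what the printed construction provides.) -/
theorem result (p : ℕ) (hp : p.Prime) (A B C K L M : Type u)
    [CommRing A] [IsDomain A] [IsDiscreteValuationRing A] [CommRing B] [IsDomain B] [IsDiscreteValuationRing B]
    [CommRing C] [IsDomain C] [IsDiscreteValuationRing C]
    [Algebra A B] [Algebra B C] [Algebra A C] [IsScalarTower A B C]
    (hAB : Function.Injective (algebraMap A B)) (hBC : Function.Injective (algebraMap B C))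
    [IsLocalHom (algebraMap A B)] [IsLocalHom (algebraMap B C)]
    [Field K] [Field L] [Field M] [Algebra A K] [IsFractionRing A K] [Algebra B L] [IsFractionRing B L]
    [Algebra C M] [IsFractionRing C M] [Algebra K L] [Algebra L M] [Algebra K M] [IsScalarTower K L M]
    [Algebra A L] [IsScalarTower A K L] [IsScalarTower A B L] [Algebra B M] [IsScalarTower B L M] [IsScalarTower B C M]
    [Algebra A M] [IsScalarTower A K M] [IsScalarTower A C M]
    (hw : EtRam.IsWeaklyUnramified A B) [CharP K p] [IsGalois L M] (hdeg : Module.finrank L M = p)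
    (hk : ∀ x : IsLocalRing.ResidueField B, (∀ n : ℕ, ∃ y : IsLocalRing.ResidueField B, y ^ (p ^ n) = x) ↔
      x ∈ Set.range (algebraMap (IsLocalRing.ResidueField A) (IsLocalRing.ResidueField B))) :
    ∃ (K₁ : Type u) (_ : Field K₁) (_ : Algebra K K₁), FiniteDimensional K K₁ ∧ Algebra.IsSeparable K K₁ ∧
      EtRam.IsTotallyRamified A ((algebraMap K K₁).comp (algebraMap A K)) ∧ EtRam.IsWeakSolution C K M K₁ := by
  exact main p hp A B C K L M hAB hBC hw hdeg hk

end Groth.Agent.S7155
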