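import Groth.Statements.S7156
import Mathlib
import Groth.Agent.Lib.Helper10.EppPI6
import Groth.Agent.S7157
import Groth.Agent.S1984

set_option autoImplicit false
universe u
open EtAlg

namespace Groth.Agent.S7156

set_option linter.style.haveILetI false
set_option linter.unusedSectionVars false

open IsLocalRing Polynomial Groth.Agent.Lib.helper10 Groth.Agent.Lib.helper10.EppPI

open TensorProduct in
theorem main (p : ℕ) (hp : p.Prime) (A B C K L M : Type u)
    [CommRing A] [IsDomain A] [IsDiscreteValuationRing A] [CommRing B] [IsDomain B] [IsDiscreteValuationRing B]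
    [CommRing C] [IsDomain C] [IsDiscreteValuationRing C]
    [Algebra A B] [Algebra B C] [Algebra A C] [IsScalarTower A B C]
    (hAB : Function.Injective (algebraMap A B)) (hBC : Function.Injective (algebraMap B C))
    [IsLocalHom (algebraMap A B)] [IsLocalHom (algebraMap B C)]
    [Field K] [Field L] [Field M] [Algebra A K] [IsFractionRing A K] [Algebra B L] [IsFractionRing B L]
    [Algebra C M] [IsFractionRing C M] [Algebra K L] [Algebra L M] [Algebra K M] [IsScalarTower K L M]
    [Algebra A L] [IsScalarTower A K L] [IsScalarTower A B L] [Algebra B M] [IsScalarTower B L M] [IsScalarTower B C M]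
    [Algebra A M] [IsScalarTower A K M] [IsScalarTower A C M]
    (π : A) (hπ : IsLocalRing.maximalIdeal A = Ideal.span {π}) (hB : CAlg.IsNagata B)
    (hw : EtRam.IsWeaklyUnramified A B) [IsPurelyInseparable L M] (hdeg : Module.finrank L M = p) :
    EtRam.IsWeaklyUnramified A C ∨
      (∃ c : C, c ^ p = algebraMap A C π ∧ Algebra.adjoin B {c} = ⊤) ∨
      ∃ (K₁ : Type u) (_ : Field K₁) (_ : Algebra K K₁),
        Module.finrank K K₁ = p ∧ Algebra.IsSeparable K K₁ ∧
          EtRam.IsTotallyRamified A ((algebraMap K K₁).comp (algebraMap A K)) ∧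
          IsField (L ⊗[K] K₁) ∧ IsField (M ⊗[K] K₁) ∧
          EtRam.IsWeakSolution B K L K₁ ∧ EtRam.IsWeakSolution C K M K₁ := by
  classical
  haveI : Fact p.Prime := ⟨hp⟩
  haveI : CharP L p := charP_of_finrank_prime L M hp hdeg
  haveI : CharP K p := (algebraMap K L).charP (algebraMap K L).injective p
  haveI : CharP A p := (algebraMap A K).charP (IsFractionRing.injective A K) p
  haveI : CharP B p := (algebraMap B L).charP (IsFractionRing.injective B L) p
  haveI hκA : CharP (ResidueField A) p := by
    rw [CharP.charP_iff_prime_eq_zero hp, ← map_natCast (residue A), CharP.cast_eq_zero,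
      map_zero]
  have hπB : maximalIdeal B = Ideal.span {algebraMap A B π} := by
    have h := hw
    unfold EtRam.IsWeaklyUnramified at h
    rw [← h, hπ, Ideal.map_span, Set.image_singleton]
  have hπBirr : Irreducible (algebraMap A B π) :=
    (IsDiscreteValuationRing.irreducible_iff_uniformizer _).mpr hπB
  obtain ⟨πC, hπC⟩ := IsDiscreteValuationRing.exists_irreducible C
  rcases ram_alt B C L M hp hdeg hBC hπB hπC with h1 | ⟨u, hu⟩
  · left
    unfold EtRam.IsWeaklyUnramified
    rw [hπ, Ideal.map_span, Set.image_singleton, h1, IsScalarTower.algebraMap_apply A B C]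
  · right
    have hγL : algebraMap C M πC ∉ Set.range (algebraMap L M) := by
      rintro ⟨l, hl⟩
      obtain ⟨b, hb⟩ := mem_B_of_mem_C B C L M l πC hl.symm
      have hbC : algebraMap B C b = πC := by
        apply IsFractionRing.injective C M
        rw [← hl, ← hb, ← IsScalarTower.algebraMap_apply B C M,
          ← IsScalarTower.algebraMap_apply B L M]
      have hbp : b ^ p = u * algebraMap A B π := hBC (by rw [map_pow, hbC, hu])
      have hirr : Irreducible (b ^ p) := by
        rw [hbp]; exact (irreducible_units_mul u).mpr hπBirr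
      exact not_irreducible_pow hp.ne_one hirr
    haveI := IntermediateField.isSimpleOrder_of_finrank_prime L M (hdeg ▸ hp)
    have hcgen : IntermediateField.adjoin L {algebraMap C M πC} = ⊤ := by
      rcases eq_bot_or_eq_top (IntermediateField.adjoin L {algebraMap C M πC}) with h | h
      · exfalso
        apply hγL
        have : algebraMap C M πC ∈ IntermediateField.adjoin L {algebraMap C M πC} :=
          IntermediateField.mem_adjoin_simple_self L _
        rw [h, IntermediateField.mem_bot] at this
        exact this
      · exact h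
    have hc₀ : (algebraMap C M πC) ^ p =
        algebraMap L M (algebraMap B L (u * algebraMap A B π)) := by
      rw [← map_pow, hu, ← IsScalarTower.algebraMap_apply B C M,
        IsScalarTower.algebraMap_apply B L M]
    rcases expansion_dichotomy B p hπB (u : B) with ⟨m, f, b, hufb, hb⟩ | hβ
    · right
      obtain ⟨K₁, _, _, _, _, hdegK₁, hsep, htr, ϖ₁, b₁, b', hϖint, hbint, hb'int, hrel, -⟩ :=
        Groth.Agent.S7157.result p hp A K π hπ (m + 2) (by omega) 1
      rw [pow_one] at hdegK₁ hrel
      haveI : FiniteDimensional K K₁ :=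
        Module.finite_of_finrank_pos (by rw [hdegK₁]; exact hp.pos)
      haveI := hsep
      have ht : EtRam.IsTotallyRamified A ((algebraMap K K₁).comp (algebraMap A K)) := by
        rw [← IsScalarTower.algebraMap_eq A K K₁]; exact htr
      have hbint' : ((algebraMap K K₁).comp (algebraMap A K)).IsIntegralElem b₁ := by
        rw [← IsScalarTower.algebraMap_eq A K K₁]; exact hbint
      have hrel' : ϖ₁ ^ p = algebraMap K K₁ (algebraMap A K π) +
          algebraMap K K₁ (algebraMap A K π) ^ (m + 2) * b₁ := by
        rw [← IsScalarTower.algebraMap_apply A K K₁]; exact hrel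
      have Hp : ∀ (F₁ : Type u) [Field F₁] [Algebra K F₁] [Algebra L F₁] [Algebra K₁ F₁]
          [IsScalarTower K L F₁] [IsScalarTower K K₁ F₁],
          Algebra.adjoin L (Set.range (algebraMap K₁ F₁)) = ⊤ →
          ∀ W₁ : ValuationSubring F₁,
            EtRam.Dominates B ((algebraMap L F₁).comp (algebraMap B L)) W₁ →
            ∃ g t β : F₁, t ≠ 0 ∧
              algebraMap L F₁ (algebraMap B L (u * algebraMap A B π)) = g ^ p + t ^ p * β ∧
              β ∈ W₁ ∧ ∀ r ∈ W₁, ¬ W₁.valuation (β - r ^ p) < 1 :=
        fun F₁ _ _ _ _ _ _ hgen₁ W₁ hdom₁ =>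
          hp_alpha p A B K L K₁ hw ht hπ m hdegK₁ ϖ₁ b₁ hbint' hrel' u f b hufb hb F₁ hgen₁ W₁
            hdom₁
      obtain ⟨hf1, hws1⟩ := Groth.Agent.S1984.main A B K L K₁ hw ht
      refine ⟨K₁, inferInstance, inferInstance, hdegK₁, hsep, ht, hf1, ?_, hws1, ?_⟩
      · exact isField_of_pgood p hp A B C K L M K₁ hBC hw ht _ _ hc₀ hcgen hdeg Hp
      · exact ws_of_pgood p hp A B C K L M K₁ hw ht _ _ hc₀ hcgen hdeg Hp
    · left
      have hN := isN2_of_isNagata B hB
      obtain ⟨c₀, hc₀'⟩ := exists_root_of_beta p B C L M hdeg hN hπBirr u πC hu hcgen hβ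
      obtain ⟨c, hc, hadj⟩ := adjoin_eq_top_of_root p B C L M hp hdeg hBC hπBirr c₀ hc₀'
      exact ⟨c, by rw [hc, ← IsScalarTower.algebraMap_apply A B C], hadj⟩



open TensorProduct in
/-- Let A → B → C be injective local homomorphisms of discrete valuation rings whose fields of fractions
are K ⊆ L ⊆ M, and let π be a uniformizer of A; suppose B is a Nagata ring, A → B is weakly
unramified, and M/L is purely inseparable of prime degree p. Then one of the following holds: the
extension A → C is itself weakly unramified; or else C = B[π^(1/p)]; or else there is a separable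
degree-p extension K₁/K, totally ramified with respect to A, for which L ⊗_K K₁ and M ⊗_K K₁ are
fields and the integral closures A₁ → B₁ → C₁ are weakly unramified extensions, i.e. K₁ is a weak
solution for A ⊆ B and for A ⊆ C. -/
theorem result (p : ℕ) (hp : p.Prime) (A B C K L M : Type u)
    [CommRing A] [IsDomain A] [IsDiscreteValuationRing A] [CommRing B] [IsDomain B] [IsDiscreteValuationRing B]
    [CommRing C] [IsDomain C] [IsDiscreteValuationRing C]
    [Algebra A B] [Algebra B C] [Algebra A C] [IsScalarTower A B C]
    (hAB : Function.Injective (algebraMap A B)) (hBC : Function.Injective (algebraMap B C))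
    [IsLocalHom (algebraMap A B)] [IsLocalHom (algebraMap B C)]
    [Field K] [Field L] [Field M] [Algebra A K] [IsFractionRing A K] [Algebra B L] [IsFractionRing B L]
    [Algebra C M] [IsFractionRing C M] [Algebra K L] [Algebra L M] [Algebra K M] [IsScalarTower K L M]
    [Algebra A L] [IsScalarTower A K L] [IsScalarTower A B L] [Algebra B M] [IsScalarTower B L M] [IsScalarTower B C M]
    [Algebra A M] [IsScalarTower A K M] [IsScalarTower A C M]
    (π : A) (hπ : IsLocalRing.maximalIdeal A = Ideal.span {π}) (hB : CAlg.IsNagata B)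
    (hw : EtRam.IsWeaklyUnramified A B) [IsPurelyInseparable L M] (hdeg : Module.finrank L M = p) :
    EtRam.IsWeaklyUnramified A C ∨
      (∃ c : C, c ^ p = algebraMap A C π ∧ Algebra.adjoin B {c} = ⊤) ∨
      ∃ (K₁ : Type u) (_ : Field K₁) (_ : Algebra K K₁),
        Module.finrank K K₁ = p ∧ Algebra.IsSeparable K K₁ ∧
          EtRam.IsTotallyRamified A ((algebraMap K K₁).comp (algebraMap A K)) ∧
          IsField (L ⊗[K] K₁) ∧ IsField (M ⊗[K] K₁) ∧
          EtRam.IsWeakSolution B K L K₁ ∧ EtRam.IsWeakSolution C K M K₁ := by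
  exact main p hp A B C K L M hAB hBC π hπ hB hw hdeg

end Groth.Agent.S7156
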