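import Groth.Statements.S7159
import Mathlib
import Groth.Agent.Lib.Helper10.DvrExt6
import Groth.Agent.Lib.Helper10.KumExt1

set_option autoImplicit false
universe u
open EtAlg

namespace Groth.Agent.S7159

set_option linter.style.haveILetI false
set_option linter.unusedSectionVars false

open Groth.Agent.Lib.helper10 IsLocalRing Polynomial IsDedekindDomain

/-- `P` is monic of degree `p`. -/
theorem P_monic {A : Type u} [CommRing A] [IsDomain A] {p : ℕ} (hp : p.Prime) {t : A} (ht : t ≠ 0)
    {P : A[X]} (hP : C (t ^ p) * P = (1 + C t * X) ^ p - 1) : P.Monic ∧ P.natDegree = p := by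
  have hq : (1 + C t * X : A[X]) = C t * X + C 1 := by rw [C_1]; ring
  have hqd : (C t * X + C 1 : A[X]).natDegree = 1 := natDegree_linear ht
  have hql : (C t * X + C 1 : A[X]).leadingCoeff = t := leadingCoeff_linear ht
  have hRd : ((1 + C t * X) ^ p - 1 : A[X]).natDegree = p := by
    rw [hq, natDegree_sub_eq_left_of_natDegree_lt, natDegree_pow, hqd, mul_one]
    rw [natDegree_one, natDegree_pow, hqd, mul_one]; exact hp.pos
  have hRl : ((1 + C t * X) ^ p - 1 : A[X]).leadingCoeff = t ^ p := by
    rw [hq, leadingCoeff_sub_of_degree_lt, leadingCoeff_pow, hql]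
    have hq0 : (C t * X + C 1 : A[X]) ≠ 0 := by
      intro h; rw [h] at hqd; simp at hqd
    rw [degree_one, degree_pow, degree_eq_natDegree hq0, hqd]
    simp [hp.pos]
  have htp : t ^ p ≠ 0 := pow_ne_zero _ ht
  have h1 := congrArg natDegree hP
  rw [natDegree_C_mul htp, hRd] at h1
  have h2 := congrArg leadingCoeff hP
  rw [leadingCoeff_mul, leadingCoeff_C, hRl] at h2
  exact ⟨mul_left_cancel₀ htp (h2.trans (mul_one _).symm), h1⟩

theorem main (p : ℕ) (hp : p.Prime) (A K L : Type u) [CommRing A] [IsDomain A]
    [IsDiscreteValuationRing A] [Field K] [Algebra A K] [IsFractionRing A K] [Field L] [Algebra K L] [Algebra A L]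
    [IsScalarTower A K L] [CharZero K] [CharP (IsLocalRing.ResidueField A) p] (ζ : A)
    (hζ : aeval ζ (cyclotomic p ℤ) = 0) (P : A[X]) (hP : C ((1 - ζ) ^ p) * P = (1 + C (1 - ζ) * X) ^ p - 1) (π : A) (hπ : IsLocalRing.maximalIdeal A = Ideal.span {π})
    (ξ : K) (z : L) (hz : aeval z P = algebraMap K L ξ) (hgen : IntermediateField.adjoin K {z} = ⊤) :
    let g : A →+* L := algebraMap A L
    let case1 : Prop := Module.finrank K L = 1
    let case2 : Prop := EtRam.IsUnramifiedExt A g ∧ Module.finrank K L = p
    let case3 : Prop := EtRam.IsTotallyRamified A g ∧ Module.finrank K L = p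
    let case4 : Prop := (∃ V : ValuationSubring L, EtRam.Dominates A g V) ∧
      (∀ V V' : ValuationSubring L, EtRam.Dominates A g V → EtRam.Dominates A g V' → V = V') ∧
      ∀ (V : ValuationSubring L) (h : EtRam.Dominates A g V),
        letI : Algebra A V := (RingHom.codRestrict g V h.1).toAlgebra
        ∀ [IsLocalHom (algebraMap A V)],
          EtRam.IsWeaklyUnramified A V ∧
            IsPurelyInseparable (IsLocalRing.ResidueField A) (IsLocalRing.ResidueField V) ∧
            Module.finrank (IsLocalRing.ResidueField A) (IsLocalRing.ResidueField V) = p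
    IsGalois K L ∧ (case1 ∨ case2 ∨ case3 ∨ case4) ∧
      ((∃ a : A, algebraMap A K a = ξ) → case1 ∨ case2) ∧
      (∀ (n : ℕ) (a : Aˣ), 0 < n → ¬ p ∣ n → ξ * algebraMap A K π ^ n = algebraMap A K a → case3) ∧
      (∀ (n : ℕ) (a : A), 0 < n → p ∣ n → (∀ r : A, IsLocalRing.residue A a ≠ IsLocalRing.residue A r ^ p) →
          ξ * algebraMap A K π ^ n = algebraMap A K a → case4) := by
  intro g case1 case2 case3 case4
  haveI : Fact p.Prime := ⟨hp⟩
  haveI : CharZero A := (algebraMap A K).charZero
  have hinj := IsFractionRing.injective A K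
  obtain ⟨t, ht_def⟩ : ∃ t : A, t = 1 - ζ := ⟨_, rfl⟩
  rw [← ht_def] at hP
  -- primitive root
  have hζK : IsPrimitiveRoot (algebraMap A K ζ) p := by
    haveI : NeZero ((p : ℕ) : K) := ⟨by exact_mod_cast hp.ne_zero⟩
    rw [← isRoot_cyclotomic_iff, IsRoot.def, ← map_cyclotomic_int p K, eval_map,
      ← algebraMap_int_eq, ← aeval_def, aeval_algebraMap_apply, hζ, map_zero]
  have hζ1 : ζ ≠ 1 := by
    intro h
    rw [h, map_one] at hζK
    exact hp.one_lt.ne' (IsPrimitiveRoot.one_left_iff.mp hζK)
  have ht : t ≠ 0 := by rw [ht_def]; exact sub_ne_zero.mpr (Ne.symm hζ1)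
  have htK : algebraMap A K t ≠ 0 := by
    rw [ne_eq, map_eq_zero_iff _ hinj]; exact ht
  have hζp : ζ ^ p = 1 := by
    apply hinj
    rw [map_pow, map_one]; exact hζK.pow_eq_one
  obtain ⟨hPm, hPd⟩ := P_monic hp ht hP
  -- the Kummer relation
  have hrel : (1 + algebraMap K L (algebraMap A K t) * z) ^ p =
      algebraMap K L (1 + algebraMap A K t ^ p * ξ) := by
    have := congrArg (aeval z) hP
    simp only [map_mul, map_sub, map_pow, map_add, map_one, aeval_C, aeval_X, hz] at this
    rw [← IsScalarTower.algebraMap_apply A K L, map_add, map_one, map_mul, map_pow,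
      ← IsScalarTower.algebraMap_apply A K L]
    linear_combination (-1 : L) * this
  haveI := KumExt.isGalois hζK htK hrel hgen
  haveI := KumExt.finiteDimensional hζK htK hrel hgen
  have hfr := KumExt.finrank hζK htK hrel hgen
  haveI : Module.IsTorsionFree A L := .trans_faithfulSMul A K L
  haveI : IsDedekindDomain (integralClosure A L) := integralClosure.isDedekindDomain A K L
  haveI : IsFractionRing (integralClosure A L) L :=
    integralClosure.isFractionRing_of_finite_extension K L
  haveI : Module.Finite A (integralClosure A L) :=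
    IsIntegralClosure.finite A K L (integralClosure A L)
  obtain ⟨hmain, hA, hB, hC⟩ := DvrExt.master A K L (integralClosure A L) hp hfr
  have hL : ∀ (n : ℕ) (a : A), ξ * algebraMap A K π ^ n = algebraMap A K a →
      algebraMap K L ξ * algebraMap A L π ^ n = algebraMap A L a := by
    intro n a h
    rw [IsScalarTower.algebraMap_apply A K L, IsScalarTower.algebraMap_apply A K L, ← map_pow,
      ← map_mul, h]
  refine ⟨inferInstance, hmain, ?_, ?_, ?_⟩
  · rintro ⟨a, rfl⟩
    rcases hfr with h1 | h1
    · exact Or.inl h1
    · -- residue of `ζ` is `1`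
      have hrζ : residue A ζ = 1 := by
        have h2 : (residue A ζ - 1) ^ p = 0 := by
          rw [sub_pow_char, one_pow, ← map_pow, hζp, map_one, sub_self]
        exact sub_eq_zero.mp (pow_eq_zero_iff hp.ne_zero |>.mp h2)
      have hrt : residue A t = 0 := by rw [ht_def, map_sub, map_one, hrζ, sub_self]
      obtain ⟨σ, i, hi0, hip, hσ⟩ := KumExt.exists_sigma hζK htK hrel hgen h1
      have hzint : IsIntegral A z := by
        refine ⟨P - C a, hPm.sub_of_left ?_, ?_⟩
        · rw [degree_eq_natDegree hPm.ne_zero, hPd]
          exact degree_C_le.trans_lt (by exact_mod_cast hp.pos)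
        · rw [← aeval_def, map_sub, hz, aeval_C, IsScalarTower.algebraMap_apply A K L, sub_self]
      -- the unit `u = 1 + ζ + ... + ζ ^ (i - 1)`
      have hu : IsUnit (∑ j ∈ Finset.range i, ζ ^ j) := by
        rw [← residue_ne_zero_iff_isUnit, map_sum]
        simp only [map_pow, hrζ, one_pow, Finset.sum_const, Finset.card_range, nsmul_eq_mul,
          mul_one]
        rw [ne_eq, CharP.cast_eq_zero_iff (ResidueField A) p]
        intro hdvd
        exact absurd (Nat.le_of_dvd hi0 hdvd) (not_le.mpr hip)
      obtain ⟨u, hu⟩ := hu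
      -- the unit `1 + t ^ p * a`
      have hc : IsUnit (1 + t ^ p * a) := by
        rw [← residue_ne_zero_iff_isUnit, map_add, map_one, map_mul, map_pow, hrt,
          zero_pow hp.ne_zero, zero_mul, add_zero]
        exact one_ne_zero
      obtain ⟨c, hc⟩ := hc
      have htL : algebraMap K L (algebraMap A K t) ≠ 0 := by
        rw [ne_eq, map_eq_zero]; exact htK
      apply hA ⟨z, σ, hzint, fun w hw => ?_⟩
      have hy : w.valuation L (1 + algebraMap K L (algebraMap A K t) * z) = 1 := by
        have h2 : w.valuation L (1 + algebraMap K L (algebraMap A K t) * z) ^ p = 1 := by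
          rw [← map_pow, hrel, ← DvrExt.val_unit (L := L) w c, hc,
            IsScalarTower.algebraMap_apply A K L]
          simp only [map_add, map_one, map_mul, map_pow]
        exact (pow_eq_one_iff_of_nonneg zero_le hp.ne_zero).mp h2
      have hd : σ z - z = - ((1 + algebraMap K L (algebraMap A K t) * z) *
          algebraMap A L (u : A)) := by
        apply mul_left_cancel₀ htL
        rw [hσ, hu, IsScalarTower.algebraMap_apply A K L, map_sum, map_sum]
        have hgs := mul_geom_sum (algebraMap K L (algebraMap A K ζ)) i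
        simp only [map_pow]
        have htz : algebraMap K L (algebraMap A K t) = 1 - algebraMap K L (algebraMap A K ζ) := by
          rw [ht_def, map_sub, map_sub, map_one, map_one]
        rw [← hgs, htz]
        ring
      rw [hd, Valuation.map_neg, map_mul, hy, DvrExt.val_unit, one_mul]
  · intro n a hn hpn hξ
    apply hB
    intro w hw
    have h1 := DvrExt.p_dvd_e_mul w hπ hPm z _ hz n a (hL n a hξ)
    rw [hPd] at h1
    exact (Nat.Coprime.dvd_of_dvd_mul_right ((Nat.Prime.coprime_iff_not_dvd hp).mpr hpn) h1)
  · intro n a hn hpn ha hξ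
    apply hC
    intro w hw
    obtain ⟨m, rfl⟩ := hpn
    have hm : 0 < m := Nat.pos_of_mul_pos_left hn
    have hξ' := hL _ a hξ
    rw [← hPd] at hξ'
    obtain ⟨y, hy1, hy2⟩ := DvrExt.exists_y w hπ hPm (by rw [hPd]; exact hp.pos) z _ hz m hm a hξ'
    rw [hPd] at hy2
    exact DvrExt.crit_C w hp a ha y hy1 hy2



open Polynomial in
/-- Let A be a discrete valuation ring whose fraction field K has characteristic 0 and whose residue
field has characteristic p, and suppose A contains an element ζ with 1 + ζ + ... + ζ^(p-1) = 0 (a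
primitive p-th root of unity); set w = 1 - ζ and let P in A[t] be the polynomial with w^p·P(t) = (1
+ wt)^p - 1. Let ξ be an element of K and let L = K(z) be obtained by adjoining a root z of P(z) =
ξ. Then L/K is a Galois extension, and it falls under one of four cases: (1) L = K; (2) L/K has
degree p and is unramified with respect to A; (3) L/K has degree p and is totally ramified with
respect to A (ramification index p); (4) exactly one valuation ring of L dominates A (so B, the
integral closure of A in L, is itself a discrete valuation ring), the extension A → B is weakly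
unramified, and its residue field extension is purely inseparable of degree p. Moreover, with π a
uniformizer of A: (A) if ξ lies in A, case (1) or (2) holds; (B) if ξ = π⁻ⁿa with n > 0 prime to p
and a a unit of A, case (3) holds; (C) if ξ = π⁻ⁿa with n > 0 divisible by p and the residue class
of a not a p-th power, case (4) holds. -/
theorem result (p : ℕ) (hp : p.Prime) (A K L : Type u) [CommRing A] [IsDomain A]
    [IsDiscreteValuationRing A] [Field K] [Algebra A K] [IsFractionRing A K] [Field L] [Algebra K L] [Algebra A L]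
    [IsScalarTower A K L] [CharZero K] [CharP (IsLocalRing.ResidueField A) p] (ζ : A)
    (hζ : aeval ζ (cyclotomic p ℤ) = 0) (P : A[X]) (hP : C ((1 - ζ) ^ p) * P = (1 + C (1 - ζ) * X) ^ p - 1) (π : A) (hπ : IsLocalRing.maximalIdeal A = Ideal.span {π})
    (ξ : K) (z : L) (hz : aeval z P = algebraMap K L ξ) (hgen : IntermediateField.adjoin K {z} = ⊤) :
    let g : A →+* L := algebraMap A L
    let case1 : Prop := Module.finrank K L = 1
    let case2 : Prop := EtRam.IsUnramifiedExt A g ∧ Module.finrank K L = p
    let case3 : Prop := EtRam.IsTotallyRamified A g ∧ Module.finrank K L = p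
    let case4 : Prop := (∃ V : ValuationSubring L, EtRam.Dominates A g V) ∧
      (∀ V V' : ValuationSubring L, EtRam.Dominates A g V → EtRam.Dominates A g V' → V = V') ∧
      ∀ (V : ValuationSubring L) (h : EtRam.Dominates A g V),
        letI : Algebra A V := (RingHom.codRestrict g V h.1).toAlgebra
        ∀ [IsLocalHom (algebraMap A V)],
          EtRam.IsWeaklyUnramified A V ∧
            IsPurelyInseparable (IsLocalRing.ResidueField A) (IsLocalRing.ResidueField V) ∧
            Module.finrank (IsLocalRing.ResidueField A) (IsLocalRing.ResidueField V) = p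
    IsGalois K L ∧ (case1 ∨ case2 ∨ case3 ∨ case4) ∧
      ((∃ a : A, algebraMap A K a = ξ) → case1 ∨ case2) ∧
      (∀ (n : ℕ) (a : Aˣ), 0 < n → ¬ p ∣ n → ξ * algebraMap A K π ^ n = algebraMap A K a → case3) ∧
      (∀ (n : ℕ) (a : A), 0 < n → p ∣ n → (∀ r : A, IsLocalRing.residue A a ≠ IsLocalRing.residue A r ^ p) →
          ξ * algebraMap A K π ^ n = algebraMap A K a → case4) := by
  exact main p hp A K L ζ hζ P hP π hπ ξ z hz hgen

end Groth.Agent.S7159
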