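import Groth.Statements.S7162
import Mathlib
import Groth.Agent.Lib.Helper10.SHens10

set_option autoImplicit false
universe u
open EtAlg

namespace Groth.Agent.S7162

set_option linter.style.haveILetI false
set_option linter.unusedSectionVars false

open IsLocalRing Polynomial IntermediateField Groth.Agent.Lib.helper10
  Groth.Agent.Lib.helper10.SHens

section Assemble

variable (A B K L : Type u) [CommRing A] [IsDomain A] [IsDiscreteValuationRing A]
  [CommRing B] [IsDomain B] [IsDiscreteValuationRing B] [Algebra A B]
  [IsLocalHom (algebraMap A B)]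
  [Field K] [Field L] [Algebra A K] [IsFractionRing A K] [Algebra B L] [IsFractionRing B L]
  [Algebra K L] [Algebra A L] [IsScalarTower A K L] [IsScalarTower A B L]
  (Ω : Type u) [Field Ω] [IsAlgClosed Ω] [Algebra K Ω] [Algebra L Ω] [IsScalarTower K L Ω]
  (W : ValuationSubring Ω)

theorem assemble (hinj : Function.Injective (algebraMap A B))
    (hdomA : EtRam.Dominates A ((algebraMap K Ω).comp (algebraMap A K)) W)
    (hdomB : EtRam.Dominates B ((algebraMap L Ω).comp (algebraMap B L)) W) :
    ∃ (A' B' K' L' : Type u) (_ : CommRing A') (_ : IsDomain A') (_ : IsDiscreteValuationRing A')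
      (_ : CommRing B') (_ : IsDomain B') (_ : IsDiscreteValuationRing B') (_ : Field K') (_ : Field L')
      (_ : Algebra A A') (_ : Algebra B B') (_ : Algebra A' B') (_ : Algebra A B')
      (_ : IsScalarTower A B B') (_ : IsScalarTower A A' B')
      (_ : Algebra A' K') (_ : IsFractionRing A' K') (_ : Algebra B' L') (_ : IsFractionRing B' L')
      (_ : Algebra K' L') (_ : Algebra A' L') (_ : IsScalarTower A' K' L') (_ : IsScalarTower A' B' L')
      (_ : Algebra K K') (_ : Algebra A K') (_ : IsScalarTower A K K') (_ : IsScalarTower A A' K')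
      (_ : Algebra L L') (_ : Algebra B L') (_ : IsScalarTower B L L') (_ : IsScalarTower B B' L')
      (hA : IsLocalHom (algebraMap A A')) (hB : IsLocalHom (algebraMap B B')) (_ : IsLocalHom (algebraMap A' B')),
      Function.Injective (algebraMap A A') ∧ Function.Injective (algebraMap B B') ∧
      Function.Injective (algebraMap A' B') ∧
      Algebra.IsSeparable K K' ∧ Algebra.IsSeparable L L' ∧
      (letI := (IsLocalRing.ResidueField.map (algebraMap A A')).toAlgebra
       IsSepClosure (IsLocalRing.ResidueField A) (IsLocalRing.ResidueField A')) ∧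
      (letI := (IsLocalRing.ResidueField.map (algebraMap B B')).toAlgebra
       IsSepClosure (IsLocalRing.ResidueField B) (IsLocalRing.ResidueField B')) ∧
      ((∃ (K₁ : Type u) (_ : Field K₁) (_ : Algebra K' K₁), FiniteDimensional K' K₁ ∧ EtRam.IsSolution B' K' L' K₁) →
        ∃ (K₁ : Type u) (_ : Field K₁) (_ : Algebra K K₁), FiniteDimensional K K₁ ∧ EtRam.IsSolution B K L K₁) ∧
      ((∃ (K₁ : Type u) (_ : Field K₁) (_ : Algebra K' K₁), FiniteDimensional K' K₁ ∧ Algebra.IsSeparable K' K₁ ∧
          EtRam.IsSolution B' K' L' K₁) →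
        ∃ (K₁ : Type u) (_ : Field K₁) (_ : Algebra K K₁), FiniteDimensional K K₁ ∧ Algebra.IsSeparable K K₁ ∧
          EtRam.IsSolution B K L K₁) := by
  haveI hdvrA' : IsDiscreteValuationRing (RH K W) := isDVR_RH A W hdomA
  haveI hdvrB' : IsDiscreteValuationRing (RH L W) := isDVR_RH B W hdomB
  letI algAA' : Algebra A (RH K W) := (toRH A W hdomA).toAlgebra
  letI algBB' : Algebra B (RH L W) := (toRH B W hdomB).toAlgebra
  letI algA'B' : Algebra (RH K W) (RH L W) := (jRH K L W).toAlgebra
  letI algAB' : Algebra A (RH L W) :=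
    ((algebraMap B (RH L W)).comp (algebraMap A B)).toAlgebra
  haveI twABB' : IsScalarTower A B (RH L W) := IsScalarTower.of_algebraMap_eq (fun _ => rfl)
  have hAΩ : ∀ a : A, algebraMap L Ω (algebraMap B L (algebraMap A B a)) =
      algebraMap K Ω (algebraMap A K a) := by
    intro a
    rw [← IsScalarTower.algebraMap_apply A B L, IsScalarTower.algebraMap_apply A K L,
      ← IsScalarTower.algebraMap_apply K L Ω]
  haveI twAA'B' : IsScalarTower A (RH K W) (RH L W) :=
    IsScalarTower.of_algebraMap_eq (fun a => Subtype.ext (Subtype.ext (hAΩ a)))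
  letI algK'L' : Algebra (SH K W) (SH L W) := (jSH K L W).toAlgebra
  letI algA'L' : Algebra (RH K W) (SH L W) :=
    ((algebraMap (SH K W) (SH L W)).comp (algebraMap (RH K W) (SH K W))).toAlgebra
  haveI twA'K'L' : IsScalarTower (RH K W) (SH K W) (SH L W) :=
    IsScalarTower.of_algebraMap_eq (fun _ => rfl)
  haveI twA'B'L' : IsScalarTower (RH K W) (RH L W) (SH L W) :=
    IsScalarTower.of_algebraMap_eq (fun _ => rfl)
  letI algAK' : Algebra A (SH K W) := ((algebraMap K (SH K W)).comp (algebraMap A K)).toAlgebra
  haveI twAKK' : IsScalarTower A K (SH K W) := IsScalarTower.of_algebraMap_eq (fun _ => rfl)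
  haveI twAA'K' : IsScalarTower A (RH K W) (SH K W) :=
    IsScalarTower.of_algebraMap_eq (fun _ => rfl)
  letI algBL' : Algebra B (SH L W) := ((algebraMap L (SH L W)).comp (algebraMap B L)).toAlgebra
  haveI twBLL' : IsScalarTower B L (SH L W) := IsScalarTower.of_algebraMap_eq (fun _ => rfl)
  haveI twBB'L' : IsScalarTower B (RH L W) (SH L W) :=
    IsScalarTower.of_algebraMap_eq (fun _ => rfl)
  haveI hlocA : IsLocalHom (algebraMap A (RH K W)) := isLocalHom_toRH A W hdomA
  haveI hlocB : IsLocalHom (algebraMap B (RH L W)) := isLocalHom_toRH B W hdomB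
  haveI hlocA'B' : IsLocalHom (algebraMap (RH K W) (RH L W)) := isLocalHom_jRH K L W
  haveI hsepK : Algebra.IsSeparable K (SH K W) := isSeparable_SH (F := K) W
  haveI hsepL : Algebra.IsSeparable L (SH L W) := isSeparable_SH (F := L) W
  refine ⟨RH K W, RH L W, SH K W, SH L W, inferInstance, inferInstance, hdvrA', inferInstance,
    inferInstance, hdvrB', inferInstance, inferInstance, algAA', algBB', algA'B', algAB', twABB',
    twAA'B', inferInstance, inferInstance, inferInstance, inferInstance, algK'L', algA'L',
    twA'K'L', twA'B'L', inferInstance, algAK', twAKK', twAA'K', inferInstance, algBL', twBLL',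
    twBB'L', hlocA, hlocB, hlocA'B', ?_⟩
  refine ⟨toRH_injective A W hdomA, toRH_injective B W hdomB, jRH_injective K L W, hsepK, hsepL,
    isSepClosure_residue A W hdomA, isSepClosure_residue B W hdomB, ?_⟩
  -- the descent
  have hcompat : ∀ x : K, algebraMap (SH K W) (SH L W) (algebraMap K (SH K W) x) =
      algebraMap L (SH L W) (algebraMap K L x) := by
    intro x
    apply Subtype.ext
    exact IsScalarTower.algebraMap_apply K L Ω x
  have hSet : ∀ θ ∈ {θ : SH K W | (θ : Ω) ∈ EtInt K W}, ∃ g : A[X], g.Monic ∧ aeval θ g = 0 ∧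
      (∃ c : RH L W, algebraMap (RH L W) (SH L W) c = algebraMap (SH K W) (SH L W) θ) ∧
      ∃ c d : RH L W, c * d = 1 ∧ algebraMap (RH L W) (SH L W) c =
        algebraMap (SH K W) (SH L W) (aeval θ (derivative g)) := by
    rintro θ ⟨hθW, g₀, hg₀m, hg₀0, hg₀'⟩
    obtain ⟨g, hg, -, hgm⟩ := lifts_and_natDegree_eq_and_monic (f := toVF A W hdomA)
      ((mem_lifts _).mpr (Polynomial.map_surjective _ (toVF_surjective A W hdomA) _)) hg₀m
    have hcomp : W.subtype.comp ((incl (F := K) W).comp (toVF A W hdomA)) =
        (algebraMap (SH K W) Ω).comp (algebraMap A (SH K W)) := by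
      ext a
      rfl
    have heval : ∀ q : A[X],
        (((q.map (toVF A W hdomA)).eval₂ (incl (F := K) W) ⟨(θ : Ω), hθW⟩ : W) : Ω) =
          algebraMap (SH K W) Ω (aeval θ q) := by
      intro q
      rw [eval₂_map]
      have h1 := Polynomial.hom_eval₂ q ((incl (F := K) W).comp (toVF A W hdomA)) W.subtype
        ⟨(θ : Ω), hθW⟩
      have h2 : ((q.eval₂ ((incl (F := K) W).comp (toVF A W hdomA)) ⟨(θ : Ω), hθW⟩ : W) : Ω) =
          W.subtype (q.eval₂ ((incl (F := K) W).comp (toVF A W hdomA)) ⟨(θ : Ω), hθW⟩) := rfl
      rw [h2, h1, hcomp, aeval_def, Polynomial.hom_eval₂]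
      rfl
    refine ⟨g, hgm, ?_, ⟨⟨jSH K L W θ, hθW⟩, rfl⟩, ?_⟩
    · apply (algebraMap (SH K W) Ω).injective
      rw [← heval, hg, hg₀0, map_zero]
      rfl
    · have hδval : W.valuation (algebraMap (SH K W) Ω (aeval θ (derivative g))) = 1 := by
        rw [← heval, ← derivative_map, hg]
        exact isUnit_iff_val.mp hg₀'
      have hδ0 : aeval θ (derivative g) ≠ 0 := by
        intro h0
        rw [h0, map_zero, map_zero] at hδval
        exact zero_ne_one hδval
      have hmem1 : jSH K L W (aeval θ (derivative g)) ∈ RH L W := by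
        rw [ValuationSubring.mem_comap, ← ValuationSubring.valuation_le_one_iff]
        exact hδval.le
      have hmem2 : jSH K L W (aeval θ (derivative g))⁻¹ ∈ RH L W := by
        rw [ValuationSubring.mem_comap, ← ValuationSubring.valuation_le_one_iff]
        show W.valuation (algebraMap (SH K W) Ω (aeval θ (derivative g))⁻¹) ≤ 1
        rw [map_inv₀, map_inv₀, hδval, inv_one]
      refine ⟨⟨_, hmem1⟩, ⟨_, hmem2⟩, ?_, rfl⟩
      apply Subtype.ext
      show jSH K L W (aeval θ (derivative g)) * jSH K L W (aeval θ (derivative g))⁻¹ = 1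
      rw [← map_mul, mul_inv_cancel₀ hδ0, map_one]
  exact descent A B K L (RH K W) (RH L W) (SH K W) (SH L W) hinj (toRH_injective B W hdomB)
    hcompat _ (adjoin_preimage_eq_top K W) hSet

end Assemble

theorem main (A B K L : Type u) [CommRing A] [IsDomain A]
    [IsDiscreteValuationRing A] [CommRing B] [IsDomain B] [IsDiscreteValuationRing B] [Algebra A B]
    (hinj : Function.Injective (algebraMap A B)) [IsLocalHom (algebraMap A B)]
    [Field K] [Field L] [Algebra A K] [IsFractionRing A K] [Algebra B L] [IsFractionRing B L]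
    [Algebra K L] [Algebra A L] [IsScalarTower A K L] [IsScalarTower A B L] :
    ∃ (A' B' K' L' : Type u) (_ : CommRing A') (_ : IsDomain A') (_ : IsDiscreteValuationRing A')
      (_ : CommRing B') (_ : IsDomain B') (_ : IsDiscreteValuationRing B') (_ : Field K') (_ : Field L')
      (_ : Algebra A A') (_ : Algebra B B') (_ : Algebra A' B') (_ : Algebra A B')
      (_ : IsScalarTower A B B') (_ : IsScalarTower A A' B')
      (_ : Algebra A' K') (_ : IsFractionRing A' K') (_ : Algebra B' L') (_ : IsFractionRing B' L')
      (_ : Algebra K' L') (_ : Algebra A' L') (_ : IsScalarTower A' K' L') (_ : IsScalarTower A' B' L')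
      (_ : Algebra K K') (_ : Algebra A K') (_ : IsScalarTower A K K') (_ : IsScalarTower A A' K')
      (_ : Algebra L L') (_ : Algebra B L') (_ : IsScalarTower B L L') (_ : IsScalarTower B B' L')
      (hA : IsLocalHom (algebraMap A A')) (hB : IsLocalHom (algebraMap B B')) (_ : IsLocalHom (algebraMap A' B')),
      Function.Injective (algebraMap A A') ∧ Function.Injective (algebraMap B B') ∧
      Function.Injective (algebraMap A' B') ∧
      Algebra.IsSeparable K K' ∧ Algebra.IsSeparable L L' ∧
      (letI := (IsLocalRing.ResidueField.map (algebraMap A A')).toAlgebra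
       IsSepClosure (IsLocalRing.ResidueField A) (IsLocalRing.ResidueField A')) ∧
      (letI := (IsLocalRing.ResidueField.map (algebraMap B B')).toAlgebra
       IsSepClosure (IsLocalRing.ResidueField B) (IsLocalRing.ResidueField B')) ∧
      ((∃ (K₁ : Type u) (_ : Field K₁) (_ : Algebra K' K₁), FiniteDimensional K' K₁ ∧ EtRam.IsSolution B' K' L' K₁) →
        ∃ (K₁ : Type u) (_ : Field K₁) (_ : Algebra K K₁), FiniteDimensional K K₁ ∧ EtRam.IsSolution B K L K₁) ∧
      ((∃ (K₁ : Type u) (_ : Field K₁) (_ : Algebra K' K₁), FiniteDimensional K' K₁ ∧ Algebra.IsSeparable K' K₁ ∧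
          EtRam.IsSolution B' K' L' K₁) →
        ∃ (K₁ : Type u) (_ : Field K₁) (_ : Algebra K K₁), FiniteDimensional K K₁ ∧ Algebra.IsSeparable K K₁ ∧
          EtRam.IsSolution B K L K₁) := by
  obtain ⟨W, hW1, hW2⟩ := IsLocalRing.exists_factor_valuationRing
    ((algebraMap L (AlgebraicClosure L)).comp (algebraMap B L))
  have hdomB : EtRam.Dominates B ((algebraMap L (AlgebraicClosure L)).comp (algebraMap B L)) W := by
    refine ⟨hW1, fun b hb => ?_⟩
    have h1 : ¬ IsUnit (RingHom.codRestrict
        ((algebraMap L (AlgebraicClosure L)).comp (algebraMap B L)) W.toSubring hW1 b) := by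
      intro hu
      exact (mem_maximalIdeal b).mp hb (hW2.map_nonunit b hu)
    have h2 := (ValuationSubring.valuation_lt_one_iff W _).mp ((mem_maximalIdeal _).mpr h1)
    exact h2
  have hdomA : EtRam.Dominates A ((algebraMap K (AlgebraicClosure L)).comp (algebraMap A K)) W := by
    have e : ∀ a : A, algebraMap K (AlgebraicClosure L) (algebraMap A K a) =
        algebraMap L (AlgebraicClosure L) (algebraMap B L (algebraMap A B a)) := by
      intro a
      rw [← IsScalarTower.algebraMap_apply A B L, IsScalarTower.algebraMap_apply A K L,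
        ← IsScalarTower.algebraMap_apply K L (AlgebraicClosure L)]
    refine ⟨fun a => ?_, fun a ha => ?_⟩
    · show algebraMap K (AlgebraicClosure L) (algebraMap A K a) ∈ W
      rw [e]
      exact hdomB.1 _
    · show W.valuation (algebraMap K (AlgebraicClosure L) (algebraMap A K a)) < 1
      rw [e]
      apply hdomB.2
      rw [mem_maximalIdeal, mem_nonunits_iff] at ha ⊢
      exact fun hu => ha (isUnit_of_map_unit (algebraMap A B) a hu)
  exact assemble A B K L (AlgebraicClosure L) W hinj hdomA hdomB



/-- Let A → B be an injective local homomorphism of discrete valuation rings whose fields of fractions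
are K ⊆ L. There is a commutative square of such extensions A ⊆ A', B ⊆ B', A' ⊆ B' (with fraction
fields K', L') such that (1) K'/K and L'/L are separable algebraic, (2) the residue field of A' is a
separable algebraic closure of that of A, and likewise for B' over B, and (3) whenever A' ⊆ B'
admits a solution (respectively a separable solution), so does A ⊆ B. (The published statement
asserts (3) for weak solutions as well; that clause is left out here: a weak solution for A' ⊆ B'
descends to a finite extension of K but controls only those local extensions attached to embeddings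
compatible with K ⊆ K', and weak solutions, unlike solutions, are not preserved under passing to a
normal closure; the clause can fail when the residue field of A is not separably closed in that of
B.) -/
theorem result (A B K L : Type u) [CommRing A] [IsDomain A]
    [IsDiscreteValuationRing A] [CommRing B] [IsDomain B] [IsDiscreteValuationRing B] [Algebra A B]
    (hinj : Function.Injective (algebraMap A B)) [IsLocalHom (algebraMap A B)]
    [Field K] [Field L] [Algebra A K] [IsFractionRing A K] [Algebra B L] [IsFractionRing B L]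
    [Algebra K L] [Algebra A L] [IsScalarTower A K L] [IsScalarTower A B L] :
    ∃ (A' B' K' L' : Type u) (_ : CommRing A') (_ : IsDomain A') (_ : IsDiscreteValuationRing A')
      (_ : CommRing B') (_ : IsDomain B') (_ : IsDiscreteValuationRing B') (_ : Field K') (_ : Field L')
      (_ : Algebra A A') (_ : Algebra B B') (_ : Algebra A' B') (_ : Algebra A B')
      (_ : IsScalarTower A B B') (_ : IsScalarTower A A' B')
      (_ : Algebra A' K') (_ : IsFractionRing A' K') (_ : Algebra B' L') (_ : IsFractionRing B' L')
      (_ : Algebra K' L') (_ : Algebra A' L') (_ : IsScalarTower A' K' L') (_ : IsScalarTower A' B' L')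
      (_ : Algebra K K') (_ : Algebra A K') (_ : IsScalarTower A K K') (_ : IsScalarTower A A' K')
      (_ : Algebra L L') (_ : Algebra B L') (_ : IsScalarTower B L L') (_ : IsScalarTower B B' L')
      (hA : IsLocalHom (algebraMap A A')) (hB : IsLocalHom (algebraMap B B')) (_ : IsLocalHom (algebraMap A' B')),
      Function.Injective (algebraMap A A') ∧ Function.Injective (algebraMap B B') ∧
      Function.Injective (algebraMap A' B') ∧
      Algebra.IsSeparable K K' ∧ Algebra.IsSeparable L L' ∧
      (letI := (IsLocalRing.ResidueField.map (algebraMap A A')).toAlgebra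
       IsSepClosure (IsLocalRing.ResidueField A) (IsLocalRing.ResidueField A')) ∧
      (letI := (IsLocalRing.ResidueField.map (algebraMap B B')).toAlgebra
       IsSepClosure (IsLocalRing.ResidueField B) (IsLocalRing.ResidueField B')) ∧
      ((∃ (K₁ : Type u) (_ : Field K₁) (_ : Algebra K' K₁), FiniteDimensional K' K₁ ∧ EtRam.IsSolution B' K' L' K₁) →
        ∃ (K₁ : Type u) (_ : Field K₁) (_ : Algebra K K₁), FiniteDimensional K K₁ ∧ EtRam.IsSolution B K L K₁) ∧
      ((∃ (K₁ : Type u) (_ : Field K₁) (_ : Algebra K' K₁), FiniteDimensional K' K₁ ∧ Algebra.IsSeparable K' K₁ ∧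
          EtRam.IsSolution B' K' L' K₁) →
        ∃ (K₁ : Type u) (_ : Field K₁) (_ : Algebra K K₁), FiniteDimensional K K₁ ∧ Algebra.IsSeparable K K₁ ∧
          EtRam.IsSolution B K L K₁) := by
  exact main A B K L hinj

end Groth.Agent.S7162
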