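import Groth.Statements.S7168
import Groth.Agent.Lib.Helper3.PCHom3

set_option autoImplicit false
universe u
attribute [local instance] HasDerivedCategory.standard
open FlatMor

namespace Groth.Agent.S7168

open AlgebraicGeometry CategoryTheory Limits in
/-- A pseudo-coherent morphism of schemes is locally of finite presentation. -/
theorem result {X S : Scheme.{u}} (f : X ⟶ S) (hf : MoreMor.IsPseudoCoherentMor f) :
    LocallyOfFinitePresentation f := by
  rw [HasRingHomProperty.iff_appLE (P := @LocallyOfFinitePresentation)]
  intro V U e
  exact Groth.Agent.Lib.helper3.PCHomLoc.finitePresentation_of_pch _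
    (Groth.Agent.Lib.helper3.PCHomLoc.pch_appLE f hf U.2 V.2 e)

end Groth.Agent.S7168
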