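import Groth.Statements.S7169
import Groth.Agent.Lib.Helper3.PCHom3

set_option autoImplicit false
universe u
attribute [local instance] HasDerivedCategory.standard
open FlatMor

namespace Groth.Agent.S7169

open AlgebraicGeometry CategoryTheory Limits in
/-- If X and Y are pseudo-coherent over a base scheme S (via g : Y → S and f ≫ g), then any S-morphism f
: X → Y is pseudo-coherent. -/
theorem result {X Y S : Scheme.{u}} (f : X ⟶ Y) (g : Y ⟶ S)
    (hX : MoreMor.IsPseudoCoherentMor (f ≫ g)) (hY : MoreMor.IsPseudoCoherentMor g) : MoreMor.IsPseudoCoherentMor f := by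
  rw [Groth.Agent.Lib.helper3.PCHomLoc.isPseudoCoherentMor_iff_exists]
  intro x
  obtain ⟨W, hW, hxW, -⟩ := Groth.Agent.Lib.helper3.PCHomLoc.exists_affine_nbhd_le
    (g (f x)) ⊤ trivial
  obtain ⟨V, hV, hxV, hVW⟩ := Groth.Agent.Lib.helper3.PCHomLoc.exists_affine_nbhd_le
    (f x) (g ⁻¹ᵁ W) hxW
  obtain ⟨U, hU, hxU, hUV⟩ := Groth.Agent.Lib.helper3.PCHomLoc.exists_affine_nbhd_le
    x (f ⁻¹ᵁ V) hxV
  refine ⟨⟨V, hV⟩, ⟨U, hU⟩, hxU, hUV, ?_⟩
  have h1 := Groth.Agent.Lib.helper3.PCHomLoc.pch_appLE g hY hV hW hVW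
  have hUW : U ≤ (f ≫ g) ⁻¹ᵁ W := hUV.trans ((TopologicalSpace.Opens.map f.base).map (homOfLE hVW)).le
  have h2 := Groth.Agent.Lib.helper3.PCHomLoc.pch_appLE (f ≫ g) hX hU hW hUW
  rw [← Scheme.Hom.appLE_comp_appLE f g W V U hVW hUV, CommRingCat.hom_comp] at h2
  exact Groth.Agent.Lib.helper3.PCHomLoc.pch_cancel _ _ h1 h2

end Groth.Agent.S7169
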