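import Groth.Statements.S7174
import Mathlib
import Groth.Agent.Lib.Helper13.PerfSpread2
-- import your own Groth.Agent.* helpers here

set_option autoImplicit false
universe u
attribute [local instance] HasDerivedCategory.standard
open FlatMor

namespace Groth.Agent.S7174

section Helpers

open CategoryTheory AlgebraicGeometry Opposite

open Groth.Agent.Lib.helper3.PerfHomLoc Groth.Agent.Lib.helper3.PCHomLoc
  Groth.Agent.Lib.helper13.PerfSpread

/-- the square of ring maps attached to a chart of `f` at `x` -/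
lemma stalk_square {X S : Scheme.{u}} (f : X ⟶ S) (x : X) (V : S.Opens) (U : X.Opens)
    (hx : x ∈ U) (e : U ≤ f ⁻¹ᵁ V) :
    (f.stalkMap x).hom.comp (S.presheaf.germ V (f.base x) (e hx)).hom =
      (X.presheaf.germ U x hx).hom.comp (f.appLE V U e).hom := by
  ext a
  change (f.stalkMap x).hom ((S.presheaf.germ V (f.base x) (e hx)).hom a) =
    (X.presheaf.germ U x hx).hom ((f.appLE V U e).hom a)
  simp only [Scheme.Hom.appLE, CommRingCat.hom_comp, RingHom.coe_comp, Function.comp_apply]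
  erw [X.presheaf.germ_res_apply, Scheme.Hom.germ_stalkMap_apply]

/-- existence of a chart -/
lemma exists_chart {X S : Scheme.{u}} (f : X ⟶ S) (x : X) :
    ∃ (V : S.Opens) (_ : IsAffineOpen V) (U : X.Opens) (_ : IsAffineOpen U) (_ : x ∈ U),
      U ≤ f ⁻¹ᵁ V := by
  obtain ⟨_, ⟨V, hV : IsAffineOpen V, rfl⟩, hfx, -⟩ :=
    S.isBasis_affineOpens.exists_subset_of_mem_open (Set.mem_univ (f.base x)) isOpen_univ
  have hx' : x ∈ ((f ⁻¹ᵁ V : X.Opens) : Set X) := hfx
  obtain ⟨_, ⟨U, hU : IsAffineOpen U, rfl⟩, hxU, hUV⟩ :=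
    X.isBasis_affineOpens.exists_subset_of_mem_open hx' (f ⁻¹ᵁ V).isOpen
  exact ⟨V, hV, U, hU, hxU, hUV⟩

lemma forward {X S : Scheme.{u}} (f : X ⟶ S) (hperf : MoreMor.IsPerfectMor f) (x : X) :
    (letI := (f.stalkMap x).hom.toAlgebra
     DRing.HasFiniteTorDim ↑(S.presheaf.stalk (f x)) ↑(X.presheaf.stalk x)) := by
  obtain ⟨V, hV, U, hU, hxU, e⟩ := exists_chart f x
  obtain ⟨d, hd⟩ := (pfh_appLE f hperf hU hV e).2
  rw [ftd_iff_toAlgebra]
  have hsq := stalk_square f x V U hxU e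
  letI a1 : Algebra Γ(S, V) (S.presheaf.stalk (f.base x)) :=
    S.presheaf.algebra_section_stalk ⟨f.base x, e hxU⟩
  letI a2 : Algebra Γ(X, U) (X.presheaf.stalk x) := X.presheaf.algebra_section_stalk ⟨x, hxU⟩
  have hlocV := hV.isLocalization_stalk ⟨f.base x, e hxU⟩
  have hlocU := hU.isLocalization_stalk ⟨x, hxU⟩
  have hβ : (X.presheaf.germ U x hxU).hom.Flat :=
    (IsLocalization.flat _ (hU.primeIdealOf ⟨x, hxU⟩).asIdeal.primeCompl :
      Module.Flat Γ(X, U) (X.presheaf.stalk x))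
  exact ⟨d, ftdle_localization (f.appLE V U e).hom (S.presheaf.germ V (f.base x) (e hxU)).hom
    (X.presheaf.germ U x hxU).hom (f.stalkMap x).hom hsq
    (hV.primeIdealOf ⟨f.base x, e hxU⟩).asIdeal.primeCompl hlocV hβ hd⟩

lemma backward {X S : Scheme.{u}} (f : X ⟶ S) (hf : MoreMor.IsPseudoCoherentMor f)
    (hst : ∀ x : X,
      (letI := (f.stalkMap x).hom.toAlgebra
       DRing.HasFiniteTorDim ↑(S.presheaf.stalk (f x)) ↑(X.presheaf.stalk x))) :
    MoreMor.IsPerfectMor f := by
  rw [isPerfectMor_iff_exists]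
  intro x
  obtain ⟨V, hV, U, hU, hxU, e⟩ := exists_chart f x
  have hpch : PCH (f.appLE V U e).hom := (pch_iff_toAlgebra _).1 (hf U V hU hV e)
  have hftd : FTD (f.stalkMap x).hom := (ftd_iff_toAlgebra _).1 (hst x)
  have hsq := stalk_square f x V U hxU e
  letI a1 : Algebra Γ(S, V) (S.presheaf.stalk (f.base x)) :=
    S.presheaf.algebra_section_stalk ⟨f.base x, e hxU⟩
  letI a2 : Algebra Γ(X, U) (X.presheaf.stalk x) := X.presheaf.algebra_section_stalk ⟨x, hxU⟩
  have hlocV := hV.isLocalization_stalk ⟨f.base x, e hxU⟩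
  have hlocU := hU.isLocalization_stalk ⟨x, hxU⟩
  have hα : (S.presheaf.germ V (f.base x) (e hxU)).hom.Flat :=
    (IsLocalization.flat _ (hV.primeIdealOf ⟨f.base x, e hxU⟩).asIdeal.primeCompl :
      Module.Flat Γ(S, V) (S.presheaf.stalk (f.base x)))
  obtain ⟨g, hg, hgftd⟩ := exists_away_ftd (f.appLE V U e).hom hpch
    (hU.primeIdealOf ⟨x, hxU⟩).asIdeal (S.presheaf.germ V (f.base x) (e hxU)).hom hα
    (X.presheaf.germ U x hxU).hom hlocU (f.stalkMap x).hom hsq hftd
  have hxg : x ∈ X.basicOpen g := by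
    rw [Scheme.mem_basicOpen _ _ _ hxU]
    have := (IsLocalization.AtPrime.isUnit_to_map_iff (X.presheaf.stalk x)
      (hU.primeIdealOf ⟨x, hxU⟩).asIdeal g).2 hg
    exact this
  have hle : X.basicOpen g ≤ f ⁻¹ᵁ V := (X.basicOpen_le g).trans e
  have hUg : IsAffineOpen (X.basicOpen g) := hU.basicOpen g
  have hloc := hU.isLocalization_basicOpen g
  have hcomp : (f.appLE V (X.basicOpen g) hle).hom =
      (X.presheaf.map (homOfLE (X.basicOpen_le g)).op).hom.comp (f.appLE V U e).hom := by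
    rw [← CommRingCat.hom_comp, Scheme.Hom.appLE_map]
  refine ⟨⟨V, hV⟩, ⟨X.basicOpen g, hUg⟩, hxg, hle, ?_, ?_⟩
  · exact (pch_iff_toAlgebra _).1 (hf (X.basicOpen g) V hUg hV hle)
  · rw [hcomp]
    exact hgftd Γ(X, X.basicOpen g) _ hloc

end Helpers


open AlgebraicGeometry CategoryTheory Limits in
/-- (1) ⇔ (3): for a pseudo-coherent f : X → S, f is perfect exactly when, at every point x of X, the
stalk O_{X,x}, viewed as a module over O_{S,f(x)} through the stalk map, is of finite tor dimension.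
(The intermediate condition on the structure sheaf as a sheaf of f⁻¹O_S-modules is not restated.) -/
theorem result {X S : Scheme.{u}} (f : X ⟶ S) (hf : MoreMor.IsPseudoCoherentMor f) :
    MoreMor.IsPerfectMor f ↔ ∀ x : X,
      (letI := (f.stalkMap x).hom.toAlgebra
       DRing.HasFiniteTorDim ↑(S.presheaf.stalk (f x)) ↑(X.presheaf.stalk x)) := by
  exact ⟨fun hperf x => forward f hperf x, fun hst => backward f hf hst⟩

end Groth.Agent.S7174
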