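import Groth.Statements.S7177
import Mathlib
import Groth.Agent.Lib.Helper3.WEtale2
import Groth.Agent.Lib.Helper3.WEtaleSch
import Groth.Agent.S7127

set_option autoImplicit false
universe u
open FlatMor

namespace Groth.Agent.S7177


section
open AlgebraicGeometry CategoryTheory Limits TensorProduct Groth.Agent.Lib.helper3

/-- ring hom property: flat multiplication map -/
def Q2 {R S : Type u} [CommRing R] [CommRing S] (φ : R →+* S) : Prop :=
  letI := φ.toAlgebra
  (Algebra.TensorProduct.lmul' R (S := S)).toRingHom.Flat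

theorem Q2_trans (R S T : Type u) [CommRing R] [CommRing S] [CommRing T]
    [Algebra R S] [Algebra R T] [Algebra S T] [IsScalarTower R S T]
    (h1 : (Algebra.TensorProduct.lmul' R (S := S)).toRingHom.Flat)
    (h2 : (Algebra.TensorProduct.lmul' S (S := T)).toRingHom.Flat) :
    (Algebra.TensorProduct.lmul' R (S := T)).toRingHom.Flat := by
  have heq : Algebra.TensorProduct.lmul' (S := T) R =
      AlgHom.comp ((Algebra.TensorProduct.lmul' (S := T) S).restrictScalars R)
        (Algebra.TensorProduct.mapOfCompatibleSMul ..) := by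
    ext <;> simp
  rw [heq]
  refine RingHom.Flat.comp ?_ ?_
  · exact RingHom.Flat.mapOfCompatibleSMul (R := R) (S := S) T T h1
  · exact h2

theorem Q2_stableUnderComposition : RingHom.StableUnderComposition @Q2 := by
  intro R S T _ _ _ f g hf hg
  algebraize [f, g, g.comp f]
  exact Q2_trans R S T hf hg

theorem Q2_of_surjective {R S : Type u} [CommRing R] [CommRing S] (φ : R →+* S)
    (h : Function.Surjective φ) : Q2 φ := by
  unfold Q2
  letI := φ.toAlgebra
  exact RingHom.Flat.of_bijective (LinearMap.mul'_bijective_of_surjective _ _ h)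

theorem Q2_respectsIso : RingHom.RespectsIso @Q2 :=
  Q2_stableUnderComposition.respectsIso (fun e => Q2_of_surjective _ e.surjective)

/-- descend along the first factor: `A → B → C`, `lmul' A C` flat ⟹ `lmul' B C` flat. -/
theorem Q2_of_tower (A B C : Type u) [CommRing A] [CommRing B] [CommRing C]
    [Algebra A B] [Algebra A C] [Algebra B C] [IsScalarTower A B C]
    (h : (Algebra.TensorProduct.lmul' A (S := C)).toRingHom.Flat) :
    (Algebra.TensorProduct.lmul' B (S := C)).toRingHom.Flat := by
  apply Groth.Agent.S7127.ringHom_flat_of_comp_surjective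
    (Algebra.TensorProduct.mapOfCompatibleSMul B A C C C).toRingHom _
    (Algebra.TensorProduct.mapOfCompatibleSMul_surjective B A C C C)
  convert h using 1
  ext x
  all_goals simp

theorem Q2_localRingHom {R S : Type u} [CommRing R] [CommRing S] (f : R →+* S) (hf : Q2 f)
    (J : Ideal S) (hJ : J.IsPrime) : Q2 (Localization.localRingHom _ J f rfl) := by
  unfold Q2 at hf ⊢
  algebraize [f, Localization.localRingHom (Ideal.comap f J) J f rfl]
  have : IsScalarTower R (Localization.AtPrime (Ideal.comap f J)) (Localization.AtPrime J) :=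
    .of_algebraMap_eq fun x ↦ (Localization.localRingHom_to_map _ _ _ rfl x).symm
  have h3 : (Algebra.TensorProduct.lmul' S (S := Localization.AtPrime J)).toRingHom.Flat :=
    (WEtale3.weaklyEtale_of_isLocalization (R := S) (S := Localization.AtPrime J)
      J.primeCompl).flat_lmul'
  have h4 := Q2_trans R S (Localization.AtPrime J) hf h3
  exact Q2_of_tower R (Localization.AtPrime (Ideal.comap f J)) (Localization.AtPrime J) h4

theorem flatDiag_SpecMap_iff {R S : CommRingCat.{u}} (φ : R ⟶ S) :
    Flat (pullback.diagonal (Spec.map φ)) ↔ Q2 φ.hom := by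
  unfold Q2
  algebraize [φ.hom]
  have e : pullback.diagonal (Spec.map φ) =
      Spec.map (CommRingCat.ofHom
        (Algebra.TensorProduct.lmul' R : S ⊗[R] S →ₐ[R] S).toRingHom) ≫
        (pullbackSpecIso R S S).inv := AlgebraicGeometry.diagonal_SpecMap R S
  rw [e, MorphismProperty.cancel_right_of_respectsIso (P := @Flat), Flat.SpecMap_iff]
  rfl

set_option backward.isDefEq.respectTransparency false in
theorem stalkMap_of_flatDiag {X Y : Scheme.{u}} (f : X ⟶ Y)
    (hf : MorphismProperty.diagonal @Flat f) (x : X) :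
    Q2 (f.stalkMap x).hom := by
  have hQ' := Q2_respectsIso
  wlog h : IsAffine X ∧ IsAffine Y generalizing X Y f
  · obtain ⟨U, hU, hfx, _⟩ := TopologicalSpace.Opens.isBasis_iff_nbhd.mp Y.isBasis_affineOpens
      (TopologicalSpace.Opens.mem_top <| f x)
    obtain ⟨V, hV, hx, e⟩ := TopologicalSpace.Opens.isBasis_iff_nbhd.mp X.isBasis_affineOpens
      (show x ∈ f ⁻¹ᵁ U from hfx)
    rw [← hQ'.arrow_mk_iso_iff (Scheme.Hom.resLEStalkMap f e ⟨x, hx⟩)]
    exact this _ (IsZariskiLocalAtSource.resLE (P := MorphismProperty.diagonal @Flat) _ hf) _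
      ⟨hV, hU⟩
  obtain ⟨hX, hY⟩ := h
  wlog hXY : ∃ R S, Y = Spec R ∧ X = Spec S generalizing X Y
  · have : Q2 ((X.isoSpec.inv ≫ f ≫ Y.isoSpec.hom).stalkMap (X.isoSpec.hom x)).hom := by
      refine this _ ?_ (X.isoSpec.hom x) inferInstance inferInstance ?_
      · rwa [MorphismProperty.cancel_left_of_respectsIso (P := MorphismProperty.diagonal @Flat),
          MorphismProperty.cancel_right_of_respectsIso (P := MorphismProperty.diagonal @Flat)]
      · use Γ(Y, ⊤), Γ(X, ⊤)
    rw [Scheme.Hom.stalkMap_comp, Scheme.Hom.stalkMap_comp, CommRingCat.hom_comp,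
      hQ'.cancel_right_isIso, CommRingCat.hom_comp, hQ'.cancel_left_isIso] at this
    have heq : (X.isoSpec.inv (X.isoSpec.hom x)) = x := by simp
    rwa [hQ'.arrow_mk_iso_iff (f.arrowStalkMapIsoOfEq heq)] at this
  obtain ⟨R, S, rfl, rfl⟩ := hXY
  obtain ⟨φ, rfl⟩ := Spec.map_surjective f
  rw [hQ'.arrow_mk_iso_iff (Scheme.arrowStalkMapSpecIso φ _)]
  have hf' : Q2 φ.hom := (flatDiag_SpecMap_iff φ).mp hf
  exact Q2_localRingHom _ hf' _ _

end



open AlgebraicGeometry CategoryTheory Limits in
/-- Let f : X → Y have flat diagonal and let F be an O_X-module flat over Y. Then F is flat as an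
O_X-module. -/
theorem result {X Y : Scheme.{u}} (f : X ⟶ Y) [Flat (pullback.diagonal f)] (F : X.Modules)
    (hF : FlatMod.IsFlatOver f F) : FlatMod.IsFlat F := by
  intro x
  have hQ : Groth.Agent.S7177.Q2 (f.stalkMap x).hom :=
    Groth.Agent.S7177.stalkMap_of_flatDiag f ‹_› x
  have hFx := hF x
  unfold FlatMod.IsFlatOverAt at hFx
  unfold FlatMod.IsFlatAt
  letI := (f.stalkMap x).hom.toAlgebra
  letI := FlatMod.moduleStalkOver f F x
  haveI : IsScalarTower (Y.presheaf.stalk (f x)) (X.presheaf.stalk x) (F.presheaf.stalk x) :=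
    ⟨fun a b m => by
      change (a • b) • m = (f.stalkMap x).hom a • (b • m)
      rw [Algebra.smul_def, mul_smul]
      rfl⟩
  exact Groth.Agent.Lib.helper3.WEtale2.flat_of_flat_lmul' hQ _

end Groth.Agent.S7177
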