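import Groth.Statements.S7178
import Mathlib
import Groth.Agent.Lib.Helper3.WEtaleSch

set_option autoImplicit false
universe u
open FlatMor

namespace Groth.Agent.S7178

set_option backward.isDefEq.respectTransparency.types false

open AlgebraicGeometry CategoryTheory Limits in
theorem weaklyEtale_iff_of_isAffine {X' Y' : Scheme.{u}} [IsAffine X'] [IsAffine Y']
    (g : X' ⟶ Y') : WeaklyEtale g ↔ Groth.Agent.Lib.helper3.WEtaleSch.Q g.appTop.hom :=
  (MorphismProperty.arrow_mk_iso_iff @WeaklyEtale (arrowIsoSpecΓOfIsAffine g)).trans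
    (Groth.Agent.Lib.helper3.WEtaleSch.weaklyEtale_SpecMap_iff _)

open AlgebraicGeometry CategoryTheory Limits in
instance : MorphismProperty.RespectsRight @WeaklyEtale @IsOpenImmersion :=
  ⟨fun i hi f hf => by
    haveI : IsOpenImmersion i := hi
    haveI : WeaklyEtale f := hf
    exact inferInstanceAs (WeaklyEtale (f ≫ i))⟩

open AlgebraicGeometry CategoryTheory Limits in
/-- (1) ⇔ (2): f : X → S is weakly étale if and only if, whenever U ⊆ X and V ⊆ S are affine opens and f
maps U into V, the ring O_X(U) is a weakly étale O_S(V)-algebra (flat, with flat multiplication map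
O_X(U) ⊗ O_X(U) → O_X(U) over O_S(V)). -/
theorem result {X S : Scheme.{u}} (f : X ⟶ S) :
    WeaklyEtale f ↔ ∀ (U : X.Opens) (V : S.Opens) (_ : IsAffineOpen U) (_ : IsAffineOpen V) (hUV : U ≤ f ⁻¹ᵁ V),
      (letI := (f.appLE V U hUV).hom.toAlgebra
       Algebra.WeaklyEtale Γ(S, V) Γ(X, U)) := by
  constructor
  · intro h U V hU hV e
    haveI : IsAffine (U : Scheme) := hU
    haveI : IsAffine (V : Scheme) := hV
    have h1 : WeaklyEtale (f.resLE V U e) := inferInstance
    rw [weaklyEtale_iff_of_isAffine] at h1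
    exact (Groth.Agent.Lib.helper3.WEtaleSch.Q_respectsIso.arrow_mk_iso_iff
      (arrowResLEAppIso f V U e)).mp h1
  · intro h
    rw [IsZariskiLocalAtSource.iff_exists_resLE (P := @WeaklyEtale)]
    intro x
    obtain ⟨V, hV, hfx, -⟩ := TopologicalSpace.Opens.isBasis_iff_nbhd.mp S.isBasis_affineOpens
      (show f x ∈ (⊤ : S.Opens) from trivial)
    obtain ⟨U, hU, hx, e⟩ := TopologicalSpace.Opens.isBasis_iff_nbhd.mp X.isBasis_affineOpens
      (show x ∈ f ⁻¹ᵁ V from hfx)
    refine ⟨V, U, hx, e, ?_⟩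
    haveI : IsAffine (U : Scheme) := hU
    haveI : IsAffine (V : Scheme) := hV
    rw [weaklyEtale_iff_of_isAffine]
    exact (Groth.Agent.Lib.helper3.WEtaleSch.Q_respectsIso.arrow_mk_iso_iff
      (arrowResLEAppIso f V U e)).mpr (h U V hU hV e)

end Groth.Agent.S7178
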