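import Groth.Statements.S7179
import Mathlib
import Groth.Agent.S7128

set_option autoImplicit false
universe u
open FlatMor

namespace Groth.Agent.S7179

set_option backward.isDefEq.respectTransparency.types false

open AlgebraicGeometry CategoryTheory Limits in
/-- The source of a weakly étale morphism with reduced target is reduced. -/
theorem result {X Y : Scheme.{u}} (f : X ⟶ Y) [WeaklyEtale f] [IsReduced Y] : IsReduced X := by
  wlog hY : ∃ R, Y = Spec R generalizing X Y
  · have h : ∀ i, IsReduced ((Y.affineCover.pullback₁ f).X i) := by
      intro i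
      have inst : WeaklyEtale (pullback.snd f (Y.affineCover.f i)) :=
        MorphismProperty.pullback_snd (P := @WeaklyEtale) f _ inferInstance
      have inst2 : IsReduced (Y.affineCover.X i) :=
        @isReduced_of_isOpenImmersion _ _ (Y.affineCover.f i) _ ‹_›
      exact @this _ _ (pullback.snd f (Y.affineCover.f i)) inst inst2 ⟨_, rfl⟩
    exact IsReduced.of_openCover _ (Y.affineCover.pullback₁ f)
  obtain ⟨R, rfl⟩ := hY
  wlog hX : ∃ S, X = Spec S generalizing X
  · have h : ∀ i, IsReduced (X.affineCover.X i) := by
      intro i
      have inst : WeaklyEtale (X.affineCover.f i ≫ f) := inferInstance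
      exact this (X.affineCover.f i ≫ f) ⟨_, rfl⟩
    exact IsReduced.of_openCover _ X.affineCover
  obtain ⟨S, rfl⟩ := hX
  obtain ⟨φ, rfl : Spec.map φ = f⟩ := Spec.homEquiv.symm.surjective f
  have hfl : Flat (Spec.map φ) := inferInstance
  rw [Flat.SpecMap_iff] at hfl
  algebraize [φ.hom]
  let F := (Algebra.TensorProduct.lmul' R (S := S)).toRingHom
  have hdiag : Flat (pullback.diagonal (Spec.map φ)) := inferInstance
  have hflat : Flat (Spec.map (CommRingCat.ofHom F)) := by
    rwa [← MorphismProperty.cancel_right_of_respectsIso (P := @Flat) _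
      (pullbackSpecIso R S S).inv, ← AlgebraicGeometry.diagonal_SpecMap R S]
  rw [Flat.SpecMap_iff] at hflat
  have hflat' : F.Flat := hflat
  have hmodflat : Module.Flat R S := hfl
  have hwe : Algebra.WeaklyEtale R S := ⟨hmodflat, hflat'⟩
  have hR : _root_.IsReduced R := (affine_isReduced_iff R).mp inferInstance
  have hS : _root_.IsReduced S := Groth.Agent.S7128.result R S
  infer_instance

end Groth.Agent.S7179
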