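import Groth.Statements.S7183
import Groth.Agent.Lib.Helper12.FerrandFun1
import Groth.Agent.Lib.Helper12.Ferrand5
import Groth.Agent.Lib.Helper12.Ferrand6

set_option autoImplicit false
universe u
open FlatMor

namespace Groth.Agent.S7183


open AlgebraicGeometry CategoryTheory Limits in
/-- fibres of a closed immersion lie in affine opens -/
theorem haff_of_closedImmersion {X Y Z : Scheme.{u}} (i : Z ⟶ X) (j : Z ⟶ Y) [IsClosedImmersion j]
    (y : Y) : ∃ U : X.Opens, IsAffineOpen U ∧ j ⁻¹' {y} ⊆ (i ⁻¹ᵁ U : Set Z) := by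
  by_cases hy : ∃ z : Z, j z = y
  · obtain ⟨z, hz⟩ := hy
    obtain ⟨U, hU, hzU, -⟩ :=
      exists_isAffineOpen_mem_and_subset (X := X) (x := i z) (U := ⊤) trivial
    refine ⟨U, hU, fun z' hz' => ?_⟩
    have : z' = z := j.isClosedEmbedding.injective (by rw [hz]; exact hz')
    rw [this]
    exact hzU
  · refine ⟨⊥, isAffineOpen_bot X, fun z hz => ?_⟩
    exact (hy ⟨z, hz⟩).elim


set_option backward.isDefEq.respectTransparency.types false in
open AlgebraicGeometry CategoryTheory in
theorem etale_comp_inst : MorphismProperty.IsStableUnderComposition @Etale.{u} := inferInstance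

open AlgebraicGeometry CategoryTheory in
theorem flatLFP_comp_inst :
    MorphismProperty.IsStableUnderComposition
      ((@Flat.{u} : MorphismProperty Scheme.{u}) ⊓ @LocallyOfFinitePresentation.{u}) :=
  ⟨fun f g hf hg => ⟨MorphismProperty.comp_mem _ f g hf.1 hg.1,
    MorphismProperty.comp_mem _ f g hf.2 hg.2⟩⟩

open AlgebraicGeometry CategoryTheory in
theorem flatLFP_bc_inst :
    MorphismProperty.IsStableUnderBaseChange
      ((@Flat.{u} : MorphismProperty Scheme.{u}) ⊓ @LocallyOfFinitePresentation.{u}) :=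
  MorphismProperty.IsStableUnderBaseChange.inf

open AlgebraicGeometry CategoryTheory Limits in
/-- Let i : Z → X, j : Z → Y be closed immersions with pushout P, let X' → X and Y' → Y be morphisms
whose base changes to Z are identified (a scheme Z' cartesian over both), let P' be the pushout of
Z' → X' and Z' → Y' and h : P' → P the induced morphism. Then h is locally of finite type (resp.
flat, resp. flat and locally of finite presentation, resp. smooth, resp. étale) if and only if X' →
X and Y' → Y both are. -/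
theorem result {X Y Z P X' Y' Z' P' : Scheme.{u}}
    (i : Z ⟶ X) (j : Z ⟶ Y) [IsClosedImmersion i] [IsClosedImmersion j] (a : X ⟶ P) (b : Y ⟶ P) (hP : IsPushout i j a b)
    (f : X' ⟶ X) (g : Y' ⟶ Y) (i' : Z' ⟶ X') (j' : Z' ⟶ Y') (c : Z' ⟶ Z) (hX : IsPullback i' c f i) (hY : IsPullback j' c g j)
    (a' : X' ⟶ P') (b' : Y' ⟶ P') (hP' : IsPushout i' j' a' b') (h : P' ⟶ P) (ha : a' ≫ h = f ≫ a) (hb : b' ≫ h = g ≫ b) :
    (LocallyOfFiniteType h ↔ LocallyOfFiniteType f ∧ LocallyOfFiniteType g) ∧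
    (Flat h ↔ Flat f ∧ Flat g) ∧
    ((Flat h ∧ LocallyOfFinitePresentation h) ↔ (Flat f ∧ LocallyOfFinitePresentation f) ∧ (Flat g ∧ LocallyOfFinitePresentation g)) ∧
    (Smooth h ↔ Smooth f ∧ Smooth g) ∧
    (Etale h ↔ Etale f ∧ Etale g) := by
  have hi' : IsClosedImmersion i' := MorphismProperty.of_isPullback hX.flip inferInstance
  have hj' : IsClosedImmersion j' := MorphismProperty.of_isPullback hY.flip inferInstance
  have hraw := Groth.Agent.Lib.Helper12.Ferrand5.exists_goodPair i j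
    (fun y => haff_of_closedImmersion i j y)
  have hraw' := Groth.Agent.Lib.Helper12.Ferrand5.exists_goodPair i' j'
    (fun y => haff_of_closedImmersion i' j' y)
  have hcov : ∀ y : Y, ∃ k : Groth.Agent.Lib.Helper12.Ferrand.GoodPair i j, y ∈ k.V := by
    intro y
    obtain ⟨U, V, hU, hV, hy, hh⟩ := hraw y
    exact ⟨⟨U, V, hU, hV, hh⟩, hy⟩
  have hcov' : ∀ y : Y', ∃ k : Groth.Agent.Lib.Helper12.Ferrand.GoodPair i' j', y ∈ k.V := by
    intro y
    obtain ⟨U, V, hU, hV, hy, hh⟩ := hraw' y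
    exact ⟨⟨U, V, hU, hV, hh⟩, hy⟩
  obtain ⟨-, hbcl, -, hacl⟩ := Groth.Agent.Lib.Helper12.Ferrand6.of_isPushout i j hraw a b hP
  have hacl' : IsClosedImmersion a := hacl inferInstance
  have C := fun (O : P.Opens) (hO : IsAffineOpen O)
      (k' : Groth.Agent.Lib.Helper12.Ferrand.GoodPair i' j')
      (hU' : k'.U ≤ (f ≫ a) ⁻¹ᵁ O) (hV' : k'.V ≤ (g ≫ b) ⁻¹ᵁ O) =>
    Groth.Agent.Lib.Helper12.FerrandFun.charts_iff hcov hP hX hY O hO k' hU' hV'
  have swap : ∀ {p q r : Prop}, (p ↔ q ∧ r) → (p ↔ r ∧ q) := fun hh => hh.trans and_comm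
  refine ⟨?_, ?_, ?_, ?_, ?_⟩
  · exact Groth.Agent.Lib.Helper12.FerrandFun.iff_of_charts hcov' hP hP' hX hY h ha hb
      @LocallyOfFiniteType RingHom.FiniteType (fun ι _ => inferInstance)
      (fun O hO k' hU' hV' => (C O hO k' hU' hV').1)
  · exact Groth.Agent.Lib.Helper12.FerrandFun.iff_of_charts hcov' hP hP' hX hY h ha hb
      @Flat RingHom.Flat (fun ι _ => inferInstance)
      (fun O hO k' hU' hV' => (C O hO k' hU' hV').2.1)
  · have inst : HasRingHomProperty (@Flat ⊓ @LocallyOfFinitePresentation)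
        (fun f => RingHom.Flat f ∧ RingHom.FinitePresentation f) := HasRingHomProperty.inf
    have inst2 := flatLFP_comp_inst.{u}
    have inst4 := flatLFP_bc_inst.{u}
    have := Groth.Agent.Lib.Helper12.FerrandFun.iff_of_charts hcov' hP hP' hX hY h ha hb
      (@Flat ⊓ @LocallyOfFinitePresentation)
      (fun f => RingHom.Flat f ∧ RingHom.FinitePresentation f)
      (fun ι _ => ⟨inferInstance, inferInstance⟩)
      (fun O hO k' hU' hV' => (C O hO k' hU' hV').2.2.1)
    exact this
  · exact Groth.Agent.Lib.Helper12.FerrandFun.iff_of_charts hcov' hP hP' hX hY h ha hb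
      @Smooth RingHom.Smooth (fun ι _ => inferInstance)
      (fun O hO k' hU' hV' => (C O hO k' hU' hV').2.2.2.1)
  · have inst3 := etale_comp_inst.{u}
    exact Groth.Agent.Lib.Helper12.FerrandFun.iff_of_charts hcov' hP hP' hX hY h ha hb
      @Etale RingHom.Etale (fun ι _ => inferInstance)
      (fun O hO k' hU' hV' => (C O hO k' hU' hV').2.2.2.2.1)

end Groth.Agent.S7183
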