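import Groth.Statements.S7186
import Groth.Agent.S1431

set_option autoImplicit false
universe u
open FlatMor

namespace Groth.Agent.S7186

open AlgebraicGeometry CategoryTheory Limits in
/-- Let f : X → S be flat, proper and of finite presentation such that O_T → (f_T)_* O_{X_T} is an
isomorphism for every base change T → S. Suppose E is an O_X-module that is finite locally free and
whose restriction to each fibre X_s is free, and let S be reduced. Then E is isomorphic to the
pullback of a finite locally free O_S-module. -/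
theorem result {X S : Scheme.{u}} (f : X ⟶ S) [Flat f] [IsProper f] [LocallyOfFinitePresentation f]
    (hO : ∀ (T : Scheme.{u}) (g : T ⟶ S) (U : T.Opens), IsIso ((pullback.snd f g).app U))
    (E : X.Modules) (hE : FlatMod.IsFinLocFree E)
    (hfib : ∀ s : S, ∃ r : ℕ, Nonempty ((Scheme.Modules.pullback (f.fiberι s)).obj E ≅ FlatMod.freeMod (f.fiber s) r))
    [IsReduced S] :
    ∃ N : S.Modules, FlatMod.IsFinLocFree N ∧ Nonempty ((Scheme.Modules.pullback f).obj N ≅ E) := by
  classical
  obtain ⟨Z, j, hj, hjl, hZ⟩ := Groth.Agent.S1431.result f hO E hE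
  -- every point of `S` lies in the image of `j`
  have hsurj : ∀ s : S, s ∈ Set.range j := by
    intro s
    obtain ⟨r, ⟨e⟩⟩ := hfib s
    obtain ⟨g', hg'⟩ := (hZ _ (S.fromSpecResidueField s)).mpr
      ⟨FlatMod.freeMod _ r, Groth.Agent.Lib.helper16.FLF.isFinLocFree_freeMod _ r,
        ⟨Groth.Agent.Lib.helper16.FLF.pullbackFreeModIso _ r ≪≫ e.symm⟩⟩
    obtain ⟨pt⟩ : Nonempty ↥(Spec (S.residueField s)) := inferInstance
    refine ⟨g' pt, ?_⟩
    have h1 : (g' ≫ j) pt = s := by
      rw [hg']
      exact Scheme.fromSpecResidueField_apply s pt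
    exact h1
  haveI : Surjective j := ⟨fun s => hsurj s⟩
  haveI : IsClosedImmersion j := by
    refine IsClosedImmersion.of_isPreimmersion j ?_
    have : Set.range j = Set.univ := Set.eq_univ_of_forall hsurj
    rw [this]
    exact isClosed_univ
  haveI : IsIso j := isIso_of_isClosedImmersion_of_surjective j
  have hd : Groth.Agent.Lib.helper7.DescQS.Desc (pullback.snd f (𝟙 S))
      ((Scheme.Modules.pullback (pullback.fst f (𝟙 S))).obj E) :=
    (hZ S (𝟙 S)).mp ⟨inv j, IsIso.inv_hom_id j⟩
  have h2 := Groth.Agent.Lib.helper7.DescFinal.desc_transport f E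
    (IsPullback.of_hasPullback f (𝟙 S)) (IsPullback.id_horiz f) hd
  exact Groth.Agent.Lib.helper7.DescQS.desc_of_iso ((Scheme.Modules.pullbackId X).app E) h2

end Groth.Agent.S7186
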