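import Groth.Statements.S7188
import Mathlib
import Groth.Agent.Lib.Helper7.DescLocus

set_option autoImplicit false
universe u
open FlatMor

namespace Groth.Agent.S7188

open AlgebraicGeometry CategoryTheory Limits in
/-- Let f : X → S be flat, proper and of finite presentation with O_T → (f_T)_* O_{X_T} an isomorphism
for every base change, let E be an invertible O_X-module, and let j : Z → S be the immersion of
finite presentation representing the locus of those T → S over which the pullback of E comes from a
finite locally free O_T-module. If every geometric fibre of f is an integral scheme, j is a closed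
immersion (the locus is a closed subscheme of S). -/
theorem result {X S Z : Scheme.{u}} (f : X ⟶ S) [Flat f] [IsProper f] [LocallyOfFinitePresentation f]
    (hO : ∀ (T : Scheme.{u}) (g : T ⟶ S) (U : T.Opens), IsIso ((pullback.snd f g).app U))
    (E : X.Modules) (hE : PicF.IsInvertible E)
    (j : Z ⟶ S) [IsImmersion j] [LocallyOfFinitePresentation j]
    (hZ : ∀ (T : Scheme.{u}) (g : T ⟶ S), (∃ g' : T ⟶ Z, g' ≫ j = g) ↔
        ∃ N : T.Modules, FlatMod.IsFinLocFree N ∧
          Nonempty ((Scheme.Modules.pullback (pullback.snd f g)).obj N ≅ (Scheme.Modules.pullback (pullback.fst f g)).obj E))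
    (hgeo : ∀ (K : Type u) [Field K] (x : Spec (CommRingCat.of K) ⟶ S), IsIntegral (pullback f x)) :
    IsClosedImmersion j := by
  classical
  obtain ⟨E', hE', -, ⟨eE⟩⟩ := Groth.Agent.Lib.helper12.InvDual.exists_inverse hE
  have hint : ∀ s : S, IsIntegral (f.fiber s) := fun s => hgeo _ (S.fromSpecResidueField s)
  have hcl := Groth.Agent.Lib.helper7.NNPicClosed.isClosed_setOf_fiber_trivial f E E' hE hE' eE hint
  refine IsClosedImmersion.of_isPreimmersion j ?_
  have hset : Set.range j =
      {y : S | Nonempty (CohIII.fiberMod f E y ≅ Coh.structureModule (f.fiber y))} := by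
    ext s
    constructor
    · rintro ⟨z, rfl⟩
      haveI := hint (j z)
      obtain ⟨N, hN, ⟨iso⟩⟩ :=
        (hZ _ (Z.fromSpecResidueField z ≫ j)).mp ⟨Z.fromSpecResidueField z, rfl⟩
      exact Groth.Agent.Lib.helper7.DescLocus.fiber_trivial_of_point f E E' hE hE' eE j z N hN iso
    · rintro ⟨e⟩
      obtain ⟨g', hg'⟩ := (hZ _ (S.fromSpecResidueField s)).mpr
        ⟨Coh.structureModule _, Groth.Agent.Lib.helper16.FLF.isFinLocFree_structureModule _,
          ⟨Groth.Agent.Lib.helper11.InvMod.pullbackUnitIso _ ≪≫ e.symm⟩⟩
      obtain ⟨pt⟩ : Nonempty ↥(Spec (S.residueField s)) := inferInstance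
      refine ⟨g' pt, ?_⟩
      have h1 : (g' ≫ j) pt = s := by
        rw [hg']
        exact Scheme.fromSpecResidueField_apply s pt
      exact h1
  rw [hset]
  exact hcl

end Groth.Agent.S7188
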