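import Groth.Statements.S7189
import Groth.Agent.S16956
import Groth.Agent.Lib.Helper7.CubeBC
import Groth.Agent.Lib.Helper7.CubeOpen
import Groth.Agent.Lib.Helper7.DescFinal2
import Groth.Agent.Lib.Helper7.DescRange
import Groth.Agent.Lib.Helper21.InvFibre

set_option autoImplicit false
universe u
open FlatMor

namespace Groth.Agent.S7189

open AlgebraicGeometry CategoryTheory Limits in
/-- a module which descends along a morphism with a section along which it is trivial is trivial -/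
theorem iso_unit_of_desc {W S W' T : Scheme.{u}} (h : W ⟶ S) (L : W.Modules) (ρ : S ⟶ W)
    (hρ : ρ ≫ h = 𝟙 S)
    (hρL : Nonempty ((Scheme.Modules.pullback ρ).obj L ≅ Coh.structureModule S))
    {v : W' ⟶ W} {p : W' ⟶ T} {c : T ⟶ S} (sq : IsPullback v p h c)
    (hd : Groth.Agent.Lib.helper7.DescQS.Desc p ((Scheme.Modules.pullback v).obj L)) :
    Nonempty ((Scheme.Modules.pullback v).obj L ≅ Coh.structureModule W') := by
  obtain ⟨N, -, ⟨e⟩⟩ := hd
  let ρ' : T ⟶ W' := sq.lift (c ≫ ρ) (𝟙 T)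
    (by rw [Category.assoc, hρ, Category.comp_id, Category.id_comp])
  have h1 : ρ' ≫ v = c ≫ ρ := sq.lift_fst _ _ _
  have h2 : ρ' ≫ p = 𝟙 T := sq.lift_snd _ _ _
  obtain ⟨e'⟩ := Groth.Agent.Lib.helper7.CubeBC.triv_pullback_of_comp ρ' v c ρ h1 L hρL
  have eN : N ≅ Coh.structureModule T :=
    ((Scheme.Modules.pullbackId T).app N).symm ≪≫ (Scheme.Modules.pullbackCongr h2.symm).app N ≪≫
      ((Scheme.Modules.pullbackComp ρ' p).app N).symm ≪≫
      (Scheme.Modules.pullback ρ').mapIso e ≪≫ e'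
  exact ⟨e.symm ≪≫ (Scheme.Modules.pullback p).mapIso eN ≪≫
    Groth.Agent.Lib.helper11.InvMod.pullbackUnitIso p⟩

open AlgebraicGeometry CategoryTheory Limits in
/-- Let f : X → S and g : Y → S be flat, proper, of finite presentation, each with O_T → (·_T)_* O an
isomorphism after every base change, with sections σ and τ; let s be a point of S and L an
invertible module on X ×_S Y. If L pulls back to a trivial module along X → X ×_S Y, x ↦ (x,
τ(f(x))) and along Y → X ×_S Y, y ↦ (σ(g(y)), y), and L is trivial on the fibre of X ×_S Y over s,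
then there is an open neighbourhood U of s over whose preimage L is trivial. -/
theorem result {X Y S : Scheme.{u}} (f : X ⟶ S) (g : Y ⟶ S)
    [Flat f] [IsProper f] [LocallyOfFinitePresentation f] [Flat g] [IsProper g] [LocallyOfFinitePresentation g]
    (hOf : ∀ (T : Scheme.{u}) (t : T ⟶ S) (U : T.Opens), IsIso ((pullback.snd f t).app U))
    (hOg : ∀ (T : Scheme.{u}) (t : T ⟶ S) (U : T.Opens), IsIso ((pullback.snd g t).app U))
    (σ : S ⟶ X) (hσ : σ ≫ f = 𝟙 S) (τ : S ⟶ Y) (hτ : τ ≫ g = 𝟙 S) (s : S)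
    (L : (pullback f g).Modules) (hL : PicF.IsInvertible L)
    (u : X ⟶ pullback f g) (hu1 : u ≫ pullback.fst f g = 𝟙 X) (hu2 : u ≫ pullback.snd f g = f ≫ τ)
    (v : Y ⟶ pullback f g) (hv1 : v ≫ pullback.fst f g = g ≫ σ) (hv2 : v ≫ pullback.snd f g = 𝟙 Y)
    (h1 : Nonempty ((Scheme.Modules.pullback u).obj L ≅ Coh.structureModule X))
    (h2 : Nonempty ((Scheme.Modules.pullback v).obj L ≅ Coh.structureModule Y))
    (h3 : Nonempty ((Scheme.Modules.pullback ((pullback.fst f g ≫ f).fiberι s)).obj L ≅ Coh.structureModule ((pullback.fst f g ≫ f).fiber s))) :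
    ∃ U : S.Opens, s ∈ U ∧ Nonempty (L.restrict ((pullback.fst f g ≫ f) ⁻¹ᵁ U).ι ≅ Coh.structureModule ((pullback.fst f g ≫ f) ⁻¹ᵁ U).toScheme) := by
  classical
  have hE : FlatMod.IsFinLocFree L :=
    Groth.Agent.Lib.helper16.FLF.isFinLocFree_of_isInvertible hL
  haveI : Coh.IsQCoh L := Groth.Agent.Lib.helper16.FLF.isQuasicoherent_of_isFinLocFree L hE
  have hfp : CohB1.IsFP L := Groth.Agent.Lib.helper16.FLF.isFinitePresentation_of_isFinLocFree L hE
  have hfl : FlatMod.IsFlatOver (pullback.fst f g ≫ f) L :=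
    Groth.Agent.Lib.helper21.InvFibre.isFlatOver_of_isFinLocFree (pullback.fst f g ≫ f) L hE
  have hO := Groth.Agent.Lib.helper7.CubeBC.isIso_app_h f g hOf hOg
  choose Zr ιr z1 z2 z3 z4 z5 using
    fun r : ℕ => Groth.Agent.S16956.result (pullback.fst f g ≫ f) L hfp hfl r
  haveI := z1
  haveI := z2
  haveI := z3
  obtain ⟨V, hImm, hlfp, hqc, -, huniv⟩ :=
    Groth.Agent.Lib.helper7.DescFinal.exists_immersion_desc_qc (pullback.fst f g ≫ f) hO L hE Zr ιr
      (fun r T u => z4 r T u)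
  haveI := hImm
  haveI := hlfp
  -- the section of `h` along which `L` is trivial
  have hρ : (σ ≫ u) ≫ pullback.fst f g ≫ f = 𝟙 S := by
    rw [Category.assoc, ← Category.assoc u, hu1, Category.id_comp, hσ]
  have hρL : Nonempty ((Scheme.Modules.pullback (σ ≫ u)).obj L ≅ Coh.structureModule S) := by
    obtain ⟨e⟩ := h1
    exact ⟨((Scheme.Modules.pullbackComp σ u).app L).symm ≪≫
      (Scheme.Modules.pullback σ).mapIso e ≪≫ Groth.Agent.Lib.helper11.InvMod.pullbackUnitIso σ⟩
  -- the universal property in terms of triviality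
  have huniv' : ∀ (T : Scheme.{u}) (c : T ⟶ S),
      (∃ c' : T ⟶ _, c' ≫ Sigma.desc (fun r => (V r).ι ≫ ιr r) = c) ↔
        Nonempty ((Scheme.Modules.pullback (pullback.fst (pullback.fst f g ≫ f) c)).obj L ≅
          Coh.structureModule _) := by
    intro T c
    rw [huniv T c]
    constructor
    · intro hd
      exact iso_unit_of_desc (pullback.fst f g ≫ f) L (σ ≫ u) hρ hρL
        (IsPullback.of_hasPullback _ c) hd
    · rintro ⟨e⟩
      exact ⟨Coh.structureModule T,
        Groth.Agent.Lib.helper7.CubeFin.isFinLocFree_structureModule T,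
        ⟨Groth.Agent.Lib.helper11.InvMod.pullbackUnitIso _ ≪≫ e.symm⟩⟩
  -- `s` lies in the locus
  have hs : s ∈ Set.range (Sigma.desc (fun r => (V r).ι ≫ ιr r)) := by
    rw [Groth.Agent.Lib.helper7.DescRange.range_eq_of_universal (pullback.fst f g ≫ f) L _ huniv]
    obtain ⟨e⟩ := h3
    exact ⟨1, ⟨e ≪≫ (Groth.Agent.Lib.helper16.FLF.freeModOneIso _).symm⟩⟩
  -- openness near `s`
  obtain ⟨U, hsU, c', hc'⟩ := Groth.Agent.Lib.helper7.CubeOpen.exists_open_factor _ s hs
    (fun R _ _ t ht htm c hc₁ => by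
      rw [huniv'] at hc₁ ⊢
      exact Groth.Agent.Lib.helper7.CubeBC.main_local f g hOf hOg σ hσ τ hτ L hL u hu1 hu2 v hv1 hv2
        h1 h2 t ht htm c hc₁)
  refine ⟨U, hsU, ?_⟩
  obtain ⟨e⟩ := (huniv' _ U.ι).mp ⟨c', hc'⟩
  let i := pullbackRestrictIsoRestrict (pullback.fst f g ≫ f) U
  have hi : i.inv ≫ pullback.fst (pullback.fst f g ≫ f) U.ι = ((pullback.fst f g ≫ f) ⁻¹ᵁ U).ι :=
    pullbackRestrictIsoRestrict_inv_fst _ U
  exact ⟨(Scheme.Modules.restrictFunctorIsoPullback _).app L ≪≫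
    (Scheme.Modules.pullbackCongr hi.symm).app L ≪≫
    ((Scheme.Modules.pullbackComp i.inv _).app L).symm ≪≫
    (Scheme.Modules.pullback i.inv).mapIso e ≪≫
    Groth.Agent.Lib.helper11.InvMod.pullbackUnitIso i.inv⟩

end Groth.Agent.S7189
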