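import Groth.Statements.S7191
-- import your own Groth.Agent.* helpers here
import Groth.Agent.Lib.Helper9.CDLim2

set_option autoImplicit false
universe u
open CategoryTheory AlgebraicGeometry
open FlatMor
set_option linter.style.haveILetI false
set_option backward.isDefEq.respectTransparency false
open Groth.Agent.Lib.helper9 Groth.Agent.Lib.helper9.CDLim

namespace Groth.Agent.S7191

/-- Let S = lim S_i be a cofiltered limit of schemes with affine transition morphisms, f₀ : X₀ → Y₀ a
morphism over some S_{i₀} with Y₀ quasi-compact and quasi-separated and f₀ locally of finite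
presentation, and f : X → Y its base change to S. If f is completely decomposed (every point of Y is
the image of a point of X with the same residue field), then some base change f_i : X_i → Y_i of f₀
to an S_i, i → i₀, is completely decomposed. -/
theorem result {I : Type u} [SmallCategory I] [IsCofiltered I]
    (D : I ⥤ Scheme.{u}) (c : Limits.Cone D) (hc : Limits.IsLimit c)
    [∀ (i j : I) (a : i ⟶ j), IsAffineHom (D.map a)]
    (i0 : I) {X0 Y0 X Y : Scheme.{u}} (f0 : X0 ⟶ Y0) (q0 : Y0 ⟶ D.obj i0) [CompactSpace ↥Y0] [QuasiSeparatedSpace ↥Y0]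
    [LocallyOfFinitePresentation f0]
    (f : X ⟶ Y) (q : Y ⟶ c.pt) (pY : Y ⟶ Y0) (pX : X ⟶ X0)
    (hY : IsPullback pY q q0 (c.π.app i0)) (hX : IsPullback pX f f0 pY)
    (hcd : ∀ y : Y, ∃ x : X, f x = y ∧ Function.Bijective (f.residueFieldMap x)) :
    ∃ (i : I) (a : i ⟶ i0) (Xi Yi : Scheme.{u}) (fi : Xi ⟶ Yi) (qi : Yi ⟶ D.obj i) (pYi : Yi ⟶ Y0) (pXi : Xi ⟶ X0),
      IsPullback pYi qi q0 (D.map a) ∧ IsPullback pXi fi f0 pYi ∧
      ∀ y : Yi, ∃ x : Xi, fi x = y ∧ Function.Bijective (fi.residueFieldMap x) := by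
  classical
  have hIaff : ∀ (i j : I) (a : i ⟶ j), IsAffineHom (D.map a) := fun i j a ↦ inferInstance
  -- the tower
  let DY : Over i0 ⥤ Scheme.{u} := bcDiagram D i0 q0
  let DX : Over i0 ⥤ Scheme.{u} := bcDiagram D i0 (f0 ≫ q0)
  let φ : DX ⟶ DY := stageNat D i0 f0 q0
  let cY : Limits.Cone DY := bcCone D c i0 q0
  have hcY : Limits.IsLimit cY := isLimitBcCone D c i0 q0 hc
  let cX : Limits.Cone DX := bcCone D c i0 (f0 ≫ q0)
  let f' : cX.pt ⟶ cY.pt := stageFc D c i0 f0 q0
  have hφ : ∀ {j j' : Over i0} (a : j ⟶ j'),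
      IsPullback (DX.map a) (φ.app j) (φ.app j') (DY.map a) := fun a ↦
    isPullback_stageF_map D i0 f0 q0 a
  have hf' : ∀ j : Over i0, IsPullback (cX.π.app j) f' (φ.app j) (cY.π.app j) := by
    intro j
    refine IsPullback.of_right ?_ (stageFc_naturality D c i0 f0 q0 j)
      (isPullback_stageMap (D.map j.hom) f0 q0)
    have e1 : (bcCone D c i0 (f0 ≫ q0)).π.app j ≫ Limits.pullback.snd (D.map j.hom) (f0 ≫ q0) =
        Limits.pullback.snd (c.π.app i0) (f0 ≫ q0) := by simp [Limits.pullback.map]
    have e2 : (bcCone D c i0 q0).π.app j ≫ Limits.pullback.snd (D.map j.hom) q0 =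
        Limits.pullback.snd (c.π.app i0) q0 := by simp [Limits.pullback.map]
    rw [e1, e2]
    exact isPullback_stageMap (c.π.app i0) f0 q0
  haveI : ∀ j : Over i0, CompactSpace ↥(DY.obj j) := fun j ↦ by
    haveI := hIaff _ _ j.hom
    show CompactSpace ↥(Limits.pullback (D.map j.hom) q0)
    exact QuasiCompact.compactSpace_of_compactSpace (Limits.pullback.snd (D.map j.hom) q0)
  haveI : ∀ j : Over i0, QuasiSeparatedSpace ↥(DY.obj j) := fun j ↦ by
    haveI := hIaff _ _ j.hom
    show QuasiSeparatedSpace ↥(Limits.pullback (D.map j.hom) q0)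
    exact quasiSeparatedSpace_of_quasiSeparated (Limits.pullback.snd (D.map j.hom) q0)
  haveI : ∀ j : Over i0, LocallyOfFinitePresentation (φ.app j) := fun j ↦
    MorphismProperty.of_isPullback (isPullback_stageMap (D.map j.hom) f0 q0) inferInstance
  -- complete decomposedness of the standard model of `f`
  have hcd' : ∀ y : cY.pt, CDAt f' y := by
    intro y
    have hsq : IsPullback ((hX.paste_vert hY).flip.isoPullback.inv) f' f
        (hY.flip.isoPullback.inv) := by
      refine IsPullback.of_horiz_isIso ⟨?_⟩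
      have h1 : f' = (hX.paste_vert hY).flip.isoPullback.inv ≫ f ≫ hY.flip.isoPullback.hom :=
        stageMap_eq_of_isPullback hY hX
      rw [h1, Category.assoc, Category.assoc, Iso.hom_inv_id, Category.comp_id]
    exact CDAt.baseChange hsq y (hcd _)
  obtain ⟨j, hj⟩ := exists_cd_stage DX DY φ hφ cX cY hcY f' hf' hcd'
  exact ⟨j.left, j.hom, _, _, stageMap (D.map j.hom) f0 q0, _, _, _,
    isPullback_stage_base (D.map j.hom) q0, isPullback_stageMap (D.map j.hom) f0 q0, hj⟩

end Groth.Agent.S7191
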