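import Groth.Statements.S7192
-- import your own Groth.Agent.* helpers here
import Groth.Agent.Lib.Helper9.WtLim7
import Groth.Agent.S1419

set_option autoImplicit false
universe u
set_option linter.style.haveILetI false
set_option backward.isDefEq.respectTransparency false
open CategoryTheory AlgebraicGeometry
open FlatMor
open Groth.Agent.Lib.helper9 Groth.Agent.Lib.helper9.WtLim

namespace Groth.Agent.S7192

/-- Let Y = lim Y_i be a cofiltered limit of affine schemes and f₀ : X₀ → Y_{i₀} a quasi-finite morphism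
of finite presentation between affine schemes, with base changes f : X → Y and f_i : X_i → Y_i. If w
is a weighting of f, then for some i → i₀ there is a weighting w_i of f_i which pulls back to w
along X → X_i. -/
theorem result {I : Type u} [SmallCategory I] [IsCofiltered I]
    (D : I ⥤ Scheme.{u}) (c : Limits.Cone D) (hc : Limits.IsLimit c) [∀ i, IsAffine (D.obj i)]
    (i0 : I) {X0 X : Scheme.{u}} [IsAffine X0] (f0 : X0 ⟶ D.obj i0) [LocallyQuasiFinite f0] [LocallyOfFinitePresentation f0] [QuasiCompact f0]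
    (f : X ⟶ c.pt) (pX : X ⟶ X0) (hX : IsPullback pX f f0 (c.π.app i0))
    (w : X → ℤ) (hw : MoreMor.IsWeighting f w) :
    ∃ (i : I) (a : i ⟶ i0) (Xi : Scheme.{u}) (fi : Xi ⟶ D.obj i) (pXi : Xi ⟶ X0) (g : X ⟶ Xi) (wi : Xi → ℤ),
      IsPullback pXi fi f0 (D.map a) ∧ g ≫ fi = f ≫ c.π.app i ∧ g ≫ pXi = pX ∧
      MoreMor.IsWeighting fi wi ∧ ∀ x : X, wi (g x) = w x := by
  classical
  have hIaff : ∀ (i j : I) (a : i ⟶ j), IsAffineHom (D.map a) := fun i j a ↦ inferInstance
  -- the tower
  let DY : Over i0 ⥤ Scheme.{u} := Over.forget i0 ⋙ D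
  let DX : Over i0 ⥤ Scheme.{u} := bcDiagram D i0 f0
  let φ : DX ⟶ DY := bcDiagramι D i0 f0
  let cY : Limits.Cone DY := c.whisker (Over.forget i0)
  have hcY : Limits.IsLimit cY := (Functor.Initial.isLimitWhiskerEquiv (Over.forget i0) c).symm hc
  let cX : Limits.Cone DX := bcCone D c i0 f0
  have hcX : Limits.IsLimit cX := isLimitBcCone D c i0 f0 hc
  obtain ⟨q, hq⟩ : ∃ q : Limits.pullback (c.π.app i0) f0 ⟶ c.pt,
    q = Limits.pullback.fst (c.π.app i0) f0 := ⟨_, rfl⟩
  let f' : cX.pt ⟶ cY.pt := q
  have hφ : ∀ {j j' : Over i0} (a : j ⟶ j'),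
      IsPullback (DX.map a) (φ.app j) (φ.app j') (DY.map a) := by
    intro j j' a
    have houter : IsPullback (DX.map a ≫ Limits.pullback.snd (D.map j'.hom) f0)
        (Limits.pullback.fst (D.map j.hom) f0) f0 (D.map a.left ≫ D.map j'.hom) := by
      have e1 : DX.map a ≫ Limits.pullback.snd (D.map j'.hom) f0 =
          Limits.pullback.snd (D.map j.hom) f0 := by simp [DX, Limits.pullback.map]
      have e2 : D.map a.left ≫ D.map j'.hom = D.map j.hom := by
        rw [← D.map_comp, Over.w a]
      rw [e1, e2]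
      exact (IsPullback.of_hasPullback _ _).flip
    exact IsPullback.of_right houter (by simp [DX, φ, DY, Limits.pullback.map])
      (IsPullback.of_hasPullback _ _).flip
  have hf' : ∀ j : Over i0, IsPullback (cX.π.app j) f' (φ.app j) (cY.π.app j) := by
    intro j
    have houter : IsPullback
        ((bcCone D c i0 f0).π.app j ≫ Limits.pullback.snd (D.map j.hom) f0)
        q f0 (c.π.app j.left ≫ D.map j.hom) := by
      have e1 : (bcCone D c i0 f0).π.app j ≫ Limits.pullback.snd (D.map j.hom) f0 =
          Limits.pullback.snd (c.π.app i0) f0 := by simp [Limits.pullback.map]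
      have e2 : c.π.app j.left ≫ D.map j.hom = c.π.app i0 := c.w j.hom
      rw [e1, e2, hq]
      exact (IsPullback.of_hasPullback _ _).flip
    exact IsPullback.of_right houter (by simp [cX, φ, f', hq, cY, Limits.pullback.map])
      (IsPullback.of_hasPullback _ _).flip
  haveI : ∀ j : Over i0, IsAffine (DX.obj j) := fun j ↦ by
    show IsAffine (Limits.pullback (D.map j.hom) f0)
    infer_instance
  haveI : ∀ j : Over i0, IsAffine (DY.obj j) := fun j ↦ by
    show IsAffine (D.obj j.left)
    infer_instance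
  haveI : ∀ j : Over i0, LocallyQuasiFinite (φ.app j) := fun j ↦ by
    show LocallyQuasiFinite (Limits.pullback.fst (D.map j.hom) f0)
    infer_instance
  haveI : ∀ j : Over i0, LocallyOfFinitePresentation (φ.app j) := fun j ↦ by
    show LocallyOfFinitePresentation (Limits.pullback.fst (D.map j.hom) f0)
    infer_instance
  -- transport the weighting
  let e : X ≅ Limits.pullback (c.π.app i0) f0 := hX.flip.isoPullback
  have he1 : e.hom ≫ Limits.pullback.fst (c.π.app i0) f0 = f := hX.flip.isoPullback_hom_fst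
  have he2 : e.hom ≫ Limits.pullback.snd (c.π.app i0) f0 = pX := hX.flip.isoPullback_hom_snd
  have he3 : e.inv ≫ f = q := by rw [hq]; exact hX.flip.isoPullback_inv_fst
  have hsq : IsPullback e.inv q f (𝟙 c.pt) :=
    IsPullback.of_horiz_isIso ⟨by rw [Category.comp_id]; exact he3⟩
  haveI : LocallyQuasiFinite f := MorphismProperty.of_isPullback hX inferInstance
  haveI : LocallyOfFinitePresentation f := MorphismProperty.of_isPullback hX inferInstance
  have hw' : MoreMor.IsWeighting f' (w ∘ ⇑e.inv) :=
    Groth.Agent.S1419.result f w hw q e.inv (𝟙 c.pt) hsq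
  obtain ⟨j, wj, hwj, hpull⟩ := exists_isWeighting_descend DX DY φ hφ cX hcX cY hcY f' hf'
    (w ∘ ⇑e.inv) hw'
  refine ⟨j.left, j.hom, Limits.pullback (D.map j.hom) f0, Limits.pullback.fst (D.map j.hom) f0,
    Limits.pullback.snd (D.map j.hom) f0, e.hom ≫ cX.π.app j, wj,
    (IsPullback.of_hasPullback _ _).flip, ?_, ?_, hwj, fun x ↦ ?_⟩
  · rw [Category.assoc]
    have : cX.π.app j ≫ Limits.pullback.fst (D.map j.hom) f0 =
        Limits.pullback.fst (c.π.app i0) f0 ≫ c.π.app j.left := by
      simp [cX, Limits.pullback.map]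
    rw [this, ← Category.assoc]
    exact congrArg (· ≫ c.π.app j.left) he1
  · rw [Category.assoc]
    have : cX.π.app j ≫ Limits.pullback.snd (D.map j.hom) f0 =
        Limits.pullback.snd (c.π.app i0) f0 := by
      simp [cX, Limits.pullback.map]
    rw [this, he2]
  · have h1 := hpull (e.hom x)
    have h2 : (w ∘ ⇑e.inv) (e.hom x) = w x := by
      show w (e.inv (e.hom x)) = w x
      rw [← Scheme.Hom.comp_apply, e.hom_inv_id]
      rfl
    rw [Scheme.Hom.comp_apply]
    exact h1.trans h2

end Groth.Agent.S7192
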