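import Groth.Statements.S7199
import Groth.Agent.Lib.Helper12.AlgIndPair
import Groth.Agent.Lib.Helper12.GenLinIndep

set_option autoImplicit false
universe u
open FlatMor

namespace Groth.Agent.S7199

/-- Take a field k, an integral domain A that is a finitely generated k-algebra, n ≥ 2 and g_1, …, g_n ∈
A, and suppose some irreducible component of the common zero locus of g_1 and g_2 in Spec A has
dimension dim A − 2. Then for suitable c_1, …, c_n ∈ k the n + 2 elements x_1, …, x_n, Σ g_i x_i, Σ
c_i g_i of the rational function field Frac(A)(x_1, …, x_n) form an algebraically independent family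
over k. -/
theorem result {k A : Type u} [Field k] [CommRing A] [IsDomain A] [Algebra k A]
    [Algebra.FiniteType k A] (m : ℕ) (g : Fin (m + 2) → A)
    (p : Ideal A) (hp : p ∈ (Ideal.span {g 0, g 1}).minimalPrimes) (hdim : ringKrullDim (A ⧸ p) + 2 = ringKrullDim A) :
    ∃ c : Fin (m + 2) → k,
      AlgebraicIndependent k
        (Sum.elim
          (fun i : Fin (m + 2) => algebraMap (MvPolynomial (Fin (m + 2)) (FractionRing A)) (FractionRing (MvPolynomial (Fin (m + 2)) (FractionRing A))) (MvPolynomial.X i))
          ![∑ i, algebraMap A (FractionRing (MvPolynomial (Fin (m + 2)) (FractionRing A))) (g i) *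
              algebraMap (MvPolynomial (Fin (m + 2)) (FractionRing A)) (FractionRing (MvPolynomial (Fin (m + 2)) (FractionRing A))) (MvPolynomial.X i),
            algebraMap A (FractionRing (MvPolynomial (Fin (m + 2)) (FractionRing A))) (∑ i, c i • g i)]) := by
  classical
  -- `g 0, g 1` are algebraically independent over `k`
  have hind : AlgebraicIndependent k ![g 0, g 1] :=
    Groth.Agent.Lib.helper12.AlgIndPair.algebraicIndependent_pair k (g 0) (g 1) p hp hdim
  refine ⟨Pi.single 1 1, ?_⟩
  set K := FractionRing A with hK
  set P := MvPolynomial (Fin (m + 2)) K with hP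
  set L := FractionRing P with hL
  have hinjK : Function.Injective (algebraMap A K) := IsFractionRing.injective A K
  have hindK : AlgebraicIndependent k ![algebraMap A K (g 0), algebraMap A K (g 1)] := by
    have := hind.map' (f := IsScalarTower.toAlgHom k A K) hinjK
    convert this using 1
    funext j
    fin_cases j <;> rfl
  have hmain := Groth.Agent.Lib.helper12.GenLinIndep.main (k := k) (K := K)
    (fun i => algebraMap A K (g i)) 0 (algebraMap A K (g 1)) hindK
  have hinjL : Function.Injective (algebraMap P L) := IsFractionRing.injective P L
  have hL := hmain.map' (f := IsScalarTower.toAlgHom k P L) hinjL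
  have hAL : ∀ a : A, algebraMap A L a = algebraMap P L (MvPolynomial.C (algebraMap A K a)) := by
    intro a
    rw [IsScalarTower.algebraMap_apply A P L, MvPolynomial.algebraMap_apply]
  convert hL using 1
  funext j
  rcases j with i | j
  · rfl
  · fin_cases j
    · show (∑ i, algebraMap A L (g i) * algebraMap P L (MvPolynomial.X i)) =
        algebraMap P L (∑ i, MvPolynomial.C (algebraMap A K (g i)) * MvPolynomial.X i)
      rw [map_sum]
      refine Finset.sum_congr rfl (fun i _ => ?_)
      rw [map_mul, hAL]
    · show algebraMap A L (∑ i, (Pi.single 1 1 : Fin (m + 2) → k) i • g i) =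
        algebraMap P L (MvPolynomial.C (algebraMap A K (g 1)))
      rw [hAL]
      congr 3
      rw [Finset.sum_eq_single 1]
      · simp
      · intro b _ hb
        simp [hb]
      · intro hb
        exact absurd (Finset.mem_univ _) hb

end Groth.Agent.S7199
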