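import Groth.Statements.S7204
import Mathlib.AlgebraicGeometry.Sites.Fpqc
-- import your own Groth.Agent.* helpers here

set_option autoImplicit false
set_option backward.isDefEq.respectTransparency false
universe w u
open FlatMor

namespace Groth.Agent.S7204

set_option linter.style.haveILetI false

open AlgebraicGeometry CategoryTheory Limits

/-- sheaf property of a representable functor for an fpqc covering family. -/
lemma isSheafFor_yoneda {W : Scheme.{u}} (F : PreZeroHypercover.{w} W)
    (hF : F.presieve₀ ∈ Scheme.fpqcPrecoverage W) (T : Scheme.{u}) :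
    (Presieve.ofArrows F.X F.f).IsSheafFor (yoneda.obj T) := by
  exact (GrothendieckTopology.Subcanonical.isSheaf_of_isRepresentable (J := Scheme.fpqcTopology)
    (yoneda.obj T)).isSheafFor _ (Precoverage.generate_mem_toGrothendieck hF)

lemma glue {W : Scheme.{u}} (F : PreZeroHypercover.{w} W)
    (hF : F.presieve₀ ∈ Scheme.fpqcPrecoverage W) (T : Scheme.{u})
    (x : ∀ a, F.X a ⟶ T)
    (hx : ∀ a b, pullback.fst (F.f a) (F.f b) ≫ x a = pullback.snd (F.f a) (F.f b) ≫ x b) :
    ∃ t : W ⟶ T, ∀ a, F.f a ≫ t = x a := by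
  have h := (Presieve.isSheafFor_arrows_iff_pullbacks (P := yoneda.obj T) F.f).mp
    (isSheafFor_yoneda F hF T) x (fun a b => hx a b)
  obtain ⟨t, ht, -⟩ := h
  exact ⟨t, ht⟩

lemma sep {W : Scheme.{u}} {ι : Type w} {X : ι → Scheme.{u}} (f : ∀ a, X a ⟶ W)
    (hF : Presieve.ofArrows X f ∈ Scheme.fpqcPrecoverage W) {T : Scheme.{u}}
    (t t' : W ⟶ T) (h : ∀ a, f a ≫ t = f a ≫ t') : t = t' := by
  have hs : (Presieve.ofArrows X f).IsSheafFor (yoneda.obj T) := by
    exact (GrothendieckTopology.Subcanonical.isSheaf_of_isRepresentable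
      (J := Scheme.fpqcTopology) (yoneda.obj T)).isSheafFor _
      (Precoverage.generate_mem_toGrothendieck hF)
  have h' := (Presieve.isSheafFor_arrows_iff_pullbacks (P := yoneda.obj T) f).mp hs
    (fun a => f a ≫ t') (fun a b => by
      show pullback.fst (f a) (f b) ≫ f a ≫ t' = pullback.snd (f a) (f b) ≫ f b ≫ t'
      rw [pullback.condition_assoc])
  obtain ⟨s, -, hs2⟩ := h'
  rw [hs2 t h, hs2 t' (fun a => rfl)]


open AlgebraicGeometry CategoryTheory Limits in
/-- Let (X_i)_{i ∈ I} be a diagram of schemes and (W, X_i → W) a cocone under it. If there is an fpqc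
covering {W_a → W} such that each W_a is the colimit (in schemes) of the base-changed diagram (X_i
×_W W_a), and each W_a ×_W W_b is the colimit of (X_i ×_W W_a ×_W W_b), then W is the colimit of
(X_i) in the category of schemes. -/
theorem result {J : Type u} [SmallCategory J] (D : J ⥤ Scheme.{u}) (c : Cocone D)
    (F : PreZeroHypercover.{w} c.pt) (hF : F.presieve₀ ∈ Scheme.fpqcPrecoverage c.pt)
    (h1 : ∀ a : F.I₀, Nonempty (IsColimit ((Over.forgetCocone (F.X a)).whisker
      (D.toOver c.pt (fun j => c.ι.app j) (fun g => c.w g) ⋙ Over.pullback (F.f a)))))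
    (h2 : ∀ a b : F.I₀, Nonempty (IsColimit ((Over.forgetCocone (pullback (F.f a) (F.f b))).whisker
      (D.toOver c.pt (fun j => c.ι.app j) (fun g => c.w g) ⋙ Over.pullback (pullback.fst (F.f a) (F.f b) ≫ F.f a))))) :
    Nonempty (IsColimit c) := by
  -- the cocone with point `t.pt` over a base-changed diagram
  let mkC : ∀ {V : Scheme.{u}} (v : V ⟶ c.pt) (t : Cocone D),
      Cocone ((D.toOver c.pt (fun j => c.ι.app j) (fun g => c.w g) ⋙ Over.pullback v) ⋙
        Over.forget V) := fun {V} v t =>
    { pt := t.pt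
      ι := { app := fun j => pullback.fst (c.ι.app j) v ≫ t.ι.app j
             naturality := fun j j' g => by
               simp
               erw [pullback.lift_fst_assoc]
               rw [Category.assoc, t.w g]
               rfl }}
  refine ⟨?_⟩
  -- local descents
  have key : ∀ (t : Cocone D), ∃ u : c.pt ⟶ t.pt, ∀ a, ∀ j,
      pullback.snd (c.ι.app j) (F.f a) ≫ F.f a ≫ u = pullback.fst (c.ι.app j) (F.f a) ≫ t.ι.app j := by
    intro t
    let x : ∀ a, F.X a ⟶ t.pt := fun a => (h1 a).some.desc (mkC (F.f a) t)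
    have hx : ∀ a j, pullback.snd (c.ι.app j) (F.f a) ≫ x a =
        pullback.fst (c.ι.app j) (F.f a) ≫ t.ι.app j := fun a j =>
      (h1 a).some.fac (mkC (F.f a) t) j
    have hcomp : ∀ a b, pullback.fst (F.f a) (F.f b) ≫ x a = pullback.snd (F.f a) (F.f b) ≫ x b := by
      intro a b
      refine (h2 a b).some.hom_ext (fun j => ?_)
      show pullback.snd (c.ι.app j) (pullback.fst (F.f a) (F.f b) ≫ F.f a) ≫ _ =
        pullback.snd (c.ι.app j) (pullback.fst (F.f a) (F.f b) ≫ F.f a) ≫ _
      let m₁ : pullback (c.ι.app j) (pullback.fst (F.f a) (F.f b) ≫ F.f a) ⟶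
          pullback (c.ι.app j) (F.f a) :=
        pullback.lift (pullback.fst _ _) (pullback.snd _ _ ≫ pullback.fst (F.f a) (F.f b))
          (by rw [Category.assoc]; exact pullback.condition)
      let m₂ : pullback (c.ι.app j) (pullback.fst (F.f a) (F.f b) ≫ F.f a) ⟶
          pullback (c.ι.app j) (F.f b) :=
        pullback.lift (pullback.fst _ _) (pullback.snd _ _ ≫ pullback.snd (F.f a) (F.f b))
          (by
            rw [Category.assoc, ← pullback.condition (f := F.f a) (g := F.f b)]
            exact pullback.condition)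
      have e₁ : pullback.snd (c.ι.app j) (pullback.fst (F.f a) (F.f b) ≫ F.f a) ≫
          pullback.fst (F.f a) (F.f b) ≫ x a = pullback.fst _ _ ≫ t.ι.app j := by
        have : m₁ ≫ pullback.snd (c.ι.app j) (F.f a) ≫ x a =
            m₁ ≫ pullback.fst (c.ι.app j) (F.f a) ≫ t.ι.app j := by rw [hx a j]
        simpa [m₁] using this
      have e₂ : pullback.snd (c.ι.app j) (pullback.fst (F.f a) (F.f b) ≫ F.f a) ≫
          pullback.snd (F.f a) (F.f b) ≫ x b = pullback.fst _ _ ≫ t.ι.app j := by
        have : m₂ ≫ pullback.snd (c.ι.app j) (F.f b) ≫ x b =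
            m₂ ≫ pullback.fst (c.ι.app j) (F.f b) ≫ t.ι.app j := by rw [hx b j]
        simpa [m₂] using this
      rw [e₁, e₂]
    obtain ⟨u, hu⟩ := glue F hF t.pt x hcomp
    refine ⟨u, fun a j => ?_⟩
    rw [hu a, hx a j]
  have hcov : ∀ j, Presieve.ofArrows (fun a => pullback (c.ι.app j) (F.f a))
      (fun a => pullback.fst (c.ι.app j) (F.f a)) ∈ Scheme.fpqcPrecoverage (D.obj j) := fun j =>
    Precoverage.mem_coverings_of_isPullback F.f hF (c.ι.app j)
      (fun a => pullback.fst (c.ι.app j) (F.f a)) (fun a => pullback.snd (c.ι.app j) (F.f a))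
      (fun a => IsPullback.of_hasPullback _ _)
  exact
  { desc := fun t => (key t).choose
    fac := fun t j => by
      refine sep _ (hcov j) _ _ (fun a => ?_)
      rw [pullback.condition_assoc]
      exact (key t).choose_spec a j
    uniq := fun t m hm => by
      refine sep F.f hF _ _ (fun a => ?_)
      refine (h1 a).some.hom_ext (fun j => ?_)
      show pullback.snd (c.ι.app j) (F.f a) ≫ F.f a ≫ m =
        pullback.snd (c.ι.app j) (F.f a) ≫ F.f a ≫ (key t).choose
      rw [(key t).choose_spec a j, ← pullback.condition_assoc, hm j] }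


end Groth.Agent.S7204
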