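import Groth.Statements.S7207
import Groth.Agent.Lib.Helper25.ClPush4

set_option autoImplicit false
universe u
open CategoryTheory CategoryTheory.Limits AlgebraicGeometry Opposite TopologicalSpace
attribute [local instance] HasDerivedCategory.standard
open FlatMor

namespace Groth.Agent.S7207

/-- Let f : X ⟶ S be a morphism of schemes, U ⊆ X and V ⊆ S affine opens with f(U) ⊆ V, E an object of
D(O_X) and m an integer. Suppose that for one surjection φ : Γ(S, V)[x_1, …, x_n] → Γ(X, U)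
compatible with f the direct image of E|_U along the associated closed immersion of U into affine
n-space over V is m-pseudo-coherent. Then for every surjection ψ : Γ(S, V)[x_1, …, x_k] → Γ(X, U)
compatible with f the direct image of E|_U along the associated closed immersion into affine k-space
over V is m-pseudo-coherent as well. -/
theorem result {X S : Scheme.{u}} (f : X ⟶ S) (U : X.Opens) (hU : IsAffineOpen U)
    (V : S.Opens) (hV : IsAffineOpen V) (h : U ≤ f ⁻¹ᵁ V) (m : ℤ) (E : DCoh.D X)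
    {n : ℕ} (φ : MvPolynomial (Fin n) Γ(S, V) →+* Γ(X, U)) (hφ : DerSch.IsChart f U V h φ)
    (hE : DerSch.ChartPC m E U V φ)
    {k : ℕ} (ψ : MvPolynomial (Fin k) Γ(S, V) →+* Γ(X, U)) (hψ : DerSch.IsChart f U V h ψ) :
    DerSch.ChartPC m E U V ψ := by
    classical
  intro G hG
  have h0 := hE G hG
  obtain ⟨hφs, hφC⟩ := hφ
  obtain ⟨hψs, hψC⟩ := hψ
  choose a ha using fun j : Fin k => hφs (ψ (MvPolynomial.X j))
  choose b hb using fun i : Fin n => hψs (φ (MvPolynomial.X i))
  let θ₁ : MvPolynomial (Fin k) (MvPolynomial (Fin n) Γ(S, V)) →+* MvPolynomial (Fin n) Γ(S, V) :=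
    MvPolynomial.eval₂Hom (RingHom.id _) a
  let θ₂ : MvPolynomial (Fin n) (MvPolynomial (Fin k) Γ(S, V)) →+* MvPolynomial (Fin k) Γ(S, V) :=
    MvPolynomial.eval₂Hom (RingHom.id _) b
  let σ : MvPolynomial (Fin k) (MvPolynomial (Fin n) Γ(S, V)) ≃+*
      MvPolynomial (Fin n) (MvPolynomial (Fin k) Γ(S, V)) :=
    (MvPolynomial.commAlgEquiv Γ(S, V) (Fin k) (Fin n)).toRingEquiv
  have hθ₁s : Function.Surjective θ₁ := fun p => ⟨MvPolynomial.C p, by simp [θ₁]⟩
  have hθ₂s : Function.Surjective θ₂ := fun p => ⟨MvPolynomial.C p, by simp [θ₂]⟩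
  have key : (ψ.comp θ₂).comp σ.toRingHom = φ.comp θ₁ := by
    refine MvPolynomial.ringHom_ext (fun p => ?_) (fun j => ?_)
    · have : (((ψ.comp θ₂).comp σ.toRingHom).comp MvPolynomial.C) = ((φ.comp θ₁).comp MvPolynomial.C) := by
        refine MvPolynomial.ringHom_ext (fun r => ?_) (fun i => ?_)
        · have h1 := congrArg (fun f : Γ(S, V) →+* Γ(X, U) => f r) hφC
          have h2 := congrArg (fun f : Γ(S, V) →+* Γ(X, U) => f r) hψC
          simp only [RingHom.comp_apply] at h1 h2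
          simp [θ₁, θ₂, σ, h1, h2]
        · simp [θ₁, θ₂, σ, MvPolynomial.commAlgEquiv_C_X, hb]
      exact congrArg (fun f : MvPolynomial (Fin n) Γ(S, V) →+* Γ(X, U) => f p) this
    · simp [θ₁, θ₂, σ, ha]
  have h1 := (Groth.Agent.Lib.Helper25.ClPush.pc_chart_comp_iff U φ θ₁ hθ₁s
    (Groth.Agent.Lib.Helper25.ClPush.pcHom_eval a) ((DCoh.restrictCx U).obj G) m).1 h0
  rw [← key] at h1
  have h2 := (Groth.Agent.Lib.Helper25.ClPush.pc_chart_comp_iff U (ψ.comp θ₂) σ.toRingHom σ.surjective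
    (Groth.Agent.Lib.Helper25.ClPush.pcHom_ringEquiv σ) ((DCoh.restrictCx U).obj G) m).2 h1
  exact (Groth.Agent.Lib.Helper25.ClPush.pc_chart_comp_iff U ψ θ₂ hθ₂s
    (Groth.Agent.Lib.Helper25.ClPush.pcHom_eval b) ((DCoh.restrictCx U).obj G) m).2 h2

end Groth.Agent.S7207
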