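import Groth.Statements.S7237
import Mathlib
-- import your own Groth.Agent.* helpers here

set_option autoImplicit false
universe u
open TensorProduct
open FlatMor

namespace Groth.Agent.S7237

/-- A derivation out of the symmetric algebra with prescribed values on generators. -/
theorem exists_derivation (A : Type u) [CommRing A] (M : Type u) [AddCommGroup M] [Module A M]
    (N : Type u) [AddCommGroup N] [Module A N] [Module (SymmetricAlgebra A M) N]
    [IsScalarTower A (SymmetricAlgebra A M) N] (g : M →ₗ[A] N) :
    ∃ δ : Derivation A (SymmetricAlgebra A M) N, ∀ m, δ (SymmetricAlgebra.ι A M m) = g m := by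
  let : Module (SymmetricAlgebra A M)ᵐᵒᵖ N :=
    Module.compHom _ ((RingHom.id (SymmetricAlgebra A M)).fromOpposite mul_comm)
  have : IsCentralScalar (SymmetricAlgebra A M) N := ⟨fun r m => rfl⟩
  have : SMulCommClass (SymmetricAlgebra A M) (SymmetricAlgebra A M)ᵐᵒᵖ N :=
    ⟨fun c c' n => smul_comm c c'.unop n⟩
  have : IsScalarTower A (SymmetricAlgebra A M)ᵐᵒᵖ N := ⟨fun a c' n => by
    change (a • c'.unop) • n = a • (c'.unop • n)
    exact smul_assoc a c'.unop n⟩
  let l : M →ₗ[A] TrivSqZeroExt (SymmetricAlgebra A M) N :=
    (TrivSqZeroExt.inlAlgHom A (SymmetricAlgebra A M) N).toLinearMap ∘ₗ SymmetricAlgebra.ι A M +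
      ((TrivSqZeroExt.inrHom (SymmetricAlgebra A M) N).restrictScalars A) ∘ₗ g
  let φ : SymmetricAlgebra A M →ₐ[A] TrivSqZeroExt (SymmetricAlgebra A M) N :=
    SymmetricAlgebra.lift l
  have hφι : ∀ m, φ (SymmetricAlgebra.ι A M m) =
      TrivSqZeroExt.inl (SymmetricAlgebra.ι A M m) + TrivSqZeroExt.inr (g m) := by
    intro m
    change SymmetricAlgebra.lift l (SymmetricAlgebra.ι A M m) = _
    rw [SymmetricAlgebra.lift_ι_apply]
    rfl
  have hfst : (TrivSqZeroExt.fstHom A (SymmetricAlgebra A M) N).comp φ =
      AlgHom.id A (SymmetricAlgebra A M) := by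
    apply SymmetricAlgebra.algHom_ext
    ext m
    change (φ (SymmetricAlgebra.ι A M m)).fst = SymmetricAlgebra.ι A M m
    rw [hφι]
    simp
  have hfst' : ∀ c, (φ c).fst = c := fun c => congr($hfst c)
  refine ⟨{ toLinearMap :=
              ((TrivSqZeroExt.sndHom (SymmetricAlgebra A M) N).restrictScalars A) ∘ₗ φ.toLinearMap
            map_one_eq_zero' := ?_
            leibniz' := ?_ }, ?_⟩
  · simp
  · intro a b
    simp only [LinearMap.coe_comp, LinearMap.coe_restrictScalars, AlgHom.coe_toLinearMap,
      Function.comp_apply, map_mul, TrivSqZeroExt.sndHom_apply, TrivSqZeroExt.snd_mul, hfst']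
    rfl
  · intro m
    change (φ (SymmetricAlgebra.ι A M m)).snd = g m
    rw [hφι]
    simp


/-- Let A be a ring and M a finitely generated A-module, and let C = Sym_A(M) be the symmetric algebra
of M with its canonical A-linear map ι : M → C. Then Ω_{C/A} = M ⊗_A C: the C-linear map C ⊗_A M →
Ω_{C/A} obtained by extending scalars in the A-linear map m ↦ d(ι m), d being the universal
A-derivation of C, is bijective. (The published lemma also computes the whole naive cotangent
complex of the presentation of C attached to a surjection A^m → M with kernel K, namely as K ⊗_A C →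
⊕_j C dy_j; only its consequence for Ω is asserted here.) -/
theorem result (A : Type u) [CommRing A] (M : Type u)
    [AddCommGroup M] [Module A M] [Module.Finite A M] :
    Function.Bijective (LinearMap.liftBaseChange (SymmetricAlgebra A M)
      ((KaehlerDifferential.D A (SymmetricAlgebra A M)).toLinearMap.restrictScalars A ∘ₗ SymmetricAlgebra.ι A M)) := by
  obtain ⟨δ, hδ⟩ := exists_derivation A M (SymmetricAlgebra A M ⊗[A] M)
    (TensorProduct.mk A (SymmetricAlgebra A M) M 1)
  constructor
  · -- injective: left inverse given by the lift of δ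
    have h1 : ∀ z, δ.liftKaehlerDifferential (LinearMap.liftBaseChange (SymmetricAlgebra A M)
      ((KaehlerDifferential.D A (SymmetricAlgebra A M)).toLinearMap.restrictScalars A ∘ₗ
        SymmetricAlgebra.ι A M) z) = z := by
      intro z
      induction z using TensorProduct.induction_on with
      | zero => simp
      | tmul c m =>
        rw [LinearMap.liftBaseChange_tmul, map_smul]
        simp only [LinearMap.coe_comp, LinearMap.coe_restrictScalars, Function.comp_apply,
          Derivation.coeFn_coe, Derivation.liftKaehlerDifferential_comp_D, hδ]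
        rw [TensorProduct.mk_apply, TensorProduct.smul_tmul', smul_eq_mul, mul_one]
      | add x y hx hy => rw [map_add, map_add, hx, hy]
    intro x y hxy
    have := congrArg δ.liftKaehlerDifferential hxy
    rwa [h1, h1] at this
  · -- surjective
    rw [← LinearMap.range_eq_top, eq_top_iff, ← KaehlerDifferential.span_range_derivation,
      Submodule.span_le]
    rintro _ ⟨c, rfl⟩
    induction c using SymmetricAlgebra.induction with
    | algebraMap r =>
      rw [Derivation.map_algebraMap]
      exact Submodule.zero_mem _
    | ι m =>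
      refine ⟨1 ⊗ₜ m, ?_⟩
      rw [LinearMap.liftBaseChange_tmul, one_smul]
      rfl
    | mul a b ha hb =>
      rw [Derivation.leibniz]
      exact Submodule.add_mem _ (Submodule.smul_mem _ _ hb) (Submodule.smul_mem _ _ ha)
    | add a b ha hb =>
      rw [map_add]
      exact Submodule.add_mem _ ha hb

end Groth.Agent.S7237
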