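import Groth.Statements.S7240
import Mathlib
import Groth.Agent.Lib.Helper25.DCohPC
-- import your own Groth.Agent.* helpers here

set_option autoImplicit false
universe u
open CategoryTheory CategoryTheory.Limits AlgebraicGeometry
attribute [local instance] HasDerivedCategory.standard
open Perf

namespace Groth.Agent.S7240

/-- Let X be a scheme, m an integer and E an m-pseudo-coherent object of D(O_X). Then the cohomology
sheaf Hⁱ(E) is quasi-coherent for every i > m, and Hᵐ(E) is, locally on X, a quotient of a
quasi-coherent module: every point of X has an open neighbourhood V and a quasi-coherent O_V-module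
mapping onto Hᵐ(E)|_V. (The published statement says that Hᵐ(E) is a quotient of a quasi-coherent
O_X-module; its proof gives this only locally on X, which is what this row states, and the global
form fails: on the affine plane over ℚ, the direct image of an invertible module over the inverse
image of O_X on a triangle of three lines, twisted by the constant 2 around the cycle, is an
O_X-module of finite type with no nonzero global section, so it is not a quotient of any
quasi-coherent module.) -/
theorem result {X : Scheme.{u}} (m : ℤ) (E : DCoh.D X)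
    (hE : DCoh.IsPseudoCoherentD m E) :
    (∀ i : ℤ, m < i → Coh.IsQCoh (DCoh.HD E i)) ∧
      ∀ x : X, ∃ (V : X.Opens) (Q : (V : Scheme.{u}).Modules)
        (π : Q ⟶ (Scheme.Modules.restrictFunctor V.ι).obj (DCoh.HD E m)), x ∈ V ∧ Coh.IsQCoh Q ∧ Epi π := by
  classical
  have key : ∀ x : X, ∃ (V : X.Opens), x ∈ V ∧
      Groth.Agent.Lib.helper25.DCohPC.PCData m ((DCoh.restrictD V.ι).obj E) :=
    fun x => Groth.Agent.Lib.helper25.DCohPC.exists_pcData hE x
  choose V hxV hV using key
  refine ⟨fun i hi => ?_, fun x => ?_⟩
  · refine Groth.Agent.Lib.helper28.RestrictCover.isQuasicoherent_of_restrict_cover (DCoh.HD E i)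
      (fun x : X => ((V x : X.Opens) : Scheme.{u})) (fun x => (V x).ι) ?_ (fun x => ?_)
    · intro x
      exact ⟨x, ⟨x, hxV x⟩, rfl⟩
    · obtain ⟨P, α, hP, h1, h2⟩ := hV x
      obtain ⟨e⟩ := Groth.Agent.Lib.helper25.DCohHomology.nonempty_HD_restrict_iso (V x).ι E i
      have := h1 i hi
      have hq := Groth.Agent.Lib.helper25.DCohPC.isQuasicoherent_homology_of_isStrictlyPerfect hP i
      have iso : P.homology i ≅ (Scheme.Modules.restrictFunctor (V x).ι).obj (DCoh.HD E i) :=
        ((DerivedCategory.homologyFunctorFactors _ i).app P).symm ≪≫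
          asIso ((DerivedCategory.homologyFunctor _ i).map α) ≪≫ e.symm
      exact (SheafOfModules.isQuasicoherent ((V x : X.Opens) : Scheme.{u}).ringCatSheaf).prop_of_iso iso hq
  · obtain ⟨P, α, hP, h1, h2⟩ := hV x
    obtain ⟨e⟩ := Groth.Agent.Lib.helper25.DCohHomology.nonempty_HD_restrict_iso (V x).ι E m
    refine ⟨V x, P.homology m,
      ((DerivedCategory.homologyFunctorFactors _ m).app P).inv ≫
        (DerivedCategory.homologyFunctor _ m).map α ≫ e.inv, hxV x,
      Groth.Agent.Lib.helper25.DCohPC.isQuasicoherent_homology_of_isStrictlyPerfect hP m, ?_⟩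
    have := h2
    infer_instance

end Groth.Agent.S7240
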