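import Groth.Statements.S7241
import Groth.Agent.Lib.Helper11.CounitEpi
import Groth.Agent.Lib.Helper12.AmpleSep
import Groth.Agent.Lib.Helper12.RelAmpleComp
import Groth.Agent.Lib.Helper12.InvDual2
import Groth.Agent.Lib.Helper12.TensorCocont
import Groth.Agent.Lib.Helper16.FLFTensor
import Groth.Agent.S1110

set_option autoImplicit false
universe u
open CategoryTheory CategoryTheory.Limits AlgebraicGeometry
attribute [local instance] HasDerivedCategory.standard
open Perf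

namespace Groth.Agent.S7241

open Scheme.Modules Opposite TopologicalSpace
open Groth.Agent.Lib.helper11.SerreGG Groth.Agent.Lib.helper12.TwistExtend

/-- Lemma B: if the images of finitely many global sections of `G` generate `M` near every point,
then `φ : G ⟶ M` is an epimorphism. -/
theorem epi_of_genAtBy_image {X : Scheme.{u}} {G M : X.Modules} (φ : G ⟶ M) {ι : Type*}
    (g : ι → G.val.obj (op ⊤))
    (h : ∀ y : X, GenAtBy M (fun i => (φ.val.app (op ⊤)).hom (g i)) y) : Epi φ := by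
  refine Groth.Agent.Lib.helper28.SecEpi.epi_of_locally_surjective _ fun V s y hy => ?_
  obtain ⟨W, hW, hyW, hmem⟩ := h y V s hy
  refine ⟨W, hW, hyW, ?_⟩
  have hle : gsubBy M (fun i => (φ.val.app (op ⊤)).hom (g i)) W ≤
      LinearMap.range (φ.val.app (op W)).hom := by
    unfold gsubBy
    rw [Submodule.span_le]
    rintro _ ⟨i, rfl⟩
    refine ⟨res G (le_top : W ≤ ⊤) (g i), ?_⟩
    exact (res_app φ (le_top : W ≤ ⊤) (g i)).symm
  obtain ⟨t, ht⟩ := hle hmem
  exact ⟨t, ht⟩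

/-- Local step (Serre): finitely many sections of `(F ⊗ L^n)|_U` generate it, for `n` large, if
`L|_U` is ample. -/
theorem exists_genAtBy_restrict {X : Scheme.{u}} (L : X.Modules) (U : X.Opens)
    (hamp : CohB1.IsAmple (L.restrict U.ι)) (F : X.Modules) (hF : Coh.IsCoh F) :
    ∃ N : ℕ, ∀ n : ℕ, N ≤ n → ∃ (ι : Type u) (_ : Finite ι)
      (T : ι → ((CohB1.tensorMod F (CohB1.tensorPow L n)).restrict U.ι).val.obj (op ⊤)),
      ∀ y : (U : Scheme.{u}),
        GenAtBy ((CohB1.tensorMod F (CohB1.tensorPow L n)).restrict U.ι) T y := by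
  have hqs : QuasiSeparatedSpace ((U : X.Opens) : Scheme.{u}) :=
    Groth.Agent.Lib.helper12.AmpleBasis.quasiSeparatedSpace_of_hasAffineCover hamp.1 hamp.2.2
  obtain ⟨N, hN⟩ := exists_finite_genAtBy_twist hamp
    (F.restrict U.ι) (Groth.Agent.Lib.helper11.CounitEpi.isCoh_restrict hF _)
  refine ⟨N, fun n hn => ?_⟩
  obtain ⟨ι, hι, T, hT⟩ := hN n hn
  let e : (CohB1.tensorMod F (CohB1.tensorPow L n)).restrict U.ι ≅
      CohB1.tensorMod (F.restrict U.ι) (CohB1.tensorPow (L.restrict U.ι) n) :=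
    Groth.Agent.Lib.helper12.TensorRestrict.restrictTensorIso U.ι F (CohB1.tensorPow L n) ≪≫
      PicGrp.tensorModIso (Iso.refl _)
        (Groth.Agent.Lib.helper12.AmplePow.restrictTensorPowIso U.ι L n)
  exact ⟨ι, hι, _, fun y => genAtBy_of_iso e.symm (hT y)⟩

theorem exists_epi_pullback {X Y : Scheme.{u}} (f : X ⟶ Y) [QuasiCompact f] [QuasiSeparated f]
    [CompactSpace Y] [QuasiSeparatedSpace Y]
    (hY : PerfAux.HasResolutionProperty Y) (P : X.Modules) [P.IsQuasicoherent]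
    (t : Finset Y.affineOpens) (ht : ∀ y : Y, ∃ V ∈ t, y ∈ V.1)
    (hgen : ∀ V ∈ t, ∃ (ι : Type u) (_ : Finite ι)
      (T : ι → (P.restrict (f ⁻¹ᵁ V.1).ι).val.obj (op ⊤)),
      ∀ y, GenAtBy (P.restrict (f ⁻¹ᵁ V.1).ι) T y) :
    ∃ (E : Y.Modules) (ψ : (Scheme.Modules.pullback f).obj E ⟶ P),
      FlatMod.IsFinLocFree E ∧ Epi ψ := by
  classical
  haveI hN : ((pushforward f).obj P).IsQuasicoherent :=
    Groth.Agent.Lib.helper7.QCohPushQC.isQuasicoherent_pushforward f P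
  have hle : ∀ V : Y.Opens, f ⁻¹ᵁ V ≤ (f ⁻¹ᵁ V).ι ''ᵁ ⊤ := fun V => by
    rw [Scheme.Opens.ι_image_top]
  have hS : ∀ V : Y.affineOpens, ∃ S : Finset Γ((pushforward f).obj P, V.1), V ∈ t →
      ∃ (ι : Type u) (T : ι → (P.restrict (f ⁻¹ᵁ V.1).ι).val.obj (op ⊤)),
        (∀ y, GenAtBy (P.restrict (f ⁻¹ᵁ V.1).ι) T y) ∧
        ∀ i, P.presheaf.map (homOfLE (hle V.1)).op (T i) ∈ S := by
    intro V
    by_cases hV : V ∈ t
    · obtain ⟨ι, hι, T, hT⟩ := hgen V hV
      haveI := Fintype.ofFinite ι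
      exact ⟨Finset.univ.image (fun i => P.presheaf.map (homOfLE (hle V.1)).op (T i)),
        fun _ => ⟨ι, T, hT, fun i => Finset.mem_image_of_mem _ (Finset.mem_univ i)⟩⟩
    · exact ⟨∅, fun h => absurd h hV⟩
  choose S hS using hS
  obtain ⟨E, φ, hE, hφ⟩ := Groth.Agent.S1110.exists_flf_hitting hY ((pushforward f).obj P) S t
  let adj := pullbackPushforwardAdjunction f
  let ψ : (Scheme.Modules.pullback f).obj E ⟶ P := (adj.homEquiv E P).symm φ
  have hφψ : φ = adj.unit.app E ≫ (pushforward f).map ψ := by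
    have := adj.homEquiv_unit (X := E) (Y := P) (f := ψ)
    rw [← this]
    exact ((adj.homEquiv E P).apply_symm_apply φ).symm
  refine ⟨E, ψ, hE, ?_⟩
  refine Groth.Agent.Lib.helper11.CounitEpi.epi_of_forall_restrict ψ fun x => ?_
  obtain ⟨V, hV, hx⟩ := ht (f x)
  refine ⟨f ⁻¹ᵁ V.1, hx, ?_⟩
  obtain ⟨ι, T, hT, hTS⟩ := hS V hV
  have hlift : ∀ i, ∃ e : Γ(E, V.1),
      φ.app V.1 e = P.presheaf.map (homOfLE (hle V.1)).op (T i) := fun i => hφ V hV _ (hTS i)
  choose e he using hlift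
  have hge : (f ⁻¹ᵁ V.1).ι ''ᵁ ⊤ ≤ f ⁻¹ᵁ V.1 := by rw [Scheme.Opens.ι_image_top]
  let g : ι → (((Scheme.Modules.pullback f).obj E).restrict (f ⁻¹ᵁ V.1).ι).val.obj (op ⊤) :=
    fun i => ((Scheme.Modules.pullback f).obj E).presheaf.map (homOfLE hge).op
      ((adj.unit.app E).app V.1 (e i))
  refine epi_of_genAtBy_image _ g ?_
  have hg : ∀ i, (((restrictFunctor (f ⁻¹ᵁ V.1).ι).map ψ).val.app (op ⊤)).hom (g i) = T i := by
    intro i
    have h3 : φ.app V.1 (e i) = ψ.app (f ⁻¹ᵁ V.1) ((adj.unit.app E).app V.1 (e i)) := by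
      rw [hφψ]
      rfl
    have h4 : ψ.app ((f ⁻¹ᵁ V.1).ι ''ᵁ ⊤) (((Scheme.Modules.pullback f).obj E).presheaf.map
        (homOfLE hge).op ((adj.unit.app E).app V.1 (e i))) =
        P.presheaf.map (homOfLE hge).op (ψ.app (f ⁻¹ᵁ V.1) ((adj.unit.app E).app V.1 (e i))) := by
      exact (res_app ψ hge ((adj.unit.app E).app V.1 (e i))).symm
    change ψ.app ((f ⁻¹ᵁ V.1).ι ''ᵁ ⊤) _ = _
    rw [h4, ← h3, he i]
    change (P.presheaf.map (homOfLE (hle V.1)).op ≫ P.presheaf.map (homOfLE hge).op) (T i) = _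
    rw [← Functor.map_comp]
    have : (homOfLE (hle V.1)).op ≫ (homOfLE hge).op = 𝟙 (op ((f ⁻¹ᵁ V.1).ι ''ᵁ ⊤)) :=
      Subsingleton.elim _ _
    rw [this, CategoryTheory.Functor.map_id]
    rfl
  intro y
  have h1 := hT y
  have h2 : (fun i => (((restrictFunctor (f ⁻¹ᵁ V.1).ι).map ψ).val.app (op ⊤)).hom (g i)) = T :=
    funext hg
  rw [h2]
  exact h1

open Groth.Agent.Lib.Helper21.TensorMon in
theorem nonempty_assoc {Y : Scheme.{u}} (D A M : Y.Modules) :
    Nonempty (CohB1.tensorMod D (CohB1.tensorMod A M) ≅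
      CohB1.tensorMod (CohB1.tensorMod D A) M) :=
  ⟨((assocIso Y.sheaf D A).app M).symm⟩

open Groth.Agent.Lib.Helper21.TensorMon in
theorem nonempty_unitor {Y : Scheme.{u}} (M : Y.Modules) :
    Nonempty (CohB1.tensorMod (Coh.structureModule Y) M ≅ M) :=
  ⟨(unitIso Y.sheaf).app M⟩

theorem result' {X Y : Scheme.{u}} (f : X ⟶ Y) [CompactSpace ↥Y] [QuasiSeparatedSpace ↥Y]
    (hY : PerfAux.HasResolutionProperty Y) (L : X.Modules) (hL : RelAmple.IsRelAmple f L) :
    PerfAux.HasResolutionProperty X := by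
  classical
  intro M hMq hMft
  haveI : QuasiCompact f := hL.1
  haveI : IsSeparated f := Groth.Agent.Lib.helper12.AmpleSep.isSeparated_of_isRelAmple f hL
  have hLinv : PicF.IsInvertible L :=
    Groth.Agent.Lib.helper12.RelAmpleComp.isInvertible_of_isRelAmple f hL
  have hMc : Coh.IsCoh M := ⟨hMq, hMft⟩
  -- a finite affine cover of Y
  obtain ⟨t, ht⟩ : ∃ t : Finset Y.affineOpens, ∀ y : Y, ∃ V ∈ t, y ∈ V.1 := by
    obtain ⟨t, ht⟩ := isCompact_univ.elim_finite_subcover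
      (fun V : Y.affineOpens => (V.1 : Set Y)) (fun V => V.1.2) (by
        intro y _
        obtain ⟨_, ⟨V, hV, rfl⟩, hyV, -⟩ := (Scheme.isBasis_affineOpens Y).exists_subset_of_mem_open
          (Set.mem_univ y) isOpen_univ
        exact Set.mem_iUnion.mpr ⟨⟨V, hV⟩, hyV⟩)
    refine ⟨t, fun y => ?_⟩
    have := ht (Set.mem_univ y)
    simp only [Set.mem_iUnion] at this
    obtain ⟨V, hV, hy⟩ := this
    exact ⟨V, hV, hy⟩
  have hloc := fun V : Y.affineOpens =>
    exists_genAtBy_restrict L (f ⁻¹ᵁ V.1) (hL.2 V) M hMc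
  choose N hN using hloc
  have hPc : Coh.IsCoh (CohB1.tensorMod M (CohB1.tensorPow L (t.sup N))) :=
    isCoh_twist hLinv hMc _
  haveI : (CohB1.tensorMod M (CohB1.tensorPow L (t.sup N))).IsQuasicoherent := hPc.1
  obtain ⟨E, ψ, hE, hψ⟩ := exists_epi_pullback f hY
    (CohB1.tensorMod M (CohB1.tensorPow L (t.sup N))) t ht
    (fun V hV => hN V (t.sup N) (Finset.le_sup hV))
  have hLn : PicF.IsInvertible (CohB1.tensorPow L (t.sup N)) :=
    Groth.Agent.Lib.helper12.TensorInv.isInvertible_tensorPow hLinv _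
  obtain ⟨D, hD, ⟨e1⟩, -⟩ := Groth.Agent.Lib.helper12.InvDual.exists_inverse hLn
  haveI := hψ
  haveI h1 : Epi (Groth.Agent.Lib.Lead.ModTensor.tensorMap ψ (𝟙 D)) :=
    Groth.Agent.Lib.helper12.TensorCocont.epi_tensorMap_right D ψ
  obtain ⟨a⟩ := nonempty_assoc M (CohB1.tensorPow L (t.sup N)) D
  obtain ⟨u⟩ := nonempty_unitor M
  let w : CohB1.tensorMod (CohB1.tensorMod M (CohB1.tensorPow L (t.sup N))) D ≅ M :=
    a.symm ≪≫ PicGrp.tensorModIso (Iso.refl M) e1 ≪≫
      Groth.Agent.Lib.helper12.InvDual.tensorModComm M (Coh.structureModule X) ≪≫ u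
  refine ⟨_, Groth.Agent.Lib.Lead.ModTensor.tensorMap ψ (𝟙 D) ≫ w.hom,
    Groth.Agent.Lib.helper16.FLFTensor.isFinLocFree_tensor
      (Groth.Agent.Lib.helper16.FLF.isFinLocFree_pullback f hE)
      (Groth.Agent.Lib.helper16.FLF.isFinLocFree_of_isInvertible hD), ?_⟩
  exact epi_comp _ _


/-- Let f : X ⟶ Y be a morphism of schemes whose target Y is quasi-compact, quasi-separated, and
satisfies the resolution property (every quasi-coherent O_Y-module of finite type is a quotient of a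
finite locally free O_Y-module), and suppose there is an f-ample invertible O_X-module L (f
quasi-compact and L ample on the preimage of every affine open of Y). Then X has the resolution
property. -/
theorem result {X Y : Scheme.{u}} (f : X ⟶ Y) [CompactSpace ↥Y] [QuasiSeparatedSpace ↥Y]
    (hY : PerfAux.HasResolutionProperty Y) (L : X.Modules) (hL : RelAmple.IsRelAmple f L) :
    PerfAux.HasResolutionProperty X := by
  exact result' f hY L hL

end Groth.Agent.S7241
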