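import Groth.Statements.S7243
import Mathlib
import Groth.Agent.Lib.Helper13.StalkD
import Groth.Agent.Lib.Helper13.StalkD3
import Groth.Agent.Lib.Helper13.TildeLpull
import Groth.Agent.Lib.Helper13.TildeStalk
import Groth.Agent.Lib.Helper23.TA12
-- import your own Groth.Agent.* helpers here

set_option autoImplicit false
universe u
open CategoryTheory CategoryTheory.Limits AlgebraicGeometry
attribute [local instance] HasDerivedCategory.standard
open Perf

namespace Groth.Agent.S7243

open Groth.Agent.Lib.helper13.TildeStalk Groth.Agent.Lib.helper23.TA DerivedCategory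

variable (A : Type u) [CommRing A]

lemma φ_eq_algebraMap (x : Spec (CommRingCat.of A)) :
    φ (CommRingCat.of A) x =
      algebraMap A ((Spec.structureSheaf A).presheaf.stalk x) := rfl

lemma φ_flat (x : Spec (CommRingCat.of A)) : (φ (CommRingCat.of A) x).Flat := by
  have h : Module.Flat A ((Spec.structureSheaf A).presheaf.stalk (show PrimeSpectrum A from x)) :=
    IsLocalization.flat _ (show PrimeSpectrum A from x).asIdeal.primeCompl
  exact h

lemma subsingleton_of_forall_extend (M : ModuleCat.{u} A)
    (h : ∀ x : Spec (CommRingCat.of A),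
      Subsingleton ((ModuleCat.extendScalars.{u, u, u} (φ (CommRingCat.of A) x)).obj M)) :
    Subsingleton M := by
  rw [← Module.support_eq_empty_iff (R := A)]
  ext p
  simp only [Set.mem_empty_iff_false, iff_false]
  rw [Module.notMem_support_iff]
  have h1 := h p
  have h2 : Subsingleton (TensorProduct A ((Spec.structureSheaf A).presheaf.stalk p) M) :=
    (Groth.Agent.Lib.helper23.ExtSc.subsingleton_extend_iff (A := A)
      (B := (Spec.structureSheaf A).presheaf.stalk p) M).1 h1
  haveI : IsLocalizedModule p.asIdeal.primeCompl
      (TensorProduct.mk A ((Spec.structureSheaf A).presheaf.stalk p) M 1) :=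
    (isLocalizedModule_iff_isBaseChange p.asIdeal.primeCompl
      ((Spec.structureSheaf A).presheaf.stalk p) _).mpr
      (TensorProduct.isBaseChange A M ((Spec.structureSheaf A).presheaf.stalk p))
  rw [LocalizedModule.subsingleton_iff]
  exact (IsLocalizedModule.subsingleton_iff p.asIdeal.primeCompl
    (TensorProduct.mk A ((Spec.structureSheaf A).presheaf.stalk p) M 1)).1 h2



/-- Let A be a ring, M an object of D(A) and E = M~ the associated object of D(O_X), X = Spec A (tilde
being recorded as exact). The tor amplitude of E lies in [a, b] precisely when the tor amplitude of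
M lies in that same interval; both are stated here in the flat-representative form (isomorphic to a
complex of flat modules vanishing outside [a, b]), which on either side is equivalent to the
derived-tensor form. The finite tor dimension variant follows at once. -/
theorem result (A : Type u) [CommRing A] [PreservesFiniteLimits (tilde.functor (CommRingCat.of A))]
    (M : Dual.D A) (a b : ℤ) :
    DCoh.HasFlatAmplitudeIn a b ((DCoh.tildeD (CommRingCat.of A)).obj M) ↔ DRing.HasTorAmplitudeIn A a b M := by
  have eK : DerivedCategory.Q.obj (DerivedCategory.Q.objPreimage M) ≅ M :=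
    DerivedCategory.Q.objObjPreimageIso M
  set K : DRing.Cx A := DerivedCategory.Q.objPreimage M with hK
  have eT : (DCoh.tildeD (CommRingCat.of A)).obj M ≅
      DCoh.toD (Spec (CommRingCat.of A))
        (((tilde.functor (CommRingCat.of A)).mapHomologicalComplex (ComplexShape.up ℤ)).obj K) :=
    (DCoh.tildeD (CommRingCat.of A)).mapIso eK.symm ≪≫
      (tilde.functor (CommRingCat.of A)).mapDerivedCategoryFactors.app K
  constructor
  · intro h
    have h1 : DCoh.HasFlatAmplitudeIn a b (DCoh.toD (Spec (CommRingCat.of A))
        (((tilde.functor (CommRingCat.of A)).mapHomologicalComplex (ComplexShape.up ℤ)).obj K)) := by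
      obtain ⟨E', h1, h2, ⟨e'⟩⟩ := h
      exact ⟨E', h1, h2, ⟨e' ≪≫ eT⟩⟩
    have h2 : DRing.HasTorAmplitudeIn A a b (DRing.toD K) := by
      refine hasTorAmplitudeIn_of_extend_family
        (ι := Spec (CommRingCat.of A))
        (B := fun x => (Spec (CommRingCat.of A)).presheaf.stalk x)
        (fun x => φ (CommRingCat.of A) x) (fun x => φ_flat A x)
        (fun N hN => subsingleton_of_forall_extend A N hN) K a b (fun x => ?_)
      have h3 := Groth.Agent.Lib.helper13.StalkD.hasTorAmplitudeIn_stalk_of_hasFlatAmplitudeIn _ a b h1 x
      exact hasTorAmplitudeIn_of_iso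
        (DerivedCategory.Q.mapIso (stalkCxTildeIso (CommRingCat.of A) x K)) h3
    exact hasTorAmplitudeIn_of_iso eK h2
  · rintro ⟨E, hv, hfl, ⟨e⟩⟩
    refine ⟨((tilde.functor (CommRingCat.of A)).mapHomologicalComplex (ComplexShape.up ℤ)).obj E,
      fun i hi => (tilde.functor (CommRingCat.of A)).map_isZero (hv i hi), fun i => ?_,
      ⟨((tilde.functor (CommRingCat.of A)).mapDerivedCategoryFactors.app E).symm ≪≫
        (DCoh.tildeD (CommRingCat.of A)).mapIso e⟩⟩
    haveI := hfl i
    exact Groth.Agent.Lib.helper13.TildeLpull.isFlat_tilde (E.X i)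

end Groth.Agent.S7243
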