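import Groth.Statements.S7244
import Mathlib
import Groth.Agent.Lib.Helper13.StalkD
import Groth.Agent.Lib.Helper13.StalkD3
import Groth.Agent.Lib.Helper25.LpullPerfect
import Groth.Agent.Lib.Helper25.PullKFlat
import Groth.Agent.Lib.Helper23.TA12
-- import your own Groth.Agent.* helpers here

set_option autoImplicit false
universe u
open CategoryTheory CategoryTheory.Limits AlgebraicGeometry
attribute [local instance] HasDerivedCategory.standard
open Perf

namespace Groth.Agent.S7244

/-- Let f : X ⟶ Y be a flat and surjective morphism of schemes, E ∈ D(O_Y) and a, b ∈ ℤ. Assuming the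
derived pullback Lf^* exists, if Lf^*E has tor amplitude in [a, b] then so does E; tor amplitude is
stated in the flat-representative form (isomorphic to a complex of flat modules vanishing outside
[a, b]), equivalent to the derived-tensor form. (The converse, that derived pullback preserves tor
amplitude, holds for any f.) -/
theorem result {X Y : Scheme.{u}} (f : X ⟶ Y) [Flat f] [Surjective f]
    [DCoh.HasLpull f] (E : DCoh.D Y) (a b : ℤ) (h : DCoh.HasFlatAmplitudeIn a b ((DCoh.Lpull f).obj E)) :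
    DCoh.HasFlatAmplitudeIn a b E := by
  obtain ⟨G, hG, ⟨eG⟩⟩ := Groth.Agent.Lib.Helper25.LpullPerfect.exists_P₀_rep E
  obtain ⟨e1⟩ := Groth.Agent.Lib.Helper25.StalkPullFlat.nonempty_Lpull_iso f G hG
  have h1 : DCoh.HasFlatAmplitudeIn a b (DCoh.toD X
      (((Scheme.Modules.pullback f).mapHomologicalComplex (ComplexShape.up ℤ)).obj G)) := by
    obtain ⟨E', h1, h2, ⟨e'⟩⟩ := h
    exact ⟨E', h1, h2, ⟨e' ≪≫ (DCoh.Lpull f).mapIso eG.symm ≪≫ e1⟩⟩
  suffices hs : DCoh.HasFlatAmplitudeIn a b (DCoh.toD Y G) by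
    obtain ⟨E', h1, h2, ⟨e'⟩⟩ := hs
    exact ⟨E', h1, h2, ⟨e' ≪≫ eG⟩⟩
  refine Groth.Agent.Lib.helper13.StalkD.hasFlatAmplitudeIn_of_forall_stalk G a b (fun y => ?_)
  obtain ⟨x, rfl⟩ := f.surjective y
  have h2 := Groth.Agent.Lib.helper13.StalkD.hasTorAmplitudeIn_stalk_of_hasFlatAmplitudeIn _ a b h1 x
  have h3 := Groth.Agent.Lib.helper23.TA.hasTorAmplitudeIn_of_iso
    (DerivedCategory.Q.mapIso (Groth.Agent.Lib.Helper25.PullKFlat.stalkCxPullbackIso f x G)) h2
  letI alg : Algebra (Y.presheaf.stalk (f.base x)) (X.presheaf.stalk x) := (f.stalkMap x).hom.toAlgebra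
  have hfl : (f.stalkMap x).hom.Flat := AlgebraicGeometry.Flat.stalkMap f x
  haveI : Module.Flat (Y.presheaf.stalk (f.base x)) (X.presheaf.stalk x) := hfl
  haveI : IsLocalHom (algebraMap (Y.presheaf.stalk (f.base x)) (X.presheaf.stalk x)) :=
    inferInstanceAs (IsLocalHom (f.stalkMap x).hom)
  haveI : Module.FaithfullyFlat (Y.presheaf.stalk (f.base x)) (X.presheaf.stalk x) :=
    Module.FaithfullyFlat.of_flat_of_isLocalHom
  exact Groth.Agent.Lib.helper23.TA.hasTorAmplitudeIn_of_faithfullyFlat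
    (B := X.presheaf.stalk x) _ a b h3

end Groth.Agent.S7244
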