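import Groth.Statements.S7248
import Mathlib
import Groth.Agent.Lib.Helper25.DCohPerfect
import Groth.Agent.Lib.Helper16.FLF3
import Groth.Agent.Lib.Helper17.FlatOver7
import Groth.Agent.S4681
-- import your own Groth.Agent.* helpers here

set_option autoImplicit false
universe u
open CategoryTheory CategoryTheory.Limits AlgebraicGeometry
attribute [local instance] HasDerivedCategory.standard
open Perf

namespace Groth.Agent.S7248

/-- Let f : X ⟶ S be flat and locally of finite presentation. Then a perfect object E of D(O_X) is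
S-perfect, that is, E is pseudo-coherent (m-pseudo-coherent for every m) and, locally on X, the tor
dimension of E over the sheaf of rings f⁻¹O_S is finite (locally represented by a bounded complex of
O_X-modules flat over S). -/
theorem result {X S : Scheme.{u}} (f : X ⟶ S) [Flat f] [LocallyOfFinitePresentation f]
    (E : DCoh.D X) (hE : DCoh.IsPerfect E) :
    (∀ m : ℤ, DCoh.IsPseudoCoherentD m E) ∧ DCoh.LocHasFiniteRelTorDim f E := by
  refine ⟨fun m => ?_, ?_⟩
  · intro x
    obtain ⟨V, hxV, hV⟩ := hE x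
    refine ⟨V, hxV, fun F hF => ?_⟩
    obtain ⟨E', hE', ⟨e⟩⟩ := hV F hF
    exact ⟨E', e.inv, hE', fun i _ => inferInstance, inferInstance⟩
  · intro x
    obtain ⟨V, hxV, E₀, hE₀, ⟨e₀⟩⟩ :=
      Groth.Agent.Lib.helper25.DCohPerfect.exists_restrictD_iso_of_isPerfect hE x
    obtain ⟨⟨a, b, hab⟩, hf⟩ := hE₀
    refine ⟨V, a, b, hxV, fun F' ⟨a'⟩ => ⟨E₀, hab, fun i y => ?_, ⟨?_⟩⟩⟩
    · have h1 : FlatMod.IsFlatAt (E₀.X i) y :=
        Groth.Agent.Lib.helper16.FLF.isFlat_of_isFinLocFree _ (hf i) y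
      have h2 := (Groth.Agent.S4681.local_step (𝟙 (V : Scheme.{u})) (V.ι ≫ f) (E₀.X i) y
        ((Groth.Agent.Lib.helper17.FlatOver7.isFlatOverAt_id_iff _ y).2 h1)).1
        (AlgebraicGeometry.Flat.stalkMap (V.ι ≫ f) _)
      have h3 : 𝟙 (V : Scheme.{u}) ≫ (V.ι ≫ f) = V.ι ≫ f := Category.id_comp _
      rw [h3] at h2
      exact h2
    · exact e₀.symm ≪≫ (DCoh.restrictD V.ι).mapIso a'.symm ≪≫
        Groth.Agent.Lib.helper25.DCohRestrict.resDQIso V.ι F'

end Groth.Agent.S7248
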