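import Groth.Statements.S7275
import Mathlib
import Groth.Agent.Lib.Helper13.RelPerfAff9
import Groth.Agent.S9498
-- import your own Groth.Agent.* helpers here

set_option autoImplicit false
universe u
open CategoryTheory CategoryTheory.Limits AlgebraicGeometry
attribute [local instance] HasDerivedCategory.standard
open Perf

namespace Groth.Agent.S7275

/-- Let f : X ⟶ S be flat and locally of finite presentation and E ∈ D(O_X). Then E is S-perfect
(pseudo-coherent, and locally on X represented by a bounded complex of O_X-modules flat over S) if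
and only if E satisfies the alternative definition of relative perfectness: locally on X, E becomes
isomorphic in the derived category to a bounded complex whose terms are O_X-modules of finite
presentation that are S-flat (every point has an open neighbourhood V such that the restriction to V
of any representing complex is isomorphic in D(O_V) to such a complex). -/
theorem result {X S : Scheme.{u}} (f : X ⟶ S)
    [Flat f] [LocallyOfFinitePresentation f] (E : DCoh.D X) :
    ((∀ m : ℤ, DCoh.IsPseudoCoherentD m E) ∧ DCoh.LocHasFiniteRelTorDim f E) ↔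
      ∀ x : X, ∃ V : X.Opens, x ∈ V ∧ ∀ F : CochainComplex X.Modules ℤ, Nonempty (DCoh.toD X F ≅ E) →
        ∃ (G : CochainComplex (V : Scheme.{u}).Modules ℤ) (a b : ℤ), DCoh.VanishesOutside G a b ∧
          (∀ i : ℤ, CohB1.IsFP (G.X i) ∧ FlatMod.IsFlatOver (V.ι ≫ f) (G.X i)) ∧
          Nonempty (DerivedCategory.Q.obj ((DCoh.restrictCx V).obj F) ≅ DerivedCategory.Q.obj G) := by
  classical
  haveI : ∀ R : CommRingCat.{u}, PreservesFiniteLimits (tilde.functor R) :=
    fun R => Groth.Agent.S9498.preservesFiniteLimits_tilde R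
  constructor
  · rintro ⟨hpc, hloc⟩ x
    obtain ⟨V, hV, hfxV⟩ : ∃ V : S.Opens, IsAffineOpen V ∧ f x ∈ V := by
      obtain ⟨V, hV, hfxV, -⟩ :=
        TopologicalSpace.Opens.isBasis_iff_nbhd.1 S.isBasis_affineOpens
          (show f x ∈ (⊤ : S.Opens) from trivial)
      exact ⟨V, hV, hfxV⟩
    obtain ⟨U, hU, hxU, hUV⟩ : ∃ U : X.Opens, IsAffineOpen U ∧ x ∈ U ∧ U ≤ f ⁻¹ᵁ V := by
      obtain ⟨U, hU, hxU, hUV⟩ :=
        TopologicalSpace.Opens.isBasis_iff_nbhd.1 X.isBasis_affineOpens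
          (show x ∈ (f ⁻¹ᵁ V : X.Opens) from hfxV)
      exact ⟨U, hU, hxU, hUV⟩
    obtain ⟨G, a, b, hGv, hGt, ⟨eG⟩⟩ :=
      Groth.Agent.Lib.helper13.RelPerfAff.local_fp_of_relPerfect f E hpc hloc U hU V hV hUV
    refine ⟨U, hxU, fun F ⟨eF⟩ => ⟨G, a, b, hGv, hGt, ⟨?_⟩⟩⟩
    exact (Groth.Agent.Lib.helper25.DCohRestrict.resDQIso U.ι F).symm ≪≫
      (DCoh.restrictD U.ι).mapIso eF ≪≫ eG.symm
  · intro h
    have key : ∀ x : X, ∃ (V : X.Opens) (G : CochainComplex (V : Scheme.{u}).Modules ℤ) (a b : ℤ),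
        x ∈ V ∧ DCoh.VanishesOutside G a b ∧
        (∀ i : ℤ, CohB1.IsFP (G.X i) ∧ FlatMod.IsFlatOver (V.ι ≫ f) (G.X i)) ∧
        Nonempty (DCoh.toD _ G ≅ (DCoh.restrictD V.ι).obj E) := by
      intro x
      obtain ⟨V, hxV, hV⟩ := h x
      obtain ⟨G, a, b, hGv, hGt, ⟨eG⟩⟩ :=
        hV (DerivedCategory.Q.objPreimage E) ⟨DerivedCategory.Q.objObjPreimageIso E⟩
      exact ⟨V, G, a, b, hxV, hGv, hGt, ⟨eG.symm ≪≫
        (Groth.Agent.Lib.helper25.DCohRestrict.resDQIso V.ι _).symm ≪≫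
        (DCoh.restrictD V.ι).mapIso (DerivedCategory.Q.objObjPreimageIso E)⟩⟩
    refine Groth.Agent.Lib.helper13.RelPerfAff.relPerfect_of_cover f E (fun x => ?_)
    obtain ⟨V, G, a, b, hxV, hGv, hGt, ⟨eG⟩⟩ := key x
    refine ⟨V, hxV, fun m => ?_, a, b, G, hGv, fun i => (hGt i).2, ⟨eG⟩⟩
    exact Groth.Agent.Lib.helper25.DCohPC3.isPseudoCoherentD_of_iso eG
      (Groth.Agent.Lib.helper13.RelPerfAff.pc_of_fp_flat (V.ι ≫ f) G a b hGv hGt m)

end Groth.Agent.S7275
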