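import Groth.Statements.S7278
import Mathlib
import Groth.Agent.Lib.Helper13.RelPerfAff7
-- import your own Groth.Agent.* helpers here

set_option autoImplicit false
universe u
open CategoryTheory CategoryTheory.Limits AlgebraicGeometry Opposite
attribute [local instance] HasDerivedCategory.standard
open Perf

namespace Groth.Agent.S7278

/-- Let f : X ⟶ S be flat and locally of finite presentation and E an object of D(O_X) with
quasi-coherent cohomology sheaves (tilde recorded as exact). For affine opens U ⊆ X and V ⊆ S with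
f(U) ⊆ V, say that E is algebraically perfect on U over V when every M ∈ D(Γ(U, O_X)) whose
associated object M~ on Spec Γ(U, O_X) is isomorphic to the restriction E|_U (transported along U ≅
Spec Γ(U, O_X)) is Γ(V, O_S)-perfect: pseudo-coherent as a complex of Γ(U, O_X)-modules and of
finite tor dimension over Γ(V, O_S) through f^♯ (such M exist and are unique up to isomorphism,
namely RΓ(U, E)). Then: E is S-perfect (pseudo-coherent, and locally on X represented by a bounded
complex of O_X-modules flat over S) if and only if E is algebraically perfect on every affine open U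
over every affine open V with U ⊆ f⁻¹V; and E is S-perfect as soon as this holds for the members
U_ij of affine open coverings f⁻¹V_i = ⋃ U_ij attached to an affine open covering S = ⋃ V_i. -/
theorem result {X S : Scheme.{u}} (f : X ⟶ S) [Flat f] [LocallyOfFinitePresentation f]
    [∀ R : CommRingCat.{u}, PreservesFiniteLimits (tilde.functor R)]
    (E : DCoh.D X) (hE : DCoh.IsQCohD E) :
    (((∀ m : ℤ, DCoh.IsPseudoCoherentD m E) ∧ DCoh.LocHasFiniteRelTorDim f E) ↔
      ∀ (U : X.Opens) (hU : IsAffineOpen U) (V : S.Opens) (hV : IsAffineOpen V) (hUV : U ≤ f ⁻¹ᵁ V)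
        (M : DerivedCategory (ModuleCat.{u} Γ(X, U))),
        Nonempty ((DCoh.restrictD hU.isoSpec.inv).obj ((DCoh.restrictD U.ι).obj E) ≅ (DCoh.tildeD Γ(X, U)).obj M) →
          @Dual2.IsRelPerfect Γ(S, V) Γ(X, U) _ _ (f.appLE V U hUV).hom.toAlgebra M) ∧
    (∀ (ι : Type u) (V : ι → S.Opens) (hV : ∀ i, IsAffineOpen (V i)) (hVcov : ⨆ i, V i = ⊤)
        (κ : ι → Type u) (U : ∀ i, κ i → X.Opens) (hU : ∀ i j, IsAffineOpen (U i j))
        (hUV : ∀ i j, U i j ≤ f ⁻¹ᵁ V i) (hUcov : ∀ i, ⨆ j, U i j = f ⁻¹ᵁ V i),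
        (∀ (i : ι) (j : κ i) (M : DerivedCategory (ModuleCat.{u} Γ(X, U i j))),
          Nonempty ((DCoh.restrictD (hU i j).isoSpec.inv).obj ((DCoh.restrictD (U i j).ι).obj E) ≅
              (DCoh.tildeD Γ(X, U i j)).obj M) →
            @Dual2.IsRelPerfect Γ(S, V i) Γ(X, U i j) _ _ (f.appLE (V i) (U i j) (hUV i j)).hom.toAlgebra M) →
        (∀ m : ℤ, DCoh.IsPseudoCoherentD m E) ∧ DCoh.LocHasFiniteRelTorDim f E) := by
  classical
  refine ⟨⟨fun h U hU V hV hUV M hM => ?_, fun h => ?_⟩, ?_⟩
  · obtain ⟨e⟩ := hM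
    exact Groth.Agent.Lib.helper13.RelPerfAff.isRelPerfect_of_relPerfect f E h.1 h.2 U hU V hV hUV M e
  · refine Groth.Agent.Lib.helper13.RelPerfAff.relPerfect_of_cover f E (fun x => ?_)
    obtain ⟨V, hVaff, hfxV, -⟩ :=
      TopologicalSpace.Opens.isBasis_iff_nbhd.1 S.isBasis_affineOpens
        (show f x ∈ (⊤ : S.Opens) from trivial)
    obtain ⟨U, hUaff, hxU, hUsub⟩ :=
      TopologicalSpace.Opens.isBasis_iff_nbhd.1 X.isBasis_affineOpens
        (show x ∈ (f ⁻¹ᵁ V : X.Opens) from hfxV)
    exact ⟨U, hxU, Groth.Agent.Lib.helper13.RelPerfAff.local_of_isRelPerfect f E hE U hUaff V hVaff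
      hUsub (h U hUaff V hVaff hUsub)⟩
  · intro ι V hV hVcov κ U hU hUV hUcov h
    refine Groth.Agent.Lib.helper13.RelPerfAff.relPerfect_of_cover f E (fun x => ?_)
    have hx : f x ∈ (⨆ i, V i : S.Opens) := by rw [hVcov]; trivial
    obtain ⟨i, hi⟩ := TopologicalSpace.Opens.mem_iSup.1 hx
    have hx' : x ∈ (⨆ j, U i j : X.Opens) := by rw [hUcov i]; exact hi
    obtain ⟨j, hj⟩ := TopologicalSpace.Opens.mem_iSup.1 hx'
    exact ⟨U i j, hj, Groth.Agent.Lib.helper13.RelPerfAff.local_of_isRelPerfect f E hE (U i j) (hU i j)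
      (V i) (hV i) (hUV i j) (h i j)⟩

end Groth.Agent.S7278
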