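import Groth.Statements.S7283
-- import your own Groth.Agent.* helpers here
import Groth.Agent.Lib.Helper9.FEtDense2
import Groth.Agent.Lib.Helper9.FEtDense3

set_option backward.isDefEq.respectTransparency false
set_option linter.style.haveILetI false

set_option autoImplicit false
universe u
open Pi1

namespace Groth.Agent.S7283

open AlgebraicGeometry CategoryTheory CategoryTheory.Limits in
/-- Let X be a scheme and U a dense open subscheme such that every quasi-compact open subset of X has
finitely many irreducible components and, for every point x of the complement of U and every strict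
henselization R of the local ring at x, the punctured spectrum of R is connected. Then restriction
of finite etale covers from X to U is fully faithful. -/
theorem result {X : Scheme.{u}} (U : X.Opens)
    (hU : Dense (U : Set X))
    (hirr : ∀ V : X.Opens, IsCompact (V : Set X) → (irreducibleComponents ↥V).Finite)
    (hsh : ∀ x : X, x ∉ U → ∀ (R : Type u) [CommRing R] [IsLocalRing R] [Algebra (X.presheaf.stalk x) R]
      [IsLocalHom (algebraMap (X.presheaf.stalk x) R)] [Hensel.IsStrictHenselization (X.presheaf.stalk x) R],
      ConnectedSpace (FEt.puncturedSpec R : Scheme.{u})) :
    (FEt.restrict U.ι).Full ∧ (FEt.restrict U.ι).Faithful := by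
  refine Groth.Agent.Lib.helper9.FEtDense.full_faithful_of_spec U hU hsh ?_
  intro Z f hfin het T T' hT hT' hdisj hunion z hz
  haveI := hfin
  haveI := het
  obtain ⟨V, hV, hzV, -⟩ := exists_isAffineOpen_mem_and_subset (x := z) (U := ⊤) trivial
  have hfinmax := Groth.Agent.Lib.helper9.FEtDense.finite_maximal_of_finite_fibres f f.isOpenMap
    (Flat.generalizingMap (f := f)) (fun x => f.finite_preimage_singleton x) hirr V hV.isCompact
  exact Groth.Agent.Lib.helper9.FEtDense.exists_specializes_of_finite_maximal Z T hT z hz V V.2
    hzV hfinmax

end Groth.Agent.S7283
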