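import Groth.Statements.S7287
import Groth.Agent.Lib.Helper15.ResGen2
import Groth.Agent.Lib.Helper15.TrdegComp2

set_option autoImplicit false
set_option linter.style.haveILetI false
open CategoryTheory CategoryTheory.Limits AlgebraicGeometry Opposite
universe u
open RelCyc

namespace Groth.Agent.S7287

open Groth.Agent.Lib.helper15.ResGen Groth.Agent.Lib.helper15.TrdegComp

/-- Let f from X to S be locally of finite type, r a natural number and g from S' to S a surjective
morphism. Let S'' be the fibre product of S' with itself over S (projections p, q), X' the base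
change of X along g (structure map f', projection g' to X), and X'' the base change of X along S''
with structure map f'' and the two projections p', q' to X' lying over p and q and compatible with
the projections to X. Let x be a point of X whose residue field has transcendence degree r over that
of f(x). If x1 and x2 are points of X' mapping to x whose residue fields have transcendence degree r
over those of their images in S', then there is a point of X'' whose residue field has transcendence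
degree r over that of its image in S'' and whose two projections are x1 and x2. -/
theorem result {X S S' S'' X' X'' : Scheme.{u}}
    (f : X ⟶ S) [LocallyOfFiniteType f] (r : ℕ) (g : S' ⟶ S) [Surjective g]
    (p q : S'' ⟶ S') (hS : IsPullback p q g g)
    (f' : X' ⟶ S') (g' : X' ⟶ X) (hX : IsPullback g' f' f g)
    (f'' : X'' ⟶ S'') (p' q' : X'' ⟶ X') (hp : IsPullback p' f'' f' p) (hq : IsPullback q' f'' f' q)
    (hpq : p' ≫ g' = q' ≫ g')
    (x : ↥X) (hx : Dual3.resTrdeg f x = r)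
    (x₁ x₂ : ↥X') (h₁ : g'.base x₁ = x) (h₂ : g'.base x₂ = x)
    (hx₁ : Dual3.resTrdeg f' x₁ = r) (hx₂ : Dual3.resTrdeg f' x₂ = r) :
    ∃ x'' : ↥X'', Dual3.resTrdeg f'' x'' = r ∧ p'.base x'' = x₁ ∧ q'.base x'' = x₂ := by
  classical
  have hw : g' ≫ f = f' ≫ g := hX.w
  have hpt₁ : g (f' x₁) = f x := by
    rw [← h₁]
    exact (congrArg (fun k => k.base x₁) hw).symm
  have hpt₂ : g (f' x₂) = f x := by
    rw [← h₂]
    exact (congrArg (fun k => k.base x₂) hw).symm
  -- the algebraic data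
  have hcomm₁ := congrArg CommRingCat.Hom.hom (resMapToHom_comm hw x₁ x h₁ hpt₁)
  have hcomm₂ := congrArg CommRingCat.Hom.hom (resMapToHom_comm hw x₂ x h₂ hpt₂)
  have hg₁ : Subfield.closure (Set.range (resMapToHom g' x₁ x h₁).hom ∪
      Set.range (f'.residueFieldMap x₁).hom) = ⊤ := by
    rw [range_resMapToHom]
    exact closure_range_residueFieldMap_of_isPullback hX x₁
  have hg₂ : Subfield.closure (Set.range (resMapToHom g' x₂ x h₂).hom ∪
      Set.range (f'.residueFieldMap x₂).hom) = ⊤ := by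
    rw [range_resMapToHom]
    exact closure_range_residueFieldMap_of_isPullback hX x₂
  obtain ⟨Ω, _, e₁, e₂, hcomp, htr⟩ := exists_compositum_trdeg
    (f.residueFieldMap x).hom (resMapToHom g (f' x₁) (f x) hpt₁).hom
    (resMapToHom g (f' x₂) (f x) hpt₂).hom (resMapToHom g' x₁ x h₁).hom
    (resMapToHom g' x₂ x h₂).hom (f'.residueFieldMap x₁).hom (f'.residueFieldMap x₂).hom
    hcomm₁ hcomm₂ r hx hx₁ hx₂ hg₁ hg₂
  -- the field-valued points
  obtain ⟨a₁, ha₁⟩ : ∃ a₁ : Spec (CommRingCat.of Ω) ⟶ X',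
    a₁ = Spec.map (CommRingCat.ofHom e₁) ≫ X'.fromSpecResidueField x₁ := ⟨_, rfl⟩
  obtain ⟨a₂, ha₂⟩ : ∃ a₂ : Spec (CommRingCat.of Ω) ⟶ X',
    a₂ = Spec.map (CommRingCat.ofHom e₂) ≫ X'.fromSpecResidueField x₂ := ⟨_, rfl⟩
  have hag₁ : a₁ ≫ g' = Spec.map (CommRingCat.ofHom (e₁.comp (resMapToHom g' x₁ x h₁).hom)) ≫
      X.fromSpecResidueField x := by
    rw [ha₁, Category.assoc, ← specMap_resMapToHom g' x₁ x h₁, ← Category.assoc, ← Spec.map_comp]
    rfl
  have hag₂ : a₂ ≫ g' = Spec.map (CommRingCat.ofHom (e₂.comp (resMapToHom g' x₂ x h₂).hom)) ≫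
      X.fromSpecResidueField x := by
    rw [ha₂, Category.assoc, ← specMap_resMapToHom g' x₂ x h₂, ← Category.assoc, ← Spec.map_comp]
    rfl
  have hag : a₁ ≫ g' = a₂ ≫ g' := by
    rw [hag₁, hag₂, hcomp]
  have hb0 : (a₁ ≫ f') ≫ g = (a₂ ≫ f') ≫ g := by
    rw [Category.assoc, Category.assoc, ← hw, ← Category.assoc, ← Category.assoc, hag]
  obtain ⟨b, hb₁, hb₂⟩ : ∃ b : Spec (CommRingCat.of Ω) ⟶ S'', b ≫ p = a₁ ≫ f' ∧ b ≫ q = a₂ ≫ f' :=
    ⟨hS.lift (a₁ ≫ f') (a₂ ≫ f') hb0, hS.lift_fst _ _ _, hS.lift_snd _ _ _⟩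
  obtain ⟨c, hc₁, hcf⟩ : ∃ c : Spec (CommRingCat.of Ω) ⟶ X'', c ≫ p' = a₁ ∧ c ≫ f'' = b :=
    ⟨hp.lift a₁ b hb₁.symm, hp.lift_fst _ _ _, hp.lift_snd _ _ _⟩
  have hc₂ : c ≫ q' = a₂ := by
    apply hX.hom_ext
    · rw [Category.assoc, ← hpq, ← Category.assoc, hc₁, hag]
    · rw [Category.assoc, hq.w, ← Category.assoc, hcf, hb₂]
  obtain ⟨hpt_a₁, -⟩ := exists_resOf_eq x₁ e₁
  obtain ⟨hpt_a₂, -⟩ := exists_resOf_eq x₂ e₂
  refine ⟨ptOf c, ?_, ?_, ?_⟩
  · -- the transcendence degree
    have hM : imgOf (c ≫ f'') = (e₁.comp (f'.residueFieldMap x₁).hom).fieldRange ⊔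
        (e₂.comp (f'.residueFieldMap x₂).hom).fieldRange := by
      rw [hcf, imgOf_isPullback hS b, hb₁, hb₂, ha₁, ha₂, imgOf_specMap_fromSpecResidueField_comp,
        imgOf_specMap_fromSpecResidueField_comp]
    have hN : imgOf c = e₁.fieldRange ⊔ imgOf (c ≫ f'') := by
      rw [imgOf_isPullback hp c, hc₁, ha₁, imgOf_specMap_fromSpecResidueField]
    have := htr (imgOf (c ≫ f'')) (imgOf c) hM hN (imgOf_comp_le c f'')
    rw [← trdeg_ptOf c f''] at this
    exact this
  · have : p'.base (ptOf c) = ptOf (c ≫ p') := rfl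
    rw [this, hc₁, ha₁]
    exact hpt_a₁
  · have : q'.base (ptOf c) = ptOf (c ≫ q') := rfl
    rw [this, hc₂, ha₂]
    exact hpt_a₂

end Groth.Agent.S7287
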