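import Groth.Statements.S7316
import Mathlib.Tactic

set_option autoImplicit false
open Finset
open Models Models.NumericalType

namespace Groth.Agent.S7316

theorem diag_neg {n : ℕ} (T : Models.NumericalType n) (hn : 1 < n) (i : Fin n) : T.a i i < 0 := by
  have h0 : ∑ j, T.a i j * T.m j = 0 := by
    have := congrFun T.mulVec_m i
    simpa [Matrix.mulVec, dotProduct] using this
  obtain ⟨i', hi', j, hj, hne⟩ := T.connected {i} (singleton_nonempty i) (by
    intro h
    have h1 : (univ : Finset (Fin n)).card = 1 := by rw [← h]; simp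
    simp at h1; omega)
  rw [mem_singleton] at hi'; subst hi'
  have hji : j ≠ i' := by simpa using hj
  have hpos : 0 < T.a i' j := lt_of_le_of_ne (T.offDiag_nonneg i' j (Ne.symm hji)) (Ne.symm hne)
  rw [← Finset.add_sum_erase _ _ (mem_univ i')] at h0
  have hrest : 0 < ∑ j ∈ univ.erase i', T.a i' j * T.m j := by
    apply Finset.sum_pos'
    · intro k hk
      exact mul_nonneg (T.offDiag_nonneg i' k (ne_of_mem_erase hk).symm) (T.m_pos k).le
    · exact ⟨j, by simp [hji], mul_pos hpos (T.m_pos j)⟩
  have h1 : T.a i' i' * T.m i' < 0 := by linarith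
  by_contra hcon
  rw [not_lt] at hcon
  have := mul_nonneg hcon (T.m_pos i').le
  linarith

/-- Let T be a numerical type on n > 1 indices and i an index whose contribution m_i (w_i (g_i - 1) -
a_ii / 2) to the genus is negative (stated as m_i (2 w_i (g_i - 1) - a_ii) < 0). Then g_i = 0 and
a_ii = -w_i, i.e. i is a (-1)-index. -/
theorem result {n : ℕ} (T : Models.NumericalType n) (hn : 1 < n) (i : Fin n)
    (h : T.m i * (2 * T.w i * (T.g i - 1) - T.a i i) < 0) : T.IsMinusOne i := by
  have hneg := diag_neg T hn i
  have hm := T.m_pos i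
  have hw := T.w_pos i
  have hg := T.g_nonneg i
  obtain ⟨k, hk⟩ := T.w_dvd i i
  have h1 : 2 * T.w i * (T.g i - 1) - T.a i i < 0 := by
    by_contra hcon
    rw [not_lt] at hcon
    have := mul_nonneg hm.le hcon
    linarith
  rw [hk] at h1 hneg
  have hkneg : k < 0 := by
    by_contra hcon
    rw [not_lt] at hcon
    have := mul_nonneg hw.le hcon
    linarith
  have h2 : T.w i * (2 * (T.g i - 1) - k) < 0 := by nlinarith
  have h3 : 2 * (T.g i - 1) - k < 0 := by
    by_contra hcon
    rw [not_lt] at hcon
    have := mul_nonneg hw.le hcon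
    linarith
  have hg0 : T.g i = 0 := by omega
  have hk1 : k = -1 := by omega
  refine ⟨hg0, ?_⟩
  rw [hk, hk1]; ring

end Groth.Agent.S7316
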