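import Groth.Statements.S7318
import Mathlib.Tactic
import Mathlib.Combinatorics.SimpleGraph.Acyclic

set_option autoImplicit false
open Finset
open Models Models.NumericalType

namespace Groth.Agent.S7318

/-- The dual graph of a numerical type. -/
def dualGraph {n : ℕ} (T : Models.NumericalType n) : SimpleGraph (Fin n) where
  Adj i j := i ≠ j ∧ 0 < T.a i j
  symm := ⟨by
    intro i j h
    refine ⟨h.1.symm, ?_⟩
    have := T.symm.apply i j
    rw [this]; exact h.2⟩
  loopless := ⟨fun i h => h.1 rfl⟩

theorem dualGraph_connected {n : ℕ} (T : Models.NumericalType n) : (dualGraph T).Connected := by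
  classical
  have hn := T.pos
  let i0 : Fin n := ⟨0, hn⟩
  have : Nonempty (Fin n) := ⟨i0⟩
  rw [SimpleGraph.connected_iff]
  refine ⟨?_, inferInstance⟩
  suffices h : ∀ j, (dualGraph T).Reachable i0 j by
    intro u v
    exact (h u).symm.trans (h v)
  let I : Finset (Fin n) := univ.filter fun j => (dualGraph T).Reachable i0 j
  have hI : I = univ := by
    by_contra hne
    obtain ⟨i, hi, j, hj, hij⟩ := T.connected I ⟨i0, by simp [I]⟩ hne
    have hi' : (dualGraph T).Reachable i0 i := by simpa [I] using hi
    have hne' : i ≠ j := by
      rintro rfl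
      exact hj hi
    have hadj : (dualGraph T).Adj i j :=
      ⟨hne', lt_of_le_of_ne (T.offDiag_nonneg i j hne') (Ne.symm hij)⟩
    apply hj
    simp only [I, mem_filter, mem_univ, true_and]
    exact hi'.trans hadj.reachable
  intro j
  have : j ∈ I := by rw [hI]; exact mem_univ j
  simpa [I] using this

/-- For a numerical type T on n indices with e pairs i < j such that a_ij > 0, the topological genus 1 -
n + e is ≥ 0. -/
theorem result {n : ℕ} (T : Models.NumericalType n) : 0 ≤ T.topGenus := by
  classical
  have hconn := dualGraph_connected T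
  have h1 := hconn.card_vert_le_card_edgeSet_add_one
  rw [Nat.card_eq_fintype_card, Fintype.card_fin, Nat.card_eq_fintype_card,
    ← SimpleGraph.edgeFinset_card] at h1
  have h2 : (dualGraph T).edgeFinset.card ≤ T.edgeCount := by
    unfold Models.NumericalType.edgeCount
    refine le_trans (Finset.card_le_card ?_)
      (Finset.card_image_le (f := fun p : Fin n × Fin n => s(p.1, p.2)))
    intro e he
    rw [SimpleGraph.mem_edgeFinset] at he
    induction e using Sym2.ind with
    | _ i j =>
      rw [SimpleGraph.mem_edgeSet] at he
      obtain ⟨hne, hpos⟩ := he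
      rw [Finset.mem_image]
      rcases lt_or_gt_of_ne hne with hlt | hgt
      · exact ⟨(i, j), by simp [hlt, hpos], rfl⟩
      · refine ⟨(j, i), ?_, Sym2.eq_swap⟩
        have := T.symm.apply i j
        simp [hgt, this, hpos]
  unfold Models.NumericalType.topGenus
  have : (n : ℤ) ≤ (T.edgeCount : ℤ) + 1 := by exact_mod_cast h1.trans (by omega)
  linarith

end Groth.Agent.S7318
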