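import Groth.Statements.S7340
import Mathlib

set_option autoImplicit false
universe u
open Polynomial
open Resolve

namespace Groth.Agent.S7340

section helpers

section general

variable {A : Type*} [CommRing A] {S : Type*} [CommRing S] [Algebra A S] {N : Type*}
  [AddCommGroup N] [Module A N] [Module S N] [IsScalarTower A S N]

theorem deriv_term (d : Derivation A S N) (c i k : ℕ) (f g : S) :
    d ((c : S) * f ^ (i + 1) * g ^ (k + 1)) =
      ((c * (i + 1) : ℕ) * f ^ i * g ^ (k + 1) : S) • d f +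
        ((c * (k + 1) : ℕ) * f ^ (i + 1) * g ^ k : S) • d g := by
  rw [Derivation.leibniz, Derivation.leibniz, Derivation.map_natCast, Derivation.leibniz_pow,
    Derivation.leibniz_pow]
  simp only [Nat.add_sub_cancel, smul_zero, add_zero, Nat.cast_mul, Nat.cast_add, Nat.cast_one]
  module

theorem deriv_add_pow (d : Derivation A S N) (p : ℕ) (hp : p.Prime) (f g : S) :
    ∃ P : S, (f + g) ^ (p - 1) • d (f + g) = f ^ (p - 1) • d f + g ^ (p - 1) • d g + d P := by
  obtain ⟨q, rfl⟩ : ∃ q, p = q + 1 := ⟨p - 1, (Nat.succ_pred_eq_of_pos hp.pos).symm⟩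
  rw [Nat.add_sub_cancel]
  -- the coefficients
  have hc : ∀ i, i < q → ∃ c : ℕ, c * (i + 1) = q.choose i ∧ c * (q - i) = q.choose (i + 1) := by
    intro i hi
    have hdvd : (q + 1) ∣ (q + 1).choose (i + 1) :=
      hp.dvd_choose_self (Nat.succ_ne_zero i) (by omega)
    obtain ⟨c, hc⟩ := hdvd
    refine ⟨c, ?_, ?_⟩
    · have h1 := Nat.add_one_mul_choose_eq q i
      rw [hc] at h1
      have : (q + 1) * (c * (i + 1)) = (q + 1) * q.choose i := by rw [h1]; ring
      exact Nat.eq_of_mul_eq_mul_left (Nat.succ_pos q) this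
    · have h1 := Nat.choose_mul_succ_eq q (i + 1)
      rw [hc] at h1
      have h2 : q + 1 - (i + 1) = q - i := by omega
      rw [h2] at h1
      have : (q + 1) * (c * (q - i)) = (q + 1) * q.choose (i + 1) := by rw [mul_comm _ (q.choose (i+1)), h1]; ring
      exact Nat.eq_of_mul_eq_mul_left (Nat.succ_pos q) this
  choose! c hc1 hc2 using hc
  refine ⟨∑ i ∈ Finset.range q, (c i : S) * f ^ (i + 1) * g ^ (q - i), ?_⟩
  have hdP : d (∑ i ∈ Finset.range q, (c i : S) * f ^ (i + 1) * g ^ (q - i)) =
      (∑ i ∈ Finset.range q, ((q.choose i : ℕ) : S) * f ^ i * g ^ (q - i)) • d f +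
      (∑ i ∈ Finset.range q, ((q.choose (i + 1) : ℕ) : S) * f ^ (i + 1) * g ^ (q - (i + 1))) • d g := by
    rw [map_sum, Finset.sum_smul, Finset.sum_smul, ← Finset.sum_add_distrib]
    refine Finset.sum_congr rfl fun i hi => ?_
    have hi' : i < q := Finset.mem_range.mp hi
    obtain ⟨k, hk⟩ : ∃ k, q - i = k + 1 := ⟨q - i - 1, by omega⟩
    have hk' : q - (i + 1) = k := by omega
    rw [hk, hk', deriv_term, ← hk, hc1 i hi', hc2 i hi']
  have h1 : (f + g) ^ q = f ^ q + ∑ i ∈ Finset.range q, ((q.choose i : ℕ) : S) * f ^ i * g ^ (q - i) := by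
    rw [add_pow, Finset.sum_range_succ]
    simp only [Nat.sub_self, pow_zero, mul_one, Nat.choose_self, Nat.cast_one]
    rw [add_comm]
    congr 1
    exact Finset.sum_congr rfl fun i _ => by ring
  have h2 : (f + g) ^ q = g ^ q +
      ∑ i ∈ Finset.range q, ((q.choose (i + 1) : ℕ) : S) * f ^ (i + 1) * g ^ (q - (i + 1)) := by
    rw [add_pow, Finset.sum_range_succ']
    simp only [pow_zero, Nat.sub_zero, one_mul, Nat.choose_zero_right, Nat.cast_one, mul_one]
    rw [add_comm]
    congr 1
    exact Finset.sum_congr rfl fun i _ => by ring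
  rw [hdP, map_add, smul_add]
  nth_rewrite 1 [h1]
  rw [h2]
  module

end general

section trace
variable {p : ℕ} [hp : Fact p.Prime] {R : Type*} [CommRing R] [CharP R p]
  {S : Type*} [CommRing S] [Algebra R S]
  {N : Type*} [AddCommGroup N] [Module R N] [Module S N] [IsScalarTower R S N]
  (d : Derivation R S N)
  {M : Type*} [AddCommGroup M] [Module R M] (D : Derivation ℤ R M)
  (T : N →ₗ[R] M) (y : S) (b : R)

omit hp in
theorem p_smul_eq_zero (R : Type*) [CommRing R] (p : ℕ) [CharP R p] {M : Type*} [AddCommGroup M]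
    [Module R M] (z : M) : (p : ℕ) • z = 0 := by
  rw [← Nat.cast_smul_eq_nsmul R, CharP.cast_eq_zero R p, zero_smul]

omit [CharP R p] in
theorem T_pow (hy : y ^ p = algebraMap R S b)
    (hT : ∀ i, i + 2 ≤ p → T (y ^ i • d y) = 0) (hT' : T (y ^ (p - 1) • d y) = D b) (n : ℕ) :
    T (y ^ n • d y) = b ^ (n / p) • (if n % p = p - 1 then D b else 0) := by
  have hp0 : 0 < p := hp.out.pos
  have h1 : y ^ n = algebraMap R S (b ^ (n / p)) * y ^ (n % p) := by
    conv_lhs => rw [← Nat.div_add_mod n p]
    rw [pow_add, pow_mul, hy, map_pow]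
  rw [h1, ← Algebra.smul_def, smul_assoc, map_smul]
  congr 1
  have hlt : n % p < p := Nat.mod_lt _ hp0
  split_ifs with h
  · rw [h, hT']
  · exact hT _ (by omega)

theorem T_exact (hy : y ^ p = algebraMap R S b)
    (hT : ∀ i, i + 2 ≤ p → T (y ^ i • d y) = 0) (hT' : T (y ^ (p - 1) • d y) = D b)
    (hsurj : ∀ h : S, ∃ f : R[X], aeval y f = h) (h : S) : T (d h) = 0 := by
  have hp0 : 0 < p := hp.out.pos
  obtain ⟨f, rfl⟩ := hsurj h
  induction f using Polynomial.induction_on' with
  | add f g hf hg => rw [map_add, map_add, map_add, hf, hg, add_zero]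
  | monomial n c =>
    rw [aeval_monomial, ← Algebra.smul_def, Derivation.map_smul, map_smul, Derivation.leibniz_pow,
      map_nsmul, T_pow d D T y b hy hT hT']
    rcases Nat.eq_zero_or_pos n with rfl | hn
    · rw [zero_smul, smul_zero]
    · split_ifs with h
      · have hdvd : p ∣ n := by
          have e := Nat.div_add_mod (n - 1) p
          rw [h] at e
          exact ⟨(n - 1) / p + 1, by rw [Nat.mul_succ]; omega⟩
        obtain ⟨m, rfl⟩ := hdvd
        rw [mul_smul, p_smul_eq_zero R p, smul_zero]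
      · rw [smul_zero, smul_zero, smul_zero]


theorem Q_all [CharP S p] (hy : y ^ p = algebraMap R S b)
    (hT : ∀ i, i + 2 ≤ p → T (y ^ i • d y) = 0) (hT' : T (y ^ (p - 1) • d y) = D b)
    (hsurj : ∀ h : S, ∃ f : R[X], aeval y f = h) (h : S) :
    ∃ r : R, h ^ p = algebraMap R S r ∧ T (h ^ (p - 1) • d h) = D r := by
  have hp0 : 0 < p := hp.out.pos
  obtain ⟨f, rfl⟩ := hsurj h
  induction f using Polynomial.induction_on' with
  | add f g hf hg =>
    obtain ⟨r1, h1, h1'⟩ := hf
    obtain ⟨r2, h2, h2'⟩ := hg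
    refine ⟨r1 + r2, ?_, ?_⟩
    · rw [map_add, add_pow_char, h1, h2, map_add]
    · obtain ⟨P, hP⟩ := deriv_add_pow d p hp.out (aeval y f) (aeval y g)
      rw [map_add (aeval y), hP, map_add, map_add, h1', h2',
        T_exact d D T y b hy hT hT' hsurj, add_zero, map_add]
  | monomial n c =>
    refine ⟨c ^ p * b ^ n, ?_, ?_⟩
    · rw [aeval_monomial, mul_pow, ← map_pow, ← pow_mul, mul_comm n p, pow_mul, hy, ← map_pow,
        ← map_mul]
    · rcases Nat.eq_zero_or_pos n with rfl | hn
      · rw [aeval_monomial, pow_zero, mul_one, Derivation.map_algebraMap, smul_zero, map_zero,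
          pow_zero, mul_one, Derivation.leibniz_pow, p_smul_eq_zero R p]
      · have hle : p ≤ p * n := Nat.le_mul_of_pos_right p hn
        have hle' : n ≤ n * p := Nat.le_mul_of_pos_right n hp0
        have hexp : n * p - 1 = n * (p - 1) + (n - 1) := by
          rw [Nat.mul_sub_one]; omega
        have hform : (aeval y (monomial n c)) ^ (p - 1) • d (aeval y (monomial n c)) =
            ((n : R) * c ^ p) • (y ^ (n * p - 1) • d y) := by
          rw [aeval_monomial, ← Algebra.smul_def, Derivation.map_smul, Derivation.leibniz_pow,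
            _root_.smul_pow, ← pow_mul, hexp, pow_add, ← Nat.cast_smul_eq_nsmul R]
          have hc : c ^ p = c ^ (p - 1) * c := by
            rw [← pow_succ]; congr 1; omega
          rw [hc, Algebra.smul_def (c ^ (p - 1)) (y ^ (n * (p - 1)))]
          module
        have hdm : (n * p - 1) / p = n - 1 ∧ (n * p - 1) % p = p - 1 := by
          rw [Nat.div_mod_unique hp0]
          refine ⟨?_, by omega⟩
          rw [Nat.mul_sub_one, mul_comm n p]; omega
        rw [hform, map_smul, T_pow d D T y b hy hT hT', hdm.1, hdm.2, if_pos rfl,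
          Derivation.leibniz, Derivation.leibniz_pow, Derivation.leibniz_pow,
          p_smul_eq_zero R p, smul_zero, add_zero, ← Nat.cast_smul_eq_nsmul R]
        module

end trace


section concrete
open KaehlerDifferential

variable (p : ℕ) [hp : Fact p.Prime] (R : Type u) [CommRing R] (b : R)

omit hp in
theorem root_pow : AdjoinRoot.root (X ^ p - C b : R[X]) ^ p =
    algebraMap R (AdjoinRoot (X ^ p - C b : R[X])) b := by
  have := AdjoinRoot.eval₂_root (X ^ p - C b : R[X])
  rw [eval₂_sub, eval₂_pow, eval₂_X, eval₂_C, sub_eq_zero] at this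
  rw [this, AdjoinRoot.algebraMap_eq]

theorem algebraMap_inj :
    Function.Injective (algebraMap R (AdjoinRoot (X ^ p - C b : R[X]))) := by
  rcases subsingleton_or_nontrivial R with hR | hR
  · exact Function.injective_of_subsingleton _
  rw [injective_iff_map_eq_zero]
  intro r hr
  by_contra hne
  have hp0 : 0 < p := hp.out.pos
  have hdeg : (C r : R[X]).degree < (X ^ p - C b : R[X]).degree := by
    rw [degree_C hne, degree_X_pow_sub_C hp0 b]
    exact_mod_cast hp0
  refine AdjoinRoot.mk_ne_zero_of_degree_lt (monic_X_pow_sub_C b hp0.ne') (C_ne_zero.mpr hne) hdeg ?_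
  rw [AdjoinRoot.mk_C, ← AdjoinRoot.algebraMap_eq]
  exact hr

omit hp in
theorem surj_aeval (h : AdjoinRoot (X ^ p - C b : R[X])) :
    ∃ f : R[X], aeval (AdjoinRoot.root (X ^ p - C b : R[X])) f = h := by
  obtain ⟨f, rfl⟩ := AdjoinRoot.mk_surjective h
  exact ⟨f, AdjoinRoot.aeval_eq f⟩

end concrete


end helpers

/-- Let p be a prime number and R an F_p-algebra, a, b ∈ R, S_a = R[x]/(x^p - a) and S_b = R[y]/(y^p -
b). The trace Tr_x : Ω_{S_a/R} → Ω_R is the R-linear map with x^i dx ↦ 0 for 0 ≤ i ≤ p - 2 and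
x^{p-1} dx ↦ da (these determine it, Ω_{S_a/R} being free over R on the x^i dx), and similarly Tr_y.
Then for every R-algebra homomorphism φ : S_a → S_b one has Tr_x = Tr_y ∘ φ_*: for all s, t ∈ S_a,
Tr_x(s dt) = Tr_y(φ(s) dφ(t)). Here Ω_R is the module of absolute differentials Ω_{R/Z}. -/
theorem result (p : ℕ) [Fact p.Prime] (R : Type u) [CommRing R] [CharP R p] (a b : R)
    (φ : AdjoinRoot (X ^ p - C a : R[X]) →ₐ[R] AdjoinRoot (X ^ p - C b : R[X]))
    (Tx : Ω[AdjoinRoot (X ^ p - C a : R[X])⁄R] →ₗ[R] Ω[R⁄ℤ])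
    (Ty : Ω[AdjoinRoot (X ^ p - C b : R[X])⁄R] →ₗ[R] Ω[R⁄ℤ])
    (hTx : ∀ i : ℕ, i + 2 ≤ p →
      Tx (AdjoinRoot.root (X ^ p - C a) ^ i • KaehlerDifferential.D R _ (AdjoinRoot.root (X ^ p - C a))) = 0)
    (hTx' : Tx (AdjoinRoot.root (X ^ p - C a) ^ (p - 1) • KaehlerDifferential.D R _ (AdjoinRoot.root (X ^ p - C a))) =
      KaehlerDifferential.D ℤ R a)
    (hTy : ∀ i : ℕ, i + 2 ≤ p →
      Ty (AdjoinRoot.root (X ^ p - C b) ^ i • KaehlerDifferential.D R _ (AdjoinRoot.root (X ^ p - C b))) = 0)
    (hTy' : Ty (AdjoinRoot.root (X ^ p - C b) ^ (p - 1) • KaehlerDifferential.D R _ (AdjoinRoot.root (X ^ p - C b))) =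
      KaehlerDifferential.D ℤ R b)
    (s t : AdjoinRoot (X ^ p - C a : R[X])) :
    Tx (s • KaehlerDifferential.D R _ t) = Ty (φ s • KaehlerDifferential.D R _ (φ t)) := by
  have hp0 : 0 < p := (Fact.out : p.Prime).pos
  have hCb : CharP (AdjoinRoot (X ^ p - C b : R[X])) p :=
    charP_of_injective_algebraMap (algebraMap_inj p R b) p
  set x := AdjoinRoot.root (X ^ p - C a : R[X]) with hx
  set y := AdjoinRoot.root (X ^ p - C b : R[X]) with hy
  set dx := KaehlerDifferential.D R (AdjoinRoot (X ^ p - C a : R[X])) with hdx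
  set dy := KaehlerDifferential.D R (AdjoinRoot (X ^ p - C b : R[X])) with hdy
  set g := φ x with hg
  have hxp : x ^ p = algebraMap R _ a := root_pow p R a
  have hyp : y ^ p = algebraMap R _ b := root_pow p R b
  have hgp : g ^ p = algebraMap R _ a := by
    rw [hg, ← map_pow, hxp, AlgHom.commutes]
  -- key lemma
  have key : ∀ n : ℕ, Tx (x ^ n • dx x) = Ty (g ^ n • dy g) := by
    intro n
    rw [T_pow dx (KaehlerDifferential.D ℤ R) Tx x a hxp hTx hTx' n]
    have h1 : g ^ n = algebraMap R _ (a ^ (n / p)) * g ^ (n % p) := by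
      conv_lhs => rw [← Nat.div_add_mod n p]
      rw [pow_add, pow_mul, hgp, map_pow]
    rw [h1, ← Algebra.smul_def, smul_assoc, map_smul]
    congr 1
    have hlt : n % p < p := Nat.mod_lt _ hp0
    split_ifs with h
    · rw [h]
      obtain ⟨r0, hr0, hr0'⟩ := Q_all dy (KaehlerDifferential.D ℤ R) Ty y b hyp hTy hTy'
        (surj_aeval p R b) g
      rw [hr0']
      have : r0 = a := algebraMap_inj p R b (by rw [← hr0, hgp])
      rw [this]
    · -- exact form
      set r := n % p with hr
      have hr2 : r + 2 ≤ p := by omega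
      have hex : (r + 1) • (g ^ r • dy g) = dy (g ^ (r + 1)) := by
        rw [Derivation.leibniz_pow, Nat.add_sub_cancel]
      have h0 : (r + 1) • Ty (g ^ r • dy g) = 0 := by
        rw [← map_nsmul, hex]
        exact T_exact dy (KaehlerDifferential.D ℤ R) Ty y b hyp hTy hTy' (surj_aeval p R b) _
      have hpz : p • Ty (g ^ r • dy g) = 0 := p_smul_eq_zero R p _
      have hcop : Nat.Coprime (r + 1) p := by
        rw [Nat.coprime_comm]
        exact (Nat.Prime.coprime_iff_not_dvd (Fact.out : p.Prime)).mpr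
          (Nat.not_dvd_of_pos_of_lt (Nat.succ_pos r) (by omega))
      have hb := Nat.gcd_eq_gcd_ab (r + 1) p
      rw [hcop] at hb
      have : ((1 : ℕ) : ℤ) • Ty (g ^ r • dy g) = 0 := by
        rw [hb, add_smul, mul_comm, mul_smul, mul_comm, mul_smul, natCast_zsmul, natCast_zsmul, h0, hpz,
          smul_zero, smul_zero, add_zero]
      rw [Nat.cast_one, one_smul] at this
      exact this.symm
  -- monomial case
  have mono : ∀ i m : ℕ, Tx (x ^ i • dx (x ^ m)) = Ty (g ^ i • dy (g ^ m)) := by
    intro i m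
    rw [Derivation.leibniz_pow, Derivation.leibniz_pow, smul_comm, smul_smul, ← pow_add,
      map_nsmul, key, smul_comm (g ^ i), smul_smul, ← pow_add, map_nsmul]
  -- reduce t
  have red1 : ∀ (i : ℕ) (t : AdjoinRoot (X ^ p - C a : R[X])),
      Tx (x ^ i • dx t) = Ty (g ^ i • dy (φ t)) := by
    intro i t
    obtain ⟨G, rfl⟩ := surj_aeval p R a t
    induction G using Polynomial.induction_on' with
    | add f1 f2 h1 h2 =>
      rw [map_add, map_add, smul_add, map_add, h1, h2, map_add, map_add, smul_add, map_add]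
    | monomial m c =>
      have e0 : aeval x (monomial m c) = c • x ^ m := by
        rw [aeval_monomial, ← Algebra.smul_def]
      have e1 : x ^ i • dx (c • x ^ m) = c • (x ^ i • dx (x ^ m)) := by
        rw [Derivation.map_smul, smul_comm]
      have e2 : g ^ i • dy (φ (c • x ^ m)) = c • (g ^ i • dy (g ^ m)) := by
        rw [map_smul φ, map_pow, Derivation.map_smul, smul_comm]
      rw [e0, e1, e2, LinearMap.map_smul, LinearMap.map_smul, mono]
  obtain ⟨F, rfl⟩ := surj_aeval p R a s
  induction F using Polynomial.induction_on' with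
  | add f1 f2 h1 h2 =>
    rw [map_add, add_smul, map_add, h1, h2, map_add, add_smul, map_add]
  | monomial i c =>
    have e0 : aeval x (monomial i c) = c • x ^ i := by
      rw [aeval_monomial, ← Algebra.smul_def]
    have e1 : φ (c • x ^ i) = c • g ^ i := by
      rw [map_smul φ, map_pow]
    rw [e0, e1, smul_assoc, smul_assoc, LinearMap.map_smul, LinearMap.map_smul, red1]

end Groth.Agent.S7340
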