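import Groth.Statements.S7341
import Groth.Agent.Lib.Helper2.NumType
import Mathlib.Tactic.IntervalCases
import Mathlib.Tactic.Linarith

set_option autoImplicit false
open Finset
open Models Models.NumericalType

namespace Groth.Agent.S7341


open Groth.Agent.Lib.helper2.NumType in
lemma cases4 (p q r u : ℤ) (hp : 1 ≤ p) (hq : 1 ≤ q) (hr : 1 ≤ r) (hu : 1 ≤ u)
    (h : p * q + r * u < 4) :
    (p = 1 ∧ q = 1 ∧ r = 1 ∧ u = 1) ∨ (p = 1 ∧ q = 1 ∧ r = 1 ∧ u = 2) ∨
      (p = 1 ∧ q = 1 ∧ r = 2 ∧ u = 1) ∨ (p = 1 ∧ q = 2 ∧ r = 1 ∧ u = 1) ∨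
      (p = 2 ∧ q = 1 ∧ r = 1 ∧ u = 1) := by
  have h1 : p ≤ p * q := by nlinarith
  have h2 : q ≤ p * q := by nlinarith
  have h3 : r ≤ r * u := by nlinarith
  have h4 : u ≤ r * u := by nlinarith
  have h5 : 1 ≤ p * q := by nlinarith
  have h6 : 1 ≤ r * u := by nlinarith
  have hp2 : p ≤ 2 := by linarith
  have hq2 : q ≤ 2 := by linarith
  have hr2 : r ≤ 2 := by linarith
  have hu2 : u ≤ 2 := by linarith
  clear h1 h2 h3 h4 h5 h6
  interval_cases p <;> interval_cases q <;> interval_cases r <;> interval_cases u <;>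
    first | (exfalso; omega) | simp

/-- Classification of proper subgraphs which are chains of three vertices: let T be a numerical type on
n > 3 indices and i, j, k distinct (-2)-indices with a_ij > 0 and a_jk > 0. Then a_ik = 0 and, up to
reversing the order of i, j, k, one of the following holds for some integer w: (A3) w_i = w_j = w_k
= w, a_ij = a_jk = w, with 2 m_i ≥ m_j, 2 m_j ≥ m_i + m_k, 2 m_k ≥ m_j; (C3) w_i = w_j = w, w_k =
2w, a_ij = w, a_jk = 2w, with 2 m_i ≥ m_j, 2 m_j ≥ m_i + 2 m_k, 2 m_k ≥ m_j; (B3) w_i = w_j = 2w,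
w_k = w, a_ij = a_jk = 2w, with 2 m_i ≥ m_j, 2 m_j ≥ m_i + m_k, m_k ≥ m_j. -/
theorem result {n : ℕ} (T : Models.NumericalType n) (hn : 3 < n) (i j k : Fin n)
    (hij : i ≠ j) (hjk : j ≠ k) (hik : i ≠ k) (hi : T.IsMinusTwo i) (hj : T.IsMinusTwo j) (hk : T.IsMinusTwo k)
    (h1 : 0 < T.a i j) (h2 : 0 < T.a j k) :
    T.a i k = 0 ∧ ∃ (i' k' : Fin n) (w : ℤ), ((i' = i ∧ k' = k) ∨ (i' = k ∧ k' = i)) ∧
      ((T.w i' = w ∧ T.w j = w ∧ T.w k' = w ∧ T.a i' j = w ∧ T.a j k' = w ∧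
          T.m j ≤ 2 * T.m i' ∧ T.m i' + T.m k' ≤ 2 * T.m j ∧ T.m j ≤ 2 * T.m k') ∨
        (T.w i' = w ∧ T.w j = w ∧ T.w k' = 2 * w ∧ T.a i' j = w ∧ T.a j k' = 2 * w ∧
          T.m j ≤ 2 * T.m i' ∧ T.m i' + 2 * T.m k' ≤ 2 * T.m j ∧ T.m j ≤ 2 * T.m k') ∨
        (T.w i' = 2 * w ∧ T.w j = 2 * w ∧ T.w k' = w ∧ T.a i' j = 2 * w ∧ T.a j k' = 2 * w ∧
          T.m j ≤ 2 * T.m i' ∧ T.m i' + T.m k' ≤ 2 * T.m j ∧ T.m j ≤ T.m k')) := by
  classical
  have hWi := T.w_pos i
  have hWj := T.w_pos j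
  have hWk := T.w_pos k
  have hik0 : T.a i k = 0 := by
    by_contra hne
    have h3 := Groth.Agent.Lib.helper2.NumType.offDiag_pos_of_ne_zero T hik hne
    have hQ := Groth.Agent.Lib.helper2.NumType.quadForm_neg_three T hij hik hjk hn 1 1 1
      (Or.inl one_ne_zero)
    rw [hi.2, hj.2, hk.2] at hQ
    have b1 := Groth.Agent.Lib.helper2.NumType.w_le_of_pos T h1
    have b2 := Groth.Agent.Lib.helper2.NumType.w_le_of_pos' T h1
    have b3 := Groth.Agent.Lib.helper2.NumType.w_le_of_pos T h2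
    have b4 := Groth.Agent.Lib.helper2.NumType.w_le_of_pos' T h2
    have b5 := Groth.Agent.Lib.helper2.NumType.w_le_of_pos T h3
    have b6 := Groth.Agent.Lib.helper2.NumType.w_le_of_pos' T h3
    linarith
  refine ⟨hik0, ?_⟩
  obtain ⟨p, hp⟩ := Groth.Agent.Lib.helper2.NumType.exists_quot T i j
  obtain ⟨q, hq⟩ := Groth.Agent.Lib.helper2.NumType.exists_quot' T i j
  obtain ⟨r, hr⟩ := Groth.Agent.Lib.helper2.NumType.exists_quot T j k
  obtain ⟨u, hu⟩ := Groth.Agent.Lib.helper2.NumType.exists_quot' T j k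
  have hp1 : 1 ≤ p := by
    have : 0 < T.w i * p := hp ▸ h1
    have := (mul_pos_iff_of_pos_left hWi).1 this
    omega
  have hq1 : 1 ≤ q := by
    have : 0 < T.w j * q := hq ▸ h1
    have := (mul_pos_iff_of_pos_left hWj).1 this
    omega
  have hr1 : 1 ≤ r := by
    have : 0 < T.w j * r := hr ▸ h2
    have := (mul_pos_iff_of_pos_left hWj).1 this
    omega
  have hu1 : 1 ≤ u := by
    have : 0 < T.w k * u := hu ▸ h2
    have := (mul_pos_iff_of_pos_left hWk).1 this
    omega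
  have hQ := Groth.Agent.Lib.helper2.NumType.quadForm_neg_three T hij hik hjk hn p 2 u
    (Or.inr (Or.inl two_ne_zero))
  rw [hi.2, hj.2, hk.2, hik0] at hQ
  have e1 : p * p * T.w i = p * q * T.w j := by
    calc p * p * T.w i = p * (T.w i * p) := by ring
      _ = p * (T.w j * q) := by rw [← hp, hq]
      _ = p * q * T.w j := by ring
  have e2 : u * u * T.w k = r * u * T.w j := by
    calc u * u * T.w k = u * (T.w k * u) := by ring
      _ = u * (T.w j * r) := by rw [← hu, hr]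
      _ = r * u * T.w j := by ring
  have e3 : p * T.a i j = p * q * T.w j := by
    rw [hp]; linarith
  have e4 : u * T.a j k = r * u * T.w j := by
    rw [hu]; linarith
  have key : T.w j * (p * q + r * u - 4) < 0 := by
    have : p * p * (-2 * T.w i) + 2 * 2 * (-2 * T.w j) + u * u * (-2 * T.w k) + 2 * (p * 2) * T.a i j
      + 2 * (p * u) * 0 + 2 * (2 * u) * T.a j k
      = -2 * (p * p * T.w i) - 8 * T.w j - 2 * (u * u * T.w k) + 4 * (p * T.a i j)
        + 4 * (u * T.a j k) := by ring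
    rw [this, e1, e2, e3, e4] at hQ
    linarith
  have hlt : p * q + r * u < 4 := by
    by_contra hcon
    rw [not_lt] at hcon
    have : 0 ≤ T.w j * (p * q + r * u - 4) := mul_nonneg hWj.le (by linarith)
    linarith
  have Ri := Groth.Agent.Lib.helper2.NumType.minusTwo_pair T hij hi
  have Rk := Groth.Agent.Lib.helper2.NumType.minusTwo_pair T hjk.symm hk
  have Rj := Groth.Agent.Lib.helper2.NumType.minusTwo_triple T hij.symm hjk hik hj
  rw [Groth.Agent.Lib.helper2.NumType.symm_apply T k j] at Rk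
  rw [Groth.Agent.Lib.helper2.NumType.symm_apply T j i] at Rj
  have sji := Groth.Agent.Lib.helper2.NumType.symm_apply T j i
  have skj := Groth.Agent.Lib.helper2.NumType.symm_apply T k j
  have hMi := T.m_pos i
  have hMj := T.m_pos j
  have hMk := T.m_pos k
  rcases cases4 p q r u hp1 hq1 hr1 hu1 hlt with
    ⟨rfl, rfl, rfl, rfl⟩ | ⟨rfl, rfl, rfl, rfl⟩ | ⟨rfl, rfl, rfl, rfl⟩ | ⟨rfl, rfl, rfl, rfl⟩ |
      ⟨rfl, rfl, rfl, rfl⟩
  · -- A3
    have wi : T.w i = T.w j := by linarith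
    have wk : T.w k = T.w j := by linarith
    have ea : T.a i j = T.w j := by linarith
    have eb : T.a j k = T.w j := by linarith
    rw [ea, wi] at Ri
    rw [eb, wk] at Rk
    rw [ea, eb] at Rj
    refine ⟨i, k, T.w j, Or.inl ⟨rfl, rfl⟩, Or.inl ⟨wi, rfl, wk, ea, eb, ?_, ?_, ?_⟩⟩
    · nlinarith
    · nlinarith
    · nlinarith
  · -- B3, w = w k
    have wi : T.w i = 2 * T.w k := by linarith
    have wj : T.w j = 2 * T.w k := by linarith
    have ea : T.a i j = 2 * T.w k := by linarith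
    have eb : T.a j k = 2 * T.w k := by linarith
    rw [ea, wi] at Ri
    rw [eb] at Rk
    rw [ea, eb, wj] at Rj
    refine ⟨i, k, T.w k, Or.inl ⟨rfl, rfl⟩, Or.inr (Or.inr ⟨wi, wj, rfl, ea, eb, ?_, ?_, ?_⟩)⟩
    · nlinarith
    · nlinarith
    · nlinarith
  · -- C3, w = w j
    have wi : T.w i = T.w j := by linarith
    have wk : T.w k = 2 * T.w j := by linarith
    have ea : T.a i j = T.w j := by linarith
    have eb : T.a j k = 2 * T.w j := by linarith
    rw [ea, wi] at Ri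
    rw [eb, wk] at Rk
    rw [ea, eb] at Rj
    refine ⟨i, k, T.w j, Or.inl ⟨rfl, rfl⟩, Or.inr (Or.inl ⟨wi, rfl, wk, ea, eb, ?_, ?_, ?_⟩)⟩
    · nlinarith
    · nlinarith
    · nlinarith
  · -- C3 reversed, w = w j
    have wi : T.w i = 2 * T.w j := by linarith
    have wk : T.w k = T.w j := by linarith
    have ea : T.a i j = 2 * T.w j := by linarith
    have eb : T.a j k = T.w j := by linarith
    rw [ea, wi] at Ri
    rw [eb, wk] at Rk
    rw [ea, eb] at Rj
    refine ⟨k, i, T.w j, Or.inr ⟨rfl, rfl⟩, Or.inr (Or.inl ⟨wk, rfl, wi, by rw [skj, eb],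
      by rw [sji, ea], ?_, ?_, ?_⟩)⟩
    · nlinarith
    · nlinarith
    · nlinarith
  · -- B3 reversed, w = w i
    have wj : T.w j = 2 * T.w i := by linarith
    have wk : T.w k = 2 * T.w i := by linarith
    have ea : T.a i j = 2 * T.w i := by linarith
    have eb : T.a j k = 2 * T.w i := by linarith
    rw [ea] at Ri
    rw [eb, wk] at Rk
    rw [ea, eb, wj] at Rj
    refine ⟨k, i, T.w i, Or.inr ⟨rfl, rfl⟩, Or.inr (Or.inr ⟨wk, wj, rfl, by rw [skj, eb],
      by rw [sji, ea], ?_, ?_, ?_⟩)⟩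
    · nlinarith
    · nlinarith
    · nlinarith

end Groth.Agent.S7341
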