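import Groth.Statements.S7342
import Mathlib
import Groth.Agent.Lib.Helper19.NumType

set_option autoImplicit false
open Finset
open Models Models.NumericalType

namespace Groth.Agent.S7342

/-- Let T be a numerical type on n indices, t ≥ 4 and n > t + 2. Then no t + 2 (-2)-indices of T,
pairwise distinct and numbered i_0, …, i_{t+1}, satisfy: a_{i_j i_{j+1}} > 0 for 1 ≤ j ≤ t - 1,
a_{i_0 i_2} > 0 and a_{i_{t-1} i_{t+1}} > 0. -/
theorem result {n : ℕ} (T : Models.NumericalType n) (t : ℕ) (ht : 4 ≤ t) (hn : t + 2 < n)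
    (v : Fin (t + 2) ↪ Fin n) (hv : ∀ j, T.IsMinusTwo (v j))
    (hchain : ∀ j j' : Fin (t + 2), 1 ≤ j.val → j.val + 1 ≤ t → j'.val = j.val + 1 → 0 < T.a (v j) (v j'))
    (h02 : ∀ j j' : Fin (t + 2), j.val = 0 → j'.val = 2 → 0 < T.a (v j) (v j'))
    (hlast : ∀ j j' : Fin (t + 2), j.val = t - 1 → j'.val = t + 1 → 0 < T.a (v j) (v j')) : False := by
  classical
  -- adjacency gives rq ≥ 1
  have hne : ∀ s x : Fin (t + 2), s ≠ x → v s ≠ v x := fun s x h => v.injective.ne h
  have hadj1 : ∀ s x : Fin (t + 2), 1 ≤ s.val → s.val + 1 ≤ t → x.val = s.val + 1 →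
      1 ≤ Groth.Agent.Lib.helper19.rq T v s x ∧ 1 ≤ Groth.Agent.Lib.helper19.rq T v x s := by
    intro s x h1 h2 h3
    have hsx : s ≠ x := fun e => by rw [e] at h3; omega
    have hpos := hchain s x h1 h2 h3
    refine ⟨Groth.Agent.Lib.helper19.one_le_rq T v s x (hne s x hsx) hpos.ne', ?_⟩
    refine Groth.Agent.Lib.helper19.one_le_rq T v x s (hne x s hsx.symm) ?_
    rw [Groth.Agent.Lib.helper19.a_symm]
    exact hpos.ne'
  have hadj2 : ∀ s x : Fin (t + 2), s.val = 0 → x.val = 2 →
      1 ≤ Groth.Agent.Lib.helper19.rq T v s x ∧ 1 ≤ Groth.Agent.Lib.helper19.rq T v x s := by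
    intro s x h1 h2
    have hsx : s ≠ x := fun e => by rw [e] at h1; omega
    have hpos := h02 s x h1 h2
    refine ⟨Groth.Agent.Lib.helper19.one_le_rq T v s x (hne s x hsx) hpos.ne', ?_⟩
    refine Groth.Agent.Lib.helper19.one_le_rq T v x s (hne x s hsx.symm) ?_
    rw [Groth.Agent.Lib.helper19.a_symm]
    exact hpos.ne'
  have hadj3 : ∀ s x : Fin (t + 2), s.val = t - 1 → x.val = t + 1 →
      1 ≤ Groth.Agent.Lib.helper19.rq T v s x ∧ 1 ≤ Groth.Agent.Lib.helper19.rq T v x s := by
    intro s x h1 h2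
    have hsx : s ≠ x := fun e => by rw [e] at h1; omega
    have hpos := hlast s x h1 h2
    refine ⟨Groth.Agent.Lib.helper19.one_le_rq T v s x (hne s x hsx) hpos.ne', ?_⟩
    refine Groth.Agent.Lib.helper19.one_le_rq T v x s (hne x s hsx.symm) ?_
    rw [Groth.Agent.Lib.helper19.a_symm]
    exact hpos.ne'
  let δ : Fin (t + 2) → ℤ := fun j => if j.val ≤ 1 ∨ t ≤ j.val then 1 else 2
  have hδ1 : ∀ j : Fin (t + 2), (j.val ≤ 1 ∨ t ≤ j.val) → δ j = 1 := fun j h => if_pos h
  have hδ2 : ∀ j : Fin (t + 2), ¬ (j.val ≤ 1 ∨ t ≤ j.val) → δ j = 2 := fun j h => if_neg h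
  have hδ0 : ∀ j, 0 ≤ δ j := by
    intro j
    by_cases h : j.val ≤ 1 ∨ t ≤ j.val
    · rw [hδ1 j h]; norm_num
    · rw [hδ2 j h]; norm_num
  refine Groth.Agent.Lib.helper19.no_config_rq T hn v hv δ hδ0 ⟨⟨0, by omega⟩, by
    rw [hδ1 _ (Or.inl (by simp))]; norm_num⟩ ?_
  intro x
  have hx := x.isLt
  by_cases c0 : x.val = 0
  · -- neighbour 2
    have hd := hδ1 x (Or.inl (by omega))
    have e := hadj2 x ⟨2, by omega⟩ c0 rfl
    have h := Groth.Agent.Lib.helper19.sum_ge1 T v δ hδ0 x ⟨2, by omega⟩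
      (fun e' => by rw [← e'] at c0; simp at c0)
    have hd2 := hδ2 ⟨2, by omega⟩ (by first | omega | (dsimp only; omega) | (simp; omega) | simp)
    rw [hd2] at h
    rw [hd]
    linarith [e.2]
  by_cases c1 : x.val = 1
  · have hd := hδ1 x (Or.inl (by omega))
    have e := hadj1 x ⟨2, by omega⟩ (by omega) (by omega) (by first | omega | (dsimp only; omega) | (simp; omega) | simp)
    have h := Groth.Agent.Lib.helper19.sum_ge1 T v δ hδ0 x ⟨2, by omega⟩
      (fun e' => by rw [← e'] at c1; simp at c1)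
    have hd2 := hδ2 ⟨2, by omega⟩ (by first | omega | (dsimp only; omega) | (simp; omega) | simp)
    rw [hd2] at h
    rw [hd]
    linarith [e.2]
  by_cases c2 : x.val = 2
  · have hd := hδ2 x (by omega)
    have e0 := hadj2 ⟨0, by omega⟩ x rfl c2
    have e1 := hadj1 ⟨1, by omega⟩ x (by simp) (by first | omega | (dsimp only; omega) | (simp; omega) | simp) (by first | omega | (dsimp only; omega) | (simp; omega) | simp)
    have e3 := hadj1 x ⟨3, by omega⟩ (by omega) (by omega) (by first | omega | (dsimp only; omega) | (simp; omega) | simp)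
    have h := Groth.Agent.Lib.helper19.sum_ge3 T v δ hδ0 x ⟨0, by omega⟩ ⟨1, by omega⟩ ⟨3, by omega⟩
      (fun e' => by rw [← e'] at c2; simp at c2) (fun e' => by rw [← e'] at c2; simp at c2)
      (fun e' => by rw [← e'] at c2; simp at c2) (by simp) (by simp) (by simp)
    have hd0 := hδ1 ⟨0, by omega⟩ (Or.inl (by simp))
    have hd1 := hδ1 ⟨1, by omega⟩ (Or.inl (by simp))
    have hd3 := hδ2 ⟨3, by omega⟩ (by first | omega | (dsimp only; omega) | (simp; omega) | simp)
    rw [hd0, hd1, hd3] at h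
    rw [hd]
    linarith [e0.1, e1.1, e3.2]
  by_cases c3 : x.val = t - 1
  · have hd := hδ2 x (by omega)
    have ea := hadj1 ⟨t - 2, by omega⟩ x (by first | omega | (dsimp only; omega) | (simp; omega) | simp) (by first | omega | (dsimp only; omega) | (simp; omega) | simp) (by first | omega | (dsimp only; omega) | (simp; omega) | simp)
    have eb := hadj1 x ⟨t, by omega⟩ (by omega) (by omega) (by first | omega | (dsimp only; omega) | (simp; omega) | simp)
    have ec := hadj3 x ⟨t + 1, by omega⟩ c3 rfl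
    have h := Groth.Agent.Lib.helper19.sum_ge3 T v δ hδ0 x ⟨t - 2, by omega⟩ ⟨t, by omega⟩
      ⟨t + 1, by omega⟩
      (fun e' => by rw [← e'] at c3; simp at c3 <;> omega) (fun e' => by rw [← e'] at c3; simp at c3 <;> omega)
      (fun e' => by rw [← e'] at c3; simp at c3 <;> omega) (by first | omega | (dsimp only; omega) | (simp; omega) | simp) (by first | omega | (dsimp only; omega) | (simp; omega) | simp) (by simp)
    have hda := hδ2 ⟨t - 2, by omega⟩ (by first | omega | (dsimp only; omega) | (simp; omega) | simp)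
    have hdb := hδ1 ⟨t, by omega⟩ (Or.inr (by simp))
    have hdc := hδ1 ⟨t + 1, by omega⟩ (Or.inr (by simp))
    rw [hda, hdb, hdc] at h
    rw [hd]
    linarith [ea.1, eb.2, ec.2]
  by_cases c4 : x.val = t
  · have hd := hδ1 x (Or.inr (by omega))
    have e := hadj1 ⟨t - 1, by omega⟩ x (by first | omega | (dsimp only; omega) | (simp; omega) | simp) (by first | omega | (dsimp only; omega) | (simp; omega) | simp) (by first | omega | (dsimp only; omega) | (simp; omega) | simp)
    have h := Groth.Agent.Lib.helper19.sum_ge1 T v δ hδ0 x ⟨t - 1, by omega⟩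
      (fun e' => by rw [← e'] at c4; simp at c4 <;> omega)
    have hd2 := hδ2 ⟨t - 1, by omega⟩ (by first | omega | (dsimp only; omega) | (simp; omega) | simp)
    rw [hd2] at h
    rw [hd]
    linarith [e.1]
  by_cases c5 : x.val = t + 1
  · have hd := hδ1 x (Or.inr (by omega))
    have e := hadj3 ⟨t - 1, by omega⟩ x rfl c5
    have h := Groth.Agent.Lib.helper19.sum_ge1 T v δ hδ0 x ⟨t - 1, by omega⟩
      (fun e' => by rw [← e'] at c5; simp at c5 <;> omega)
    have hd2 := hδ2 ⟨t - 1, by omega⟩ (by first | omega | (dsimp only; omega) | (simp; omega) | simp)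
    rw [hd2] at h
    rw [hd]
    linarith [e.1]
  · -- interior: 3 ≤ x ≤ t - 2
    have hd := hδ2 x (by omega)
    have ea := hadj1 ⟨x.val - 1, by omega⟩ x (by first | omega | (dsimp only; omega) | (simp; omega) | simp) (by first | omega | (dsimp only; omega) | (simp; omega) | simp) (by first | omega | (dsimp only; omega) | (simp; omega) | simp)
    have eb := hadj1 x ⟨x.val + 1, by omega⟩ (by omega) (by omega) (by simp)
    have h := Groth.Agent.Lib.helper19.sum_ge2 T v δ hδ0 x ⟨x.val - 1, by omega⟩ ⟨x.val + 1, by omega⟩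
      (fun e' => by have := congrArg Fin.val e'; simp at this; omega)
      (fun e' => by have := congrArg Fin.val e'; simp at this)
      (by first | omega | (dsimp only; omega) | (simp; omega) | simp)
    have hda := hδ2 ⟨x.val - 1, by omega⟩ (by first | omega | (dsimp only; omega) | (simp; omega) | simp)
    have hdb := hδ2 ⟨x.val + 1, by omega⟩ (by first | omega | (dsimp only; omega) | (simp; omega) | simp)
    rw [hda, hdb] at h
    rw [hd]
    linarith [ea.1, eb.2]

end Groth.Agent.S7342
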