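import Groth.Statements.S7346
import Groth.Agent.Lib.Helper19.NumType
import Groth.Agent.Lib.Helper2.NumType

set_option autoImplicit false
open Finset
open Models Models.NumericalType

namespace Groth.Agent.S7346

/-- Classification of proper subgraphs of type D4 (one vertex joined to three others): let T be a
numerical type on n > 4 indices and i_1, …, i_4 distinct (-2)-indices with a_{12}, a_{13}, a_{14}
nonzero. Then for some integer w all w_{i_j} equal w, these intersection numbers equal w, all other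
a_{i_j i_k} (j ≠ k) vanish, and 2 m_1 ≥ m_2 + m_3 + m_4, 2 m_2 ≥ m_1, 2 m_3 ≥ m_1, 2 m_4 ≥ m_1. -/
theorem result {n : ℕ} (T : Models.NumericalType n) (hn : 4 < n)
    (v : Fin 4 ↪ Fin n) (hv : ∀ j, T.IsMinusTwo (v j)) (h01 : T.a (v 0) (v 1) ≠ 0) (h02 : T.a (v 0) (v 2) ≠ 0) (h03 : T.a (v 0) (v 3) ≠ 0) :
    ∃ w : ℤ, (∀ j : Fin 4, T.w (v j) = w) ∧
      T.a (v 0) (v 1) = w ∧
      T.a (v 0) (v 2) = w ∧
      T.a (v 0) (v 3) = w ∧
      T.a (v 1) (v 2) = 0 ∧
      T.a (v 1) (v 3) = 0 ∧
      T.a (v 2) (v 3) = 0 ∧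
      T.m (v 1) + T.m (v 2) + T.m (v 3) ≤ 2 * T.m (v 0) ∧
      T.m (v 0) ≤ 2 * T.m (v 1) ∧
      T.m (v 0) ≤ 2 * T.m (v 2) ∧
      T.m (v 0) ≤ 2 * T.m (v 3) := by
  classical
  have hk : 4 < n := hn
  have hE0 := Groth.Agent.Lib.helper19.adjE_le T v [(0, 1), (0, 2), (0, 3)] (by
    intro e he
    simp only [List.mem_cons, List.not_mem_nil, or_false] at he
    rcases he with rfl | rfl | rfl <;> assumption)
  have hne : ∀ s t : Fin 4, s ≠ t → v s ≠ v t := fun s t h => v.injective.ne h
  -- all edge quotients are `1`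
  have hr : ∀ k : Fin 4, k ≠ 0 →
      Groth.Agent.Lib.helper19.rq T v 0 k = 1 ∧ Groth.Agent.Lib.helper19.rq T v k 0 = 1 := by
    intro k hk0
    have hak : T.a (v 0) (v k) ≠ 0 := by
      fin_cases k
      · exact absurd rfl hk0
      · exact h01
      · exact h02
      · exact h03
    have hak' : T.a (v k) (v 0) ≠ 0 := by
      rw [Groth.Agent.Lib.helper19.a_symm]; exact hak
    have h1 := Groth.Agent.Lib.helper19.one_le_rq T v 0 k (hne 0 k (Ne.symm hk0)) hak
    have h2 := Groth.Agent.Lib.helper19.one_le_rq T v k 0 (hne k 0 hk0) hak'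
    constructor
    · by_contra hcon
      have h2' : 2 ≤ Groth.Agent.Lib.helper19.rq T v 0 k := by omega
      refine Groth.Agent.Lib.helper19.no_config_dec T hk v hv
        (Groth.Agent.Lib.helper19.updE (Groth.Agent.Lib.helper19.adjE [(0, 1), (0, 2), (0, 3)]) 0 k 2)
        (Groth.Agent.Lib.helper19.updE_le T v hE0 0 k 2 h2') (fun t => if t = 0 ∨ t = k then 2 else 1)
        (fun t => by split_ifs <;> decide) ⟨0, by simp⟩ ?_
      fin_cases k
      · exact absurd rfl hk0
      all_goals decide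
    · by_contra hcon
      have h2' : 2 ≤ Groth.Agent.Lib.helper19.rq T v k 0 := by omega
      refine Groth.Agent.Lib.helper19.no_config_dec T hk v hv
        (Groth.Agent.Lib.helper19.updE (Groth.Agent.Lib.helper19.adjE [(0, 1), (0, 2), (0, 3)]) k 0 2)
        (Groth.Agent.Lib.helper19.updE_le T v hE0 k 0 2 h2') ![2, 1, 1, 1] (by decide) ⟨0, by decide⟩ ?_
      fin_cases k
      · exact absurd rfl hk0
      all_goals decide
  -- non-edges vanish
  have hz : ∀ s t : Fin 4, s ≠ 0 → t ≠ 0 → s ≠ t → T.a (v s) (v t) = 0 := by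
    intro s t hs ht hst
    by_contra hcon
    refine Groth.Agent.Lib.helper19.no_config_dec T hk v hv
      (Groth.Agent.Lib.helper19.adjE [(0, 1), (0, 2), (0, 3), (s, t)])
      (Groth.Agent.Lib.helper19.adjE_le T v _ ?_) (fun u => if u = 0 ∨ u = s ∨ u = t then 2 else 1)
      (fun t => by split_ifs <;> decide) ⟨0, by simp⟩ ?_
    · intro e he
      simp only [List.mem_cons, List.not_mem_nil, or_false] at he
      rcases he with rfl | rfl | rfl | rfl <;> assumption
    · fin_cases s <;> fin_cases t <;> first | exact absurd rfl hs | exact absurd rfl ht | exact absurd rfl hst | decide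
  have hw : ∀ k : Fin 4, k ≠ 0 → T.a (v 0) (v k) = T.w (v 0) ∧ T.w (v k) = T.w (v 0) := by
    intro k hk0
    obtain ⟨h1, h2⟩ := hr k hk0
    have e1 := Groth.Agent.Lib.helper19.rq_mul T v 0 k
    have e2 := Groth.Agent.Lib.helper19.rq_mul T v k 0
    rw [h1, one_mul] at e1
    rw [h2, one_mul, Groth.Agent.Lib.helper19.a_symm] at e2
    exact ⟨e1.symm, by rw [e2, ← e1]⟩
  have hW : 0 < T.w (v 0) := T.w_pos _
  obtain ⟨a1, w1⟩ := hw 1 (by decide)
  obtain ⟨a2, w2⟩ := hw 2 (by decide)
  obtain ⟨a3, w3⟩ := hw 3 (by decide)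
  refine ⟨T.w (v 0), ?_, a1, a2, a3, hz 1 2 (by decide) (by decide) (by decide),
    hz 1 3 (by decide) (by decide) (by decide), hz 2 3 (by decide) (by decide) (by decide), ?_, ?_, ?_, ?_⟩
  · intro j
    fin_cases j
    · rfl
    · exact w1
    · exact w2
    · exact w3
  · have h := Groth.Agent.Lib.helper2.NumType.row_sum_le T (v 0) (Finset.univ.map v) (by simp)
    rw [Finset.sum_map, Fin.sum_univ_four, (hv 0).2, a1, a2, a3] at h
    nlinarith
  · have h := Groth.Agent.Lib.helper2.NumType.minusTwo_pair T (hne 1 0 (by decide)) (hv 1)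
    rw [Groth.Agent.Lib.helper19.a_symm, a1, w1] at h
    nlinarith
  · have h := Groth.Agent.Lib.helper2.NumType.minusTwo_pair T (hne 2 0 (by decide)) (hv 2)
    rw [Groth.Agent.Lib.helper19.a_symm, a2, w2] at h
    nlinarith
  · have h := Groth.Agent.Lib.helper2.NumType.minusTwo_pair T (hne 3 0 (by decide)) (hv 3)
    rw [Groth.Agent.Lib.helper19.a_symm, a3, w3] at h
    nlinarith

end Groth.Agent.S7346
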