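import Groth.Statements.S7350
import Mathlib
import Groth.Agent.Lib.Helper19.NumType

set_option autoImplicit false
open Finset
open Models Models.NumericalType

namespace Groth.Agent.S7350

/-- Classification of proper subgraphs of type E8 (a chain i_1 … i_7 with i_8 joined to i_5): let T be a
numerical type on n > 8 indices and i_1, …, i_8 distinct (-2)-indices with a_{12}, a_{23}, a_{34},
a_{45}, a_{56}, a_{67}, a_{58} nonzero. Then for some integer w all w_{i_j} equal w, these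
intersection numbers equal w, all other a_{i_j i_k} (j ≠ k) vanish, and 2 m_1 ≥ m_2, 2 m_2 ≥ m_1 +
m_3, 2 m_3 ≥ m_2 + m_4, 2 m_4 ≥ m_3 + m_5, 2 m_5 ≥ m_4 + m_6 + m_8, 2 m_6 ≥ m_5 + m_7, 2 m_7 ≥ m_6,
2 m_8 ≥ m_5. (The published statement lists a_{65} and a_{57} among the nonzero entries, which
contradicts its own conclusion a_{57} = 0; this row uses the edges of the E8 graph, a_{67} and
a_{58}, as the pictured graph and the matrix give them.) -/
theorem result {n : ℕ} (T : Models.NumericalType n) (hn : 8 < n)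
    (v : Fin 8 ↪ Fin n) (hv : ∀ j, T.IsMinusTwo (v j)) (h01 : T.a (v 0) (v 1) ≠ 0) (h12 : T.a (v 1) (v 2) ≠ 0) (h23 : T.a (v 2) (v 3) ≠ 0) (h34 : T.a (v 3) (v 4) ≠ 0) (h45 : T.a (v 4) (v 5) ≠ 0) (h56 : T.a (v 5) (v 6) ≠ 0) (h47 : T.a (v 4) (v 7) ≠ 0) :
    ∃ w : ℤ, (∀ j : Fin 8, T.w (v j) = w) ∧
      T.a (v 0) (v 1) = w ∧
      T.a (v 1) (v 2) = w ∧
      T.a (v 2) (v 3) = w ∧
      T.a (v 3) (v 4) = w ∧
      T.a (v 4) (v 5) = w ∧
      T.a (v 5) (v 6) = w ∧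
      T.a (v 4) (v 7) = w ∧
      T.a (v 0) (v 2) = 0 ∧
      T.a (v 0) (v 3) = 0 ∧
      T.a (v 0) (v 4) = 0 ∧
      T.a (v 0) (v 5) = 0 ∧
      T.a (v 0) (v 6) = 0 ∧
      T.a (v 0) (v 7) = 0 ∧
      T.a (v 1) (v 3) = 0 ∧
      T.a (v 1) (v 4) = 0 ∧
      T.a (v 1) (v 5) = 0 ∧
      T.a (v 1) (v 6) = 0 ∧
      T.a (v 1) (v 7) = 0 ∧
      T.a (v 2) (v 4) = 0 ∧
      T.a (v 2) (v 5) = 0 ∧
      T.a (v 2) (v 6) = 0 ∧
      T.a (v 2) (v 7) = 0 ∧
      T.a (v 3) (v 5) = 0 ∧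
      T.a (v 3) (v 6) = 0 ∧
      T.a (v 3) (v 7) = 0 ∧
      T.a (v 4) (v 6) = 0 ∧
      T.a (v 5) (v 7) = 0 ∧
      T.a (v 6) (v 7) = 0 ∧
      T.m (v 1) ≤ 2 * T.m (v 0) ∧
      T.m (v 0) + T.m (v 2) ≤ 2 * T.m (v 1) ∧
      T.m (v 1) + T.m (v 3) ≤ 2 * T.m (v 2) ∧
      T.m (v 2) + T.m (v 4) ≤ 2 * T.m (v 3) ∧
      T.m (v 3) + T.m (v 5) + T.m (v 7) ≤ 2 * T.m (v 4) ∧
      T.m (v 4) + T.m (v 6) ≤ 2 * T.m (v 5) ∧
      T.m (v 5) ≤ 2 * T.m (v 6) ∧
      T.m (v 4) ≤ 2 * T.m (v 7) := by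
  classical
  have hk : 8 < n := by omega
  have hE0 := Groth.Agent.Lib.helper19.adjE_le T v [(0, 1), (1, 2), (2, 3), (3, 4), (4, 5), (5, 6), (4, 7)] (by
    intro e he
    simp only [List.mem_cons, List.not_mem_nil, or_false] at he
    rcases he with rfl | rfl | rfl | rfl | rfl | rfl | rfl <;> assumption)
  have z_0_2 : T.a (v 0) (v 2) = 0 := by
    by_contra h
    have h' : T.a (v 2) (v 0) ≠ 0 := by rwa [Groth.Agent.Lib.helper19.a_symm]
    exact Groth.Agent.Lib.helper19.no_config_dec T hk v hv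
      (Groth.Agent.Lib.helper19.updE (Groth.Agent.Lib.helper19.updE (Groth.Agent.Lib.helper19.adjE [(0, 1), (1, 2), (2, 3), (3, 4), (4, 5), (5, 6), (4, 7)]) 0 2 1) 2 0 1)
      (Groth.Agent.Lib.helper19.updE_le T v (Groth.Agent.Lib.helper19.updE_le T v hE0 0 2 1
        (Groth.Agent.Lib.helper19.one_le_rq T v 0 2 (v.injective.ne (by decide)) h)) 2 0 1
        (Groth.Agent.Lib.helper19.one_le_rq T v 2 0 (v.injective.ne (by decide)) h'))
      ![1, 1, 1, 0, 0, 0, 0, 0] (by decide) ⟨0, by decide⟩ (by decide)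
  have z_0_3 : T.a (v 0) (v 3) = 0 := by
    by_contra h
    have h' : T.a (v 3) (v 0) ≠ 0 := by rwa [Groth.Agent.Lib.helper19.a_symm]
    exact Groth.Agent.Lib.helper19.no_config_dec T hk v hv
      (Groth.Agent.Lib.helper19.updE (Groth.Agent.Lib.helper19.updE (Groth.Agent.Lib.helper19.adjE [(0, 1), (1, 2), (2, 3), (3, 4), (4, 5), (5, 6), (4, 7)]) 0 3 1) 3 0 1)
      (Groth.Agent.Lib.helper19.updE_le T v (Groth.Agent.Lib.helper19.updE_le T v hE0 0 3 1
        (Groth.Agent.Lib.helper19.one_le_rq T v 0 3 (v.injective.ne (by decide)) h)) 3 0 1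
        (Groth.Agent.Lib.helper19.one_le_rq T v 3 0 (v.injective.ne (by decide)) h'))
      ![1, 1, 1, 1, 0, 0, 0, 0] (by decide) ⟨0, by decide⟩ (by decide)
  have z_0_4 : T.a (v 0) (v 4) = 0 := by
    by_contra h
    have h' : T.a (v 4) (v 0) ≠ 0 := by rwa [Groth.Agent.Lib.helper19.a_symm]
    exact Groth.Agent.Lib.helper19.no_config_dec T hk v hv
      (Groth.Agent.Lib.helper19.updE (Groth.Agent.Lib.helper19.updE (Groth.Agent.Lib.helper19.adjE [(0, 1), (1, 2), (2, 3), (3, 4), (4, 5), (5, 6), (4, 7)]) 0 4 1) 4 0 1)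
      (Groth.Agent.Lib.helper19.updE_le T v (Groth.Agent.Lib.helper19.updE_le T v hE0 0 4 1
        (Groth.Agent.Lib.helper19.one_le_rq T v 0 4 (v.injective.ne (by decide)) h)) 4 0 1
        (Groth.Agent.Lib.helper19.one_le_rq T v 4 0 (v.injective.ne (by decide)) h'))
      ![1, 1, 1, 1, 1, 0, 0, 0] (by decide) ⟨0, by decide⟩ (by decide)
  have z_0_5 : T.a (v 0) (v 5) = 0 := by
    by_contra h
    have h' : T.a (v 5) (v 0) ≠ 0 := by rwa [Groth.Agent.Lib.helper19.a_symm]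
    exact Groth.Agent.Lib.helper19.no_config_dec T hk v hv
      (Groth.Agent.Lib.helper19.updE (Groth.Agent.Lib.helper19.updE (Groth.Agent.Lib.helper19.adjE [(0, 1), (1, 2), (2, 3), (3, 4), (4, 5), (5, 6), (4, 7)]) 0 5 1) 5 0 1)
      (Groth.Agent.Lib.helper19.updE_le T v (Groth.Agent.Lib.helper19.updE_le T v hE0 0 5 1
        (Groth.Agent.Lib.helper19.one_le_rq T v 0 5 (v.injective.ne (by decide)) h)) 5 0 1
        (Groth.Agent.Lib.helper19.one_le_rq T v 5 0 (v.injective.ne (by decide)) h'))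
      ![1, 1, 1, 1, 1, 1, 0, 0] (by decide) ⟨0, by decide⟩ (by decide)
  have z_0_6 : T.a (v 0) (v 6) = 0 := by
    by_contra h
    have h' : T.a (v 6) (v 0) ≠ 0 := by rwa [Groth.Agent.Lib.helper19.a_symm]
    exact Groth.Agent.Lib.helper19.no_config_dec T hk v hv
      (Groth.Agent.Lib.helper19.updE (Groth.Agent.Lib.helper19.updE (Groth.Agent.Lib.helper19.adjE [(0, 1), (1, 2), (2, 3), (3, 4), (4, 5), (5, 6), (4, 7)]) 0 6 1) 6 0 1)
      (Groth.Agent.Lib.helper19.updE_le T v (Groth.Agent.Lib.helper19.updE_le T v hE0 0 6 1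
        (Groth.Agent.Lib.helper19.one_le_rq T v 0 6 (v.injective.ne (by decide)) h)) 6 0 1
        (Groth.Agent.Lib.helper19.one_le_rq T v 6 0 (v.injective.ne (by decide)) h'))
      ![1, 1, 1, 1, 1, 1, 1, 0] (by decide) ⟨0, by decide⟩ (by decide)
  have z_0_7 : T.a (v 0) (v 7) = 0 := by
    by_contra h
    have h' : T.a (v 7) (v 0) ≠ 0 := by rwa [Groth.Agent.Lib.helper19.a_symm]
    exact Groth.Agent.Lib.helper19.no_config_dec T hk v hv
      (Groth.Agent.Lib.helper19.updE (Groth.Agent.Lib.helper19.updE (Groth.Agent.Lib.helper19.adjE [(0, 1), (1, 2), (2, 3), (3, 4), (4, 5), (5, 6), (4, 7)]) 0 7 1) 7 0 1)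
      (Groth.Agent.Lib.helper19.updE_le T v (Groth.Agent.Lib.helper19.updE_le T v hE0 0 7 1
        (Groth.Agent.Lib.helper19.one_le_rq T v 0 7 (v.injective.ne (by decide)) h)) 7 0 1
        (Groth.Agent.Lib.helper19.one_le_rq T v 7 0 (v.injective.ne (by decide)) h'))
      ![1, 1, 1, 1, 1, 0, 0, 1] (by decide) ⟨0, by decide⟩ (by decide)
  have z_1_3 : T.a (v 1) (v 3) = 0 := by
    by_contra h
    have h' : T.a (v 3) (v 1) ≠ 0 := by rwa [Groth.Agent.Lib.helper19.a_symm]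
    exact Groth.Agent.Lib.helper19.no_config_dec T hk v hv
      (Groth.Agent.Lib.helper19.updE (Groth.Agent.Lib.helper19.updE (Groth.Agent.Lib.helper19.adjE [(0, 1), (1, 2), (2, 3), (3, 4), (4, 5), (5, 6), (4, 7)]) 1 3 1) 3 1 1)
      (Groth.Agent.Lib.helper19.updE_le T v (Groth.Agent.Lib.helper19.updE_le T v hE0 1 3 1
        (Groth.Agent.Lib.helper19.one_le_rq T v 1 3 (v.injective.ne (by decide)) h)) 3 1 1
        (Groth.Agent.Lib.helper19.one_le_rq T v 3 1 (v.injective.ne (by decide)) h'))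
      ![0, 1, 1, 1, 0, 0, 0, 0] (by decide) ⟨1, by decide⟩ (by decide)
  have z_1_4 : T.a (v 1) (v 4) = 0 := by
    by_contra h
    have h' : T.a (v 4) (v 1) ≠ 0 := by rwa [Groth.Agent.Lib.helper19.a_symm]
    exact Groth.Agent.Lib.helper19.no_config_dec T hk v hv
      (Groth.Agent.Lib.helper19.updE (Groth.Agent.Lib.helper19.updE (Groth.Agent.Lib.helper19.adjE [(0, 1), (1, 2), (2, 3), (3, 4), (4, 5), (5, 6), (4, 7)]) 1 4 1) 4 1 1)
      (Groth.Agent.Lib.helper19.updE_le T v (Groth.Agent.Lib.helper19.updE_le T v hE0 1 4 1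
        (Groth.Agent.Lib.helper19.one_le_rq T v 1 4 (v.injective.ne (by decide)) h)) 4 1 1
        (Groth.Agent.Lib.helper19.one_le_rq T v 4 1 (v.injective.ne (by decide)) h'))
      ![0, 1, 1, 1, 1, 0, 0, 0] (by decide) ⟨1, by decide⟩ (by decide)
  have z_1_5 : T.a (v 1) (v 5) = 0 := by
    by_contra h
    have h' : T.a (v 5) (v 1) ≠ 0 := by rwa [Groth.Agent.Lib.helper19.a_symm]
    exact Groth.Agent.Lib.helper19.no_config_dec T hk v hv
      (Groth.Agent.Lib.helper19.updE (Groth.Agent.Lib.helper19.updE (Groth.Agent.Lib.helper19.adjE [(0, 1), (1, 2), (2, 3), (3, 4), (4, 5), (5, 6), (4, 7)]) 1 5 1) 5 1 1)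
      (Groth.Agent.Lib.helper19.updE_le T v (Groth.Agent.Lib.helper19.updE_le T v hE0 1 5 1
        (Groth.Agent.Lib.helper19.one_le_rq T v 1 5 (v.injective.ne (by decide)) h)) 5 1 1
        (Groth.Agent.Lib.helper19.one_le_rq T v 5 1 (v.injective.ne (by decide)) h'))
      ![0, 1, 1, 1, 1, 1, 0, 0] (by decide) ⟨1, by decide⟩ (by decide)
  have z_1_6 : T.a (v 1) (v 6) = 0 := by
    by_contra h
    have h' : T.a (v 6) (v 1) ≠ 0 := by rwa [Groth.Agent.Lib.helper19.a_symm]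
    exact Groth.Agent.Lib.helper19.no_config_dec T hk v hv
      (Groth.Agent.Lib.helper19.updE (Groth.Agent.Lib.helper19.updE (Groth.Agent.Lib.helper19.adjE [(0, 1), (1, 2), (2, 3), (3, 4), (4, 5), (5, 6), (4, 7)]) 1 6 1) 6 1 1)
      (Groth.Agent.Lib.helper19.updE_le T v (Groth.Agent.Lib.helper19.updE_le T v hE0 1 6 1
        (Groth.Agent.Lib.helper19.one_le_rq T v 1 6 (v.injective.ne (by decide)) h)) 6 1 1
        (Groth.Agent.Lib.helper19.one_le_rq T v 6 1 (v.injective.ne (by decide)) h'))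
      ![0, 1, 1, 1, 1, 1, 1, 0] (by decide) ⟨1, by decide⟩ (by decide)
  have z_1_7 : T.a (v 1) (v 7) = 0 := by
    by_contra h
    have h' : T.a (v 7) (v 1) ≠ 0 := by rwa [Groth.Agent.Lib.helper19.a_symm]
    exact Groth.Agent.Lib.helper19.no_config_dec T hk v hv
      (Groth.Agent.Lib.helper19.updE (Groth.Agent.Lib.helper19.updE (Groth.Agent.Lib.helper19.adjE [(0, 1), (1, 2), (2, 3), (3, 4), (4, 5), (5, 6), (4, 7)]) 1 7 1) 7 1 1)
      (Groth.Agent.Lib.helper19.updE_le T v (Groth.Agent.Lib.helper19.updE_le T v hE0 1 7 1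
        (Groth.Agent.Lib.helper19.one_le_rq T v 1 7 (v.injective.ne (by decide)) h)) 7 1 1
        (Groth.Agent.Lib.helper19.one_le_rq T v 7 1 (v.injective.ne (by decide)) h'))
      ![0, 1, 1, 1, 1, 0, 0, 1] (by decide) ⟨1, by decide⟩ (by decide)
  have z_2_4 : T.a (v 2) (v 4) = 0 := by
    by_contra h
    have h' : T.a (v 4) (v 2) ≠ 0 := by rwa [Groth.Agent.Lib.helper19.a_symm]
    exact Groth.Agent.Lib.helper19.no_config_dec T hk v hv
      (Groth.Agent.Lib.helper19.updE (Groth.Agent.Lib.helper19.updE (Groth.Agent.Lib.helper19.adjE [(0, 1), (1, 2), (2, 3), (3, 4), (4, 5), (5, 6), (4, 7)]) 2 4 1) 4 2 1)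
      (Groth.Agent.Lib.helper19.updE_le T v (Groth.Agent.Lib.helper19.updE_le T v hE0 2 4 1
        (Groth.Agent.Lib.helper19.one_le_rq T v 2 4 (v.injective.ne (by decide)) h)) 4 2 1
        (Groth.Agent.Lib.helper19.one_le_rq T v 4 2 (v.injective.ne (by decide)) h'))
      ![0, 0, 1, 1, 1, 0, 0, 0] (by decide) ⟨2, by decide⟩ (by decide)
  have z_2_5 : T.a (v 2) (v 5) = 0 := by
    by_contra h
    have h' : T.a (v 5) (v 2) ≠ 0 := by rwa [Groth.Agent.Lib.helper19.a_symm]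
    exact Groth.Agent.Lib.helper19.no_config_dec T hk v hv
      (Groth.Agent.Lib.helper19.updE (Groth.Agent.Lib.helper19.updE (Groth.Agent.Lib.helper19.adjE [(0, 1), (1, 2), (2, 3), (3, 4), (4, 5), (5, 6), (4, 7)]) 2 5 1) 5 2 1)
      (Groth.Agent.Lib.helper19.updE_le T v (Groth.Agent.Lib.helper19.updE_le T v hE0 2 5 1
        (Groth.Agent.Lib.helper19.one_le_rq T v 2 5 (v.injective.ne (by decide)) h)) 5 2 1
        (Groth.Agent.Lib.helper19.one_le_rq T v 5 2 (v.injective.ne (by decide)) h'))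
      ![0, 0, 1, 1, 1, 1, 0, 0] (by decide) ⟨2, by decide⟩ (by decide)
  have z_2_6 : T.a (v 2) (v 6) = 0 := by
    by_contra h
    have h' : T.a (v 6) (v 2) ≠ 0 := by rwa [Groth.Agent.Lib.helper19.a_symm]
    exact Groth.Agent.Lib.helper19.no_config_dec T hk v hv
      (Groth.Agent.Lib.helper19.updE (Groth.Agent.Lib.helper19.updE (Groth.Agent.Lib.helper19.adjE [(0, 1), (1, 2), (2, 3), (3, 4), (4, 5), (5, 6), (4, 7)]) 2 6 1) 6 2 1)
      (Groth.Agent.Lib.helper19.updE_le T v (Groth.Agent.Lib.helper19.updE_le T v hE0 2 6 1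
        (Groth.Agent.Lib.helper19.one_le_rq T v 2 6 (v.injective.ne (by decide)) h)) 6 2 1
        (Groth.Agent.Lib.helper19.one_le_rq T v 6 2 (v.injective.ne (by decide)) h'))
      ![0, 0, 1, 1, 1, 1, 1, 0] (by decide) ⟨2, by decide⟩ (by decide)
  have z_2_7 : T.a (v 2) (v 7) = 0 := by
    by_contra h
    have h' : T.a (v 7) (v 2) ≠ 0 := by rwa [Groth.Agent.Lib.helper19.a_symm]
    exact Groth.Agent.Lib.helper19.no_config_dec T hk v hv
      (Groth.Agent.Lib.helper19.updE (Groth.Agent.Lib.helper19.updE (Groth.Agent.Lib.helper19.adjE [(0, 1), (1, 2), (2, 3), (3, 4), (4, 5), (5, 6), (4, 7)]) 2 7 1) 7 2 1)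
      (Groth.Agent.Lib.helper19.updE_le T v (Groth.Agent.Lib.helper19.updE_le T v hE0 2 7 1
        (Groth.Agent.Lib.helper19.one_le_rq T v 2 7 (v.injective.ne (by decide)) h)) 7 2 1
        (Groth.Agent.Lib.helper19.one_le_rq T v 7 2 (v.injective.ne (by decide)) h'))
      ![0, 0, 1, 1, 1, 0, 0, 1] (by decide) ⟨2, by decide⟩ (by decide)
  have z_3_5 : T.a (v 3) (v 5) = 0 := by
    by_contra h
    have h' : T.a (v 5) (v 3) ≠ 0 := by rwa [Groth.Agent.Lib.helper19.a_symm]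
    exact Groth.Agent.Lib.helper19.no_config_dec T hk v hv
      (Groth.Agent.Lib.helper19.updE (Groth.Agent.Lib.helper19.updE (Groth.Agent.Lib.helper19.adjE [(0, 1), (1, 2), (2, 3), (3, 4), (4, 5), (5, 6), (4, 7)]) 3 5 1) 5 3 1)
      (Groth.Agent.Lib.helper19.updE_le T v (Groth.Agent.Lib.helper19.updE_le T v hE0 3 5 1
        (Groth.Agent.Lib.helper19.one_le_rq T v 3 5 (v.injective.ne (by decide)) h)) 5 3 1
        (Groth.Agent.Lib.helper19.one_le_rq T v 5 3 (v.injective.ne (by decide)) h'))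
      ![0, 0, 0, 1, 1, 1, 0, 0] (by decide) ⟨3, by decide⟩ (by decide)
  have z_3_6 : T.a (v 3) (v 6) = 0 := by
    by_contra h
    have h' : T.a (v 6) (v 3) ≠ 0 := by rwa [Groth.Agent.Lib.helper19.a_symm]
    exact Groth.Agent.Lib.helper19.no_config_dec T hk v hv
      (Groth.Agent.Lib.helper19.updE (Groth.Agent.Lib.helper19.updE (Groth.Agent.Lib.helper19.adjE [(0, 1), (1, 2), (2, 3), (3, 4), (4, 5), (5, 6), (4, 7)]) 3 6 1) 6 3 1)
      (Groth.Agent.Lib.helper19.updE_le T v (Groth.Agent.Lib.helper19.updE_le T v hE0 3 6 1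
        (Groth.Agent.Lib.helper19.one_le_rq T v 3 6 (v.injective.ne (by decide)) h)) 6 3 1
        (Groth.Agent.Lib.helper19.one_le_rq T v 6 3 (v.injective.ne (by decide)) h'))
      ![0, 0, 0, 1, 1, 1, 1, 0] (by decide) ⟨3, by decide⟩ (by decide)
  have z_3_7 : T.a (v 3) (v 7) = 0 := by
    by_contra h
    have h' : T.a (v 7) (v 3) ≠ 0 := by rwa [Groth.Agent.Lib.helper19.a_symm]
    exact Groth.Agent.Lib.helper19.no_config_dec T hk v hv
      (Groth.Agent.Lib.helper19.updE (Groth.Agent.Lib.helper19.updE (Groth.Agent.Lib.helper19.adjE [(0, 1), (1, 2), (2, 3), (3, 4), (4, 5), (5, 6), (4, 7)]) 3 7 1) 7 3 1)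
      (Groth.Agent.Lib.helper19.updE_le T v (Groth.Agent.Lib.helper19.updE_le T v hE0 3 7 1
        (Groth.Agent.Lib.helper19.one_le_rq T v 3 7 (v.injective.ne (by decide)) h)) 7 3 1
        (Groth.Agent.Lib.helper19.one_le_rq T v 7 3 (v.injective.ne (by decide)) h'))
      ![0, 0, 0, 1, 1, 0, 0, 1] (by decide) ⟨3, by decide⟩ (by decide)
  have z_4_6 : T.a (v 4) (v 6) = 0 := by
    by_contra h
    have h' : T.a (v 6) (v 4) ≠ 0 := by rwa [Groth.Agent.Lib.helper19.a_symm]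
    exact Groth.Agent.Lib.helper19.no_config_dec T hk v hv
      (Groth.Agent.Lib.helper19.updE (Groth.Agent.Lib.helper19.updE (Groth.Agent.Lib.helper19.adjE [(0, 1), (1, 2), (2, 3), (3, 4), (4, 5), (5, 6), (4, 7)]) 4 6 1) 6 4 1)
      (Groth.Agent.Lib.helper19.updE_le T v (Groth.Agent.Lib.helper19.updE_le T v hE0 4 6 1
        (Groth.Agent.Lib.helper19.one_le_rq T v 4 6 (v.injective.ne (by decide)) h)) 6 4 1
        (Groth.Agent.Lib.helper19.one_le_rq T v 6 4 (v.injective.ne (by decide)) h'))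
      ![0, 0, 0, 0, 1, 1, 1, 0] (by decide) ⟨4, by decide⟩ (by decide)
  have z_5_7 : T.a (v 5) (v 7) = 0 := by
    by_contra h
    have h' : T.a (v 7) (v 5) ≠ 0 := by rwa [Groth.Agent.Lib.helper19.a_symm]
    exact Groth.Agent.Lib.helper19.no_config_dec T hk v hv
      (Groth.Agent.Lib.helper19.updE (Groth.Agent.Lib.helper19.updE (Groth.Agent.Lib.helper19.adjE [(0, 1), (1, 2), (2, 3), (3, 4), (4, 5), (5, 6), (4, 7)]) 5 7 1) 7 5 1)
      (Groth.Agent.Lib.helper19.updE_le T v (Groth.Agent.Lib.helper19.updE_le T v hE0 5 7 1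
        (Groth.Agent.Lib.helper19.one_le_rq T v 5 7 (v.injective.ne (by decide)) h)) 7 5 1
        (Groth.Agent.Lib.helper19.one_le_rq T v 7 5 (v.injective.ne (by decide)) h'))
      ![0, 0, 0, 0, 1, 1, 0, 1] (by decide) ⟨4, by decide⟩ (by decide)
  have z_6_7 : T.a (v 6) (v 7) = 0 := by
    by_contra h
    have h' : T.a (v 7) (v 6) ≠ 0 := by rwa [Groth.Agent.Lib.helper19.a_symm]
    exact Groth.Agent.Lib.helper19.no_config_dec T hk v hv
      (Groth.Agent.Lib.helper19.updE (Groth.Agent.Lib.helper19.updE (Groth.Agent.Lib.helper19.adjE [(0, 1), (1, 2), (2, 3), (3, 4), (4, 5), (5, 6), (4, 7)]) 6 7 1) 7 6 1)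
      (Groth.Agent.Lib.helper19.updE_le T v (Groth.Agent.Lib.helper19.updE_le T v hE0 6 7 1
        (Groth.Agent.Lib.helper19.one_le_rq T v 6 7 (v.injective.ne (by decide)) h)) 7 6 1
        (Groth.Agent.Lib.helper19.one_le_rq T v 7 6 (v.injective.ne (by decide)) h'))
      ![0, 0, 0, 0, 1, 1, 1, 1] (by decide) ⟨4, by decide⟩ (by decide)
  have r_0_1 : Groth.Agent.Lib.helper19.rq T v 0 1 = 1 := by
    have h1 : 1 ≤ Groth.Agent.Lib.helper19.rq T v 0 1 := hE0 0 1 (by decide)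
    by_contra h
    have h2 : 2 ≤ Groth.Agent.Lib.helper19.rq T v 0 1 := by omega
    exact Groth.Agent.Lib.helper19.no_config_dec T hk v hv (Groth.Agent.Lib.helper19.updE (Groth.Agent.Lib.helper19.adjE [(0, 1), (1, 2), (2, 3), (3, 4), (4, 5), (5, 6), (4, 7)]) 0 1 2)
      (Groth.Agent.Lib.helper19.updE_le T v hE0 0 1 2 h2)
      ![1, 2, 2, 2, 2, 1, 0, 1] (by decide) ⟨0, by decide⟩ (by decide)
  have r_1_0 : Groth.Agent.Lib.helper19.rq T v 1 0 = 1 := by
    have h1 : 1 ≤ Groth.Agent.Lib.helper19.rq T v 1 0 := hE0 1 0 (by decide)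
    by_contra h
    have h2 : 2 ≤ Groth.Agent.Lib.helper19.rq T v 1 0 := by omega
    exact Groth.Agent.Lib.helper19.no_config_dec T hk v hv (Groth.Agent.Lib.helper19.updE (Groth.Agent.Lib.helper19.adjE [(0, 1), (1, 2), (2, 3), (3, 4), (4, 5), (5, 6), (4, 7)]) 1 0 2)
      (Groth.Agent.Lib.helper19.updE_le T v hE0 1 0 2 h2)
      ![2, 2, 2, 2, 2, 1, 0, 1] (by decide) ⟨0, by decide⟩ (by decide)
  have r_1_2 : Groth.Agent.Lib.helper19.rq T v 1 2 = 1 := by
    have h1 : 1 ≤ Groth.Agent.Lib.helper19.rq T v 1 2 := hE0 1 2 (by decide)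
    by_contra h
    have h2 : 2 ≤ Groth.Agent.Lib.helper19.rq T v 1 2 := by omega
    exact Groth.Agent.Lib.helper19.no_config_dec T hk v hv (Groth.Agent.Lib.helper19.updE (Groth.Agent.Lib.helper19.adjE [(0, 1), (1, 2), (2, 3), (3, 4), (4, 5), (5, 6), (4, 7)]) 1 2 2)
      (Groth.Agent.Lib.helper19.updE_le T v hE0 1 2 2 h2)
      ![0, 1, 2, 2, 2, 1, 0, 1] (by decide) ⟨1, by decide⟩ (by decide)
  have r_2_1 : Groth.Agent.Lib.helper19.rq T v 2 1 = 1 := by
    have h1 : 1 ≤ Groth.Agent.Lib.helper19.rq T v 2 1 := hE0 2 1 (by decide)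
    by_contra h
    have h2 : 2 ≤ Groth.Agent.Lib.helper19.rq T v 2 1 := by omega
    exact Groth.Agent.Lib.helper19.no_config_dec T hk v hv (Groth.Agent.Lib.helper19.updE (Groth.Agent.Lib.helper19.adjE [(0, 1), (1, 2), (2, 3), (3, 4), (4, 5), (5, 6), (4, 7)]) 2 1 2)
      (Groth.Agent.Lib.helper19.updE_le T v hE0 2 1 2 h2)
      ![0, 2, 2, 2, 2, 1, 0, 1] (by decide) ⟨1, by decide⟩ (by decide)
  have r_2_3 : Groth.Agent.Lib.helper19.rq T v 2 3 = 1 := by
    have h1 : 1 ≤ Groth.Agent.Lib.helper19.rq T v 2 3 := hE0 2 3 (by decide)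
    by_contra h
    have h2 : 2 ≤ Groth.Agent.Lib.helper19.rq T v 2 3 := by omega
    exact Groth.Agent.Lib.helper19.no_config_dec T hk v hv (Groth.Agent.Lib.helper19.updE (Groth.Agent.Lib.helper19.adjE [(0, 1), (1, 2), (2, 3), (3, 4), (4, 5), (5, 6), (4, 7)]) 2 3 2)
      (Groth.Agent.Lib.helper19.updE_le T v hE0 2 3 2 h2)
      ![0, 0, 1, 2, 2, 1, 0, 1] (by decide) ⟨2, by decide⟩ (by decide)
  have r_3_2 : Groth.Agent.Lib.helper19.rq T v 3 2 = 1 := by
    have h1 : 1 ≤ Groth.Agent.Lib.helper19.rq T v 3 2 := hE0 3 2 (by decide)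
    by_contra h
    have h2 : 2 ≤ Groth.Agent.Lib.helper19.rq T v 3 2 := by omega
    exact Groth.Agent.Lib.helper19.no_config_dec T hk v hv (Groth.Agent.Lib.helper19.updE (Groth.Agent.Lib.helper19.adjE [(0, 1), (1, 2), (2, 3), (3, 4), (4, 5), (5, 6), (4, 7)]) 3 2 2)
      (Groth.Agent.Lib.helper19.updE_le T v hE0 3 2 2 h2)
      ![0, 0, 2, 2, 2, 1, 0, 1] (by decide) ⟨2, by decide⟩ (by decide)
  have r_3_4 : Groth.Agent.Lib.helper19.rq T v 3 4 = 1 := by
    have h1 : 1 ≤ Groth.Agent.Lib.helper19.rq T v 3 4 := hE0 3 4 (by decide)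
    by_contra h
    have h2 : 2 ≤ Groth.Agent.Lib.helper19.rq T v 3 4 := by omega
    exact Groth.Agent.Lib.helper19.no_config_dec T hk v hv (Groth.Agent.Lib.helper19.updE (Groth.Agent.Lib.helper19.adjE [(0, 1), (1, 2), (2, 3), (3, 4), (4, 5), (5, 6), (4, 7)]) 3 4 2)
      (Groth.Agent.Lib.helper19.updE_le T v hE0 3 4 2 h2)
      ![0, 0, 0, 1, 2, 1, 0, 1] (by decide) ⟨3, by decide⟩ (by decide)
  have r_4_3 : Groth.Agent.Lib.helper19.rq T v 4 3 = 1 := by
    have h1 : 1 ≤ Groth.Agent.Lib.helper19.rq T v 4 3 := hE0 4 3 (by decide)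
    by_contra h
    have h2 : 2 ≤ Groth.Agent.Lib.helper19.rq T v 4 3 := by omega
    exact Groth.Agent.Lib.helper19.no_config_dec T hk v hv (Groth.Agent.Lib.helper19.updE (Groth.Agent.Lib.helper19.adjE [(0, 1), (1, 2), (2, 3), (3, 4), (4, 5), (5, 6), (4, 7)]) 4 3 2)
      (Groth.Agent.Lib.helper19.updE_le T v hE0 4 3 2 h2)
      ![0, 0, 0, 2, 2, 1, 0, 1] (by decide) ⟨3, by decide⟩ (by decide)
  have r_4_5 : Groth.Agent.Lib.helper19.rq T v 4 5 = 1 := by
    have h1 : 1 ≤ Groth.Agent.Lib.helper19.rq T v 4 5 := hE0 4 5 (by decide)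
    by_contra h
    have h2 : 2 ≤ Groth.Agent.Lib.helper19.rq T v 4 5 := by omega
    exact Groth.Agent.Lib.helper19.no_config_dec T hk v hv (Groth.Agent.Lib.helper19.updE (Groth.Agent.Lib.helper19.adjE [(0, 1), (1, 2), (2, 3), (3, 4), (4, 5), (5, 6), (4, 7)]) 4 5 2)
      (Groth.Agent.Lib.helper19.updE_le T v hE0 4 5 2 h2)
      ![0, 0, 0, 1, 2, 2, 0, 1] (by decide) ⟨3, by decide⟩ (by decide)
  have r_5_4 : Groth.Agent.Lib.helper19.rq T v 5 4 = 1 := by
    have h1 : 1 ≤ Groth.Agent.Lib.helper19.rq T v 5 4 := hE0 5 4 (by decide)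
    by_contra h
    have h2 : 2 ≤ Groth.Agent.Lib.helper19.rq T v 5 4 := by omega
    exact Groth.Agent.Lib.helper19.no_config_dec T hk v hv (Groth.Agent.Lib.helper19.updE (Groth.Agent.Lib.helper19.adjE [(0, 1), (1, 2), (2, 3), (3, 4), (4, 5), (5, 6), (4, 7)]) 5 4 2)
      (Groth.Agent.Lib.helper19.updE_le T v hE0 5 4 2 h2)
      ![0, 0, 0, 1, 2, 1, 0, 1] (by decide) ⟨3, by decide⟩ (by decide)
  have r_5_6 : Groth.Agent.Lib.helper19.rq T v 5 6 = 1 := by
    have h1 : 1 ≤ Groth.Agent.Lib.helper19.rq T v 5 6 := hE0 5 6 (by decide)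
    by_contra h
    have h2 : 2 ≤ Groth.Agent.Lib.helper19.rq T v 5 6 := by omega
    exact Groth.Agent.Lib.helper19.no_config_dec T hk v hv (Groth.Agent.Lib.helper19.updE (Groth.Agent.Lib.helper19.adjE [(0, 1), (1, 2), (2, 3), (3, 4), (4, 5), (5, 6), (4, 7)]) 5 6 2)
      (Groth.Agent.Lib.helper19.updE_le T v hE0 5 6 2 h2)
      ![0, 0, 0, 1, 2, 2, 2, 1] (by decide) ⟨3, by decide⟩ (by decide)
  have r_6_5 : Groth.Agent.Lib.helper19.rq T v 6 5 = 1 := by
    have h1 : 1 ≤ Groth.Agent.Lib.helper19.rq T v 6 5 := hE0 6 5 (by decide)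
    by_contra h
    have h2 : 2 ≤ Groth.Agent.Lib.helper19.rq T v 6 5 := by omega
    exact Groth.Agent.Lib.helper19.no_config_dec T hk v hv (Groth.Agent.Lib.helper19.updE (Groth.Agent.Lib.helper19.adjE [(0, 1), (1, 2), (2, 3), (3, 4), (4, 5), (5, 6), (4, 7)]) 6 5 2)
      (Groth.Agent.Lib.helper19.updE_le T v hE0 6 5 2 h2)
      ![0, 0, 0, 1, 2, 2, 1, 1] (by decide) ⟨3, by decide⟩ (by decide)
  have r_4_7 : Groth.Agent.Lib.helper19.rq T v 4 7 = 1 := by
    have h1 : 1 ≤ Groth.Agent.Lib.helper19.rq T v 4 7 := hE0 4 7 (by decide)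
    by_contra h
    have h2 : 2 ≤ Groth.Agent.Lib.helper19.rq T v 4 7 := by omega
    exact Groth.Agent.Lib.helper19.no_config_dec T hk v hv (Groth.Agent.Lib.helper19.updE (Groth.Agent.Lib.helper19.adjE [(0, 1), (1, 2), (2, 3), (3, 4), (4, 5), (5, 6), (4, 7)]) 4 7 2)
      (Groth.Agent.Lib.helper19.updE_le T v hE0 4 7 2 h2)
      ![0, 0, 0, 1, 2, 1, 0, 2] (by decide) ⟨3, by decide⟩ (by decide)
  have r_7_4 : Groth.Agent.Lib.helper19.rq T v 7 4 = 1 := by
    have h1 : 1 ≤ Groth.Agent.Lib.helper19.rq T v 7 4 := hE0 7 4 (by decide)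
    by_contra h
    have h2 : 2 ≤ Groth.Agent.Lib.helper19.rq T v 7 4 := by omega
    exact Groth.Agent.Lib.helper19.no_config_dec T hk v hv (Groth.Agent.Lib.helper19.updE (Groth.Agent.Lib.helper19.adjE [(0, 1), (1, 2), (2, 3), (3, 4), (4, 5), (5, 6), (4, 7)]) 7 4 2)
      (Groth.Agent.Lib.helper19.updE_le T v hE0 7 4 2 h2)
      ![0, 0, 0, 1, 2, 1, 0, 1] (by decide) ⟨3, by decide⟩ (by decide)
  obtain ⟨we_0_1, ae_0_1⟩ := Groth.Agent.Lib.helper19.w_eq_of_rq_one T v 0 1 r_0_1 r_1_0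
  obtain ⟨we_1_2, ae_1_2⟩ := Groth.Agent.Lib.helper19.w_eq_of_rq_one T v 1 2 r_1_2 r_2_1
  obtain ⟨we_2_3, ae_2_3⟩ := Groth.Agent.Lib.helper19.w_eq_of_rq_one T v 2 3 r_2_3 r_3_2
  obtain ⟨we_3_4, ae_3_4⟩ := Groth.Agent.Lib.helper19.w_eq_of_rq_one T v 3 4 r_3_4 r_4_3
  obtain ⟨we_4_5, ae_4_5⟩ := Groth.Agent.Lib.helper19.w_eq_of_rq_one T v 4 5 r_4_5 r_5_4
  obtain ⟨we_5_6, ae_5_6⟩ := Groth.Agent.Lib.helper19.w_eq_of_rq_one T v 5 6 r_5_6 r_6_5
  obtain ⟨we_4_7, ae_4_7⟩ := Groth.Agent.Lib.helper19.w_eq_of_rq_one T v 4 7 r_4_7 r_7_4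
  have hw_1 : T.w (v 1) = T.w (v 0) := by omega
  have hw_2 : T.w (v 2) = T.w (v 0) := by omega
  have hw_3 : T.w (v 3) = T.w (v 0) := by omega
  have hw_4 : T.w (v 4) = T.w (v 0) := by omega
  have hw_5 : T.w (v 5) = T.w (v 0) := by omega
  have hw_6 : T.w (v 6) = T.w (v 0) := by omega
  have hw_7 : T.w (v 7) = T.w (v 0) := by omega
  have hw_all : ∀ j : Fin 8, T.w (v j) = T.w (v 0) := by
    intro j
    fin_cases j
    · rfl
    · exact hw_1
    · exact hw_2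
    · exact hw_3
    · exact hw_4
    · exact hw_5
    · exact hw_6
    · exact hw_7
  have e_0_1 : T.a (v 0) (v 1) = T.w (v 0) := by omega
  have e_1_2 : T.a (v 1) (v 2) = T.w (v 0) := by omega
  have e_2_3 : T.a (v 2) (v 3) = T.w (v 0) := by omega
  have e_3_4 : T.a (v 3) (v 4) = T.w (v 0) := by omega
  have e_4_5 : T.a (v 4) (v 5) = T.w (v 0) := by omega
  have e_5_6 : T.a (v 5) (v 6) = T.w (v 0) := by omega
  have e_4_7 : T.a (v 4) (v 7) = T.w (v 0) := by omega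
  have m_0 : T.m (v 1) ≤ 2 * T.m (v 0) := by
    have h := Groth.Agent.Lib.helper19.row_rq T v hv 0 {1} (by decide)
    rw [Finset.sum_singleton, r_0_1] at h
    linarith
  have m_1 : T.m (v 0) + T.m (v 2) ≤ 2 * T.m (v 1) := by
    have h := Groth.Agent.Lib.helper19.row_rq T v hv 1 {0, 2} (by decide)
    rw [Finset.sum_insert (by decide), Finset.sum_singleton, r_1_0, r_1_2] at h
    linarith
  have m_2 : T.m (v 1) + T.m (v 3) ≤ 2 * T.m (v 2) := by
    have h := Groth.Agent.Lib.helper19.row_rq T v hv 2 {1, 3} (by decide)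
    rw [Finset.sum_insert (by decide), Finset.sum_singleton, r_2_1, r_2_3] at h
    linarith
  have m_3 : T.m (v 2) + T.m (v 4) ≤ 2 * T.m (v 3) := by
    have h := Groth.Agent.Lib.helper19.row_rq T v hv 3 {2, 4} (by decide)
    rw [Finset.sum_insert (by decide), Finset.sum_singleton, r_3_2, r_3_4] at h
    linarith
  have m_4 : T.m (v 3) + T.m (v 5) + T.m (v 7) ≤ 2 * T.m (v 4) := by
    have h := Groth.Agent.Lib.helper19.row_rq T v hv 4 {3, 5, 7} (by decide)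
    rw [Finset.sum_insert (by decide), Finset.sum_insert (by decide), Finset.sum_singleton, r_4_3, r_4_5, r_4_7] at h
    linarith
  have m_5 : T.m (v 4) + T.m (v 6) ≤ 2 * T.m (v 5) := by
    have h := Groth.Agent.Lib.helper19.row_rq T v hv 5 {4, 6} (by decide)
    rw [Finset.sum_insert (by decide), Finset.sum_singleton, r_5_4, r_5_6] at h
    linarith
  have m_6 : T.m (v 5) ≤ 2 * T.m (v 6) := by
    have h := Groth.Agent.Lib.helper19.row_rq T v hv 6 {5} (by decide)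
    rw [Finset.sum_singleton, r_6_5] at h
    linarith
  have m_7 : T.m (v 4) ≤ 2 * T.m (v 7) := by
    have h := Groth.Agent.Lib.helper19.row_rq T v hv 7 {4} (by decide)
    rw [Finset.sum_singleton, r_7_4] at h
    linarith
  exact ⟨T.w (v 0), hw_all, e_0_1, e_1_2, e_2_3, e_3_4, e_4_5, e_5_6, e_4_7, z_0_2, z_0_3, z_0_4, z_0_5, z_0_6, z_0_7, z_1_3, z_1_4, z_1_5, z_1_6, z_1_7, z_2_4, z_2_5, z_2_6, z_2_7, z_3_5, z_3_6, z_3_7, z_4_6, z_5_7, z_6_7, m_0, m_1, m_2, m_3, m_4, m_5, m_6, m_7⟩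

end Groth.Agent.S7350
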