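import Groth.Statements.S7352
import Mathlib
import Groth.Agent.Lib.Helper19.NumType

set_option autoImplicit false
open Finset
open Models Models.NumericalType

namespace Groth.Agent.S7352

/-- Classification of proper subgraphs which are chains of four vertices: let T be a numerical type on n
> 4 indices and i_1, …, i_4 distinct (-2)-indices with a_{i_j i_{j+1}} nonzero for j < 4. Then
a_{i_j i_l} = 0 for |j - l| ≥ 2 and, after possibly reversing the order of the indices, for some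
integer w one of the following holds: (A4) w = (w, w, w, w), consecutive a = (w, w, w), with 2m_1 ≥
m_2, 2m_2 ≥ m_1 + m_3, 2m_3 ≥ m_2 + m_4, 2m_4 ≥ m_3; (C4) w = (w, w, w, 2w), consecutive a = (w, w,
2w), with 2m_1 ≥ m_2, 2m_2 ≥ m_1 + m_3, 2m_3 ≥ m_2 + 2m_4, 2m_4 ≥ m_3; (B4) w = (2w, 2w, 2w, w),
consecutive a = (2w, 2w, 2w), with 2m_1 ≥ m_2, 2m_2 ≥ m_1 + m_3, 2m_3 ≥ m_2 + m_4, m_4 ≥ m_3; (F4) w
= (w, w, 2w, 2w), consecutive a = (w, 2w, 2w), with 2m_1 ≥ m_2, 2m_2 ≥ m_1 + 2m_3, 2m_3 ≥ m_2 + m_4,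
2m_4 ≥ m_3. -/
theorem result {n : ℕ} (T : Models.NumericalType n) (hn : 4 < n)
    (v : Fin 4 ↪ Fin n) (hv : ∀ j, T.IsMinusTwo (v j)) (h01 : T.a (v 0) (v 1) ≠ 0) (h12 : T.a (v 1) (v 2) ≠ 0) (h23 : T.a (v 2) (v 3) ≠ 0) :
    (T.a (v 0) (v 2) = 0 ∧ T.a (v 0) (v 3) = 0 ∧ T.a (v 1) (v 3) = 0) ∧
    ∃ (u : Fin 4 → Fin n) (w : ℤ), ((∀ j, u j = v j) ∨ (∀ j, u j = v (Fin.rev j))) ∧
      ((T.w (u 0) = w ∧ T.w (u 1) = w ∧ T.w (u 2) = w ∧ T.w (u 3) = w ∧ T.a (u 0) (u 1) = w ∧ T.a (u 1) (u 2) = w ∧ T.a (u 2) (u 3) = w ∧ T.m (u 1) ≤ 2 * T.m (u 0) ∧ T.m (u 0) + T.m (u 2) ≤ 2 * T.m (u 1) ∧ T.m (u 1) + T.m (u 3) ≤ 2 * T.m (u 2) ∧ T.m (u 2) ≤ 2 * T.m (u 3)) ∨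
      (T.w (u 0) = w ∧ T.w (u 1) = w ∧ T.w (u 2) = w ∧ T.w (u 3) = 2 * w ∧ T.a (u 0) (u 1) = w ∧ T.a (u 1) (u 2) = w ∧ T.a (u 2) (u 3) = 2 * w ∧ T.m (u 1) ≤ 2 * T.m (u 0) ∧ T.m (u 0) + T.m (u 2) ≤ 2 * T.m (u 1) ∧ T.m (u 1) + 2 * T.m (u 3) ≤ 2 * T.m (u 2) ∧ T.m (u 2) ≤ 2 * T.m (u 3)) ∨
      (T.w (u 0) = 2 * w ∧ T.w (u 1) = 2 * w ∧ T.w (u 2) = 2 * w ∧ T.w (u 3) = w ∧ T.a (u 0) (u 1) = 2 * w ∧ T.a (u 1) (u 2) = 2 * w ∧ T.a (u 2) (u 3) = 2 * w ∧ T.m (u 1) ≤ 2 * T.m (u 0) ∧ T.m (u 0) + T.m (u 2) ≤ 2 * T.m (u 1) ∧ T.m (u 1) + T.m (u 3) ≤ 2 * T.m (u 2) ∧ T.m (u 2) ≤ T.m (u 3)) ∨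
      (T.w (u 0) = w ∧ T.w (u 1) = w ∧ T.w (u 2) = 2 * w ∧ T.w (u 3) = 2 * w ∧ T.a (u 0) (u 1) = w ∧ T.a (u 1) (u 2) = 2 * w ∧ T.a (u 2) (u 3) = 2 * w ∧ T.m (u 1) ≤ 2 * T.m (u 0) ∧ T.m (u 0) + 2 * T.m (u 2) ≤ 2 * T.m (u 1) ∧ T.m (u 1) + T.m (u 3) ≤ 2 * T.m (u 2) ∧ T.m (u 2) ≤ 2 * T.m (u 3))) := by
  classical
  have hk : 4 < n := by omega
  have hE0 := Groth.Agent.Lib.helper19.adjE_le T v [(0, 1), (1, 2), (2, 3)] (by
    intro e he
    simp only [List.mem_cons, List.not_mem_nil, or_false] at he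
    rcases he with rfl | rfl | rfl <;> assumption)
  have z_0_2 : T.a (v 0) (v 2) = 0 := by
    by_contra h
    have h' : T.a (v 2) (v 0) ≠ 0 := by rwa [Groth.Agent.Lib.helper19.a_symm]
    exact Groth.Agent.Lib.helper19.no_config_dec T hk v hv
      (Groth.Agent.Lib.helper19.updE (Groth.Agent.Lib.helper19.updE (Groth.Agent.Lib.helper19.adjE [(0, 1), (1, 2), (2, 3)]) 0 2 1) 2 0 1)
      (Groth.Agent.Lib.helper19.updE_le T v (Groth.Agent.Lib.helper19.updE_le T v hE0 0 2 1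
        (Groth.Agent.Lib.helper19.one_le_rq T v 0 2 (v.injective.ne (by decide)) h)) 2 0 1
        (Groth.Agent.Lib.helper19.one_le_rq T v 2 0 (v.injective.ne (by decide)) h'))
      ![1, 1, 1, 0] (by decide) ⟨0, by decide⟩ (by decide)
  have z_0_3 : T.a (v 0) (v 3) = 0 := by
    by_contra h
    have h' : T.a (v 3) (v 0) ≠ 0 := by rwa [Groth.Agent.Lib.helper19.a_symm]
    exact Groth.Agent.Lib.helper19.no_config_dec T hk v hv
      (Groth.Agent.Lib.helper19.updE (Groth.Agent.Lib.helper19.updE (Groth.Agent.Lib.helper19.adjE [(0, 1), (1, 2), (2, 3)]) 0 3 1) 3 0 1)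
      (Groth.Agent.Lib.helper19.updE_le T v (Groth.Agent.Lib.helper19.updE_le T v hE0 0 3 1
        (Groth.Agent.Lib.helper19.one_le_rq T v 0 3 (v.injective.ne (by decide)) h)) 3 0 1
        (Groth.Agent.Lib.helper19.one_le_rq T v 3 0 (v.injective.ne (by decide)) h'))
      ![1, 1, 1, 1] (by decide) ⟨0, by decide⟩ (by decide)
  have z_1_3 : T.a (v 1) (v 3) = 0 := by
    by_contra h
    have h' : T.a (v 3) (v 1) ≠ 0 := by rwa [Groth.Agent.Lib.helper19.a_symm]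
    exact Groth.Agent.Lib.helper19.no_config_dec T hk v hv
      (Groth.Agent.Lib.helper19.updE (Groth.Agent.Lib.helper19.updE (Groth.Agent.Lib.helper19.adjE [(0, 1), (1, 2), (2, 3)]) 1 3 1) 3 1 1)
      (Groth.Agent.Lib.helper19.updE_le T v (Groth.Agent.Lib.helper19.updE_le T v hE0 1 3 1
        (Groth.Agent.Lib.helper19.one_le_rq T v 1 3 (v.injective.ne (by decide)) h)) 3 1 1
        (Groth.Agent.Lib.helper19.one_le_rq T v 3 1 (v.injective.ne (by decide)) h'))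
      ![0, 1, 1, 1] (by decide) ⟨1, by decide⟩ (by decide)
  have l_0_1 : 1 ≤ Groth.Agent.Lib.helper19.rq T v 0 1 := hE0 0 1 (by decide)
  have l_1_0 : 1 ≤ Groth.Agent.Lib.helper19.rq T v 1 0 := hE0 1 0 (by decide)
  have l_1_2 : 1 ≤ Groth.Agent.Lib.helper19.rq T v 1 2 := hE0 1 2 (by decide)
  have l_2_1 : 1 ≤ Groth.Agent.Lib.helper19.rq T v 2 1 := hE0 2 1 (by decide)
  have l_2_3 : 1 ≤ Groth.Agent.Lib.helper19.rq T v 2 3 := hE0 2 3 (by decide)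
  have l_3_2 : 1 ≤ Groth.Agent.Lib.helper19.rq T v 3 2 := hE0 3 2 (by decide)
  have f3_0_1 : Groth.Agent.Lib.helper19.rq T v 0 1 < 3 := by
    by_contra hcon
    push Not at hcon
    exact Groth.Agent.Lib.helper19.no_config_dec T hk v hv (Groth.Agent.Lib.helper19.updE (Groth.Agent.Lib.helper19.adjE [(0, 1), (1, 2), (2, 3)]) 0 1 3)
      (Groth.Agent.Lib.helper19.updE_le T v hE0 0 1 3 hcon)
      ![1, 2, 1, 0] (by decide) ⟨0, by decide⟩ (by decide)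
  have f3_1_0 : Groth.Agent.Lib.helper19.rq T v 1 0 < 3 := by
    by_contra hcon
    push Not at hcon
    exact Groth.Agent.Lib.helper19.no_config_dec T hk v hv (Groth.Agent.Lib.helper19.updE (Groth.Agent.Lib.helper19.adjE [(0, 1), (1, 2), (2, 3)]) 1 0 3)
      (Groth.Agent.Lib.helper19.updE_le T v hE0 1 0 3 hcon)
      ![3, 2, 1, 0] (by decide) ⟨0, by decide⟩ (by decide)
  have f3_1_2 : Groth.Agent.Lib.helper19.rq T v 1 2 < 3 := by
    by_contra hcon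
    push Not at hcon
    exact Groth.Agent.Lib.helper19.no_config_dec T hk v hv (Groth.Agent.Lib.helper19.updE (Groth.Agent.Lib.helper19.adjE [(0, 1), (1, 2), (2, 3)]) 1 2 3)
      (Groth.Agent.Lib.helper19.updE_le T v hE0 1 2 3 hcon)
      ![0, 1, 2, 1] (by decide) ⟨1, by decide⟩ (by decide)
  have f3_2_1 : Groth.Agent.Lib.helper19.rq T v 2 1 < 3 := by
    by_contra hcon
    push Not at hcon
    exact Groth.Agent.Lib.helper19.no_config_dec T hk v hv (Groth.Agent.Lib.helper19.updE (Groth.Agent.Lib.helper19.adjE [(0, 1), (1, 2), (2, 3)]) 2 1 3)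
      (Groth.Agent.Lib.helper19.updE_le T v hE0 2 1 3 hcon)
      ![1, 2, 1, 0] (by decide) ⟨0, by decide⟩ (by decide)
  have f3_2_3 : Groth.Agent.Lib.helper19.rq T v 2 3 < 3 := by
    by_contra hcon
    push Not at hcon
    exact Groth.Agent.Lib.helper19.no_config_dec T hk v hv (Groth.Agent.Lib.helper19.updE (Groth.Agent.Lib.helper19.adjE [(0, 1), (1, 2), (2, 3)]) 2 3 3)
      (Groth.Agent.Lib.helper19.updE_le T v hE0 2 3 3 hcon)
      ![0, 1, 2, 3] (by decide) ⟨1, by decide⟩ (by decide)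
  have f3_3_2 : Groth.Agent.Lib.helper19.rq T v 3 2 < 3 := by
    by_contra hcon
    push Not at hcon
    exact Groth.Agent.Lib.helper19.no_config_dec T hk v hv (Groth.Agent.Lib.helper19.updE (Groth.Agent.Lib.helper19.adjE [(0, 1), (1, 2), (2, 3)]) 3 2 3)
      (Groth.Agent.Lib.helper19.updE_le T v hE0 3 2 3 hcon)
      ![0, 1, 2, 1] (by decide) ⟨1, by decide⟩ (by decide)
  have f22_0_1_1_0 : Groth.Agent.Lib.helper19.rq T v 0 1 < 2 ∨ Groth.Agent.Lib.helper19.rq T v 1 0 < 2 := by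
    by_contra hcon
    push Not at hcon
    exact Groth.Agent.Lib.helper19.no_config_dec T hk v hv (Groth.Agent.Lib.helper19.updE (Groth.Agent.Lib.helper19.updE (Groth.Agent.Lib.helper19.adjE [(0, 1), (1, 2), (2, 3)]) 0 1 2) 1 0 2)
      (Groth.Agent.Lib.helper19.updE_le T v (Groth.Agent.Lib.helper19.updE_le T v hE0 0 1 2 hcon.1) 1 0 2 hcon.2)
      ![1, 1, 0, 0] (by decide) ⟨0, by decide⟩ (by decide)
  have f22_0_1_1_2 : Groth.Agent.Lib.helper19.rq T v 0 1 < 2 ∨ Groth.Agent.Lib.helper19.rq T v 1 2 < 2 := by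
    by_contra hcon
    push Not at hcon
    exact Groth.Agent.Lib.helper19.no_config_dec T hk v hv (Groth.Agent.Lib.helper19.updE (Groth.Agent.Lib.helper19.updE (Groth.Agent.Lib.helper19.adjE [(0, 1), (1, 2), (2, 3)]) 0 1 2) 1 2 2)
      (Groth.Agent.Lib.helper19.updE_le T v (Groth.Agent.Lib.helper19.updE_le T v hE0 0 1 2 hcon.1) 1 2 2 hcon.2)
      ![1, 2, 2, 0] (by decide) ⟨0, by decide⟩ (by decide)
  have f22_0_1_2_1 : Groth.Agent.Lib.helper19.rq T v 0 1 < 2 ∨ Groth.Agent.Lib.helper19.rq T v 2 1 < 2 := by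
    by_contra hcon
    push Not at hcon
    exact Groth.Agent.Lib.helper19.no_config_dec T hk v hv (Groth.Agent.Lib.helper19.updE (Groth.Agent.Lib.helper19.updE (Groth.Agent.Lib.helper19.adjE [(0, 1), (1, 2), (2, 3)]) 0 1 2) 2 1 2)
      (Groth.Agent.Lib.helper19.updE_le T v (Groth.Agent.Lib.helper19.updE_le T v hE0 0 1 2 hcon.1) 2 1 2 hcon.2)
      ![1, 2, 1, 0] (by decide) ⟨0, by decide⟩ (by decide)
  have f22_0_1_2_3 : Groth.Agent.Lib.helper19.rq T v 0 1 < 2 ∨ Groth.Agent.Lib.helper19.rq T v 2 3 < 2 := by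
    by_contra hcon
    push Not at hcon
    exact Groth.Agent.Lib.helper19.no_config_dec T hk v hv (Groth.Agent.Lib.helper19.updE (Groth.Agent.Lib.helper19.updE (Groth.Agent.Lib.helper19.adjE [(0, 1), (1, 2), (2, 3)]) 0 1 2) 2 3 2)
      (Groth.Agent.Lib.helper19.updE_le T v (Groth.Agent.Lib.helper19.updE_le T v hE0 0 1 2 hcon.1) 2 3 2 hcon.2)
      ![1, 2, 2, 2] (by decide) ⟨0, by decide⟩ (by decide)
  have f22_0_1_3_2 : Groth.Agent.Lib.helper19.rq T v 0 1 < 2 ∨ Groth.Agent.Lib.helper19.rq T v 3 2 < 2 := by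
    by_contra hcon
    push Not at hcon
    exact Groth.Agent.Lib.helper19.no_config_dec T hk v hv (Groth.Agent.Lib.helper19.updE (Groth.Agent.Lib.helper19.updE (Groth.Agent.Lib.helper19.adjE [(0, 1), (1, 2), (2, 3)]) 0 1 2) 3 2 2)
      (Groth.Agent.Lib.helper19.updE_le T v (Groth.Agent.Lib.helper19.updE_le T v hE0 0 1 2 hcon.1) 3 2 2 hcon.2)
      ![1, 2, 2, 1] (by decide) ⟨0, by decide⟩ (by decide)
  have f22_1_0_1_2 : Groth.Agent.Lib.helper19.rq T v 1 0 < 2 ∨ Groth.Agent.Lib.helper19.rq T v 1 2 < 2 := by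
    by_contra hcon
    push Not at hcon
    exact Groth.Agent.Lib.helper19.no_config_dec T hk v hv (Groth.Agent.Lib.helper19.updE (Groth.Agent.Lib.helper19.updE (Groth.Agent.Lib.helper19.adjE [(0, 1), (1, 2), (2, 3)]) 1 0 2) 1 2 2)
      (Groth.Agent.Lib.helper19.updE_le T v (Groth.Agent.Lib.helper19.updE_le T v hE0 1 0 2 hcon.1) 1 2 2 hcon.2)
      ![1, 1, 1, 0] (by decide) ⟨0, by decide⟩ (by decide)
  have f22_1_0_2_1 : Groth.Agent.Lib.helper19.rq T v 1 0 < 2 ∨ Groth.Agent.Lib.helper19.rq T v 2 1 < 2 := by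
    by_contra hcon
    push Not at hcon
    exact Groth.Agent.Lib.helper19.no_config_dec T hk v hv (Groth.Agent.Lib.helper19.updE (Groth.Agent.Lib.helper19.updE (Groth.Agent.Lib.helper19.adjE [(0, 1), (1, 2), (2, 3)]) 1 0 2) 2 1 2)
      (Groth.Agent.Lib.helper19.updE_le T v (Groth.Agent.Lib.helper19.updE_le T v hE0 1 0 2 hcon.1) 2 1 2 hcon.2)
      ![2, 2, 1, 0] (by decide) ⟨0, by decide⟩ (by decide)
  have f22_1_0_2_3 : Groth.Agent.Lib.helper19.rq T v 1 0 < 2 ∨ Groth.Agent.Lib.helper19.rq T v 2 3 < 2 := by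
    by_contra hcon
    push Not at hcon
    exact Groth.Agent.Lib.helper19.no_config_dec T hk v hv (Groth.Agent.Lib.helper19.updE (Groth.Agent.Lib.helper19.updE (Groth.Agent.Lib.helper19.adjE [(0, 1), (1, 2), (2, 3)]) 1 0 2) 2 3 2)
      (Groth.Agent.Lib.helper19.updE_le T v (Groth.Agent.Lib.helper19.updE_le T v hE0 1 0 2 hcon.1) 2 3 2 hcon.2)
      ![1, 1, 1, 1] (by decide) ⟨0, by decide⟩ (by decide)
  have f22_1_0_3_2 : Groth.Agent.Lib.helper19.rq T v 1 0 < 2 ∨ Groth.Agent.Lib.helper19.rq T v 3 2 < 2 := by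
    by_contra hcon
    push Not at hcon
    exact Groth.Agent.Lib.helper19.no_config_dec T hk v hv (Groth.Agent.Lib.helper19.updE (Groth.Agent.Lib.helper19.updE (Groth.Agent.Lib.helper19.adjE [(0, 1), (1, 2), (2, 3)]) 1 0 2) 3 2 2)
      (Groth.Agent.Lib.helper19.updE_le T v (Groth.Agent.Lib.helper19.updE_le T v hE0 1 0 2 hcon.1) 3 2 2 hcon.2)
      ![2, 2, 2, 1] (by decide) ⟨0, by decide⟩ (by decide)
  have f22_1_2_2_1 : Groth.Agent.Lib.helper19.rq T v 1 2 < 2 ∨ Groth.Agent.Lib.helper19.rq T v 2 1 < 2 := by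
    by_contra hcon
    push Not at hcon
    exact Groth.Agent.Lib.helper19.no_config_dec T hk v hv (Groth.Agent.Lib.helper19.updE (Groth.Agent.Lib.helper19.updE (Groth.Agent.Lib.helper19.adjE [(0, 1), (1, 2), (2, 3)]) 1 2 2) 2 1 2)
      (Groth.Agent.Lib.helper19.updE_le T v (Groth.Agent.Lib.helper19.updE_le T v hE0 1 2 2 hcon.1) 2 1 2 hcon.2)
      ![0, 1, 1, 0] (by decide) ⟨1, by decide⟩ (by decide)
  have f22_1_2_2_3 : Groth.Agent.Lib.helper19.rq T v 1 2 < 2 ∨ Groth.Agent.Lib.helper19.rq T v 2 3 < 2 := by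
    by_contra hcon
    push Not at hcon
    exact Groth.Agent.Lib.helper19.no_config_dec T hk v hv (Groth.Agent.Lib.helper19.updE (Groth.Agent.Lib.helper19.updE (Groth.Agent.Lib.helper19.adjE [(0, 1), (1, 2), (2, 3)]) 1 2 2) 2 3 2)
      (Groth.Agent.Lib.helper19.updE_le T v (Groth.Agent.Lib.helper19.updE_le T v hE0 1 2 2 hcon.1) 2 3 2 hcon.2)
      ![0, 1, 2, 2] (by decide) ⟨1, by decide⟩ (by decide)
  have f22_1_2_3_2 : Groth.Agent.Lib.helper19.rq T v 1 2 < 2 ∨ Groth.Agent.Lib.helper19.rq T v 3 2 < 2 := by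
    by_contra hcon
    push Not at hcon
    exact Groth.Agent.Lib.helper19.no_config_dec T hk v hv (Groth.Agent.Lib.helper19.updE (Groth.Agent.Lib.helper19.updE (Groth.Agent.Lib.helper19.adjE [(0, 1), (1, 2), (2, 3)]) 1 2 2) 3 2 2)
      (Groth.Agent.Lib.helper19.updE_le T v (Groth.Agent.Lib.helper19.updE_le T v hE0 1 2 2 hcon.1) 3 2 2 hcon.2)
      ![0, 1, 2, 1] (by decide) ⟨1, by decide⟩ (by decide)
  have f22_2_1_2_3 : Groth.Agent.Lib.helper19.rq T v 2 1 < 2 ∨ Groth.Agent.Lib.helper19.rq T v 2 3 < 2 := by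
    by_contra hcon
    push Not at hcon
    exact Groth.Agent.Lib.helper19.no_config_dec T hk v hv (Groth.Agent.Lib.helper19.updE (Groth.Agent.Lib.helper19.updE (Groth.Agent.Lib.helper19.adjE [(0, 1), (1, 2), (2, 3)]) 2 1 2) 2 3 2)
      (Groth.Agent.Lib.helper19.updE_le T v (Groth.Agent.Lib.helper19.updE_le T v hE0 2 1 2 hcon.1) 2 3 2 hcon.2)
      ![0, 1, 1, 1] (by decide) ⟨1, by decide⟩ (by decide)
  have f22_2_1_3_2 : Groth.Agent.Lib.helper19.rq T v 2 1 < 2 ∨ Groth.Agent.Lib.helper19.rq T v 3 2 < 2 := by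
    by_contra hcon
    push Not at hcon
    exact Groth.Agent.Lib.helper19.no_config_dec T hk v hv (Groth.Agent.Lib.helper19.updE (Groth.Agent.Lib.helper19.updE (Groth.Agent.Lib.helper19.adjE [(0, 1), (1, 2), (2, 3)]) 2 1 2) 3 2 2)
      (Groth.Agent.Lib.helper19.updE_le T v (Groth.Agent.Lib.helper19.updE_le T v hE0 2 1 2 hcon.1) 3 2 2 hcon.2)
      ![0, 2, 2, 1] (by decide) ⟨1, by decide⟩ (by decide)
  have f22_2_3_3_2 : Groth.Agent.Lib.helper19.rq T v 2 3 < 2 ∨ Groth.Agent.Lib.helper19.rq T v 3 2 < 2 := by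
    by_contra hcon
    push Not at hcon
    exact Groth.Agent.Lib.helper19.no_config_dec T hk v hv (Groth.Agent.Lib.helper19.updE (Groth.Agent.Lib.helper19.updE (Groth.Agent.Lib.helper19.adjE [(0, 1), (1, 2), (2, 3)]) 2 3 2) 3 2 2)
      (Groth.Agent.Lib.helper19.updE_le T v (Groth.Agent.Lib.helper19.updE_le T v hE0 2 3 2 hcon.1) 3 2 2 hcon.2)
      ![0, 0, 1, 1] (by decide) ⟨2, by decide⟩ (by decide)
  have q_0_1 := Groth.Agent.Lib.helper19.rq_mul T v 0 1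
  have q_1_0 := Groth.Agent.Lib.helper19.rq_mul T v 1 0
  have q_1_2 := Groth.Agent.Lib.helper19.rq_mul T v 1 2
  have q_2_1 := Groth.Agent.Lib.helper19.rq_mul T v 2 1
  have q_2_3 := Groth.Agent.Lib.helper19.rq_mul T v 2 3
  have q_3_2 := Groth.Agent.Lib.helper19.rq_mul T v 3 2
  have sy_0_1 : T.a (v 0) (v 1) = T.a (v 1) (v 0) := Groth.Agent.Lib.helper19.a_symm T _ _
  have sy_1_2 : T.a (v 1) (v 2) = T.a (v 2) (v 1) := Groth.Agent.Lib.helper19.a_symm T _ _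
  have sy_2_3 : T.a (v 2) (v 3) = T.a (v 3) (v 2) := Groth.Agent.Lib.helper19.a_symm T _ _
  have row_0 := Groth.Agent.Lib.helper19.row_rq T v hv 0 {1} (by decide)
  rw [Finset.sum_singleton] at row_0
  have row_1 := Groth.Agent.Lib.helper19.row_rq T v hv 1 {0, 2} (by decide)
  rw [Finset.sum_insert (by decide), Finset.sum_singleton] at row_1
  have row_2 := Groth.Agent.Lib.helper19.row_rq T v hv 2 {1, 3} (by decide)
  rw [Finset.sum_insert (by decide), Finset.sum_singleton] at row_2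
  have row_3 := Groth.Agent.Lib.helper19.row_rq T v hv 3 {2} (by decide)
  rw [Finset.sum_singleton] at row_3
  refine ⟨⟨z_0_2, z_0_3, z_1_3⟩, ?_⟩
  have c_0_1 := Groth.Agent.Lib.helper19.int_one_or_two l_0_1 f3_0_1
  have c_1_0 := Groth.Agent.Lib.helper19.int_one_or_two l_1_0 f3_1_0
  have c_1_2 := Groth.Agent.Lib.helper19.int_one_or_two l_1_2 f3_1_2
  have c_2_1 := Groth.Agent.Lib.helper19.int_one_or_two l_2_1 f3_2_1
  have c_2_3 := Groth.Agent.Lib.helper19.int_one_or_two l_2_3 f3_2_3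
  have c_3_2 := Groth.Agent.Lib.helper19.int_one_or_two l_3_2 f3_3_2
  rcases c_0_1 with r_0_1 | r_0_1
  · rcases c_1_0 with r_1_0 | r_1_0
    · rcases c_1_2 with r_1_2 | r_1_2
      · rcases c_2_1 with r_2_1 | r_2_1
        · rcases c_2_3 with r_2_3 | r_2_3
          · rcases c_3_2 with r_3_2 | r_3_2
            · clear f3_0_1 f3_1_0 f3_1_2 f3_2_1 f3_2_3 f3_3_2 f22_0_1_1_0 f22_0_1_1_2 f22_0_1_2_1 f22_0_1_2_3 f22_0_1_3_2 f22_1_0_1_2 f22_1_0_2_1 f22_1_0_2_3 f22_1_0_3_2 f22_1_2_2_1 f22_1_2_2_3 f22_1_2_3_2 f22_2_1_2_3 f22_2_1_3_2 f22_2_3_3_2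
              simp only [r_0_1, r_1_0, r_1_2, r_2_1, r_2_3, r_3_2] at q_0_1 q_1_0 q_1_2 q_2_1 q_2_3 q_3_2 row_0 row_1 row_2 row_3
              refine ⟨fun j => v j, T.w (v 0), Or.inl (fun j => rfl), ?_⟩
              beta_reduce
              refine Or.inl ?_
              refine ⟨?_, ?_, ?_, ?_, ?_, ?_, ?_, ?_, ?_, ?_, ?_⟩ <;> omega
            · clear f3_0_1 f3_1_0 f3_1_2 f3_2_1 f3_2_3 f3_3_2 f22_0_1_1_0 f22_0_1_1_2 f22_0_1_2_1 f22_0_1_2_3 f22_0_1_3_2 f22_1_0_1_2 f22_1_0_2_1 f22_1_0_2_3 f22_1_0_3_2 f22_1_2_2_1 f22_1_2_2_3 f22_1_2_3_2 f22_2_1_2_3 f22_2_1_3_2 f22_2_3_3_2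
              simp only [r_0_1, r_1_0, r_1_2, r_2_1, r_2_3, r_3_2] at q_0_1 q_1_0 q_1_2 q_2_1 q_2_3 q_3_2 row_0 row_1 row_2 row_3
              refine ⟨fun j => v j, T.w (v 3), Or.inl (fun j => rfl), ?_⟩
              beta_reduce
              refine Or.inr (Or.inr (Or.inl ?_))
              refine ⟨?_, ?_, ?_, ?_, ?_, ?_, ?_, ?_, ?_, ?_, ?_⟩ <;> omega
          · have r_3_2 : Groth.Agent.Lib.helper19.rq T v 3 2 = 1 := Groth.Agent.Lib.helper19.int_eq_one_left l_3_2 f22_2_3_3_2 r_2_3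
            clear f3_0_1 f3_1_0 f3_1_2 f3_2_1 f3_2_3 f3_3_2 f22_0_1_1_0 f22_0_1_1_2 f22_0_1_2_1 f22_0_1_2_3 f22_0_1_3_2 f22_1_0_1_2 f22_1_0_2_1 f22_1_0_2_3 f22_1_0_3_2 f22_1_2_2_1 f22_1_2_2_3 f22_1_2_3_2 f22_2_1_2_3 f22_2_1_3_2 f22_2_3_3_2
            simp only [r_0_1, r_1_0, r_1_2, r_2_1, r_2_3, r_3_2] at q_0_1 q_1_0 q_1_2 q_2_1 q_2_3 q_3_2 row_0 row_1 row_2 row_3
            refine ⟨fun j => v j, T.w (v 0), Or.inl (fun j => rfl), ?_⟩
            beta_reduce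
            refine Or.inr (Or.inl ?_)
            refine ⟨?_, ?_, ?_, ?_, ?_, ?_, ?_, ?_, ?_, ?_, ?_⟩ <;> omega
        · have r_2_3 : Groth.Agent.Lib.helper19.rq T v 2 3 = 1 := Groth.Agent.Lib.helper19.int_eq_one_left l_2_3 f22_2_1_2_3 r_2_1
          have r_3_2 : Groth.Agent.Lib.helper19.rq T v 3 2 = 1 := Groth.Agent.Lib.helper19.int_eq_one_left l_3_2 f22_2_1_3_2 r_2_1
          clear f3_0_1 f3_1_0 f3_1_2 f3_2_1 f3_2_3 f3_3_2 f22_0_1_1_0 f22_0_1_1_2 f22_0_1_2_1 f22_0_1_2_3 f22_0_1_3_2 f22_1_0_1_2 f22_1_0_2_1 f22_1_0_2_3 f22_1_0_3_2 f22_1_2_2_1 f22_1_2_2_3 f22_1_2_3_2 f22_2_1_2_3 f22_2_1_3_2 f22_2_3_3_2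
          simp only [r_0_1, r_1_0, r_1_2, r_2_1, r_2_3, r_3_2] at q_0_1 q_1_0 q_1_2 q_2_1 q_2_3 q_3_2 row_0 row_1 row_2 row_3
          refine ⟨fun j => v (Fin.rev j), T.w (v 3), Or.inr (fun j => rfl), ?_⟩
          beta_reduce
          have e0 : Fin.rev (0 : Fin 4) = 3 := by decide
          have e1 : Fin.rev (1 : Fin 4) = 2 := by decide
          have e2 : Fin.rev (2 : Fin 4) = 1 := by decide
          have e3 : Fin.rev (3 : Fin 4) = 0 := by decide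
          rw [e0, e1, e2, e3]
          refine Or.inr (Or.inr (Or.inr (?_)))
          refine ⟨?_, ?_, ?_, ?_, ?_, ?_, ?_, ?_, ?_, ?_, ?_⟩ <;> omega
      · have r_2_1 : Groth.Agent.Lib.helper19.rq T v 2 1 = 1 := Groth.Agent.Lib.helper19.int_eq_one_left l_2_1 f22_1_2_2_1 r_1_2
        have r_2_3 : Groth.Agent.Lib.helper19.rq T v 2 3 = 1 := Groth.Agent.Lib.helper19.int_eq_one_left l_2_3 f22_1_2_2_3 r_1_2
        have r_3_2 : Groth.Agent.Lib.helper19.rq T v 3 2 = 1 := Groth.Agent.Lib.helper19.int_eq_one_left l_3_2 f22_1_2_3_2 r_1_2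
        clear f3_0_1 f3_1_0 f3_1_2 f3_2_1 f3_2_3 f3_3_2 f22_0_1_1_0 f22_0_1_1_2 f22_0_1_2_1 f22_0_1_2_3 f22_0_1_3_2 f22_1_0_1_2 f22_1_0_2_1 f22_1_0_2_3 f22_1_0_3_2 f22_1_2_2_1 f22_1_2_2_3 f22_1_2_3_2 f22_2_1_2_3 f22_2_1_3_2 f22_2_3_3_2
        simp only [r_0_1, r_1_0, r_1_2, r_2_1, r_2_3, r_3_2] at q_0_1 q_1_0 q_1_2 q_2_1 q_2_3 q_3_2 row_0 row_1 row_2 row_3
        refine ⟨fun j => v j, T.w (v 0), Or.inl (fun j => rfl), ?_⟩
        beta_reduce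
        refine Or.inr (Or.inr (Or.inr (?_)))
        refine ⟨?_, ?_, ?_, ?_, ?_, ?_, ?_, ?_, ?_, ?_, ?_⟩ <;> omega
    · have r_1_2 : Groth.Agent.Lib.helper19.rq T v 1 2 = 1 := Groth.Agent.Lib.helper19.int_eq_one_left l_1_2 f22_1_0_1_2 r_1_0
      have r_2_1 : Groth.Agent.Lib.helper19.rq T v 2 1 = 1 := Groth.Agent.Lib.helper19.int_eq_one_left l_2_1 f22_1_0_2_1 r_1_0
      have r_2_3 : Groth.Agent.Lib.helper19.rq T v 2 3 = 1 := Groth.Agent.Lib.helper19.int_eq_one_left l_2_3 f22_1_0_2_3 r_1_0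
      have r_3_2 : Groth.Agent.Lib.helper19.rq T v 3 2 = 1 := Groth.Agent.Lib.helper19.int_eq_one_left l_3_2 f22_1_0_3_2 r_1_0
      clear f3_0_1 f3_1_0 f3_1_2 f3_2_1 f3_2_3 f3_3_2 f22_0_1_1_0 f22_0_1_1_2 f22_0_1_2_1 f22_0_1_2_3 f22_0_1_3_2 f22_1_0_1_2 f22_1_0_2_1 f22_1_0_2_3 f22_1_0_3_2 f22_1_2_2_1 f22_1_2_2_3 f22_1_2_3_2 f22_2_1_2_3 f22_2_1_3_2 f22_2_3_3_2
      simp only [r_0_1, r_1_0, r_1_2, r_2_1, r_2_3, r_3_2] at q_0_1 q_1_0 q_1_2 q_2_1 q_2_3 q_3_2 row_0 row_1 row_2 row_3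
      refine ⟨fun j => v (Fin.rev j), T.w (v 3), Or.inr (fun j => rfl), ?_⟩
      beta_reduce
      have e0 : Fin.rev (0 : Fin 4) = 3 := by decide
      have e1 : Fin.rev (1 : Fin 4) = 2 := by decide
      have e2 : Fin.rev (2 : Fin 4) = 1 := by decide
      have e3 : Fin.rev (3 : Fin 4) = 0 := by decide
      rw [e0, e1, e2, e3]
      refine Or.inr (Or.inl ?_)
      refine ⟨?_, ?_, ?_, ?_, ?_, ?_, ?_, ?_, ?_, ?_, ?_⟩ <;> omega
  · have r_1_0 : Groth.Agent.Lib.helper19.rq T v 1 0 = 1 := Groth.Agent.Lib.helper19.int_eq_one_left l_1_0 f22_0_1_1_0 r_0_1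
    have r_1_2 : Groth.Agent.Lib.helper19.rq T v 1 2 = 1 := Groth.Agent.Lib.helper19.int_eq_one_left l_1_2 f22_0_1_1_2 r_0_1
    have r_2_1 : Groth.Agent.Lib.helper19.rq T v 2 1 = 1 := Groth.Agent.Lib.helper19.int_eq_one_left l_2_1 f22_0_1_2_1 r_0_1
    have r_2_3 : Groth.Agent.Lib.helper19.rq T v 2 3 = 1 := Groth.Agent.Lib.helper19.int_eq_one_left l_2_3 f22_0_1_2_3 r_0_1
    have r_3_2 : Groth.Agent.Lib.helper19.rq T v 3 2 = 1 := Groth.Agent.Lib.helper19.int_eq_one_left l_3_2 f22_0_1_3_2 r_0_1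
    clear f3_0_1 f3_1_0 f3_1_2 f3_2_1 f3_2_3 f3_3_2 f22_0_1_1_0 f22_0_1_1_2 f22_0_1_2_1 f22_0_1_2_3 f22_0_1_3_2 f22_1_0_1_2 f22_1_0_2_1 f22_1_0_2_3 f22_1_0_3_2 f22_1_2_2_1 f22_1_2_2_3 f22_1_2_3_2 f22_2_1_2_3 f22_2_1_3_2 f22_2_3_3_2
    simp only [r_0_1, r_1_0, r_1_2, r_2_1, r_2_3, r_3_2] at q_0_1 q_1_0 q_1_2 q_2_1 q_2_3 q_3_2 row_0 row_1 row_2 row_3
    refine ⟨fun j => v (Fin.rev j), T.w (v 0), Or.inr (fun j => rfl), ?_⟩
    beta_reduce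
    have e0 : Fin.rev (0 : Fin 4) = 3 := by decide
    have e1 : Fin.rev (1 : Fin 4) = 2 := by decide
    have e2 : Fin.rev (2 : Fin 4) = 1 := by decide
    have e3 : Fin.rev (3 : Fin 4) = 0 := by decide
    rw [e0, e1, e2, e3]
    refine Or.inr (Or.inr (Or.inl ?_))
    refine ⟨?_, ?_, ?_, ?_, ?_, ?_, ?_, ?_, ?_, ?_, ?_⟩ <;> omega

end Groth.Agent.S7352
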