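import Groth.Statements.S7354
import Mathlib
import Groth.Agent.Lib.Helper19.NumType

set_option autoImplicit false
open Finset
open Models Models.NumericalType

namespace Groth.Agent.S7354

open Groth.Agent.Lib.helper19 in
theorem window5 {n : ℕ} (T : Models.NumericalType n) (hn : 5 < n)
    (v : Fin 5 ↪ Fin n) (hv : ∀ j, T.IsMinusTwo (v j)) (h01 : T.a (v 0) (v 1) ≠ 0)
    (h12 : T.a (v 1) (v 2) ≠ 0) (h23 : T.a (v 2) (v 3) ≠ 0) (h34 : T.a (v 3) (v 4) ≠ 0) :
    (rq T v 1 2 = 1 ∧ rq T v 2 1 = 1 ∧ rq T v 2 3 = 1 ∧ rq T v 3 2 = 1) ∧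
    ((rq T v 0 1 = 1 ∨ rq T v 0 1 = 2) ∧ (rq T v 1 0 = 1 ∨ rq T v 1 0 = 2) ∧
      (rq T v 0 1 < 2 ∨ rq T v 1 0 < 2)) ∧
    ((rq T v 3 4 = 1 ∨ rq T v 3 4 = 2) ∧ (rq T v 4 3 = 1 ∨ rq T v 4 3 = 2) ∧
      (rq T v 3 4 < 2 ∨ rq T v 4 3 < 2)) := by
  classical
  have hk : 5 < n := by omega
  have hE0 := Groth.Agent.Lib.helper19.adjE_le T v [(0, 1), (1, 2), (2, 3), (3, 4)] (by
    intro e he
    simp only [List.mem_cons, List.not_mem_nil, or_false] at he
    rcases he with rfl | rfl | rfl | rfl <;> assumption)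
  have l_0_1 : 1 ≤ Groth.Agent.Lib.helper19.rq T v 0 1 := hE0 0 1 (by decide)
  have l_1_0 : 1 ≤ Groth.Agent.Lib.helper19.rq T v 1 0 := hE0 1 0 (by decide)
  have l_1_2 : 1 ≤ Groth.Agent.Lib.helper19.rq T v 1 2 := hE0 1 2 (by decide)
  have l_2_1 : 1 ≤ Groth.Agent.Lib.helper19.rq T v 2 1 := hE0 2 1 (by decide)
  have l_2_3 : 1 ≤ Groth.Agent.Lib.helper19.rq T v 2 3 := hE0 2 3 (by decide)
  have l_3_2 : 1 ≤ Groth.Agent.Lib.helper19.rq T v 3 2 := hE0 3 2 (by decide)
  have l_3_4 : 1 ≤ Groth.Agent.Lib.helper19.rq T v 3 4 := hE0 3 4 (by decide)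
  have l_4_3 : 1 ≤ Groth.Agent.Lib.helper19.rq T v 4 3 := hE0 4 3 (by decide)
  have f3_0_1 : Groth.Agent.Lib.helper19.rq T v 0 1 < 3 := by
    by_contra hcon
    push Not at hcon
    exact Groth.Agent.Lib.helper19.no_config_dec T hk v hv (Groth.Agent.Lib.helper19.updE (Groth.Agent.Lib.helper19.adjE [(0, 1), (1, 2), (2, 3), (3, 4)]) 0 1 3)
      (Groth.Agent.Lib.helper19.updE_le T v hE0 0 1 3 hcon)
      ![1, 2, 1, 0, 0] (by decide) ⟨0, by decide⟩ (by decide)
  have f3_1_0 : Groth.Agent.Lib.helper19.rq T v 1 0 < 3 := by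
    by_contra hcon
    push Not at hcon
    exact Groth.Agent.Lib.helper19.no_config_dec T hk v hv (Groth.Agent.Lib.helper19.updE (Groth.Agent.Lib.helper19.adjE [(0, 1), (1, 2), (2, 3), (3, 4)]) 1 0 3)
      (Groth.Agent.Lib.helper19.updE_le T v hE0 1 0 3 hcon)
      ![3, 2, 1, 0, 0] (by decide) ⟨0, by decide⟩ (by decide)
  have f3_1_2 : Groth.Agent.Lib.helper19.rq T v 1 2 < 3 := by
    by_contra hcon
    push Not at hcon
    exact Groth.Agent.Lib.helper19.no_config_dec T hk v hv (Groth.Agent.Lib.helper19.updE (Groth.Agent.Lib.helper19.adjE [(0, 1), (1, 2), (2, 3), (3, 4)]) 1 2 3)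
      (Groth.Agent.Lib.helper19.updE_le T v hE0 1 2 3 hcon)
      ![0, 1, 2, 1, 0] (by decide) ⟨1, by decide⟩ (by decide)
  have f3_2_1 : Groth.Agent.Lib.helper19.rq T v 2 1 < 3 := by
    by_contra hcon
    push Not at hcon
    exact Groth.Agent.Lib.helper19.no_config_dec T hk v hv (Groth.Agent.Lib.helper19.updE (Groth.Agent.Lib.helper19.adjE [(0, 1), (1, 2), (2, 3), (3, 4)]) 2 1 3)
      (Groth.Agent.Lib.helper19.updE_le T v hE0 2 1 3 hcon)
      ![1, 2, 1, 0, 0] (by decide) ⟨0, by decide⟩ (by decide)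
  have f3_2_3 : Groth.Agent.Lib.helper19.rq T v 2 3 < 3 := by
    by_contra hcon
    push Not at hcon
    exact Groth.Agent.Lib.helper19.no_config_dec T hk v hv (Groth.Agent.Lib.helper19.updE (Groth.Agent.Lib.helper19.adjE [(0, 1), (1, 2), (2, 3), (3, 4)]) 2 3 3)
      (Groth.Agent.Lib.helper19.updE_le T v hE0 2 3 3 hcon)
      ![0, 0, 1, 2, 1] (by decide) ⟨2, by decide⟩ (by decide)
  have f3_3_2 : Groth.Agent.Lib.helper19.rq T v 3 2 < 3 := by
    by_contra hcon
    push Not at hcon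
    exact Groth.Agent.Lib.helper19.no_config_dec T hk v hv (Groth.Agent.Lib.helper19.updE (Groth.Agent.Lib.helper19.adjE [(0, 1), (1, 2), (2, 3), (3, 4)]) 3 2 3)
      (Groth.Agent.Lib.helper19.updE_le T v hE0 3 2 3 hcon)
      ![0, 1, 2, 1, 0] (by decide) ⟨1, by decide⟩ (by decide)
  have f3_3_4 : Groth.Agent.Lib.helper19.rq T v 3 4 < 3 := by
    by_contra hcon
    push Not at hcon
    exact Groth.Agent.Lib.helper19.no_config_dec T hk v hv (Groth.Agent.Lib.helper19.updE (Groth.Agent.Lib.helper19.adjE [(0, 1), (1, 2), (2, 3), (3, 4)]) 3 4 3)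
      (Groth.Agent.Lib.helper19.updE_le T v hE0 3 4 3 hcon)
      ![0, 0, 1, 2, 3] (by decide) ⟨2, by decide⟩ (by decide)
  have f3_4_3 : Groth.Agent.Lib.helper19.rq T v 4 3 < 3 := by
    by_contra hcon
    push Not at hcon
    exact Groth.Agent.Lib.helper19.no_config_dec T hk v hv (Groth.Agent.Lib.helper19.updE (Groth.Agent.Lib.helper19.adjE [(0, 1), (1, 2), (2, 3), (3, 4)]) 4 3 3)
      (Groth.Agent.Lib.helper19.updE_le T v hE0 4 3 3 hcon)
      ![0, 0, 1, 2, 1] (by decide) ⟨2, by decide⟩ (by decide)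
  have f2_1_2 : Groth.Agent.Lib.helper19.rq T v 1 2 < 2 := by
    by_contra hcon
    push Not at hcon
    exact Groth.Agent.Lib.helper19.no_config_dec T hk v hv (Groth.Agent.Lib.helper19.updE (Groth.Agent.Lib.helper19.adjE [(0, 1), (1, 2), (2, 3), (3, 4)]) 1 2 2)
      (Groth.Agent.Lib.helper19.updE_le T v hE0 1 2 2 hcon)
      ![1, 2, 3, 2, 1] (by decide) ⟨0, by decide⟩ (by decide)
  have f2_2_1 : Groth.Agent.Lib.helper19.rq T v 2 1 < 2 := by
    by_contra hcon
    push Not at hcon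
    exact Groth.Agent.Lib.helper19.no_config_dec T hk v hv (Groth.Agent.Lib.helper19.updE (Groth.Agent.Lib.helper19.adjE [(0, 1), (1, 2), (2, 3), (3, 4)]) 2 1 2)
      (Groth.Agent.Lib.helper19.updE_le T v hE0 2 1 2 hcon)
      ![2, 4, 3, 2, 1] (by decide) ⟨0, by decide⟩ (by decide)
  have f2_2_3 : Groth.Agent.Lib.helper19.rq T v 2 3 < 2 := by
    by_contra hcon
    push Not at hcon
    exact Groth.Agent.Lib.helper19.no_config_dec T hk v hv (Groth.Agent.Lib.helper19.updE (Groth.Agent.Lib.helper19.adjE [(0, 1), (1, 2), (2, 3), (3, 4)]) 2 3 2)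
      (Groth.Agent.Lib.helper19.updE_le T v hE0 2 3 2 hcon)
      ![1, 2, 3, 4, 2] (by decide) ⟨0, by decide⟩ (by decide)
  have f2_3_2 : Groth.Agent.Lib.helper19.rq T v 3 2 < 2 := by
    by_contra hcon
    push Not at hcon
    exact Groth.Agent.Lib.helper19.no_config_dec T hk v hv (Groth.Agent.Lib.helper19.updE (Groth.Agent.Lib.helper19.adjE [(0, 1), (1, 2), (2, 3), (3, 4)]) 3 2 2)
      (Groth.Agent.Lib.helper19.updE_le T v hE0 3 2 2 hcon)
      ![1, 2, 3, 2, 1] (by decide) ⟨0, by decide⟩ (by decide)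
  have f22_0_1_1_0 : Groth.Agent.Lib.helper19.rq T v 0 1 < 2 ∨ Groth.Agent.Lib.helper19.rq T v 1 0 < 2 := by
    by_contra hcon
    push Not at hcon
    exact Groth.Agent.Lib.helper19.no_config_dec T hk v hv (Groth.Agent.Lib.helper19.updE (Groth.Agent.Lib.helper19.updE (Groth.Agent.Lib.helper19.adjE [(0, 1), (1, 2), (2, 3), (3, 4)]) 0 1 2) 1 0 2)
      (Groth.Agent.Lib.helper19.updE_le T v (Groth.Agent.Lib.helper19.updE_le T v hE0 0 1 2 hcon.1) 1 0 2 hcon.2)
      ![1, 1, 0, 0, 0] (by decide) ⟨0, by decide⟩ (by decide)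
  have f22_3_4_4_3 : Groth.Agent.Lib.helper19.rq T v 3 4 < 2 ∨ Groth.Agent.Lib.helper19.rq T v 4 3 < 2 := by
    by_contra hcon
    push Not at hcon
    exact Groth.Agent.Lib.helper19.no_config_dec T hk v hv (Groth.Agent.Lib.helper19.updE (Groth.Agent.Lib.helper19.updE (Groth.Agent.Lib.helper19.adjE [(0, 1), (1, 2), (2, 3), (3, 4)]) 3 4 2) 4 3 2)
      (Groth.Agent.Lib.helper19.updE_le T v (Groth.Agent.Lib.helper19.updE_le T v hE0 3 4 2 hcon.1) 4 3 2 hcon.2)
      ![0, 0, 0, 1, 1] (by decide) ⟨3, by decide⟩ (by decide)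
  exact ⟨⟨int_eq_one_of_lt l_1_2 f2_1_2, int_eq_one_of_lt l_2_1 f2_2_1, int_eq_one_of_lt l_2_3 f2_2_3,
    int_eq_one_of_lt l_3_2 f2_3_2⟩,
    ⟨int_one_or_two l_0_1 f3_0_1, int_one_or_two l_1_0 f3_1_0, f22_0_1_1_0⟩,
    ⟨int_one_or_two l_3_4 f3_3_4, int_one_or_two l_4_3 f3_4_3, f22_3_4_4_3⟩⟩

section chain
open Groth.Agent.Lib.helper19

variable {n : ℕ} (T : Models.NumericalType n) {t : ℕ} (ht : 5 < t) (hn : t < n)
  (v : Fin t ↪ Fin n) (hv : ∀ j, T.IsMinusTwo (v j))
  (hchain : ∀ j j' : Fin t, j'.val = j.val + 1 → T.a (v j) (v j') ≠ 0)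

/-- window embedding -/
def win (i : ℕ) (hi : i + 5 ≤ t) : Fin 5 ↪ Fin n :=
  ⟨fun x => v ⟨i + x.val, by omega⟩, fun x y h => by
    have := v.injective h
    simp only [Fin.mk.injEq] at this
    exact Fin.ext (by omega)⟩

include ht hn hv hchain in
theorem win_facts (i : ℕ) (hi : i + 5 ≤ t) :
    (rq T v ⟨i + 1, by omega⟩ ⟨i + 2, by omega⟩ = 1 ∧ rq T v ⟨i + 2, by omega⟩ ⟨i + 1, by omega⟩ = 1 ∧
      rq T v ⟨i + 2, by omega⟩ ⟨i + 3, by omega⟩ = 1 ∧ rq T v ⟨i + 3, by omega⟩ ⟨i + 2, by omega⟩ = 1) ∧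
    ((rq T v ⟨i + 0, by omega⟩ ⟨i + 1, by omega⟩ = 1 ∨ rq T v ⟨i + 0, by omega⟩ ⟨i + 1, by omega⟩ = 2) ∧
      (rq T v ⟨i + 1, by omega⟩ ⟨i + 0, by omega⟩ = 1 ∨ rq T v ⟨i + 1, by omega⟩ ⟨i + 0, by omega⟩ = 2) ∧
      (rq T v ⟨i + 0, by omega⟩ ⟨i + 1, by omega⟩ < 2 ∨ rq T v ⟨i + 1, by omega⟩ ⟨i + 0, by omega⟩ < 2)) ∧
    ((rq T v ⟨i + 3, by omega⟩ ⟨i + 4, by omega⟩ = 1 ∨ rq T v ⟨i + 3, by omega⟩ ⟨i + 4, by omega⟩ = 2) ∧
      (rq T v ⟨i + 4, by omega⟩ ⟨i + 3, by omega⟩ = 1 ∨ rq T v ⟨i + 4, by omega⟩ ⟨i + 3, by omega⟩ = 2) ∧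
      (rq T v ⟨i + 3, by omega⟩ ⟨i + 4, by omega⟩ < 2 ∨ rq T v ⟨i + 4, by omega⟩ ⟨i + 3, by omega⟩ < 2)) :=
  window5 T (by omega) (win v i hi) (fun j => hv _)
    (hchain ⟨i + 0, by omega⟩ ⟨i + 1, by omega⟩ rfl) (hchain ⟨i + 1, by omega⟩ ⟨i + 2, by omega⟩ rfl)
    (hchain ⟨i + 2, by omega⟩ ⟨i + 3, by omega⟩ rfl) (hchain ⟨i + 3, by omega⟩ ⟨i + 4, by omega⟩ rfl)

include ht hn hv hchain in
theorem interior (a b : Fin t) (hab : b.val = a.val + 1) (h1 : 1 ≤ a.val) (h2 : b.val + 1 < t) :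
    rq T v a b = 1 ∧ rq T v b a = 1 := by
  obtain ⟨a, ha⟩ := a
  obtain ⟨b, hb⟩ := b
  simp only at hab h1 h2
  subst hab
  by_cases h3 : a + 1 + 2 < t
  · obtain ⟨i, rfl⟩ : ∃ i, a = i + 1 := ⟨a - 1, by omega⟩
    have hw := (win_facts T ht hn v hv hchain i (by omega)).1
    exact ⟨hw.1, hw.2.1⟩
  · obtain ⟨i, rfl⟩ : ∃ i, a = i + 2 := ⟨a - 2, by omega⟩
    have hw := (win_facts T ht hn v hv hchain i (by omega)).1
    exact ⟨hw.2.2.1, hw.2.2.2⟩

include ht hn hv hchain in
theorem first_edge (a b : Fin t) (ha : a.val = 0) (hb : b.val = 1) :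
    (rq T v a b = 1 ∨ rq T v a b = 2) ∧ (rq T v b a = 1 ∨ rq T v b a = 2) ∧
      (rq T v a b < 2 ∨ rq T v b a < 2) := by
  obtain ⟨a, ha'⟩ := a
  obtain ⟨b, hb'⟩ := b
  simp only at ha hb
  subst ha hb
  exact (win_facts T ht hn v hv hchain 0 (by omega)).2.1

include ht hn hv hchain in
theorem last_edge (a b : Fin t) (ha : a.val + 2 = t) (hb : b.val + 1 = t) :
    (rq T v a b = 1 ∨ rq T v a b = 2) ∧ (rq T v b a = 1 ∨ rq T v b a = 2) ∧
      (rq T v a b < 2 ∨ rq T v b a < 2) := by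
  obtain ⟨a, ha'⟩ := a
  obtain ⟨b, hb'⟩ := b
  simp only at ha hb
  obtain ⟨i, rfl⟩ : ∃ i, a = i + 3 := ⟨a - 3, by omega⟩
  obtain rfl : b = i + 4 := by omega
  exact (win_facts T ht hn v hv hchain i (by omega)).2.2

include hchain in
theorem adj_ge (a b : Fin t) (hab : b.val = a.val + 1 ∨ a.val = b.val + 1) : 1 ≤ rq T v a b := by
  have hne : a ≠ b := by
    intro e
    rw [e] at hab
    omega
  apply one_le_rq T v a b (v.injective.ne hne)
  rcases hab with hab | hab
  · exact hchain a b hab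
  · rw [a_symm]
    exact hchain b a hab

include hn hv hchain in
theorem no_chord (j k : Fin t) (hjk : j.val + 1 < k.val) : T.a (v j) (v k) = 0 := by
  classical
  by_contra h
  have h' : T.a (v k) (v j) ≠ 0 := by rwa [a_symm]
  have hjk_ne : j ≠ k := by
    intro e
    rw [e] at hjk
    omega
  let δ : Fin t → ℤ := fun x => if j.val ≤ x.val ∧ x.val ≤ k.val then 1 else 0
  have hδ0 : ∀ x, 0 ≤ δ x := by
    intro x
    simp only [δ]
    split_ifs <;> norm_num
  have hδin : ∀ x : Fin t, j.val ≤ x.val → x.val ≤ k.val → δ x = 1 := fun x h1 h2 => if_pos ⟨h1, h2⟩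
  refine no_config_rq T hn v hv δ hδ0 ⟨j, by rw [hδin j le_rfl (by omega)]; norm_num⟩ ?_
  intro x
  by_cases hx : j.val ≤ x.val ∧ x.val ≤ k.val
  · rw [hδin x hx.1 hx.2]
    by_cases hxj : x.val = j.val
    · have exj : x = j := Fin.ext hxj
      let s₁ : Fin t := ⟨j.val + 1, by omega⟩
      have h1 : s₁ ≠ x := fun e => by
        have := congrArg Fin.val e
        simp only [s₁] at this
        omega
      have h2 : k ≠ x := fun e => by
        have := congrArg Fin.val e
        omega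
      have h12 : s₁ ≠ k := fun e => by
        have := congrArg Fin.val e
        simp only [s₁] at this
        omega
      have hs := sum_ge2 T v δ hδ0 x s₁ k h1 h2 h12
      rw [hδin s₁ (by simp only [s₁]; omega) (by simp only [s₁]; omega), hδin k (by omega) le_rfl] at hs
      have r1 : 1 ≤ rq T v s₁ x := adj_ge T v hchain s₁ x (Or.inr (by simp only [s₁]; omega))
      have r2 : 1 ≤ rq T v k x := by
        rw [exj]
        exact one_le_rq T v k j (v.injective.ne hjk_ne.symm) h'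
      linarith
    · by_cases hxk : x.val = k.val
      · have exk : x = k := Fin.ext hxk
        let s₁ : Fin t := ⟨k.val - 1, by omega⟩
        have h1 : s₁ ≠ x := fun e => by
          have := congrArg Fin.val e
          simp only [s₁] at this
          omega
        have h2 : j ≠ x := fun e => by
          have := congrArg Fin.val e
          omega
        have h12 : s₁ ≠ j := fun e => by
          have := congrArg Fin.val e
          simp only [s₁] at this
          omega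
        have hs := sum_ge2 T v δ hδ0 x s₁ j h1 h2 h12
        rw [hδin s₁ (by simp only [s₁]; omega) (by simp only [s₁]; omega), hδin j le_rfl (by omega)] at hs
        have r1 : 1 ≤ rq T v s₁ x := adj_ge T v hchain s₁ x (Or.inl (by simp only [s₁]; omega))
        have r2 : 1 ≤ rq T v j x := by
          rw [exk]
          exact one_le_rq T v j k (v.injective.ne hjk_ne) h
        linarith
      · let s₁ : Fin t := ⟨x.val - 1, by omega⟩
        let s₂ : Fin t := ⟨x.val + 1, by omega⟩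
        have h1 : s₁ ≠ x := fun e => by
          have := congrArg Fin.val e
          simp only [s₁] at this
          omega
        have h2 : s₂ ≠ x := fun e => by
          have := congrArg Fin.val e
          simp only [s₂] at this
          omega
        have h12 : s₁ ≠ s₂ := fun e => by
          have := congrArg Fin.val e
          simp only [s₁, s₂] at this
          omega
        have hs := sum_ge2 T v δ hδ0 x s₁ s₂ h1 h2 h12
        rw [hδin s₁ (by simp only [s₁]; omega) (by simp only [s₁]; omega),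
          hδin s₂ (by simp only [s₂]; omega) (by simp only [s₂]; omega)] at hs
        have r1 : 1 ≤ rq T v s₁ x := adj_ge T v hchain s₁ x (Or.inl (by simp only [s₁]; omega))
        have r2 : 1 ≤ rq T v s₂ x := adj_ge T v hchain s₂ x (Or.inr (by simp only [s₂]))
        linarith
  · have hδx : δ x = 0 := if_neg hx
    rw [hδx]
    simpa using sum_ge0 T v δ hδ0 x

include ht hn hv hchain in
theorem not_both_ends (a0 a1 b0 b1 : Fin t) (ha0 : a0.val = 0) (ha1 : a1.val = 1)
    (hb0 : b0.val + 2 = t) (hb1 : b1.val + 1 = t)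
    (h1 : 2 ≤ rq T v a0 a1 * rq T v a1 a0) (h2 : 2 ≤ rq T v b0 b1 * rq T v b1 b0) : False := by
  classical
  let δ : Fin t → ℤ := fun x =>
    if x.val = 0 then rq T v a1 a0 else if x.val + 1 = t then rq T v b0 b1 else 2
  have ra : 1 ≤ rq T v a1 a0 := adj_ge T v hchain a1 a0 (Or.inr (by omega))
  have rb : 1 ≤ rq T v b0 b1 := adj_ge T v hchain b0 b1 (Or.inl (by omega))
  have hδ0 : ∀ x, 0 ≤ δ x := by
    intro x
    simp only [δ]
    split_ifs <;> omega
  have hδfirst : ∀ x : Fin t, x.val = 0 → δ x = rq T v a1 a0 := fun x h => if_pos h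
  have hδlast : ∀ x : Fin t, x.val + 1 = t → δ x = rq T v b0 b1 := fun x h => by
    simp only [δ]
    rw [if_neg (by omega), if_pos h]
  have hδmid : ∀ x : Fin t, x.val ≠ 0 → x.val + 1 ≠ t → δ x = 2 := fun x h h' => by
    simp only [δ]
    rw [if_neg h, if_neg h']
  refine no_config_rq T hn v hv δ hδ0 ⟨a1, by rw [hδmid a1 (by omega) (by omega)]; norm_num⟩ ?_
  intro x
  by_cases hx0 : x.val = 0
  · have ex : x = a0 := Fin.ext (by omega)
    rw [hδfirst x hx0]
    have hs := sum_ge1 T v δ hδ0 x a1 (fun e => by have := congrArg Fin.val e; omega)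
    rw [hδmid a1 (by omega) (by omega), ex] at hs
    rw [ex]
    linarith
  by_cases hx1 : x.val = 1
  · have ex : x = a1 := Fin.ext (by omega)
    rw [hδmid x (by omega) (by omega)]
    let s₂ : Fin t := ⟨2, by omega⟩
    have hs := sum_ge2 T v δ hδ0 x a0 s₂ (fun e => by have := congrArg Fin.val e; omega)
      (fun e => by have := congrArg Fin.val e; simp only [s₂] at this; omega)
      (fun e => by have := congrArg Fin.val e; simp only [s₂] at this; omega)
    rw [hδfirst a0 ha0, hδmid s₂ (by simp only [s₂]; omega) (by simp only [s₂]; omega), ex] at hs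
    have r2 : 1 ≤ rq T v s₂ a1 := adj_ge T v hchain s₂ a1 (Or.inr (by simp only [s₂]; omega))
    rw [ex]
    linarith
  by_cases hxl : x.val + 1 = t
  · have ex : x = b1 := Fin.ext (by omega)
    rw [hδlast x hxl]
    have hs := sum_ge1 T v δ hδ0 x b0 (fun e => by have := congrArg Fin.val e; omega)
    rw [hδmid b0 (by omega) (by omega), ex] at hs
    rw [ex]
    linarith
  by_cases hxl2 : x.val + 2 = t
  · have ex : x = b0 := Fin.ext (by omega)
    rw [hδmid x (by omega) (by omega)]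
    let s₂ : Fin t := ⟨t - 3, by omega⟩
    have hs := sum_ge2 T v δ hδ0 x b1 s₂ (fun e => by have := congrArg Fin.val e; omega)
      (fun e => by have := congrArg Fin.val e; simp only [s₂] at this; omega)
      (fun e => by have := congrArg Fin.val e; simp only [s₂] at this; omega)
    rw [hδlast b1 hb1, hδmid s₂ (by simp only [s₂]; omega) (by simp only [s₂]; omega), ex] at hs
    have r2 : 1 ≤ rq T v s₂ b0 := adj_ge T v hchain s₂ b0 (Or.inl (by simp only [s₂]; omega))
    rw [ex]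
    linarith
  · rw [hδmid x hx0 hxl]
    let s₁ : Fin t := ⟨x.val - 1, by omega⟩
    let s₂ : Fin t := ⟨x.val + 1, by omega⟩
    have hs := sum_ge2 T v δ hδ0 x s₁ s₂
      (fun e => by have := congrArg Fin.val e; simp only [s₁] at this; omega)
      (fun e => by have := congrArg Fin.val e; simp only [s₂] at this; omega)
      (fun e => by have := congrArg Fin.val e; simp only [s₁, s₂] at this; omega)
    rw [hδmid s₁ (by simp only [s₁]; omega) (by simp only [s₁]; omega),
      hδmid s₂ (by simp only [s₂]; omega) (by simp only [s₂]; omega)] at hs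
    have r1 : 1 ≤ rq T v s₁ x := adj_ge T v hchain s₁ x (Or.inl (by simp only [s₁]; omega))
    have r2 : 1 ≤ rq T v s₂ x := adj_ge T v hchain s₂ x (Or.inr (by simp only [s₂]))
    linarith

include ht in
theorem assemble
    (hint : ∀ j j' : Fin t, j'.val = j.val + 1 → j'.val + 1 < t → rq T v j j' = 1 ∧ rq T v j' j = 1)
    (hlast : ∀ j j' : Fin t, j'.val = j.val + 1 → j'.val + 1 = t →
      (rq T v j j' = 1 ∧ rq T v j' j = 1) ∨ (rq T v j j' = 2 ∧ rq T v j' j = 1) ∨
        (rq T v j j' = 1 ∧ rq T v j' j = 2)) :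
    ∃ w : ℤ,
      ((∀ j : Fin t, T.w (v j) = w) ∧ (∀ j j' : Fin t, j'.val = j.val + 1 → T.a (v j) (v j') = w) ∨
        ((∀ j : Fin t, j.val + 1 < t → T.w (v j) = w) ∧ (∀ j : Fin t, j.val + 1 = t → T.w (v j) = 2 * w) ∧
          (∀ j j' : Fin t, j'.val = j.val + 1 → j'.val + 1 < t → T.a (v j) (v j') = w) ∧
          (∀ j j' : Fin t, j'.val = j.val + 1 → j'.val + 1 = t → T.a (v j) (v j') = 2 * w)) ∨
        ((∀ j : Fin t, j.val + 1 < t → T.w (v j) = 2 * w) ∧ (∀ j : Fin t, j.val + 1 = t → T.w (v j) = w) ∧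
          (∀ j j' : Fin t, j'.val = j.val + 1 → T.a (v j) (v j') = 2 * w))) := by
  let z : Fin t := ⟨0, by omega⟩
  have hW : ∀ m (hm : m + 1 < t), T.w (v ⟨m, by omega⟩) = T.w (v z) := by
    intro m
    induction m with
    | zero => intro _; rfl
    | succ m ih =>
      intro hm
      have h := hint ⟨m, by omega⟩ ⟨m + 1, by omega⟩ rfl hm
      have := (w_eq_of_rq_one T v _ _ h.1 h.2).1
      rw [← this]
      exact ih (by omega)
  have hWj : ∀ j : Fin t, j.val + 1 < t → T.w (v j) = T.w (v z) := fun j hj => hW j.val hj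
  have hA : ∀ j j' : Fin t, j'.val = j.val + 1 → j'.val + 1 < t → T.a (v j) (v j') = T.w (v z) := by
    intro j j' hjj' hj'
    have h := hint j j' hjj' hj'
    rw [(w_eq_of_rq_one T v _ _ h.1 h.2).2]
    exact hWj j (by omega)
  let p : Fin t := ⟨t - 2, by omega⟩
  let l : Fin t := ⟨t - 1, by omega⟩
  have hpl : l.val = p.val + 1 := by simp only [p, l]; omega
  have hl1 : l.val + 1 = t := by simp only [l]; omega
  have hp1 : p.val + 1 < t := by simp only [p]; omega
  have hjl : ∀ j : Fin t, j.val + 1 = t → j = l := fun j hj => Fin.ext (by simp only [l]; omega)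
  have hjp : ∀ j j' : Fin t, j'.val = j.val + 1 → j'.val + 1 = t → j = p ∧ j' = l := fun j j' h h' =>
    ⟨Fin.ext (by simp only [p]; omega), Fin.ext (by simp only [l]; omega)⟩
  have q1 := rq_mul T v p l
  have q2 := rq_mul T v l p
  have sy : T.a (v l) (v p) = T.a (v p) (v l) := a_symm T _ _
  have wp := hWj p hp1
  rcases hlast p l hpl hl1 with h | h | h
  · rw [h.1] at q1
    rw [h.2] at q2
    refine ⟨T.w (v z), Or.inl ⟨?_, ?_⟩⟩
    · intro j
      by_cases hj : j.val + 1 < t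
      · exact hWj j hj
      · rw [hjl j (by omega)]
        omega
    · intro j j' hjj'
      by_cases hj : j'.val + 1 < t
      · exact hA j j' hjj' hj
      · obtain ⟨rfl, rfl⟩ := hjp j j' hjj' (by omega)
        omega
  · rw [h.1] at q1
    rw [h.2] at q2
    refine ⟨T.w (v z), Or.inr (Or.inl ⟨hWj, ?_, hA, ?_⟩)⟩
    · intro j hj
      rw [hjl j hj]
      omega
    · intro j j' hjj' hj'
      obtain ⟨rfl, rfl⟩ := hjp j j' hjj' hj'
      omega
  · rw [h.1] at q1
    rw [h.2] at q2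
    refine ⟨T.w (v l), Or.inr (Or.inr ⟨?_, ?_, ?_⟩)⟩
    · intro j hj
      rw [hWj j hj]
      omega
    · intro j hj
      rw [hjl j hj]
    · intro j j' hjj'
      by_cases hj : j'.val + 1 < t
      · rw [hA j j' hjj' hj]
        omega
      · obtain ⟨rfl, rfl⟩ := hjp j j' hjj' (by omega)
        omega

end chain


/-- Let T be a numerical type on n indices, t > 5 with n > t, and i_1, …, i_t distinct (-2)-indices with
a_{i_j i_{j+1}} nonzero for j = 1, …, t - 1. Then, after possibly reversing the order of the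
indices, for some integer w either (A) w_{i_1} = … = w_{i_t} = w and a_{i_j i_{j+1}} = w for all j;
or (C) w_{i_1} = … = w_{i_{t-1}} = w, w_{i_t} = 2w, a_{i_j i_{j+1}} = w for j < t - 1 and a_{i_{t-1}
i_t} = 2w; or (B) w_{i_1} = … = w_{i_{t-1}} = 2w, w_{i_t} = w and a_{i_j i_{j+1}} = 2w for all j;
and in every case a_{i_j i_k} = 0 whenever k > j + 1. -/
theorem result {n : ℕ} (T : Models.NumericalType n) (t : ℕ) (ht : 5 < t) (hn : t < n)
    (v : Fin t ↪ Fin n) (hv : ∀ j, T.IsMinusTwo (v j))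
    (hchain : ∀ j j' : Fin t, j'.val = j.val + 1 → T.a (v j) (v j') ≠ 0) :
    ∃ (u : Fin t → Fin n) (w : ℤ), ((∀ j, u j = v j) ∨ (∀ j, u j = v (Fin.rev j))) ∧
      (∀ j k : Fin t, j.val + 1 < k.val → T.a (u j) (u k) = 0) ∧
      ((∀ j : Fin t, T.w (u j) = w) ∧ (∀ j j' : Fin t, j'.val = j.val + 1 → T.a (u j) (u j') = w) ∨
        ((∀ j : Fin t, j.val + 1 < t → T.w (u j) = w) ∧ (∀ j : Fin t, j.val + 1 = t → T.w (u j) = 2 * w) ∧
          (∀ j j' : Fin t, j'.val = j.val + 1 → j'.val + 1 < t → T.a (u j) (u j') = w) ∧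
          (∀ j j' : Fin t, j'.val = j.val + 1 → j'.val + 1 = t → T.a (u j) (u j') = 2 * w)) ∨
        ((∀ j : Fin t, j.val + 1 < t → T.w (u j) = 2 * w) ∧ (∀ j : Fin t, j.val + 1 = t → T.w (u j) = w) ∧
          (∀ j j' : Fin t, j'.val = j.val + 1 → T.a (u j) (u j') = 2 * w))) := by
  classical
  have hchord := no_chord T hn v hv hchain
  let a0 : Fin t := ⟨0, by omega⟩
  let a1 : Fin t := ⟨1, by omega⟩
  let b0 : Fin t := ⟨t - 2, by omega⟩
  let b1 : Fin t := ⟨t - 1, by omega⟩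
  have hb0 : b0.val + 2 = t := by simp only [b0]; omega
  have hb1 : b1.val + 1 = t := by simp only [b1]; omega
  have hf := first_edge T ht hn v hv hchain a0 a1 rfl rfl
  have hl := last_edge T ht hn v hv hchain b0 b1 hb0 hb1
  have hint := interior T ht hn v hv hchain
  by_cases hfe : Groth.Agent.Lib.helper19.rq T v a0 a1 = 1 ∧ Groth.Agent.Lib.helper19.rq T v a1 a0 = 1
  · obtain ⟨w, hw⟩ := assemble T ht v (by
      intro j j' hjj' hj'
      by_cases hj0 : j.val = 0
      · have ej : j = a0 := Fin.ext (by simp only [a0]; omega)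
        have ej' : j' = a1 := Fin.ext (by simp only [a1]; omega)
        rw [ej, ej']
        exact hfe
      · exact hint j j' hjj' (by omega) hj') (by
      intro j j' hjj' hj'
      have ej : j = b0 := Fin.ext (by simp only [b0]; omega)
      have ej' : j' = b1 := Fin.ext (by simp only [b1]; omega)
      rw [ej, ej']
      obtain ⟨h1, h2, h3⟩ := hl
      rcases h1 with h1 | h1 <;> rcases h2 with h2 | h2
      · exact Or.inl ⟨h1, h2⟩
      · exact Or.inr (Or.inr ⟨h1, h2⟩)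
      · exact Or.inr (Or.inl ⟨h1, h2⟩)
      · omega)
    exact ⟨fun j => v j, w, Or.inl (fun j => rfl), fun j k hjk => hchord j k hjk, hw⟩
  · have hprod1 : 2 ≤ Groth.Agent.Lib.helper19.rq T v a0 a1 * Groth.Agent.Lib.helper19.rq T v a1 a0 := by
      obtain ⟨h1, h2, h3⟩ := hf
      rcases h1 with h1 | h1 <;> rcases h2 with h2 | h2
      · exact absurd ⟨h1, h2⟩ hfe
      · rw [h1, h2]; norm_num
      · rw [h1, h2]; norm_num
      · rw [h1, h2]; norm_num
    have hle : Groth.Agent.Lib.helper19.rq T v b0 b1 = 1 ∧ Groth.Agent.Lib.helper19.rq T v b1 b0 = 1 := by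
      by_contra hne
      apply not_both_ends T ht hn v hv hchain a0 a1 b0 b1 rfl rfl hb0 hb1 hprod1
      obtain ⟨h1, h2, h3⟩ := hl
      rcases h1 with h1 | h1 <;> rcases h2 with h2 | h2
      · exact absurd ⟨h1, h2⟩ hne
      · rw [h1, h2]; norm_num
      · rw [h1, h2]; norm_num
      · rw [h1, h2]; norm_num
    let v' : Fin t ↪ Fin n := ⟨fun j => v (Fin.rev j), fun x y h => Fin.rev_injective (v.injective h)⟩
    have hrq : ∀ x y : Fin t, Groth.Agent.Lib.helper19.rq T v' x y =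
        Groth.Agent.Lib.helper19.rq T v (Fin.rev x) (Fin.rev y) := fun x y => rfl
    obtain ⟨w, hw⟩ := assemble T ht v' (by
      intro j j' hjj' hj'
      rw [hrq, hrq]
      by_cases hj0 : j.val = 0
      · have ej : Fin.rev j = b1 := Fin.ext (by simp only [Fin.val_rev, b1]; omega)
        have ej' : Fin.rev j' = b0 := Fin.ext (by simp only [Fin.val_rev, b0]; omega)
        rw [ej, ej']
        exact ⟨hle.2, hle.1⟩
      · have := hint (Fin.rev j') (Fin.rev j) (by simp only [Fin.val_rev]; omega)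
          (by simp only [Fin.val_rev]; omega) (by simp only [Fin.val_rev]; omega)
        exact ⟨this.2, this.1⟩) (by
      intro j j' hjj' hj'
      rw [hrq, hrq]
      have ej : Fin.rev j = a1 := Fin.ext (by simp only [Fin.val_rev, a1]; omega)
      have ej' : Fin.rev j' = a0 := Fin.ext (by simp only [Fin.val_rev, a0]; omega)
      rw [ej, ej']
      obtain ⟨h1, h2, h3⟩ := hf
      rcases h1 with h1 | h1 <;> rcases h2 with h2 | h2
      · exact absurd ⟨h1, h2⟩ hfe
      · exact Or.inr (Or.inl ⟨h2, h1⟩)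
      · exact Or.inr (Or.inr ⟨h2, h1⟩)
      · omega)
    refine ⟨fun j => v (Fin.rev j), w, Or.inr (fun j => rfl), ?_, hw⟩
    intro j k hjk
    rw [Groth.Agent.Lib.helper19.a_symm]
    exact hchord (Fin.rev k) (Fin.rev j) (by simp only [Fin.val_rev]; omega)

end Groth.Agent.S7354
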