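import Groth.Statements.S7355
import Mathlib
import Groth.Agent.Lib.Helper19.NumType
import Groth.Agent.S7346
import Groth.Agent.S7354

set_option autoImplicit false
open Finset
open Models Models.NumericalType

namespace Groth.Agent.S7355

theorem eq_one_of_mul_lt_two {x y : ℤ} (hx : 1 ≤ x) (hy : 1 ≤ y) (h : x * y < 2) :
    x = 1 ∧ y = 1 := by
  constructor
  · by_contra hne
    have : 2 ≤ x := by omega
    nlinarith
  · by_contra hne
    have : 2 ≤ y := by omega
    nlinarith

section dn
open Groth.Agent.Lib.helper19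

variable {n : ℕ} (T : Models.NumericalType n) {t : ℕ} (ht : 4 < t) (hn : t + 1 < n)
  (v : Fin (t + 1) ↪ Fin n) (hv : ∀ j, T.IsMinusTwo (v j))
  (hchain : ∀ j j' : Fin (t + 1), j'.val = j.val + 1 → j'.val < t → T.a (v j) (v j') ≠ 0)
  (hbranch : ∀ j j' : Fin (t + 1), j.val + 2 = t → j'.val = t → T.a (v j) (v j') ≠ 0)

include hchain hbranch in
theorem adj_ge (a b : Fin (t + 1))
    (hab : (b.val = a.val + 1 ∧ b.val < t) ∨ (a.val = b.val + 1 ∧ a.val < t) ∨
      (a.val + 2 = t ∧ b.val = t) ∨ (b.val + 2 = t ∧ a.val = t)) : 1 ≤ rq T v a b := by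
  have hne : a ≠ b := by
    intro e
    rw [e] at hab
    omega
  apply one_le_rq T v a b (v.injective.ne hne)
  rcases hab with hab | hab | hab | hab
  · exact hchain a b hab.1 hab.2
  · rw [a_symm]
    exact hchain b a hab.1 hab.2
  · exact hbranch a b hab.1 hab.2
  · rw [a_symm]
    exact hbranch b a hab.1 hab.2

include hn hv hchain hbranch in
theorem no_double (a b : Fin (t + 1)) (hab : b.val = a.val + 1) (hb : b.val + 2 < t)
    (h : 2 ≤ rq T v a b * rq T v b a) : False := by
  classical
  have rba : 1 ≤ rq T v b a := adj_ge T v hchain hbranch b a (Or.inr (Or.inl ⟨hab, by omega⟩))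
  let δ : Fin (t + 1) → ℤ := fun x =>
    if x.val < a.val then 0 else if x.val = a.val then rq T v b a
      else if x.val + 2 ≤ t then 2 else 1
  have hδ0 : ∀ x, 0 ≤ δ x := by
    intro x
    simp only [δ]
    split_ifs <;> omega
  have hδlow : ∀ x : Fin (t + 1), x.val < a.val → δ x = 0 := fun x h => if_pos h
  have hδa : ∀ x : Fin (t + 1), x.val = a.val → δ x = rq T v b a := fun x h => by
    simp only [δ]
    rw [if_neg (by omega), if_pos h]
  have hδmid : ∀ x : Fin (t + 1), a.val < x.val → x.val + 2 ≤ t → δ x = 2 := fun x h h' => by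
    simp only [δ]
    rw [if_neg (by omega), if_neg (by omega), if_pos h']
  have hδend : ∀ x : Fin (t + 1), a.val < x.val → t < x.val + 2 → δ x = 1 := fun x h h' => by
    simp only [δ]
    rw [if_neg (by omega), if_neg (by omega), if_neg (by omega)]
  refine no_config_rq T hn v hv δ hδ0 ⟨b, by rw [hδmid b (by omega) (by omega)]; norm_num⟩ ?_
  intro x
  have hxt := x.isLt
  by_cases hx1 : x.val < a.val
  · rw [hδlow x hx1]
    simpa using sum_ge0 T v δ hδ0 x
  by_cases hx2 : x.val = a.val
  · have ex : x = a := Fin.ext hx2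
    rw [ex, hδa a rfl]
    have hs := sum_ge1 T v δ hδ0 a b (fun e => by have := congrArg Fin.val e; omega)
    rw [hδmid b (by omega) (by omega)] at hs
    linarith
  by_cases hx3 : x.val = b.val
  · have ex : x = b := Fin.ext hx3
    rw [ex, hδmid b (by omega) (by omega)]
    let s₂ : Fin (t + 1) := ⟨b.val + 1, by omega⟩
    have hs := sum_ge2 T v δ hδ0 b a s₂ (fun e => by have := congrArg Fin.val e; omega)
      (fun e => by have := congrArg Fin.val e; simp only [s₂] at this; omega)
      (fun e => by have := congrArg Fin.val e; simp only [s₂] at this; omega)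
    rw [hδa a rfl, hδmid s₂ (by simp only [s₂]; omega) (by simp only [s₂]; omega)] at hs
    have r2 : 1 ≤ rq T v s₂ b := adj_ge T v hchain hbranch s₂ b
      (Or.inr (Or.inl ⟨by simp only [s₂], by simp only [s₂]; omega⟩))
    linarith
  by_cases hx4 : x.val + 2 < t
  · rw [hδmid x (by omega) (by omega)]
    let s₁ : Fin (t + 1) := ⟨x.val - 1, by omega⟩
    let s₂ : Fin (t + 1) := ⟨x.val + 1, by omega⟩
    have hs := sum_ge2 T v δ hδ0 x s₁ s₂
      (fun e => by have := congrArg Fin.val e; simp only [s₁] at this; omega)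
      (fun e => by have := congrArg Fin.val e; simp only [s₂] at this; omega)
      (fun e => by have := congrArg Fin.val e; simp only [s₁, s₂] at this; omega)
    rw [hδmid s₁ (by simp only [s₁]; omega) (by simp only [s₁]; omega),
      hδmid s₂ (by simp only [s₂]; omega) (by simp only [s₂]; omega)] at hs
    have r1 : 1 ≤ rq T v s₁ x := adj_ge T v hchain hbranch s₁ x
      (Or.inl ⟨by simp only [s₁]; omega, by omega⟩)
    have r2 : 1 ≤ rq T v s₂ x := adj_ge T v hchain hbranch s₂ x
      (Or.inr (Or.inl ⟨by simp only [s₂], by simp only [s₂]; omega⟩))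
    linarith
  by_cases hx5 : x.val + 2 = t
  · rw [hδmid x (by omega) (by omega)]
    let s₁ : Fin (t + 1) := ⟨x.val - 1, by omega⟩
    let s₂ : Fin (t + 1) := ⟨x.val + 1, by omega⟩
    let s₃ : Fin (t + 1) := ⟨x.val + 2, by omega⟩
    have hs := sum_ge3 T v δ hδ0 x s₁ s₂ s₃
      (fun e => by have := congrArg Fin.val e; simp only [s₁] at this; omega)
      (fun e => by have := congrArg Fin.val e; simp only [s₂] at this; omega)
      (fun e => by have := congrArg Fin.val e; simp only [s₃] at this; omega)
      (fun e => by have := congrArg Fin.val e; simp only [s₁, s₂] at this; omega)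
      (fun e => by have := congrArg Fin.val e; simp only [s₁, s₃] at this; omega)
      (fun e => by have := congrArg Fin.val e; simp only [s₂, s₃] at this; omega)
    rw [hδmid s₁ (by simp only [s₁]; omega) (by simp only [s₁]; omega),
      hδend s₂ (by simp only [s₂]; omega) (by simp only [s₂]; omega),
      hδend s₃ (by simp only [s₃]; omega) (by simp only [s₃]; omega)] at hs
    have r1 : 1 ≤ rq T v s₁ x := adj_ge T v hchain hbranch s₁ x
      (Or.inl ⟨by simp only [s₁]; omega, by omega⟩)
    have r2 : 1 ≤ rq T v s₂ x := adj_ge T v hchain hbranch s₂ x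
      (Or.inr (Or.inl ⟨by simp only [s₂], by simp only [s₂]; omega⟩))
    have r3 : 1 ≤ rq T v s₃ x := adj_ge T v hchain hbranch s₃ x
      (Or.inr (Or.inr (Or.inr ⟨hx5, by simp only [s₃]; omega⟩)))
    linarith
  by_cases hx6 : x.val + 1 = t
  · rw [hδend x (by omega) (by omega)]
    let s₁ : Fin (t + 1) := ⟨x.val - 1, by omega⟩
    have hs := sum_ge1 T v δ hδ0 x s₁
      (fun e => by have := congrArg Fin.val e; simp only [s₁] at this; omega)
    rw [hδmid s₁ (by simp only [s₁]; omega) (by simp only [s₁]; omega)] at hs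
    have r1 : 1 ≤ rq T v s₁ x := adj_ge T v hchain hbranch s₁ x
      (Or.inl ⟨by simp only [s₁]; omega, by omega⟩)
    linarith
  · have hx7 : x.val = t := by omega
    rw [hδend x (by omega) (by omega)]
    let s₁ : Fin (t + 1) := ⟨t - 2, by omega⟩
    have hs := sum_ge1 T v δ hδ0 x s₁
      (fun e => by have := congrArg Fin.val e; simp only [s₁] at this; omega)
    rw [hδmid s₁ (by simp only [s₁]; omega) (by simp only [s₁]; omega)] at hs
    have r1 : 1 ≤ rq T v s₁ x := adj_ge T v hchain hbranch s₁ x
      (Or.inr (Or.inr (Or.inl ⟨by simp only [s₁]; omega, hx7⟩)))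
    linarith

end dn

section dn2
open Groth.Agent.Lib.helper19

variable {n : ℕ} (T : Models.NumericalType n) {t : ℕ} (ht : 4 < t) (hn : t + 1 < n)
  (v : Fin (t + 1) ↪ Fin n) (hv : ∀ j, T.IsMinusTwo (v j))
  (hchain : ∀ j j' : Fin (t + 1), j'.val = j.val + 1 → j'.val < t → T.a (v j) (v j') ≠ 0)
  (hbranch : ∀ j j' : Fin (t + 1), j.val + 2 = t → j'.val = t → T.a (v j) (v j') ≠ 0)

set_option maxHeartbeats 0 in
include ht hn hv hchain hbranch in
theorem main :
    ∃ w : ℤ, (∀ j : Fin (t + 1), T.w (v j) = w) ∧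
      (∀ j j' : Fin (t + 1), j'.val = j.val + 1 → j'.val < t → T.a (v j) (v j') = w) ∧
      (∀ j j' : Fin (t + 1), j.val + 2 = t → j'.val = t → T.a (v j) (v j') = w) ∧
      (∀ j k : Fin (t + 1), j.val < k.val → ¬ (k.val = j.val + 1 ∧ k.val < t) →
        ¬ (j.val + 2 = t ∧ k.val = t) → T.a (v j) (v k) = 0) := by
  classical
  let c : Fin (t + 1) := ⟨t - 2, by omega⟩
  let p : Fin (t + 1) := ⟨t - 3, by omega⟩
  let l₁ : Fin (t + 1) := ⟨t - 1, by omega⟩
  let l₂ : Fin (t + 1) := ⟨t, by omega⟩
  have hcv : c.val = t - 2 := rfl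
  have hpv : p.val = t - 3 := rfl
  have hl₁v : l₁.val = t - 1 := rfl
  have hl₂v : l₂.val = t := rfl
  let f : Fin 4 → Fin (t + 1) := ![c, p, l₁, l₂]
  have hf : Function.Injective f := by
    intro i j h
    fin_cases i <;> fin_cases j <;>
      first
      | rfl
      | (exfalso
         have h' := congrArg Fin.val h
         simp [f] at h'
         omega)
  let u : Fin 4 ↪ Fin n := ⟨fun i => v (f i), fun i j h => hf (v.injective h)⟩
  have h01 : T.a (u 0) (u 1) ≠ 0 := by
    show T.a (v c) (v p) ≠ 0
    rw [a_symm]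
    exact hchain p c (by omega) (by omega)
  have h02 : T.a (u 0) (u 2) ≠ 0 := by
    show T.a (v c) (v l₁) ≠ 0
    exact hchain c l₁ (by omega) (by omega)
  have h03 : T.a (u 0) (u 3) ≠ 0 := by
    show T.a (v c) (v l₂) ≠ 0
    exact hbranch c l₂ (by omega) (by omega)
  obtain ⟨w, hw, e1, e2, e3, z12, z13, z23, -⟩ :=
    Groth.Agent.S7346.result T (by omega) u (fun j => hv _) h01 h02 h03
  have wc : T.w (v c) = w := hw 0
  have wp : T.w (v p) = w := hw 1
  have wl₁ : T.w (v l₁) = w := hw 2
  have wl₂ : T.w (v l₂) = w := hw 3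
  have e1' : T.a (v c) (v p) = w := e1
  have e2' : T.a (v c) (v l₁) = w := e2
  have e3' : T.a (v c) (v l₂) = w := e3
  have z23' : T.a (v l₁) (v l₂) = 0 := z23
  -- simple edges along the tail
  have hedge : ∀ a b : Fin (t + 1), b.val = a.val + 1 → b.val + 2 < t →
      T.w (v a) = T.w (v b) ∧ T.a (v a) (v b) = T.w (v a) := by
    intro a b hab hb
    have r1 := adj_ge T v hchain hbranch a b (Or.inl ⟨hab, by omega⟩)
    have r2 := adj_ge T v hchain hbranch b a (Or.inr (Or.inl ⟨hab, by omega⟩))
    have h3 : rq T v a b * rq T v b a < 2 := by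
      by_contra hcon
      exact no_double T hn v hv hchain hbranch a b hab hb (not_lt.1 hcon)
    obtain ⟨q1, q2⟩ := eq_one_of_mul_lt_two r1 r2 h3
    exact w_eq_of_rq_one T v a b q1 q2
  have hWlow : ∀ d : ℕ, ∀ j : Fin (t + 1), j.val + d + 3 = t → T.w (v j) = w := by
    intro d
    induction d with
    | zero =>
      intro j hj
      have : j = p := Fin.ext (by omega)
      rw [this]; exact wp
    | succ d ih =>
      intro j hj
      have hjt := j.isLt
      let j' : Fin (t + 1) := ⟨j.val + 1, by omega⟩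
      have h1 := ih j' (by simp only [j']; omega)
      have h2 := (hedge j j' rfl (by simp only [j']; omega)).1
      rw [h2]; exact h1
  have hW : ∀ j : Fin (t + 1), T.w (v j) = w := by
    intro j
    have hjt := j.isLt
    by_cases h1 : j.val + 3 ≤ t
    · exact hWlow (t - 3 - j.val) j (by omega)
    by_cases h2 : j.val + 2 = t
    · have : j = c := Fin.ext (by omega)
      rw [this]; exact wc
    by_cases h3 : j.val + 1 = t
    · have : j = l₁ := Fin.ext (by omega)
      rw [this]; exact wl₁
    · have : j = l₂ := Fin.ext (by omega)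
      rw [this]; exact wl₂
  refine ⟨w, hW, ?_, ?_, ?_⟩
  · intro j j' hjj' hj'
    by_cases h1 : j'.val + 2 < t
    · rw [(hedge j j' hjj' h1).2]; exact hW j
    by_cases h2 : j'.val + 2 = t
    · have ej : j = p := Fin.ext (by omega)
      have ej' : j' = c := Fin.ext (by omega)
      rw [ej, ej', a_symm]; exact e1'
    · have ej : j = c := Fin.ext (by omega)
      have ej' : j' = l₁ := Fin.ext (by omega)
      rw [ej, ej']; exact e2'
  · intro j j' hj hj'
    have ej : j = c := Fin.ext (by omega)
    have ej' : j' = l₂ := Fin.ext (by omega)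
    rw [ej, ej']; exact e3'
  · intro j k hjk hne1 hne2
    have hjt := j.isLt
    have hkt := k.isLt
    by_cases hk : k.val < t
    · -- chord in the main chain
      let c1 : Fin t ↪ Fin n := ⟨fun x => v ⟨x.val, by omega⟩, fun x y h => by
        have := v.injective h
        simp only [Fin.mk.injEq] at this
        exact Fin.ext this⟩
      have hch1 : ∀ x x' : Fin t, x'.val = x.val + 1 → T.a (c1 x) (c1 x') ≠ 0 :=
        fun x x' h => hchain ⟨x.val, by omega⟩ ⟨x'.val, by omega⟩ h x'.isLt
      exact Groth.Agent.S7354.no_chord T (by omega : t < n) c1 (fun x => hv _) hch1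
        ⟨j.val, by omega⟩ ⟨k.val, hk⟩ (by simp only; omega)
    · have hkt' : k.val = t := by omega
      have ek : k = l₂ := Fin.ext (by omega)
      by_cases hj1 : j.val + 1 = t
      · have ej : j = l₁ := Fin.ext (by omega)
        rw [ej, ek]; exact z23'
      · have hj3 : j.val + 3 ≤ t := by omega
        let c2 : Fin t ↪ Fin n := ⟨fun x => v ⟨if x.val + 1 = t then t else x.val, by
            split_ifs <;> omega⟩, fun x y h => by
          have := v.injective h
          simp only [Fin.mk.injEq] at this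
          have hx := x.isLt
          have hy := y.isLt
          apply Fin.ext
          split_ifs at this <;> omega⟩
        have hc2a : ∀ x : Fin t, x.val + 1 ≠ t → c2 x = v ⟨x.val, by omega⟩ :=
          fun x hx => congrArg v (Fin.ext (if_neg hx))
        have hc2b : ∀ x : Fin t, x.val + 1 = t → c2 x = v l₂ :=
          fun x hx => congrArg v (Fin.ext (if_pos hx))
        have hch2 : ∀ x x' : Fin t, x'.val = x.val + 1 → T.a (c2 x) (c2 x') ≠ 0 := by
          intro x x' h
          have hx' := x'.isLt
          by_cases hl : x'.val + 1 = t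
          · rw [hc2a x (by omega), hc2b x' hl]
            exact hbranch ⟨x.val, by omega⟩ l₂ (by simp only; omega) rfl
          · rw [hc2a x (by omega), hc2a x' hl]
            exact hchain ⟨x.val, by omega⟩ ⟨x'.val, by omega⟩ h (by simp only; omega)
        have := Groth.Agent.S7354.no_chord T (by omega : t < n) c2 (fun x => hv _) hch2
          ⟨j.val, by omega⟩ ⟨t - 1, by omega⟩ (by simp only; omega)
        rw [hc2a _ (by simp only; omega), hc2b _ (by simp only; omega)] at this
        rw [ek]; exact this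

end dn2

/-- Classification of proper subgraphs of type D: let T be a numerical type on n indices, t > 4 with n >
t + 1, and i_1, …, i_{t+1} distinct (-2)-indices such that a_{i_j i_{j+1}} is nonzero for j = 1, …,
t - 1 and a_{i_{t-1} i_{t+1}} is nonzero. Then for some integer w one has w_{i_1} = … = w_{i_{t+1}}
= w, a_{i_j i_{j+1}} = w for j < t, a_{i_{t-1} i_{t+1}} = w, and a_{i_j i_k} = 0 for all other pairs
j ≠ k. -/
theorem result {n : ℕ} (T : Models.NumericalType n) (t : ℕ) (ht : 4 < t) (hn : t + 1 < n)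
    (v : Fin (t + 1) ↪ Fin n) (hv : ∀ j, T.IsMinusTwo (v j))
    (hchain : ∀ j j' : Fin (t + 1), j'.val = j.val + 1 → j'.val < t → T.a (v j) (v j') ≠ 0)
    (hbranch : ∀ j j' : Fin (t + 1), j.val + 2 = t → j'.val = t → T.a (v j) (v j') ≠ 0) :
    ∃ w : ℤ, (∀ j : Fin (t + 1), T.w (v j) = w) ∧
      (∀ j j' : Fin (t + 1), j'.val = j.val + 1 → j'.val < t → T.a (v j) (v j') = w) ∧
      (∀ j j' : Fin (t + 1), j.val + 2 = t → j'.val = t → T.a (v j) (v j') = w) ∧
      (∀ j k : Fin (t + 1), j.val < k.val → ¬ (k.val = j.val + 1 ∧ k.val < t) → ¬ (j.val + 2 = t ∧ k.val = t) →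
        T.a (v j) (v k) = 0) := by
  exact main T ht hn v hv hchain hbranch

end Groth.Agent.S7355
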