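import Groth.Statements.S7362
import Mathlib
import Groth.Agent.S7316
import Groth.Agent.S7317
import Groth.Agent.S2173

set_option autoImplicit false
open Finset
open Models Models.NumericalType

namespace Groth.Agent.S7362

/-- in a minimal numerical type of genus one on more than one index, every index is a (-2)-index -/
theorem all_minusTwo {n : ℕ} (T : Models.NumericalType n) (hn : 1 < n) (hmin : T.IsMinimal)
    (hg : T.genus = 1) (i : Fin n) : T.IsMinusTwo i := by
  have heven := Groth.Agent.S2173.result T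
  obtain ⟨c, hc⟩ := heven
  have hgen : (∑ i, T.m i * T.w i * (T.g i - 1)) = c := by
    have h1 : T.genus = 1 + (∑ i, T.m i * T.w i * (T.g i - 1)) - (∑ i, T.m i * T.a i i) / 2 := rfl
    rw [hg, hc, Int.mul_ediv_cancel_left c (by norm_num : (2 : ℤ) ≠ 0)] at h1
    linarith
  have hsum : ∑ i, T.m i * (2 * T.w i * (T.g i - 1) - T.a i i) = 0 := by
    have : ∀ i, T.m i * (2 * T.w i * (T.g i - 1) - T.a i i) =
        2 * (T.m i * T.w i * (T.g i - 1)) - T.m i * T.a i i := fun i => by ring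
    simp_rw [this]
    rw [Finset.sum_sub_distrib, ← Finset.mul_sum, hgen, hc]
    ring
  have hnonneg : ∀ j ∈ (Finset.univ : Finset (Fin n)),
      0 ≤ T.m j * (2 * T.w j * (T.g j - 1) - T.a j j) := by
    intro j _
    by_contra hneg
    exact hmin j (Groth.Agent.S7316.result T hn j (not_le.1 hneg))
  have hzero := (Finset.sum_eq_zero_iff_of_nonneg hnonneg).1 hsum i (Finset.mem_univ i)
  exact Groth.Agent.S7317.result T hn i hzero


/-- Genus one classification: case n = 2: let T be a minimal numerical type of genus 1 on two indices.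
Then for some ordering i, j of the indices and some integers m, w, either m_i = m_j = m, a_ii = a_jj
= -2w, a_ij = 2w, w_i = w_j = w, g_i = g_j = 0; or m_i = 2m, m_j = m, a_ii = -2w, a_ij = 4w, a_jj =
-8w, w_i = w, w_j = 4w, g_i = g_j = 0. Only the classification direction is stated. -/
theorem result (T : Models.NumericalType 2) (hmin : T.IsMinimal) (hg : T.genus = 1) :
    ∃ (i j : Fin 2) (m w : ℤ), i ≠ j ∧ T.g i = 0 ∧ T.g j = 0 ∧
      ((T.m i = m ∧ T.m j = m ∧ T.a i i = -2 * w ∧ T.a i j = 2 * w ∧ T.a j j = -2 * w ∧ T.w i = w ∧ T.w j = w) ∨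
        (T.m i = 2 * m ∧ T.m j = m ∧ T.a i i = -2 * w ∧ T.a i j = 4 * w ∧ T.a j j = -8 * w ∧ T.w i = w ∧ T.w j = 4 * w)) := by
  have h0 := all_minusTwo T (by norm_num) hmin hg 0
  have h1 := all_minusTwo T (by norm_num) hmin hg 1
  obtain ⟨hg0, ha00⟩ := h0
  obtain ⟨hg1, ha11⟩ := h1
  have hsymm : T.a 1 0 = T.a 0 1 := by
    have := T.symm
    exact congrFun (congrFun this 0) 1
  have hb_nonneg : 0 ≤ T.a 0 1 := T.offDiag_nonneg 0 1 (by decide)
  have hb_ne : T.a 0 1 ≠ 0 := by
    obtain ⟨i, hi, j, hj, hij⟩ := T.connected {0} ⟨0, Finset.mem_singleton_self 0⟩ (by decide)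
    rw [Finset.mem_singleton] at hi
    subst hi
    have hj1 : j = 1 := by
      rw [Finset.mem_singleton] at hj
      fin_cases j
      · exact absurd rfl hj
      · rfl
    subst hj1
    exact hij
  have hb_pos : 0 < T.a 0 1 := lt_of_le_of_ne hb_nonneg (Ne.symm hb_ne)
  have hm0 := T.m_pos 0
  have hm1 := T.m_pos 1
  have hw0 := T.w_pos 0
  have hw1 := T.w_pos 1
  have hrow0 : T.a 0 0 * T.m 0 + T.a 0 1 * T.m 1 = 0 := by
    have := congrFun T.mulVec_m 0
    simpa [Matrix.mulVec, dotProduct, Fin.sum_univ_two] using this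
  have hrow1 : T.a 1 0 * T.m 0 + T.a 1 1 * T.m 1 = 0 := by
    have := congrFun T.mulVec_m 1
    simpa [Matrix.mulVec, dotProduct, Fin.sum_univ_two] using this
  obtain ⟨α, hα⟩ := T.w_dvd 0 1
  obtain ⟨β, hβ'⟩ := T.w_dvd 1 0
  have hβ : T.a 0 1 = T.w 1 * β := by rw [← hsymm]; exact hβ'
  rw [hsymm] at hrow1
  rw [ha00, hα] at hrow0
  rw [ha11, hβ] at hrow1
  have hαpos : 0 < α := by
    by_contra h
    have : T.w 0 * α ≤ 0 := mul_nonpos_of_nonneg_of_nonpos hw0.le (not_lt.1 h)
    rw [← hα] at this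
    exact absurd hb_pos (not_lt.2 this)
  have hβpos : 0 < β := by
    by_contra h
    have : T.w 1 * β ≤ 0 := mul_nonpos_of_nonneg_of_nonpos hw1.le (not_lt.1 h)
    rw [← hβ] at this
    exact absurd hb_pos (not_lt.2 this)
  -- α m₁ = 2 m₀ and β m₀ = 2 m₁
  have e0 : α * T.m 1 = 2 * T.m 0 := by
    have : T.w 0 * (α * T.m 1 - 2 * T.m 0) = 0 := by linarith [hrow0]
    rcases mul_eq_zero.1 this with h | h
    · exact absurd h hw0.ne'
    · linarith
  have e1 : β * T.m 0 = 2 * T.m 1 := by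
    have : T.w 1 * (β * T.m 0 - 2 * T.m 1) = 0 := by linarith [hrow1]
    rcases mul_eq_zero.1 this with h | h
    · exact absurd h hw1.ne'
    · linarith
  have hαβ : α * β = 4 := by
    have h2 : (α * β - 4) * (T.m 0 * T.m 1) = 0 := by
      have : (α * T.m 1) * (β * T.m 0) = (2 * T.m 0) * (2 * T.m 1) := by rw [e0, e1]
      nlinarith [this]
    rcases mul_eq_zero.1 h2 with h | h
    · linarith
    · exact absurd h (mul_pos hm0 hm1).ne'
  have hα4 : α ≤ 4 := by nlinarith
  have hβ4 : β ≤ 4 := by nlinarith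
  have hww : T.w 0 * α = T.w 1 * β := by rw [← hα, ← hβ]
  interval_cases α <;> interval_cases β <;> try omega
  · -- α = 1, β = 4
    refine ⟨1, 0, T.m 0, T.w 1, by decide, hg1, hg0, Or.inr ?_⟩
    refine ⟨by omega, rfl, by rw [ha11], by rw [hsymm, hβ]; ring, by rw [ha00]; omega, rfl, by omega⟩
  · -- α = 2, β = 2
    refine ⟨0, 1, T.m 0, T.w 0, by decide, hg0, hg1, Or.inl ?_⟩
    refine ⟨rfl, by omega, by rw [ha00], by rw [hα]; ring, by rw [ha11]; omega, rfl, by omega⟩
  · -- α = 4, β = 1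
    refine ⟨0, 1, T.m 1, T.w 0, by decide, hg0, hg1, Or.inr ?_⟩
    refine ⟨by omega, rfl, by rw [ha00], by rw [hα]; ring, by rw [ha11]; omega, rfl, by omega⟩

end Groth.Agent.S7362
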