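import Groth.Statements.S7363
import Mathlib
import Groth.Agent.S7362

set_option autoImplicit false
open Finset
open Models Models.NumericalType

namespace Groth.Agent.S7363

set_option maxHeartbeats 0 in
theorem main3 (T : Models.NumericalType 3) (hmin : T.IsMinimal) (hg : T.genus = 1) :
    ∃ (i j k : Fin 3) (m w : ℤ), i ≠ j ∧ j ≠ k ∧ i ≠ k ∧ T.g i = 0 ∧ T.g j = 0 ∧ T.g k = 0 ∧
      ((T.m i = m ∧ T.m j = m ∧ T.m k = m ∧ T.a i i = -2 * w ∧ T.a j j = -2 * w ∧ T.a k k = -2 * w ∧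
          T.a i j = w ∧ T.a i k = w ∧ T.a j k = w ∧ T.w i = w ∧ T.w j = w ∧ T.w k = w) ∨
        (T.m i = m ∧ T.m j = 2 * m ∧ T.m k = m ∧ T.a i i = -2 * w ∧ T.a i j = w ∧ T.a i k = 0 ∧ T.a j j = -2 * w ∧
          T.a j k = 3 * w ∧ T.a k k = -6 * w ∧ T.w i = w ∧ T.w j = w ∧ T.w k = 3 * w) ∨
        (T.m i = m ∧ T.m j = 2 * m ∧ T.m k = 3 * m ∧ T.a i i = -6 * w ∧ T.a i j = 3 * w ∧ T.a i k = 0 ∧ T.a j j = -6 * w ∧
          T.a j k = 3 * w ∧ T.a k k = -2 * w ∧ T.w i = 3 * w ∧ T.w j = 3 * w ∧ T.w k = w) ∨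
        (T.m i = 2 * m ∧ T.m j = 2 * m ∧ T.m k = m ∧ T.a i i = -2 * w ∧ T.a i j = 2 * w ∧ T.a i k = 0 ∧ T.a j j = -4 * w ∧
          T.a j k = 4 * w ∧ T.a k k = -8 * w ∧ T.w i = w ∧ T.w j = 2 * w ∧ T.w k = 4 * w) ∨
        (T.m i = m ∧ T.m j = m ∧ T.m k = m ∧ T.a i i = -2 * w ∧ T.a i j = 2 * w ∧ T.a i k = 0 ∧ T.a j j = -4 * w ∧
          T.a j k = 2 * w ∧ T.a k k = -2 * w ∧ T.w i = w ∧ T.w j = 2 * w ∧ T.w k = w) ∨
        (T.m i = m ∧ T.m j = 2 * m ∧ T.m k = m ∧ T.a i i = -4 * w ∧ T.a i j = 2 * w ∧ T.a i k = 0 ∧ T.a j j = -2 * w ∧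
          T.a j k = 2 * w ∧ T.a k k = -4 * w ∧ T.w i = 2 * w ∧ T.w j = w ∧ T.w k = 2 * w)) := by
  have hall := fun i => Groth.Agent.S7362.all_minusTwo T (by norm_num) hmin hg i
  obtain ⟨hg0, ha00⟩ := hall 0
  obtain ⟨hg1, ha11⟩ := hall 1
  obtain ⟨hg2, ha22⟩ := hall 2
  have hs : ∀ i j, T.a i j = T.a j i := fun i j => congrFun (congrFun T.symm j) i
  have hm0 := T.m_pos 0
  have hm1 := T.m_pos 1
  have hm2 := T.m_pos 2
  have hw0 := T.w_pos 0
  have hw1 := T.w_pos 1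
  have hw2 := T.w_pos 2
  have hrow : ∀ i, T.a i 0 * T.m 0 + T.a i 1 * T.m 1 + T.a i 2 * T.m 2 = 0 := by
    intro i
    have := congrFun T.mulVec_m i
    simpa [Matrix.mulVec, dotProduct, Fin.sum_univ_three] using this
  obtain ⟨α01, h01⟩ := T.w_dvd 0 1
  obtain ⟨α10, h10⟩ := T.w_dvd 1 0
  obtain ⟨α02, h02⟩ := T.w_dvd 0 2
  obtain ⟨α20, h20⟩ := T.w_dvd 2 0
  obtain ⟨α12, h12⟩ := T.w_dvd 1 2
  obtain ⟨α21, h21⟩ := T.w_dvd 2 1
  have nn : ∀ (i j : Fin 3) (α : ℤ), i ≠ j → T.a i j = T.w i * α → 0 ≤ α := by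
    intro i j α hij h
    have h1 := T.offDiag_nonneg i j hij
    rw [h] at h1
    by_contra hneg
    have : T.w i * α < 0 := mul_neg_of_pos_of_neg (T.w_pos i) (not_le.1 hneg)
    omega
  have n01 := nn 0 1 α01 (by decide) h01
  have n10 := nn 1 0 α10 (by decide) h10
  have n02 := nn 0 2 α02 (by decide) h02
  have n20 := nn 2 0 α20 (by decide) h20
  have n12 := nn 1 2 α12 (by decide) h12
  have n21 := nn 2 1 α21 (by decide) h21
  -- the row equations divided by w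
  have e0 : α01 * T.m 1 + α02 * T.m 2 = 2 * T.m 0 := by
    have h := hrow 0
    rw [ha00, h01, h02] at h
    have : T.w 0 * (α01 * T.m 1 + α02 * T.m 2 - 2 * T.m 0) = 0 := by linarith
    rcases mul_eq_zero.1 this with h' | h'
    · exact absurd h' hw0.ne'
    · linarith
  have e1 : α10 * T.m 0 + α12 * T.m 2 = 2 * T.m 1 := by
    have h := hrow 1
    rw [ha11, h10, h12] at h
    have : T.w 1 * (α10 * T.m 0 + α12 * T.m 2 - 2 * T.m 1) = 0 := by linarith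
    rcases mul_eq_zero.1 this with h' | h'
    · exact absurd h' hw1.ne'
    · linarith
  have e2 : α20 * T.m 0 + α21 * T.m 1 = 2 * T.m 2 := by
    have h := hrow 2
    rw [ha22, h20, h21] at h
    have : T.w 2 * (α20 * T.m 0 + α21 * T.m 1 - 2 * T.m 2) = 0 := by linarith
    rcases mul_eq_zero.1 this with h' | h'
    · exact absurd h' hw2.ne'
    · linarith
  -- symmetric relations between the w's
  have s01 : T.w 0 * α01 = T.w 1 * α10 := by rw [← h01, ← h10, hs 0 1]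
  have s02 : T.w 0 * α02 = T.w 2 * α20 := by rw [← h02, ← h20, hs 0 2]
  have s12 : T.w 1 * α12 = T.w 2 * α21 := by rw [← h12, ← h21, hs 1 2]
  -- bounds
  have bnd : ∀ (x y p q : ℤ), 0 < p → 0 < q → 0 ≤ x → 0 ≤ y → x * q ≤ 2 * p → y * p ≤ 2 * q →
      x * y ≤ 4 := by
    intro x y p q hp hq hx hy h1 h2
    by_contra hcon
    have h3 : (x * q) * (y * p) ≤ (2 * p) * (2 * q) :=
      mul_le_mul h1 h2 (mul_nonneg hy hp.le) (by positivity)
    have h4 : 0 < p * q := mul_pos hp hq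
    nlinarith
  have b01 : α01 * α10 ≤ 4 := bnd α01 α10 (T.m 0) (T.m 1) hm0 hm1 n01 n10
    (by nlinarith [mul_nonneg n02 hm2.le]) (by nlinarith [mul_nonneg n12 hm2.le])
  have b02 : α02 * α20 ≤ 4 := bnd α02 α20 (T.m 0) (T.m 2) hm0 hm2 n02 n20
    (by nlinarith [mul_nonneg n01 hm1.le]) (by nlinarith [mul_nonneg n21 hm1.le])
  have b12 : α12 * α21 ≤ 4 := bnd α12 α21 (T.m 1) (T.m 2) hm1 hm2 n12 n21
    (by nlinarith [mul_nonneg n10 hm0.le]) (by nlinarith [mul_nonneg n20 hm0.le])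
  have ub : ∀ (x y p q : ℤ), 0 < p → 0 < q → 0 ≤ x → 0 ≤ y → p * x = q * y → x * y ≤ 4 → x ≤ 4 := by
    intro x y p q hp hq hx hy h1 h2
    by_contra hcon
    have hx5 : 5 ≤ x := by omega
    rcases eq_or_lt_of_le hy with h0 | hpos
    · rw [← h0, mul_zero] at h1
      rcases mul_eq_zero.1 h1 with h' | h'
      · omega
      · omega
    · nlinarith
  have u01 := ub α01 α10 _ _ hw0 hw1 n01 n10 s01 b01
  have u10 := ub α10 α01 _ _ hw1 hw0 n10 n01 s01.symm (by rw [mul_comm]; exact b01)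
  have u02 := ub α02 α20 _ _ hw0 hw2 n02 n20 s02 b02
  have u20 := ub α20 α02 _ _ hw2 hw0 n20 n02 s02.symm (by rw [mul_comm]; exact b02)
  have u12 := ub α12 α21 _ _ hw1 hw2 n12 n21 s12 b12
  have u21 := ub α21 α12 _ _ hw2 hw1 n21 n12 s12.symm (by rw [mul_comm]; exact b12)
  have hs10 := hs 1 0
  have hs20 := hs 2 0
  have hs21 := hs 2 1
  clear hrow nn bnd ub hall hs hmin hg
  interval_cases α01 <;> interval_cases α10 <;> (try omega) <;>
  interval_cases α02 <;> interval_cases α20 <;> (try omega) <;>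
  interval_cases α12 <;> interval_cases α21 <;>
    (first
      | omega
      | exact ⟨0, 1, 2, T.m 0, T.w 0, by decide, by decide, by decide, hg0, hg1, hg2, Or.inl (by omega)⟩
      | exact ⟨0, 1, 2, T.m 0, T.w 0, by decide, by decide, by decide, hg0, hg1, hg2, Or.inr (Or.inl (by omega))⟩
      | exact ⟨0, 1, 2, T.m 0, T.w 2, by decide, by decide, by decide, hg0, hg1, hg2, Or.inr (Or.inr (Or.inl (by omega)))⟩
      | exact ⟨0, 1, 2, T.m 2, T.w 0, by decide, by decide, by decide, hg0, hg1, hg2, Or.inr (Or.inr (Or.inr (Or.inl (by omega))))⟩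
      | exact ⟨0, 1, 2, T.m 0, T.w 0, by decide, by decide, by decide, hg0, hg1, hg2, Or.inr (Or.inr (Or.inr (Or.inr (Or.inl (by omega)))))⟩
      | exact ⟨0, 1, 2, T.m 0, T.w 1, by decide, by decide, by decide, hg0, hg1, hg2, Or.inr (Or.inr (Or.inr (Or.inr (Or.inr (by omega)))))⟩
      | exact ⟨0, 2, 1, T.m 0, T.w 0, by decide, by decide, by decide, hg0, hg2, hg1, Or.inl (by omega)⟩
      | exact ⟨0, 2, 1, T.m 0, T.w 0, by decide, by decide, by decide, hg0, hg2, hg1, Or.inr (Or.inl (by omega))⟩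
      | exact ⟨0, 2, 1, T.m 0, T.w 1, by decide, by decide, by decide, hg0, hg2, hg1, Or.inr (Or.inr (Or.inl (by omega)))⟩
      | exact ⟨0, 2, 1, T.m 1, T.w 0, by decide, by decide, by decide, hg0, hg2, hg1, Or.inr (Or.inr (Or.inr (Or.inl (by omega))))⟩
      | exact ⟨0, 2, 1, T.m 0, T.w 0, by decide, by decide, by decide, hg0, hg2, hg1, Or.inr (Or.inr (Or.inr (Or.inr (Or.inl (by omega)))))⟩
      | exact ⟨0, 2, 1, T.m 0, T.w 2, by decide, by decide, by decide, hg0, hg2, hg1, Or.inr (Or.inr (Or.inr (Or.inr (Or.inr (by omega)))))⟩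
      | exact ⟨1, 0, 2, T.m 1, T.w 1, by decide, by decide, by decide, hg1, hg0, hg2, Or.inl (by omega)⟩
      | exact ⟨1, 0, 2, T.m 1, T.w 1, by decide, by decide, by decide, hg1, hg0, hg2, Or.inr (Or.inl (by omega))⟩
      | exact ⟨1, 0, 2, T.m 1, T.w 2, by decide, by decide, by decide, hg1, hg0, hg2, Or.inr (Or.inr (Or.inl (by omega)))⟩
      | exact ⟨1, 0, 2, T.m 2, T.w 1, by decide, by decide, by decide, hg1, hg0, hg2, Or.inr (Or.inr (Or.inr (Or.inl (by omega))))⟩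
      | exact ⟨1, 0, 2, T.m 1, T.w 1, by decide, by decide, by decide, hg1, hg0, hg2, Or.inr (Or.inr (Or.inr (Or.inr (Or.inl (by omega)))))⟩
      | exact ⟨1, 0, 2, T.m 1, T.w 0, by decide, by decide, by decide, hg1, hg0, hg2, Or.inr (Or.inr (Or.inr (Or.inr (Or.inr (by omega)))))⟩
      | exact ⟨1, 2, 0, T.m 1, T.w 1, by decide, by decide, by decide, hg1, hg2, hg0, Or.inl (by omega)⟩
      | exact ⟨1, 2, 0, T.m 1, T.w 1, by decide, by decide, by decide, hg1, hg2, hg0, Or.inr (Or.inl (by omega))⟩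
      | exact ⟨1, 2, 0, T.m 1, T.w 0, by decide, by decide, by decide, hg1, hg2, hg0, Or.inr (Or.inr (Or.inl (by omega)))⟩
      | exact ⟨1, 2, 0, T.m 0, T.w 1, by decide, by decide, by decide, hg1, hg2, hg0, Or.inr (Or.inr (Or.inr (Or.inl (by omega))))⟩
      | exact ⟨1, 2, 0, T.m 1, T.w 1, by decide, by decide, by decide, hg1, hg2, hg0, Or.inr (Or.inr (Or.inr (Or.inr (Or.inl (by omega)))))⟩
      | exact ⟨1, 2, 0, T.m 1, T.w 2, by decide, by decide, by decide, hg1, hg2, hg0, Or.inr (Or.inr (Or.inr (Or.inr (Or.inr (by omega)))))⟩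
      | exact ⟨2, 0, 1, T.m 2, T.w 2, by decide, by decide, by decide, hg2, hg0, hg1, Or.inl (by omega)⟩
      | exact ⟨2, 0, 1, T.m 2, T.w 2, by decide, by decide, by decide, hg2, hg0, hg1, Or.inr (Or.inl (by omega))⟩
      | exact ⟨2, 0, 1, T.m 2, T.w 1, by decide, by decide, by decide, hg2, hg0, hg1, Or.inr (Or.inr (Or.inl (by omega)))⟩
      | exact ⟨2, 0, 1, T.m 1, T.w 2, by decide, by decide, by decide, hg2, hg0, hg1, Or.inr (Or.inr (Or.inr (Or.inl (by omega))))⟩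
      | exact ⟨2, 0, 1, T.m 2, T.w 2, by decide, by decide, by decide, hg2, hg0, hg1, Or.inr (Or.inr (Or.inr (Or.inr (Or.inl (by omega)))))⟩
      | exact ⟨2, 0, 1, T.m 2, T.w 0, by decide, by decide, by decide, hg2, hg0, hg1, Or.inr (Or.inr (Or.inr (Or.inr (Or.inr (by omega)))))⟩
      | exact ⟨2, 1, 0, T.m 2, T.w 2, by decide, by decide, by decide, hg2, hg1, hg0, Or.inl (by omega)⟩
      | exact ⟨2, 1, 0, T.m 2, T.w 2, by decide, by decide, by decide, hg2, hg1, hg0, Or.inr (Or.inl (by omega))⟩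
      | exact ⟨2, 1, 0, T.m 2, T.w 0, by decide, by decide, by decide, hg2, hg1, hg0, Or.inr (Or.inr (Or.inl (by omega)))⟩
      | exact ⟨2, 1, 0, T.m 0, T.w 2, by decide, by decide, by decide, hg2, hg1, hg0, Or.inr (Or.inr (Or.inr (Or.inl (by omega))))⟩
      | exact ⟨2, 1, 0, T.m 2, T.w 2, by decide, by decide, by decide, hg2, hg1, hg0, Or.inr (Or.inr (Or.inr (Or.inr (Or.inl (by omega)))))⟩
      | exact ⟨2, 1, 0, T.m 2, T.w 1, by decide, by decide, by decide, hg2, hg1, hg0, Or.inr (Or.inr (Or.inr (Or.inr (Or.inr (by omega)))))⟩)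


/-- Genus one classification: case n = 3: let T be a minimal numerical type of genus 1 on three indices.
Then all g = 0 and, for some ordering i, j, k of the indices and some integers m, w, the data (m; a;
w) is one of: (m,m,m; a_ii = a_jj = a_kk = -2w, a_ij = a_ik = a_jk = w; w,w,w); (m,2m,m; a_ii = -2w,
a_ij = w, a_ik = 0, a_jj = -2w, a_jk = 3w, a_kk = -6w; w,w,3w); (m,2m,3m; a_ii = -6w, a_ij = 3w,
a_ik = 0, a_jj = -6w, a_jk = 3w, a_kk = -2w; 3w,3w,w); (2m,2m,m; a_ii = -2w, a_ij = 2w, a_ik = 0,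
a_jj = -4w, a_jk = 4w, a_kk = -8w; w,2w,4w); (m,m,m; a_ii = -2w, a_ij = 2w, a_ik = 0, a_jj = -4w,
a_jk = 2w, a_kk = -2w; w,2w,w); (m,2m,m; a_ii = -4w, a_ij = 2w, a_ik = 0, a_jj = -2w, a_jk = 2w,
a_kk = -4w; 2w,w,2w). Only the classification direction is stated. -/
theorem result (T : Models.NumericalType 3) (hmin : T.IsMinimal) (hg : T.genus = 1) :
    ∃ (i j k : Fin 3) (m w : ℤ), i ≠ j ∧ j ≠ k ∧ i ≠ k ∧ T.g i = 0 ∧ T.g j = 0 ∧ T.g k = 0 ∧
      ((T.m i = m ∧ T.m j = m ∧ T.m k = m ∧ T.a i i = -2 * w ∧ T.a j j = -2 * w ∧ T.a k k = -2 * w ∧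
          T.a i j = w ∧ T.a i k = w ∧ T.a j k = w ∧ T.w i = w ∧ T.w j = w ∧ T.w k = w) ∨
        (T.m i = m ∧ T.m j = 2 * m ∧ T.m k = m ∧ T.a i i = -2 * w ∧ T.a i j = w ∧ T.a i k = 0 ∧ T.a j j = -2 * w ∧
          T.a j k = 3 * w ∧ T.a k k = -6 * w ∧ T.w i = w ∧ T.w j = w ∧ T.w k = 3 * w) ∨
        (T.m i = m ∧ T.m j = 2 * m ∧ T.m k = 3 * m ∧ T.a i i = -6 * w ∧ T.a i j = 3 * w ∧ T.a i k = 0 ∧ T.a j j = -6 * w ∧
          T.a j k = 3 * w ∧ T.a k k = -2 * w ∧ T.w i = 3 * w ∧ T.w j = 3 * w ∧ T.w k = w) ∨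
        (T.m i = 2 * m ∧ T.m j = 2 * m ∧ T.m k = m ∧ T.a i i = -2 * w ∧ T.a i j = 2 * w ∧ T.a i k = 0 ∧ T.a j j = -4 * w ∧
          T.a j k = 4 * w ∧ T.a k k = -8 * w ∧ T.w i = w ∧ T.w j = 2 * w ∧ T.w k = 4 * w) ∨
        (T.m i = m ∧ T.m j = m ∧ T.m k = m ∧ T.a i i = -2 * w ∧ T.a i j = 2 * w ∧ T.a i k = 0 ∧ T.a j j = -4 * w ∧
          T.a j k = 2 * w ∧ T.a k k = -2 * w ∧ T.w i = w ∧ T.w j = 2 * w ∧ T.w k = w) ∨
        (T.m i = m ∧ T.m j = 2 * m ∧ T.m k = m ∧ T.a i i = -4 * w ∧ T.a i j = 2 * w ∧ T.a i k = 0 ∧ T.a j j = -2 * w ∧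
          T.a j k = 2 * w ∧ T.a k k = -4 * w ∧ T.w i = 2 * w ∧ T.w j = w ∧ T.w k = 2 * w)) := by
  exact main3 T hmin hg

end Groth.Agent.S7363
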