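import Groth.Statements.S7364
import Mathlib
import Groth.Agent.S7362

set_option autoImplicit false
open Finset
open Models Models.NumericalType

namespace Groth.Agent.S7364


theorem pair_cases (α β p q : ℤ) (hp : 0 < p) (hq : 0 < q) (hα : 0 ≤ α) (hβ : 0 ≤ β)
    (h : p * α = q * β) (hb : α * β ≤ 4) :
    (α = 0 ∧ β = 0) ∨ (α = 1 ∧ β = 1) ∨ (α = 1 ∧ β = 2) ∨ (α = 2 ∧ β = 1) ∨ (α = 1 ∧ β = 3) ∨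
      (α = 3 ∧ β = 1) ∨ (α = 1 ∧ β = 4) ∨ (α = 4 ∧ β = 1) ∨ (α = 2 ∧ β = 2) := by
  have ub : ∀ (x y p q : ℤ), 0 < p → 0 < q → 0 ≤ x → 0 ≤ y → p * x = q * y → x * y ≤ 4 → x ≤ 4 := by
    intro x y p q hp hq hx hy h1 h2
    by_contra hcon
    have hx5 : 5 ≤ x := by omega
    rcases eq_or_lt_of_le hy with h0 | hpos
    · rw [← h0, mul_zero] at h1
      rcases mul_eq_zero.1 h1 with h' | h'
      · omega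
      · omega
    · nlinarith
  have u1 := ub α β p q hp hq hα hβ h hb
  have u2 := ub β α q p hq hp hβ hα h.symm (by rw [mul_comm]; exact hb)
  interval_cases α <;> interval_cases β <;> omega

theorem vsum (m0 m1 m2 m3 x1 x2 x3 y1 y2 y3 : ℤ) (hm0 : 0 < m0)
    (hx1 : 0 ≤ x1) (hx2 : 0 ≤ x2) (hx3 : 0 ≤ x3)
    (e0 : x1 * m1 + x2 * m2 + x3 * m3 = 2 * m0)
    (h1 : y1 * m0 ≤ 2 * m1) (h2 : y2 * m0 ≤ 2 * m2) (h3 : y3 * m0 ≤ 2 * m3) :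
    x1 * y1 + x2 * y2 + x3 * y3 ≤ 4 := by
  have k1 := mul_le_mul_of_nonneg_left h1 hx1
  have k2 := mul_le_mul_of_nonneg_left h2 hx2
  have k3 := mul_le_mul_of_nonneg_left h3 hx3
  have : (x1 * y1 + x2 * y2 + x3 * y3) * m0 ≤ 4 * m0 := by nlinarith
  exact le_of_mul_le_mul_right this hm0

theorem pc0 (α β : ℤ) (c : (α = 0 ∧ β = 0) ∨ (α = 1 ∧ β = 1) ∨ (α = 1 ∧ β = 2) ∨ (α = 2 ∧ β = 1) ∨ (α = 1 ∧ β = 3) ∨ (α = 3 ∧ β = 1) ∨ (α = 1 ∧ β = 4) ∨ (α = 4 ∧ β = 1) ∨ (α = 2 ∧ β = 2)) (hb : α * β ≤ 0) :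
    (α = 0 ∧ β = 0) := by
  rcases c with ⟨rfl, rfl⟩ | ⟨rfl, rfl⟩ | ⟨rfl, rfl⟩ | ⟨rfl, rfl⟩ | ⟨rfl, rfl⟩ | ⟨rfl, rfl⟩ | ⟨rfl, rfl⟩ | ⟨rfl, rfl⟩ | ⟨rfl, rfl⟩ <;> simp_all

theorem pc1 (α β : ℤ) (c : (α = 0 ∧ β = 0) ∨ (α = 1 ∧ β = 1) ∨ (α = 1 ∧ β = 2) ∨ (α = 2 ∧ β = 1) ∨ (α = 1 ∧ β = 3) ∨ (α = 3 ∧ β = 1) ∨ (α = 1 ∧ β = 4) ∨ (α = 4 ∧ β = 1) ∨ (α = 2 ∧ β = 2)) (hb : α * β ≤ 1) :
    (α = 0 ∧ β = 0) ∨ (α = 1 ∧ β = 1) := by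
  rcases c with ⟨rfl, rfl⟩ | ⟨rfl, rfl⟩ | ⟨rfl, rfl⟩ | ⟨rfl, rfl⟩ | ⟨rfl, rfl⟩ | ⟨rfl, rfl⟩ | ⟨rfl, rfl⟩ | ⟨rfl, rfl⟩ | ⟨rfl, rfl⟩ <;> simp_all

theorem pc2 (α β : ℤ) (c : (α = 0 ∧ β = 0) ∨ (α = 1 ∧ β = 1) ∨ (α = 1 ∧ β = 2) ∨ (α = 2 ∧ β = 1) ∨ (α = 1 ∧ β = 3) ∨ (α = 3 ∧ β = 1) ∨ (α = 1 ∧ β = 4) ∨ (α = 4 ∧ β = 1) ∨ (α = 2 ∧ β = 2)) (hb : α * β ≤ 2) :
    (α = 0 ∧ β = 0) ∨ (α = 1 ∧ β = 1) ∨ (α = 1 ∧ β = 2) ∨ (α = 2 ∧ β = 1) := by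
  rcases c with ⟨rfl, rfl⟩ | ⟨rfl, rfl⟩ | ⟨rfl, rfl⟩ | ⟨rfl, rfl⟩ | ⟨rfl, rfl⟩ | ⟨rfl, rfl⟩ | ⟨rfl, rfl⟩ | ⟨rfl, rfl⟩ | ⟨rfl, rfl⟩ <;> simp_all

theorem pc3 (α β : ℤ) (c : (α = 0 ∧ β = 0) ∨ (α = 1 ∧ β = 1) ∨ (α = 1 ∧ β = 2) ∨ (α = 2 ∧ β = 1) ∨ (α = 1 ∧ β = 3) ∨ (α = 3 ∧ β = 1) ∨ (α = 1 ∧ β = 4) ∨ (α = 4 ∧ β = 1) ∨ (α = 2 ∧ β = 2)) (hb : α * β ≤ 3) :
    (α = 0 ∧ β = 0) ∨ (α = 1 ∧ β = 1) ∨ (α = 1 ∧ β = 2) ∨ (α = 2 ∧ β = 1) ∨ (α = 1 ∧ β = 3) ∨ (α = 3 ∧ β = 1) := by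
  rcases c with ⟨rfl, rfl⟩ | ⟨rfl, rfl⟩ | ⟨rfl, rfl⟩ | ⟨rfl, rfl⟩ | ⟨rfl, rfl⟩ | ⟨rfl, rfl⟩ | ⟨rfl, rfl⟩ | ⟨rfl, rfl⟩ | ⟨rfl, rfl⟩ <;> simp_all

def p0123 : Equiv.Perm (Fin 4) := ⟨![0,1,2,3], ![0,1,2,3], by decide, by decide⟩
def p0132 : Equiv.Perm (Fin 4) := ⟨![0,1,3,2], ![0,1,3,2], by decide, by decide⟩
def p0213 : Equiv.Perm (Fin 4) := ⟨![0,2,1,3], ![0,2,1,3], by decide, by decide⟩
def p0231 : Equiv.Perm (Fin 4) := ⟨![0,2,3,1], ![0,3,1,2], by decide, by decide⟩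
def p0312 : Equiv.Perm (Fin 4) := ⟨![0,3,1,2], ![0,2,3,1], by decide, by decide⟩
def p0321 : Equiv.Perm (Fin 4) := ⟨![0,3,2,1], ![0,3,2,1], by decide, by decide⟩
def p1023 : Equiv.Perm (Fin 4) := ⟨![1,0,2,3], ![1,0,2,3], by decide, by decide⟩
def p1032 : Equiv.Perm (Fin 4) := ⟨![1,0,3,2], ![1,0,3,2], by decide, by decide⟩
def p1203 : Equiv.Perm (Fin 4) := ⟨![1,2,0,3], ![2,0,1,3], by decide, by decide⟩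
def p1230 : Equiv.Perm (Fin 4) := ⟨![1,2,3,0], ![3,0,1,2], by decide, by decide⟩
def p1302 : Equiv.Perm (Fin 4) := ⟨![1,3,0,2], ![2,0,3,1], by decide, by decide⟩
def p1320 : Equiv.Perm (Fin 4) := ⟨![1,3,2,0], ![3,0,2,1], by decide, by decide⟩
def p2013 : Equiv.Perm (Fin 4) := ⟨![2,0,1,3], ![1,2,0,3], by decide, by decide⟩
def p2031 : Equiv.Perm (Fin 4) := ⟨![2,0,3,1], ![1,3,0,2], by decide, by decide⟩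
def p2103 : Equiv.Perm (Fin 4) := ⟨![2,1,0,3], ![2,1,0,3], by decide, by decide⟩
def p2130 : Equiv.Perm (Fin 4) := ⟨![2,1,3,0], ![3,1,0,2], by decide, by decide⟩
def p2301 : Equiv.Perm (Fin 4) := ⟨![2,3,0,1], ![2,3,0,1], by decide, by decide⟩
def p2310 : Equiv.Perm (Fin 4) := ⟨![2,3,1,0], ![3,2,0,1], by decide, by decide⟩
def p3012 : Equiv.Perm (Fin 4) := ⟨![3,0,1,2], ![1,2,3,0], by decide, by decide⟩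
def p3021 : Equiv.Perm (Fin 4) := ⟨![3,0,2,1], ![1,3,2,0], by decide, by decide⟩
def p3102 : Equiv.Perm (Fin 4) := ⟨![3,1,0,2], ![2,1,3,0], by decide, by decide⟩
def p3120 : Equiv.Perm (Fin 4) := ⟨![3,1,2,0], ![3,1,2,0], by decide, by decide⟩
def p3201 : Equiv.Perm (Fin 4) := ⟨![3,2,0,1], ![2,3,1,0], by decide, by decide⟩
def p3210 : Equiv.Perm (Fin 4) := ⟨![3,2,1,0], ![3,2,1,0], by decide, by decide⟩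

set_option maxHeartbeats 0 in
theorem main4 (T : Models.NumericalType 4) (hmin : T.IsMinimal) (hg : T.genus = 1) :
    (∀ i, T.g i = 0) ∧ ∃ (σ : Equiv.Perm (Fin 4)) (m w : ℤ),
      ((T.m (σ 0) = m ∧ T.m (σ 1) = m ∧ T.m (σ 2) = m ∧ T.m (σ 3) = m ∧ T.w (σ 0) = w ∧ T.w (σ 1) = w ∧ T.w (σ 2) = w ∧ T.w (σ 3) = w ∧ T.a (σ 0) (σ 0) = -2 * w ∧ T.a (σ 0) (σ 1) = w ∧ T.a (σ 0) (σ 2) = 0 ∧ T.a (σ 0) (σ 3) = w ∧ T.a (σ 1) (σ 1) = -2 * w ∧ T.a (σ 1) (σ 2) = w ∧ T.a (σ 1) (σ 3) = 0 ∧ T.a (σ 2) (σ 2) = -2 * w ∧ T.a (σ 2) (σ 3) = w ∧ T.a (σ 3) (σ 3) = -2 * w) ∨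
      (T.m (σ 0) = 2 * m ∧ T.m (σ 1) = 2 * m ∧ T.m (σ 2) = 2 * m ∧ T.m (σ 3) = m ∧ T.w (σ 0) = w ∧ T.w (σ 1) = 2 * w ∧ T.w (σ 2) = 2 * w ∧ T.w (σ 3) = 4 * w ∧ T.a (σ 0) (σ 0) = -2 * w ∧ T.a (σ 0) (σ 1) = 2 * w ∧ T.a (σ 0) (σ 2) = 0 ∧ T.a (σ 0) (σ 3) = 0 ∧ T.a (σ 1) (σ 1) = -4 * w ∧ T.a (σ 1) (σ 2) = 2 * w ∧ T.a (σ 1) (σ 3) = 0 ∧ T.a (σ 2) (σ 2) = -4 * w ∧ T.a (σ 2) (σ 3) = 4 * w ∧ T.a (σ 3) (σ 3) = -8 * w) ∨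
      (T.m (σ 0) = m ∧ T.m (σ 1) = m ∧ T.m (σ 2) = m ∧ T.m (σ 3) = m ∧ T.w (σ 0) = w ∧ T.w (σ 1) = 2 * w ∧ T.w (σ 2) = 2 * w ∧ T.w (σ 3) = w ∧ T.a (σ 0) (σ 0) = -2 * w ∧ T.a (σ 0) (σ 1) = 2 * w ∧ T.a (σ 0) (σ 2) = 0 ∧ T.a (σ 0) (σ 3) = 0 ∧ T.a (σ 1) (σ 1) = -4 * w ∧ T.a (σ 1) (σ 2) = 2 * w ∧ T.a (σ 1) (σ 3) = 0 ∧ T.a (σ 2) (σ 2) = -4 * w ∧ T.a (σ 2) (σ 3) = 2 * w ∧ T.a (σ 3) (σ 3) = -2 * w) ∨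
      (T.m (σ 0) = m ∧ T.m (σ 1) = 2 * m ∧ T.m (σ 2) = 2 * m ∧ T.m (σ 3) = m ∧ T.w (σ 0) = 2 * w ∧ T.w (σ 1) = w ∧ T.w (σ 2) = w ∧ T.w (σ 3) = 2 * w ∧ T.a (σ 0) (σ 0) = -4 * w ∧ T.a (σ 0) (σ 1) = 2 * w ∧ T.a (σ 0) (σ 2) = 0 ∧ T.a (σ 0) (σ 3) = 0 ∧ T.a (σ 1) (σ 1) = -2 * w ∧ T.a (σ 1) (σ 2) = w ∧ T.a (σ 1) (σ 3) = 0 ∧ T.a (σ 2) (σ 2) = -2 * w ∧ T.a (σ 2) (σ 3) = 2 * w ∧ T.a (σ 3) (σ 3) = -4 * w) ∨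
      (T.m (σ 0) = 2 * m ∧ T.m (σ 1) = m ∧ T.m (σ 2) = m ∧ T.m (σ 3) = m ∧ T.w (σ 0) = w ∧ T.w (σ 1) = w ∧ T.w (σ 2) = w ∧ T.w (σ 3) = 2 * w ∧ T.a (σ 0) (σ 0) = -2 * w ∧ T.a (σ 0) (σ 1) = w ∧ T.a (σ 0) (σ 2) = w ∧ T.a (σ 0) (σ 3) = 2 * w ∧ T.a (σ 1) (σ 1) = -2 * w ∧ T.a (σ 1) (σ 2) = 0 ∧ T.a (σ 1) (σ 3) = 0 ∧ T.a (σ 2) (σ 2) = -2 * w ∧ T.a (σ 2) (σ 3) = 0 ∧ T.a (σ 3) (σ 3) = -4 * w) ∨
      (T.m (σ 0) = 2 * m ∧ T.m (σ 1) = m ∧ T.m (σ 2) = m ∧ T.m (σ 3) = 2 * m ∧ T.w (σ 0) = 2 * w ∧ T.w (σ 1) = 2 * w ∧ T.w (σ 2) = 2 * w ∧ T.w (σ 3) = w ∧ T.a (σ 0) (σ 0) = -4 * w ∧ T.a (σ 0) (σ 1) = 2 * w ∧ T.a (σ 0) (σ 2) = 2 * w ∧ T.a (σ 0) (σ 3) = 2 * w ∧ T.a (σ 1) (σ 1) = -4 * w ∧ T.a (σ 1) (σ 2) = 0 ∧ T.a (σ 1) (σ 3) = 0 ∧ T.a (σ 2) (σ 2) = -4 * w ∧ T.a (σ 2) (σ 3) = 0 ∧ T.a (σ 3) (σ 3) =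 -2 * w)) := by
  have hall := fun i => Groth.Agent.S7362.all_minusTwo T (by norm_num) hmin hg i
  refine ⟨fun i => (hall i).1, ?_⟩
  obtain ⟨hg0, ha00⟩ := hall 0
  obtain ⟨hg1, ha11⟩ := hall 1
  obtain ⟨hg2, ha22⟩ := hall 2
  obtain ⟨hg3, ha33⟩ := hall 3
  have hs : ∀ i j, T.a i j = T.a j i := fun i j => congrFun (congrFun T.symm j) i
  have hm0 := T.m_pos 0
  have hm1 := T.m_pos 1
  have hm2 := T.m_pos 2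
  have hm3 := T.m_pos 3
  have hw0 := T.w_pos 0
  have hw1 := T.w_pos 1
  have hw2 := T.w_pos 2
  have hw3 := T.w_pos 3
  have hrow : ∀ i, T.a i 0 * T.m 0 + T.a i 1 * T.m 1 + T.a i 2 * T.m 2 + T.a i 3 * T.m 3 = 0 := by
    intro i
    have := congrFun T.mulVec_m i
    simpa [Matrix.mulVec, dotProduct, Fin.sum_univ_four] using this
  obtain ⟨α01, h01⟩ := T.w_dvd 0 1
  obtain ⟨α02, h02⟩ := T.w_dvd 0 2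
  obtain ⟨α03, h03⟩ := T.w_dvd 0 3
  obtain ⟨α10, h10⟩ := T.w_dvd 1 0
  obtain ⟨α12, h12⟩ := T.w_dvd 1 2
  obtain ⟨α13, h13⟩ := T.w_dvd 1 3
  obtain ⟨α20, h20⟩ := T.w_dvd 2 0
  obtain ⟨α21, h21⟩ := T.w_dvd 2 1
  obtain ⟨α23, h23⟩ := T.w_dvd 2 3
  obtain ⟨α30, h30⟩ := T.w_dvd 3 0
  obtain ⟨α31, h31⟩ := T.w_dvd 3 1
  obtain ⟨α32, h32⟩ := T.w_dvd 3 2
  have nn : ∀ (i j : Fin 4) (α : ℤ), i ≠ j → T.a i j = T.w i * α → 0 ≤ α := by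
    intro i j α hij h
    have h1 := T.offDiag_nonneg i j hij
    rw [h] at h1
    by_contra hneg
    have : T.w i * α < 0 := mul_neg_of_pos_of_neg (T.w_pos i) (not_le.1 hneg)
    omega
  have n01 := nn 0 1 α01 (by decide) h01
  have n02 := nn 0 2 α02 (by decide) h02
  have n03 := nn 0 3 α03 (by decide) h03
  have n10 := nn 1 0 α10 (by decide) h10
  have n12 := nn 1 2 α12 (by decide) h12
  have n13 := nn 1 3 α13 (by decide) h13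
  have n20 := nn 2 0 α20 (by decide) h20
  have n21 := nn 2 1 α21 (by decide) h21
  have n23 := nn 2 3 α23 (by decide) h23
  have n30 := nn 3 0 α30 (by decide) h30
  have n31 := nn 3 1 α31 (by decide) h31
  have n32 := nn 3 2 α32 (by decide) h32
  have e0 : α01 * T.m 1 + α02 * T.m 2 + α03 * T.m 3 = 2 * T.m 0 := by
    have h := hrow 0
    rw [ha00, h01, h02, h03] at h
    have : T.w 0 * (α01 * T.m 1 + α02 * T.m 2 + α03 * T.m 3 - 2 * T.m 0) = 0 := by linarith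
    rcases mul_eq_zero.1 this with h' | h'
    · exact absurd h' hw0.ne'
    · linarith
  have e1 : α10 * T.m 0 + α12 * T.m 2 + α13 * T.m 3 = 2 * T.m 1 := by
    have h := hrow 1
    rw [ha11, h10, h12, h13] at h
    have : T.w 1 * (α10 * T.m 0 + α12 * T.m 2 + α13 * T.m 3 - 2 * T.m 1) = 0 := by linarith
    rcases mul_eq_zero.1 this with h' | h'
    · exact absurd h' hw1.ne'
    · linarith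
  have e2 : α20 * T.m 0 + α21 * T.m 1 + α23 * T.m 3 = 2 * T.m 2 := by
    have h := hrow 2
    rw [ha22, h20, h21, h23] at h
    have : T.w 2 * (α20 * T.m 0 + α21 * T.m 1 + α23 * T.m 3 - 2 * T.m 2) = 0 := by linarith
    rcases mul_eq_zero.1 this with h' | h'
    · exact absurd h' hw2.ne'
    · linarith
  have e3 : α30 * T.m 0 + α31 * T.m 1 + α32 * T.m 2 = 2 * T.m 3 := by
    have h := hrow 3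
    rw [ha33, h30, h31, h32] at h
    have : T.w 3 * (α30 * T.m 0 + α31 * T.m 1 + α32 * T.m 2 - 2 * T.m 3) = 0 := by linarith
    rcases mul_eq_zero.1 this with h' | h'
    · exact absurd h' hw3.ne'
    · linarith
  have s01 : T.w 0 * α01 = T.w 1 * α10 := by rw [← h01, ← h10, hs 0 1]
  have s02 : T.w 0 * α02 = T.w 2 * α20 := by rw [← h02, ← h20, hs 0 2]
  have s03 : T.w 0 * α03 = T.w 3 * α30 := by rw [← h03, ← h30, hs 0 3]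
  have s12 : T.w 1 * α12 = T.w 2 * α21 := by rw [← h12, ← h21, hs 1 2]
  have s13 : T.w 1 * α13 = T.w 3 * α31 := by rw [← h13, ← h31, hs 1 3]
  have s23 : T.w 2 * α23 = T.w 3 * α32 := by rw [← h23, ← h32, hs 2 3]
  have r01 : 0 ≤ α01 * T.m 1 := mul_nonneg n01 hm1.le
  have r02 : 0 ≤ α02 * T.m 2 := mul_nonneg n02 hm2.le
  have r03 : 0 ≤ α03 * T.m 3 := mul_nonneg n03 hm3.le
  have r10 : 0 ≤ α10 * T.m 0 := mul_nonneg n10 hm0.le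
  have r12 : 0 ≤ α12 * T.m 2 := mul_nonneg n12 hm2.le
  have r13 : 0 ≤ α13 * T.m 3 := mul_nonneg n13 hm3.le
  have r20 : 0 ≤ α20 * T.m 0 := mul_nonneg n20 hm0.le
  have r21 : 0 ≤ α21 * T.m 1 := mul_nonneg n21 hm1.le
  have r23 : 0 ≤ α23 * T.m 3 := mul_nonneg n23 hm3.le
  have r30 : 0 ≤ α30 * T.m 0 := mul_nonneg n30 hm0.le
  have r31 : 0 ≤ α31 * T.m 1 := mul_nonneg n31 hm1.le
  have r32 : 0 ≤ α32 * T.m 2 := mul_nonneg n32 hm2.le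
  have q01 : α01 * T.m 1 ≤ 2 * T.m 0 := by omega
  have q02 : α02 * T.m 2 ≤ 2 * T.m 0 := by omega
  have q03 : α03 * T.m 3 ≤ 2 * T.m 0 := by omega
  have q10 : α10 * T.m 0 ≤ 2 * T.m 1 := by omega
  have q12 : α12 * T.m 2 ≤ 2 * T.m 1 := by omega
  have q13 : α13 * T.m 3 ≤ 2 * T.m 1 := by omega
  have q20 : α20 * T.m 0 ≤ 2 * T.m 2 := by omega
  have q21 : α21 * T.m 1 ≤ 2 * T.m 2 := by omega
  have q23 : α23 * T.m 3 ≤ 2 * T.m 2 := by omega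
  have q30 : α30 * T.m 0 ≤ 2 * T.m 3 := by omega
  have q31 : α31 * T.m 1 ≤ 2 * T.m 3 := by omega
  have q32 : α32 * T.m 2 ≤ 2 * T.m 3 := by omega
  have bnd : ∀ (x y p q : ℤ), 0 < p → 0 < q → 0 ≤ x → 0 ≤ y → x * q ≤ 2 * p → y * p ≤ 2 * q →
      x * y ≤ 4 := by
    intro x y p q hp hq hx hy h1 h2
    by_contra hcon
    have h3 : (x * q) * (y * p) ≤ (2 * p) * (2 * q) :=
      mul_le_mul h1 h2 (mul_nonneg hy hp.le) (by positivity)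
    have h4 : 0 < p * q := mul_pos hp hq
    nlinarith
  have b01 : α01 * α10 ≤ 4 := bnd α01 α10 (T.m 0) (T.m 1) hm0 hm1 n01 n10 q01 q10
  have b02 : α02 * α20 ≤ 4 := bnd α02 α20 (T.m 0) (T.m 2) hm0 hm2 n02 n20 q02 q20
  have b03 : α03 * α30 ≤ 4 := bnd α03 α30 (T.m 0) (T.m 3) hm0 hm3 n03 n30 q03 q30
  have b12 : α12 * α21 ≤ 4 := bnd α12 α21 (T.m 1) (T.m 2) hm1 hm2 n12 n21 q12 q21
  have b13 : α13 * α31 ≤ 4 := bnd α13 α31 (T.m 1) (T.m 3) hm1 hm3 n13 n31 q13 q31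
  have b23 : α23 * α32 ≤ 4 := bnd α23 α32 (T.m 2) (T.m 3) hm2 hm3 n23 n32 q23 q32
  have c01 := pair_cases α01 α10 (T.w 0) (T.w 1) hw0 hw1 n01 n10 s01 b01
  have c02 := pair_cases α02 α20 (T.w 0) (T.w 2) hw0 hw2 n02 n20 s02 b02
  have c03 := pair_cases α03 α30 (T.w 0) (T.w 3) hw0 hw3 n03 n30 s03 b03
  have c12 := pair_cases α12 α21 (T.w 1) (T.w 2) hw1 hw2 n12 n21 s12 b12
  have c13 := pair_cases α13 α31 (T.w 1) (T.w 3) hw1 hw3 n13 n31 s13 b13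
  have c23 := pair_cases α23 α32 (T.w 2) (T.w 3) hw2 hw3 n23 n32 s23 b23
  have p01 : 0 ≤ α01 * α10 := mul_nonneg n01 n10
  have p02 : 0 ≤ α02 * α20 := mul_nonneg n02 n20
  have p03 : 0 ≤ α03 * α30 := mul_nonneg n03 n30
  have p12 : 0 ≤ α12 * α21 := mul_nonneg n12 n21
  have p13 : 0 ≤ α13 * α31 := mul_nonneg n13 n31
  have p23 : 0 ≤ α23 * α32 := mul_nonneg n23 n32
  have v0 : α01 * α10 + α02 * α20 + α03 * α30 ≤ 4 := by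
    have := vsum (T.m 0) (T.m 1) (T.m 2) (T.m 3) α01 α02 α03 α10 α20 α30 hm0 n01 n02 n03 e0 q10 q20 q30
    linarith [mul_comm α01 α10, mul_comm α02 α20, mul_comm α03 α30]
  have v1 : α01 * α10 + α12 * α21 + α13 * α31 ≤ 4 := by
    have := vsum (T.m 1) (T.m 0) (T.m 2) (T.m 3) α10 α12 α13 α01 α21 α31 hm1 n10 n12 n13 e1 q01 q21 q31
    linarith [mul_comm α10 α01, mul_comm α12 α21, mul_comm α13 α31]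
  have v2 : α02 * α20 + α12 * α21 + α23 * α32 ≤ 4 := by
    have := vsum (T.m 2) (T.m 0) (T.m 1) (T.m 3) α20 α21 α23 α02 α12 α32 hm2 n20 n21 n23 e2 q02 q12 q32
    linarith [mul_comm α20 α02, mul_comm α21 α12, mul_comm α23 α32]
  have v3 : α03 * α30 + α13 * α31 + α23 * α32 ≤ 4 := by
    have := vsum (T.m 3) (T.m 0) (T.m 1) (T.m 2) α30 α31 α32 α03 α13 α23 hm3 n30 n31 n32 e3 q03 q13 q23
    linarith [mul_comm α30 α03, mul_comm α31 α13, mul_comm α32 α23]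
  have k01 : 0 < α02 + α03 + α12 + α13 := by
    obtain ⟨i, hi, j, hj, hij⟩ := T.connected {0, 1} ⟨0, by simp⟩ (by decide)
    by_contra hcon
    have z02 : T.a 0 2 = 0 := by rw [h02, (by omega : α02 = 0), mul_zero]
    have z03 : T.a 0 3 = 0 := by rw [h03, (by omega : α03 = 0), mul_zero]
    have z12 : T.a 1 2 = 0 := by rw [h12, (by omega : α12 = 0), mul_zero]
    have z13 : T.a 1 3 = 0 := by rw [h13, (by omega : α13 = 0), mul_zero]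
    have key : ∀ i j : Fin 4, i ∈ ({0, 1} : Finset (Fin 4)) → j ∉ ({0, 1} : Finset (Fin 4)) → (i = 0 ∧ j = 2) ∨ (i = 0 ∧ j = 3) ∨ (i = 1 ∧ j = 2) ∨ (i = 1 ∧ j = 3) := by decide
    rcases key i j hi hj with ⟨rfl, rfl⟩ | ⟨rfl, rfl⟩ | ⟨rfl, rfl⟩ | ⟨rfl, rfl⟩
    · exact hij z02
    · exact hij z03
    · exact hij z12
    · exact hij z13
  have k02 : 0 < α01 + α03 + α21 + α23 := by
    obtain ⟨i, hi, j, hj, hij⟩ := T.connected {0, 2} ⟨0, by simp⟩ (by decide)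
    by_contra hcon
    have z01 : T.a 0 1 = 0 := by rw [h01, (by omega : α01 = 0), mul_zero]
    have z03 : T.a 0 3 = 0 := by rw [h03, (by omega : α03 = 0), mul_zero]
    have z21 : T.a 2 1 = 0 := by rw [h21, (by omega : α21 = 0), mul_zero]
    have z23 : T.a 2 3 = 0 := by rw [h23, (by omega : α23 = 0), mul_zero]
    have key : ∀ i j : Fin 4, i ∈ ({0, 2} : Finset (Fin 4)) → j ∉ ({0, 2} : Finset (Fin 4)) → (i = 0 ∧ j = 1) ∨ (i = 0 ∧ j = 3) ∨ (i = 2 ∧ j = 1) ∨ (i = 2 ∧ j = 3) := by decide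
    rcases key i j hi hj with ⟨rfl, rfl⟩ | ⟨rfl, rfl⟩ | ⟨rfl, rfl⟩ | ⟨rfl, rfl⟩
    · exact hij z01
    · exact hij z03
    · exact hij z21
    · exact hij z23
  have k03 : 0 < α01 + α02 + α31 + α32 := by
    obtain ⟨i, hi, j, hj, hij⟩ := T.connected {0, 3} ⟨0, by simp⟩ (by decide)
    by_contra hcon
    have z01 : T.a 0 1 = 0 := by rw [h01, (by omega : α01 = 0), mul_zero]
    have z02 : T.a 0 2 = 0 := by rw [h02, (by omega : α02 = 0), mul_zero]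
    have z31 : T.a 3 1 = 0 := by rw [h31, (by omega : α31 = 0), mul_zero]
    have z32 : T.a 3 2 = 0 := by rw [h32, (by omega : α32 = 0), mul_zero]
    have key : ∀ i j : Fin 4, i ∈ ({0, 3} : Finset (Fin 4)) → j ∉ ({0, 3} : Finset (Fin 4)) → (i = 0 ∧ j = 1) ∨ (i = 0 ∧ j = 2) ∨ (i = 3 ∧ j = 1) ∨ (i = 3 ∧ j = 2) := by decide
    rcases key i j hi hj with ⟨rfl, rfl⟩ | ⟨rfl, rfl⟩ | ⟨rfl, rfl⟩ | ⟨rfl, rfl⟩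
    · exact hij z01
    · exact hij z02
    · exact hij z31
    · exact hij z32
  have hs10 := hs 1 0
  have hs20 := hs 2 0
  have hs30 := hs 3 0
  have hs21 := hs 2 1
  have hs31 := hs 3 1
  have hs32 := hs 3 2
  clear hrow nn bnd hall hs hmin hg q01 q02 q03 q10 q12 q13 q20 q21 q23 q30 q31 q32 b01 b02 b03 b12 b13 b23
  rcases c01 with ⟨rfl, rfl⟩ | ⟨rfl, rfl⟩ | ⟨rfl, rfl⟩ | ⟨rfl, rfl⟩ | ⟨rfl, rfl⟩ | ⟨rfl, rfl⟩ | ⟨rfl, rfl⟩ | ⟨rfl, rfl⟩ | ⟨rfl, rfl⟩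
  · rcases c02 with ⟨rfl, rfl⟩ | ⟨rfl, rfl⟩ | ⟨rfl, rfl⟩ | ⟨rfl, rfl⟩ | ⟨rfl, rfl⟩ | ⟨rfl, rfl⟩ | ⟨rfl, rfl⟩ | ⟨rfl, rfl⟩ | ⟨rfl, rfl⟩
    · rcases c03 with ⟨rfl, rfl⟩ | ⟨rfl, rfl⟩ | ⟨rfl, rfl⟩ | ⟨rfl, rfl⟩ | ⟨rfl, rfl⟩ | ⟨rfl, rfl⟩ | ⟨rfl, rfl⟩ | ⟨rfl, rfl⟩ | ⟨rfl, rfl⟩
      · omega
      · rcases c12 with ⟨rfl, rfl⟩ | ⟨rfl, rfl⟩ | ⟨rfl, rfl⟩ | ⟨rfl, rfl⟩ | ⟨rfl, rfl⟩ | ⟨rfl, rfl⟩ | ⟨rfl, rfl⟩ | ⟨rfl, rfl⟩ | ⟨rfl, rfl⟩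
        · rcases pc3 _ _ c13 (by omega) with ⟨rfl, rfl⟩ | ⟨rfl, rfl⟩ | ⟨rfl, rfl⟩ | ⟨rfl, rfl⟩ | ⟨rfl, rfl⟩ | ⟨rfl, rfl⟩
          · omega
          · rcases pc2 _ _ c23 (by omega) with ⟨rfl, rfl⟩ | ⟨rfl, rfl⟩ | ⟨rfl, rfl⟩ | ⟨rfl, rfl⟩
            · omega
            · omega
            · exact ⟨p3012, T.m 0, T.w 3, Or.inr (Or.inr (Or.inr (Or.inr (Or.inl ((show T.m 3 = 2 * T.m 0 ∧ T.m 0 = T.m 0 ∧ T.m 1 = T.m 0 ∧ T.m 2 = T.m 0 ∧ T.w 3 = T.w 3 ∧ T.w 0 = T.w 3 ∧ T.w 1 = T.w 3 ∧ T.w 2 = 2 * T.w 3 ∧ T.a 3 3 = -2 * T.w 3 ∧ T.a 3 0 = T.w 3 ∧ T.a 3 1 = T.w 3 ∧ T.a 3 2 = 2 * T.w 3 ∧ T.a 0 0 = -2 * T.w 3 ∧ T.a 0 1 = 0 ∧ T.a 0 2 = 0 ∧ T.a 1 1 = -2 * T.w 3 ∧ T.a 1 2 = 0 ∧ T.a 2 2 = -4 * T.w 3 from by omega))))))⟩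
            · exact ⟨p3012, T.m 0, T.w 2, Or.inr (Or.inr (Or.inr (Or.inr (Or.inr ((show T.m 3 = 2 * T.m 0 ∧ T.m 0 = T.m 0 ∧ T.m 1 = T.m 0 ∧ T.m 2 = 2 * T.m 0 ∧ T.w 3 = 2 * T.w 2 ∧ T.w 0 = 2 * T.w 2 ∧ T.w 1 = 2 * T.w 2 ∧ T.w 2 = T.w 2 ∧ T.a 3 3 = -4 * T.w 2 ∧ T.a 3 0 = 2 * T.w 2 ∧ T.a 3 1 = 2 * T.w 2 ∧ T.a 3 2 = 2 * T.w 2 ∧ T.a 0 0 = -4 * T.w 2 ∧ T.a 0 1 = 0 ∧ T.a 0 2 = 0 ∧ T.a 1 1 = -4 * T.w 2 ∧ T.a 1 2 = 0 ∧ T.a 2 2 = -2 * T.w 2 from by omega))))))⟩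
          · rcases pc1 _ _ c23 (by omega) with ⟨rfl, rfl⟩ | ⟨rfl, rfl⟩
            · omega
            · exact ⟨p3021, T.m 0, T.w 3, Or.inr (Or.inr (Or.inr (Or.inr (Or.inl ((show T.m 3 = 2 * T.m 0 ∧ T.m 0 = T.m 0 ∧ T.m 2 = T.m 0 ∧ T.m 1 = T.m 0 ∧ T.w 3 = T.w 3 ∧ T.w 0 = T.w 3 ∧ T.w 2 = T.w 3 ∧ T.w 1 = 2 * T.w 3 ∧ T.a 3 3 = -2 * T.w 3 ∧ T.a 3 0 = T.w 3 ∧ T.a 3 2 = T.w 3 ∧ T.a 3 1 = 2 * T.w 3 ∧ T.a 0 0 = -2 * T.w 3 ∧ T.a 0 2 = 0 ∧ T.a 0 1 = 0 ∧ T.a 2 2 = -2 * T.w 3 ∧ T.a 2 1 = 0 ∧ T.a 1 1 = -4 * T.w 3 from by omega))))))⟩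
          · rcases pc1 _ _ c23 (by omega) with ⟨rfl, rfl⟩ | ⟨rfl, rfl⟩
            · omega
            · exact ⟨p3021, T.m 0, T.w 1, Or.inr (Or.inr (Or.inr (Or.inr (Or.inr ((show T.m 3 = 2 * T.m 0 ∧ T.m 0 = T.m 0 ∧ T.m 2 = T.m 0 ∧ T.m 1 = 2 * T.m 0 ∧ T.w 3 = 2 * T.w 1 ∧ T.w 0 = 2 * T.w 1 ∧ T.w 2 = 2 * T.w 1 ∧ T.w 1 = T.w 1 ∧ T.a 3 3 = -4 * T.w 1 ∧ T.a 3 0 = 2 * T.w 1 ∧ T.a 3 2 = 2 * T.w 1 ∧ T.a 3 1 = 2 * T.w 1 ∧ T.a 0 0 = -4 * T.w 1 ∧ T.a 0 2 = 0 ∧ T.a 0 1 = 0 ∧ T.a 2 2 = -4 * T.w 1 ∧ T.a 2 1 = 0 ∧ T.a 1 1 = -2 * T.w 1 from by omega))))))⟩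
          · obtain ⟨rfl, rfl⟩ := pc0 _ _ c23 (by omega)
            omega
          · obtain ⟨rfl, rfl⟩ := pc0 _ _ c23 (by omega)
            omega
        · rcases pc3 _ _ c13 (by omega) with ⟨rfl, rfl⟩ | ⟨rfl, rfl⟩ | ⟨rfl, rfl⟩ | ⟨rfl, rfl⟩ | ⟨rfl, rfl⟩ | ⟨rfl, rfl⟩
          · rcases pc3 _ _ c23 (by omega) with ⟨rfl, rfl⟩ | ⟨rfl, rfl⟩ | ⟨rfl, rfl⟩ | ⟨rfl, rfl⟩ | ⟨rfl, rfl⟩ | ⟨rfl, rfl⟩
            · omega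
            · omega
            · omega
            · omega
            · omega
            · omega
          · rcases pc2 _ _ c23 (by omega) with ⟨rfl, rfl⟩ | ⟨rfl, rfl⟩ | ⟨rfl, rfl⟩ | ⟨rfl, rfl⟩
            · omega
            · omega
            · omega
            · omega
          · rcases pc1 _ _ c23 (by omega) with ⟨rfl, rfl⟩ | ⟨rfl, rfl⟩
            · omega
            · omega
          · rcases pc1 _ _ c23 (by omega) with ⟨rfl, rfl⟩ | ⟨rfl, rfl⟩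
            · omega
            · omega
          · omega
          · omega
        · rcases pc2 _ _ c13 (by omega) with ⟨rfl, rfl⟩ | ⟨rfl, rfl⟩ | ⟨rfl, rfl⟩ | ⟨rfl, rfl⟩
          · rcases pc2 _ _ c23 (by omega) with ⟨rfl, rfl⟩ | ⟨rfl, rfl⟩ | ⟨rfl, rfl⟩ | ⟨rfl, rfl⟩
            · omega
            · omega
            · omega
            · omega
          · rcases pc2 _ _ c23 (by omega) with ⟨rfl, rfl⟩ | ⟨rfl, rfl⟩ | ⟨rfl, rfl⟩ | ⟨rfl, rfl⟩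
            · omega
            · omega
            · omega
            · omega
          · omega
          · omega
        · rcases pc2 _ _ c13 (by omega) with ⟨rfl, rfl⟩ | ⟨rfl, rfl⟩ | ⟨rfl, rfl⟩ | ⟨rfl, rfl⟩
          · rcases pc2 _ _ c23 (by omega) with ⟨rfl, rfl⟩ | ⟨rfl, rfl⟩ | ⟨rfl, rfl⟩ | ⟨rfl, rfl⟩
            · omega
            · omega
            · omega
            · omega
          · rcases pc2 _ _ c23 (by omega) with ⟨rfl, rfl⟩ | ⟨rfl, rfl⟩ | ⟨rfl, rfl⟩ | ⟨rfl, rfl⟩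
            · omega
            · omega
            · omega
            · omega
          · omega
          · omega
        · rcases pc1 _ _ c13 (by omega) with ⟨rfl, rfl⟩ | ⟨rfl, rfl⟩
          · rcases pc1 _ _ c23 (by omega) with ⟨rfl, rfl⟩ | ⟨rfl, rfl⟩
            · omega
            · omega
          · omega
        · rcases pc1 _ _ c13 (by omega) with ⟨rfl, rfl⟩ | ⟨rfl, rfl⟩
          · rcases pc1 _ _ c23 (by omega) with ⟨rfl, rfl⟩ | ⟨rfl, rfl⟩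
            · omega
            · omega
          · omega
        · obtain ⟨rfl, rfl⟩ := pc0 _ _ c13 (by omega)
          obtain ⟨rfl, rfl⟩ := pc0 _ _ c23 (by omega)
          omega
        · obtain ⟨rfl, rfl⟩ := pc0 _ _ c13 (by omega)
          obtain ⟨rfl, rfl⟩ := pc0 _ _ c23 (by omega)
          omega
        · obtain ⟨rfl, rfl⟩ := pc0 _ _ c13 (by omega)
          obtain ⟨rfl, rfl⟩ := pc0 _ _ c23 (by omega)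
          omega
      · rcases c12 with ⟨rfl, rfl⟩ | ⟨rfl, rfl⟩ | ⟨rfl, rfl⟩ | ⟨rfl, rfl⟩ | ⟨rfl, rfl⟩ | ⟨rfl, rfl⟩ | ⟨rfl, rfl⟩ | ⟨rfl, rfl⟩ | ⟨rfl, rfl⟩
        · rcases pc2 _ _ c13 (by omega) with ⟨rfl, rfl⟩ | ⟨rfl, rfl⟩ | ⟨rfl, rfl⟩ | ⟨rfl, rfl⟩
          · omega
          · rcases pc1 _ _ c23 (by omega) with ⟨rfl, rfl⟩ | ⟨rfl, rfl⟩
            · omega
            · exact ⟨p3120, T.m 1, T.w 3, Or.inr (Or.inr (Or.inr (Or.inr (Or.inl ((show T.m 3 = 2 * T.m 1 ∧ T.m 1 = T.m 1 ∧ T.m 2 = T.m 1 ∧ T.m 0 = T.m 1 ∧ T.w 3 = T.w 3 ∧ T.w 1 = T.w 3 ∧ T.w 2 = T.w 3 ∧ T.w 0 = 2 * T.w 3 ∧ T.a 3 3 = -2 * T.w 3 ∧ T.a 3 1 = T.w 3 ∧ T.a 3 2 = T.w 3 ∧ T.a 3 0 = 2 * T.w 3 ∧ T.a 1 1 = -2 * T.w 3 ∧ T.a 1 2 = 0 ∧ T.a 1 0 = 0 ∧ T.a 2 2 = -2 * T.w 3 ∧ T.a 2 0 = 0 ∧ T.a 0 0 = -4 * T.w 3 from by omega))))))⟩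
          · obtain ⟨rfl, rfl⟩ := pc0 _ _ c23 (by omega)
            omega
          · obtain ⟨rfl, rfl⟩ := pc0 _ _ c23 (by omega)
            omega
        · rcases pc2 _ _ c13 (by omega) with ⟨rfl, rfl⟩ | ⟨rfl, rfl⟩ | ⟨rfl, rfl⟩ | ⟨rfl, rfl⟩
          · rcases pc2 _ _ c23 (by omega) with ⟨rfl, rfl⟩ | ⟨rfl, rfl⟩ | ⟨rfl, rfl⟩ | ⟨rfl, rfl⟩
            · omega
            · omega
            · omega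
            · omega
          · rcases pc1 _ _ c23 (by omega) with ⟨rfl, rfl⟩ | ⟨rfl, rfl⟩
            · omega
            · omega
          · omega
          · omega
        · rcases pc2 _ _ c13 (by omega) with ⟨rfl, rfl⟩ | ⟨rfl, rfl⟩ | ⟨rfl, rfl⟩ | ⟨rfl, rfl⟩
          · rcases pc2 _ _ c23 (by omega) with ⟨rfl, rfl⟩ | ⟨rfl, rfl⟩ | ⟨rfl, rfl⟩ | ⟨rfl, rfl⟩
            · omega
            · exact ⟨p0321, T.m 0, T.w 3, Or.inr (Or.inr (Or.inr (Or.inl ((show T.m 0 = T.m 0 ∧ T.m 3 = 2 * T.m 0 ∧ T.m 2 = 2 * T.m 0 ∧ T.m 1 = T.m 0 ∧ T.w 0 = 2 * T.w 3 ∧ T.w 3 = T.w 3 ∧ T.w 2 = T.w 3 ∧ T.w 1 = 2 * T.w 3 ∧ T.a 0 0 = -4 * T.w 3 ∧ T.a 0 3 = 2 * T.w 3 ∧ T.a 0 2 = 0 ∧ T.a 0 1 = 0 ∧ T.a 3 3 = -2 * T.w 3 ∧ T.a 3 2 = T.w 3 ∧ T.a 3 1 = 0 ∧ T.a 2 2 = -2 * T.w 3 ∧ T.a 2 1 = 2 * T.w 3 ∧ T.a 1 1 =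 -4 * T.w 3 from by omega)))))⟩
            · omega
            · omega
          · rcases pc1 _ _ c23 (by omega) with ⟨rfl, rfl⟩ | ⟨rfl, rfl⟩
            · exact ⟨p2130, T.m 0, T.w 2, Or.inr (Or.inl ((show T.m 2 = 2 * T.m 0 ∧ T.m 1 = 2 * T.m 0 ∧ T.m 3 = 2 * T.m 0 ∧ T.m 0 = T.m 0 ∧ T.w 2 = T.w 2 ∧ T.w 1 = 2 * T.w 2 ∧ T.w 3 = 2 * T.w 2 ∧ T.w 0 = 4 * T.w 2 ∧ T.a 2 2 = -2 * T.w 2 ∧ T.a 2 1 = 2 * T.w 2 ∧ T.a 2 3 = 0 ∧ T.a 2 0 = 0 ∧ T.a 1 1 = -4 * T.w 2 ∧ T.a 1 3 = 2 * T.w 2 ∧ T.a 1 0 = 0 ∧ T.a 3 3 = -4 * T.w 2 ∧ T.a 3 0 = 4 * T.w 2 ∧ T.a 0 0 = -8 * T.w 2 from by omega)))⟩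
            · omega
          · omega
          · omega
        · rcases pc2 _ _ c13 (by omega) with ⟨rfl, rfl⟩ | ⟨rfl, rfl⟩ | ⟨rfl, rfl⟩ | ⟨rfl, rfl⟩
          · rcases pc2 _ _ c23 (by omega) with ⟨rfl, rfl⟩ | ⟨rfl, rfl⟩ | ⟨rfl, rfl⟩ | ⟨rfl, rfl⟩
            · omega
            · exact ⟨p1230, T.m 0, T.w 1, Or.inr (Or.inl ((show T.m 1 = 2 * T.m 0 ∧ T.m 2 = 2 * T.m 0 ∧ T.m 3 = 2 * T.m 0 ∧ T.m 0 = T.m 0 ∧ T.w 1 = T.w 1 ∧ T.w 2 = 2 * T.w 1 ∧ T.w 3 = 2 * T.w 1 ∧ T.w 0 = 4 * T.w 1 ∧ T.a 1 1 = -2 * T.w 1 ∧ T.a 1 2 = 2 * T.w 1 ∧ T.a 1 3 = 0 ∧ T.a 1 0 = 0 ∧ T.a 2 2 = -4 * T.w 1 ∧ T.a 2 3 = 2 * T.w 1 ∧ T.a 2 0 = 0 ∧ T.a 3 3 = -4 * T.w 1 ∧ T.a 3 0 = 4 * T.w 1 ∧ T.a 0 0 = -8 * T.w 1 from by omega)))⟩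
            · omega
            · omega
          · rcases pc1 _ _ c23 (by omega) with ⟨rfl, rfl⟩ | ⟨rfl, rfl⟩
            · exact ⟨p0312, T.m 0, T.w 3, Or.inr (Or.inr (Or.inr (Or.inl ((show T.m 0 = T.m 0 ∧ T.m 3 = 2 * T.m 0 ∧ T.m 1 = 2 * T.m 0 ∧ T.m 2 = T.m 0 ∧ T.w 0 = 2 * T.w 3 ∧ T.w 3 = T.w 3 ∧ T.w 1 = T.w 3 ∧ T.w 2 = 2 * T.w 3 ∧ T.a 0 0 = -4 * T.w 3 ∧ T.a 0 3 = 2 * T.w 3 ∧ T.a 0 1 = 0 ∧ T.a 0 2 = 0 ∧ T.a 3 3 = -2 * T.w 3 ∧ T.a 3 1 = T.w 3 ∧ T.a 3 2 = 0 ∧ T.a 1 1 = -2 * T.w 3 ∧ T.a 1 2 = 2 * T.w 3 ∧ T.a 2 2 = -4 * T.w 3 from by omega)))))⟩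
            · omega
          · omega
          · omega
        · rcases pc1 _ _ c13 (by omega) with ⟨rfl, rfl⟩ | ⟨rfl, rfl⟩
          · rcases pc1 _ _ c23 (by omega) with ⟨rfl, rfl⟩ | ⟨rfl, rfl⟩
            · omega
            · omega
          · omega
        · rcases pc1 _ _ c13 (by omega) with ⟨rfl, rfl⟩ | ⟨rfl, rfl⟩
          · rcases pc1 _ _ c23 (by omega) with ⟨rfl, rfl⟩ | ⟨rfl, rfl⟩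
            · omega
            · omega
          · omega
        · obtain ⟨rfl, rfl⟩ := pc0 _ _ c13 (by omega)
          obtain ⟨rfl, rfl⟩ := pc0 _ _ c23 (by omega)
          omega
        · obtain ⟨rfl, rfl⟩ := pc0 _ _ c13 (by omega)
          obtain ⟨rfl, rfl⟩ := pc0 _ _ c23 (by omega)
          omega
        · obtain ⟨rfl, rfl⟩ := pc0 _ _ c13 (by omega)
          obtain ⟨rfl, rfl⟩ := pc0 _ _ c23 (by omega)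
          omega
      · rcases c12 with ⟨rfl, rfl⟩ | ⟨rfl, rfl⟩ | ⟨rfl, rfl⟩ | ⟨rfl, rfl⟩ | ⟨rfl, rfl⟩ | ⟨rfl, rfl⟩ | ⟨rfl, rfl⟩ | ⟨rfl, rfl⟩ | ⟨rfl, rfl⟩
        · rcases pc2 _ _ c13 (by omega) with ⟨rfl, rfl⟩ | ⟨rfl, rfl⟩ | ⟨rfl, rfl⟩ | ⟨rfl, rfl⟩
          · omega
          · rcases pc1 _ _ c23 (by omega) with ⟨rfl, rfl⟩ | ⟨rfl, rfl⟩
            · omega
            · exact ⟨p3120, T.m 1, T.w 0, Or.inr (Or.inr (Or.inr (Or.inr (Or.inr ((show T.m 3 = 2 * T.m 1 ∧ T.m 1 = T.m 1 ∧ T.m 2 = T.m 1 ∧ T.m 0 = 2 * T.m 1 ∧ T.w 3 = 2 * T.w 0 ∧ T.w 1 = 2 * T.w 0 ∧ T.w 2 = 2 * T.w 0 ∧ T.w 0 = T.w 0 ∧ T.a 3 3 = -4 * T.w 0 ∧ T.a 3 1 = 2 * T.w 0 ∧ T.a 3 2 = 2 * T.w 0 ∧ T.a 3 0 = 2 * T.w 0 ∧ T.a 1 1 = -4 * T.w 0 ∧ T.a 1 2 = 0 ∧ T.a 1 0 = 0 ∧ T.a 2 2 = -4 * T.w 0 ∧ T.a 2 0 = 0 ∧ T.a 0 0 = -2 *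 T.w 0 from by omega))))))⟩
          · obtain ⟨rfl, rfl⟩ := pc0 _ _ c23 (by omega)
            omega
          · obtain ⟨rfl, rfl⟩ := pc0 _ _ c23 (by omega)
            omega
        · rcases pc2 _ _ c13 (by omega) with ⟨rfl, rfl⟩ | ⟨rfl, rfl⟩ | ⟨rfl, rfl⟩ | ⟨rfl, rfl⟩
          · rcases pc2 _ _ c23 (by omega) with ⟨rfl, rfl⟩ | ⟨rfl, rfl⟩ | ⟨rfl, rfl⟩ | ⟨rfl, rfl⟩
            · omega
            · omega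
            · omega
            · omega
          · rcases pc1 _ _ c23 (by omega) with ⟨rfl, rfl⟩ | ⟨rfl, rfl⟩
            · omega
            · omega
          · omega
          · omega
        · rcases pc2 _ _ c13 (by omega) with ⟨rfl, rfl⟩ | ⟨rfl, rfl⟩ | ⟨rfl, rfl⟩ | ⟨rfl, rfl⟩
          · rcases pc2 _ _ c23 (by omega) with ⟨rfl, rfl⟩ | ⟨rfl, rfl⟩ | ⟨rfl, rfl⟩ | ⟨rfl, rfl⟩
            · omega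
            · exact ⟨p0321, T.m 1, T.w 0, Or.inr (Or.inl ((show T.m 0 = 2 * T.m 1 ∧ T.m 3 = 2 * T.m 1 ∧ T.m 2 = 2 * T.m 1 ∧ T.m 1 = T.m 1 ∧ T.w 0 = T.w 0 ∧ T.w 3 = 2 * T.w 0 ∧ T.w 2 = 2 * T.w 0 ∧ T.w 1 = 4 * T.w 0 ∧ T.a 0 0 = -2 * T.w 0 ∧ T.a 0 3 = 2 * T.w 0 ∧ T.a 0 2 = 0 ∧ T.a 0 1 = 0 ∧ T.a 3 3 = -4 * T.w 0 ∧ T.a 3 2 = 2 * T.w 0 ∧ T.a 3 1 = 0 ∧ T.a 2 2 = -4 * T.w 0 ∧ T.a 2 1 = 4 * T.w 0 ∧ T.a 1 1 = -8 * T.w 0 from by omega)))⟩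
            · omega
            · omega
          · rcases pc1 _ _ c23 (by omega) with ⟨rfl, rfl⟩ | ⟨rfl, rfl⟩
            · exact ⟨p0312, T.m 0, T.w 0, Or.inr (Or.inr (Or.inl ((show T.m 0 = T.m 0 ∧ T.m 3 = T.m 0 ∧ T.m 1 = T.m 0 ∧ T.m 2 = T.m 0 ∧ T.w 0 = T.w 0 ∧ T.w 3 = 2 * T.w 0 ∧ T.w 1 = 2 * T.w 0 ∧ T.w 2 = T.w 0 ∧ T.a 0 0 = -2 * T.w 0 ∧ T.a 0 3 = 2 * T.w 0 ∧ T.a 0 1 = 0 ∧ T.a 0 2 = 0 ∧ T.a 3 3 = -4 * T.w 0 ∧ T.a 3 1 = 2 * T.w 0 ∧ T.a 3 2 = 0 ∧ T.a 1 1 = -4 * T.w 0 ∧ T.a 1 2 = 2 * T.w 0 ∧ T.a 2 2 = -2 * T.w 0 from by omega))))⟩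
            · omega
          · omega
          · omega
        · rcases pc2 _ _ c13 (by omega) with ⟨rfl, rfl⟩ | ⟨rfl, rfl⟩ | ⟨rfl, rfl⟩ | ⟨rfl, rfl⟩
          · rcases pc2 _ _ c23 (by omega) with ⟨rfl, rfl⟩ | ⟨rfl, rfl⟩ | ⟨rfl, rfl⟩ | ⟨rfl, rfl⟩
            · omega
            · exact ⟨p0321, T.m 0, T.w 0, Or.inr (Or.inr (Or.inl ((show T.m 0 = T.m 0 ∧ T.m 3 = T.m 0 ∧ T.m 2 = T.m 0 ∧ T.m 1 = T.m 0 ∧ T.w 0 = T.w 0 ∧ T.w 3 = 2 * T.w 0 ∧ T.w 2 = 2 * T.w 0 ∧ T.w 1 = T.w 0 ∧ T.a 0 0 = -2 * T.w 0 ∧ T.a 0 3 = 2 * T.w 0 ∧ T.a 0 2 = 0 ∧ T.a 0 1 = 0 ∧ T.a 3 3 = -4 * T.w 0 ∧ T.a 3 2 = 2 * T.w 0 ∧ T.a 3 1 = 0 ∧ T.a 2 2 = -4 * T.w 0 ∧ T.a 2 1 = 2 * T.w 0 ∧ T.a 1 1 = -2 * T.w 0 from by omega))))⟩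
            · omega
            · omega
          · rcases pc1 _ _ c23 (by omega) with ⟨rfl, rfl⟩ | ⟨rfl, rfl⟩
            · exact ⟨p0312, T.m 2, T.w 0, Or.inr (Or.inl ((show T.m 0 = 2 * T.m 2 ∧ T.m 3 = 2 * T.m 2 ∧ T.m 1 = 2 * T.m 2 ∧ T.m 2 = T.m 2 ∧ T.w 0 = T.w 0 ∧ T.w 3 = 2 * T.w 0 ∧ T.w 1 = 2 * T.w 0 ∧ T.w 2 = 4 * T.w 0 ∧ T.a 0 0 = -2 * T.w 0 ∧ T.a 0 3 = 2 * T.w 0 ∧ T.a 0 1 = 0 ∧ T.a 0 2 = 0 ∧ T.a 3 3 = -4 * T.w 0 ∧ T.a 3 1 = 2 * T.w 0 ∧ T.a 3 2 = 0 ∧ T.a 1 1 = -4 * T.w 0 ∧ T.a 1 2 = 4 * T.w 0 ∧ T.a 2 2 = -8 * T.w 0 from by omega)))⟩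
            · omega
          · omega
          · omega
        · rcases pc1 _ _ c13 (by omega) with ⟨rfl, rfl⟩ | ⟨rfl, rfl⟩
          · rcases pc1 _ _ c23 (by omega) with ⟨rfl, rfl⟩ | ⟨rfl, rfl⟩
            · omega
            · omega
          · omega
        · rcases pc1 _ _ c13 (by omega) with ⟨rfl, rfl⟩ | ⟨rfl, rfl⟩
          · rcases pc1 _ _ c23 (by omega) with ⟨rfl, rfl⟩ | ⟨rfl, rfl⟩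
            · omega
            · omega
          · omega
        · obtain ⟨rfl, rfl⟩ := pc0 _ _ c13 (by omega)
          obtain ⟨rfl, rfl⟩ := pc0 _ _ c23 (by omega)
          omega
        · obtain ⟨rfl, rfl⟩ := pc0 _ _ c13 (by omega)
          obtain ⟨rfl, rfl⟩ := pc0 _ _ c23 (by omega)
          omega
        · obtain ⟨rfl, rfl⟩ := pc0 _ _ c13 (by omega)
          obtain ⟨rfl, rfl⟩ := pc0 _ _ c23 (by omega)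
          omega
      · rcases c12 with ⟨rfl, rfl⟩ | ⟨rfl, rfl⟩ | ⟨rfl, rfl⟩ | ⟨rfl, rfl⟩ | ⟨rfl, rfl⟩ | ⟨rfl, rfl⟩ | ⟨rfl, rfl⟩ | ⟨rfl, rfl⟩ | ⟨rfl, rfl⟩
        · rcases pc1 _ _ c13 (by omega) with ⟨rfl, rfl⟩ | ⟨rfl, rfl⟩
          · omega
          · obtain ⟨rfl, rfl⟩ := pc0 _ _ c23 (by omega)
            omega
        · rcases pc1 _ _ c13 (by omega) with ⟨rfl, rfl⟩ | ⟨rfl, rfl⟩
          · rcases pc1 _ _ c23 (by omega) with ⟨rfl, rfl⟩ | ⟨rfl, rfl⟩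
            · omega
            · omega
          · omega
        · rcases pc1 _ _ c13 (by omega) with ⟨rfl, rfl⟩ | ⟨rfl, rfl⟩
          · rcases pc1 _ _ c23 (by omega) with ⟨rfl, rfl⟩ | ⟨rfl, rfl⟩
            · omega
            · omega
          · omega
        · rcases pc1 _ _ c13 (by omega) with ⟨rfl, rfl⟩ | ⟨rfl, rfl⟩
          · rcases pc1 _ _ c23 (by omega) with ⟨rfl, rfl⟩ | ⟨rfl, rfl⟩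
            · omega
            · omega
          · omega
        · rcases pc1 _ _ c13 (by omega) with ⟨rfl, rfl⟩ | ⟨rfl, rfl⟩
          · rcases pc1 _ _ c23 (by omega) with ⟨rfl, rfl⟩ | ⟨rfl, rfl⟩
            · omega
            · omega
          · omega
        · rcases pc1 _ _ c13 (by omega) with ⟨rfl, rfl⟩ | ⟨rfl, rfl⟩
          · rcases pc1 _ _ c23 (by omega) with ⟨rfl, rfl⟩ | ⟨rfl, rfl⟩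
            · omega
            · omega
          · omega
        · obtain ⟨rfl, rfl⟩ := pc0 _ _ c13 (by omega)
          obtain ⟨rfl, rfl⟩ := pc0 _ _ c23 (by omega)
          omega
        · obtain ⟨rfl, rfl⟩ := pc0 _ _ c13 (by omega)
          obtain ⟨rfl, rfl⟩ := pc0 _ _ c23 (by omega)
          omega
        · obtain ⟨rfl, rfl⟩ := pc0 _ _ c13 (by omega)
          obtain ⟨rfl, rfl⟩ := pc0 _ _ c23 (by omega)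
          omega
      · rcases c12 with ⟨rfl, rfl⟩ | ⟨rfl, rfl⟩ | ⟨rfl, rfl⟩ | ⟨rfl, rfl⟩ | ⟨rfl, rfl⟩ | ⟨rfl, rfl⟩ | ⟨rfl, rfl⟩ | ⟨rfl, rfl⟩ | ⟨rfl, rfl⟩
        · rcases pc1 _ _ c13 (by omega) with ⟨rfl, rfl⟩ | ⟨rfl, rfl⟩
          · omega
          · obtain ⟨rfl, rfl⟩ := pc0 _ _ c23 (by omega)
            omega
        · rcases pc1 _ _ c13 (by omega) with ⟨rfl, rfl⟩ | ⟨rfl, rfl⟩
          · rcases pc1 _ _ c23 (by omega) with ⟨rfl, rfl⟩ | ⟨rfl, rfl⟩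
            · omega
            · omega
          · omega
        · rcases pc1 _ _ c13 (by omega) with ⟨rfl, rfl⟩ | ⟨rfl, rfl⟩
          · rcases pc1 _ _ c23 (by omega) with ⟨rfl, rfl⟩ | ⟨rfl, rfl⟩
            · omega
            · omega
          · omega
        · rcases pc1 _ _ c13 (by omega) with ⟨rfl, rfl⟩ | ⟨rfl, rfl⟩
          · rcases pc1 _ _ c23 (by omega) with ⟨rfl, rfl⟩ | ⟨rfl, rfl⟩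
            · omega
            · omega
          · omega
        · rcases pc1 _ _ c13 (by omega) with ⟨rfl, rfl⟩ | ⟨rfl, rfl⟩
          · rcases pc1 _ _ c23 (by omega) with ⟨rfl, rfl⟩ | ⟨rfl, rfl⟩
            · omega
            · omega
          · omega
        · rcases pc1 _ _ c13 (by omega) with ⟨rfl, rfl⟩ | ⟨rfl, rfl⟩
          · rcases pc1 _ _ c23 (by omega) with ⟨rfl, rfl⟩ | ⟨rfl, rfl⟩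
            · omega
            · omega
          · omega
        · obtain ⟨rfl, rfl⟩ := pc0 _ _ c13 (by omega)
          obtain ⟨rfl, rfl⟩ := pc0 _ _ c23 (by omega)
          omega
        · obtain ⟨rfl, rfl⟩ := pc0 _ _ c13 (by omega)
          obtain ⟨rfl, rfl⟩ := pc0 _ _ c23 (by omega)
          omega
        · obtain ⟨rfl, rfl⟩ := pc0 _ _ c13 (by omega)
          obtain ⟨rfl, rfl⟩ := pc0 _ _ c23 (by omega)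
          omega
      · rcases c12 with ⟨rfl, rfl⟩ | ⟨rfl, rfl⟩ | ⟨rfl, rfl⟩ | ⟨rfl, rfl⟩ | ⟨rfl, rfl⟩ | ⟨rfl, rfl⟩ | ⟨rfl, rfl⟩ | ⟨rfl, rfl⟩ | ⟨rfl, rfl⟩
        · obtain ⟨rfl, rfl⟩ := pc0 _ _ c13 (by omega)
          omega
        · obtain ⟨rfl, rfl⟩ := pc0 _ _ c13 (by omega)
          obtain ⟨rfl, rfl⟩ := pc0 _ _ c23 (by omega)
          omega
        · obtain ⟨rfl, rfl⟩ := pc0 _ _ c13 (by omega)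
          obtain ⟨rfl, rfl⟩ := pc0 _ _ c23 (by omega)
          omega
        · obtain ⟨rfl, rfl⟩ := pc0 _ _ c13 (by omega)
          obtain ⟨rfl, rfl⟩ := pc0 _ _ c23 (by omega)
          omega
        · obtain ⟨rfl, rfl⟩ := pc0 _ _ c13 (by omega)
          obtain ⟨rfl, rfl⟩ := pc0 _ _ c23 (by omega)
          omega
        · obtain ⟨rfl, rfl⟩ := pc0 _ _ c13 (by omega)
          obtain ⟨rfl, rfl⟩ := pc0 _ _ c23 (by omega)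
          omega
        · obtain ⟨rfl, rfl⟩ := pc0 _ _ c13 (by omega)
          obtain ⟨rfl, rfl⟩ := pc0 _ _ c23 (by omega)
          omega
        · obtain ⟨rfl, rfl⟩ := pc0 _ _ c13 (by omega)
          obtain ⟨rfl, rfl⟩ := pc0 _ _ c23 (by omega)
          omega
        · obtain ⟨rfl, rfl⟩ := pc0 _ _ c13 (by omega)
          obtain ⟨rfl, rfl⟩ := pc0 _ _ c23 (by omega)
          omega
      · rcases c12 with ⟨rfl, rfl⟩ | ⟨rfl, rfl⟩ | ⟨rfl, rfl⟩ | ⟨rfl, rfl⟩ | ⟨rfl, rfl⟩ | ⟨rfl, rfl⟩ | ⟨rfl, rfl⟩ | ⟨rfl, rfl⟩ | ⟨rfl, rfl⟩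
        · obtain ⟨rfl, rfl⟩ := pc0 _ _ c13 (by omega)
          omega
        · obtain ⟨rfl, rfl⟩ := pc0 _ _ c13 (by omega)
          obtain ⟨rfl, rfl⟩ := pc0 _ _ c23 (by omega)
          omega
        · obtain ⟨rfl, rfl⟩ := pc0 _ _ c13 (by omega)
          obtain ⟨rfl, rfl⟩ := pc0 _ _ c23 (by omega)
          omega
        · obtain ⟨rfl, rfl⟩ := pc0 _ _ c13 (by omega)
          obtain ⟨rfl, rfl⟩ := pc0 _ _ c23 (by omega)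
          omega
        · obtain ⟨rfl, rfl⟩ := pc0 _ _ c13 (by omega)
          obtain ⟨rfl, rfl⟩ := pc0 _ _ c23 (by omega)
          omega
        · obtain ⟨rfl, rfl⟩ := pc0 _ _ c13 (by omega)
          obtain ⟨rfl, rfl⟩ := pc0 _ _ c23 (by omega)
          omega
        · obtain ⟨rfl, rfl⟩ := pc0 _ _ c13 (by omega)
          obtain ⟨rfl, rfl⟩ := pc0 _ _ c23 (by omega)
          omega
        · obtain ⟨rfl, rfl⟩ := pc0 _ _ c13 (by omega)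
          obtain ⟨rfl, rfl⟩ := pc0 _ _ c23 (by omega)
          omega
        · obtain ⟨rfl, rfl⟩ := pc0 _ _ c13 (by omega)
          obtain ⟨rfl, rfl⟩ := pc0 _ _ c23 (by omega)
          omega
      · rcases c12 with ⟨rfl, rfl⟩ | ⟨rfl, rfl⟩ | ⟨rfl, rfl⟩ | ⟨rfl, rfl⟩ | ⟨rfl, rfl⟩ | ⟨rfl, rfl⟩ | ⟨rfl, rfl⟩ | ⟨rfl, rfl⟩ | ⟨rfl, rfl⟩
        · obtain ⟨rfl, rfl⟩ := pc0 _ _ c13 (by omega)
          omega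
        · obtain ⟨rfl, rfl⟩ := pc0 _ _ c13 (by omega)
          obtain ⟨rfl, rfl⟩ := pc0 _ _ c23 (by omega)
          omega
        · obtain ⟨rfl, rfl⟩ := pc0 _ _ c13 (by omega)
          obtain ⟨rfl, rfl⟩ := pc0 _ _ c23 (by omega)
          omega
        · obtain ⟨rfl, rfl⟩ := pc0 _ _ c13 (by omega)
          obtain ⟨rfl, rfl⟩ := pc0 _ _ c23 (by omega)
          omega
        · obtain ⟨rfl, rfl⟩ := pc0 _ _ c13 (by omega)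
          obtain ⟨rfl, rfl⟩ := pc0 _ _ c23 (by omega)
          omega
        · obtain ⟨rfl, rfl⟩ := pc0 _ _ c13 (by omega)
          obtain ⟨rfl, rfl⟩ := pc0 _ _ c23 (by omega)
          omega
        · obtain ⟨rfl, rfl⟩ := pc0 _ _ c13 (by omega)
          obtain ⟨rfl, rfl⟩ := pc0 _ _ c23 (by omega)
          omega
        · obtain ⟨rfl, rfl⟩ := pc0 _ _ c13 (by omega)
          obtain ⟨rfl, rfl⟩ := pc0 _ _ c23 (by omega)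
          omega
        · obtain ⟨rfl, rfl⟩ := pc0 _ _ c13 (by omega)
          obtain ⟨rfl, rfl⟩ := pc0 _ _ c23 (by omega)
          omega
    · rcases pc3 _ _ c03 (by omega) with ⟨rfl, rfl⟩ | ⟨rfl, rfl⟩ | ⟨rfl, rfl⟩ | ⟨rfl, rfl⟩ | ⟨rfl, rfl⟩ | ⟨rfl, rfl⟩
      · rcases pc3 _ _ c12 (by omega) with ⟨rfl, rfl⟩ | ⟨rfl, rfl⟩ | ⟨rfl, rfl⟩ | ⟨rfl, rfl⟩ | ⟨rfl, rfl⟩ | ⟨rfl, rfl⟩
        · rcases c13 with ⟨rfl, rfl⟩ | ⟨rfl, rfl⟩ | ⟨rfl, rfl⟩ | ⟨rfl, rfl⟩ | ⟨rfl, rfl⟩ | ⟨rfl, rfl⟩ | ⟨rfl, rfl⟩ | ⟨rfl, rfl⟩ | ⟨rfl, rfl⟩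
          · omega
          · rcases pc3 _ _ c23 (by omega) with ⟨rfl, rfl⟩ | ⟨rfl, rfl⟩ | ⟨rfl, rfl⟩ | ⟨rfl, rfl⟩ | ⟨rfl, rfl⟩ | ⟨rfl, rfl⟩
            · omega
            · omega
            · omega
            · omega
            · omega
            · omega
          · rcases pc2 _ _ c23 (by omega) with ⟨rfl, rfl⟩ | ⟨rfl, rfl⟩ | ⟨rfl, rfl⟩ | ⟨rfl, rfl⟩
            · omega
            · omega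
            · omega
            · omega
          · rcases pc2 _ _ c23 (by omega) with ⟨rfl, rfl⟩ | ⟨rfl, rfl⟩ | ⟨rfl, rfl⟩ | ⟨rfl, rfl⟩
            · omega
            · omega
            · omega
            · omega
          · rcases pc1 _ _ c23 (by omega) with ⟨rfl, rfl⟩ | ⟨rfl, rfl⟩
            · omega
            · omega
          · rcases pc1 _ _ c23 (by omega) with ⟨rfl, rfl⟩ | ⟨rfl, rfl⟩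
            · omega
            · omega
          · obtain ⟨rfl, rfl⟩ := pc0 _ _ c23 (by omega)
            omega
          · obtain ⟨rfl, rfl⟩ := pc0 _ _ c23 (by omega)
            omega
          · obtain ⟨rfl, rfl⟩ := pc0 _ _ c23 (by omega)
            omega
        · rcases pc3 _ _ c13 (by omega) with ⟨rfl, rfl⟩ | ⟨rfl, rfl⟩ | ⟨rfl, rfl⟩ | ⟨rfl, rfl⟩ | ⟨rfl, rfl⟩ | ⟨rfl, rfl⟩
          · rcases pc2 _ _ c23 (by omega) with ⟨rfl, rfl⟩ | ⟨rfl, rfl⟩ | ⟨rfl, rfl⟩ | ⟨rfl, rfl⟩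
            · omega
            · omega
            · exact ⟨p2013, T.m 0, T.w 3, Or.inr (Or.inr (Or.inr (Or.inr (Or.inr ((show T.m 2 = 2 * T.m 0 ∧ T.m 0 = T.m 0 ∧ T.m 1 = T.m 0 ∧ T.m 3 = 2 * T.m 0 ∧ T.w 2 = 2 * T.w 3 ∧ T.w 0 = 2 * T.w 3 ∧ T.w 1 = 2 * T.w 3 ∧ T.w 3 = T.w 3 ∧ T.a 2 2 = -4 * T.w 3 ∧ T.a 2 0 = 2 * T.w 3 ∧ T.a 2 1 = 2 * T.w 3 ∧ T.a 2 3 = 2 * T.w 3 ∧ T.a 0 0 = -4 * T.w 3 ∧ T.a 0 1 = 0 ∧ T.a 0 3 = 0 ∧ T.a 1 1 = -4 * T.w 3 ∧ T.a 1 3 = 0 ∧ T.a 3 3 = -2 * T.w 3 from by omega))))))⟩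
            · exact ⟨p2013, T.m 0, T.w 2, Or.inr (Or.inr (Or.inr (Or.inr (Or.inl ((show T.m 2 = 2 * T.m 0 ∧ T.m 0 = T.m 0 ∧ T.m 1 = T.m 0 ∧ T.m 3 = T.m 0 ∧ T.w 2 = T.w 2 ∧ T.w 0 = T.w 2 ∧ T.w 1 = T.w 2 ∧ T.w 3 = 2 * T.w 2 ∧ T.a 2 2 = -2 * T.w 2 ∧ T.a 2 0 = T.w 2 ∧ T.a 2 1 = T.w 2 ∧ T.a 2 3 = 2 * T.w 2 ∧ T.a 0 0 = -2 * T.w 2 ∧ T.a 0 1 = 0 ∧ T.a 0 3 = 0 ∧ T.a 1 1 = -2 * T.w 2 ∧ T.a 1 3 = 0 ∧ T.a 3 3 = -4 * T.w 2 from by omega))))))⟩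
          · rcases pc2 _ _ c23 (by omega) with ⟨rfl, rfl⟩ | ⟨rfl, rfl⟩ | ⟨rfl, rfl⟩ | ⟨rfl, rfl⟩
            · omega
            · omega
            · omega
            · omega
          · rcases pc2 _ _ c23 (by omega) with ⟨rfl, rfl⟩ | ⟨rfl, rfl⟩ | ⟨rfl, rfl⟩ | ⟨rfl, rfl⟩
            · omega
            · omega
            · omega
            · omega
          · rcases pc2 _ _ c23 (by omega) with ⟨rfl, rfl⟩ | ⟨rfl, rfl⟩ | ⟨rfl, rfl⟩ | ⟨rfl, rfl⟩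
            · omega
            · omega
            · omega
            · omega
          · omega
          · omega
        · rcases pc2 _ _ c13 (by omega) with ⟨rfl, rfl⟩ | ⟨rfl, rfl⟩ | ⟨rfl, rfl⟩ | ⟨rfl, rfl⟩
          · rcases pc1 _ _ c23 (by omega) with ⟨rfl, rfl⟩ | ⟨rfl, rfl⟩
            · omega
            · exact ⟨p2031, T.m 0, T.w 2, Or.inr (Or.inr (Or.inr (Or.inr (Or.inl ((show T.m 2 = 2 * T.m 0 ∧ T.m 0 = T.m 0 ∧ T.m 3 = T.m 0 ∧ T.m 1 = T.m 0 ∧ T.w 2 = T.w 2 ∧ T.w 0 = T.w 2 ∧ T.w 3 = T.w 2 ∧ T.w 1 = 2 * T.w 2 ∧ T.a 2 2 = -2 * T.w 2 ∧ T.a 2 0 = T.w 2 ∧ T.a 2 3 = T.w 2 ∧ T.a 2 1 = 2 * T.w 2 ∧ T.a 0 0 = -2 * T.w 2 ∧ T.a 0 3 = 0 ∧ T.a 0 1 = 0 ∧ T.a 3 3 = -2 * T.w 2 ∧ T.a 3 1 = 0 ∧ T.a 1 1 = -4 * T.w 2 from by omega))))))⟩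
          · rcases pc1 _ _ c23 (by omega) with ⟨rfl, rfl⟩ | ⟨rfl, rfl⟩
            · omega
            · omega
          · omega
          · omega
        · rcases pc2 _ _ c13 (by omega) with ⟨rfl, rfl⟩ | ⟨rfl, rfl⟩ | ⟨rfl, rfl⟩ | ⟨rfl, rfl⟩
          · rcases pc1 _ _ c23 (by omega) with ⟨rfl, rfl⟩ | ⟨rfl, rfl⟩
            · omega
            · exact ⟨p2031, T.m 0, T.w 1, Or.inr (Or.inr (Or.inr (Or.inr (Or.inr ((show T.m 2 = 2 * T.m 0 ∧ T.m 0 = T.m 0 ∧ T.m 3 = T.m 0 ∧ T.m 1 = 2 * T.m 0 ∧ T.w 2 = 2 * T.w 1 ∧ T.w 0 = 2 * T.w 1 ∧ T.w 3 = 2 * T.w 1 ∧ T.w 1 = T.w 1 ∧ T.a 2 2 = -4 * T.w 1 ∧ T.a 2 0 = 2 * T.w 1 ∧ T.a 2 3 = 2 * T.w 1 ∧ T.a 2 1 = 2 * T.w 1 ∧ T.a 0 0 = -4 * T.w 1 ∧ T.a 0 3 = 0 ∧ T.a 0 1 = 0 ∧ T.a 3 3 = -4 * T.w 1 ∧ T.a 3 1 = 0 ∧ T.a 1 1 = -2 * T.w 1 from by omega))))))⟩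
          · rcases pc1 _ _ c23 (by omega) with ⟨rfl, rfl⟩ | ⟨rfl, rfl⟩
            · omega
            · omega
          · omega
          · omega
        · rcases pc1 _ _ c13 (by omega) with ⟨rfl, rfl⟩ | ⟨rfl, rfl⟩
          · obtain ⟨rfl, rfl⟩ := pc0 _ _ c23 (by omega)
            omega
          · omega
        · rcases pc1 _ _ c13 (by omega) with ⟨rfl, rfl⟩ | ⟨rfl, rfl⟩
          · obtain ⟨rfl, rfl⟩ := pc0 _ _ c23 (by omega)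
            omega
          · omega
      · rcases pc3 _ _ c12 (by omega) with ⟨rfl, rfl⟩ | ⟨rfl, rfl⟩ | ⟨rfl, rfl⟩ | ⟨rfl, rfl⟩ | ⟨rfl, rfl⟩ | ⟨rfl, rfl⟩
        · rcases pc3 _ _ c13 (by omega) with ⟨rfl, rfl⟩ | ⟨rfl, rfl⟩ | ⟨rfl, rfl⟩ | ⟨rfl, rfl⟩ | ⟨rfl, rfl⟩ | ⟨rfl, rfl⟩
          · omega
          · rcases pc2 _ _ c23 (by omega) with ⟨rfl, rfl⟩ | ⟨rfl, rfl⟩ | ⟨rfl, rfl⟩ | ⟨rfl, rfl⟩
            · omega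
            · omega
            · omega
            · omega
          · rcases pc1 _ _ c23 (by omega) with ⟨rfl, rfl⟩ | ⟨rfl, rfl⟩
            · omega
            · omega
          · rcases pc1 _ _ c23 (by omega) with ⟨rfl, rfl⟩ | ⟨rfl, rfl⟩
            · omega
            · omega
          · omega
          · omega
        · rcases pc3 _ _ c13 (by omega) with ⟨rfl, rfl⟩ | ⟨rfl, rfl⟩ | ⟨rfl, rfl⟩ | ⟨rfl, rfl⟩ | ⟨rfl, rfl⟩ | ⟨rfl, rfl⟩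
          · rcases pc2 _ _ c23 (by omega) with ⟨rfl, rfl⟩ | ⟨rfl, rfl⟩ | ⟨rfl, rfl⟩ | ⟨rfl, rfl⟩
            · omega
            · omega
            · omega
            · omega
          · rcases pc2 _ _ c23 (by omega) with ⟨rfl, rfl⟩ | ⟨rfl, rfl⟩ | ⟨rfl, rfl⟩ | ⟨rfl, rfl⟩
            · exact ⟨p0213, T.m 0, T.w 0, Or.inl ((show T.m 0 = T.m 0 ∧ T.m 2 = T.m 0 ∧ T.m 1 = T.m 0 ∧ T.m 3 = T.m 0 ∧ T.w 0 = T.w 0 ∧ T.w 2 = T.w 0 ∧ T.w 1 = T.w 0 ∧ T.w 3 = T.w 0 ∧ T.a 0 0 = -2 * T.w 0 ∧ T.a 0 2 = T.w 0 ∧ T.a 0 1 = 0 ∧ T.a 0 3 = T.w 0 ∧ T.a 2 2 = -2 * T.w 0 ∧ T.a 2 1 = T.w 0 ∧ T.a 2 3 = 0 ∧ T.a 1 1 = -2 * T.w 0 ∧ T.a 1 3 = T.w 0 ∧ T.a 3 3 = -2 * T.w 0 from by omega))⟩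
            · omega
            · omega
            · omega
          · omega
          · omega
          · omega
          · omega
        · rcases pc2 _ _ c13 (by omega) with ⟨rfl, rfl⟩ | ⟨rfl, rfl⟩ | ⟨rfl, rfl⟩ | ⟨rfl, rfl⟩
          · rcases pc1 _ _ c23 (by omega) with ⟨rfl, rfl⟩ | ⟨rfl, rfl⟩
            · omega
            · omega
          · omega
          · omega
          · omega
        · rcases pc2 _ _ c13 (by omega) with ⟨rfl, rfl⟩ | ⟨rfl, rfl⟩ | ⟨rfl, rfl⟩ | ⟨rfl, rfl⟩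
          · rcases pc1 _ _ c23 (by omega) with ⟨rfl, rfl⟩ | ⟨rfl, rfl⟩
            · omega
            · omega
          · omega
          · omega
          · omega
        · omega
        · omega
      · rcases pc3 _ _ c12 (by omega) with ⟨rfl, rfl⟩ | ⟨rfl, rfl⟩ | ⟨rfl, rfl⟩ | ⟨rfl, rfl⟩ | ⟨rfl, rfl⟩ | ⟨rfl, rfl⟩
        · rcases pc2 _ _ c13 (by omega) with ⟨rfl, rfl⟩ | ⟨rfl, rfl⟩ | ⟨rfl, rfl⟩ | ⟨rfl, rfl⟩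
          · omega
          · rcases pc1 _ _ c23 (by omega) with ⟨rfl, rfl⟩ | ⟨rfl, rfl⟩
            · omega
            · omega
          · omega
          · omega
        · rcases pc2 _ _ c13 (by omega) with ⟨rfl, rfl⟩ | ⟨rfl, rfl⟩ | ⟨rfl, rfl⟩ | ⟨rfl, rfl⟩
          · rcases pc2 _ _ c23 (by omega) with ⟨rfl, rfl⟩ | ⟨rfl, rfl⟩ | ⟨rfl, rfl⟩ | ⟨rfl, rfl⟩
            · omega
            · omega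
            · omega
            · omega
          · omega
          · omega
          · omega
        · rcases pc2 _ _ c13 (by omega) with ⟨rfl, rfl⟩ | ⟨rfl, rfl⟩ | ⟨rfl, rfl⟩ | ⟨rfl, rfl⟩
          · rcases pc1 _ _ c23 (by omega) with ⟨rfl, rfl⟩ | ⟨rfl, rfl⟩
            · exact ⟨p3021, T.m 1, T.w 3, Or.inr (Or.inl ((show T.m 3 = 2 * T.m 1 ∧ T.m 0 = 2 * T.m 1 ∧ T.m 2 = 2 * T.m 1 ∧ T.m 1 = T.m 1 ∧ T.w 3 = T.w 3 ∧ T.w 0 = 2 * T.w 3 ∧ T.w 2 = 2 * T.w 3 ∧ T.w 1 = 4 * T.w 3 ∧ T.a 3 3 = -2 * T.w 3 ∧ T.a 3 0 = 2 * T.w 3 ∧ T.a 3 2 = 0 ∧ T.a 3 1 = 0 ∧ T.a 0 0 = -4 * T.w 3 ∧ T.a 0 2 = 2 * T.w 3 ∧ T.a 0 1 = 0 ∧ T.a 2 2 = -4 * T.w 3 ∧ T.a 2 1 = 4 * T.w 3 ∧ T.a 1 1 = -8 * T.w 3 from by omega)))⟩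
            · omega
          · omega
          · omega
          · omega
        · rcases pc2 _ _ c13 (by omega) with ⟨rfl, rfl⟩ | ⟨rfl, rfl⟩ | ⟨rfl, rfl⟩ | ⟨rfl, rfl⟩
          · rcases pc1 _ _ c23 (by omega) with ⟨rfl, rfl⟩ | ⟨rfl, rfl⟩
            · exact ⟨p1203, T.m 1, T.w 1, Or.inr (Or.inr (Or.inl ((show T.m 1 = T.m 1 ∧ T.m 2 = T.m 1 ∧ T.m 0 = T.m 1 ∧ T.m 3 = T.m 1 ∧ T.w 1 = T.w 1 ∧ T.w 2 = 2 * T.w 1 ∧ T.w 0 = 2 * T.w 1 ∧ T.w 3 = T.w 1 ∧ T.a 1 1 = -2 * T.w 1 ∧ T.a 1 2 = 2 * T.w 1 ∧ T.a 1 0 = 0 ∧ T.a 1 3 = 0 ∧ T.a 2 2 = -4 * T.w 1 ∧ T.a 2 0 = 2 * T.w 1 ∧ T.a 2 3 = 0 ∧ T.a 0 0 = -4 * T.w 1 ∧ T.a 0 3 = 2 * T.w 1 ∧ T.a 3 3 = -2 * T.w 1 from by omega))))⟩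
            · omega
          · omega
          · omega
          · omega
        · omega
        · omega
      · rcases pc3 _ _ c12 (by omega) with ⟨rfl, rfl⟩ | ⟨rfl, rfl⟩ | ⟨rfl, rfl⟩ | ⟨rfl, rfl⟩ | ⟨rfl, rfl⟩ | ⟨rfl, rfl⟩
        · rcases pc2 _ _ c13 (by omega) with ⟨rfl, rfl⟩ | ⟨rfl, rfl⟩ | ⟨rfl, rfl⟩ | ⟨rfl, rfl⟩
          · omega
          · rcases pc1 _ _ c23 (by omega) with ⟨rfl, rfl⟩ | ⟨rfl, rfl⟩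
            · omega
            · omega
          · omega
          · omega
        · rcases pc2 _ _ c13 (by omega) with ⟨rfl, rfl⟩ | ⟨rfl, rfl⟩ | ⟨rfl, rfl⟩ | ⟨rfl, rfl⟩
          · rcases pc2 _ _ c23 (by omega) with ⟨rfl, rfl⟩ | ⟨rfl, rfl⟩ | ⟨rfl, rfl⟩ | ⟨rfl, rfl⟩
            · omega
            · omega
            · omega
            · omega
          · omega
          · omega
          · omega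
        · rcases pc2 _ _ c13 (by omega) with ⟨rfl, rfl⟩ | ⟨rfl, rfl⟩ | ⟨rfl, rfl⟩ | ⟨rfl, rfl⟩
          · rcases pc1 _ _ c23 (by omega) with ⟨rfl, rfl⟩ | ⟨rfl, rfl⟩
            · exact ⟨p1203, T.m 1, T.w 2, Or.inr (Or.inr (Or.inr (Or.inl ((show T.m 1 = T.m 1 ∧ T.m 2 = 2 * T.m 1 ∧ T.m 0 = 2 * T.m 1 ∧ T.m 3 = T.m 1 ∧ T.w 1 = 2 * T.w 2 ∧ T.w 2 = T.w 2 ∧ T.w 0 = T.w 2 ∧ T.w 3 = 2 * T.w 2 ∧ T.a 1 1 = -4 * T.w 2 ∧ T.a 1 2 = 2 * T.w 2 ∧ T.a 1 0 = 0 ∧ T.a 1 3 = 0 ∧ T.a 2 2 = -2 * T.w 2 ∧ T.a 2 0 = T.w 2 ∧ T.a 2 3 = 0 ∧ T.a 0 0 = -2 * T.w 2 ∧ T.a 0 3 = 2 * T.w 2 ∧ T.a 3 3 = -4 * T.w 2 from by omega)))))⟩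
            · omega
          · omega
          · omega
          · omega
        · rcases pc2 _ _ c13 (by omega) with ⟨rfl, rfl⟩ | ⟨rfl, rfl⟩ | ⟨rfl, rfl⟩ | ⟨rfl, rfl⟩
          · rcases pc1 _ _ c23 (by omega) with ⟨rfl, rfl⟩ | ⟨rfl, rfl⟩
            · exact ⟨p1203, T.m 3, T.w 1, Or.inr (Or.inl ((show T.m 1 = 2 * T.m 3 ∧ T.m 2 = 2 * T.m 3 ∧ T.m 0 = 2 * T.m 3 ∧ T.m 3 = T.m 3 ∧ T.w 1 = T.w 1 ∧ T.w 2 = 2 * T.w 1 ∧ T.w 0 = 2 * T.w 1 ∧ T.w 3 = 4 * T.w 1 ∧ T.a 1 1 = -2 * T.w 1 ∧ T.a 1 2 = 2 * T.w 1 ∧ T.a 1 0 = 0 ∧ T.a 1 3 = 0 ∧ T.a 2 2 = -4 * T.w 1 ∧ T.a 2 0 = 2 * T.w 1 ∧ T.a 2 3 = 0 ∧ T.a 0 0 = -4 * T.w 1 ∧ T.a 0 3 = 4 * T.w 1 ∧ T.a 3 3 = -8 * T.w 1 from by omega)))⟩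
            · omega
          · omega
          · omega
          · omega
        · omega
        · omega
      · rcases pc3 _ _ c12 (by omega) with ⟨rfl, rfl⟩ | ⟨rfl, rfl⟩ | ⟨rfl, rfl⟩ | ⟨rfl, rfl⟩ | ⟨rfl, rfl⟩ | ⟨rfl, rfl⟩
        · rcases pc1 _ _ c13 (by omega) with ⟨rfl, rfl⟩ | ⟨rfl, rfl⟩
          · omega
          · omega
        · omega
        · omega
        · omega
        · omega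
        · omega
      · rcases pc3 _ _ c12 (by omega) with ⟨rfl, rfl⟩ | ⟨rfl, rfl⟩ | ⟨rfl, rfl⟩ | ⟨rfl, rfl⟩ | ⟨rfl, rfl⟩ | ⟨rfl, rfl⟩
        · rcases pc1 _ _ c13 (by omega) with ⟨rfl, rfl⟩ | ⟨rfl, rfl⟩
          · omega
          · omega
        · omega
        · omega
        · omega
        · omega
        · omega
    · rcases pc2 _ _ c03 (by omega) with ⟨rfl, rfl⟩ | ⟨rfl, rfl⟩ | ⟨rfl, rfl⟩ | ⟨rfl, rfl⟩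
      · rcases pc2 _ _ c12 (by omega) with ⟨rfl, rfl⟩ | ⟨rfl, rfl⟩ | ⟨rfl, rfl⟩ | ⟨rfl, rfl⟩
        · rcases c13 with ⟨rfl, rfl⟩ | ⟨rfl, rfl⟩ | ⟨rfl, rfl⟩ | ⟨rfl, rfl⟩ | ⟨rfl, rfl⟩ | ⟨rfl, rfl⟩ | ⟨rfl, rfl⟩ | ⟨rfl, rfl⟩ | ⟨rfl, rfl⟩
          · omega
          · rcases pc2 _ _ c23 (by omega) with ⟨rfl, rfl⟩ | ⟨rfl, rfl⟩ | ⟨rfl, rfl⟩ | ⟨rfl, rfl⟩
            · omega
            · omega
            · omega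
            · omega
          · rcases pc2 _ _ c23 (by omega) with ⟨rfl, rfl⟩ | ⟨rfl, rfl⟩ | ⟨rfl, rfl⟩ | ⟨rfl, rfl⟩
            · omega
            · exact ⟨p0231, T.m 0, T.w 2, Or.inr (Or.inr (Or.inr (Or.inl ((show T.m 0 = T.m 0 ∧ T.m 2 = 2 * T.m 0 ∧ T.m 3 = 2 * T.m 0 ∧ T.m 1 = T.m 0 ∧ T.w 0 = 2 * T.w 2 ∧ T.w 2 = T.w 2 ∧ T.w 3 = T.w 2 ∧ T.w 1 = 2 * T.w 2 ∧ T.a 0 0 = -4 * T.w 2 ∧ T.a 0 2 = 2 * T.w 2 ∧ T.a 0 3 = 0 ∧ T.a 0 1 = 0 ∧ T.a 2 2 = -2 * T.w 2 ∧ T.a 2 3 = T.w 2 ∧ T.a 2 1 = 0 ∧ T.a 3 3 = -2 * T.w 2 ∧ T.a 3 1 = 2 * T.w 2 ∧ T.a 1 1 = -4 * T.w 2 from by omega)))))⟩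
            · omega
            · omega
          · rcases pc2 _ _ c23 (by omega) with ⟨rfl, rfl⟩ | ⟨rfl, rfl⟩ | ⟨rfl, rfl⟩ | ⟨rfl, rfl⟩
            · omega
            · exact ⟨p1320, T.m 0, T.w 1, Or.inr (Or.inl ((show T.m 1 = 2 * T.m 0 ∧ T.m 3 = 2 * T.m 0 ∧ T.m 2 = 2 * T.m 0 ∧ T.m 0 = T.m 0 ∧ T.w 1 = T.w 1 ∧ T.w 3 = 2 * T.w 1 ∧ T.w 2 = 2 * T.w 1 ∧ T.w 0 = 4 * T.w 1 ∧ T.a 1 1 = -2 * T.w 1 ∧ T.a 1 3 = 2 * T.w 1 ∧ T.a 1 2 = 0 ∧ T.a 1 0 = 0 ∧ T.a 3 3 = -4 * T.w 1 ∧ T.a 3 2 = 2 * T.w 1 ∧ T.a 3 0 = 0 ∧ T.a 2 2 = -4 * T.w 1 ∧ T.a 2 0 = 4 * T.w 1 ∧ T.a 0 0 = -8 * T.w 1 from by omega)))⟩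
            · omega
            · omega
          · rcases pc1 _ _ c23 (by omega) with ⟨rfl, rfl⟩ | ⟨rfl, rfl⟩
            · omega
            · omega
          · rcases pc1 _ _ c23 (by omega) with ⟨rfl, rfl⟩ | ⟨rfl, rfl⟩
            · omega
            · omega
          · obtain ⟨rfl, rfl⟩ := pc0 _ _ c23 (by omega)
            omega
          · obtain ⟨rfl, rfl⟩ := pc0 _ _ c23 (by omega)
            omega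
          · obtain ⟨rfl, rfl⟩ := pc0 _ _ c23 (by omega)
            omega
        · rcases pc3 _ _ c13 (by omega) with ⟨rfl, rfl⟩ | ⟨rfl, rfl⟩ | ⟨rfl, rfl⟩ | ⟨rfl, rfl⟩ | ⟨rfl, rfl⟩ | ⟨rfl, rfl⟩
          · rcases pc1 _ _ c23 (by omega) with ⟨rfl, rfl⟩ | ⟨rfl, rfl⟩
            · omega
            · exact ⟨p2130, T.m 1, T.w 2, Or.inr (Or.inr (Or.inr (Or.inr (Or.inl ((show T.m 2 = 2 * T.m 1 ∧ T.m 1 = T.m 1 ∧ T.m 3 = T.m 1 ∧ T.m 0 = T.m 1 ∧ T.w 2 = T.w 2 ∧ T.w 1 = T.w 2 ∧ T.w 3 = T.w 2 ∧ T.w 0 = 2 * T.w 2 ∧ T.a 2 2 = -2 * T.w 2 ∧ T.a 2 1 = T.w 2 ∧ T.a 2 3 = T.w 2 ∧ T.a 2 0 = 2 * T.w 2 ∧ T.a 1 1 = -2 * T.w 2 ∧ T.a 1 3 = 0 ∧ T.a 1 0 = 0 ∧ T.a 3 3 = -2 * T.w 2 ∧ T.a 3 0 = 0 ∧ T.a 0 0 = -4 * T.w 2 from by omega))))))⟩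
          · rcases pc1 _ _ c23 (by omega) with ⟨rfl, rfl⟩ | ⟨rfl, rfl⟩
            · omega
            · omega
          · rcases pc1 _ _ c23 (by omega) with ⟨rfl, rfl⟩ | ⟨rfl, rfl⟩
            · exact ⟨p3120, T.m 0, T.w 3, Or.inr (Or.inl ((show T.m 3 = 2 * T.m 0 ∧ T.m 1 = 2 * T.m 0 ∧ T.m 2 = 2 * T.m 0 ∧ T.m 0 = T.m 0 ∧ T.w 3 = T.w 3 ∧ T.w 1 = 2 * T.w 3 ∧ T.w 2 = 2 * T.w 3 ∧ T.w 0 = 4 * T.w 3 ∧ T.a 3 3 = -2 * T.w 3 ∧ T.a 3 1 = 2 * T.w 3 ∧ T.a 3 2 = 0 ∧ T.a 3 0 = 0 ∧ T.a 1 1 = -4 * T.w 3 ∧ T.a 1 2 = 2 * T.w 3 ∧ T.a 1 0 = 0 ∧ T.a 2 2 = -4 * T.w 3 ∧ T.a 2 0 = 4 * T.w 3 ∧ T.a 0 0 = -8 * T.w 3 from by omega)))⟩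
            · omega
          · rcases pc1 _ _ c23 (by omega) with ⟨rfl, rfl⟩ | ⟨rfl, rfl⟩
            · exact ⟨p0213, T.m 0, T.w 2, Or.inr (Or.inr (Or.inr (Or.inl ((show T.m 0 = T.m 0 ∧ T.m 2 = 2 * T.m 0 ∧ T.m 1 = 2 * T.m 0 ∧ T.m 3 = T.m 0 ∧ T.w 0 = 2 * T.w 2 ∧ T.w 2 = T.w 2 ∧ T.w 1 = T.w 2 ∧ T.w 3 = 2 * T.w 2 ∧ T.a 0 0 = -4 * T.w 2 ∧ T.a 0 2 = 2 * T.w 2 ∧ T.a 0 1 = 0 ∧ T.a 0 3 = 0 ∧ T.a 2 2 = -2 * T.w 2 ∧ T.a 2 1 = T.w 2 ∧ T.a 2 3 = 0 ∧ T.a 1 1 = -2 * T.w 2 ∧ T.a 1 3 = 2 * T.w 2 ∧ T.a 3 3 = -4 * T.w 2 from by omega)))))⟩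
            · omega
          · omega
          · omega
        · rcases pc2 _ _ c13 (by omega) with ⟨rfl, rfl⟩ | ⟨rfl, rfl⟩ | ⟨rfl, rfl⟩ | ⟨rfl, rfl⟩
          · obtain ⟨rfl, rfl⟩ := pc0 _ _ c23 (by omega)
            omega
          · omega
          · omega
          · omega
        · rcases pc2 _ _ c13 (by omega) with ⟨rfl, rfl⟩ | ⟨rfl, rfl⟩ | ⟨rfl, rfl⟩ | ⟨rfl, rfl⟩
          · obtain ⟨rfl, rfl⟩ := pc0 _ _ c23 (by omega)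
            omega
          · omega
          · omega
          · omega
      · rcases pc2 _ _ c12 (by omega) with ⟨rfl, rfl⟩ | ⟨rfl, rfl⟩ | ⟨rfl, rfl⟩ | ⟨rfl, rfl⟩
        · rcases pc3 _ _ c13 (by omega) with ⟨rfl, rfl⟩ | ⟨rfl, rfl⟩ | ⟨rfl, rfl⟩ | ⟨rfl, rfl⟩ | ⟨rfl, rfl⟩ | ⟨rfl, rfl⟩
          · omega
          · rcases pc2 _ _ c23 (by omega) with ⟨rfl, rfl⟩ | ⟨rfl, rfl⟩ | ⟨rfl, rfl⟩ | ⟨rfl, rfl⟩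
            · omega
            · omega
            · omega
            · omega
          · rcases pc1 _ _ c23 (by omega) with ⟨rfl, rfl⟩ | ⟨rfl, rfl⟩
            · exact ⟨p2031, T.m 1, T.w 2, Or.inr (Or.inl ((show T.m 2 = 2 * T.m 1 ∧ T.m 0 = 2 * T.m 1 ∧ T.m 3 = 2 * T.m 1 ∧ T.m 1 = T.m 1 ∧ T.w 2 = T.w 2 ∧ T.w 0 = 2 * T.w 2 ∧ T.w 3 = 2 * T.w 2 ∧ T.w 1 = 4 * T.w 2 ∧ T.a 2 2 = -2 * T.w 2 ∧ T.a 2 0 = 2 * T.w 2 ∧ T.a 2 3 = 0 ∧ T.a 2 1 = 0 ∧ T.a 0 0 = -4 * T.w 2 ∧ T.a 0 3 = 2 * T.w 2 ∧ T.a 0 1 = 0 ∧ T.a 3 3 = -4 * T.w 2 ∧ T.a 3 1 = 4 * T.w 2 ∧ T.a 1 1 = -8 * T.w 2 from by omega)))⟩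
            · omega
          · rcases pc1 _ _ c23 (by omega) with ⟨rfl, rfl⟩ | ⟨rfl, rfl⟩
            · exact ⟨p1302, T.m 1, T.w 1, Or.inr (Or.inr (Or.inl ((show T.m 1 = T.m 1 ∧ T.m 3 = T.m 1 ∧ T.m 0 = T.m 1 ∧ T.m 2 = T.m 1 ∧ T.w 1 = T.w 1 ∧ T.w 3 = 2 * T.w 1 ∧ T.w 0 = 2 * T.w 1 ∧ T.w 2 = T.w 1 ∧ T.a 1 1 = -2 * T.w 1 ∧ T.a 1 3 = 2 * T.w 1 ∧ T.a 1 0 = 0 ∧ T.a 1 2 = 0 ∧ T.a 3 3 = -4 * T.w 1 ∧ T.a 3 0 = 2 * T.w 1 ∧ T.a 3 2 = 0 ∧ T.a 0 0 = -4 * T.w 1 ∧ T.a 0 2 = 2 * T.w 1 ∧ T.a 2 2 = -2 * T.w 1 from by omega))))⟩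
            · omega
          · omega
          · omega
        · rcases pc3 _ _ c13 (by omega) with ⟨rfl, rfl⟩ | ⟨rfl, rfl⟩ | ⟨rfl, rfl⟩ | ⟨rfl, rfl⟩ | ⟨rfl, rfl⟩ | ⟨rfl, rfl⟩
          · rcases pc1 _ _ c23 (by omega) with ⟨rfl, rfl⟩ | ⟨rfl, rfl⟩
            · omega
            · omega
          · omega
          · omega
          · omega
          · omega
          · omega
        · omega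
        · omega
      · rcases pc2 _ _ c12 (by omega) with ⟨rfl, rfl⟩ | ⟨rfl, rfl⟩ | ⟨rfl, rfl⟩ | ⟨rfl, rfl⟩
        · rcases pc2 _ _ c13 (by omega) with ⟨rfl, rfl⟩ | ⟨rfl, rfl⟩ | ⟨rfl, rfl⟩ | ⟨rfl, rfl⟩
          · omega
          · omega
          · omega
          · omega
        · omega
        · omega
        · omega
      · rcases pc2 _ _ c12 (by omega) with ⟨rfl, rfl⟩ | ⟨rfl, rfl⟩ | ⟨rfl, rfl⟩ | ⟨rfl, rfl⟩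
        · rcases pc2 _ _ c13 (by omega) with ⟨rfl, rfl⟩ | ⟨rfl, rfl⟩ | ⟨rfl, rfl⟩ | ⟨rfl, rfl⟩
          · omega
          · omega
          · omega
          · omega
        · omega
        · omega
        · omega
    · rcases pc2 _ _ c03 (by omega) with ⟨rfl, rfl⟩ | ⟨rfl, rfl⟩ | ⟨rfl, rfl⟩ | ⟨rfl, rfl⟩
      · rcases pc2 _ _ c12 (by omega) with ⟨rfl, rfl⟩ | ⟨rfl, rfl⟩ | ⟨rfl, rfl⟩ | ⟨rfl, rfl⟩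
        · rcases c13 with ⟨rfl, rfl⟩ | ⟨rfl, rfl⟩ | ⟨rfl, rfl⟩ | ⟨rfl, rfl⟩ | ⟨rfl, rfl⟩ | ⟨rfl, rfl⟩ | ⟨rfl, rfl⟩ | ⟨rfl, rfl⟩ | ⟨rfl, rfl⟩
          · omega
          · rcases pc2 _ _ c23 (by omega) with ⟨rfl, rfl⟩ | ⟨rfl, rfl⟩ | ⟨rfl, rfl⟩ | ⟨rfl, rfl⟩
            · omega
            · omega
            · omega
            · omega
          · rcases pc2 _ _ c23 (by omega) with ⟨rfl, rfl⟩ | ⟨rfl, rfl⟩ | ⟨rfl, rfl⟩ | ⟨rfl, rfl⟩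
            · omega
            · exact ⟨p0231, T.m 1, T.w 0, Or.inr (Or.inl ((show T.m 0 = 2 * T.m 1 ∧ T.m 2 = 2 * T.m 1 ∧ T.m 3 = 2 * T.m 1 ∧ T.m 1 = T.m 1 ∧ T.w 0 = T.w 0 ∧ T.w 2 = 2 * T.w 0 ∧ T.w 3 = 2 * T.w 0 ∧ T.w 1 = 4 * T.w 0 ∧ T.a 0 0 = -2 * T.w 0 ∧ T.a 0 2 = 2 * T.w 0 ∧ T.a 0 3 = 0 ∧ T.a 0 1 = 0 ∧ T.a 2 2 = -4 * T.w 0 ∧ T.a 2 3 = 2 * T.w 0 ∧ T.a 2 1 = 0 ∧ T.a 3 3 = -4 * T.w 0 ∧ T.a 3 1 = 4 * T.w 0 ∧ T.a 1 1 = -8 * T.w 0 from by omega)))⟩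
            · omega
            · omega
          · rcases pc2 _ _ c23 (by omega) with ⟨rfl, rfl⟩ | ⟨rfl, rfl⟩ | ⟨rfl, rfl⟩ | ⟨rfl, rfl⟩
            · omega
            · exact ⟨p0231, T.m 0, T.w 0, Or.inr (Or.inr (Or.inl ((show T.m 0 = T.m 0 ∧ T.m 2 = T.m 0 ∧ T.m 3 = T.m 0 ∧ T.m 1 = T.m 0 ∧ T.w 0 = T.w 0 ∧ T.w 2 = 2 * T.w 0 ∧ T.w 3 = 2 * T.w 0 ∧ T.w 1 = T.w 0 ∧ T.a 0 0 = -2 * T.w 0 ∧ T.a 0 2 = 2 * T.w 0 ∧ T.a 0 3 = 0 ∧ T.a 0 1 = 0 ∧ T.a 2 2 = -4 * T.w 0 ∧ T.a 2 3 = 2 * T.w 0 ∧ T.a 2 1 = 0 ∧ T.a 3 3 = -4 * T.w 0 ∧ T.a 3 1 = 2 * T.w 0 ∧ T.a 1 1 = -2 * T.w 0 from by omega))))⟩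
            · omega
            · omega
          · rcases pc1 _ _ c23 (by omega) with ⟨rfl, rfl⟩ | ⟨rfl, rfl⟩
            · omega
            · omega
          · rcases pc1 _ _ c23 (by omega) with ⟨rfl, rfl⟩ | ⟨rfl, rfl⟩
            · omega
            · omega
          · obtain ⟨rfl, rfl⟩ := pc0 _ _ c23 (by omega)
            omega
          · obtain ⟨rfl, rfl⟩ := pc0 _ _ c23 (by omega)
            omega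
          · obtain ⟨rfl, rfl⟩ := pc0 _ _ c23 (by omega)
            omega
        · rcases pc3 _ _ c13 (by omega) with ⟨rfl, rfl⟩ | ⟨rfl, rfl⟩ | ⟨rfl, rfl⟩ | ⟨rfl, rfl⟩ | ⟨rfl, rfl⟩ | ⟨rfl, rfl⟩
          · rcases pc1 _ _ c23 (by omega) with ⟨rfl, rfl⟩ | ⟨rfl, rfl⟩
            · omega
            · exact ⟨p2130, T.m 1, T.w 0, Or.inr (Or.inr (Or.inr (Or.inr (Or.inr ((show T.m 2 = 2 * T.m 1 ∧ T.m 1 = T.m 1 ∧ T.m 3 = T.m 1 ∧ T.m 0 = 2 * T.m 1 ∧ T.w 2 = 2 * T.w 0 ∧ T.w 1 = 2 * T.w 0 ∧ T.w 3 = 2 * T.w 0 ∧ T.w 0 = T.w 0 ∧ T.a 2 2 = -4 * T.w 0 ∧ T.a 2 1 = 2 * T.w 0 ∧ T.a 2 3 = 2 * T.w 0 ∧ T.a 2 0 = 2 * T.w 0 ∧ T.a 1 1 = -4 * T.w 0 ∧ T.a 1 3 = 0 ∧ T.a 1 0 = 0 ∧ T.a 3 3 = -4 * T.w 0 ∧ T.a 3 0 = 0 ∧ T.a 0 0 = -2 * T.w 0 from by omega))))))⟩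
          · rcases pc1 _ _ c23 (by omega) with ⟨rfl, rfl⟩ | ⟨rfl, rfl⟩
            · omega
            · omega
          · rcases pc1 _ _ c23 (by omega) with ⟨rfl, rfl⟩ | ⟨rfl, rfl⟩
            · exact ⟨p0213, T.m 0, T.w 0, Or.inr (Or.inr (Or.inl ((show T.m 0 = T.m 0 ∧ T.m 2 = T.m 0 ∧ T.m 1 = T.m 0 ∧ T.m 3 = T.m 0 ∧ T.w 0 = T.w 0 ∧ T.w 2 = 2 * T.w 0 ∧ T.w 1 = 2 * T.w 0 ∧ T.w 3 = T.w 0 ∧ T.a 0 0 = -2 * T.w 0 ∧ T.a 0 2 = 2 * T.w 0 ∧ T.a 0 1 = 0 ∧ T.a 0 3 = 0 ∧ T.a 2 2 = -4 * T.w 0 ∧ T.a 2 1 = 2 * T.w 0 ∧ T.a 2 3 = 0 ∧ T.a 1 1 = -4 * T.w 0 ∧ T.a 1 3 = 2 * T.w 0 ∧ T.a 3 3 = -2 * T.w 0 from by omega))))⟩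
            · omega
          · rcases pc1 _ _ c23 (by omega) with ⟨rfl, rfl⟩ | ⟨rfl, rfl⟩
            · exact ⟨p0213, T.m 3, T.w 0, Or.inr (Or.inl ((show T.m 0 = 2 * T.m 3 ∧ T.m 2 = 2 * T.m 3 ∧ T.m 1 = 2 * T.m 3 ∧ T.m 3 = T.m 3 ∧ T.w 0 = T.w 0 ∧ T.w 2 = 2 * T.w 0 ∧ T.w 1 = 2 * T.w 0 ∧ T.w 3 = 4 * T.w 0 ∧ T.a 0 0 = -2 * T.w 0 ∧ T.a 0 2 = 2 * T.w 0 ∧ T.a 0 1 = 0 ∧ T.a 0 3 = 0 ∧ T.a 2 2 = -4 * T.w 0 ∧ T.a 2 1 = 2 * T.w 0 ∧ T.a 2 3 = 0 ∧ T.a 1 1 = -4 * T.w 0 ∧ T.a 1 3 = 4 * T.w 0 ∧ T.a 3 3 = -8 * T.w 0 from by omega)))⟩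
            · omega
          · omega
          · omega
        · rcases pc2 _ _ c13 (by omega) with ⟨rfl, rfl⟩ | ⟨rfl, rfl⟩ | ⟨rfl, rfl⟩ | ⟨rfl, rfl⟩
          · obtain ⟨rfl, rfl⟩ := pc0 _ _ c23 (by omega)
            omega
          · omega
          · omega
          · omega
        · rcases pc2 _ _ c13 (by omega) with ⟨rfl, rfl⟩ | ⟨rfl, rfl⟩ | ⟨rfl, rfl⟩ | ⟨rfl, rfl⟩
          · obtain ⟨rfl, rfl⟩ := pc0 _ _ c23 (by omega)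
            omega
          · omega
          · omega
          · omega
      · rcases pc2 _ _ c12 (by omega) with ⟨rfl, rfl⟩ | ⟨rfl, rfl⟩ | ⟨rfl, rfl⟩ | ⟨rfl, rfl⟩
        · rcases pc3 _ _ c13 (by omega) with ⟨rfl, rfl⟩ | ⟨rfl, rfl⟩ | ⟨rfl, rfl⟩ | ⟨rfl, rfl⟩ | ⟨rfl, rfl⟩ | ⟨rfl, rfl⟩
          · omega
          · rcases pc2 _ _ c23 (by omega) with ⟨rfl, rfl⟩ | ⟨rfl, rfl⟩ | ⟨rfl, rfl⟩ | ⟨rfl, rfl⟩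
            · omega
            · omega
            · omega
            · omega
          · rcases pc1 _ _ c23 (by omega) with ⟨rfl, rfl⟩ | ⟨rfl, rfl⟩
            · exact ⟨p1302, T.m 1, T.w 3, Or.inr (Or.inr (Or.inr (Or.inl ((show T.m 1 = T.m 1 ∧ T.m 3 = 2 * T.m 1 ∧ T.m 0 = 2 * T.m 1 ∧ T.m 2 = T.m 1 ∧ T.w 1 = 2 * T.w 3 ∧ T.w 3 = T.w 3 ∧ T.w 0 = T.w 3 ∧ T.w 2 = 2 * T.w 3 ∧ T.a 1 1 = -4 * T.w 3 ∧ T.a 1 3 = 2 * T.w 3 ∧ T.a 1 0 = 0 ∧ T.a 1 2 = 0 ∧ T.a 3 3 = -2 * T.w 3 ∧ T.a 3 0 = T.w 3 ∧ T.a 3 2 = 0 ∧ T.a 0 0 = -2 * T.w 3 ∧ T.a 0 2 = 2 * T.w 3 ∧ T.a 2 2 = -4 * T.w 3 from by omega)))))⟩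
            · omega
          · rcases pc1 _ _ c23 (by omega) with ⟨rfl, rfl⟩ | ⟨rfl, rfl⟩
            · exact ⟨p1302, T.m 2, T.w 1, Or.inr (Or.inl ((show T.m 1 = 2 * T.m 2 ∧ T.m 3 = 2 * T.m 2 ∧ T.m 0 = 2 * T.m 2 ∧ T.m 2 = T.m 2 ∧ T.w 1 = T.w 1 ∧ T.w 3 = 2 * T.w 1 ∧ T.w 0 = 2 * T.w 1 ∧ T.w 2 = 4 * T.w 1 ∧ T.a 1 1 = -2 * T.w 1 ∧ T.a 1 3 = 2 * T.w 1 ∧ T.a 1 0 = 0 ∧ T.a 1 2 = 0 ∧ T.a 3 3 = -4 * T.w 1 ∧ T.a 3 0 = 2 * T.w 1 ∧ T.a 3 2 = 0 ∧ T.a 0 0 = -4 * T.w 1 ∧ T.a 0 2 = 4 * T.w 1 ∧ T.a 2 2 = -8 * T.w 1 from by omega)))⟩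
            · omega
          · omega
          · omega
        · rcases pc3 _ _ c13 (by omega) with ⟨rfl, rfl⟩ | ⟨rfl, rfl⟩ | ⟨rfl, rfl⟩ | ⟨rfl, rfl⟩ | ⟨rfl, rfl⟩ | ⟨rfl, rfl⟩
          · rcases pc1 _ _ c23 (by omega) with ⟨rfl, rfl⟩ | ⟨rfl, rfl⟩
            · omega
            · omega
          · omega
          · omega
          · omega
          · omega
          · omega
        · omega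
        · omega
      · rcases pc2 _ _ c12 (by omega) with ⟨rfl, rfl⟩ | ⟨rfl, rfl⟩ | ⟨rfl, rfl⟩ | ⟨rfl, rfl⟩
        · rcases pc2 _ _ c13 (by omega) with ⟨rfl, rfl⟩ | ⟨rfl, rfl⟩ | ⟨rfl, rfl⟩ | ⟨rfl, rfl⟩
          · omega
          · omega
          · omega
          · omega
        · omega
        · omega
        · omega
      · rcases pc2 _ _ c12 (by omega) with ⟨rfl, rfl⟩ | ⟨rfl, rfl⟩ | ⟨rfl, rfl⟩ | ⟨rfl, rfl⟩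
        · rcases pc2 _ _ c13 (by omega) with ⟨rfl, rfl⟩ | ⟨rfl, rfl⟩ | ⟨rfl, rfl⟩ | ⟨rfl, rfl⟩
          · omega
          · omega
          · omega
          · omega
        · omega
        · omega
        · omega
    · rcases pc1 _ _ c03 (by omega) with ⟨rfl, rfl⟩ | ⟨rfl, rfl⟩
      · rcases pc1 _ _ c12 (by omega) with ⟨rfl, rfl⟩ | ⟨rfl, rfl⟩
        · rcases c13 with ⟨rfl, rfl⟩ | ⟨rfl, rfl⟩ | ⟨rfl, rfl⟩ | ⟨rfl, rfl⟩ | ⟨rfl, rfl⟩ | ⟨rfl, rfl⟩ | ⟨rfl, rfl⟩ | ⟨rfl, rfl⟩ | ⟨rfl, rfl⟩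
          · omega
          · rcases pc1 _ _ c23 (by omega) with ⟨rfl, rfl⟩ | ⟨rfl, rfl⟩
            · omega
            · omega
          · rcases pc1 _ _ c23 (by omega) with ⟨rfl, rfl⟩ | ⟨rfl, rfl⟩
            · omega
            · omega
          · rcases pc1 _ _ c23 (by omega) with ⟨rfl, rfl⟩ | ⟨rfl, rfl⟩
            · omega
            · omega
          · rcases pc1 _ _ c23 (by omega) with ⟨rfl, rfl⟩ | ⟨rfl, rfl⟩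
            · omega
            · omega
          · rcases pc1 _ _ c23 (by omega) with ⟨rfl, rfl⟩ | ⟨rfl, rfl⟩
            · omega
            · omega
          · obtain ⟨rfl, rfl⟩ := pc0 _ _ c23 (by omega)
            omega
          · obtain ⟨rfl, rfl⟩ := pc0 _ _ c23 (by omega)
            omega
          · obtain ⟨rfl, rfl⟩ := pc0 _ _ c23 (by omega)
            omega
        · rcases pc3 _ _ c13 (by omega) with ⟨rfl, rfl⟩ | ⟨rfl, rfl⟩ | ⟨rfl, rfl⟩ | ⟨rfl, rfl⟩ | ⟨rfl, rfl⟩ | ⟨rfl, rfl⟩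
          · obtain ⟨rfl, rfl⟩ := pc0 _ _ c23 (by omega)
            omega
          · omega
          · omega
          · omega
          · omega
          · omega
      · rcases pc1 _ _ c12 (by omega) with ⟨rfl, rfl⟩ | ⟨rfl, rfl⟩
        · rcases pc3 _ _ c13 (by omega) with ⟨rfl, rfl⟩ | ⟨rfl, rfl⟩ | ⟨rfl, rfl⟩ | ⟨rfl, rfl⟩ | ⟨rfl, rfl⟩ | ⟨rfl, rfl⟩
          · omega
          · omega
          · omega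
          · omega
          · omega
          · omega
        · omega
    · rcases pc1 _ _ c03 (by omega) with ⟨rfl, rfl⟩ | ⟨rfl, rfl⟩
      · rcases pc1 _ _ c12 (by omega) with ⟨rfl, rfl⟩ | ⟨rfl, rfl⟩
        · rcases c13 with ⟨rfl, rfl⟩ | ⟨rfl, rfl⟩ | ⟨rfl, rfl⟩ | ⟨rfl, rfl⟩ | ⟨rfl, rfl⟩ | ⟨rfl, rfl⟩ | ⟨rfl, rfl⟩ | ⟨rfl, rfl⟩ | ⟨rfl, rfl⟩
          · omega
          · rcases pc1 _ _ c23 (by omega) with ⟨rfl, rfl⟩ | ⟨rfl, rfl⟩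
            · omega
            · omega
          · rcases pc1 _ _ c23 (by omega) with ⟨rfl, rfl⟩ | ⟨rfl, rfl⟩
            · omega
            · omega
          · rcases pc1 _ _ c23 (by omega) with ⟨rfl, rfl⟩ | ⟨rfl, rfl⟩
            · omega
            · omega
          · rcases pc1 _ _ c23 (by omega) with ⟨rfl, rfl⟩ | ⟨rfl, rfl⟩
            · omega
            · omega
          · rcases pc1 _ _ c23 (by omega) with ⟨rfl, rfl⟩ | ⟨rfl, rfl⟩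
            · omega
            · omega
          · obtain ⟨rfl, rfl⟩ := pc0 _ _ c23 (by omega)
            omega
          · obtain ⟨rfl, rfl⟩ := pc0 _ _ c23 (by omega)
            omega
          · obtain ⟨rfl, rfl⟩ := pc0 _ _ c23 (by omega)
            omega
        · rcases pc3 _ _ c13 (by omega) with ⟨rfl, rfl⟩ | ⟨rfl, rfl⟩ | ⟨rfl, rfl⟩ | ⟨rfl, rfl⟩ | ⟨rfl, rfl⟩ | ⟨rfl, rfl⟩
          · obtain ⟨rfl, rfl⟩ := pc0 _ _ c23 (by omega)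
            omega
          · omega
          · omega
          · omega
          · omega
          · omega
      · rcases pc1 _ _ c12 (by omega) with ⟨rfl, rfl⟩ | ⟨rfl, rfl⟩
        · rcases pc3 _ _ c13 (by omega) with ⟨rfl, rfl⟩ | ⟨rfl, rfl⟩ | ⟨rfl, rfl⟩ | ⟨rfl, rfl⟩ | ⟨rfl, rfl⟩ | ⟨rfl, rfl⟩
          · omega
          · omega
          · omega
          · omega
          · omega
          · omega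
        · omega
    · obtain ⟨rfl, rfl⟩ := pc0 _ _ c03 (by omega)
      obtain ⟨rfl, rfl⟩ := pc0 _ _ c12 (by omega)
      rcases c13 with ⟨rfl, rfl⟩ | ⟨rfl, rfl⟩ | ⟨rfl, rfl⟩ | ⟨rfl, rfl⟩ | ⟨rfl, rfl⟩ | ⟨rfl, rfl⟩ | ⟨rfl, rfl⟩ | ⟨rfl, rfl⟩ | ⟨rfl, rfl⟩
      · omega
      · obtain ⟨rfl, rfl⟩ := pc0 _ _ c23 (by omega)
        omega
      · obtain ⟨rfl, rfl⟩ := pc0 _ _ c23 (by omega)
        omega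
      · obtain ⟨rfl, rfl⟩ := pc0 _ _ c23 (by omega)
        omega
      · obtain ⟨rfl, rfl⟩ := pc0 _ _ c23 (by omega)
        omega
      · obtain ⟨rfl, rfl⟩ := pc0 _ _ c23 (by omega)
        omega
      · obtain ⟨rfl, rfl⟩ := pc0 _ _ c23 (by omega)
        omega
      · obtain ⟨rfl, rfl⟩ := pc0 _ _ c23 (by omega)
        omega
      · obtain ⟨rfl, rfl⟩ := pc0 _ _ c23 (by omega)
        omega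
    · obtain ⟨rfl, rfl⟩ := pc0 _ _ c03 (by omega)
      obtain ⟨rfl, rfl⟩ := pc0 _ _ c12 (by omega)
      rcases c13 with ⟨rfl, rfl⟩ | ⟨rfl, rfl⟩ | ⟨rfl, rfl⟩ | ⟨rfl, rfl⟩ | ⟨rfl, rfl⟩ | ⟨rfl, rfl⟩ | ⟨rfl, rfl⟩ | ⟨rfl, rfl⟩ | ⟨rfl, rfl⟩
      · omega
      · obtain ⟨rfl, rfl⟩ := pc0 _ _ c23 (by omega)
        omega
      · obtain ⟨rfl, rfl⟩ := pc0 _ _ c23 (by omega)
        omega
      · obtain ⟨rfl, rfl⟩ := pc0 _ _ c23 (by omega)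
        omega
      · obtain ⟨rfl, rfl⟩ := pc0 _ _ c23 (by omega)
        omega
      · obtain ⟨rfl, rfl⟩ := pc0 _ _ c23 (by omega)
        omega
      · obtain ⟨rfl, rfl⟩ := pc0 _ _ c23 (by omega)
        omega
      · obtain ⟨rfl, rfl⟩ := pc0 _ _ c23 (by omega)
        omega
      · obtain ⟨rfl, rfl⟩ := pc0 _ _ c23 (by omega)
        omega
    · obtain ⟨rfl, rfl⟩ := pc0 _ _ c03 (by omega)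
      obtain ⟨rfl, rfl⟩ := pc0 _ _ c12 (by omega)
      rcases c13 with ⟨rfl, rfl⟩ | ⟨rfl, rfl⟩ | ⟨rfl, rfl⟩ | ⟨rfl, rfl⟩ | ⟨rfl, rfl⟩ | ⟨rfl, rfl⟩ | ⟨rfl, rfl⟩ | ⟨rfl, rfl⟩ | ⟨rfl, rfl⟩
      · omega
      · obtain ⟨rfl, rfl⟩ := pc0 _ _ c23 (by omega)
        omega
      · obtain ⟨rfl, rfl⟩ := pc0 _ _ c23 (by omega)
        omega
      · obtain ⟨rfl, rfl⟩ := pc0 _ _ c23 (by omega)
        omega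
      · obtain ⟨rfl, rfl⟩ := pc0 _ _ c23 (by omega)
        omega
      · obtain ⟨rfl, rfl⟩ := pc0 _ _ c23 (by omega)
        omega
      · obtain ⟨rfl, rfl⟩ := pc0 _ _ c23 (by omega)
        omega
      · obtain ⟨rfl, rfl⟩ := pc0 _ _ c23 (by omega)
        omega
      · obtain ⟨rfl, rfl⟩ := pc0 _ _ c23 (by omega)
        omega
  · rcases pc3 _ _ c02 (by omega) with ⟨rfl, rfl⟩ | ⟨rfl, rfl⟩ | ⟨rfl, rfl⟩ | ⟨rfl, rfl⟩ | ⟨rfl, rfl⟩ | ⟨rfl, rfl⟩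
    · rcases pc3 _ _ c03 (by omega) with ⟨rfl, rfl⟩ | ⟨rfl, rfl⟩ | ⟨rfl, rfl⟩ | ⟨rfl, rfl⟩ | ⟨rfl, rfl⟩ | ⟨rfl, rfl⟩
      · rcases pc3 _ _ c12 (by omega) with ⟨rfl, rfl⟩ | ⟨rfl, rfl⟩ | ⟨rfl, rfl⟩ | ⟨rfl, rfl⟩ | ⟨rfl, rfl⟩ | ⟨rfl, rfl⟩
        · rcases pc3 _ _ c13 (by omega) with ⟨rfl, rfl⟩ | ⟨rfl, rfl⟩ | ⟨rfl, rfl⟩ | ⟨rfl, rfl⟩ | ⟨rfl, rfl⟩ | ⟨rfl, rfl⟩
          · omega
          · rcases pc3 _ _ c23 (by omega) with ⟨rfl, rfl⟩ | ⟨rfl, rfl⟩ | ⟨rfl, rfl⟩ | ⟨rfl, rfl⟩ | ⟨rfl, rfl⟩ | ⟨rfl, rfl⟩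
            · omega
            · omega
            · omega
            · omega
            · omega
            · omega
          · rcases pc2 _ _ c23 (by omega) with ⟨rfl, rfl⟩ | ⟨rfl, rfl⟩ | ⟨rfl, rfl⟩ | ⟨rfl, rfl⟩
            · omega
            · omega
            · omega
            · omega
          · rcases pc2 _ _ c23 (by omega) with ⟨rfl, rfl⟩ | ⟨rfl, rfl⟩ | ⟨rfl, rfl⟩ | ⟨rfl, rfl⟩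
            · omega
            · omega
            · omega
            · omega
          · rcases pc1 _ _ c23 (by omega) with ⟨rfl, rfl⟩ | ⟨rfl, rfl⟩
            · omega
            · omega
          · rcases pc1 _ _ c23 (by omega) with ⟨rfl, rfl⟩ | ⟨rfl, rfl⟩
            · omega
            · omega
        · rcases pc2 _ _ c13 (by omega) with ⟨rfl, rfl⟩ | ⟨rfl, rfl⟩ | ⟨rfl, rfl⟩ | ⟨rfl, rfl⟩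
          · rcases pc3 _ _ c23 (by omega) with ⟨rfl, rfl⟩ | ⟨rfl, rfl⟩ | ⟨rfl, rfl⟩ | ⟨rfl, rfl⟩ | ⟨rfl, rfl⟩ | ⟨rfl, rfl⟩
            · omega
            · omega
            · omega
            · omega
            · omega
            · omega
          · rcases pc3 _ _ c23 (by omega) with ⟨rfl, rfl⟩ | ⟨rfl, rfl⟩ | ⟨rfl, rfl⟩ | ⟨rfl, rfl⟩ | ⟨rfl, rfl⟩ | ⟨rfl, rfl⟩
            · omega
            · omega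
            · omega
            · omega
            · omega
            · omega
          · rcases pc2 _ _ c23 (by omega) with ⟨rfl, rfl⟩ | ⟨rfl, rfl⟩ | ⟨rfl, rfl⟩ | ⟨rfl, rfl⟩
            · exact ⟨p1023, T.m 0, T.w 3, Or.inr (Or.inr (Or.inr (Or.inr (Or.inr ((show T.m 1 = 2 * T.m 0 ∧ T.m 0 = T.m 0 ∧ T.m 2 = T.m 0 ∧ T.m 3 = 2 * T.m 0 ∧ T.w 1 = 2 * T.w 3 ∧ T.w 0 = 2 * T.w 3 ∧ T.w 2 = 2 * T.w 3 ∧ T.w 3 = T.w 3 ∧ T.a 1 1 = -4 * T.w 3 ∧ T.a 1 0 = 2 * T.w 3 ∧ T.a 1 2 = 2 * T.w 3 ∧ T.a 1 3 = 2 * T.w 3 ∧ T.a 0 0 = -4 * T.w 3 ∧ T.a 0 2 = 0 ∧ T.a 0 3 = 0 ∧ T.a 2 2 = -4 * T.w 3 ∧ T.a 2 3 = 0 ∧ T.a 3 3 = -2 * T.w 3 from by omega))))))⟩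
            · omega
            · omega
            · omega
          · rcases pc2 _ _ c23 (by omega) with ⟨rfl, rfl⟩ | ⟨rfl, rfl⟩ | ⟨rfl, rfl⟩ | ⟨rfl, rfl⟩
            · exact ⟨p1023, T.m 0, T.w 1, Or.inr (Or.inr (Or.inr (Or.inr (Or.inl ((show T.m 1 = 2 * T.m 0 ∧ T.m 0 = T.m 0 ∧ T.m 2 = T.m 0 ∧ T.m 3 = T.m 0 ∧ T.w 1 = T.w 1 ∧ T.w 0 = T.w 1 ∧ T.w 2 = T.w 1 ∧ T.w 3 = 2 * T.w 1 ∧ T.a 1 1 = -2 * T.w 1 ∧ T.a 1 0 = T.w 1 ∧ T.a 1 2 = T.w 1 ∧ T.a 1 3 = 2 * T.w 1 ∧ T.a 0 0 = -2 * T.w 1 ∧ T.a 0 2 = 0 ∧ T.a 0 3 = 0 ∧ T.a 2 2 = -2 * T.w 1 ∧ T.a 2 3 = 0 ∧ T.a 3 3 = -4 * T.w 1 from by omega))))))⟩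
            · omega
            · omega
            · omega
        · rcases pc1 _ _ c13 (by omega) with ⟨rfl, rfl⟩ | ⟨rfl, rfl⟩
          · rcases pc2 _ _ c23 (by omega) with ⟨rfl, rfl⟩ | ⟨rfl, rfl⟩ | ⟨rfl, rfl⟩ | ⟨rfl, rfl⟩
            · omega
            · omega
            · omega
            · omega
          · rcases pc2 _ _ c23 (by omega) with ⟨rfl, rfl⟩ | ⟨rfl, rfl⟩ | ⟨rfl, rfl⟩ | ⟨rfl, rfl⟩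
            · exact ⟨p1032, T.m 0, T.w 2, Or.inr (Or.inr (Or.inr (Or.inr (Or.inr ((show T.m 1 = 2 * T.m 0 ∧ T.m 0 = T.m 0 ∧ T.m 3 = T.m 0 ∧ T.m 2 = 2 * T.m 0 ∧ T.w 1 = 2 * T.w 2 ∧ T.w 0 = 2 * T.w 2 ∧ T.w 3 = 2 * T.w 2 ∧ T.w 2 = T.w 2 ∧ T.a 1 1 = -4 * T.w 2 ∧ T.a 1 0 = 2 * T.w 2 ∧ T.a 1 3 = 2 * T.w 2 ∧ T.a 1 2 = 2 * T.w 2 ∧ T.a 0 0 = -4 * T.w 2 ∧ T.a 0 3 = 0 ∧ T.a 0 2 = 0 ∧ T.a 3 3 = -4 * T.w 2 ∧ T.a 3 2 = 0 ∧ T.a 2 2 = -2 * T.w 2 from by omega))))))⟩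
            · omega
            · omega
            · omega
        · rcases pc1 _ _ c13 (by omega) with ⟨rfl, rfl⟩ | ⟨rfl, rfl⟩
          · rcases pc2 _ _ c23 (by omega) with ⟨rfl, rfl⟩ | ⟨rfl, rfl⟩ | ⟨rfl, rfl⟩ | ⟨rfl, rfl⟩
            · omega
            · omega
            · omega
            · omega
          · rcases pc2 _ _ c23 (by omega) with ⟨rfl, rfl⟩ | ⟨rfl, rfl⟩ | ⟨rfl, rfl⟩ | ⟨rfl, rfl⟩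
            · exact ⟨p1032, T.m 0, T.w 1, Or.inr (Or.inr (Or.inr (Or.inr (Or.inl ((show T.m 1 = 2 * T.m 0 ∧ T.m 0 = T.m 0 ∧ T.m 3 = T.m 0 ∧ T.m 2 = T.m 0 ∧ T.w 1 = T.w 1 ∧ T.w 0 = T.w 1 ∧ T.w 3 = T.w 1 ∧ T.w 2 = 2 * T.w 1 ∧ T.a 1 1 = -2 * T.w 1 ∧ T.a 1 0 = T.w 1 ∧ T.a 1 3 = T.w 1 ∧ T.a 1 2 = 2 * T.w 1 ∧ T.a 0 0 = -2 * T.w 1 ∧ T.a 0 3 = 0 ∧ T.a 0 2 = 0 ∧ T.a 3 3 = -2 * T.w 1 ∧ T.a 3 2 = 0 ∧ T.a 2 2 = -4 * T.w 1 from by omega))))))⟩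
            · omega
            · omega
            · omega
        · obtain ⟨rfl, rfl⟩ := pc0 _ _ c13 (by omega)
          rcases pc1 _ _ c23 (by omega) with ⟨rfl, rfl⟩ | ⟨rfl, rfl⟩
          · omega
          · omega
        · obtain ⟨rfl, rfl⟩ := pc0 _ _ c13 (by omega)
          rcases pc1 _ _ c23 (by omega) with ⟨rfl, rfl⟩ | ⟨rfl, rfl⟩
          · omega
          · omega
      · rcases pc3 _ _ c12 (by omega) with ⟨rfl, rfl⟩ | ⟨rfl, rfl⟩ | ⟨rfl, rfl⟩ | ⟨rfl, rfl⟩ | ⟨rfl, rfl⟩ | ⟨rfl, rfl⟩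
        · rcases pc3 _ _ c13 (by omega) with ⟨rfl, rfl⟩ | ⟨rfl, rfl⟩ | ⟨rfl, rfl⟩ | ⟨rfl, rfl⟩ | ⟨rfl, rfl⟩ | ⟨rfl, rfl⟩
          · rcases pc3 _ _ c23 (by omega) with ⟨rfl, rfl⟩ | ⟨rfl, rfl⟩ | ⟨rfl, rfl⟩ | ⟨rfl, rfl⟩ | ⟨rfl, rfl⟩ | ⟨rfl, rfl⟩
            · omega
            · omega
            · omega
            · omega
            · omega
            · omega
          · rcases pc2 _ _ c23 (by omega) with ⟨rfl, rfl⟩ | ⟨rfl, rfl⟩ | ⟨rfl, rfl⟩ | ⟨rfl, rfl⟩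
            · omega
            · omega
            · omega
            · omega
          · omega
          · omega
          · omega
          · omega
        · rcases pc2 _ _ c13 (by omega) with ⟨rfl, rfl⟩ | ⟨rfl, rfl⟩ | ⟨rfl, rfl⟩ | ⟨rfl, rfl⟩
          · rcases pc3 _ _ c23 (by omega) with ⟨rfl, rfl⟩ | ⟨rfl, rfl⟩ | ⟨rfl, rfl⟩ | ⟨rfl, rfl⟩ | ⟨rfl, rfl⟩ | ⟨rfl, rfl⟩
            · omega
            · exact ⟨p0123, T.m 0, T.w 0, Or.inl ((show T.m 0 = T.m 0 ∧ T.m 1 = T.m 0 ∧ T.m 2 = T.m 0 ∧ T.m 3 = T.m 0 ∧ T.w 0 = T.w 0 ∧ T.w 1 = T.w 0 ∧ T.w 2 = T.w 0 ∧ T.w 3 = T.w 0 ∧ T.a 0 0 = -2 * T.w 0 ∧ T.a 0 1 = T.w 0 ∧ T.a 0 2 = 0 ∧ T.a 0 3 = T.w 0 ∧ T.a 1 1 = -2 * T.w 0 ∧ T.a 1 2 = T.w 0 ∧ T.a 1 3 = 0 ∧ T.a 2 2 = -2 * T.w 0 ∧ T.a 2 3 = T.w 0 ∧ T.a 3 3 = -2 * T.w 0 from by omega))⟩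
            · omega
            · omega
            · omega
            · omega
          · omega
          · omega
          · omega
        · rcases pc1 _ _ c13 (by omega) with ⟨rfl, rfl⟩ | ⟨rfl, rfl⟩
          · rcases pc2 _ _ c23 (by omega) with ⟨rfl, rfl⟩ | ⟨rfl, rfl⟩ | ⟨rfl, rfl⟩ | ⟨rfl, rfl⟩
            · omega
            · omega
            · omega
            · omega
          · omega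
        · rcases pc1 _ _ c13 (by omega) with ⟨rfl, rfl⟩ | ⟨rfl, rfl⟩
          · rcases pc2 _ _ c23 (by omega) with ⟨rfl, rfl⟩ | ⟨rfl, rfl⟩ | ⟨rfl, rfl⟩ | ⟨rfl, rfl⟩
            · omega
            · omega
            · omega
            · omega
          · omega
        · omega
        · omega
      · rcases pc3 _ _ c12 (by omega) with ⟨rfl, rfl⟩ | ⟨rfl, rfl⟩ | ⟨rfl, rfl⟩ | ⟨rfl, rfl⟩ | ⟨rfl, rfl⟩ | ⟨rfl, rfl⟩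
        · rcases pc2 _ _ c13 (by omega) with ⟨rfl, rfl⟩ | ⟨rfl, rfl⟩ | ⟨rfl, rfl⟩ | ⟨rfl, rfl⟩
          · rcases pc2 _ _ c23 (by omega) with ⟨rfl, rfl⟩ | ⟨rfl, rfl⟩ | ⟨rfl, rfl⟩ | ⟨rfl, rfl⟩
            · omega
            · omega
            · omega
            · omega
          · omega
          · omega
          · omega
        · rcases pc2 _ _ c13 (by omega) with ⟨rfl, rfl⟩ | ⟨rfl, rfl⟩ | ⟨rfl, rfl⟩ | ⟨rfl, rfl⟩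
          · rcases pc2 _ _ c23 (by omega) with ⟨rfl, rfl⟩ | ⟨rfl, rfl⟩ | ⟨rfl, rfl⟩ | ⟨rfl, rfl⟩
            · omega
            · omega
            · omega
            · omega
          · omega
          · omega
          · omega
        · rcases pc1 _ _ c13 (by omega) with ⟨rfl, rfl⟩ | ⟨rfl, rfl⟩
          · rcases pc2 _ _ c23 (by omega) with ⟨rfl, rfl⟩ | ⟨rfl, rfl⟩ | ⟨rfl, rfl⟩ | ⟨rfl, rfl⟩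
            · exact ⟨p2103, T.m 2, T.w 2, Or.inr (Or.inr (Or.inl ((show T.m 2 = T.m 2 ∧ T.m 1 = T.m 2 ∧ T.m 0 = T.m 2 ∧ T.m 3 = T.m 2 ∧ T.w 2 = T.w 2 ∧ T.w 1 = 2 * T.w 2 ∧ T.w 0 = 2 * T.w 2 ∧ T.w 3 = T.w 2 ∧ T.a 2 2 = -2 * T.w 2 ∧ T.a 2 1 = 2 * T.w 2 ∧ T.a 2 0 = 0 ∧ T.a 2 3 = 0 ∧ T.a 1 1 = -4 * T.w 2 ∧ T.a 1 0 = 2 * T.w 2 ∧ T.a 1 3 = 0 ∧ T.a 0 0 = -4 * T.w 2 ∧ T.a 0 3 = 2 * T.w 2 ∧ T.a 3 3 = -2 * T.w 2 from by omega))))⟩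
            · omega
            · omega
            · omega
          · omega
        · rcases pc1 _ _ c13 (by omega) with ⟨rfl, rfl⟩ | ⟨rfl, rfl⟩
          · rcases pc2 _ _ c23 (by omega) with ⟨rfl, rfl⟩ | ⟨rfl, rfl⟩ | ⟨rfl, rfl⟩ | ⟨rfl, rfl⟩
            · exact ⟨p3012, T.m 2, T.w 3, Or.inr (Or.inl ((show T.m 3 = 2 * T.m 2 ∧ T.m 0 = 2 * T.m 2 ∧ T.m 1 = 2 * T.m 2 ∧ T.m 2 = T.m 2 ∧ T.w 3 = T.w 3 ∧ T.w 0 = 2 * T.w 3 ∧ T.w 1 = 2 * T.w 3 ∧ T.w 2 = 4 * T.w 3 ∧ T.a 3 3 = -2 * T.w 3 ∧ T.a 3 0 = 2 * T.w 3 ∧ T.a 3 1 = 0 ∧ T.a 3 2 = 0 ∧ T.a 0 0 = -4 * T.w 3 ∧ T.a 0 1 = 2 * T.w 3 ∧ T.a 0 2 = 0 ∧ T.a 1 1 = -4 * T.w 3 ∧ T.a 1 2 = 4 * T.w 3 ∧ T.a 2 2 = -8 * T.w 3 from by omega)))⟩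
            · omega
            · omega
            · omega
          · omega
        · omega
        · omega
      · rcases pc3 _ _ c12 (by omega) with ⟨rfl, rfl⟩ | ⟨rfl, rfl⟩ | ⟨rfl, rfl⟩ | ⟨rfl, rfl⟩ | ⟨rfl, rfl⟩ | ⟨rfl, rfl⟩
        · rcases pc2 _ _ c13 (by omega) with ⟨rfl, rfl⟩ | ⟨rfl, rfl⟩ | ⟨rfl, rfl⟩ | ⟨rfl, rfl⟩
          · rcases pc2 _ _ c23 (by omega) with ⟨rfl, rfl⟩ | ⟨rfl, rfl⟩ | ⟨rfl, rfl⟩ | ⟨rfl, rfl⟩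
            · omega
            · omega
            · omega
            · omega
          · omega
          · omega
          · omega
        · rcases pc2 _ _ c13 (by omega) with ⟨rfl, rfl⟩ | ⟨rfl, rfl⟩ | ⟨rfl, rfl⟩ | ⟨rfl, rfl⟩
          · rcases pc2 _ _ c23 (by omega) with ⟨rfl, rfl⟩ | ⟨rfl, rfl⟩ | ⟨rfl, rfl⟩ | ⟨rfl, rfl⟩
            · omega
            · omega
            · omega
            · omega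
          · omega
          · omega
          · omega
        · rcases pc1 _ _ c13 (by omega) with ⟨rfl, rfl⟩ | ⟨rfl, rfl⟩
          · rcases pc2 _ _ c23 (by omega) with ⟨rfl, rfl⟩ | ⟨rfl, rfl⟩ | ⟨rfl, rfl⟩ | ⟨rfl, rfl⟩
            · exact ⟨p2103, T.m 3, T.w 2, Or.inr (Or.inl ((show T.m 2 = 2 * T.m 3 ∧ T.m 1 = 2 * T.m 3 ∧ T.m 0 = 2 * T.m 3 ∧ T.m 3 = T.m 3 ∧ T.w 2 = T.w 2 ∧ T.w 1 = 2 * T.w 2 ∧ T.w 0 = 2 * T.w 2 ∧ T.w 3 = 4 * T.w 2 ∧ T.a 2 2 = -2 * T.w 2 ∧ T.a 2 1 = 2 * T.w 2 ∧ T.a 2 0 = 0 ∧ T.a 2 3 = 0 ∧ T.a 1 1 = -4 * T.w 2 ∧ T.a 1 0 = 2 * T.w 2 ∧ T.a 1 3 = 0 ∧ T.a 0 0 = -4 * T.w 2 ∧ T.a 0 3 = 4 * T.w 2 ∧ T.a 3 3 = -8 * T.w 2 from by omega)))⟩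
            · omega
            · omega
            · omega
          · omega
        · rcases pc1 _ _ c13 (by omega) with ⟨rfl, rfl⟩ | ⟨rfl, rfl⟩
          · rcases pc2 _ _ c23 (by omega) with ⟨rfl, rfl⟩ | ⟨rfl, rfl⟩ | ⟨rfl, rfl⟩ | ⟨rfl, rfl⟩
            · exact ⟨p2103, T.m 2, T.w 1, Or.inr (Or.inr (Or.inr (Or.inl ((show T.m 2 = T.m 2 ∧ T.m 1 = 2 * T.m 2 ∧ T.m 0 = 2 * T.m 2 ∧ T.m 3 = T.m 2 ∧ T.w 2 = 2 * T.w 1 ∧ T.w 1 = T.w 1 ∧ T.w 0 = T.w 1 ∧ T.w 3 = 2 * T.w 1 ∧ T.a 2 2 = -4 * T.w 1 ∧ T.a 2 1 = 2 * T.w 1 ∧ T.a 2 0 = 0 ∧ T.a 2 3 = 0 ∧ T.a 1 1 = -2 * T.w 1 ∧ T.a 1 0 = T.w 1 ∧ T.a 1 3 = 0 ∧ T.a 0 0 = -2 * T.w 1 ∧ T.a 0 3 = 2 * T.w 1 ∧ T.a 3 3 = -4 * T.w 1 from by omega)))))⟩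
            · omega
            · omega
            · omega
          · omega
        · omega
        · omega
      · rcases pc3 _ _ c12 (by omega) with ⟨rfl, rfl⟩ | ⟨rfl, rfl⟩ | ⟨rfl, rfl⟩ | ⟨rfl, rfl⟩ | ⟨rfl, rfl⟩ | ⟨rfl, rfl⟩
        · rcases pc1 _ _ c13 (by omega) with ⟨rfl, rfl⟩ | ⟨rfl, rfl⟩
          · rcases pc1 _ _ c23 (by omega) with ⟨rfl, rfl⟩ | ⟨rfl, rfl⟩
            · omega
            · omega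
          · omega
        · omega
        · omega
        · omega
        · omega
        · omega
      · rcases pc3 _ _ c12 (by omega) with ⟨rfl, rfl⟩ | ⟨rfl, rfl⟩ | ⟨rfl, rfl⟩ | ⟨rfl, rfl⟩ | ⟨rfl, rfl⟩ | ⟨rfl, rfl⟩
        · rcases pc1 _ _ c13 (by omega) with ⟨rfl, rfl⟩ | ⟨rfl, rfl⟩
          · rcases pc1 _ _ c23 (by omega) with ⟨rfl, rfl⟩ | ⟨rfl, rfl⟩
            · omega
            · omega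
          · omega
        · omega
        · omega
        · omega
        · omega
        · omega
    · rcases pc2 _ _ c03 (by omega) with ⟨rfl, rfl⟩ | ⟨rfl, rfl⟩ | ⟨rfl, rfl⟩ | ⟨rfl, rfl⟩
      · rcases pc3 _ _ c12 (by omega) with ⟨rfl, rfl⟩ | ⟨rfl, rfl⟩ | ⟨rfl, rfl⟩ | ⟨rfl, rfl⟩ | ⟨rfl, rfl⟩ | ⟨rfl, rfl⟩
        · rcases pc3 _ _ c13 (by omega) with ⟨rfl, rfl⟩ | ⟨rfl, rfl⟩ | ⟨rfl, rfl⟩ | ⟨rfl, rfl⟩ | ⟨rfl, rfl⟩ | ⟨rfl, rfl⟩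
          · rcases pc3 _ _ c23 (by omega) with ⟨rfl, rfl⟩ | ⟨rfl, rfl⟩ | ⟨rfl, rfl⟩ | ⟨rfl, rfl⟩ | ⟨rfl, rfl⟩ | ⟨rfl, rfl⟩
            · omega
            · omega
            · omega
            · omega
            · omega
            · omega
          · rcases pc3 _ _ c23 (by omega) with ⟨rfl, rfl⟩ | ⟨rfl, rfl⟩ | ⟨rfl, rfl⟩ | ⟨rfl, rfl⟩ | ⟨rfl, rfl⟩ | ⟨rfl, rfl⟩
            · omega
            · exact ⟨p0132, T.m 0, T.w 0, Or.inl ((show T.m 0 = T.m 0 ∧ T.m 1 = T.m 0 ∧ T.m 3 = T.m 0 ∧ T.m 2 = T.m 0 ∧ T.w 0 = T.w 0 ∧ T.w 1 = T.w 0 ∧ T.w 3 = T.w 0 ∧ T.w 2 = T.w 0 ∧ T.a 0 0 = -2 * T.w 0 ∧ T.a 0 1 = T.w 0 ∧ T.a 0 3 = 0 ∧ T.a 0 2 = T.w 0 ∧ T.a 1 1 = -2 * T.w 0 ∧ T.a 1 3 = T.w 0 ∧ T.a 1 2 = 0 ∧ T.a 3 3 = -2 * T.w 0 ∧ T.a 3 2 = T.w 0 ∧ T.a 2 2 = -2 * T.w 0 from by omega))⟩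
            · omega
            · omega
            · omega
            · omega
          · rcases pc2 _ _ c23 (by omega) with ⟨rfl, rfl⟩ | ⟨rfl, rfl⟩ | ⟨rfl, rfl⟩ | ⟨rfl, rfl⟩
            · omega
            · omega
            · omega
            · omega
          · rcases pc2 _ _ c23 (by omega) with ⟨rfl, rfl⟩ | ⟨rfl, rfl⟩ | ⟨rfl, rfl⟩ | ⟨rfl, rfl⟩
            · omega
            · omega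
            · omega
            · omega
          · omega
          · omega
        · rcases pc2 _ _ c13 (by omega) with ⟨rfl, rfl⟩ | ⟨rfl, rfl⟩ | ⟨rfl, rfl⟩ | ⟨rfl, rfl⟩
          · rcases pc2 _ _ c23 (by omega) with ⟨rfl, rfl⟩ | ⟨rfl, rfl⟩ | ⟨rfl, rfl⟩ | ⟨rfl, rfl⟩
            · omega
            · omega
            · omega
            · omega
          · omega
          · omega
          · omega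
        · omega
        · omega
        · omega
        · omega
      · rcases pc3 _ _ c12 (by omega) with ⟨rfl, rfl⟩ | ⟨rfl, rfl⟩ | ⟨rfl, rfl⟩ | ⟨rfl, rfl⟩ | ⟨rfl, rfl⟩ | ⟨rfl, rfl⟩
        · rcases pc3 _ _ c13 (by omega) with ⟨rfl, rfl⟩ | ⟨rfl, rfl⟩ | ⟨rfl, rfl⟩ | ⟨rfl, rfl⟩ | ⟨rfl, rfl⟩ | ⟨rfl, rfl⟩
          · rcases pc3 _ _ c23 (by omega) with ⟨rfl, rfl⟩ | ⟨rfl, rfl⟩ | ⟨rfl, rfl⟩ | ⟨rfl, rfl⟩ | ⟨rfl, rfl⟩ | ⟨rfl, rfl⟩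
            · omega
            · omega
            · omega
            · omega
            · omega
            · omega
          · omega
          · omega
          · omega
          · omega
          · omega
        · omega
        · omega
        · omega
        · omega
        · omega
      · rcases pc3 _ _ c12 (by omega) with ⟨rfl, rfl⟩ | ⟨rfl, rfl⟩ | ⟨rfl, rfl⟩ | ⟨rfl, rfl⟩ | ⟨rfl, rfl⟩ | ⟨rfl, rfl⟩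
        · rcases pc2 _ _ c13 (by omega) with ⟨rfl, rfl⟩ | ⟨rfl, rfl⟩ | ⟨rfl, rfl⟩ | ⟨rfl, rfl⟩
          · rcases pc2 _ _ c23 (by omega) with ⟨rfl, rfl⟩ | ⟨rfl, rfl⟩ | ⟨rfl, rfl⟩ | ⟨rfl, rfl⟩
            · exact ⟨p0123, T.m 1, T.w 3, Or.inr (Or.inr (Or.inr (Or.inr (Or.inr ((show T.m 0 = 2 * T.m 1 ∧ T.m 1 = T.m 1 ∧ T.m 2 = T.m 1 ∧ T.m 3 = 2 * T.m 1 ∧ T.w 0 = 2 * T.w 3 ∧ T.w 1 = 2 * T.w 3 ∧ T.w 2 = 2 * T.w 3 ∧ T.w 3 = T.w 3 ∧ T.a 0 0 = -4 * T.w 3 ∧ T.a 0 1 = 2 * T.w 3 ∧ T.a 0 2 = 2 * T.w 3 ∧ T.a 0 3 = 2 * T.w 3 ∧ T.a 1 1 = -4 * T.w 3 ∧ T.a 1 2 = 0 ∧ T.a 1 3 = 0 ∧ T.a 2 2 = -4 * T.w 3 ∧ T.a 2 3 = 0 ∧ T.a 3 3 = -2 * T.w 3 from by omega))))))⟩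
            · omega
            · omega
            · omega
          · omega
          · omega
          · omega
        · omega
        · omega
        · omega
        · omega
        · omega
      · rcases pc3 _ _ c12 (by omega) with ⟨rfl, rfl⟩ | ⟨rfl, rfl⟩ | ⟨rfl, rfl⟩ | ⟨rfl, rfl⟩ | ⟨rfl, rfl⟩ | ⟨rfl, rfl⟩
        · rcases pc2 _ _ c13 (by omega) with ⟨rfl, rfl⟩ | ⟨rfl, rfl⟩ | ⟨rfl, rfl⟩ | ⟨rfl, rfl⟩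
          · rcases pc2 _ _ c23 (by omega) with ⟨rfl, rfl⟩ | ⟨rfl, rfl⟩ | ⟨rfl, rfl⟩ | ⟨rfl, rfl⟩
            · exact ⟨p0123, T.m 1, T.w 0, Or.inr (Or.inr (Or.inr (Or.inr (Or.inl ((show T.m 0 = 2 * T.m 1 ∧ T.m 1 = T.m 1 ∧ T.m 2 = T.m 1 ∧ T.m 3 = T.m 1 ∧ T.w 0 = T.w 0 ∧ T.w 1 = T.w 0 ∧ T.w 2 = T.w 0 ∧ T.w 3 = 2 * T.w 0 ∧ T.a 0 0 = -2 * T.w 0 ∧ T.a 0 1 = T.w 0 ∧ T.a 0 2 = T.w 0 ∧ T.a 0 3 = 2 * T.w 0 ∧ T.a 1 1 = -2 * T.w 0 ∧ T.a 1 2 = 0 ∧ T.a 1 3 = 0 ∧ T.a 2 2 = -2 * T.w 0 ∧ T.a 2 3 = 0 ∧ T.a 3 3 = -4 * T.w 0 from by omega))))))⟩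
            · omega
            · omega
            · omega
          · omega
          · omega
          · omega
        · omega
        · omega
        · omega
        · omega
        · omega
    · rcases pc1 _ _ c03 (by omega) with ⟨rfl, rfl⟩ | ⟨rfl, rfl⟩
      · rcases pc2 _ _ c12 (by omega) with ⟨rfl, rfl⟩ | ⟨rfl, rfl⟩ | ⟨rfl, rfl⟩ | ⟨rfl, rfl⟩
        · rcases pc3 _ _ c13 (by omega) with ⟨rfl, rfl⟩ | ⟨rfl, rfl⟩ | ⟨rfl, rfl⟩ | ⟨rfl, rfl⟩ | ⟨rfl, rfl⟩ | ⟨rfl, rfl⟩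
          · rcases pc2 _ _ c23 (by omega) with ⟨rfl, rfl⟩ | ⟨rfl, rfl⟩ | ⟨rfl, rfl⟩ | ⟨rfl, rfl⟩
            · omega
            · omega
            · omega
            · omega
          · rcases pc2 _ _ c23 (by omega) with ⟨rfl, rfl⟩ | ⟨rfl, rfl⟩ | ⟨rfl, rfl⟩ | ⟨rfl, rfl⟩
            · omega
            · omega
            · omega
            · omega
          · rcases pc2 _ _ c23 (by omega) with ⟨rfl, rfl⟩ | ⟨rfl, rfl⟩ | ⟨rfl, rfl⟩ | ⟨rfl, rfl⟩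
            · exact ⟨p2013, T.m 2, T.w 2, Or.inr (Or.inr (Or.inl ((show T.m 2 = T.m 2 ∧ T.m 0 = T.m 2 ∧ T.m 1 = T.m 2 ∧ T.m 3 = T.m 2 ∧ T.w 2 = T.w 2 ∧ T.w 0 = 2 * T.w 2 ∧ T.w 1 = 2 * T.w 2 ∧ T.w 3 = T.w 2 ∧ T.a 2 2 = -2 * T.w 2 ∧ T.a 2 0 = 2 * T.w 2 ∧ T.a 2 1 = 0 ∧ T.a 2 3 = 0 ∧ T.a 0 0 = -4 * T.w 2 ∧ T.a 0 1 = 2 * T.w 2 ∧ T.a 0 3 = 0 ∧ T.a 1 1 = -4 * T.w 2 ∧ T.a 1 3 = 2 * T.w 2 ∧ T.a 3 3 = -2 * T.w 2 from by omega))))⟩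
            · omega
            · omega
            · omega
          · rcases pc2 _ _ c23 (by omega) with ⟨rfl, rfl⟩ | ⟨rfl, rfl⟩ | ⟨rfl, rfl⟩ | ⟨rfl, rfl⟩
            · exact ⟨p2013, T.m 3, T.w 2, Or.inr (Or.inl ((show T.m 2 = 2 * T.m 3 ∧ T.m 0 = 2 * T.m 3 ∧ T.m 1 = 2 * T.m 3 ∧ T.m 3 = T.m 3 ∧ T.w 2 = T.w 2 ∧ T.w 0 = 2 * T.w 2 ∧ T.w 1 = 2 * T.w 2 ∧ T.w 3 = 4 * T.w 2 ∧ T.a 2 2 = -2 * T.w 2 ∧ T.a 2 0 = 2 * T.w 2 ∧ T.a 2 1 = 0 ∧ T.a 2 3 = 0 ∧ T.a 0 0 = -4 * T.w 2 ∧ T.a 0 1 = 2 * T.w 2 ∧ T.a 0 3 = 0 ∧ T.a 1 1 = -4 * T.w 2 ∧ T.a 1 3 = 4 * T.w 2 ∧ T.a 3 3 = -8 * T.w 2 from by omega)))⟩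
            · omega
            · omega
            · omega
          · omega
          · omega
        · omega
        · omega
        · omega
      · rcases pc2 _ _ c12 (by omega) with ⟨rfl, rfl⟩ | ⟨rfl, rfl⟩ | ⟨rfl, rfl⟩ | ⟨rfl, rfl⟩
        · rcases pc3 _ _ c13 (by omega) with ⟨rfl, rfl⟩ | ⟨rfl, rfl⟩ | ⟨rfl, rfl⟩ | ⟨rfl, rfl⟩ | ⟨rfl, rfl⟩ | ⟨rfl, rfl⟩
          · rcases pc2 _ _ c23 (by omega) with ⟨rfl, rfl⟩ | ⟨rfl, rfl⟩ | ⟨rfl, rfl⟩ | ⟨rfl, rfl⟩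
            · exact ⟨p0132, T.m 1, T.w 2, Or.inr (Or.inr (Or.inr (Or.inr (Or.inr ((show T.m 0 = 2 * T.m 1 ∧ T.m 1 = T.m 1 ∧ T.m 3 = T.m 1 ∧ T.m 2 = 2 * T.m 1 ∧ T.w 0 = 2 * T.w 2 ∧ T.w 1 = 2 * T.w 2 ∧ T.w 3 = 2 * T.w 2 ∧ T.w 2 = T.w 2 ∧ T.a 0 0 = -4 * T.w 2 ∧ T.a 0 1 = 2 * T.w 2 ∧ T.a 0 3 = 2 * T.w 2 ∧ T.a 0 2 = 2 * T.w 2 ∧ T.a 1 1 = -4 * T.w 2 ∧ T.a 1 3 = 0 ∧ T.a 1 2 = 0 ∧ T.a 3 3 = -4 * T.w 2 ∧ T.a 3 2 = 0 ∧ T.a 2 2 = -2 * T.w 2 from by omega))))))⟩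
            · omega
            · omega
            · omega
          · omega
          · omega
          · omega
          · omega
          · omega
        · omega
        · omega
        · omega
    · rcases pc1 _ _ c03 (by omega) with ⟨rfl, rfl⟩ | ⟨rfl, rfl⟩
      · rcases pc2 _ _ c12 (by omega) with ⟨rfl, rfl⟩ | ⟨rfl, rfl⟩ | ⟨rfl, rfl⟩ | ⟨rfl, rfl⟩
        · rcases pc3 _ _ c13 (by omega) with ⟨rfl, rfl⟩ | ⟨rfl, rfl⟩ | ⟨rfl, rfl⟩ | ⟨rfl, rfl⟩ | ⟨rfl, rfl⟩ | ⟨rfl, rfl⟩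
          · rcases pc2 _ _ c23 (by omega) with ⟨rfl, rfl⟩ | ⟨rfl, rfl⟩ | ⟨rfl, rfl⟩ | ⟨rfl, rfl⟩
            · omega
            · omega
            · omega
            · omega
          · rcases pc2 _ _ c23 (by omega) with ⟨rfl, rfl⟩ | ⟨rfl, rfl⟩ | ⟨rfl, rfl⟩ | ⟨rfl, rfl⟩
            · omega
            · omega
            · omega
            · omega
          · rcases pc2 _ _ c23 (by omega) with ⟨rfl, rfl⟩ | ⟨rfl, rfl⟩ | ⟨rfl, rfl⟩ | ⟨rfl, rfl⟩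
            · exact ⟨p3102, T.m 2, T.w 3, Or.inr (Or.inl ((show T.m 3 = 2 * T.m 2 ∧ T.m 1 = 2 * T.m 2 ∧ T.m 0 = 2 * T.m 2 ∧ T.m 2 = T.m 2 ∧ T.w 3 = T.w 3 ∧ T.w 1 = 2 * T.w 3 ∧ T.w 0 = 2 * T.w 3 ∧ T.w 2 = 4 * T.w 3 ∧ T.a 3 3 = -2 * T.w 3 ∧ T.a 3 1 = 2 * T.w 3 ∧ T.a 3 0 = 0 ∧ T.a 3 2 = 0 ∧ T.a 1 1 = -4 * T.w 3 ∧ T.a 1 0 = 2 * T.w 3 ∧ T.a 1 2 = 0 ∧ T.a 0 0 = -4 * T.w 3 ∧ T.a 0 2 = 4 * T.w 3 ∧ T.a 2 2 = -8 * T.w 3 from by omega)))⟩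
            · omega
            · omega
            · omega
          · rcases pc2 _ _ c23 (by omega) with ⟨rfl, rfl⟩ | ⟨rfl, rfl⟩ | ⟨rfl, rfl⟩ | ⟨rfl, rfl⟩
            · exact ⟨p2013, T.m 2, T.w 0, Or.inr (Or.inr (Or.inr (Or.inl ((show T.m 2 = T.m 2 ∧ T.m 0 = 2 * T.m 2 ∧ T.m 1 = 2 * T.m 2 ∧ T.m 3 = T.m 2 ∧ T.w 2 = 2 * T.w 0 ∧ T.w 0 = T.w 0 ∧ T.w 1 = T.w 0 ∧ T.w 3 = 2 * T.w 0 ∧ T.a 2 2 = -4 * T.w 0 ∧ T.a 2 0 = 2 * T.w 0 ∧ T.a 2 1 = 0 ∧ T.a 2 3 = 0 ∧ T.a 0 0 = -2 * T.w 0 ∧ T.a 0 1 = T.w 0 ∧ T.a 0 3 = 0 ∧ T.a 1 1 = -2 * T.w 0 ∧ T.a 1 3 = 2 * T.w 0 ∧ T.a 3 3 = -4 * T.w 0 from by omega)))))⟩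
            · omega
            · omega
            · omega
          · omega
          · omega
        · omega
        · omega
        · omega
      · rcases pc2 _ _ c12 (by omega) with ⟨rfl, rfl⟩ | ⟨rfl, rfl⟩ | ⟨rfl, rfl⟩ | ⟨rfl, rfl⟩
        · rcases pc3 _ _ c13 (by omega) with ⟨rfl, rfl⟩ | ⟨rfl, rfl⟩ | ⟨rfl, rfl⟩ | ⟨rfl, rfl⟩ | ⟨rfl, rfl⟩ | ⟨rfl, rfl⟩
          · rcases pc2 _ _ c23 (by omega) with ⟨rfl, rfl⟩ | ⟨rfl, rfl⟩ | ⟨rfl, rfl⟩ | ⟨rfl, rfl⟩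
            · exact ⟨p0132, T.m 1, T.w 0, Or.inr (Or.inr (Or.inr (Or.inr (Or.inl ((show T.m 0 = 2 * T.m 1 ∧ T.m 1 = T.m 1 ∧ T.m 3 = T.m 1 ∧ T.m 2 = T.m 1 ∧ T.w 0 = T.w 0 ∧ T.w 1 = T.w 0 ∧ T.w 3 = T.w 0 ∧ T.w 2 = 2 * T.w 0 ∧ T.a 0 0 = -2 * T.w 0 ∧ T.a 0 1 = T.w 0 ∧ T.a 0 3 = T.w 0 ∧ T.a 0 2 = 2 * T.w 0 ∧ T.a 1 1 = -2 * T.w 0 ∧ T.a 1 3 = 0 ∧ T.a 1 2 = 0 ∧ T.a 3 3 = -2 * T.w 0 ∧ T.a 3 2 = 0 ∧ T.a 2 2 = -4 * T.w 0 from by omega))))))⟩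
            · omega
            · omega
            · omega
          · omega
          · omega
          · omega
          · omega
          · omega
        · omega
        · omega
        · omega
    · obtain ⟨rfl, rfl⟩ := pc0 _ _ c03 (by omega)
      rcases pc1 _ _ c12 (by omega) with ⟨rfl, rfl⟩ | ⟨rfl, rfl⟩
      · rcases pc3 _ _ c13 (by omega) with ⟨rfl, rfl⟩ | ⟨rfl, rfl⟩ | ⟨rfl, rfl⟩ | ⟨rfl, rfl⟩ | ⟨rfl, rfl⟩ | ⟨rfl, rfl⟩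
        · rcases pc1 _ _ c23 (by omega) with ⟨rfl, rfl⟩ | ⟨rfl, rfl⟩
          · omega
          · omega
        · omega
        · omega
        · omega
        · omega
        · omega
      · omega
    · obtain ⟨rfl, rfl⟩ := pc0 _ _ c03 (by omega)
      rcases pc1 _ _ c12 (by omega) with ⟨rfl, rfl⟩ | ⟨rfl, rfl⟩
      · rcases pc3 _ _ c13 (by omega) with ⟨rfl, rfl⟩ | ⟨rfl, rfl⟩ | ⟨rfl, rfl⟩ | ⟨rfl, rfl⟩ | ⟨rfl, rfl⟩ | ⟨rfl, rfl⟩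
        · rcases pc1 _ _ c23 (by omega) with ⟨rfl, rfl⟩ | ⟨rfl, rfl⟩
          · omega
          · omega
        · omega
        · omega
        · omega
        · omega
        · omega
      · omega
  · rcases pc2 _ _ c02 (by omega) with ⟨rfl, rfl⟩ | ⟨rfl, rfl⟩ | ⟨rfl, rfl⟩ | ⟨rfl, rfl⟩
    · rcases pc2 _ _ c03 (by omega) with ⟨rfl, rfl⟩ | ⟨rfl, rfl⟩ | ⟨rfl, rfl⟩ | ⟨rfl, rfl⟩
      · rcases pc2 _ _ c12 (by omega) with ⟨rfl, rfl⟩ | ⟨rfl, rfl⟩ | ⟨rfl, rfl⟩ | ⟨rfl, rfl⟩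
        · rcases pc2 _ _ c13 (by omega) with ⟨rfl, rfl⟩ | ⟨rfl, rfl⟩ | ⟨rfl, rfl⟩ | ⟨rfl, rfl⟩
          · omega
          · rcases pc3 _ _ c23 (by omega) with ⟨rfl, rfl⟩ | ⟨rfl, rfl⟩ | ⟨rfl, rfl⟩ | ⟨rfl, rfl⟩ | ⟨rfl, rfl⟩ | ⟨rfl, rfl⟩
            · omega
            · omega
            · exact ⟨p0132, T.m 0, T.w 1, Or.inr (Or.inr (Or.inr (Or.inl ((show T.m 0 = T.m 0 ∧ T.m 1 = 2 * T.m 0 ∧ T.m 3 = 2 * T.m 0 ∧ T.m 2 = T.m 0 ∧ T.w 0 = 2 * T.w 1 ∧ T.w 1 = T.w 1 ∧ T.w 3 = T.w 1 ∧ T.w 2 = 2 * T.w 1 ∧ T.a 0 0 = -4 * T.w 1 ∧ T.a 0 1 = 2 * T.w 1 ∧ T.a 0 3 = 0 ∧ T.a 0 2 = 0 ∧ T.a 1 1 = -2 * T.w 1 ∧ T.a 1 3 = T.w 1 ∧ T.a 1 2 = 0 ∧ T.a 3 3 = -2 * T.w 1 ∧ T.a 3 2 = 2 * T.w 1 ∧ T.a 2 2 = -4 * T.w 1 from by omega)))))⟩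
            · exact ⟨p2310, T.m 0, T.w 2, Or.inr (Or.inl ((show T.m 2 = 2 * T.m 0 ∧ T.m 3 = 2 * T.m 0 ∧ T.m 1 = 2 * T.m 0 ∧ T.m 0 = T.m 0 ∧ T.w 2 = T.w 2 ∧ T.w 3 = 2 * T.w 2 ∧ T.w 1 = 2 * T.w 2 ∧ T.w 0 = 4 * T.w 2 ∧ T.a 2 2 = -2 * T.w 2 ∧ T.a 2 3 = 2 * T.w 2 ∧ T.a 2 1 = 0 ∧ T.a 2 0 = 0 ∧ T.a 3 3 = -4 * T.w 2 ∧ T.a 3 1 = 2 * T.w 2 ∧ T.a 3 0 = 0 ∧ T.a 1 1 = -4 * T.w 2 ∧ T.a 1 0 = 4 * T.w 2 ∧ T.a 0 0 = -8 * T.w 2 from by omega)))⟩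
            · omega
            · omega
          · rcases pc2 _ _ c23 (by omega) with ⟨rfl, rfl⟩ | ⟨rfl, rfl⟩ | ⟨rfl, rfl⟩ | ⟨rfl, rfl⟩
            · omega
            · omega
            · omega
            · omega
          · rcases pc2 _ _ c23 (by omega) with ⟨rfl, rfl⟩ | ⟨rfl, rfl⟩ | ⟨rfl, rfl⟩ | ⟨rfl, rfl⟩
            · omega
            · omega
            · omega
            · omega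
        · rcases pc1 _ _ c13 (by omega) with ⟨rfl, rfl⟩ | ⟨rfl, rfl⟩
          · rcases pc3 _ _ c23 (by omega) with ⟨rfl, rfl⟩ | ⟨rfl, rfl⟩ | ⟨rfl, rfl⟩ | ⟨rfl, rfl⟩ | ⟨rfl, rfl⟩ | ⟨rfl, rfl⟩
            · omega
            · omega
            · exact ⟨p3210, T.m 0, T.w 3, Or.inr (Or.inl ((show T.m 3 = 2 * T.m 0 ∧ T.m 2 = 2 * T.m 0 ∧ T.m 1 = 2 * T.m 0 ∧ T.m 0 = T.m 0 ∧ T.w 3 = T.w 3 ∧ T.w 2 = 2 * T.w 3 ∧ T.w 1 = 2 * T.w 3 ∧ T.w 0 = 4 * T.w 3 ∧ T.a 3 3 = -2 * T.w 3 ∧ T.a 3 2 = 2 * T.w 3 ∧ T.a 3 1 = 0 ∧ T.a 3 0 = 0 ∧ T.a 2 2 = -4 * T.w 3 ∧ T.a 2 1 = 2 * T.w 3 ∧ T.a 2 0 = 0 ∧ T.a 1 1 = -4 * T.w 3 ∧ T.a 1 0 = 4 * T.w 3 ∧ T.a 0 0 = -8 * T.w 3 from by omega)))⟩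
            · exact ⟨p0123, T.m 0, T.w 1, Or.inr (Or.inr (Or.inr (Or.inl ((show T.m 0 = T.m 0 ∧ T.m 1 = 2 * T.m 0 ∧ T.m 2 = 2 * T.m 0 ∧ T.m 3 = T.m 0 ∧ T.w 0 = 2 * T.w 1 ∧ T.w 1 = T.w 1 ∧ T.w 2 = T.w 1 ∧ T.w 3 = 2 * T.w 1 ∧ T.a 0 0 = -4 * T.w 1 ∧ T.a 0 1 = 2 * T.w 1 ∧ T.a 0 2 = 0 ∧ T.a 0 3 = 0 ∧ T.a 1 1 = -2 * T.w 1 ∧ T.a 1 2 = T.w 1 ∧ T.a 1 3 = 0 ∧ T.a 2 2 = -2 * T.w 1 ∧ T.a 2 3 = 2 * T.w 1 ∧ T.a 3 3 = -4 * T.w 1 from by omega)))))⟩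
            · omega
            · omega
          · rcases pc3 _ _ c23 (by omega) with ⟨rfl, rfl⟩ | ⟨rfl, rfl⟩ | ⟨rfl, rfl⟩ | ⟨rfl, rfl⟩ | ⟨rfl, rfl⟩ | ⟨rfl, rfl⟩
            · exact ⟨p1230, T.m 2, T.w 1, Or.inr (Or.inr (Or.inr (Or.inr (Or.inl ((show T.m 1 = 2 * T.m 2 ∧ T.m 2 = T.m 2 ∧ T.m 3 = T.m 2 ∧ T.m 0 = T.m 2 ∧ T.w 1 = T.w 1 ∧ T.w 2 = T.w 1 ∧ T.w 3 = T.w 1 ∧ T.w 0 = 2 * T.w 1 ∧ T.a 1 1 = -2 * T.w 1 ∧ T.a 1 2 = T.w 1 ∧ T.a 1 3 = T.w 1 ∧ T.a 1 0 = 2 * T.w 1 ∧ T.a 2 2 = -2 * T.w 1 ∧ T.a 2 3 = 0 ∧ T.a 2 0 = 0 ∧ T.a 3 3 = -2 * T.w 1 ∧ T.a 3 0 = 0 ∧ T.a 0 0 = -4 * T.w 1 from by omega))))))⟩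
            · omega
            · omega
            · omega
            · omega
            · omega
        · obtain ⟨rfl, rfl⟩ := pc0 _ _ c13 (by omega)
          rcases pc2 _ _ c23 (by omega) with ⟨rfl, rfl⟩ | ⟨rfl, rfl⟩ | ⟨rfl, rfl⟩ | ⟨rfl, rfl⟩
          · omega
          · omega
          · omega
          · omega
        · obtain ⟨rfl, rfl⟩ := pc0 _ _ c13 (by omega)
          rcases pc2 _ _ c23 (by omega) with ⟨rfl, rfl⟩ | ⟨rfl, rfl⟩ | ⟨rfl, rfl⟩ | ⟨rfl, rfl⟩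
          · omega
          · omega
          · omega
          · omega
      · rcases pc2 _ _ c12 (by omega) with ⟨rfl, rfl⟩ | ⟨rfl, rfl⟩ | ⟨rfl, rfl⟩ | ⟨rfl, rfl⟩
        · rcases pc2 _ _ c13 (by omega) with ⟨rfl, rfl⟩ | ⟨rfl, rfl⟩ | ⟨rfl, rfl⟩ | ⟨rfl, rfl⟩
          · rcases pc3 _ _ c23 (by omega) with ⟨rfl, rfl⟩ | ⟨rfl, rfl⟩ | ⟨rfl, rfl⟩ | ⟨rfl, rfl⟩ | ⟨rfl, rfl⟩ | ⟨rfl, rfl⟩
            · omega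
            · omega
            · exact ⟨p1032, T.m 2, T.w 1, Or.inr (Or.inl ((show T.m 1 = 2 * T.m 2 ∧ T.m 0 = 2 * T.m 2 ∧ T.m 3 = 2 * T.m 2 ∧ T.m 2 = T.m 2 ∧ T.w 1 = T.w 1 ∧ T.w 0 = 2 * T.w 1 ∧ T.w 3 = 2 * T.w 1 ∧ T.w 2 = 4 * T.w 1 ∧ T.a 1 1 = -2 * T.w 1 ∧ T.a 1 0 = 2 * T.w 1 ∧ T.a 1 3 = 0 ∧ T.a 1 2 = 0 ∧ T.a 0 0 = -4 * T.w 1 ∧ T.a 0 3 = 2 * T.w 1 ∧ T.a 0 2 = 0 ∧ T.a 3 3 = -4 * T.w 1 ∧ T.a 3 2 = 4 * T.w 1 ∧ T.a 2 2 = -8 * T.w 1 from by omega)))⟩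
            · exact ⟨p1032, T.m 1, T.w 1, Or.inr (Or.inr (Or.inl ((show T.m 1 = T.m 1 ∧ T.m 0 = T.m 1 ∧ T.m 3 = T.m 1 ∧ T.m 2 = T.m 1 ∧ T.w 1 = T.w 1 ∧ T.w 0 = 2 * T.w 1 ∧ T.w 3 = 2 * T.w 1 ∧ T.w 2 = T.w 1 ∧ T.a 1 1 = -2 * T.w 1 ∧ T.a 1 0 = 2 * T.w 1 ∧ T.a 1 3 = 0 ∧ T.a 1 2 = 0 ∧ T.a 0 0 = -4 * T.w 1 ∧ T.a 0 3 = 2 * T.w 1 ∧ T.a 0 2 = 0 ∧ T.a 3 3 = -4 * T.w 1 ∧ T.a 3 2 = 2 * T.w 1 ∧ T.a 2 2 = -2 * T.w 1 from by omega))))⟩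
            · omega
            · omega
          · omega
          · omega
          · omega
        · rcases pc1 _ _ c13 (by omega) with ⟨rfl, rfl⟩ | ⟨rfl, rfl⟩
          · rcases pc3 _ _ c23 (by omega) with ⟨rfl, rfl⟩ | ⟨rfl, rfl⟩ | ⟨rfl, rfl⟩ | ⟨rfl, rfl⟩ | ⟨rfl, rfl⟩ | ⟨rfl, rfl⟩
            · omega
            · omega
            · omega
            · omega
            · omega
            · omega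
          · omega
        · omega
        · omega
      · rcases pc2 _ _ c12 (by omega) with ⟨rfl, rfl⟩ | ⟨rfl, rfl⟩ | ⟨rfl, rfl⟩ | ⟨rfl, rfl⟩
        · rcases pc2 _ _ c13 (by omega) with ⟨rfl, rfl⟩ | ⟨rfl, rfl⟩ | ⟨rfl, rfl⟩ | ⟨rfl, rfl⟩
          · rcases pc2 _ _ c23 (by omega) with ⟨rfl, rfl⟩ | ⟨rfl, rfl⟩ | ⟨rfl, rfl⟩ | ⟨rfl, rfl⟩
            · omega
            · omega
            · omega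
            · omega
          · omega
          · omega
          · omega
        · omega
        · omega
        · omega
      · rcases pc2 _ _ c12 (by omega) with ⟨rfl, rfl⟩ | ⟨rfl, rfl⟩ | ⟨rfl, rfl⟩ | ⟨rfl, rfl⟩
        · rcases pc2 _ _ c13 (by omega) with ⟨rfl, rfl⟩ | ⟨rfl, rfl⟩ | ⟨rfl, rfl⟩ | ⟨rfl, rfl⟩
          · rcases pc2 _ _ c23 (by omega) with ⟨rfl, rfl⟩ | ⟨rfl, rfl⟩ | ⟨rfl, rfl⟩ | ⟨rfl, rfl⟩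
            · omega
            · omega
            · omega
            · omega
          · omega
          · omega
          · omega
        · omega
        · omega
        · omega
    · rcases pc1 _ _ c03 (by omega) with ⟨rfl, rfl⟩ | ⟨rfl, rfl⟩
      · rcases pc2 _ _ c12 (by omega) with ⟨rfl, rfl⟩ | ⟨rfl, rfl⟩ | ⟨rfl, rfl⟩ | ⟨rfl, rfl⟩
        · rcases pc2 _ _ c13 (by omega) with ⟨rfl, rfl⟩ | ⟨rfl, rfl⟩ | ⟨rfl, rfl⟩ | ⟨rfl, rfl⟩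
          · rcases pc3 _ _ c23 (by omega) with ⟨rfl, rfl⟩ | ⟨rfl, rfl⟩ | ⟨rfl, rfl⟩ | ⟨rfl, rfl⟩ | ⟨rfl, rfl⟩ | ⟨rfl, rfl⟩
            · omega
            · omega
            · exact ⟨p1023, T.m 1, T.w 1, Or.inr (Or.inr (Or.inl ((show T.m 1 = T.m 1 ∧ T.m 0 = T.m 1 ∧ T.m 2 = T.m 1 ∧ T.m 3 = T.m 1 ∧ T.w 1 = T.w 1 ∧ T.w 0 = 2 * T.w 1 ∧ T.w 2 = 2 * T.w 1 ∧ T.w 3 = T.w 1 ∧ T.a 1 1 = -2 * T.w 1 ∧ T.a 1 0 = 2 * T.w 1 ∧ T.a 1 2 = 0 ∧ T.a 1 3 = 0 ∧ T.a 0 0 = -4 * T.w 1 ∧ T.a 0 2 = 2 * T.w 1 ∧ T.a 0 3 = 0 ∧ T.a 2 2 = -4 * T.w 1 ∧ T.a 2 3 = 2 * T.w 1 ∧ T.a 3 3 = -2 * T.w 1 from by omega))))⟩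
            · exact ⟨p1023, T.m 3, T.w 1, Or.inr (Or.inl ((show T.m 1 = 2 * T.m 3 ∧ T.m 0 = 2 * T.m 3 ∧ T.m 2 = 2 * T.m 3 ∧ T.m 3 = T.m 3 ∧ T.w 1 = T.w 1 ∧ T.w 0 = 2 * T.w 1 ∧ T.w 2 = 2 * T.w 1 ∧ T.w 3 = 4 * T.w 1 ∧ T.a 1 1 = -2 * T.w 1 ∧ T.a 1 0 = 2 * T.w 1 ∧ T.a 1 2 = 0 ∧ T.a 1 3 = 0 ∧ T.a 0 0 = -4 * T.w 1 ∧ T.a 0 2 = 2 * T.w 1 ∧ T.a 0 3 = 0 ∧ T.a 2 2 = -4 * T.w 1 ∧ T.a 2 3 = 4 * T.w 1 ∧ T.a 3 3 = -8 * T.w 1 from by omega)))⟩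
            · omega
            · omega
          · rcases pc3 _ _ c23 (by omega) with ⟨rfl, rfl⟩ | ⟨rfl, rfl⟩ | ⟨rfl, rfl⟩ | ⟨rfl, rfl⟩ | ⟨rfl, rfl⟩ | ⟨rfl, rfl⟩
            · omega
            · omega
            · omega
            · omega
            · omega
            · omega
          · omega
          · omega
        · omega
        · omega
        · omega
      · rcases pc2 _ _ c12 (by omega) with ⟨rfl, rfl⟩ | ⟨rfl, rfl⟩ | ⟨rfl, rfl⟩ | ⟨rfl, rfl⟩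
        · rcases pc2 _ _ c13 (by omega) with ⟨rfl, rfl⟩ | ⟨rfl, rfl⟩ | ⟨rfl, rfl⟩ | ⟨rfl, rfl⟩
          · rcases pc3 _ _ c23 (by omega) with ⟨rfl, rfl⟩ | ⟨rfl, rfl⟩ | ⟨rfl, rfl⟩ | ⟨rfl, rfl⟩ | ⟨rfl, rfl⟩ | ⟨rfl, rfl⟩
            · exact ⟨p0231, T.m 2, T.w 1, Or.inr (Or.inr (Or.inr (Or.inr (Or.inr ((show T.m 0 = 2 * T.m 2 ∧ T.m 2 = T.m 2 ∧ T.m 3 = T.m 2 ∧ T.m 1 = 2 * T.m 2 ∧ T.w 0 = 2 * T.w 1 ∧ T.w 2 = 2 * T.w 1 ∧ T.w 3 = 2 * T.w 1 ∧ T.w 1 = T.w 1 ∧ T.a 0 0 = -4 * T.w 1 ∧ T.a 0 2 = 2 * T.w 1 ∧ T.a 0 3 = 2 * T.w 1 ∧ T.a 0 1 = 2 * T.w 1 ∧ T.a 2 2 = -4 * T.w 1 ∧ T.a 2 3 = 0 ∧ T.a 2 1 = 0 ∧ T.a 3 3 = -4 * T.w 1 ∧ T.a 3 1 = 0 ∧ T.a 1 1 = -2 * T.w 1 from by omega))))))⟩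
            · omega
            · omega
            · omega
            · omega
            · omega
          · omega
          · omega
          · omega
        · omega
        · omega
        · omega
    · obtain ⟨rfl, rfl⟩ := pc0 _ _ c03 (by omega)
      rcases pc2 _ _ c12 (by omega) with ⟨rfl, rfl⟩ | ⟨rfl, rfl⟩ | ⟨rfl, rfl⟩ | ⟨rfl, rfl⟩
      · rcases pc2 _ _ c13 (by omega) with ⟨rfl, rfl⟩ | ⟨rfl, rfl⟩ | ⟨rfl, rfl⟩ | ⟨rfl, rfl⟩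
        · rcases pc2 _ _ c23 (by omega) with ⟨rfl, rfl⟩ | ⟨rfl, rfl⟩ | ⟨rfl, rfl⟩ | ⟨rfl, rfl⟩
          · omega
          · omega
          · omega
          · omega
        · omega
        · omega
        · omega
      · omega
      · omega
      · omega
    · obtain ⟨rfl, rfl⟩ := pc0 _ _ c03 (by omega)
      rcases pc2 _ _ c12 (by omega) with ⟨rfl, rfl⟩ | ⟨rfl, rfl⟩ | ⟨rfl, rfl⟩ | ⟨rfl, rfl⟩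
      · rcases pc2 _ _ c13 (by omega) with ⟨rfl, rfl⟩ | ⟨rfl, rfl⟩ | ⟨rfl, rfl⟩ | ⟨rfl, rfl⟩
        · rcases pc2 _ _ c23 (by omega) with ⟨rfl, rfl⟩ | ⟨rfl, rfl⟩ | ⟨rfl, rfl⟩ | ⟨rfl, rfl⟩
          · omega
          · omega
          · omega
          · omega
        · omega
        · omega
        · omega
      · omega
      · omega
      · omega
  · rcases pc2 _ _ c02 (by omega) with ⟨rfl, rfl⟩ | ⟨rfl, rfl⟩ | ⟨rfl, rfl⟩ | ⟨rfl, rfl⟩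
    · rcases pc2 _ _ c03 (by omega) with ⟨rfl, rfl⟩ | ⟨rfl, rfl⟩ | ⟨rfl, rfl⟩ | ⟨rfl, rfl⟩
      · rcases pc2 _ _ c12 (by omega) with ⟨rfl, rfl⟩ | ⟨rfl, rfl⟩ | ⟨rfl, rfl⟩ | ⟨rfl, rfl⟩
        · rcases pc2 _ _ c13 (by omega) with ⟨rfl, rfl⟩ | ⟨rfl, rfl⟩ | ⟨rfl, rfl⟩ | ⟨rfl, rfl⟩
          · omega
          · rcases pc3 _ _ c23 (by omega) with ⟨rfl, rfl⟩ | ⟨rfl, rfl⟩ | ⟨rfl, rfl⟩ | ⟨rfl, rfl⟩ | ⟨rfl, rfl⟩ | ⟨rfl, rfl⟩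
            · omega
            · omega
            · exact ⟨p0132, T.m 2, T.w 0, Or.inr (Or.inl ((show T.m 0 = 2 * T.m 2 ∧ T.m 1 = 2 * T.m 2 ∧ T.m 3 = 2 * T.m 2 ∧ T.m 2 = T.m 2 ∧ T.w 0 = T.w 0 ∧ T.w 1 = 2 * T.w 0 ∧ T.w 3 = 2 * T.w 0 ∧ T.w 2 = 4 * T.w 0 ∧ T.a 0 0 = -2 * T.w 0 ∧ T.a 0 1 = 2 * T.w 0 ∧ T.a 0 3 = 0 ∧ T.a 0 2 = 0 ∧ T.a 1 1 = -4 * T.w 0 ∧ T.a 1 3 = 2 * T.w 0 ∧ T.a 1 2 = 0 ∧ T.a 3 3 = -4 * T.w 0 ∧ T.a 3 2 = 4 * T.w 0 ∧ T.a 2 2 = -8 * T.w 0 from by omega)))⟩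
            · exact ⟨p0132, T.m 0, T.w 0, Or.inr (Or.inr (Or.inl ((show T.m 0 = T.m 0 ∧ T.m 1 = T.m 0 ∧ T.m 3 = T.m 0 ∧ T.m 2 = T.m 0 ∧ T.w 0 = T.w 0 ∧ T.w 1 = 2 * T.w 0 ∧ T.w 3 = 2 * T.w 0 ∧ T.w 2 = T.w 0 ∧ T.a 0 0 = -2 * T.w 0 ∧ T.a 0 1 = 2 * T.w 0 ∧ T.a 0 3 = 0 ∧ T.a 0 2 = 0 ∧ T.a 1 1 = -4 * T.w 0 ∧ T.a 1 3 = 2 * T.w 0 ∧ T.a 1 2 = 0 ∧ T.a 3 3 = -4 * T.w 0 ∧ T.a 3 2 = 2 * T.w 0 ∧ T.a 2 2 = -2 * T.w 0 from by omega))))⟩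
            · omega
            · omega
          · rcases pc2 _ _ c23 (by omega) with ⟨rfl, rfl⟩ | ⟨rfl, rfl⟩ | ⟨rfl, rfl⟩ | ⟨rfl, rfl⟩
            · omega
            · omega
            · omega
            · omega
          · rcases pc2 _ _ c23 (by omega) with ⟨rfl, rfl⟩ | ⟨rfl, rfl⟩ | ⟨rfl, rfl⟩ | ⟨rfl, rfl⟩
            · omega
            · omega
            · omega
            · omega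
        · rcases pc1 _ _ c13 (by omega) with ⟨rfl, rfl⟩ | ⟨rfl, rfl⟩
          · rcases pc3 _ _ c23 (by omega) with ⟨rfl, rfl⟩ | ⟨rfl, rfl⟩ | ⟨rfl, rfl⟩ | ⟨rfl, rfl⟩ | ⟨rfl, rfl⟩ | ⟨rfl, rfl⟩
            · omega
            · omega
            · exact ⟨p0123, T.m 0, T.w 0, Or.inr (Or.inr (Or.inl ((show T.m 0 = T.m 0 ∧ T.m 1 = T.m 0 ∧ T.m 2 = T.m 0 ∧ T.m 3 = T.m 0 ∧ T.w 0 = T.w 0 ∧ T.w 1 = 2 * T.w 0 ∧ T.w 2 = 2 * T.w 0 ∧ T.w 3 = T.w 0 ∧ T.a 0 0 = -2 * T.w 0 ∧ T.a 0 1 = 2 * T.w 0 ∧ T.a 0 2 = 0 ∧ T.a 0 3 = 0 ∧ T.a 1 1 = -4 * T.w 0 ∧ T.a 1 2 = 2 * T.w 0 ∧ T.a 1 3 = 0 ∧ T.a 2 2 = -4 * T.w 0 ∧ T.a 2 3 = 2 * T.w 0 ∧ T.a 3 3 = -2 * T.w 0 from by omega))))⟩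
            · exact ⟨p0123, T.m 3, T.w 0, Or.inr (Or.inl ((show T.m 0 = 2 * T.m 3 ∧ T.m 1 = 2 * T.m 3 ∧ T.m 2 = 2 * T.m 3 ∧ T.m 3 = T.m 3 ∧ T.w 0 = T.w 0 ∧ T.w 1 = 2 * T.w 0 ∧ T.w 2 = 2 * T.w 0 ∧ T.w 3 = 4 * T.w 0 ∧ T.a 0 0 = -2 * T.w 0 ∧ T.a 0 1 = 2 * T.w 0 ∧ T.a 0 2 = 0 ∧ T.a 0 3 = 0 ∧ T.a 1 1 = -4 * T.w 0 ∧ T.a 1 2 = 2 * T.w 0 ∧ T.a 1 3 = 0 ∧ T.a 2 2 = -4 * T.w 0 ∧ T.a 2 3 = 4 * T.w 0 ∧ T.a 3 3 = -8 * T.w 0 from by omega)))⟩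
            · omega
            · omega
          · rcases pc3 _ _ c23 (by omega) with ⟨rfl, rfl⟩ | ⟨rfl, rfl⟩ | ⟨rfl, rfl⟩ | ⟨rfl, rfl⟩ | ⟨rfl, rfl⟩ | ⟨rfl, rfl⟩
            · exact ⟨p1230, T.m 2, T.w 0, Or.inr (Or.inr (Or.inr (Or.inr (Or.inr ((show T.m 1 = 2 * T.m 2 ∧ T.m 2 = T.m 2 ∧ T.m 3 = T.m 2 ∧ T.m 0 = 2 * T.m 2 ∧ T.w 1 = 2 * T.w 0 ∧ T.w 2 = 2 * T.w 0 ∧ T.w 3 = 2 * T.w 0 ∧ T.w 0 = T.w 0 ∧ T.a 1 1 = -4 * T.w 0 ∧ T.a 1 2 = 2 * T.w 0 ∧ T.a 1 3 = 2 * T.w 0 ∧ T.a 1 0 = 2 * T.w 0 ∧ T.a 2 2 = -4 * T.w 0 ∧ T.a 2 3 = 0 ∧ T.a 2 0 = 0 ∧ T.a 3 3 = -4 * T.w 0 ∧ T.a 3 0 = 0 ∧ T.a 0 0 = -2 * T.w 0 from by omega))))))⟩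
            · omega
            · omega
            · omega
            · omega
            · omega
        · obtain ⟨rfl, rfl⟩ := pc0 _ _ c13 (by omega)
          rcases pc2 _ _ c23 (by omega) with ⟨rfl, rfl⟩ | ⟨rfl, rfl⟩ | ⟨rfl, rfl⟩ | ⟨rfl, rfl⟩
          · omega
          · omega
          · omega
          · omega
        · obtain ⟨rfl, rfl⟩ := pc0 _ _ c13 (by omega)
          rcases pc2 _ _ c23 (by omega) with ⟨rfl, rfl⟩ | ⟨rfl, rfl⟩ | ⟨rfl, rfl⟩ | ⟨rfl, rfl⟩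
          · omega
          · omega
          · omega
          · omega
      · rcases pc2 _ _ c12 (by omega) with ⟨rfl, rfl⟩ | ⟨rfl, rfl⟩ | ⟨rfl, rfl⟩ | ⟨rfl, rfl⟩
        · rcases pc2 _ _ c13 (by omega) with ⟨rfl, rfl⟩ | ⟨rfl, rfl⟩ | ⟨rfl, rfl⟩ | ⟨rfl, rfl⟩
          · rcases pc3 _ _ c23 (by omega) with ⟨rfl, rfl⟩ | ⟨rfl, rfl⟩ | ⟨rfl, rfl⟩ | ⟨rfl, rfl⟩ | ⟨rfl, rfl⟩ | ⟨rfl, rfl⟩
            · omega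
            · omega
            · exact ⟨p1032, T.m 1, T.w 0, Or.inr (Or.inr (Or.inr (Or.inl ((show T.m 1 = T.m 1 ∧ T.m 0 = 2 * T.m 1 ∧ T.m 3 = 2 * T.m 1 ∧ T.m 2 = T.m 1 ∧ T.w 1 = 2 * T.w 0 ∧ T.w 0 = T.w 0 ∧ T.w 3 = T.w 0 ∧ T.w 2 = 2 * T.w 0 ∧ T.a 1 1 = -4 * T.w 0 ∧ T.a 1 0 = 2 * T.w 0 ∧ T.a 1 3 = 0 ∧ T.a 1 2 = 0 ∧ T.a 0 0 = -2 * T.w 0 ∧ T.a 0 3 = T.w 0 ∧ T.a 0 2 = 0 ∧ T.a 3 3 = -2 * T.w 0 ∧ T.a 3 2 = 2 * T.w 0 ∧ T.a 2 2 = -4 * T.w 0 from by omega)))))⟩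
            · exact ⟨p2301, T.m 1, T.w 2, Or.inr (Or.inl ((show T.m 2 = 2 * T.m 1 ∧ T.m 3 = 2 * T.m 1 ∧ T.m 0 = 2 * T.m 1 ∧ T.m 1 = T.m 1 ∧ T.w 2 = T.w 2 ∧ T.w 3 = 2 * T.w 2 ∧ T.w 0 = 2 * T.w 2 ∧ T.w 1 = 4 * T.w 2 ∧ T.a 2 2 = -2 * T.w 2 ∧ T.a 2 3 = 2 * T.w 2 ∧ T.a 2 0 = 0 ∧ T.a 2 1 = 0 ∧ T.a 3 3 = -4 * T.w 2 ∧ T.a 3 0 = 2 * T.w 2 ∧ T.a 3 1 = 0 ∧ T.a 0 0 = -4 * T.w 2 ∧ T.a 0 1 = 4 * T.w 2 ∧ T.a 1 1 = -8 * T.w 2 from by omega)))⟩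
            · omega
            · omega
          · omega
          · omega
          · omega
        · rcases pc1 _ _ c13 (by omega) with ⟨rfl, rfl⟩ | ⟨rfl, rfl⟩
          · rcases pc3 _ _ c23 (by omega) with ⟨rfl, rfl⟩ | ⟨rfl, rfl⟩ | ⟨rfl, rfl⟩ | ⟨rfl, rfl⟩ | ⟨rfl, rfl⟩ | ⟨rfl, rfl⟩
            · omega
            · omega
            · omega
            · omega
            · omega
            · omega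
          · omega
        · omega
        · omega
      · rcases pc2 _ _ c12 (by omega) with ⟨rfl, rfl⟩ | ⟨rfl, rfl⟩ | ⟨rfl, rfl⟩ | ⟨rfl, rfl⟩
        · rcases pc2 _ _ c13 (by omega) with ⟨rfl, rfl⟩ | ⟨rfl, rfl⟩ | ⟨rfl, rfl⟩ | ⟨rfl, rfl⟩
          · rcases pc2 _ _ c23 (by omega) with ⟨rfl, rfl⟩ | ⟨rfl, rfl⟩ | ⟨rfl, rfl⟩ | ⟨rfl, rfl⟩
            · omega
            · omega
            · omega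
            · omega
          · omega
          · omega
          · omega
        · omega
        · omega
        · omega
      · rcases pc2 _ _ c12 (by omega) with ⟨rfl, rfl⟩ | ⟨rfl, rfl⟩ | ⟨rfl, rfl⟩ | ⟨rfl, rfl⟩
        · rcases pc2 _ _ c13 (by omega) with ⟨rfl, rfl⟩ | ⟨rfl, rfl⟩ | ⟨rfl, rfl⟩ | ⟨rfl, rfl⟩
          · rcases pc2 _ _ c23 (by omega) with ⟨rfl, rfl⟩ | ⟨rfl, rfl⟩ | ⟨rfl, rfl⟩ | ⟨rfl, rfl⟩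
            · omega
            · omega
            · omega
            · omega
          · omega
          · omega
          · omega
        · omega
        · omega
        · omega
    · rcases pc1 _ _ c03 (by omega) with ⟨rfl, rfl⟩ | ⟨rfl, rfl⟩
      · rcases pc2 _ _ c12 (by omega) with ⟨rfl, rfl⟩ | ⟨rfl, rfl⟩ | ⟨rfl, rfl⟩ | ⟨rfl, rfl⟩
        · rcases pc2 _ _ c13 (by omega) with ⟨rfl, rfl⟩ | ⟨rfl, rfl⟩ | ⟨rfl, rfl⟩ | ⟨rfl, rfl⟩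
          · rcases pc3 _ _ c23 (by omega) with ⟨rfl, rfl⟩ | ⟨rfl, rfl⟩ | ⟨rfl, rfl⟩ | ⟨rfl, rfl⟩ | ⟨rfl, rfl⟩ | ⟨rfl, rfl⟩
            · omega
            · omega
            · exact ⟨p3201, T.m 1, T.w 3, Or.inr (Or.inl ((show T.m 3 = 2 * T.m 1 ∧ T.m 2 = 2 * T.m 1 ∧ T.m 0 = 2 * T.m 1 ∧ T.m 1 = T.m 1 ∧ T.w 3 = T.w 3 ∧ T.w 2 = 2 * T.w 3 ∧ T.w 0 = 2 * T.w 3 ∧ T.w 1 = 4 * T.w 3 ∧ T.a 3 3 = -2 * T.w 3 ∧ T.a 3 2 = 2 * T.w 3 ∧ T.a 3 0 = 0 ∧ T.a 3 1 = 0 ∧ T.a 2 2 = -4 * T.w 3 ∧ T.a 2 0 = 2 * T.w 3 ∧ T.a 2 1 = 0 ∧ T.a 0 0 = -4 * T.w 3 ∧ T.a 0 1 = 4 * T.w 3 ∧ T.a 1 1 = -8 * T.w 3 from by omega)))⟩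
            · exact ⟨p1023, T.m 1, T.w 0, Or.inr (Or.inr (Or.inr (Or.inl ((show T.m 1 = T.m 1 ∧ T.m 0 = 2 * T.m 1 ∧ T.m 2 = 2 * T.m 1 ∧ T.m 3 = T.m 1 ∧ T.w 1 = 2 * T.w 0 ∧ T.w 0 = T.w 0 ∧ T.w 2 = T.w 0 ∧ T.w 3 = 2 * T.w 0 ∧ T.a 1 1 = -4 * T.w 0 ∧ T.a 1 0 = 2 * T.w 0 ∧ T.a 1 2 = 0 ∧ T.a 1 3 = 0 ∧ T.a 0 0 = -2 * T.w 0 ∧ T.a 0 2 = T.w 0 ∧ T.a 0 3 = 0 ∧ T.a 2 2 = -2 * T.w 0 ∧ T.a 2 3 = 2 * T.w 0 ∧ T.a 3 3 = -4 * T.w 0 from by omega)))))⟩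
            · omega
            · omega
          · rcases pc3 _ _ c23 (by omega) with ⟨rfl, rfl⟩ | ⟨rfl, rfl⟩ | ⟨rfl, rfl⟩ | ⟨rfl, rfl⟩ | ⟨rfl, rfl⟩ | ⟨rfl, rfl⟩
            · omega
            · omega
            · omega
            · omega
            · omega
            · omega
          · omega
          · omega
        · omega
        · omega
        · omega
      · rcases pc2 _ _ c12 (by omega) with ⟨rfl, rfl⟩ | ⟨rfl, rfl⟩ | ⟨rfl, rfl⟩ | ⟨rfl, rfl⟩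
        · rcases pc2 _ _ c13 (by omega) with ⟨rfl, rfl⟩ | ⟨rfl, rfl⟩ | ⟨rfl, rfl⟩ | ⟨rfl, rfl⟩
          · rcases pc3 _ _ c23 (by omega) with ⟨rfl, rfl⟩ | ⟨rfl, rfl⟩ | ⟨rfl, rfl⟩ | ⟨rfl, rfl⟩ | ⟨rfl, rfl⟩ | ⟨rfl, rfl⟩
            · exact ⟨p0231, T.m 2, T.w 0, Or.inr (Or.inr (Or.inr (Or.inr (Or.inl ((show T.m 0 = 2 * T.m 2 ∧ T.m 2 = T.m 2 ∧ T.m 3 = T.m 2 ∧ T.m 1 = T.m 2 ∧ T.w 0 = T.w 0 ∧ T.w 2 = T.w 0 ∧ T.w 3 = T.w 0 ∧ T.w 1 = 2 * T.w 0 ∧ T.a 0 0 = -2 * T.w 0 ∧ T.a 0 2 = T.w 0 ∧ T.a 0 3 = T.w 0 ∧ T.a 0 1 = 2 * T.w 0 ∧ T.a 2 2 = -2 * T.w 0 ∧ T.a 2 3 = 0 ∧ T.a 2 1 = 0 ∧ T.a 3 3 = -2 * T.w 0 ∧ T.a 3 1 = 0 ∧ T.a 1 1 = -4 * T.w 0 from by omega))))))⟩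
            · omega
            · omega
            · omega
            · omega
            · omega
          · omega
          · omega
          · omega
        · omega
        · omega
        · omega
    · obtain ⟨rfl, rfl⟩ := pc0 _ _ c03 (by omega)
      rcases pc2 _ _ c12 (by omega) with ⟨rfl, rfl⟩ | ⟨rfl, rfl⟩ | ⟨rfl, rfl⟩ | ⟨rfl, rfl⟩
      · rcases pc2 _ _ c13 (by omega) with ⟨rfl, rfl⟩ | ⟨rfl, rfl⟩ | ⟨rfl, rfl⟩ | ⟨rfl, rfl⟩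
        · rcases pc2 _ _ c23 (by omega) with ⟨rfl, rfl⟩ | ⟨rfl, rfl⟩ | ⟨rfl, rfl⟩ | ⟨rfl, rfl⟩
          · omega
          · omega
          · omega
          · omega
        · omega
        · omega
        · omega
      · omega
      · omega
      · omega
    · obtain ⟨rfl, rfl⟩ := pc0 _ _ c03 (by omega)
      rcases pc2 _ _ c12 (by omega) with ⟨rfl, rfl⟩ | ⟨rfl, rfl⟩ | ⟨rfl, rfl⟩ | ⟨rfl, rfl⟩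
      · rcases pc2 _ _ c13 (by omega) with ⟨rfl, rfl⟩ | ⟨rfl, rfl⟩ | ⟨rfl, rfl⟩ | ⟨rfl, rfl⟩
        · rcases pc2 _ _ c23 (by omega) with ⟨rfl, rfl⟩ | ⟨rfl, rfl⟩ | ⟨rfl, rfl⟩ | ⟨rfl, rfl⟩
          · omega
          · omega
          · omega
          · omega
        · omega
        · omega
        · omega
      · omega
      · omega
      · omega
  · rcases pc1 _ _ c02 (by omega) with ⟨rfl, rfl⟩ | ⟨rfl, rfl⟩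
    · rcases pc1 _ _ c03 (by omega) with ⟨rfl, rfl⟩ | ⟨rfl, rfl⟩
      · rcases pc1 _ _ c12 (by omega) with ⟨rfl, rfl⟩ | ⟨rfl, rfl⟩
        · rcases pc1 _ _ c13 (by omega) with ⟨rfl, rfl⟩ | ⟨rfl, rfl⟩
          · omega
          · rcases pc3 _ _ c23 (by omega) with ⟨rfl, rfl⟩ | ⟨rfl, rfl⟩ | ⟨rfl, rfl⟩ | ⟨rfl, rfl⟩ | ⟨rfl, rfl⟩ | ⟨rfl, rfl⟩
            · omega
            · omega
            · omega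
            · omega
            · omega
            · omega
        · obtain ⟨rfl, rfl⟩ := pc0 _ _ c13 (by omega)
          rcases pc3 _ _ c23 (by omega) with ⟨rfl, rfl⟩ | ⟨rfl, rfl⟩ | ⟨rfl, rfl⟩ | ⟨rfl, rfl⟩ | ⟨rfl, rfl⟩ | ⟨rfl, rfl⟩
          · omega
          · omega
          · omega
          · omega
          · omega
          · omega
      · rcases pc1 _ _ c12 (by omega) with ⟨rfl, rfl⟩ | ⟨rfl, rfl⟩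
        · rcases pc1 _ _ c13 (by omega) with ⟨rfl, rfl⟩ | ⟨rfl, rfl⟩
          · rcases pc3 _ _ c23 (by omega) with ⟨rfl, rfl⟩ | ⟨rfl, rfl⟩ | ⟨rfl, rfl⟩ | ⟨rfl, rfl⟩ | ⟨rfl, rfl⟩ | ⟨rfl, rfl⟩
            · omega
            · omega
            · omega
            · omega
            · omega
            · omega
          · omega
        · omega
    · obtain ⟨rfl, rfl⟩ := pc0 _ _ c03 (by omega)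
      rcases pc1 _ _ c12 (by omega) with ⟨rfl, rfl⟩ | ⟨rfl, rfl⟩
      · rcases pc1 _ _ c13 (by omega) with ⟨rfl, rfl⟩ | ⟨rfl, rfl⟩
        · rcases pc3 _ _ c23 (by omega) with ⟨rfl, rfl⟩ | ⟨rfl, rfl⟩ | ⟨rfl, rfl⟩ | ⟨rfl, rfl⟩ | ⟨rfl, rfl⟩ | ⟨rfl, rfl⟩
          · omega
          · omega
          · omega
          · omega
          · omega
          · omega
        · omega
      · omega
  · rcases pc1 _ _ c02 (by omega) with ⟨rfl, rfl⟩ | ⟨rfl, rfl⟩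
    · rcases pc1 _ _ c03 (by omega) with ⟨rfl, rfl⟩ | ⟨rfl, rfl⟩
      · rcases pc1 _ _ c12 (by omega) with ⟨rfl, rfl⟩ | ⟨rfl, rfl⟩
        · rcases pc1 _ _ c13 (by omega) with ⟨rfl, rfl⟩ | ⟨rfl, rfl⟩
          · omega
          · rcases pc3 _ _ c23 (by omega) with ⟨rfl, rfl⟩ | ⟨rfl, rfl⟩ | ⟨rfl, rfl⟩ | ⟨rfl, rfl⟩ | ⟨rfl, rfl⟩ | ⟨rfl, rfl⟩
            · omega
            · omega
            · omega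
            · omega
            · omega
            · omega
        · obtain ⟨rfl, rfl⟩ := pc0 _ _ c13 (by omega)
          rcases pc3 _ _ c23 (by omega) with ⟨rfl, rfl⟩ | ⟨rfl, rfl⟩ | ⟨rfl, rfl⟩ | ⟨rfl, rfl⟩ | ⟨rfl, rfl⟩ | ⟨rfl, rfl⟩
          · omega
          · omega
          · omega
          · omega
          · omega
          · omega
      · rcases pc1 _ _ c12 (by omega) with ⟨rfl, rfl⟩ | ⟨rfl, rfl⟩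
        · rcases pc1 _ _ c13 (by omega) with ⟨rfl, rfl⟩ | ⟨rfl, rfl⟩
          · rcases pc3 _ _ c23 (by omega) with ⟨rfl, rfl⟩ | ⟨rfl, rfl⟩ | ⟨rfl, rfl⟩ | ⟨rfl, rfl⟩ | ⟨rfl, rfl⟩ | ⟨rfl, rfl⟩
            · omega
            · omega
            · omega
            · omega
            · omega
            · omega
          · omega
        · omega
    · obtain ⟨rfl, rfl⟩ := pc0 _ _ c03 (by omega)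
      rcases pc1 _ _ c12 (by omega) with ⟨rfl, rfl⟩ | ⟨rfl, rfl⟩
      · rcases pc1 _ _ c13 (by omega) with ⟨rfl, rfl⟩ | ⟨rfl, rfl⟩
        · rcases pc3 _ _ c23 (by omega) with ⟨rfl, rfl⟩ | ⟨rfl, rfl⟩ | ⟨rfl, rfl⟩ | ⟨rfl, rfl⟩ | ⟨rfl, rfl⟩ | ⟨rfl, rfl⟩
          · omega
          · omega
          · omega
          · omega
          · omega
          · omega
        · omega
      · omega
  · obtain ⟨rfl, rfl⟩ := pc0 _ _ c02 (by omega)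
    obtain ⟨rfl, rfl⟩ := pc0 _ _ c03 (by omega)
    obtain ⟨rfl, rfl⟩ := pc0 _ _ c12 (by omega)
    obtain ⟨rfl, rfl⟩ := pc0 _ _ c13 (by omega)
    rcases c23 with ⟨rfl, rfl⟩ | ⟨rfl, rfl⟩ | ⟨rfl, rfl⟩ | ⟨rfl, rfl⟩ | ⟨rfl, rfl⟩ | ⟨rfl, rfl⟩ | ⟨rfl, rfl⟩ | ⟨rfl, rfl⟩ | ⟨rfl, rfl⟩
    · omega
    · omega
    · omega
    · omega
    · omega
    · omega
    · omega
    · omega
    · omega
  · obtain ⟨rfl, rfl⟩ := pc0 _ _ c02 (by omega)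
    obtain ⟨rfl, rfl⟩ := pc0 _ _ c03 (by omega)
    obtain ⟨rfl, rfl⟩ := pc0 _ _ c12 (by omega)
    obtain ⟨rfl, rfl⟩ := pc0 _ _ c13 (by omega)
    rcases c23 with ⟨rfl, rfl⟩ | ⟨rfl, rfl⟩ | ⟨rfl, rfl⟩ | ⟨rfl, rfl⟩ | ⟨rfl, rfl⟩ | ⟨rfl, rfl⟩ | ⟨rfl, rfl⟩ | ⟨rfl, rfl⟩ | ⟨rfl, rfl⟩
    · omega
    · omega
    · omega
    · omega
    · omega
    · omega
    · omega
    · omega
    · omega
  · obtain ⟨rfl, rfl⟩ := pc0 _ _ c02 (by omega)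
    obtain ⟨rfl, rfl⟩ := pc0 _ _ c03 (by omega)
    obtain ⟨rfl, rfl⟩ := pc0 _ _ c12 (by omega)
    obtain ⟨rfl, rfl⟩ := pc0 _ _ c13 (by omega)
    rcases c23 with ⟨rfl, rfl⟩ | ⟨rfl, rfl⟩ | ⟨rfl, rfl⟩ | ⟨rfl, rfl⟩ | ⟨rfl, rfl⟩ | ⟨rfl, rfl⟩ | ⟨rfl, rfl⟩ | ⟨rfl, rfl⟩ | ⟨rfl, rfl⟩
    · omega
    · omega
    · omega
    · omega
    · omega
    · omega
    · omega
    · omega
    · omega

/-- Genus one classification: case n = 4: let T be a minimal numerical type of genus 1 on 4 indices.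
Then all g_i = 0 and, for some permutation σ of the indices and some integers m, w, the
multiplicities, weights and intersection matrix (m_{σ(i)}, w_{σ(i)}, a_{σ(i)σ(j)}) are those of one
of the following 6 types: [four cycle] m = (m, m, m, m), w = (w, w, w, w), a = (-2 * w w 0 w / w -2
* w w 0 / 0 w -2 * w w / w 0 w -2 * w); [up equal up] m = (2 * m, 2 * m, 2 * m, m), w = (w, 2 * w, 2
* w, 4 * w), a = (-2 * w 2 * w 0 0 / 2 * w -4 * w 2 * w 0 / 0 2 * w -4 * w 4 * w / 0 0 4 * w -8 *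
w); [up equal down] m = (m, m, m, m), w = (w, 2 * w, 2 * w, w), a = (-2 * w 2 * w 0 0 / 2 * w -4 * w
2 * w 0 / 0 2 * w -4 * w 2 * w / 0 0 2 * w -2 * w); [down equal up] m = (m, 2 * m, 2 * m, m), w = (2
* w, w, w, 2 * w), a = (-4 * w 2 * w 0 0 / 2 * w -2 * w w 0 / 0 w -2 * w 2 * w / 0 0 2 * w -4 * w);
[triple with up] m = (2 * m, m, m, m), w = (w, w, w, 2 * w), a = (-2 * w w w 2 * w / w -2 * w 0 0 /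
w 0 -2 * w 0 / 2 * w 0 0 -4 * w); [triple with down] m = (2 * m, m, m, 2 * m), w = (2 * w, 2 * w, 2
* w, w), a = (-4 * w 2 * w 2 * w 2 * w / 2 * w -4 * w 0 0 / 2 * w 0 -4 * w 0 / 2 * w 0 0 -2 * w).
Only the classification direction is stated. -/
theorem result (T : Models.NumericalType 4) (hmin : T.IsMinimal) (hg : T.genus = 1) :
    (∀ i, T.g i = 0) ∧ ∃ (σ : Equiv.Perm (Fin 4)) (m w : ℤ),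
      ((T.m (σ 0) = m ∧ T.m (σ 1) = m ∧ T.m (σ 2) = m ∧ T.m (σ 3) = m ∧ T.w (σ 0) = w ∧ T.w (σ 1) = w ∧ T.w (σ 2) = w ∧ T.w (σ 3) = w ∧ T.a (σ 0) (σ 0) = -2 * w ∧ T.a (σ 0) (σ 1) = w ∧ T.a (σ 0) (σ 2) = 0 ∧ T.a (σ 0) (σ 3) = w ∧ T.a (σ 1) (σ 1) = -2 * w ∧ T.a (σ 1) (σ 2) = w ∧ T.a (σ 1) (σ 3) = 0 ∧ T.a (σ 2) (σ 2) = -2 * w ∧ T.a (σ 2) (σ 3) = w ∧ T.a (σ 3) (σ 3) = -2 * w) ∨
      (T.m (σ 0) = 2 * m ∧ T.m (σ 1) = 2 * m ∧ T.m (σ 2) = 2 * m ∧ T.m (σ 3) = m ∧ T.w (σ 0) = w ∧ T.w (σ 1) = 2 * w ∧ T.w (σ 2) = 2 * w ∧ T.w (σ 3) = 4 * w ∧ T.a (σ 0) (σ 0) = -2 * w ∧ T.a (σ 0) (σ 1) = 2 * w ∧ T.a (σ 0) (σ 2) = 0 ∧ T.a (σ 0) (σ 3) = 0 ∧ T.a (σ 1) (σ 1) = -4 * w ∧ T.a (σ 1) (σ 2) = 2 * w ∧ T.a (σ 1) (σ 3) = 0 ∧ T.a (σ 2) (σ 2) = -4 * w ∧ T.a (σ 2) (σ 3) = 4 * w ∧ T.a (σ 3) (σ 3) = -8 * w)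 ∨
      (T.m (σ 0) = m ∧ T.m (σ 1) = m ∧ T.m (σ 2) = m ∧ T.m (σ 3) = m ∧ T.w (σ 0) = w ∧ T.w (σ 1) = 2 * w ∧ T.w (σ 2) = 2 * w ∧ T.w (σ 3) = w ∧ T.a (σ 0) (σ 0) = -2 * w ∧ T.a (σ 0) (σ 1) = 2 * w ∧ T.a (σ 0) (σ 2) = 0 ∧ T.a (σ 0) (σ 3) = 0 ∧ T.a (σ 1) (σ 1) = -4 * w ∧ T.a (σ 1) (σ 2) = 2 * w ∧ T.a (σ 1) (σ 3) = 0 ∧ T.a (σ 2) (σ 2) = -4 * w ∧ T.a (σ 2) (σ 3) = 2 * w ∧ T.a (σ 3) (σ 3) = -2 * w) ∨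
      (T.m (σ 0) = m ∧ T.m (σ 1) = 2 * m ∧ T.m (σ 2) = 2 * m ∧ T.m (σ 3) = m ∧ T.w (σ 0) = 2 * w ∧ T.w (σ 1) = w ∧ T.w (σ 2) = w ∧ T.w (σ 3) = 2 * w ∧ T.a (σ 0) (σ 0) = -4 * w ∧ T.a (σ 0) (σ 1) = 2 * w ∧ T.a (σ 0) (σ 2) = 0 ∧ T.a (σ 0) (σ 3) = 0 ∧ T.a (σ 1) (σ 1) = -2 * w ∧ T.a (σ 1) (σ 2) = w ∧ T.a (σ 1) (σ 3) = 0 ∧ T.a (σ 2) (σ 2) = -2 * w ∧ T.a (σ 2) (σ 3) = 2 * w ∧ T.a (σ 3) (σ 3) = -4 * w) ∨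
      (T.m (σ 0) = 2 * m ∧ T.m (σ 1) = m ∧ T.m (σ 2) = m ∧ T.m (σ 3) = m ∧ T.w (σ 0) = w ∧ T.w (σ 1) = w ∧ T.w (σ 2) = w ∧ T.w (σ 3) = 2 * w ∧ T.a (σ 0) (σ 0) = -2 * w ∧ T.a (σ 0) (σ 1) = w ∧ T.a (σ 0) (σ 2) = w ∧ T.a (σ 0) (σ 3) = 2 * w ∧ T.a (σ 1) (σ 1) = -2 * w ∧ T.a (σ 1) (σ 2) = 0 ∧ T.a (σ 1) (σ 3) = 0 ∧ T.a (σ 2) (σ 2) = -2 * w ∧ T.a (σ 2) (σ 3) = 0 ∧ T.a (σ 3) (σ 3) = -4 * w) ∨
      (T.m (σ 0) = 2 * m ∧ T.m (σ 1) = m ∧ T.m (σ 2) = m ∧ T.m (σ 3) = 2 * m ∧ T.w (σ 0) = 2 * w ∧ T.w (σ 1) = 2 * w ∧ T.w (σ 2) = 2 * w ∧ T.w (σ 3) = w ∧ T.a (σ 0) (σ 0) = -4 * w ∧ T.a (σ 0) (σ 1) = 2 * w ∧ T.a (σ 0) (σ 2) = 2 * w ∧ T.a (σ 0) (σ 3) = 2 * w ∧ T.a (σ 1) (σ 1) = -4 * w ∧ T.a (σ 1) (σ 2) = 0 ∧ T.a (σ 1) (σ 3) = 0 ∧ T.a (σ 2) (σ 2) = -4 * w ∧ T.a (σ 2) (σ 3) = 0 ∧ T.a (σ 3) (σ 3) =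 -2 * w)) := by
  exact main4 T hmin hg

end Groth.Agent.S7364
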