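import Groth.Statements.S7365
import Mathlib
import Groth.Agent.S7362
import Groth.Agent.Lib.Helper20.G1n5Part0
import Groth.Agent.Lib.Helper20.G1n5Part1
import Groth.Agent.Lib.Helper20.G1n5Part2
import Groth.Agent.Lib.Helper20.G1n5Part3
import Groth.Agent.Lib.Helper20.G1n5Part4
import Groth.Agent.Lib.Helper20.G1n5Part5
import Groth.Agent.Lib.Helper20.G1n5Part6
import Groth.Agent.Lib.Helper20.G1n5Part7
import Groth.Agent.Lib.Helper20.G1n5Part8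
import Groth.Agent.Lib.Helper20.G1n5Part9
import Groth.Agent.Lib.Helper20.G1n5Part10
import Groth.Agent.Lib.Helper20.G1n5Part11
import Groth.Agent.Lib.Helper20.G1n5Part12
import Groth.Agent.Lib.Helper20.G1n5Part13
import Groth.Agent.Lib.Helper20.G1n5Part14
import Groth.Agent.Lib.Helper20.G1n5Part15
import Groth.Agent.Lib.Helper20.G1n5Part16

set_option autoImplicit false
open Finset
open Models Models.NumericalType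

namespace Groth.Agent.S7365

open Groth.Agent.Lib.helper20.G1n5 in
set_option maxHeartbeats 0 in
theorem main5 (T : Models.NumericalType 5) (hmin : T.IsMinimal) (hg : T.genus = 1) :
    (∀ i, T.g i = 0) ∧ ∃ (σ : Equiv.Perm (Fin 5)) (m w : ℤ),
      ((T.m (σ 0) = m ∧ T.m (σ 1) = m ∧ T.m (σ 2) = m ∧ T.m (σ 3) = m ∧ T.m (σ 4) = m ∧ T.w (σ 0) = w ∧ T.w (σ 1) = w ∧ T.w (σ 2) = w ∧ T.w (σ 3) = w ∧ T.w (σ 4) = w ∧ T.a (σ 0) (σ 0) = -2 * w ∧ T.a (σ 0) (σ 1) = w ∧ T.a (σ 0) (σ 2) = 0 ∧ T.a (σ 0) (σ 3) = 0 ∧ T.a (σ 0) (σ 4) = w ∧ T.a (σ 1) (σ 1) = -2 * w ∧ T.a (σ 1) (σ 2) = w ∧ T.a (σ 1) (σ 3) = 0 ∧ T.a (σ 1) (σ 4) = 0 ∧ T.a (σ 2) (σ 2) = -2 * w ∧ T.a (σ 2) (σ 3) = w ∧ T.a (σ 2) (σ 4) = 0 ∧ T.a (σ 3) (σ 3) = -2 * w ∧ T.a (σ 3) (σ 4) = w ∧ T.a (σ 4) (σ 4) = -2 * w) ∨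
      (T.m (σ 0) = m ∧ T.m (σ 1) = 2 * m ∧ T.m (σ 2) = 3 * m ∧ T.m (σ 3) = 2 * m ∧ T.m (σ 4) = m ∧ T.w (σ 0) = w ∧ T.w (σ 1) = w ∧ T.w (σ 2) = w ∧ T.w (σ 3) = 2 * w ∧ T.w (σ 4) = 2 * w ∧ T.a (σ 0) (σ 0) = -2 * w ∧ T.a (σ 0) (σ 1) = w ∧ T.a (σ 0) (σ 2) = 0 ∧ T.a (σ 0) (σ 3) = 0 ∧ T.a (σ 0) (σ 4) = 0 ∧ T.a (σ 1) (σ 1) = -2 * w ∧ T.a (σ 1) (σ 2) = w ∧ T.a (σ 1) (σ 3) = 0 ∧ T.a (σ 1) (σ 4) = 0 ∧ T.a (σ 2) (σ 2) = -2 * w ∧ T.a (σ 2) (σ 3) = 2 * w ∧ T.a (σ 2) (σ 4) = 0 ∧ T.a (σ 3) (σ 3) = -4 * w ∧ T.a (σ 3) (σ 4) = 2 * w ∧ T.a (σ 4) (σ 4) = -4 * w) ∨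
      (T.m (σ 0) = m ∧ T.m (σ 1) = 2 * m ∧ T.m (σ 2) = 3 * m ∧ T.m (σ 3) = 4 * m ∧ T.m (σ 4) = 2 * m ∧ T.w (σ 0) = 2 * w ∧ T.w (σ 1) = 2 * w ∧ T.w (σ 2) = 2 * w ∧ T.w (σ 3) = w ∧ T.w (σ 4) = w ∧ T.a (σ 0) (σ 0) = -4 * w ∧ T.a (σ 0) (σ 1) = 2 * w ∧ T.a (σ 0) (σ 2) = 0 ∧ T.a (σ 0) (σ 3) = 0 ∧ T.a (σ 0) (σ 4) = 0 ∧ T.a (σ 1) (σ 1) = -4 * w ∧ T.a (σ 1) (σ 2) = 2 * w ∧ T.a (σ 1) (σ 3) = 0 ∧ T.a (σ 1) (σ 4) = 0 ∧ T.a (σ 2) (σ 2) = -4 * w ∧ T.a (σ 2) (σ 3) = 2 * w ∧ T.a (σ 2) (σ 4) = 0 ∧ T.a (σ 3) (σ 3) = -2 * w ∧ T.a (σ 3) (σ 4) = w ∧ T.a (σ 4) (σ 4) = -2 * w) ∨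
      (T.m (σ 0) = 2 * m ∧ T.m (σ 1) = 2 * m ∧ T.m (σ 2) = 2 * m ∧ T.m (σ 3) = 2 * m ∧ T.m (σ 4) = m ∧ T.w (σ 0) = w ∧ T.w (σ 1) = 2 * w ∧ T.w (σ 2) = 2 * w ∧ T.w (σ 3) = 2 * w ∧ T.w (σ 4) = 4 * w ∧ T.a (σ 0) (σ 0) = -2 * w ∧ T.a (σ 0) (σ 1) = 2 * w ∧ T.a (σ 0) (σ 2) = 0 ∧ T.a (σ 0) (σ 3) = 0 ∧ T.a (σ 0) (σ 4) = 0 ∧ T.a (σ 1) (σ 1) = -4 * w ∧ T.a (σ 1) (σ 2) = 2 * w ∧ T.a (σ 1) (σ 3) = 0 ∧ T.a (σ 1) (σ 4) = 0 ∧ T.a (σ 2) (σ 2) = -4 * w ∧ T.a (σ 2) (σ 3) = 2 * w ∧ T.a (σ 2) (σ 4) = 0 ∧ T.a (σ 3) (σ 3) = -4 * w ∧ T.a (σ 3) (σ 4) = 4 * w ∧ T.a (σ 4) (σ 4) = -8 * w) ∨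
      (T.m (σ 0) = m ∧ T.m (σ 1) = m ∧ T.m (σ 2) = m ∧ T.m (σ 3) = m ∧ T.m (σ 4) = m ∧ T.w (σ 0) = w ∧ T.w (σ 1) = 2 * w ∧ T.w (σ 2) = 2 * w ∧ T.w (σ 3) = 2 * w ∧ T.w (σ 4) = w ∧ T.a (σ 0) (σ 0) = -2 * w ∧ T.a (σ 0) (σ 1) = 2 * w ∧ T.a (σ 0) (σ 2) = 0 ∧ T.a (σ 0) (σ 3) = 0 ∧ T.a (σ 0) (σ 4) = 0 ∧ T.a (σ 1) (σ 1) = -4 * w ∧ T.a (σ 1) (σ 2) = 2 * w ∧ T.a (σ 1) (σ 3) = 0 ∧ T.a (σ 1) (σ 4) = 0 ∧ T.a (σ 2) (σ 2) = -4 * w ∧ T.a (σ 2) (σ 3) = 2 * w ∧ T.a (σ 2) (σ 4) = 0 ∧ T.a (σ 3) (σ 3) = -4 * w ∧ T.a (σ 3) (σ 4) = 2 * w ∧ T.a (σ 4) (σ 4) = -2 * w) ∨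
      (T.m (σ 0) = m ∧ T.m (σ 1) = 2 * m ∧ T.m (σ 2) = 2 * m ∧ T.m (σ 3) = 2 * m ∧ T.m (σ 4) = m ∧ T.w (σ 0) = 2 * w ∧ T.w (σ 1) = w ∧ T.w (σ 2) = w ∧ T.w (σ 3) = w ∧ T.w (σ 4) = 2 * w ∧ T.a (σ 0) (σ 0) = -4 * w ∧ T.a (σ 0) (σ 1) = 2 * w ∧ T.a (σ 0) (σ 2) = 0 ∧ T.a (σ 0) (σ 3) = 0 ∧ T.a (σ 0) (σ 4) = 0 ∧ T.a (σ 1) (σ 1) = -2 * w ∧ T.a (σ 1) (σ 2) = w ∧ T.a (σ 1) (σ 3) = 0 ∧ T.a (σ 1) (σ 4) = 0 ∧ T.a (σ 2) (σ 2) = -2 * w ∧ T.a (σ 2) (σ 3) = w ∧ T.a (σ 2) (σ 4) = 0 ∧ T.a (σ 3) (σ 3) = -2 * w ∧ T.a (σ 3) (σ 4) = 2 * w ∧ T.a (σ 4) (σ 4) = -4 * w) ∨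
      (T.m (σ 0) = 2 * m ∧ T.m (σ 1) = m ∧ T.m (σ 2) = m ∧ T.m (σ 3) = m ∧ T.m (σ 4) = m ∧ T.w (σ 0) = w ∧ T.w (σ 1) = w ∧ T.w (σ 2) = w ∧ T.w (σ 3) = w ∧ T.w (σ 4) = w ∧ T.a (σ 0) (σ 0) = -2 * w ∧ T.a (σ 0) (σ 1) = w ∧ T.a (σ 0) (σ 2) = w ∧ T.a (σ 0) (σ 3) = w ∧ T.a (σ 0) (σ 4) = w ∧ T.a (σ 1) (σ 1) = -2 * w ∧ T.a (σ 1) (σ 2) = 0 ∧ T.a (σ 1) (σ 3) = 0 ∧ T.a (σ 1) (σ 4) = 0 ∧ T.a (σ 2) (σ 2) = -2 * w ∧ T.a (σ 2) (σ 3) = 0 ∧ T.a (σ 2) (σ 4) = 0 ∧ T.a (σ 3) (σ 3) = -2 * w ∧ T.a (σ 3) (σ 4) = 0 ∧ T.a (σ 4) (σ 4) = -2 * w) ∨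
      (T.m (σ 0) = m ∧ T.m (σ 1) = 2 * m ∧ T.m (σ 2) = 2 * m ∧ T.m (σ 3) = m ∧ T.m (σ 4) = m ∧ T.w (σ 0) = 2 * w ∧ T.w (σ 1) = w ∧ T.w (σ 2) = w ∧ T.w (σ 3) = w ∧ T.w (σ 4) = w ∧ T.a (σ 0) (σ 0) = -4 * w ∧ T.a (σ 0) (σ 1) = 2 * w ∧ T.a (σ 0) (σ 2) = 0 ∧ T.a (σ 0) (σ 3) = 0 ∧ T.a (σ 0) (σ 4) = 0 ∧ T.a (σ 1) (σ 1) = -2 * w ∧ T.a (σ 1) (σ 2) = w ∧ T.a (σ 1) (σ 3) = 0 ∧ T.a (σ 1) (σ 4) = 0 ∧ T.a (σ 2) (σ 2) = -2 * w ∧ T.a (σ 2) (σ 3) = w ∧ T.a (σ 2) (σ 4) = w ∧ T.a (σ 3) (σ 3) = -2 * w ∧ T.a (σ 3) (σ 4) = 0 ∧ T.a (σ 4) (σ 4) = -2 * w) ∨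
      (T.m (σ 0) = 2 * m ∧ T.m (σ 1) = 2 * m ∧ T.m (σ 2) = 2 * m ∧ T.m (σ 3) = m ∧ T.m (σ 4) = m ∧ T.w (σ 0) = w ∧ T.w (σ 1) = 2 * w ∧ T.w (σ 2) = 2 * w ∧ T.w (σ 3) = 2 * w ∧ T.w (σ 4) = 2 * w ∧ T.a (σ 0) (σ 0) = -2 * w ∧ T.a (σ 0) (σ 1) = 2 * w ∧ T.a (σ 0) (σ 2) = 0 ∧ T.a (σ 0) (σ 3) = 0 ∧ T.a (σ 0) (σ 4) = 0 ∧ T.a (σ 1) (σ 1) = -4 * w ∧ T.a (σ 1) (σ 2) = 2 * w ∧ T.a (σ 1) (σ 3) = 0 ∧ T.a (σ 1) (σ 4) = 0 ∧ T.a (σ 2) (σ 2) = -4 * w ∧ T.a (σ 2) (σ 3) = 2 * w ∧ T.a (σ 2) (σ 4) = 2 * w ∧ T.a (σ 3) (σ 3) = -4 * w ∧ T.a (σ 3) (σ 4) = 0 ∧ T.a (σ 4) (σ 4) = -4 * w)) := by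
  have hall := fun i => Groth.Agent.S7362.all_minusTwo T (by norm_num) hmin hg i
  refine ⟨fun i => (hall i).1, ?_⟩
  obtain ⟨hg0, ha00⟩ := hall 0
  obtain ⟨hg1, ha11⟩ := hall 1
  obtain ⟨hg2, ha22⟩ := hall 2
  obtain ⟨hg3, ha33⟩ := hall 3
  obtain ⟨hg4, ha44⟩ := hall 4
  have hs : ∀ i j, T.a i j = T.a j i := fun i j => congrFun (congrFun T.symm j) i
  have hm0 := T.m_pos 0
  have hm1 := T.m_pos 1
  have hm2 := T.m_pos 2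
  have hm3 := T.m_pos 3
  have hm4 := T.m_pos 4
  have hw0 := T.w_pos 0
  have hw1 := T.w_pos 1
  have hw2 := T.w_pos 2
  have hw3 := T.w_pos 3
  have hw4 := T.w_pos 4
  have hrow : ∀ i, T.a i 0 * T.m 0 + T.a i 1 * T.m 1 + T.a i 2 * T.m 2 + T.a i 3 * T.m 3 + T.a i 4 * T.m 4 = 0 := by
    intro i
    have := congrFun T.mulVec_m i
    simpa [Matrix.mulVec, dotProduct, Fin.sum_univ_five] using this
  obtain ⟨α01, h01⟩ := T.w_dvd 0 1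
  obtain ⟨α02, h02⟩ := T.w_dvd 0 2
  obtain ⟨α03, h03⟩ := T.w_dvd 0 3
  obtain ⟨α04, h04⟩ := T.w_dvd 0 4
  obtain ⟨α10, h10⟩ := T.w_dvd 1 0
  obtain ⟨α12, h12⟩ := T.w_dvd 1 2
  obtain ⟨α13, h13⟩ := T.w_dvd 1 3
  obtain ⟨α14, h14⟩ := T.w_dvd 1 4
  obtain ⟨α20, h20⟩ := T.w_dvd 2 0
  obtain ⟨α21, h21⟩ := T.w_dvd 2 1
  obtain ⟨α23, h23⟩ := T.w_dvd 2 3
  obtain ⟨α24, h24⟩ := T.w_dvd 2 4
  obtain ⟨α30, h30⟩ := T.w_dvd 3 0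
  obtain ⟨α31, h31⟩ := T.w_dvd 3 1
  obtain ⟨α32, h32⟩ := T.w_dvd 3 2
  obtain ⟨α34, h34⟩ := T.w_dvd 3 4
  obtain ⟨α40, h40⟩ := T.w_dvd 4 0
  obtain ⟨α41, h41⟩ := T.w_dvd 4 1
  obtain ⟨α42, h42⟩ := T.w_dvd 4 2
  obtain ⟨α43, h43⟩ := T.w_dvd 4 3
  have nn : ∀ (i j : Fin 5) (α : ℤ), i ≠ j → T.a i j = T.w i * α → 0 ≤ α := by
    intro i j α hij h
    have h1 := T.offDiag_nonneg i j hij
    rw [h] at h1
    by_contra hneg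
    have : T.w i * α < 0 := mul_neg_of_pos_of_neg (T.w_pos i) (not_le.1 hneg)
    omega
  have n01 := nn 0 1 α01 (by decide) h01
  have n02 := nn 0 2 α02 (by decide) h02
  have n03 := nn 0 3 α03 (by decide) h03
  have n04 := nn 0 4 α04 (by decide) h04
  have n10 := nn 1 0 α10 (by decide) h10
  have n12 := nn 1 2 α12 (by decide) h12
  have n13 := nn 1 3 α13 (by decide) h13
  have n14 := nn 1 4 α14 (by decide) h14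
  have n20 := nn 2 0 α20 (by decide) h20
  have n21 := nn 2 1 α21 (by decide) h21
  have n23 := nn 2 3 α23 (by decide) h23
  have n24 := nn 2 4 α24 (by decide) h24
  have n30 := nn 3 0 α30 (by decide) h30
  have n31 := nn 3 1 α31 (by decide) h31
  have n32 := nn 3 2 α32 (by decide) h32
  have n34 := nn 3 4 α34 (by decide) h34
  have n40 := nn 4 0 α40 (by decide) h40
  have n41 := nn 4 1 α41 (by decide) h41
  have n42 := nn 4 2 α42 (by decide) h42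
  have n43 := nn 4 3 α43 (by decide) h43
  have e0 : α01 * T.m 1 + α02 * T.m 2 + α03 * T.m 3 + α04 * T.m 4 = 2 * T.m 0 := by
    have h := hrow 0
    rw [ha00, h01, h02, h03, h04] at h
    have : T.w 0 * (α01 * T.m 1 + α02 * T.m 2 + α03 * T.m 3 + α04 * T.m 4 - 2 * T.m 0) = 0 := by linarith
    rcases mul_eq_zero.1 this with h' | h'
    · exact absurd h' hw0.ne'
    · linarith
  have e1 : α10 * T.m 0 + α12 * T.m 2 + α13 * T.m 3 + α14 * T.m 4 = 2 * T.m 1 := by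
    have h := hrow 1
    rw [ha11, h10, h12, h13, h14] at h
    have : T.w 1 * (α10 * T.m 0 + α12 * T.m 2 + α13 * T.m 3 + α14 * T.m 4 - 2 * T.m 1) = 0 := by linarith
    rcases mul_eq_zero.1 this with h' | h'
    · exact absurd h' hw1.ne'
    · linarith
  have e2 : α20 * T.m 0 + α21 * T.m 1 + α23 * T.m 3 + α24 * T.m 4 = 2 * T.m 2 := by
    have h := hrow 2
    rw [ha22, h20, h21, h23, h24] at h
    have : T.w 2 * (α20 * T.m 0 + α21 * T.m 1 + α23 * T.m 3 + α24 * T.m 4 - 2 * T.m 2) = 0 := by linarith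
    rcases mul_eq_zero.1 this with h' | h'
    · exact absurd h' hw2.ne'
    · linarith
  have e3 : α30 * T.m 0 + α31 * T.m 1 + α32 * T.m 2 + α34 * T.m 4 = 2 * T.m 3 := by
    have h := hrow 3
    rw [ha33, h30, h31, h32, h34] at h
    have : T.w 3 * (α30 * T.m 0 + α31 * T.m 1 + α32 * T.m 2 + α34 * T.m 4 - 2 * T.m 3) = 0 := by linarith
    rcases mul_eq_zero.1 this with h' | h'
    · exact absurd h' hw3.ne'
    · linarith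
  have e4 : α40 * T.m 0 + α41 * T.m 1 + α42 * T.m 2 + α43 * T.m 3 = 2 * T.m 4 := by
    have h := hrow 4
    rw [ha44, h40, h41, h42, h43] at h
    have : T.w 4 * (α40 * T.m 0 + α41 * T.m 1 + α42 * T.m 2 + α43 * T.m 3 - 2 * T.m 4) = 0 := by linarith
    rcases mul_eq_zero.1 this with h' | h'
    · exact absurd h' hw4.ne'
    · linarith
  have s01 : T.w 0 * α01 = T.w 1 * α10 := by rw [← h01, ← h10, hs 0 1]
  have s02 : T.w 0 * α02 = T.w 2 * α20 := by rw [← h02, ← h20, hs 0 2]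
  have s03 : T.w 0 * α03 = T.w 3 * α30 := by rw [← h03, ← h30, hs 0 3]
  have s04 : T.w 0 * α04 = T.w 4 * α40 := by rw [← h04, ← h40, hs 0 4]
  have s12 : T.w 1 * α12 = T.w 2 * α21 := by rw [← h12, ← h21, hs 1 2]
  have s13 : T.w 1 * α13 = T.w 3 * α31 := by rw [← h13, ← h31, hs 1 3]
  have s14 : T.w 1 * α14 = T.w 4 * α41 := by rw [← h14, ← h41, hs 1 4]
  have s23 : T.w 2 * α23 = T.w 3 * α32 := by rw [← h23, ← h32, hs 2 3]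
  have s24 : T.w 2 * α24 = T.w 4 * α42 := by rw [← h24, ← h42, hs 2 4]
  have s34 : T.w 3 * α34 = T.w 4 * α43 := by rw [← h34, ← h43, hs 3 4]
  have r01 : 0 ≤ α01 * T.m 1 := mul_nonneg n01 hm1.le
  have r02 : 0 ≤ α02 * T.m 2 := mul_nonneg n02 hm2.le
  have r03 : 0 ≤ α03 * T.m 3 := mul_nonneg n03 hm3.le
  have r04 : 0 ≤ α04 * T.m 4 := mul_nonneg n04 hm4.le
  have r10 : 0 ≤ α10 * T.m 0 := mul_nonneg n10 hm0.le
  have r12 : 0 ≤ α12 * T.m 2 := mul_nonneg n12 hm2.le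
  have r13 : 0 ≤ α13 * T.m 3 := mul_nonneg n13 hm3.le
  have r14 : 0 ≤ α14 * T.m 4 := mul_nonneg n14 hm4.le
  have r20 : 0 ≤ α20 * T.m 0 := mul_nonneg n20 hm0.le
  have r21 : 0 ≤ α21 * T.m 1 := mul_nonneg n21 hm1.le
  have r23 : 0 ≤ α23 * T.m 3 := mul_nonneg n23 hm3.le
  have r24 : 0 ≤ α24 * T.m 4 := mul_nonneg n24 hm4.le
  have r30 : 0 ≤ α30 * T.m 0 := mul_nonneg n30 hm0.le
  have r31 : 0 ≤ α31 * T.m 1 := mul_nonneg n31 hm1.le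
  have r32 : 0 ≤ α32 * T.m 2 := mul_nonneg n32 hm2.le
  have r34 : 0 ≤ α34 * T.m 4 := mul_nonneg n34 hm4.le
  have r40 : 0 ≤ α40 * T.m 0 := mul_nonneg n40 hm0.le
  have r41 : 0 ≤ α41 * T.m 1 := mul_nonneg n41 hm1.le
  have r42 : 0 ≤ α42 * T.m 2 := mul_nonneg n42 hm2.le
  have r43 : 0 ≤ α43 * T.m 3 := mul_nonneg n43 hm3.le
  have q01 : α01 * T.m 1 ≤ 2 * T.m 0 := by omega
  have q02 : α02 * T.m 2 ≤ 2 * T.m 0 := by omega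
  have q03 : α03 * T.m 3 ≤ 2 * T.m 0 := by omega
  have q04 : α04 * T.m 4 ≤ 2 * T.m 0 := by omega
  have q10 : α10 * T.m 0 ≤ 2 * T.m 1 := by omega
  have q12 : α12 * T.m 2 ≤ 2 * T.m 1 := by omega
  have q13 : α13 * T.m 3 ≤ 2 * T.m 1 := by omega
  have q14 : α14 * T.m 4 ≤ 2 * T.m 1 := by omega
  have q20 : α20 * T.m 0 ≤ 2 * T.m 2 := by omega
  have q21 : α21 * T.m 1 ≤ 2 * T.m 2 := by omega
  have q23 : α23 * T.m 3 ≤ 2 * T.m 2 := by omega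
  have q24 : α24 * T.m 4 ≤ 2 * T.m 2 := by omega
  have q30 : α30 * T.m 0 ≤ 2 * T.m 3 := by omega
  have q31 : α31 * T.m 1 ≤ 2 * T.m 3 := by omega
  have q32 : α32 * T.m 2 ≤ 2 * T.m 3 := by omega
  have q34 : α34 * T.m 4 ≤ 2 * T.m 3 := by omega
  have q40 : α40 * T.m 0 ≤ 2 * T.m 4 := by omega
  have q41 : α41 * T.m 1 ≤ 2 * T.m 4 := by omega
  have q42 : α42 * T.m 2 ≤ 2 * T.m 4 := by omega
  have q43 : α43 * T.m 3 ≤ 2 * T.m 4 := by omega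
  have b01 : α01 * α10 ≤ 4 := bnd α01 α10 (T.m 0) (T.m 1) hm0 hm1 n01 n10 q01 q10
  have b02 : α02 * α20 ≤ 4 := bnd α02 α20 (T.m 0) (T.m 2) hm0 hm2 n02 n20 q02 q20
  have b03 : α03 * α30 ≤ 4 := bnd α03 α30 (T.m 0) (T.m 3) hm0 hm3 n03 n30 q03 q30
  have b04 : α04 * α40 ≤ 4 := bnd α04 α40 (T.m 0) (T.m 4) hm0 hm4 n04 n40 q04 q40
  have b12 : α12 * α21 ≤ 4 := bnd α12 α21 (T.m 1) (T.m 2) hm1 hm2 n12 n21 q12 q21
  have b13 : α13 * α31 ≤ 4 := bnd α13 α31 (T.m 1) (T.m 3) hm1 hm3 n13 n31 q13 q31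
  have b14 : α14 * α41 ≤ 4 := bnd α14 α41 (T.m 1) (T.m 4) hm1 hm4 n14 n41 q14 q41
  have b23 : α23 * α32 ≤ 4 := bnd α23 α32 (T.m 2) (T.m 3) hm2 hm3 n23 n32 q23 q32
  have b24 : α24 * α42 ≤ 4 := bnd α24 α42 (T.m 2) (T.m 4) hm2 hm4 n24 n42 q24 q42
  have b34 : α34 * α43 ≤ 4 := bnd α34 α43 (T.m 3) (T.m 4) hm3 hm4 n34 n43 q34 q43
  have c01 := Hide.intro (pair_cases α01 α10 (T.w 0) (T.w 1) hw0 hw1 n01 n10 s01 b01)
  have c02 := Hide.intro (pair_cases α02 α20 (T.w 0) (T.w 2) hw0 hw2 n02 n20 s02 b02)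
  have c03 := Hide.intro (pair_cases α03 α30 (T.w 0) (T.w 3) hw0 hw3 n03 n30 s03 b03)
  have c04 := Hide.intro (pair_cases α04 α40 (T.w 0) (T.w 4) hw0 hw4 n04 n40 s04 b04)
  have c12 := Hide.intro (pair_cases α12 α21 (T.w 1) (T.w 2) hw1 hw2 n12 n21 s12 b12)
  have c13 := Hide.intro (pair_cases α13 α31 (T.w 1) (T.w 3) hw1 hw3 n13 n31 s13 b13)
  have c14 := Hide.intro (pair_cases α14 α41 (T.w 1) (T.w 4) hw1 hw4 n14 n41 s14 b14)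
  have c23 := Hide.intro (pair_cases α23 α32 (T.w 2) (T.w 3) hw2 hw3 n23 n32 s23 b23)
  have c24 := Hide.intro (pair_cases α24 α42 (T.w 2) (T.w 4) hw2 hw4 n24 n42 s24 b24)
  have c34 := Hide.intro (pair_cases α34 α43 (T.w 3) (T.w 4) hw3 hw4 n34 n43 s34 b34)
  have p01 : 0 ≤ α01 * α10 := mul_nonneg n01 n10
  have p02 : 0 ≤ α02 * α20 := mul_nonneg n02 n20
  have p03 : 0 ≤ α03 * α30 := mul_nonneg n03 n30
  have p04 : 0 ≤ α04 * α40 := mul_nonneg n04 n40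
  have p12 : 0 ≤ α12 * α21 := mul_nonneg n12 n21
  have p13 : 0 ≤ α13 * α31 := mul_nonneg n13 n31
  have p14 : 0 ≤ α14 * α41 := mul_nonneg n14 n41
  have p23 : 0 ≤ α23 * α32 := mul_nonneg n23 n32
  have p24 : 0 ≤ α24 * α42 := mul_nonneg n24 n42
  have p34 : 0 ≤ α34 * α43 := mul_nonneg n34 n43
  have v0 : α01 * α10 + α02 * α20 + α03 * α30 + α04 * α40 ≤ 4 := by
    have := vsum (T.m 0) (T.m 1) (T.m 2) (T.m 3) (T.m 4) α01 α02 α03 α04 α10 α20 α30 α40 hm0 n01 n02 n03 n04 e0 q10 q20 q30 q40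
    linarith [mul_comm α01 α10, mul_comm α02 α20, mul_comm α03 α30, mul_comm α04 α40]
  have v1 : α01 * α10 + α12 * α21 + α13 * α31 + α14 * α41 ≤ 4 := by
    have := vsum (T.m 1) (T.m 0) (T.m 2) (T.m 3) (T.m 4) α10 α12 α13 α14 α01 α21 α31 α41 hm1 n10 n12 n13 n14 e1 q01 q21 q31 q41
    linarith [mul_comm α10 α01, mul_comm α12 α21, mul_comm α13 α31, mul_comm α14 α41]
  have v2 : α02 * α20 + α12 * α21 + α23 * α32 + α24 * α42 ≤ 4 := by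
    have := vsum (T.m 2) (T.m 0) (T.m 1) (T.m 3) (T.m 4) α20 α21 α23 α24 α02 α12 α32 α42 hm2 n20 n21 n23 n24 e2 q02 q12 q32 q42
    linarith [mul_comm α20 α02, mul_comm α21 α12, mul_comm α23 α32, mul_comm α24 α42]
  have v3 : α03 * α30 + α13 * α31 + α23 * α32 + α34 * α43 ≤ 4 := by
    have := vsum (T.m 3) (T.m 0) (T.m 1) (T.m 2) (T.m 4) α30 α31 α32 α34 α03 α13 α23 α43 hm3 n30 n31 n32 n34 e3 q03 q13 q23 q43
    linarith [mul_comm α30 α03, mul_comm α31 α13, mul_comm α32 α23, mul_comm α34 α43]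
  have v4 : α04 * α40 + α14 * α41 + α24 * α42 + α34 * α43 ≤ 4 := by
    have := vsum (T.m 4) (T.m 0) (T.m 1) (T.m 2) (T.m 3) α40 α41 α42 α43 α04 α14 α24 α34 hm4 n40 n41 n42 n43 e4 q04 q14 q24 q34
    linarith [mul_comm α40 α04, mul_comm α41 α14, mul_comm α42 α24, mul_comm α43 α34]
  have k01 : 0 < α02 + α03 + α04 + α12 + α13 + α14 := by
    obtain ⟨i, hi, j, hj, hij⟩ := T.connected {0, 1} ⟨0, by simp⟩ (by decide)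
    by_contra hcon
    have z02 : T.a 0 2 = 0 := by rw [h02, (by omega : α02 = 0), mul_zero]
    have z03 : T.a 0 3 = 0 := by rw [h03, (by omega : α03 = 0), mul_zero]
    have z04 : T.a 0 4 = 0 := by rw [h04, (by omega : α04 = 0), mul_zero]
    have z12 : T.a 1 2 = 0 := by rw [h12, (by omega : α12 = 0), mul_zero]
    have z13 : T.a 1 3 = 0 := by rw [h13, (by omega : α13 = 0), mul_zero]
    have z14 : T.a 1 4 = 0 := by rw [h14, (by omega : α14 = 0), mul_zero]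
    have key : ∀ i j : Fin 5, i ∈ ({0, 1} : Finset (Fin 5)) → j ∉ ({0, 1} : Finset (Fin 5)) → (i = 0 ∧ j = 2) ∨ (i = 0 ∧ j = 3) ∨ (i = 0 ∧ j = 4) ∨ (i = 1 ∧ j = 2) ∨ (i = 1 ∧ j = 3) ∨ (i = 1 ∧ j = 4) := by decide
    rcases key i j hi hj with ⟨rfl, rfl⟩ | ⟨rfl, rfl⟩ | ⟨rfl, rfl⟩ | ⟨rfl, rfl⟩ | ⟨rfl, rfl⟩ | ⟨rfl, rfl⟩
    · exact hij z02
    · exact hij z03
    · exact hij z04
    · exact hij z12
    · exact hij z13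
    · exact hij z14
  have k02 : 0 < α01 + α03 + α04 + α21 + α23 + α24 := by
    obtain ⟨i, hi, j, hj, hij⟩ := T.connected {0, 2} ⟨0, by simp⟩ (by decide)
    by_contra hcon
    have z01 : T.a 0 1 = 0 := by rw [h01, (by omega : α01 = 0), mul_zero]
    have z03 : T.a 0 3 = 0 := by rw [h03, (by omega : α03 = 0), mul_zero]
    have z04 : T.a 0 4 = 0 := by rw [h04, (by omega : α04 = 0), mul_zero]
    have z21 : T.a 2 1 = 0 := by rw [h21, (by omega : α21 = 0), mul_zero]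
    have z23 : T.a 2 3 = 0 := by rw [h23, (by omega : α23 = 0), mul_zero]
    have z24 : T.a 2 4 = 0 := by rw [h24, (by omega : α24 = 0), mul_zero]
    have key : ∀ i j : Fin 5, i ∈ ({0, 2} : Finset (Fin 5)) → j ∉ ({0, 2} : Finset (Fin 5)) → (i = 0 ∧ j = 1) ∨ (i = 0 ∧ j = 3) ∨ (i = 0 ∧ j = 4) ∨ (i = 2 ∧ j = 1) ∨ (i = 2 ∧ j = 3) ∨ (i = 2 ∧ j = 4) := by decide
    rcases key i j hi hj with ⟨rfl, rfl⟩ | ⟨rfl, rfl⟩ | ⟨rfl, rfl⟩ | ⟨rfl, rfl⟩ | ⟨rfl, rfl⟩ | ⟨rfl, rfl⟩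
    · exact hij z01
    · exact hij z03
    · exact hij z04
    · exact hij z21
    · exact hij z23
    · exact hij z24
  have k03 : 0 < α01 + α02 + α04 + α31 + α32 + α34 := by
    obtain ⟨i, hi, j, hj, hij⟩ := T.connected {0, 3} ⟨0, by simp⟩ (by decide)
    by_contra hcon
    have z01 : T.a 0 1 = 0 := by rw [h01, (by omega : α01 = 0), mul_zero]
    have z02 : T.a 0 2 = 0 := by rw [h02, (by omega : α02 = 0), mul_zero]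
    have z04 : T.a 0 4 = 0 := by rw [h04, (by omega : α04 = 0), mul_zero]
    have z31 : T.a 3 1 = 0 := by rw [h31, (by omega : α31 = 0), mul_zero]
    have z32 : T.a 3 2 = 0 := by rw [h32, (by omega : α32 = 0), mul_zero]
    have z34 : T.a 3 4 = 0 := by rw [h34, (by omega : α34 = 0), mul_zero]
    have key : ∀ i j : Fin 5, i ∈ ({0, 3} : Finset (Fin 5)) → j ∉ ({0, 3} : Finset (Fin 5)) → (i = 0 ∧ j = 1) ∨ (i = 0 ∧ j = 2) ∨ (i = 0 ∧ j = 4) ∨ (i = 3 ∧ j = 1) ∨ (i = 3 ∧ j = 2) ∨ (i = 3 ∧ j = 4) := by decide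
    rcases key i j hi hj with ⟨rfl, rfl⟩ | ⟨rfl, rfl⟩ | ⟨rfl, rfl⟩ | ⟨rfl, rfl⟩ | ⟨rfl, rfl⟩ | ⟨rfl, rfl⟩
    · exact hij z01
    · exact hij z02
    · exact hij z04
    · exact hij z31
    · exact hij z32
    · exact hij z34
  have k04 : 0 < α01 + α02 + α03 + α41 + α42 + α43 := by
    obtain ⟨i, hi, j, hj, hij⟩ := T.connected {0, 4} ⟨0, by simp⟩ (by decide)
    by_contra hcon
    have z01 : T.a 0 1 = 0 := by rw [h01, (by omega : α01 = 0), mul_zero]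
    have z02 : T.a 0 2 = 0 := by rw [h02, (by omega : α02 = 0), mul_zero]
    have z03 : T.a 0 3 = 0 := by rw [h03, (by omega : α03 = 0), mul_zero]
    have z41 : T.a 4 1 = 0 := by rw [h41, (by omega : α41 = 0), mul_zero]
    have z42 : T.a 4 2 = 0 := by rw [h42, (by omega : α42 = 0), mul_zero]
    have z43 : T.a 4 3 = 0 := by rw [h43, (by omega : α43 = 0), mul_zero]
    have key : ∀ i j : Fin 5, i ∈ ({0, 4} : Finset (Fin 5)) → j ∉ ({0, 4} : Finset (Fin 5)) → (i = 0 ∧ j = 1) ∨ (i = 0 ∧ j = 2) ∨ (i = 0 ∧ j = 3) ∨ (i = 4 ∧ j = 1) ∨ (i = 4 ∧ j = 2) ∨ (i = 4 ∧ j = 3) := by decide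
    rcases key i j hi hj with ⟨rfl, rfl⟩ | ⟨rfl, rfl⟩ | ⟨rfl, rfl⟩ | ⟨rfl, rfl⟩ | ⟨rfl, rfl⟩ | ⟨rfl, rfl⟩
    · exact hij z01
    · exact hij z02
    · exact hij z03
    · exact hij z41
    · exact hij z42
    · exact hij z43
  have k12 : 0 < α10 + α13 + α14 + α20 + α23 + α24 := by
    obtain ⟨i, hi, j, hj, hij⟩ := T.connected {1, 2} ⟨1, by simp⟩ (by decide)
    by_contra hcon
    have z10 : T.a 1 0 = 0 := by rw [h10, (by omega : α10 = 0), mul_zero]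
    have z13 : T.a 1 3 = 0 := by rw [h13, (by omega : α13 = 0), mul_zero]
    have z14 : T.a 1 4 = 0 := by rw [h14, (by omega : α14 = 0), mul_zero]
    have z20 : T.a 2 0 = 0 := by rw [h20, (by omega : α20 = 0), mul_zero]
    have z23 : T.a 2 3 = 0 := by rw [h23, (by omega : α23 = 0), mul_zero]
    have z24 : T.a 2 4 = 0 := by rw [h24, (by omega : α24 = 0), mul_zero]
    have key : ∀ i j : Fin 5, i ∈ ({1, 2} : Finset (Fin 5)) → j ∉ ({1, 2} : Finset (Fin 5)) → (i = 1 ∧ j = 0) ∨ (i = 1 ∧ j = 3) ∨ (i = 1 ∧ j = 4) ∨ (i = 2 ∧ j = 0) ∨ (i = 2 ∧ j = 3) ∨ (i = 2 ∧ j = 4) := by decide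
    rcases key i j hi hj with ⟨rfl, rfl⟩ | ⟨rfl, rfl⟩ | ⟨rfl, rfl⟩ | ⟨rfl, rfl⟩ | ⟨rfl, rfl⟩ | ⟨rfl, rfl⟩
    · exact hij z10
    · exact hij z13
    · exact hij z14
    · exact hij z20
    · exact hij z23
    · exact hij z24
  have k13 : 0 < α10 + α12 + α14 + α30 + α32 + α34 := by
    obtain ⟨i, hi, j, hj, hij⟩ := T.connected {1, 3} ⟨1, by simp⟩ (by decide)
    by_contra hcon
    have z10 : T.a 1 0 = 0 := by rw [h10, (by omega : α10 = 0), mul_zero]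
    have z12 : T.a 1 2 = 0 := by rw [h12, (by omega : α12 = 0), mul_zero]
    have z14 : T.a 1 4 = 0 := by rw [h14, (by omega : α14 = 0), mul_zero]
    have z30 : T.a 3 0 = 0 := by rw [h30, (by omega : α30 = 0), mul_zero]
    have z32 : T.a 3 2 = 0 := by rw [h32, (by omega : α32 = 0), mul_zero]
    have z34 : T.a 3 4 = 0 := by rw [h34, (by omega : α34 = 0), mul_zero]
    have key : ∀ i j : Fin 5, i ∈ ({1, 3} : Finset (Fin 5)) → j ∉ ({1, 3} : Finset (Fin 5)) → (i = 1 ∧ j = 0) ∨ (i = 1 ∧ j = 2) ∨ (i = 1 ∧ j = 4) ∨ (i = 3 ∧ j = 0) ∨ (i = 3 ∧ j = 2) ∨ (i = 3 ∧ j = 4) := by decide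
    rcases key i j hi hj with ⟨rfl, rfl⟩ | ⟨rfl, rfl⟩ | ⟨rfl, rfl⟩ | ⟨rfl, rfl⟩ | ⟨rfl, rfl⟩ | ⟨rfl, rfl⟩
    · exact hij z10
    · exact hij z12
    · exact hij z14
    · exact hij z30
    · exact hij z32
    · exact hij z34
  have k14 : 0 < α10 + α12 + α13 + α40 + α42 + α43 := by
    obtain ⟨i, hi, j, hj, hij⟩ := T.connected {1, 4} ⟨1, by simp⟩ (by decide)
    by_contra hcon
    have z10 : T.a 1 0 = 0 := by rw [h10, (by omega : α10 = 0), mul_zero]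
    have z12 : T.a 1 2 = 0 := by rw [h12, (by omega : α12 = 0), mul_zero]
    have z13 : T.a 1 3 = 0 := by rw [h13, (by omega : α13 = 0), mul_zero]
    have z40 : T.a 4 0 = 0 := by rw [h40, (by omega : α40 = 0), mul_zero]
    have z42 : T.a 4 2 = 0 := by rw [h42, (by omega : α42 = 0), mul_zero]
    have z43 : T.a 4 3 = 0 := by rw [h43, (by omega : α43 = 0), mul_zero]
    have key : ∀ i j : Fin 5, i ∈ ({1, 4} : Finset (Fin 5)) → j ∉ ({1, 4} : Finset (Fin 5)) → (i = 1 ∧ j = 0) ∨ (i = 1 ∧ j = 2) ∨ (i = 1 ∧ j = 3) ∨ (i = 4 ∧ j = 0) ∨ (i = 4 ∧ j = 2) ∨ (i = 4 ∧ j = 3) := by decide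
    rcases key i j hi hj with ⟨rfl, rfl⟩ | ⟨rfl, rfl⟩ | ⟨rfl, rfl⟩ | ⟨rfl, rfl⟩ | ⟨rfl, rfl⟩ | ⟨rfl, rfl⟩
    · exact hij z10
    · exact hij z12
    · exact hij z13
    · exact hij z40
    · exact hij z42
    · exact hij z43
  have k23 : 0 < α20 + α21 + α24 + α30 + α31 + α34 := by
    obtain ⟨i, hi, j, hj, hij⟩ := T.connected {2, 3} ⟨2, by simp⟩ (by decide)
    by_contra hcon
    have z20 : T.a 2 0 = 0 := by rw [h20, (by omega : α20 = 0), mul_zero]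
    have z21 : T.a 2 1 = 0 := by rw [h21, (by omega : α21 = 0), mul_zero]
    have z24 : T.a 2 4 = 0 := by rw [h24, (by omega : α24 = 0), mul_zero]
    have z30 : T.a 3 0 = 0 := by rw [h30, (by omega : α30 = 0), mul_zero]
    have z31 : T.a 3 1 = 0 := by rw [h31, (by omega : α31 = 0), mul_zero]
    have z34 : T.a 3 4 = 0 := by rw [h34, (by omega : α34 = 0), mul_zero]
    have key : ∀ i j : Fin 5, i ∈ ({2, 3} : Finset (Fin 5)) → j ∉ ({2, 3} : Finset (Fin 5)) → (i = 2 ∧ j = 0) ∨ (i = 2 ∧ j = 1) ∨ (i = 2 ∧ j = 4) ∨ (i = 3 ∧ j = 0) ∨ (i = 3 ∧ j = 1) ∨ (i = 3 ∧ j = 4) := by decide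
    rcases key i j hi hj with ⟨rfl, rfl⟩ | ⟨rfl, rfl⟩ | ⟨rfl, rfl⟩ | ⟨rfl, rfl⟩ | ⟨rfl, rfl⟩ | ⟨rfl, rfl⟩
    · exact hij z20
    · exact hij z21
    · exact hij z24
    · exact hij z30
    · exact hij z31
    · exact hij z34
  have k24 : 0 < α20 + α21 + α23 + α40 + α41 + α43 := by
    obtain ⟨i, hi, j, hj, hij⟩ := T.connected {2, 4} ⟨2, by simp⟩ (by decide)
    by_contra hcon
    have z20 : T.a 2 0 = 0 := by rw [h20, (by omega : α20 = 0), mul_zero]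
    have z21 : T.a 2 1 = 0 := by rw [h21, (by omega : α21 = 0), mul_zero]
    have z23 : T.a 2 3 = 0 := by rw [h23, (by omega : α23 = 0), mul_zero]
    have z40 : T.a 4 0 = 0 := by rw [h40, (by omega : α40 = 0), mul_zero]
    have z41 : T.a 4 1 = 0 := by rw [h41, (by omega : α41 = 0), mul_zero]
    have z43 : T.a 4 3 = 0 := by rw [h43, (by omega : α43 = 0), mul_zero]
    have key : ∀ i j : Fin 5, i ∈ ({2, 4} : Finset (Fin 5)) → j ∉ ({2, 4} : Finset (Fin 5)) → (i = 2 ∧ j = 0) ∨ (i = 2 ∧ j = 1) ∨ (i = 2 ∧ j = 3) ∨ (i = 4 ∧ j = 0) ∨ (i = 4 ∧ j = 1) ∨ (i = 4 ∧ j = 3) := by decide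
    rcases key i j hi hj with ⟨rfl, rfl⟩ | ⟨rfl, rfl⟩ | ⟨rfl, rfl⟩ | ⟨rfl, rfl⟩ | ⟨rfl, rfl⟩ | ⟨rfl, rfl⟩
    · exact hij z20
    · exact hij z21
    · exact hij z23
    · exact hij z40
    · exact hij z41
    · exact hij z43
  have k34 : 0 < α30 + α31 + α32 + α40 + α41 + α42 := by
    obtain ⟨i, hi, j, hj, hij⟩ := T.connected {3, 4} ⟨3, by simp⟩ (by decide)
    by_contra hcon
    have z30 : T.a 3 0 = 0 := by rw [h30, (by omega : α30 = 0), mul_zero]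
    have z31 : T.a 3 1 = 0 := by rw [h31, (by omega : α31 = 0), mul_zero]
    have z32 : T.a 3 2 = 0 := by rw [h32, (by omega : α32 = 0), mul_zero]
    have z40 : T.a 4 0 = 0 := by rw [h40, (by omega : α40 = 0), mul_zero]
    have z41 : T.a 4 1 = 0 := by rw [h41, (by omega : α41 = 0), mul_zero]
    have z42 : T.a 4 2 = 0 := by rw [h42, (by omega : α42 = 0), mul_zero]
    have key : ∀ i j : Fin 5, i ∈ ({3, 4} : Finset (Fin 5)) → j ∉ ({3, 4} : Finset (Fin 5)) → (i = 3 ∧ j = 0) ∨ (i = 3 ∧ j = 1) ∨ (i = 3 ∧ j = 2) ∨ (i = 4 ∧ j = 0) ∨ (i = 4 ∧ j = 1) ∨ (i = 4 ∧ j = 2) := by decide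
    rcases key i j hi hj with ⟨rfl, rfl⟩ | ⟨rfl, rfl⟩ | ⟨rfl, rfl⟩ | ⟨rfl, rfl⟩ | ⟨rfl, rfl⟩ | ⟨rfl, rfl⟩
    · exact hij z30
    · exact hij z31
    · exact hij z32
    · exact hij z40
    · exact hij z41
    · exact hij z42
  have HA : Hide (T.a 0 0 = -2 * T.w 0 ∧ T.a 1 1 = -2 * T.w 1 ∧ T.a 2 2 = -2 * T.w 2 ∧ T.a 3 3 = -2 * T.w 3 ∧ T.a 4 4 = -2 * T.w 4 ∧ T.a 0 1 = T.w 0 * α01 ∧ T.a 0 2 = T.w 0 * α02 ∧ T.a 0 3 = T.w 0 * α03 ∧ T.a 0 4 = T.w 0 * α04 ∧ T.a 1 0 = T.w 1 * α10 ∧ T.a 1 2 = T.w 1 * α12 ∧ T.a 1 3 = T.w 1 * α13 ∧ T.a 1 4 = T.w 1 * α14 ∧ T.a 2 0 = T.w 2 * α20 ∧ T.a 2 1 = T.w 2 * α21 ∧ T.a 2 3 = T.w 2 * α23 ∧ T.a 2 4 = T.w 2 * α24 ∧ T.a 3 0 = T.w 3 * α30 ∧ T.a 3 1 = T.w 3 * α31 ∧ T.a 3 2 = T.w 3 * α32 ∧ T.a 3 4 = T.w 3 * α34 ∧ T.a 4 0 = T.w 4 * α40 ∧ T.a 4 1 = T.w 4 * α41 ∧ T.a 4 2 = T.w 4 * α42 ∧ T.a 4 3 = T.w 4 *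 α43) :=
    Hide.intro ⟨ha00, ha11, ha22, ha33, ha44, h01, h02, h03, h04, h10, h12, h13, h14, h20, h21, h23, h24, h30, h31, h32, h34, h40, h41, h42, h43⟩
  clear hrow nn hall hs hmin hg q01 q02 q03 q04 q10 q12 q13 q14 q20 q21 q23 q24 q30 q31 q32 q34 q40 q41 q42 q43 b01 b02 b03 b04 b12 b13 b14 b23 b24 b34 n01 n02 n03 n04 n10 n12 n13 n14 n20 n21 n23 n24 n30 n31 n32 n34 n40 n41 n42 n43 h01 h02 h03 h04 h10 h12 h13 h14 h20 h21 h23 h24 h30 h31 h32 h34 h40 h41 h42 h43 ha00 ha11 ha22 ha33 ha44 hg0 hg1 hg2 hg3 hg4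
  rcases c01.out with ⟨rfl, rfl⟩ | ⟨rfl, rfl⟩ | ⟨rfl, rfl⟩ | ⟨rfl, rfl⟩ | ⟨rfl, rfl⟩ | ⟨rfl, rfl⟩ | ⟨rfl, rfl⟩ | ⟨rfl, rfl⟩ | ⟨rfl, rfl⟩
  · rcases c02.out with ⟨rfl, rfl⟩ | ⟨rfl, rfl⟩ | ⟨rfl, rfl⟩ | ⟨rfl, rfl⟩ | ⟨rfl, rfl⟩ | ⟨rfl, rfl⟩ | ⟨rfl, rfl⟩ | ⟨rfl, rfl⟩ | ⟨rfl, rfl⟩
    · rcases c03.out with ⟨rfl, rfl⟩ | ⟨rfl, rfl⟩ | ⟨rfl, rfl⟩ | ⟨rfl, rfl⟩ | ⟨rfl, rfl⟩ | ⟨rfl, rfl⟩ | ⟨rfl, rfl⟩ | ⟨rfl, rfl⟩ | ⟨rfl, rfl⟩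
      · rcases c04.out with ⟨rfl, rfl⟩ | ⟨rfl, rfl⟩ | ⟨rfl, rfl⟩ | ⟨rfl, rfl⟩ | ⟨rfl, rfl⟩ | ⟨rfl, rfl⟩ | ⟨rfl, rfl⟩ | ⟨rfl, rfl⟩ | ⟨rfl, rfl⟩
        · omega
        · exact part0 T α12 α13 α14 α21 α23 α24 α31 α32 α34 α41 α42 α43 ⟨hm0, hm1, hm2, hm3, hm4, hw0, hw1, hw2, hw3, hw4, e0, e1, e2, e3, e4, r01, r02, r03, r04, r10, r12, r13, r14, r20, r21, r23, r24, r30, r31, r32, r34, r40, r41, r42, r43, s01, s02, s03, s04, s12, s13, s14, s23, s24, s34, p01, p02, p03, p04, p12, p13, p14, p23, p24, p34, v0, v1, v2, v3, v4, k01, k02, k03, k04, k12, k13, k14, k23, k24, k34, c01, c02, c03, c04, c12, c13, c14, c23, c24, c34, HA⟩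
        · exact part1 T α12 α13 α14 α21 α23 α24 α31 α32 α34 α41 α42 α43 ⟨hm0, hm1, hm2, hm3, hm4, hw0, hw1, hw2, hw3, hw4, e0, e1, e2, e3, e4, r01, r02, r03, r04, r10, r12, r13, r14, r20, r21, r23, r24, r30, r31, r32, r34, r40, r41, r42, r43, s01, s02, s03, s04, s12, s13, s14, s23, s24, s34, p01, p02, p03, p04, p12, p13, p14, p23, p24, p34, v0, v1, v2, v3, v4, k01, k02, k03, k04, k12, k13, k14, k23, k24, k34, c01, c02, c03, c04, c12, c13, c14, c23, c24, c34, HA⟩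
        · exact part2 T α12 α13 α14 α21 α23 α24 α31 α32 α34 α41 α42 α43 ⟨hm0, hm1, hm2, hm3, hm4, hw0, hw1, hw2, hw3, hw4, e0, e1, e2, e3, e4, r01, r02, r03, r04, r10, r12, r13, r14, r20, r21, r23, r24, r30, r31, r32, r34, r40, r41, r42, r43, s01, s02, s03, s04, s12, s13, s14, s23, s24, s34, p01, p02, p03, p04, p12, p13, p14, p23, p24, p34, v0, v1, v2, v3, v4, k01, k02, k03, k04, k12, k13, k14, k23, k24, k34, c01, c02, c03, c04, c12, c13, c14, c23, c24, c34, HA⟩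
        · exact part3 T α12 α13 α14 α21 α23 α24 α31 α32 α34 α41 α42 α43 ⟨hm0, hm1, hm2, hm3, hm4, hw0, hw1, hw2, hw3, hw4, e0, e1, e2, e3, e4, r01, r02, r03, r04, r10, r12, r13, r14, r20, r21, r23, r24, r30, r31, r32, r34, r40, r41, r42, r43, s01, s02, s03, s04, s12, s13, s14, s23, s24, s34, p01, p02, p03, p04, p12, p13, p14, p23, p24, p34, v0, v1, v2, v3, v4, k01, k02, k03, k04, k12, k13, k14, k23, k24, k34, c01, c02, c03, c04, c12, c13, c14, c23, c24, c34, HA⟩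
        · exact part4 T α12 α13 α14 α21 α23 α24 α31 α32 α34 α41 α42 α43 ⟨hm0, hm1, hm2, hm3, hm4, hw0, hw1, hw2, hw3, hw4, e0, e1, e2, e3, e4, r01, r02, r03, r04, r10, r12, r13, r14, r20, r21, r23, r24, r30, r31, r32, r34, r40, r41, r42, r43, s01, s02, s03, s04, s12, s13, s14, s23, s24, s34, p01, p02, p03, p04, p12, p13, p14, p23, p24, p34, v0, v1, v2, v3, v4, k01, k02, k03, k04, k12, k13, k14, k23, k24, k34, c01, c02, c03, c04, c12, c13, c14, c23, c24, c34, HA⟩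
        · exact part5 T α12 α13 α14 α21 α23 α24 α31 α32 α34 α41 α42 α43 ⟨hm0, hm1, hm2, hm3, hm4, hw0, hw1, hw2, hw3, hw4, e0, e1, e2, e3, e4, r01, r02, r03, r04, r10, r12, r13, r14, r20, r21, r23, r24, r30, r31, r32, r34, r40, r41, r42, r43, s01, s02, s03, s04, s12, s13, s14, s23, s24, s34, p01, p02, p03, p04, p12, p13, p14, p23, p24, p34, v0, v1, v2, v3, v4, k01, k02, k03, k04, k12, k13, k14, k23, k24, k34, c01, c02, c03, c04, c12, c13, c14, c23, c24, c34, HA⟩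
        · exact part6 T α12 α13 α14 α21 α23 α24 α31 α32 α34 α41 α42 α43 ⟨hm0, hm1, hm2, hm3, hm4, hw0, hw1, hw2, hw3, hw4, e0, e1, e2, e3, e4, r01, r02, r03, r04, r10, r12, r13, r14, r20, r21, r23, r24, r30, r31, r32, r34, r40, r41, r42, r43, s01, s02, s03, s04, s12, s13, s14, s23, s24, s34, p01, p02, p03, p04, p12, p13, p14, p23, p24, p34, v0, v1, v2, v3, v4, k01, k02, k03, k04, k12, k13, k14, k23, k24, k34, c01, c02, c03, c04, c12, c13, c14, c23, c24, c34, HA⟩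
        · exact part7 T α12 α13 α14 α21 α23 α24 α31 α32 α34 α41 α42 α43 ⟨hm0, hm1, hm2, hm3, hm4, hw0, hw1, hw2, hw3, hw4, e0, e1, e2, e3, e4, r01, r02, r03, r04, r10, r12, r13, r14, r20, r21, r23, r24, r30, r31, r32, r34, r40, r41, r42, r43, s01, s02, s03, s04, s12, s13, s14, s23, s24, s34, p01, p02, p03, p04, p12, p13, p14, p23, p24, p34, v0, v1, v2, v3, v4, k01, k02, k03, k04, k12, k13, k14, k23, k24, k34, c01, c02, c03, c04, c12, c13, c14, c23, c24, c34, HA⟩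
      · rcases pc3 _ _ c04.out (by omega) with ⟨rfl, rfl⟩ | ⟨rfl, rfl⟩ | ⟨rfl, rfl⟩ | ⟨rfl, rfl⟩ | ⟨rfl, rfl⟩ | ⟨rfl, rfl⟩
        · exact part8 T α12 α13 α14 α21 α23 α24 α31 α32 α34 α41 α42 α43 ⟨hm0, hm1, hm2, hm3, hm4, hw0, hw1, hw2, hw3, hw4, e0, e1, e2, e3, e4, r01, r02, r03, r04, r10, r12, r13, r14, r20, r21, r23, r24, r30, r31, r32, r34, r40, r41, r42, r43, s01, s02, s03, s04, s12, s13, s14, s23, s24, s34, p01, p02, p03, p04, p12, p13, p14, p23, p24, p34, v0, v1, v2, v3, v4, k01, k02, k03, k04, k12, k13, k14, k23, k24, k34, c01, c02, c03, c04, c12, c13, c14, c23, c24, c34, HA⟩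
        · exact part9 T α12 α13 α14 α21 α23 α24 α31 α32 α34 α41 α42 α43 ⟨hm0, hm1, hm2, hm3, hm4, hw0, hw1, hw2, hw3, hw4, e0, e1, e2, e3, e4, r01, r02, r03, r04, r10, r12, r13, r14, r20, r21, r23, r24, r30, r31, r32, r34, r40, r41, r42, r43, s01, s02, s03, s04, s12, s13, s14, s23, s24, s34, p01, p02, p03, p04, p12, p13, p14, p23, p24, p34, v0, v1, v2, v3, v4, k01, k02, k03, k04, k12, k13, k14, k23, k24, k34, c01, c02, c03, c04, c12, c13, c14, c23, c24, c34, HA⟩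
        · exact part10 T α12 α13 α14 α21 α23 α24 α31 α32 α34 α41 α42 α43 ⟨hm0, hm1, hm2, hm3, hm4, hw0, hw1, hw2, hw3, hw4, e0, e1, e2, e3, e4, r01, r02, r03, r04, r10, r12, r13, r14, r20, r21, r23, r24, r30, r31, r32, r34, r40, r41, r42, r43, s01, s02, s03, s04, s12, s13, s14, s23, s24, s34, p01, p02, p03, p04, p12, p13, p14, p23, p24, p34, v0, v1, v2, v3, v4, k01, k02, k03, k04, k12, k13, k14, k23, k24, k34, c01, c02, c03, c04, c12, c13, c14, c23, c24, c34, HA⟩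
        · exact part11 T α12 α13 α14 α21 α23 α24 α31 α32 α34 α41 α42 α43 ⟨hm0, hm1, hm2, hm3, hm4, hw0, hw1, hw2, hw3, hw4, e0, e1, e2, e3, e4, r01, r02, r03, r04, r10, r12, r13, r14, r20, r21, r23, r24, r30, r31, r32, r34, r40, r41, r42, r43, s01, s02, s03, s04, s12, s13, s14, s23, s24, s34, p01, p02, p03, p04, p12, p13, p14, p23, p24, p34, v0, v1, v2, v3, v4, k01, k02, k03, k04, k12, k13, k14, k23, k24, k34, c01, c02, c03, c04, c12, c13, c14, c23, c24, c34, HA⟩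
        · exact part12 T α12 α13 α14 α21 α23 α24 α31 α32 α34 α41 α42 α43 ⟨hm0, hm1, hm2, hm3, hm4, hw0, hw1, hw2, hw3, hw4, e0, e1, e2, e3, e4, r01, r02, r03, r04, r10, r12, r13, r14, r20, r21, r23, r24, r30, r31, r32, r34, r40, r41, r42, r43, s01, s02, s03, s04, s12, s13, s14, s23, s24, s34, p01, p02, p03, p04, p12, p13, p14, p23, p24, p34, v0, v1, v2, v3, v4, k01, k02, k03, k04, k12, k13, k14, k23, k24, k34, c01, c02, c03, c04, c12, c13, c14, c23, c24, c34, HA⟩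
        · exact part13 T α12 α13 α14 α21 α23 α24 α31 α32 α34 α41 α42 α43 ⟨hm0, hm1, hm2, hm3, hm4, hw0, hw1, hw2, hw3, hw4, e0, e1, e2, e3, e4, r01, r02, r03, r04, r10, r12, r13, r14, r20, r21, r23, r24, r30, r31, r32, r34, r40, r41, r42, r43, s01, s02, s03, s04, s12, s13, s14, s23, s24, s34, p01, p02, p03, p04, p12, p13, p14, p23, p24, p34, v0, v1, v2, v3, v4, k01, k02, k03, k04, k12, k13, k14, k23, k24, k34, c01, c02, c03, c04, c12, c13, c14, c23, c24, c34, HA⟩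
      · exact part14 T α04 α12 α13 α14 α21 α23 α24 α31 α32 α34 α40 α41 α42 α43 ⟨hm0, hm1, hm2, hm3, hm4, hw0, hw1, hw2, hw3, hw4, e0, e1, e2, e3, e4, r01, r02, r03, r04, r10, r12, r13, r14, r20, r21, r23, r24, r30, r31, r32, r34, r40, r41, r42, r43, s01, s02, s03, s04, s12, s13, s14, s23, s24, s34, p01, p02, p03, p04, p12, p13, p14, p23, p24, p34, v0, v1, v2, v3, v4, k01, k02, k03, k04, k12, k13, k14, k23, k24, k34, c01, c02, c03, c04, c12, c13, c14, c23, c24, c34, HA⟩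
      · exact part15 T α04 α12 α13 α14 α21 α23 α24 α31 α32 α34 α40 α41 α42 α43 ⟨hm0, hm1, hm2, hm3, hm4, hw0, hw1, hw2, hw3, hw4, e0, e1, e2, e3, e4, r01, r02, r03, r04, r10, r12, r13, r14, r20, r21, r23, r24, r30, r31, r32, r34, r40, r41, r42, r43, s01, s02, s03, s04, s12, s13, s14, s23, s24, s34, p01, p02, p03, p04, p12, p13, p14, p23, p24, p34, v0, v1, v2, v3, v4, k01, k02, k03, k04, k12, k13, k14, k23, k24, k34, c01, c02, c03, c04, c12, c13, c14, c23, c24, c34, HA⟩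
      · exact part16 T α04 α12 α13 α14 α21 α23 α24 α31 α32 α34 α40 α41 α42 α43 ⟨hm0, hm1, hm2, hm3, hm4, hw0, hw1, hw2, hw3, hw4, e0, e1, e2, e3, e4, r01, r02, r03, r04, r10, r12, r13, r14, r20, r21, r23, r24, r30, r31, r32, r34, r40, r41, r42, r43, s01, s02, s03, s04, s12, s13, s14, s23, s24, s34, p01, p02, p03, p04, p12, p13, p14, p23, p24, p34, v0, v1, v2, v3, v4, k01, k02, k03, k04, k12, k13, k14, k23, k24, k34, c01, c02, c03, c04, c12, c13, c14, c23, c24, c34, HA⟩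
      · exact part17 T α04 α12 α13 α14 α21 α23 α24 α31 α32 α34 α40 α41 α42 α43 ⟨hm0, hm1, hm2, hm3, hm4, hw0, hw1, hw2, hw3, hw4, e0, e1, e2, e3, e4, r01, r02, r03, r04, r10, r12, r13, r14, r20, r21, r23, r24, r30, r31, r32, r34, r40, r41, r42, r43, s01, s02, s03, s04, s12, s13, s14, s23, s24, s34, p01, p02, p03, p04, p12, p13, p14, p23, p24, p34, v0, v1, v2, v3, v4, k01, k02, k03, k04, k12, k13, k14, k23, k24, k34, c01, c02, c03, c04, c12, c13, c14, c23, c24, c34, HA⟩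
      · exact part18 T α04 α12 α13 α14 α21 α23 α24 α31 α32 α34 α40 α41 α42 α43 ⟨hm0, hm1, hm2, hm3, hm4, hw0, hw1, hw2, hw3, hw4, e0, e1, e2, e3, e4, r01, r02, r03, r04, r10, r12, r13, r14, r20, r21, r23, r24, r30, r31, r32, r34, r40, r41, r42, r43, s01, s02, s03, s04, s12, s13, s14, s23, s24, s34, p01, p02, p03, p04, p12, p13, p14, p23, p24, p34, v0, v1, v2, v3, v4, k01, k02, k03, k04, k12, k13, k14, k23, k24, k34, c01, c02, c03, c04, c12, c13, c14, c23, c24, c34, HA⟩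
      · exact part19 T α04 α12 α13 α14 α21 α23 α24 α31 α32 α34 α40 α41 α42 α43 ⟨hm0, hm1, hm2, hm3, hm4, hw0, hw1, hw2, hw3, hw4, e0, e1, e2, e3, e4, r01, r02, r03, r04, r10, r12, r13, r14, r20, r21, r23, r24, r30, r31, r32, r34, r40, r41, r42, r43, s01, s02, s03, s04, s12, s13, s14, s23, s24, s34, p01, p02, p03, p04, p12, p13, p14, p23, p24, p34, v0, v1, v2, v3, v4, k01, k02, k03, k04, k12, k13, k14, k23, k24, k34, c01, c02, c03, c04, c12, c13, c14, c23, c24, c34, HA⟩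
      · exact part20 T α04 α12 α13 α14 α21 α23 α24 α31 α32 α34 α40 α41 α42 α43 ⟨hm0, hm1, hm2, hm3, hm4, hw0, hw1, hw2, hw3, hw4, e0, e1, e2, e3, e4, r01, r02, r03, r04, r10, r12, r13, r14, r20, r21, r23, r24, r30, r31, r32, r34, r40, r41, r42, r43, s01, s02, s03, s04, s12, s13, s14, s23, s24, s34, p01, p02, p03, p04, p12, p13, p14, p23, p24, p34, v0, v1, v2, v3, v4, k01, k02, k03, k04, k12, k13, k14, k23, k24, k34, c01, c02, c03, c04, c12, c13, c14, c23, c24, c34, HA⟩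
    · rcases pc3 _ _ c03.out (by omega) with ⟨rfl, rfl⟩ | ⟨rfl, rfl⟩ | ⟨rfl, rfl⟩ | ⟨rfl, rfl⟩ | ⟨rfl, rfl⟩ | ⟨rfl, rfl⟩
      · rcases pc3 _ _ c04.out (by omega) with ⟨rfl, rfl⟩ | ⟨rfl, rfl⟩ | ⟨rfl, rfl⟩ | ⟨rfl, rfl⟩ | ⟨rfl, rfl⟩ | ⟨rfl, rfl⟩
        · exact part21 T α12 α13 α14 α21 α23 α24 α31 α32 α34 α41 α42 α43 ⟨hm0, hm1, hm2, hm3, hm4, hw0, hw1, hw2, hw3, hw4, e0, e1, e2, e3, e4, r01, r02, r03, r04, r10, r12, r13, r14, r20, r21, r23, r24, r30, r31, r32, r34, r40, r41, r42, r43, s01, s02, s03, s04, s12, s13, s14, s23, s24, s34, p01, p02, p03, p04, p12, p13, p14, p23, p24, p34, v0, v1, v2, v3, v4, k01, k02, k03, k04, k12, k13, k14, k23, k24, k34, c01, c02, c03, c04, c12, c13, c14, c23, c24, c34, HA⟩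
        · exact part22 T α12 α13 α14 α21 α23 α24 α31 α32 α34 α41 α42 α43 ⟨hm0, hm1, hm2, hm3, hm4, hw0, hw1, hw2, hw3, hw4, e0, e1, e2, e3, e4, r01, r02, r03, r04, r10, r12, r13, r14, r20, r21, r23, r24, r30, r31, r32, r34, r40, r41, r42, r43, s01, s02, s03, s04, s12, s13, s14, s23, s24, s34, p01, p02, p03, p04, p12, p13, p14, p23, p24, p34, v0, v1, v2, v3, v4, k01, k02, k03, k04, k12, k13, k14, k23, k24, k34, c01, c02, c03, c04, c12, c13, c14, c23, c24, c34, HA⟩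
        · exact part23 T α12 α13 α14 α21 α23 α24 α31 α32 α34 α41 α42 α43 ⟨hm0, hm1, hm2, hm3, hm4, hw0, hw1, hw2, hw3, hw4, e0, e1, e2, e3, e4, r01, r02, r03, r04, r10, r12, r13, r14, r20, r21, r23, r24, r30, r31, r32, r34, r40, r41, r42, r43, s01, s02, s03, s04, s12, s13, s14, s23, s24, s34, p01, p02, p03, p04, p12, p13, p14, p23, p24, p34, v0, v1, v2, v3, v4, k01, k02, k03, k04, k12, k13, k14, k23, k24, k34, c01, c02, c03, c04, c12, c13, c14, c23, c24, c34, HA⟩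
        · exact part24 T α12 α13 α14 α21 α23 α24 α31 α32 α34 α41 α42 α43 ⟨hm0, hm1, hm2, hm3, hm4, hw0, hw1, hw2, hw3, hw4, e0, e1, e2, e3, e4, r01, r02, r03, r04, r10, r12, r13, r14, r20, r21, r23, r24, r30, r31, r32, r34, r40, r41, r42, r43, s01, s02, s03, s04, s12, s13, s14, s23, s24, s34, p01, p02, p03, p04, p12, p13, p14, p23, p24, p34, v0, v1, v2, v3, v4, k01, k02, k03, k04, k12, k13, k14, k23, k24, k34, c01, c02, c03, c04, c12, c13, c14, c23, c24, c34, HA⟩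
        · exact part25 T α12 α13 α14 α21 α23 α24 α31 α32 α34 α41 α42 α43 ⟨hm0, hm1, hm2, hm3, hm4, hw0, hw1, hw2, hw3, hw4, e0, e1, e2, e3, e4, r01, r02, r03, r04, r10, r12, r13, r14, r20, r21, r23, r24, r30, r31, r32, r34, r40, r41, r42, r43, s01, s02, s03, s04, s12, s13, s14, s23, s24, s34, p01, p02, p03, p04, p12, p13, p14, p23, p24, p34, v0, v1, v2, v3, v4, k01, k02, k03, k04, k12, k13, k14, k23, k24, k34, c01, c02, c03, c04, c12, c13, c14, c23, c24, c34, HA⟩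
        · exact part26 T α12 α13 α14 α21 α23 α24 α31 α32 α34 α41 α42 α43 ⟨hm0, hm1, hm2, hm3, hm4, hw0, hw1, hw2, hw3, hw4, e0, e1, e2, e3, e4, r01, r02, r03, r04, r10, r12, r13, r14, r20, r21, r23, r24, r30, r31, r32, r34, r40, r41, r42, r43, s01, s02, s03, s04, s12, s13, s14, s23, s24, s34, p01, p02, p03, p04, p12, p13, p14, p23, p24, p34, v0, v1, v2, v3, v4, k01, k02, k03, k04, k12, k13, k14, k23, k24, k34, c01, c02, c03, c04, c12, c13, c14, c23, c24, c34, HA⟩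
      · exact part27 T α04 α12 α13 α14 α21 α23 α24 α31 α32 α34 α40 α41 α42 α43 ⟨hm0, hm1, hm2, hm3, hm4, hw0, hw1, hw2, hw3, hw4, e0, e1, e2, e3, e4, r01, r02, r03, r04, r10, r12, r13, r14, r20, r21, r23, r24, r30, r31, r32, r34, r40, r41, r42, r43, s01, s02, s03, s04, s12, s13, s14, s23, s24, s34, p01, p02, p03, p04, p12, p13, p14, p23, p24, p34, v0, v1, v2, v3, v4, k01, k02, k03, k04, k12, k13, k14, k23, k24, k34, c01, c02, c03, c04, c12, c13, c14, c23, c24, c34, HA⟩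
      · exact part28 T α04 α12 α13 α14 α21 α23 α24 α31 α32 α34 α40 α41 α42 α43 ⟨hm0, hm1, hm2, hm3, hm4, hw0, hw1, hw2, hw3, hw4, e0, e1, e2, e3, e4, r01, r02, r03, r04, r10, r12, r13, r14, r20, r21, r23, r24, r30, r31, r32, r34, r40, r41, r42, r43, s01, s02, s03, s04, s12, s13, s14, s23, s24, s34, p01, p02, p03, p04, p12, p13, p14, p23, p24, p34, v0, v1, v2, v3, v4, k01, k02, k03, k04, k12, k13, k14, k23, k24, k34, c01, c02, c03, c04, c12, c13, c14, c23, c24, c34, HA⟩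
      · exact part29 T α04 α12 α13 α14 α21 α23 α24 α31 α32 α34 α40 α41 α42 α43 ⟨hm0, hm1, hm2, hm3, hm4, hw0, hw1, hw2, hw3, hw4, e0, e1, e2, e3, e4, r01, r02, r03, r04, r10, r12, r13, r14, r20, r21, r23, r24, r30, r31, r32, r34, r40, r41, r42, r43, s01, s02, s03, s04, s12, s13, s14, s23, s24, s34, p01, p02, p03, p04, p12, p13, p14, p23, p24, p34, v0, v1, v2, v3, v4, k01, k02, k03, k04, k12, k13, k14, k23, k24, k34, c01, c02, c03, c04, c12, c13, c14, c23, c24, c34, HA⟩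
      · exact part30 T α04 α12 α13 α14 α21 α23 α24 α31 α32 α34 α40 α41 α42 α43 ⟨hm0, hm1, hm2, hm3, hm4, hw0, hw1, hw2, hw3, hw4, e0, e1, e2, e3, e4, r01, r02, r03, r04, r10, r12, r13, r14, r20, r21, r23, r24, r30, r31, r32, r34, r40, r41, r42, r43, s01, s02, s03, s04, s12, s13, s14, s23, s24, s34, p01, p02, p03, p04, p12, p13, p14, p23, p24, p34, v0, v1, v2, v3, v4, k01, k02, k03, k04, k12, k13, k14, k23, k24, k34, c01, c02, c03, c04, c12, c13, c14, c23, c24, c34, HA⟩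
      · exact part31 T α04 α12 α13 α14 α21 α23 α24 α31 α32 α34 α40 α41 α42 α43 ⟨hm0, hm1, hm2, hm3, hm4, hw0, hw1, hw2, hw3, hw4, e0, e1, e2, e3, e4, r01, r02, r03, r04, r10, r12, r13, r14, r20, r21, r23, r24, r30, r31, r32, r34, r40, r41, r42, r43, s01, s02, s03, s04, s12, s13, s14, s23, s24, s34, p01, p02, p03, p04, p12, p13, p14, p23, p24, p34, v0, v1, v2, v3, v4, k01, k02, k03, k04, k12, k13, k14, k23, k24, k34, c01, c02, c03, c04, c12, c13, c14, c23, c24, c34, HA⟩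
    · exact part32 T α03 α04 α12 α13 α14 α21 α23 α24 α30 α31 α32 α34 α40 α41 α42 α43 ⟨hm0, hm1, hm2, hm3, hm4, hw0, hw1, hw2, hw3, hw4, e0, e1, e2, e3, e4, r01, r02, r03, r04, r10, r12, r13, r14, r20, r21, r23, r24, r30, r31, r32, r34, r40, r41, r42, r43, s01, s02, s03, s04, s12, s13, s14, s23, s24, s34, p01, p02, p03, p04, p12, p13, p14, p23, p24, p34, v0, v1, v2, v3, v4, k01, k02, k03, k04, k12, k13, k14, k23, k24, k34, c01, c02, c03, c04, c12, c13, c14, c23, c24, c34, HA⟩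
    · exact part33 T α03 α04 α12 α13 α14 α21 α23 α24 α30 α31 α32 α34 α40 α41 α42 α43 ⟨hm0, hm1, hm2, hm3, hm4, hw0, hw1, hw2, hw3, hw4, e0, e1, e2, e3, e4, r01, r02, r03, r04, r10, r12, r13, r14, r20, r21, r23, r24, r30, r31, r32, r34, r40, r41, r42, r43, s01, s02, s03, s04, s12, s13, s14, s23, s24, s34, p01, p02, p03, p04, p12, p13, p14, p23, p24, p34, v0, v1, v2, v3, v4, k01, k02, k03, k04, k12, k13, k14, k23, k24, k34, c01, c02, c03, c04, c12, c13, c14, c23, c24, c34, HA⟩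
    · exact part34 T α03 α04 α12 α13 α14 α21 α23 α24 α30 α31 α32 α34 α40 α41 α42 α43 ⟨hm0, hm1, hm2, hm3, hm4, hw0, hw1, hw2, hw3, hw4, e0, e1, e2, e3, e4, r01, r02, r03, r04, r10, r12, r13, r14, r20, r21, r23, r24, r30, r31, r32, r34, r40, r41, r42, r43, s01, s02, s03, s04, s12, s13, s14, s23, s24, s34, p01, p02, p03, p04, p12, p13, p14, p23, p24, p34, v0, v1, v2, v3, v4, k01, k02, k03, k04, k12, k13, k14, k23, k24, k34, c01, c02, c03, c04, c12, c13, c14, c23, c24, c34, HA⟩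
    · exact part35 T α03 α04 α12 α13 α14 α21 α23 α24 α30 α31 α32 α34 α40 α41 α42 α43 ⟨hm0, hm1, hm2, hm3, hm4, hw0, hw1, hw2, hw3, hw4, e0, e1, e2, e3, e4, r01, r02, r03, r04, r10, r12, r13, r14, r20, r21, r23, r24, r30, r31, r32, r34, r40, r41, r42, r43, s01, s02, s03, s04, s12, s13, s14, s23, s24, s34, p01, p02, p03, p04, p12, p13, p14, p23, p24, p34, v0, v1, v2, v3, v4, k01, k02, k03, k04, k12, k13, k14, k23, k24, k34, c01, c02, c03, c04, c12, c13, c14, c23, c24, c34, HA⟩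
    · exact part36 T α03 α04 α12 α13 α14 α21 α23 α24 α30 α31 α32 α34 α40 α41 α42 α43 ⟨hm0, hm1, hm2, hm3, hm4, hw0, hw1, hw2, hw3, hw4, e0, e1, e2, e3, e4, r01, r02, r03, r04, r10, r12, r13, r14, r20, r21, r23, r24, r30, r31, r32, r34, r40, r41, r42, r43, s01, s02, s03, s04, s12, s13, s14, s23, s24, s34, p01, p02, p03, p04, p12, p13, p14, p23, p24, p34, v0, v1, v2, v3, v4, k01, k02, k03, k04, k12, k13, k14, k23, k24, k34, c01, c02, c03, c04, c12, c13, c14, c23, c24, c34, HA⟩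
    · exact part37 T α03 α04 α12 α13 α14 α21 α23 α24 α30 α31 α32 α34 α40 α41 α42 α43 ⟨hm0, hm1, hm2, hm3, hm4, hw0, hw1, hw2, hw3, hw4, e0, e1, e2, e3, e4, r01, r02, r03, r04, r10, r12, r13, r14, r20, r21, r23, r24, r30, r31, r32, r34, r40, r41, r42, r43, s01, s02, s03, s04, s12, s13, s14, s23, s24, s34, p01, p02, p03, p04, p12, p13, p14, p23, p24, p34, v0, v1, v2, v3, v4, k01, k02, k03, k04, k12, k13, k14, k23, k24, k34, c01, c02, c03, c04, c12, c13, c14, c23, c24, c34, HA⟩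
    · exact part38 T α03 α04 α12 α13 α14 α21 α23 α24 α30 α31 α32 α34 α40 α41 α42 α43 ⟨hm0, hm1, hm2, hm3, hm4, hw0, hw1, hw2, hw3, hw4, e0, e1, e2, e3, e4, r01, r02, r03, r04, r10, r12, r13, r14, r20, r21, r23, r24, r30, r31, r32, r34, r40, r41, r42, r43, s01, s02, s03, s04, s12, s13, s14, s23, s24, s34, p01, p02, p03, p04, p12, p13, p14, p23, p24, p34, v0, v1, v2, v3, v4, k01, k02, k03, k04, k12, k13, k14, k23, k24, k34, c01, c02, c03, c04, c12, c13, c14, c23, c24, c34, HA⟩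
  · rcases pc3 _ _ c02.out (by omega) with ⟨rfl, rfl⟩ | ⟨rfl, rfl⟩ | ⟨rfl, rfl⟩ | ⟨rfl, rfl⟩ | ⟨rfl, rfl⟩ | ⟨rfl, rfl⟩
    · rcases pc3 _ _ c03.out (by omega) with ⟨rfl, rfl⟩ | ⟨rfl, rfl⟩ | ⟨rfl, rfl⟩ | ⟨rfl, rfl⟩ | ⟨rfl, rfl⟩ | ⟨rfl, rfl⟩
      · rcases pc3 _ _ c04.out (by omega) with ⟨rfl, rfl⟩ | ⟨rfl, rfl⟩ | ⟨rfl, rfl⟩ | ⟨rfl, rfl⟩ | ⟨rfl, rfl⟩ | ⟨rfl, rfl⟩
        · exact part39 T α12 α13 α14 α21 α23 α24 α31 α32 α34 α41 α42 α43 ⟨hm0, hm1, hm2, hm3, hm4, hw0, hw1, hw2, hw3, hw4, e0, e1, e2, e3, e4, r01, r02, r03, r04, r10, r12, r13, r14, r20, r21, r23, r24, r30, r31, r32, r34, r40, r41, r42, r43, s01, s02, s03, s04, s12, s13, s14, s23, s24, s34, p01, p02, p03, p04, p12, p13, p14, p23, p24, p34, v0, v1, v2, v3, v4, k01, k02, k03, k04, k12, k13, k14, k23, k24, k34, c01, c02, c03, c04, c12, c13, c14, c23, c24, c34, HA⟩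
        · exact part40 T α12 α13 α14 α21 α23 α24 α31 α32 α34 α41 α42 α43 ⟨hm0, hm1, hm2, hm3, hm4, hw0, hw1, hw2, hw3, hw4, e0, e1, e2, e3, e4, r01, r02, r03, r04, r10, r12, r13, r14, r20, r21, r23, r24, r30, r31, r32, r34, r40, r41, r42, r43, s01, s02, s03, s04, s12, s13, s14, s23, s24, s34, p01, p02, p03, p04, p12, p13, p14, p23, p24, p34, v0, v1, v2, v3, v4, k01, k02, k03, k04, k12, k13, k14, k23, k24, k34, c01, c02, c03, c04, c12, c13, c14, c23, c24, c34, HA⟩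
        · exact part41 T α12 α13 α14 α21 α23 α24 α31 α32 α34 α41 α42 α43 ⟨hm0, hm1, hm2, hm3, hm4, hw0, hw1, hw2, hw3, hw4, e0, e1, e2, e3, e4, r01, r02, r03, r04, r10, r12, r13, r14, r20, r21, r23, r24, r30, r31, r32, r34, r40, r41, r42, r43, s01, s02, s03, s04, s12, s13, s14, s23, s24, s34, p01, p02, p03, p04, p12, p13, p14, p23, p24, p34, v0, v1, v2, v3, v4, k01, k02, k03, k04, k12, k13, k14, k23, k24, k34, c01, c02, c03, c04, c12, c13, c14, c23, c24, c34, HA⟩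
        · exact part42 T α12 α13 α14 α21 α23 α24 α31 α32 α34 α41 α42 α43 ⟨hm0, hm1, hm2, hm3, hm4, hw0, hw1, hw2, hw3, hw4, e0, e1, e2, e3, e4, r01, r02, r03, r04, r10, r12, r13, r14, r20, r21, r23, r24, r30, r31, r32, r34, r40, r41, r42, r43, s01, s02, s03, s04, s12, s13, s14, s23, s24, s34, p01, p02, p03, p04, p12, p13, p14, p23, p24, p34, v0, v1, v2, v3, v4, k01, k02, k03, k04, k12, k13, k14, k23, k24, k34, c01, c02, c03, c04, c12, c13, c14, c23, c24, c34, HA⟩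
        · exact part43 T α12 α13 α14 α21 α23 α24 α31 α32 α34 α41 α42 α43 ⟨hm0, hm1, hm2, hm3, hm4, hw0, hw1, hw2, hw3, hw4, e0, e1, e2, e3, e4, r01, r02, r03, r04, r10, r12, r13, r14, r20, r21, r23, r24, r30, r31, r32, r34, r40, r41, r42, r43, s01, s02, s03, s04, s12, s13, s14, s23, s24, s34, p01, p02, p03, p04, p12, p13, p14, p23, p24, p34, v0, v1, v2, v3, v4, k01, k02, k03, k04, k12, k13, k14, k23, k24, k34, c01, c02, c03, c04, c12, c13, c14, c23, c24, c34, HA⟩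
        · exact part44 T α12 α13 α14 α21 α23 α24 α31 α32 α34 α41 α42 α43 ⟨hm0, hm1, hm2, hm3, hm4, hw0, hw1, hw2, hw3, hw4, e0, e1, e2, e3, e4, r01, r02, r03, r04, r10, r12, r13, r14, r20, r21, r23, r24, r30, r31, r32, r34, r40, r41, r42, r43, s01, s02, s03, s04, s12, s13, s14, s23, s24, s34, p01, p02, p03, p04, p12, p13, p14, p23, p24, p34, v0, v1, v2, v3, v4, k01, k02, k03, k04, k12, k13, k14, k23, k24, k34, c01, c02, c03, c04, c12, c13, c14, c23, c24, c34, HA⟩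
      · exact part45 T α04 α12 α13 α14 α21 α23 α24 α31 α32 α34 α40 α41 α42 α43 ⟨hm0, hm1, hm2, hm3, hm4, hw0, hw1, hw2, hw3, hw4, e0, e1, e2, e3, e4, r01, r02, r03, r04, r10, r12, r13, r14, r20, r21, r23, r24, r30, r31, r32, r34, r40, r41, r42, r43, s01, s02, s03, s04, s12, s13, s14, s23, s24, s34, p01, p02, p03, p04, p12, p13, p14, p23, p24, p34, v0, v1, v2, v3, v4, k01, k02, k03, k04, k12, k13, k14, k23, k24, k34, c01, c02, c03, c04, c12, c13, c14, c23, c24, c34, HA⟩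
      · exact part46 T α04 α12 α13 α14 α21 α23 α24 α31 α32 α34 α40 α41 α42 α43 ⟨hm0, hm1, hm2, hm3, hm4, hw0, hw1, hw2, hw3, hw4, e0, e1, e2, e3, e4, r01, r02, r03, r04, r10, r12, r13, r14, r20, r21, r23, r24, r30, r31, r32, r34, r40, r41, r42, r43, s01, s02, s03, s04, s12, s13, s14, s23, s24, s34, p01, p02, p03, p04, p12, p13, p14, p23, p24, p34, v0, v1, v2, v3, v4, k01, k02, k03, k04, k12, k13, k14, k23, k24, k34, c01, c02, c03, c04, c12, c13, c14, c23, c24, c34, HA⟩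
      · exact part47 T α04 α12 α13 α14 α21 α23 α24 α31 α32 α34 α40 α41 α42 α43 ⟨hm0, hm1, hm2, hm3, hm4, hw0, hw1, hw2, hw3, hw4, e0, e1, e2, e3, e4, r01, r02, r03, r04, r10, r12, r13, r14, r20, r21, r23, r24, r30, r31, r32, r34, r40, r41, r42, r43, s01, s02, s03, s04, s12, s13, s14, s23, s24, s34, p01, p02, p03, p04, p12, p13, p14, p23, p24, p34, v0, v1, v2, v3, v4, k01, k02, k03, k04, k12, k13, k14, k23, k24, k34, c01, c02, c03, c04, c12, c13, c14, c23, c24, c34, HA⟩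
      · exact part48 T α04 α12 α13 α14 α21 α23 α24 α31 α32 α34 α40 α41 α42 α43 ⟨hm0, hm1, hm2, hm3, hm4, hw0, hw1, hw2, hw3, hw4, e0, e1, e2, e3, e4, r01, r02, r03, r04, r10, r12, r13, r14, r20, r21, r23, r24, r30, r31, r32, r34, r40, r41, r42, r43, s01, s02, s03, s04, s12, s13, s14, s23, s24, s34, p01, p02, p03, p04, p12, p13, p14, p23, p24, p34, v0, v1, v2, v3, v4, k01, k02, k03, k04, k12, k13, k14, k23, k24, k34, c01, c02, c03, c04, c12, c13, c14, c23, c24, c34, HA⟩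
      · exact part49 T α04 α12 α13 α14 α21 α23 α24 α31 α32 α34 α40 α41 α42 α43 ⟨hm0, hm1, hm2, hm3, hm4, hw0, hw1, hw2, hw3, hw4, e0, e1, e2, e3, e4, r01, r02, r03, r04, r10, r12, r13, r14, r20, r21, r23, r24, r30, r31, r32, r34, r40, r41, r42, r43, s01, s02, s03, s04, s12, s13, s14, s23, s24, s34, p01, p02, p03, p04, p12, p13, p14, p23, p24, p34, v0, v1, v2, v3, v4, k01, k02, k03, k04, k12, k13, k14, k23, k24, k34, c01, c02, c03, c04, c12, c13, c14, c23, c24, c34, HA⟩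
    · exact part50 T α03 α04 α12 α13 α14 α21 α23 α24 α30 α31 α32 α34 α40 α41 α42 α43 ⟨hm0, hm1, hm2, hm3, hm4, hw0, hw1, hw2, hw3, hw4, e0, e1, e2, e3, e4, r01, r02, r03, r04, r10, r12, r13, r14, r20, r21, r23, r24, r30, r31, r32, r34, r40, r41, r42, r43, s01, s02, s03, s04, s12, s13, s14, s23, s24, s34, p01, p02, p03, p04, p12, p13, p14, p23, p24, p34, v0, v1, v2, v3, v4, k01, k02, k03, k04, k12, k13, k14, k23, k24, k34, c01, c02, c03, c04, c12, c13, c14, c23, c24, c34, HA⟩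
    · exact part51 T α03 α04 α12 α13 α14 α21 α23 α24 α30 α31 α32 α34 α40 α41 α42 α43 ⟨hm0, hm1, hm2, hm3, hm4, hw0, hw1, hw2, hw3, hw4, e0, e1, e2, e3, e4, r01, r02, r03, r04, r10, r12, r13, r14, r20, r21, r23, r24, r30, r31, r32, r34, r40, r41, r42, r43, s01, s02, s03, s04, s12, s13, s14, s23, s24, s34, p01, p02, p03, p04, p12, p13, p14, p23, p24, p34, v0, v1, v2, v3, v4, k01, k02, k03, k04, k12, k13, k14, k23, k24, k34, c01, c02, c03, c04, c12, c13, c14, c23, c24, c34, HA⟩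
    · exact part52 T α03 α04 α12 α13 α14 α21 α23 α24 α30 α31 α32 α34 α40 α41 α42 α43 ⟨hm0, hm1, hm2, hm3, hm4, hw0, hw1, hw2, hw3, hw4, e0, e1, e2, e3, e4, r01, r02, r03, r04, r10, r12, r13, r14, r20, r21, r23, r24, r30, r31, r32, r34, r40, r41, r42, r43, s01, s02, s03, s04, s12, s13, s14, s23, s24, s34, p01, p02, p03, p04, p12, p13, p14, p23, p24, p34, v0, v1, v2, v3, v4, k01, k02, k03, k04, k12, k13, k14, k23, k24, k34, c01, c02, c03, c04, c12, c13, c14, c23, c24, c34, HA⟩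
    · exact part53 T α03 α04 α12 α13 α14 α21 α23 α24 α30 α31 α32 α34 α40 α41 α42 α43 ⟨hm0, hm1, hm2, hm3, hm4, hw0, hw1, hw2, hw3, hw4, e0, e1, e2, e3, e4, r01, r02, r03, r04, r10, r12, r13, r14, r20, r21, r23, r24, r30, r31, r32, r34, r40, r41, r42, r43, s01, s02, s03, s04, s12, s13, s14, s23, s24, s34, p01, p02, p03, p04, p12, p13, p14, p23, p24, p34, v0, v1, v2, v3, v4, k01, k02, k03, k04, k12, k13, k14, k23, k24, k34, c01, c02, c03, c04, c12, c13, c14, c23, c24, c34, HA⟩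
    · exact part54 T α03 α04 α12 α13 α14 α21 α23 α24 α30 α31 α32 α34 α40 α41 α42 α43 ⟨hm0, hm1, hm2, hm3, hm4, hw0, hw1, hw2, hw3, hw4, e0, e1, e2, e3, e4, r01, r02, r03, r04, r10, r12, r13, r14, r20, r21, r23, r24, r30, r31, r32, r34, r40, r41, r42, r43, s01, s02, s03, s04, s12, s13, s14, s23, s24, s34, p01, p02, p03, p04, p12, p13, p14, p23, p24, p34, v0, v1, v2, v3, v4, k01, k02, k03, k04, k12, k13, k14, k23, k24, k34, c01, c02, c03, c04, c12, c13, c14, c23, c24, c34, HA⟩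
  · exact part55 T α02 α03 α04 α12 α13 α14 α20 α21 α23 α24 α30 α31 α32 α34 α40 α41 α42 α43 ⟨hm0, hm1, hm2, hm3, hm4, hw0, hw1, hw2, hw3, hw4, e0, e1, e2, e3, e4, r01, r02, r03, r04, r10, r12, r13, r14, r20, r21, r23, r24, r30, r31, r32, r34, r40, r41, r42, r43, s01, s02, s03, s04, s12, s13, s14, s23, s24, s34, p01, p02, p03, p04, p12, p13, p14, p23, p24, p34, v0, v1, v2, v3, v4, k01, k02, k03, k04, k12, k13, k14, k23, k24, k34, c01, c02, c03, c04, c12, c13, c14, c23, c24, c34, HA⟩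
  · exact part56 T α02 α03 α04 α12 α13 α14 α20 α21 α23 α24 α30 α31 α32 α34 α40 α41 α42 α43 ⟨hm0, hm1, hm2, hm3, hm4, hw0, hw1, hw2, hw3, hw4, e0, e1, e2, e3, e4, r01, r02, r03, r04, r10, r12, r13, r14, r20, r21, r23, r24, r30, r31, r32, r34, r40, r41, r42, r43, s01, s02, s03, s04, s12, s13, s14, s23, s24, s34, p01, p02, p03, p04, p12, p13, p14, p23, p24, p34, v0, v1, v2, v3, v4, k01, k02, k03, k04, k12, k13, k14, k23, k24, k34, c01, c02, c03, c04, c12, c13, c14, c23, c24, c34, HA⟩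
  · exact part57 T α02 α03 α04 α12 α13 α14 α20 α21 α23 α24 α30 α31 α32 α34 α40 α41 α42 α43 ⟨hm0, hm1, hm2, hm3, hm4, hw0, hw1, hw2, hw3, hw4, e0, e1, e2, e3, e4, r01, r02, r03, r04, r10, r12, r13, r14, r20, r21, r23, r24, r30, r31, r32, r34, r40, r41, r42, r43, s01, s02, s03, s04, s12, s13, s14, s23, s24, s34, p01, p02, p03, p04, p12, p13, p14, p23, p24, p34, v0, v1, v2, v3, v4, k01, k02, k03, k04, k12, k13, k14, k23, k24, k34, c01, c02, c03, c04, c12, c13, c14, c23, c24, c34, HA⟩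
  · exact part58 T α02 α03 α04 α12 α13 α14 α20 α21 α23 α24 α30 α31 α32 α34 α40 α41 α42 α43 ⟨hm0, hm1, hm2, hm3, hm4, hw0, hw1, hw2, hw3, hw4, e0, e1, e2, e3, e4, r01, r02, r03, r04, r10, r12, r13, r14, r20, r21, r23, r24, r30, r31, r32, r34, r40, r41, r42, r43, s01, s02, s03, s04, s12, s13, s14, s23, s24, s34, p01, p02, p03, p04, p12, p13, p14, p23, p24, p34, v0, v1, v2, v3, v4, k01, k02, k03, k04, k12, k13, k14, k23, k24, k34, c01, c02, c03, c04, c12, c13, c14, c23, c24, c34, HA⟩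
  · exact part59 T α02 α03 α04 α12 α13 α14 α20 α21 α23 α24 α30 α31 α32 α34 α40 α41 α42 α43 ⟨hm0, hm1, hm2, hm3, hm4, hw0, hw1, hw2, hw3, hw4, e0, e1, e2, e3, e4, r01, r02, r03, r04, r10, r12, r13, r14, r20, r21, r23, r24, r30, r31, r32, r34, r40, r41, r42, r43, s01, s02, s03, s04, s12, s13, s14, s23, s24, s34, p01, p02, p03, p04, p12, p13, p14, p23, p24, p34, v0, v1, v2, v3, v4, k01, k02, k03, k04, k12, k13, k14, k23, k24, k34, c01, c02, c03, c04, c12, c13, c14, c23, c24, c34, HA⟩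
  · exact part60 T α02 α03 α04 α12 α13 α14 α20 α21 α23 α24 α30 α31 α32 α34 α40 α41 α42 α43 ⟨hm0, hm1, hm2, hm3, hm4, hw0, hw1, hw2, hw3, hw4, e0, e1, e2, e3, e4, r01, r02, r03, r04, r10, r12, r13, r14, r20, r21, r23, r24, r30, r31, r32, r34, r40, r41, r42, r43, s01, s02, s03, s04, s12, s13, s14, s23, s24, s34, p01, p02, p03, p04, p12, p13, p14, p23, p24, p34, v0, v1, v2, v3, v4, k01, k02, k03, k04, k12, k13, k14, k23, k24, k34, c01, c02, c03, c04, c12, c13, c14, c23, c24, c34, HA⟩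
  · exact part61 T α02 α03 α04 α12 α13 α14 α20 α21 α23 α24 α30 α31 α32 α34 α40 α41 α42 α43 ⟨hm0, hm1, hm2, hm3, hm4, hw0, hw1, hw2, hw3, hw4, e0, e1, e2, e3, e4, r01, r02, r03, r04, r10, r12, r13, r14, r20, r21, r23, r24, r30, r31, r32, r34, r40, r41, r42, r43, s01, s02, s03, s04, s12, s13, s14, s23, s24, s34, p01, p02, p03, p04, p12, p13, p14, p23, p24, p34, v0, v1, v2, v3, v4, k01, k02, k03, k04, k12, k13, k14, k23, k24, k34, c01, c02, c03, c04, c12, c13, c14, c23, c24, c34, HA⟩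

/-- Genus one classification: case n = 5: let T be a minimal numerical type of genus 1 on 5 indices.
Then all g_i = 0 and, for some permutation σ of the indices and some integers m, w, the
multiplicities, weights and intersection matrix (m_{σ(i)}, w_{σ(i)}, a_{σ(i)σ(j)}) are those of one
of the following 9 types: [five cycle] m = (m, m, m, m, m), w = (w, w, w, w, w), a = (-2 * w w 0 0 w
/ w -2 * w w 0 0 / 0 w -2 * w w 0 / 0 0 w -2 * w w / w 0 0 w -2 * w); [equal equal up equal] m = (m,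
2 * m, 3 * m, 2 * m, m), w = (w, w, w, 2 * w, 2 * w), a = (-2 * w w 0 0 0 / w -2 * w w 0 0 / 0 w -2
* w 2 * w 0 / 0 0 2 * w -4 * w 2 * w / 0 0 0 2 * w -4 * w); [equal equal down equal] m = (m, 2 * m,
3 * m, 4 * m, 2 * m), w = (2 * w, 2 * w, 2 * w, w, w), a = (-4 * w 2 * w 0 0 0 / 2 * w -4 * w 2 * w
0 0 / 0 2 * w -4 * w 2 * w 0 / 0 0 2 * w -2 * w w / 0 0 0 w -2 * w); [up equal equal up] m = (2 * m,
2 * m, 2 * m, 2 * m, m), w = (w, 2 * w, 2 * w, 2 * w, 4 * w), a = (-2 * w 2 * w 0 0 0 / 2 * w -4 * w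
2 * w 0 0 / 0 2 * w -4 * w 2 * w 0 / 0 0 2 * w -4 * w 4 * w / 0 0 0 4 * w -8 * w); [up equal equal
down] m = (m, m, m, m, m), w = (w, 2 * w, 2 * w, 2 * w, w), a = (-2 * w 2 * w 0 0 0 / 2 * w -4 * w 2
* w 0 0 / 0 2 * w -4 * w 2 * w 0 / 0 0 2 * w -4 * w 2 * w / 0 0 0 2 * w -2 * w); [down equal equal
up] m = (m, 2 * m, 2 * m, 2 * m, m), w = (2 * w, w, w, w, 2 * w), a = (-4 * w 2 * w 0 0 0 / 2 * w -2
* w w 0 0 / 0 w -2 * w w 0 / 0 0 w -2 * w 2 * w / 0 0 0 2 * w -4 * w); [quadruple] m = (2 * m, m, m,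
m, m), w = (w, w, w, w, w), a = (-2 * w w w w w / w -2 * w 0 0 0 / w 0 -2 * w 0 0 / w 0 0 -2 * w 0 /
w 0 0 0 -2 * w); [triple extended up] m = (m, 2 * m, 2 * m, m, m), w = (2 * w, w, w, w, w), a = (-4
* w 2 * w 0 0 0 / 2 * w -2 * w w 0 0 / 0 w -2 * w w w / 0 0 w -2 * w 0 / 0 0 w 0 -2 * w); [triple
extended down] m = (2 * m, 2 * m, 2 * m, m, m), w = (w, 2 * w, 2 * w, 2 * w, 2 * w), a = (-2 * w 2 *
w 0 0 0 / 2 * w -4 * w 2 * w 0 0 / 0 2 * w -4 * w 2 * w 2 * w / 0 0 2 * w -4 * w 0 / 0 0 2 * w 0 -4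
* w). Only the classification direction is stated. -/
theorem result (T : Models.NumericalType 5) (hmin : T.IsMinimal) (hg : T.genus = 1) :
    (∀ i, T.g i = 0) ∧ ∃ (σ : Equiv.Perm (Fin 5)) (m w : ℤ),
      ((T.m (σ 0) = m ∧ T.m (σ 1) = m ∧ T.m (σ 2) = m ∧ T.m (σ 3) = m ∧ T.m (σ 4) = m ∧ T.w (σ 0) = w ∧ T.w (σ 1) = w ∧ T.w (σ 2) = w ∧ T.w (σ 3) = w ∧ T.w (σ 4) = w ∧ T.a (σ 0) (σ 0) = -2 * w ∧ T.a (σ 0) (σ 1) = w ∧ T.a (σ 0) (σ 2) = 0 ∧ T.a (σ 0) (σ 3) = 0 ∧ T.a (σ 0) (σ 4) = w ∧ T.a (σ 1) (σ 1) = -2 * w ∧ T.a (σ 1) (σ 2) = w ∧ T.a (σ 1) (σ 3) = 0 ∧ T.a (σ 1) (σ 4) = 0 ∧ T.a (σ 2) (σ 2) = -2 * w ∧ T.a (σ 2) (σ 3) = w ∧ T.a (σ 2) (σ 4) = 0 ∧ T.a (σ 3) (σ 3) = -2 * w ∧ T.a (σ 3) (σ 4) = w ∧ T.a (σ 4) (σ 4) = -2 * w) ∨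
      (T.m (σ 0) = m ∧ T.m (σ 1) = 2 * m ∧ T.m (σ 2) = 3 * m ∧ T.m (σ 3) = 2 * m ∧ T.m (σ 4) = m ∧ T.w (σ 0) = w ∧ T.w (σ 1) = w ∧ T.w (σ 2) = w ∧ T.w (σ 3) = 2 * w ∧ T.w (σ 4) = 2 * w ∧ T.a (σ 0) (σ 0) = -2 * w ∧ T.a (σ 0) (σ 1) = w ∧ T.a (σ 0) (σ 2) = 0 ∧ T.a (σ 0) (σ 3) = 0 ∧ T.a (σ 0) (σ 4) = 0 ∧ T.a (σ 1) (σ 1) = -2 * w ∧ T.a (σ 1) (σ 2) = w ∧ T.a (σ 1) (σ 3) = 0 ∧ T.a (σ 1) (σ 4) = 0 ∧ T.a (σ 2) (σ 2) = -2 * w ∧ T.a (σ 2) (σ 3) = 2 * w ∧ T.a (σ 2) (σ 4) = 0 ∧ T.a (σ 3) (σ 3) = -4 * w ∧ T.a (σ 3) (σ 4) = 2 * w ∧ T.a (σ 4) (σ 4) = -4 * w) ∨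
      (T.m (σ 0) = m ∧ T.m (σ 1) = 2 * m ∧ T.m (σ 2) = 3 * m ∧ T.m (σ 3) = 4 * m ∧ T.m (σ 4) = 2 * m ∧ T.w (σ 0) = 2 * w ∧ T.w (σ 1) = 2 * w ∧ T.w (σ 2) = 2 * w ∧ T.w (σ 3) = w ∧ T.w (σ 4) = w ∧ T.a (σ 0) (σ 0) = -4 * w ∧ T.a (σ 0) (σ 1) = 2 * w ∧ T.a (σ 0) (σ 2) = 0 ∧ T.a (σ 0) (σ 3) = 0 ∧ T.a (σ 0) (σ 4) = 0 ∧ T.a (σ 1) (σ 1) = -4 * w ∧ T.a (σ 1) (σ 2) = 2 * w ∧ T.a (σ 1) (σ 3) = 0 ∧ T.a (σ 1) (σ 4) = 0 ∧ T.a (σ 2) (σ 2) = -4 * w ∧ T.a (σ 2) (σ 3) = 2 * w ∧ T.a (σ 2) (σ 4) = 0 ∧ T.a (σ 3) (σ 3) = -2 * w ∧ T.a (σ 3) (σ 4) = w ∧ T.a (σ 4) (σ 4) = -2 * w) ∨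
      (T.m (σ 0) = 2 * m ∧ T.m (σ 1) = 2 * m ∧ T.m (σ 2) = 2 * m ∧ T.m (σ 3) = 2 * m ∧ T.m (σ 4) = m ∧ T.w (σ 0) = w ∧ T.w (σ 1) = 2 * w ∧ T.w (σ 2) = 2 * w ∧ T.w (σ 3) = 2 * w ∧ T.w (σ 4) = 4 * w ∧ T.a (σ 0) (σ 0) = -2 * w ∧ T.a (σ 0) (σ 1) = 2 * w ∧ T.a (σ 0) (σ 2) = 0 ∧ T.a (σ 0) (σ 3) = 0 ∧ T.a (σ 0) (σ 4) = 0 ∧ T.a (σ 1) (σ 1) = -4 * w ∧ T.a (σ 1) (σ 2) = 2 * w ∧ T.a (σ 1) (σ 3) = 0 ∧ T.a (σ 1) (σ 4) = 0 ∧ T.a (σ 2) (σ 2) = -4 * w ∧ T.a (σ 2) (σ 3) = 2 * w ∧ T.a (σ 2) (σ 4) = 0 ∧ T.a (σ 3) (σ 3) = -4 * w ∧ T.a (σ 3) (σ 4) = 4 * w ∧ T.a (σ 4) (σ 4) = -8 * w) ∨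
      (T.m (σ 0) = m ∧ T.m (σ 1) = m ∧ T.m (σ 2) = m ∧ T.m (σ 3) = m ∧ T.m (σ 4) = m ∧ T.w (σ 0) = w ∧ T.w (σ 1) = 2 * w ∧ T.w (σ 2) = 2 * w ∧ T.w (σ 3) = 2 * w ∧ T.w (σ 4) = w ∧ T.a (σ 0) (σ 0) = -2 * w ∧ T.a (σ 0) (σ 1) = 2 * w ∧ T.a (σ 0) (σ 2) = 0 ∧ T.a (σ 0) (σ 3) = 0 ∧ T.a (σ 0) (σ 4) = 0 ∧ T.a (σ 1) (σ 1) = -4 * w ∧ T.a (σ 1) (σ 2) = 2 * w ∧ T.a (σ 1) (σ 3) = 0 ∧ T.a (σ 1) (σ 4) = 0 ∧ T.a (σ 2) (σ 2) = -4 * w ∧ T.a (σ 2) (σ 3) = 2 * w ∧ T.a (σ 2) (σ 4) = 0 ∧ T.a (σ 3) (σ 3) = -4 * w ∧ T.a (σ 3) (σ 4) = 2 * w ∧ T.a (σ 4) (σ 4) = -2 * w) ∨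
      (T.m (σ 0) = m ∧ T.m (σ 1) = 2 * m ∧ T.m (σ 2) = 2 * m ∧ T.m (σ 3) = 2 * m ∧ T.m (σ 4) = m ∧ T.w (σ 0) = 2 * w ∧ T.w (σ 1) = w ∧ T.w (σ 2) = w ∧ T.w (σ 3) = w ∧ T.w (σ 4) = 2 * w ∧ T.a (σ 0) (σ 0) = -4 * w ∧ T.a (σ 0) (σ 1) = 2 * w ∧ T.a (σ 0) (σ 2) = 0 ∧ T.a (σ 0) (σ 3) = 0 ∧ T.a (σ 0) (σ 4) = 0 ∧ T.a (σ 1) (σ 1) = -2 * w ∧ T.a (σ 1) (σ 2) = w ∧ T.a (σ 1) (σ 3) = 0 ∧ T.a (σ 1) (σ 4) = 0 ∧ T.a (σ 2) (σ 2) = -2 * w ∧ T.a (σ 2) (σ 3) = w ∧ T.a (σ 2) (σ 4) = 0 ∧ T.a (σ 3) (σ 3) = -2 * w ∧ T.a (σ 3) (σ 4) = 2 * w ∧ T.a (σ 4) (σ 4) = -4 * w) ∨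
      (T.m (σ 0) = 2 * m ∧ T.m (σ 1) = m ∧ T.m (σ 2) = m ∧ T.m (σ 3) = m ∧ T.m (σ 4) = m ∧ T.w (σ 0) = w ∧ T.w (σ 1) = w ∧ T.w (σ 2) = w ∧ T.w (σ 3) = w ∧ T.w (σ 4) = w ∧ T.a (σ 0) (σ 0) = -2 * w ∧ T.a (σ 0) (σ 1) = w ∧ T.a (σ 0) (σ 2) = w ∧ T.a (σ 0) (σ 3) = w ∧ T.a (σ 0) (σ 4) = w ∧ T.a (σ 1) (σ 1) = -2 * w ∧ T.a (σ 1) (σ 2) = 0 ∧ T.a (σ 1) (σ 3) = 0 ∧ T.a (σ 1) (σ 4) = 0 ∧ T.a (σ 2) (σ 2) = -2 * w ∧ T.a (σ 2) (σ 3) = 0 ∧ T.a (σ 2) (σ 4) = 0 ∧ T.a (σ 3) (σ 3) = -2 * w ∧ T.a (σ 3) (σ 4) = 0 ∧ T.a (σ 4) (σ 4) = -2 * w) ∨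
      (T.m (σ 0) = m ∧ T.m (σ 1) = 2 * m ∧ T.m (σ 2) = 2 * m ∧ T.m (σ 3) = m ∧ T.m (σ 4) = m ∧ T.w (σ 0) = 2 * w ∧ T.w (σ 1) = w ∧ T.w (σ 2) = w ∧ T.w (σ 3) = w ∧ T.w (σ 4) = w ∧ T.a (σ 0) (σ 0) = -4 * w ∧ T.a (σ 0) (σ 1) = 2 * w ∧ T.a (σ 0) (σ 2) = 0 ∧ T.a (σ 0) (σ 3) = 0 ∧ T.a (σ 0) (σ 4) = 0 ∧ T.a (σ 1) (σ 1) = -2 * w ∧ T.a (σ 1) (σ 2) = w ∧ T.a (σ 1) (σ 3) = 0 ∧ T.a (σ 1) (σ 4) = 0 ∧ T.a (σ 2) (σ 2) = -2 * w ∧ T.a (σ 2) (σ 3) = w ∧ T.a (σ 2) (σ 4) = w ∧ T.a (σ 3) (σ 3) = -2 * w ∧ T.a (σ 3) (σ 4) = 0 ∧ T.a (σ 4) (σ 4) = -2 * w) ∨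
      (T.m (σ 0) = 2 * m ∧ T.m (σ 1) = 2 * m ∧ T.m (σ 2) = 2 * m ∧ T.m (σ 3) = m ∧ T.m (σ 4) = m ∧ T.w (σ 0) = w ∧ T.w (σ 1) = 2 * w ∧ T.w (σ 2) = 2 * w ∧ T.w (σ 3) = 2 * w ∧ T.w (σ 4) = 2 * w ∧ T.a (σ 0) (σ 0) = -2 * w ∧ T.a (σ 0) (σ 1) = 2 * w ∧ T.a (σ 0) (σ 2) = 0 ∧ T.a (σ 0) (σ 3) = 0 ∧ T.a (σ 0) (σ 4) = 0 ∧ T.a (σ 1) (σ 1) = -4 * w ∧ T.a (σ 1) (σ 2) = 2 * w ∧ T.a (σ 1) (σ 3) = 0 ∧ T.a (σ 1) (σ 4) = 0 ∧ T.a (σ 2) (σ 2) = -4 * w ∧ T.a (σ 2) (σ 3) = 2 * w ∧ T.a (σ 2) (σ 4) = 2 * w ∧ T.a (σ 3) (σ 3) = -4 * w ∧ T.a (σ 3) (σ 4) = 0 ∧ T.a (σ 4) (σ 4) = -4 * w)) := by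
  exact main5 T hmin hg

end Groth.Agent.S7365
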