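import Groth.Statements.S7368
import Mathlib
import Groth.Agent.S7362
import Groth.Agent.Lib.Helper20.NumPerm
import Groth.Agent.Lib.Helper20.G1n7Top

set_option autoImplicit false
open Finset
open Models Models.NumericalType

namespace Groth.Agent.S7368

open Groth.Agent.Lib.helper20.G1n7 in
set_option maxHeartbeats 0 in
theorem core (T : Models.NumericalType 7) (hall : ∀ i, T.IsMinusTwo i)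
    (hmin0 : ∀ j, T.m 0 ≤ T.m j)
    (hord : ∀ j : Fin 7, 0 < j.val → ∃ i : Fin 7, i.val < j.val ∧ T.a i j ≠ 0) :
    Groth.Agent.Lib.helper20.G1n7.Goal T := by
  obtain ⟨hg0, ha00⟩ := hall 0
  obtain ⟨hg1, ha11⟩ := hall 1
  obtain ⟨hg2, ha22⟩ := hall 2
  obtain ⟨hg3, ha33⟩ := hall 3
  obtain ⟨hg4, ha44⟩ := hall 4
  obtain ⟨hg5, ha55⟩ := hall 5
  obtain ⟨hg6, ha66⟩ := hall 6
  have hs : ∀ i j, T.a i j = T.a j i := fun i j => congrFun (congrFun T.symm j) i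
  have hm0 := T.m_pos 0
  have hm1 := T.m_pos 1
  have hm2 := T.m_pos 2
  have hm3 := T.m_pos 3
  have hm4 := T.m_pos 4
  have hm5 := T.m_pos 5
  have hm6 := T.m_pos 6
  have hw0 := T.w_pos 0
  have hw1 := T.w_pos 1
  have hw2 := T.w_pos 2
  have hw3 := T.w_pos 3
  have hw4 := T.w_pos 4
  have hw5 := T.w_pos 5
  have hw6 := T.w_pos 6
  have om1 : T.m 0 ≤ T.m 1 := hmin0 1
  have om2 : T.m 0 ≤ T.m 2 := hmin0 2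
  have om3 : T.m 0 ≤ T.m 3 := hmin0 3
  have om4 : T.m 0 ≤ T.m 4 := hmin0 4
  have om5 : T.m 0 ≤ T.m 5 := hmin0 5
  have om6 : T.m 0 ≤ T.m 6 := hmin0 6
  have hrow : ∀ i, T.a i 0 * T.m 0 + T.a i 1 * T.m 1 + T.a i 2 * T.m 2 + T.a i 3 * T.m 3 + T.a i 4 * T.m 4 + T.a i 5 * T.m 5 + T.a i 6 * T.m 6 = 0 := by
    intro i
    have := congrFun T.mulVec_m i
    simpa [Matrix.mulVec, dotProduct, Fin.sum_univ_seven] using this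
  obtain ⟨α01, h01⟩ := T.w_dvd 0 1
  obtain ⟨α02, h02⟩ := T.w_dvd 0 2
  obtain ⟨α03, h03⟩ := T.w_dvd 0 3
  obtain ⟨α04, h04⟩ := T.w_dvd 0 4
  obtain ⟨α05, h05⟩ := T.w_dvd 0 5
  obtain ⟨α06, h06⟩ := T.w_dvd 0 6
  obtain ⟨α10, h10⟩ := T.w_dvd 1 0
  obtain ⟨α12, h12⟩ := T.w_dvd 1 2
  obtain ⟨α13, h13⟩ := T.w_dvd 1 3
  obtain ⟨α14, h14⟩ := T.w_dvd 1 4
  obtain ⟨α15, h15⟩ := T.w_dvd 1 5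
  obtain ⟨α16, h16⟩ := T.w_dvd 1 6
  obtain ⟨α20, h20⟩ := T.w_dvd 2 0
  obtain ⟨α21, h21⟩ := T.w_dvd 2 1
  obtain ⟨α23, h23⟩ := T.w_dvd 2 3
  obtain ⟨α24, h24⟩ := T.w_dvd 2 4
  obtain ⟨α25, h25⟩ := T.w_dvd 2 5
  obtain ⟨α26, h26⟩ := T.w_dvd 2 6
  obtain ⟨α30, h30⟩ := T.w_dvd 3 0
  obtain ⟨α31, h31⟩ := T.w_dvd 3 1
  obtain ⟨α32, h32⟩ := T.w_dvd 3 2
  obtain ⟨α34, h34⟩ := T.w_dvd 3 4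
  obtain ⟨α35, h35⟩ := T.w_dvd 3 5
  obtain ⟨α36, h36⟩ := T.w_dvd 3 6
  obtain ⟨α40, h40⟩ := T.w_dvd 4 0
  obtain ⟨α41, h41⟩ := T.w_dvd 4 1
  obtain ⟨α42, h42⟩ := T.w_dvd 4 2
  obtain ⟨α43, h43⟩ := T.w_dvd 4 3
  obtain ⟨α45, h45⟩ := T.w_dvd 4 5
  obtain ⟨α46, h46⟩ := T.w_dvd 4 6
  obtain ⟨α50, h50⟩ := T.w_dvd 5 0
  obtain ⟨α51, h51⟩ := T.w_dvd 5 1
  obtain ⟨α52, h52⟩ := T.w_dvd 5 2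
  obtain ⟨α53, h53⟩ := T.w_dvd 5 3
  obtain ⟨α54, h54⟩ := T.w_dvd 5 4
  obtain ⟨α56, h56⟩ := T.w_dvd 5 6
  obtain ⟨α60, h60⟩ := T.w_dvd 6 0
  obtain ⟨α61, h61⟩ := T.w_dvd 6 1
  obtain ⟨α62, h62⟩ := T.w_dvd 6 2
  obtain ⟨α63, h63⟩ := T.w_dvd 6 3
  obtain ⟨α64, h64⟩ := T.w_dvd 6 4
  obtain ⟨α65, h65⟩ := T.w_dvd 6 5
  have nn : ∀ (i j : Fin 7) (α : ℤ), i ≠ j → T.a i j = T.w i * α → 0 ≤ α := by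
    intro i j α hij h
    have h1 := T.offDiag_nonneg i j hij
    rw [h] at h1
    by_contra hneg
    have : T.w i * α < 0 := mul_neg_of_pos_of_neg (T.w_pos i) (not_le.1 hneg)
    omega
  have n01 := nn 0 1 α01 (by decide) h01
  have n02 := nn 0 2 α02 (by decide) h02
  have n03 := nn 0 3 α03 (by decide) h03
  have n04 := nn 0 4 α04 (by decide) h04
  have n05 := nn 0 5 α05 (by decide) h05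
  have n06 := nn 0 6 α06 (by decide) h06
  have n10 := nn 1 0 α10 (by decide) h10
  have n12 := nn 1 2 α12 (by decide) h12
  have n13 := nn 1 3 α13 (by decide) h13
  have n14 := nn 1 4 α14 (by decide) h14
  have n15 := nn 1 5 α15 (by decide) h15
  have n16 := nn 1 6 α16 (by decide) h16
  have n20 := nn 2 0 α20 (by decide) h20
  have n21 := nn 2 1 α21 (by decide) h21
  have n23 := nn 2 3 α23 (by decide) h23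
  have n24 := nn 2 4 α24 (by decide) h24
  have n25 := nn 2 5 α25 (by decide) h25
  have n26 := nn 2 6 α26 (by decide) h26
  have n30 := nn 3 0 α30 (by decide) h30
  have n31 := nn 3 1 α31 (by decide) h31
  have n32 := nn 3 2 α32 (by decide) h32
  have n34 := nn 3 4 α34 (by decide) h34
  have n35 := nn 3 5 α35 (by decide) h35
  have n36 := nn 3 6 α36 (by decide) h36
  have n40 := nn 4 0 α40 (by decide) h40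
  have n41 := nn 4 1 α41 (by decide) h41
  have n42 := nn 4 2 α42 (by decide) h42
  have n43 := nn 4 3 α43 (by decide) h43
  have n45 := nn 4 5 α45 (by decide) h45
  have n46 := nn 4 6 α46 (by decide) h46
  have n50 := nn 5 0 α50 (by decide) h50
  have n51 := nn 5 1 α51 (by decide) h51
  have n52 := nn 5 2 α52 (by decide) h52
  have n53 := nn 5 3 α53 (by decide) h53
  have n54 := nn 5 4 α54 (by decide) h54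
  have n56 := nn 5 6 α56 (by decide) h56
  have n60 := nn 6 0 α60 (by decide) h60
  have n61 := nn 6 1 α61 (by decide) h61
  have n62 := nn 6 2 α62 (by decide) h62
  have n63 := nn 6 3 α63 (by decide) h63
  have n64 := nn 6 4 α64 (by decide) h64
  have n65 := nn 6 5 α65 (by decide) h65
  have e0' : α01 * T.m 1 + α02 * T.m 2 + α03 * T.m 3 + α04 * T.m 4 + α05 * T.m 5 + α06 * T.m 6 = 2 * T.m 0 := by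
    have h := hrow 0
    rw [ha00, h01, h02, h03, h04, h05, h06] at h
    have : T.w 0 * (α01 * T.m 1 + α02 * T.m 2 + α03 * T.m 3 + α04 * T.m 4 + α05 * T.m 5 + α06 * T.m 6 - 2 * T.m 0) = 0 := by linarith
    rcases mul_eq_zero.1 this with h' | h'
    · exact absurd h' hw0.ne'
    · linarith
  have e1' : α10 * T.m 0 + α12 * T.m 2 + α13 * T.m 3 + α14 * T.m 4 + α15 * T.m 5 + α16 * T.m 6 = 2 * T.m 1 := by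
    have h := hrow 1
    rw [ha11, h10, h12, h13, h14, h15, h16] at h
    have : T.w 1 * (α10 * T.m 0 + α12 * T.m 2 + α13 * T.m 3 + α14 * T.m 4 + α15 * T.m 5 + α16 * T.m 6 - 2 * T.m 1) = 0 := by linarith
    rcases mul_eq_zero.1 this with h' | h'
    · exact absurd h' hw1.ne'
    · linarith
  have e2' : α20 * T.m 0 + α21 * T.m 1 + α23 * T.m 3 + α24 * T.m 4 + α25 * T.m 5 + α26 * T.m 6 = 2 * T.m 2 := by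
    have h := hrow 2
    rw [ha22, h20, h21, h23, h24, h25, h26] at h
    have : T.w 2 * (α20 * T.m 0 + α21 * T.m 1 + α23 * T.m 3 + α24 * T.m 4 + α25 * T.m 5 + α26 * T.m 6 - 2 * T.m 2) = 0 := by linarith
    rcases mul_eq_zero.1 this with h' | h'
    · exact absurd h' hw2.ne'
    · linarith
  have e3' : α30 * T.m 0 + α31 * T.m 1 + α32 * T.m 2 + α34 * T.m 4 + α35 * T.m 5 + α36 * T.m 6 = 2 * T.m 3 := by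
    have h := hrow 3
    rw [ha33, h30, h31, h32, h34, h35, h36] at h
    have : T.w 3 * (α30 * T.m 0 + α31 * T.m 1 + α32 * T.m 2 + α34 * T.m 4 + α35 * T.m 5 + α36 * T.m 6 - 2 * T.m 3) = 0 := by linarith
    rcases mul_eq_zero.1 this with h' | h'
    · exact absurd h' hw3.ne'
    · linarith
  have e4' : α40 * T.m 0 + α41 * T.m 1 + α42 * T.m 2 + α43 * T.m 3 + α45 * T.m 5 + α46 * T.m 6 = 2 * T.m 4 := by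
    have h := hrow 4
    rw [ha44, h40, h41, h42, h43, h45, h46] at h
    have : T.w 4 * (α40 * T.m 0 + α41 * T.m 1 + α42 * T.m 2 + α43 * T.m 3 + α45 * T.m 5 + α46 * T.m 6 - 2 * T.m 4) = 0 := by linarith
    rcases mul_eq_zero.1 this with h' | h'
    · exact absurd h' hw4.ne'
    · linarith
  have e5' : α50 * T.m 0 + α51 * T.m 1 + α52 * T.m 2 + α53 * T.m 3 + α54 * T.m 4 + α56 * T.m 6 = 2 * T.m 5 := by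
    have h := hrow 5
    rw [ha55, h50, h51, h52, h53, h54, h56] at h
    have : T.w 5 * (α50 * T.m 0 + α51 * T.m 1 + α52 * T.m 2 + α53 * T.m 3 + α54 * T.m 4 + α56 * T.m 6 - 2 * T.m 5) = 0 := by linarith
    rcases mul_eq_zero.1 this with h' | h'
    · exact absurd h' hw5.ne'
    · linarith
  have e6' : α60 * T.m 0 + α61 * T.m 1 + α62 * T.m 2 + α63 * T.m 3 + α64 * T.m 4 + α65 * T.m 5 = 2 * T.m 6 := by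
    have h := hrow 6
    rw [ha66, h60, h61, h62, h63, h64, h65] at h
    have : T.w 6 * (α60 * T.m 0 + α61 * T.m 1 + α62 * T.m 2 + α63 * T.m 3 + α64 * T.m 4 + α65 * T.m 5 - 2 * T.m 6) = 0 := by linarith
    rcases mul_eq_zero.1 this with h' | h'
    · exact absurd h' hw6.ne'
    · linarith
  have s01 : T.w 0 * α01 = T.w 1 * α10 := by rw [← h01, ← h10, hs 0 1]
  have s02 : T.w 0 * α02 = T.w 2 * α20 := by rw [← h02, ← h20, hs 0 2]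
  have s03 : T.w 0 * α03 = T.w 3 * α30 := by rw [← h03, ← h30, hs 0 3]
  have s04 : T.w 0 * α04 = T.w 4 * α40 := by rw [← h04, ← h40, hs 0 4]
  have s05 : T.w 0 * α05 = T.w 5 * α50 := by rw [← h05, ← h50, hs 0 5]
  have s06 : T.w 0 * α06 = T.w 6 * α60 := by rw [← h06, ← h60, hs 0 6]
  have s12 : T.w 1 * α12 = T.w 2 * α21 := by rw [← h12, ← h21, hs 1 2]
  have s13 : T.w 1 * α13 = T.w 3 * α31 := by rw [← h13, ← h31, hs 1 3]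
  have s14 : T.w 1 * α14 = T.w 4 * α41 := by rw [← h14, ← h41, hs 1 4]
  have s15 : T.w 1 * α15 = T.w 5 * α51 := by rw [← h15, ← h51, hs 1 5]
  have s16 : T.w 1 * α16 = T.w 6 * α61 := by rw [← h16, ← h61, hs 1 6]
  have s23 : T.w 2 * α23 = T.w 3 * α32 := by rw [← h23, ← h32, hs 2 3]
  have s24 : T.w 2 * α24 = T.w 4 * α42 := by rw [← h24, ← h42, hs 2 4]
  have s25 : T.w 2 * α25 = T.w 5 * α52 := by rw [← h25, ← h52, hs 2 5]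
  have s26 : T.w 2 * α26 = T.w 6 * α62 := by rw [← h26, ← h62, hs 2 6]
  have s34 : T.w 3 * α34 = T.w 4 * α43 := by rw [← h34, ← h43, hs 3 4]
  have s35 : T.w 3 * α35 = T.w 5 * α53 := by rw [← h35, ← h53, hs 3 5]
  have s36 : T.w 3 * α36 = T.w 6 * α63 := by rw [← h36, ← h63, hs 3 6]
  have s45 : T.w 4 * α45 = T.w 5 * α54 := by rw [← h45, ← h54, hs 4 5]
  have s46 : T.w 4 * α46 = T.w 6 * α64 := by rw [← h46, ← h64, hs 4 6]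
  have s56 : T.w 5 * α56 = T.w 6 * α65 := by rw [← h56, ← h65, hs 5 6]
  have r01' : 0 ≤ α01 * T.m 1 := mul_nonneg n01 hm1.le
  have r02' : 0 ≤ α02 * T.m 2 := mul_nonneg n02 hm2.le
  have r03' : 0 ≤ α03 * T.m 3 := mul_nonneg n03 hm3.le
  have r04' : 0 ≤ α04 * T.m 4 := mul_nonneg n04 hm4.le
  have r05' : 0 ≤ α05 * T.m 5 := mul_nonneg n05 hm5.le
  have r06' : 0 ≤ α06 * T.m 6 := mul_nonneg n06 hm6.le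
  have r10' : 0 ≤ α10 * T.m 0 := mul_nonneg n10 hm0.le
  have r12' : 0 ≤ α12 * T.m 2 := mul_nonneg n12 hm2.le
  have r13' : 0 ≤ α13 * T.m 3 := mul_nonneg n13 hm3.le
  have r14' : 0 ≤ α14 * T.m 4 := mul_nonneg n14 hm4.le
  have r15' : 0 ≤ α15 * T.m 5 := mul_nonneg n15 hm5.le
  have r16' : 0 ≤ α16 * T.m 6 := mul_nonneg n16 hm6.le
  have r20' : 0 ≤ α20 * T.m 0 := mul_nonneg n20 hm0.le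
  have r21' : 0 ≤ α21 * T.m 1 := mul_nonneg n21 hm1.le
  have r23' : 0 ≤ α23 * T.m 3 := mul_nonneg n23 hm3.le
  have r24' : 0 ≤ α24 * T.m 4 := mul_nonneg n24 hm4.le
  have r25' : 0 ≤ α25 * T.m 5 := mul_nonneg n25 hm5.le
  have r26' : 0 ≤ α26 * T.m 6 := mul_nonneg n26 hm6.le
  have r30' : 0 ≤ α30 * T.m 0 := mul_nonneg n30 hm0.le
  have r31' : 0 ≤ α31 * T.m 1 := mul_nonneg n31 hm1.le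
  have r32' : 0 ≤ α32 * T.m 2 := mul_nonneg n32 hm2.le
  have r34' : 0 ≤ α34 * T.m 4 := mul_nonneg n34 hm4.le
  have r35' : 0 ≤ α35 * T.m 5 := mul_nonneg n35 hm5.le
  have r36' : 0 ≤ α36 * T.m 6 := mul_nonneg n36 hm6.le
  have r40' : 0 ≤ α40 * T.m 0 := mul_nonneg n40 hm0.le
  have r41' : 0 ≤ α41 * T.m 1 := mul_nonneg n41 hm1.le
  have r42' : 0 ≤ α42 * T.m 2 := mul_nonneg n42 hm2.le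
  have r43' : 0 ≤ α43 * T.m 3 := mul_nonneg n43 hm3.le
  have r45' : 0 ≤ α45 * T.m 5 := mul_nonneg n45 hm5.le
  have r46' : 0 ≤ α46 * T.m 6 := mul_nonneg n46 hm6.le
  have r50' : 0 ≤ α50 * T.m 0 := mul_nonneg n50 hm0.le
  have r51' : 0 ≤ α51 * T.m 1 := mul_nonneg n51 hm1.le
  have r52' : 0 ≤ α52 * T.m 2 := mul_nonneg n52 hm2.le
  have r53' : 0 ≤ α53 * T.m 3 := mul_nonneg n53 hm3.le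
  have r54' : 0 ≤ α54 * T.m 4 := mul_nonneg n54 hm4.le
  have r56' : 0 ≤ α56 * T.m 6 := mul_nonneg n56 hm6.le
  have r60' : 0 ≤ α60 * T.m 0 := mul_nonneg n60 hm0.le
  have r61' : 0 ≤ α61 * T.m 1 := mul_nonneg n61 hm1.le
  have r62' : 0 ≤ α62 * T.m 2 := mul_nonneg n62 hm2.le
  have r63' : 0 ≤ α63 * T.m 3 := mul_nonneg n63 hm3.le
  have r64' : 0 ≤ α64 * T.m 4 := mul_nonneg n64 hm4.le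
  have r65' : 0 ≤ α65 * T.m 5 := mul_nonneg n65 hm5.le
  have q01' : α01 * T.m 1 ≤ 2 * T.m 0 := by linarith [e0', r01', r02', r03', r04', r05', r06']
  have q02' : α02 * T.m 2 ≤ 2 * T.m 0 := by linarith [e0', r01', r02', r03', r04', r05', r06']
  have q03' : α03 * T.m 3 ≤ 2 * T.m 0 := by linarith [e0', r01', r02', r03', r04', r05', r06']
  have q04' : α04 * T.m 4 ≤ 2 * T.m 0 := by linarith [e0', r01', r02', r03', r04', r05', r06']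
  have q05' : α05 * T.m 5 ≤ 2 * T.m 0 := by linarith [e0', r01', r02', r03', r04', r05', r06']
  have q06' : α06 * T.m 6 ≤ 2 * T.m 0 := by linarith [e0', r01', r02', r03', r04', r05', r06']
  have q10' : α10 * T.m 0 ≤ 2 * T.m 1 := by linarith [e1', r10', r12', r13', r14', r15', r16']
  have q12' : α12 * T.m 2 ≤ 2 * T.m 1 := by linarith [e1', r10', r12', r13', r14', r15', r16']
  have q13' : α13 * T.m 3 ≤ 2 * T.m 1 := by linarith [e1', r10', r12', r13', r14', r15', r16']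
  have q14' : α14 * T.m 4 ≤ 2 * T.m 1 := by linarith [e1', r10', r12', r13', r14', r15', r16']
  have q15' : α15 * T.m 5 ≤ 2 * T.m 1 := by linarith [e1', r10', r12', r13', r14', r15', r16']
  have q16' : α16 * T.m 6 ≤ 2 * T.m 1 := by linarith [e1', r10', r12', r13', r14', r15', r16']
  have q20' : α20 * T.m 0 ≤ 2 * T.m 2 := by linarith [e2', r20', r21', r23', r24', r25', r26']
  have q21' : α21 * T.m 1 ≤ 2 * T.m 2 := by linarith [e2', r20', r21', r23', r24', r25', r26']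
  have q23' : α23 * T.m 3 ≤ 2 * T.m 2 := by linarith [e2', r20', r21', r23', r24', r25', r26']
  have q24' : α24 * T.m 4 ≤ 2 * T.m 2 := by linarith [e2', r20', r21', r23', r24', r25', r26']
  have q25' : α25 * T.m 5 ≤ 2 * T.m 2 := by linarith [e2', r20', r21', r23', r24', r25', r26']
  have q26' : α26 * T.m 6 ≤ 2 * T.m 2 := by linarith [e2', r20', r21', r23', r24', r25', r26']
  have q30' : α30 * T.m 0 ≤ 2 * T.m 3 := by linarith [e3', r30', r31', r32', r34', r35', r36']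
  have q31' : α31 * T.m 1 ≤ 2 * T.m 3 := by linarith [e3', r30', r31', r32', r34', r35', r36']
  have q32' : α32 * T.m 2 ≤ 2 * T.m 3 := by linarith [e3', r30', r31', r32', r34', r35', r36']
  have q34' : α34 * T.m 4 ≤ 2 * T.m 3 := by linarith [e3', r30', r31', r32', r34', r35', r36']
  have q35' : α35 * T.m 5 ≤ 2 * T.m 3 := by linarith [e3', r30', r31', r32', r34', r35', r36']
  have q36' : α36 * T.m 6 ≤ 2 * T.m 3 := by linarith [e3', r30', r31', r32', r34', r35', r36']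
  have q40' : α40 * T.m 0 ≤ 2 * T.m 4 := by linarith [e4', r40', r41', r42', r43', r45', r46']
  have q41' : α41 * T.m 1 ≤ 2 * T.m 4 := by linarith [e4', r40', r41', r42', r43', r45', r46']
  have q42' : α42 * T.m 2 ≤ 2 * T.m 4 := by linarith [e4', r40', r41', r42', r43', r45', r46']
  have q43' : α43 * T.m 3 ≤ 2 * T.m 4 := by linarith [e4', r40', r41', r42', r43', r45', r46']
  have q45' : α45 * T.m 5 ≤ 2 * T.m 4 := by linarith [e4', r40', r41', r42', r43', r45', r46']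
  have q46' : α46 * T.m 6 ≤ 2 * T.m 4 := by linarith [e4', r40', r41', r42', r43', r45', r46']
  have q50' : α50 * T.m 0 ≤ 2 * T.m 5 := by linarith [e5', r50', r51', r52', r53', r54', r56']
  have q51' : α51 * T.m 1 ≤ 2 * T.m 5 := by linarith [e5', r50', r51', r52', r53', r54', r56']
  have q52' : α52 * T.m 2 ≤ 2 * T.m 5 := by linarith [e5', r50', r51', r52', r53', r54', r56']
  have q53' : α53 * T.m 3 ≤ 2 * T.m 5 := by linarith [e5', r50', r51', r52', r53', r54', r56']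
  have q54' : α54 * T.m 4 ≤ 2 * T.m 5 := by linarith [e5', r50', r51', r52', r53', r54', r56']
  have q56' : α56 * T.m 6 ≤ 2 * T.m 5 := by linarith [e5', r50', r51', r52', r53', r54', r56']
  have q60' : α60 * T.m 0 ≤ 2 * T.m 6 := by linarith [e6', r60', r61', r62', r63', r64', r65']
  have q61' : α61 * T.m 1 ≤ 2 * T.m 6 := by linarith [e6', r60', r61', r62', r63', r64', r65']
  have q62' : α62 * T.m 2 ≤ 2 * T.m 6 := by linarith [e6', r60', r61', r62', r63', r64', r65']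
  have q63' : α63 * T.m 3 ≤ 2 * T.m 6 := by linarith [e6', r60', r61', r62', r63', r64', r65']
  have q64' : α64 * T.m 4 ≤ 2 * T.m 6 := by linarith [e6', r60', r61', r62', r63', r64', r65']
  have q65' : α65 * T.m 5 ≤ 2 * T.m 6 := by linarith [e6', r60', r61', r62', r63', r64', r65']
  have b01 : α01 * α10 ≤ 4 := bnd α01 α10 (T.m 0) (T.m 1) hm0 hm1 n01 n10 q01' q10'
  have b02 : α02 * α20 ≤ 4 := bnd α02 α20 (T.m 0) (T.m 2) hm0 hm2 n02 n20 q02' q20'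
  have b03 : α03 * α30 ≤ 4 := bnd α03 α30 (T.m 0) (T.m 3) hm0 hm3 n03 n30 q03' q30'
  have b04 : α04 * α40 ≤ 4 := bnd α04 α40 (T.m 0) (T.m 4) hm0 hm4 n04 n40 q04' q40'
  have b05 : α05 * α50 ≤ 4 := bnd α05 α50 (T.m 0) (T.m 5) hm0 hm5 n05 n50 q05' q50'
  have b06 : α06 * α60 ≤ 4 := bnd α06 α60 (T.m 0) (T.m 6) hm0 hm6 n06 n60 q06' q60'
  have b12 : α12 * α21 ≤ 4 := bnd α12 α21 (T.m 1) (T.m 2) hm1 hm2 n12 n21 q12' q21'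
  have b13 : α13 * α31 ≤ 4 := bnd α13 α31 (T.m 1) (T.m 3) hm1 hm3 n13 n31 q13' q31'
  have b14 : α14 * α41 ≤ 4 := bnd α14 α41 (T.m 1) (T.m 4) hm1 hm4 n14 n41 q14' q41'
  have b15 : α15 * α51 ≤ 4 := bnd α15 α51 (T.m 1) (T.m 5) hm1 hm5 n15 n51 q15' q51'
  have b16 : α16 * α61 ≤ 4 := bnd α16 α61 (T.m 1) (T.m 6) hm1 hm6 n16 n61 q16' q61'
  have b23 : α23 * α32 ≤ 4 := bnd α23 α32 (T.m 2) (T.m 3) hm2 hm3 n23 n32 q23' q32'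
  have b24 : α24 * α42 ≤ 4 := bnd α24 α42 (T.m 2) (T.m 4) hm2 hm4 n24 n42 q24' q42'
  have b25 : α25 * α52 ≤ 4 := bnd α25 α52 (T.m 2) (T.m 5) hm2 hm5 n25 n52 q25' q52'
  have b26 : α26 * α62 ≤ 4 := bnd α26 α62 (T.m 2) (T.m 6) hm2 hm6 n26 n62 q26' q62'
  have b34 : α34 * α43 ≤ 4 := bnd α34 α43 (T.m 3) (T.m 4) hm3 hm4 n34 n43 q34' q43'
  have b35 : α35 * α53 ≤ 4 := bnd α35 α53 (T.m 3) (T.m 5) hm3 hm5 n35 n53 q35' q53'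
  have b36 : α36 * α63 ≤ 4 := bnd α36 α63 (T.m 3) (T.m 6) hm3 hm6 n36 n63 q36' q63'
  have b45 : α45 * α54 ≤ 4 := bnd α45 α54 (T.m 4) (T.m 5) hm4 hm5 n45 n54 q45' q54'
  have b46 : α46 * α64 ≤ 4 := bnd α46 α64 (T.m 4) (T.m 6) hm4 hm6 n46 n64 q46' q64'
  have b56 : α56 * α65 ≤ 4 := bnd α56 α65 (T.m 5) (T.m 6) hm5 hm6 n56 n65 q56' q65'
  have pc01 := pair_cases α01 α10 (T.w 0) (T.w 1) hw0 hw1 n01 n10 s01 b01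
  have pc02 := pair_cases α02 α20 (T.w 0) (T.w 2) hw0 hw2 n02 n20 s02 b02
  have pc03 := pair_cases α03 α30 (T.w 0) (T.w 3) hw0 hw3 n03 n30 s03 b03
  have pc04 := pair_cases α04 α40 (T.w 0) (T.w 4) hw0 hw4 n04 n40 s04 b04
  have pc05 := pair_cases α05 α50 (T.w 0) (T.w 5) hw0 hw5 n05 n50 s05 b05
  have pc06 := pair_cases α06 α60 (T.w 0) (T.w 6) hw0 hw6 n06 n60 s06 b06
  have pc12 := pair_cases α12 α21 (T.w 1) (T.w 2) hw1 hw2 n12 n21 s12 b12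
  have pc13 := pair_cases α13 α31 (T.w 1) (T.w 3) hw1 hw3 n13 n31 s13 b13
  have pc14 := pair_cases α14 α41 (T.w 1) (T.w 4) hw1 hw4 n14 n41 s14 b14
  have pc15 := pair_cases α15 α51 (T.w 1) (T.w 5) hw1 hw5 n15 n51 s15 b15
  have pc16 := pair_cases α16 α61 (T.w 1) (T.w 6) hw1 hw6 n16 n61 s16 b16
  have pc23 := pair_cases α23 α32 (T.w 2) (T.w 3) hw2 hw3 n23 n32 s23 b23
  have pc24 := pair_cases α24 α42 (T.w 2) (T.w 4) hw2 hw4 n24 n42 s24 b24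
  have pc25 := pair_cases α25 α52 (T.w 2) (T.w 5) hw2 hw5 n25 n52 s25 b25
  have pc26 := pair_cases α26 α62 (T.w 2) (T.w 6) hw2 hw6 n26 n62 s26 b26
  have pc34 := pair_cases α34 α43 (T.w 3) (T.w 4) hw3 hw4 n34 n43 s34 b34
  have pc35 := pair_cases α35 α53 (T.w 3) (T.w 5) hw3 hw5 n35 n53 s35 b35
  have pc36 := pair_cases α36 α63 (T.w 3) (T.w 6) hw3 hw6 n36 n63 s36 b36
  have pc45 := pair_cases α45 α54 (T.w 4) (T.w 5) hw4 hw5 n45 n54 s45 b45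
  have pc46 := pair_cases α46 α64 (T.w 4) (T.w 6) hw4 hw6 n46 n64 s46 b46
  have pc56 := pair_cases α56 α65 (T.w 5) (T.w 6) hw5 hw6 n56 n65 s56 b56
  have v0' : α01 * α10 + α02 * α20 + α03 * α30 + α04 * α40 + α05 * α50 + α06 * α60 ≤ 4 := by
    have := vsum (T.m 0) (T.m 1) (T.m 2) (T.m 3) (T.m 4) (T.m 5) (T.m 6) α01 α02 α03 α04 α05 α06 α10 α20 α30 α40 α50 α60 hm0 n01 n02 n03 n04 n05 n06 e0' q10' q20' q30' q40' q50' q60'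
    linarith [mul_comm α01 α10, mul_comm α02 α20, mul_comm α03 α30, mul_comm α04 α40, mul_comm α05 α50, mul_comm α06 α60]
  have v1' : α01 * α10 + α12 * α21 + α13 * α31 + α14 * α41 + α15 * α51 + α16 * α61 ≤ 4 := by
    have := vsum (T.m 1) (T.m 0) (T.m 2) (T.m 3) (T.m 4) (T.m 5) (T.m 6) α10 α12 α13 α14 α15 α16 α01 α21 α31 α41 α51 α61 hm1 n10 n12 n13 n14 n15 n16 e1' q01' q21' q31' q41' q51' q61'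
    linarith [mul_comm α10 α01, mul_comm α12 α21, mul_comm α13 α31, mul_comm α14 α41, mul_comm α15 α51, mul_comm α16 α61]
  have v2' : α02 * α20 + α12 * α21 + α23 * α32 + α24 * α42 + α25 * α52 + α26 * α62 ≤ 4 := by
    have := vsum (T.m 2) (T.m 0) (T.m 1) (T.m 3) (T.m 4) (T.m 5) (T.m 6) α20 α21 α23 α24 α25 α26 α02 α12 α32 α42 α52 α62 hm2 n20 n21 n23 n24 n25 n26 e2' q02' q12' q32' q42' q52' q62'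
    linarith [mul_comm α20 α02, mul_comm α21 α12, mul_comm α23 α32, mul_comm α24 α42, mul_comm α25 α52, mul_comm α26 α62]
  have v3' : α03 * α30 + α13 * α31 + α23 * α32 + α34 * α43 + α35 * α53 + α36 * α63 ≤ 4 := by
    have := vsum (T.m 3) (T.m 0) (T.m 1) (T.m 2) (T.m 4) (T.m 5) (T.m 6) α30 α31 α32 α34 α35 α36 α03 α13 α23 α43 α53 α63 hm3 n30 n31 n32 n34 n35 n36 e3' q03' q13' q23' q43' q53' q63'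
    linarith [mul_comm α30 α03, mul_comm α31 α13, mul_comm α32 α23, mul_comm α34 α43, mul_comm α35 α53, mul_comm α36 α63]
  have v4' : α04 * α40 + α14 * α41 + α24 * α42 + α34 * α43 + α45 * α54 + α46 * α64 ≤ 4 := by
    have := vsum (T.m 4) (T.m 0) (T.m 1) (T.m 2) (T.m 3) (T.m 5) (T.m 6) α40 α41 α42 α43 α45 α46 α04 α14 α24 α34 α54 α64 hm4 n40 n41 n42 n43 n45 n46 e4' q04' q14' q24' q34' q54' q64'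
    linarith [mul_comm α40 α04, mul_comm α41 α14, mul_comm α42 α24, mul_comm α43 α34, mul_comm α45 α54, mul_comm α46 α64]
  have v5' : α05 * α50 + α15 * α51 + α25 * α52 + α35 * α53 + α45 * α54 + α56 * α65 ≤ 4 := by
    have := vsum (T.m 5) (T.m 0) (T.m 1) (T.m 2) (T.m 3) (T.m 4) (T.m 6) α50 α51 α52 α53 α54 α56 α05 α15 α25 α35 α45 α65 hm5 n50 n51 n52 n53 n54 n56 e5' q05' q15' q25' q35' q45' q65'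
    linarith [mul_comm α50 α05, mul_comm α51 α15, mul_comm α52 α25, mul_comm α53 α35, mul_comm α54 α45, mul_comm α56 α65]
  have v6' : α06 * α60 + α16 * α61 + α26 * α62 + α36 * α63 + α46 * α64 + α56 * α65 ≤ 4 := by
    have := vsum (T.m 6) (T.m 0) (T.m 1) (T.m 2) (T.m 3) (T.m 4) (T.m 5) α60 α61 α62 α63 α64 α65 α06 α16 α26 α36 α46 α56 hm6 n60 n61 n62 n63 n64 n65 e6' q06' q16' q26' q36' q46' q56'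
    linarith [mul_comm α60 α06, mul_comm α61 α16, mul_comm α62 α26, mul_comm α63 α36, mul_comm α64 α46, mul_comm α65 α56]
  have od1 : 0 < α01 := by
    obtain ⟨i, hi, hij⟩ := hord 1 (by decide)
    by_contra hcon
    have z0 : T.a 0 1 = 0 := by rw [h01, (by omega : α01 = 0), mul_zero]
    have key : ∀ i : Fin 7, i.val < (1 : Fin 7).val → i = 0 := by decide
    rcases key i hi with rfl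
    · exact hij z0
  have od2 : 0 < α02 + α12 := by
    obtain ⟨i, hi, hij⟩ := hord 2 (by decide)
    by_contra hcon
    have z0 : T.a 0 2 = 0 := by rw [h02, (by omega : α02 = 0), mul_zero]
    have z1 : T.a 1 2 = 0 := by rw [h12, (by omega : α12 = 0), mul_zero]
    have key : ∀ i : Fin 7, i.val < (2 : Fin 7).val → i = 0 ∨ i = 1 := by decide
    rcases key i hi with rfl | rfl
    · exact hij z0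
    · exact hij z1
  have od3 : 0 < α03 + α13 + α23 := by
    obtain ⟨i, hi, hij⟩ := hord 3 (by decide)
    by_contra hcon
    have z0 : T.a 0 3 = 0 := by rw [h03, (by omega : α03 = 0), mul_zero]
    have z1 : T.a 1 3 = 0 := by rw [h13, (by omega : α13 = 0), mul_zero]
    have z2 : T.a 2 3 = 0 := by rw [h23, (by omega : α23 = 0), mul_zero]
    have key : ∀ i : Fin 7, i.val < (3 : Fin 7).val → i = 0 ∨ i = 1 ∨ i = 2 := by decide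
    rcases key i hi with rfl | rfl | rfl
    · exact hij z0
    · exact hij z1
    · exact hij z2
  have od4 : 0 < α04 + α14 + α24 + α34 := by
    obtain ⟨i, hi, hij⟩ := hord 4 (by decide)
    by_contra hcon
    have z0 : T.a 0 4 = 0 := by rw [h04, (by omega : α04 = 0), mul_zero]
    have z1 : T.a 1 4 = 0 := by rw [h14, (by omega : α14 = 0), mul_zero]
    have z2 : T.a 2 4 = 0 := by rw [h24, (by omega : α24 = 0), mul_zero]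
    have z3 : T.a 3 4 = 0 := by rw [h34, (by omega : α34 = 0), mul_zero]
    have key : ∀ i : Fin 7, i.val < (4 : Fin 7).val → i = 0 ∨ i = 1 ∨ i = 2 ∨ i = 3 := by decide
    rcases key i hi with rfl | rfl | rfl | rfl
    · exact hij z0
    · exact hij z1
    · exact hij z2
    · exact hij z3
  have od5 : 0 < α05 + α15 + α25 + α35 + α45 := by
    obtain ⟨i, hi, hij⟩ := hord 5 (by decide)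
    by_contra hcon
    have z0 : T.a 0 5 = 0 := by rw [h05, (by omega : α05 = 0), mul_zero]
    have z1 : T.a 1 5 = 0 := by rw [h15, (by omega : α15 = 0), mul_zero]
    have z2 : T.a 2 5 = 0 := by rw [h25, (by omega : α25 = 0), mul_zero]
    have z3 : T.a 3 5 = 0 := by rw [h35, (by omega : α35 = 0), mul_zero]
    have z4 : T.a 4 5 = 0 := by rw [h45, (by omega : α45 = 0), mul_zero]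
    have key : ∀ i : Fin 7, i.val < (5 : Fin 7).val → i = 0 ∨ i = 1 ∨ i = 2 ∨ i = 3 ∨ i = 4 := by decide
    rcases key i hi with rfl | rfl | rfl | rfl | rfl
    · exact hij z0
    · exact hij z1
    · exact hij z2
    · exact hij z3
    · exact hij z4
  have od6 : 0 < α06 + α16 + α26 + α36 + α46 + α56 := by
    obtain ⟨i, hi, hij⟩ := hord 6 (by decide)
    by_contra hcon
    have z0 : T.a 0 6 = 0 := by rw [h06, (by omega : α06 = 0), mul_zero]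
    have z1 : T.a 1 6 = 0 := by rw [h16, (by omega : α16 = 0), mul_zero]
    have z2 : T.a 2 6 = 0 := by rw [h26, (by omega : α26 = 0), mul_zero]
    have z3 : T.a 3 6 = 0 := by rw [h36, (by omega : α36 = 0), mul_zero]
    have z4 : T.a 4 6 = 0 := by rw [h46, (by omega : α46 = 0), mul_zero]
    have z5 : T.a 5 6 = 0 := by rw [h56, (by omega : α56 = 0), mul_zero]
    have key : ∀ i : Fin 7, i.val < (6 : Fin 7).val → i = 0 ∨ i = 1 ∨ i = 2 ∨ i = 3 ∨ i = 4 ∨ i = 5 := by decide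
    rcases key i hi with rfl | rfl | rfl | rfl | rfl | rfl
    · exact hij z0
    · exact hij z1
    · exact hij z2
    · exact hij z3
    · exact hij z4
    · exact hij z5
  obtain ⟨x01, hx01⟩ : ∃ x, x = α01 * T.m 1 := ⟨_, rfl⟩
  obtain ⟨x02, hx02⟩ : ∃ x, x = α02 * T.m 2 := ⟨_, rfl⟩
  obtain ⟨x03, hx03⟩ : ∃ x, x = α03 * T.m 3 := ⟨_, rfl⟩
  obtain ⟨x04, hx04⟩ : ∃ x, x = α04 * T.m 4 := ⟨_, rfl⟩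
  obtain ⟨x05, hx05⟩ : ∃ x, x = α05 * T.m 5 := ⟨_, rfl⟩
  obtain ⟨x06, hx06⟩ : ∃ x, x = α06 * T.m 6 := ⟨_, rfl⟩
  obtain ⟨x10, hx10⟩ : ∃ x, x = α10 * T.m 0 := ⟨_, rfl⟩
  obtain ⟨x12, hx12⟩ : ∃ x, x = α12 * T.m 2 := ⟨_, rfl⟩
  obtain ⟨x13, hx13⟩ : ∃ x, x = α13 * T.m 3 := ⟨_, rfl⟩
  obtain ⟨x14, hx14⟩ : ∃ x, x = α14 * T.m 4 := ⟨_, rfl⟩
  obtain ⟨x15, hx15⟩ : ∃ x, x = α15 * T.m 5 := ⟨_, rfl⟩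
  obtain ⟨x16, hx16⟩ : ∃ x, x = α16 * T.m 6 := ⟨_, rfl⟩
  obtain ⟨x20, hx20⟩ : ∃ x, x = α20 * T.m 0 := ⟨_, rfl⟩
  obtain ⟨x21, hx21⟩ : ∃ x, x = α21 * T.m 1 := ⟨_, rfl⟩
  obtain ⟨x23, hx23⟩ : ∃ x, x = α23 * T.m 3 := ⟨_, rfl⟩
  obtain ⟨x24, hx24⟩ : ∃ x, x = α24 * T.m 4 := ⟨_, rfl⟩
  obtain ⟨x25, hx25⟩ : ∃ x, x = α25 * T.m 5 := ⟨_, rfl⟩
  obtain ⟨x26, hx26⟩ : ∃ x, x = α26 * T.m 6 := ⟨_, rfl⟩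
  obtain ⟨x30, hx30⟩ : ∃ x, x = α30 * T.m 0 := ⟨_, rfl⟩
  obtain ⟨x31, hx31⟩ : ∃ x, x = α31 * T.m 1 := ⟨_, rfl⟩
  obtain ⟨x32, hx32⟩ : ∃ x, x = α32 * T.m 2 := ⟨_, rfl⟩
  obtain ⟨x34, hx34⟩ : ∃ x, x = α34 * T.m 4 := ⟨_, rfl⟩
  obtain ⟨x35, hx35⟩ : ∃ x, x = α35 * T.m 5 := ⟨_, rfl⟩
  obtain ⟨x36, hx36⟩ : ∃ x, x = α36 * T.m 6 := ⟨_, rfl⟩
  obtain ⟨x40, hx40⟩ : ∃ x, x = α40 * T.m 0 := ⟨_, rfl⟩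
  obtain ⟨x41, hx41⟩ : ∃ x, x = α41 * T.m 1 := ⟨_, rfl⟩
  obtain ⟨x42, hx42⟩ : ∃ x, x = α42 * T.m 2 := ⟨_, rfl⟩
  obtain ⟨x43, hx43⟩ : ∃ x, x = α43 * T.m 3 := ⟨_, rfl⟩
  obtain ⟨x45, hx45⟩ : ∃ x, x = α45 * T.m 5 := ⟨_, rfl⟩
  obtain ⟨x46, hx46⟩ : ∃ x, x = α46 * T.m 6 := ⟨_, rfl⟩
  obtain ⟨x50, hx50⟩ : ∃ x, x = α50 * T.m 0 := ⟨_, rfl⟩
  obtain ⟨x51, hx51⟩ : ∃ x, x = α51 * T.m 1 := ⟨_, rfl⟩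
  obtain ⟨x52, hx52⟩ : ∃ x, x = α52 * T.m 2 := ⟨_, rfl⟩
  obtain ⟨x53, hx53⟩ : ∃ x, x = α53 * T.m 3 := ⟨_, rfl⟩
  obtain ⟨x54, hx54⟩ : ∃ x, x = α54 * T.m 4 := ⟨_, rfl⟩
  obtain ⟨x56, hx56⟩ : ∃ x, x = α56 * T.m 6 := ⟨_, rfl⟩
  obtain ⟨x60, hx60⟩ : ∃ x, x = α60 * T.m 0 := ⟨_, rfl⟩
  obtain ⟨x61, hx61⟩ : ∃ x, x = α61 * T.m 1 := ⟨_, rfl⟩
  obtain ⟨x62, hx62⟩ : ∃ x, x = α62 * T.m 2 := ⟨_, rfl⟩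
  obtain ⟨x63, hx63⟩ : ∃ x, x = α63 * T.m 3 := ⟨_, rfl⟩
  obtain ⟨x64, hx64⟩ : ∃ x, x = α64 * T.m 4 := ⟨_, rfl⟩
  obtain ⟨x65, hx65⟩ : ∃ x, x = α65 * T.m 5 := ⟨_, rfl⟩
  obtain ⟨q01, hq01⟩ : ∃ q, q = α01 * α10 := ⟨_, rfl⟩
  obtain ⟨q02, hq02⟩ : ∃ q, q = α02 * α20 := ⟨_, rfl⟩
  obtain ⟨q03, hq03⟩ : ∃ q, q = α03 * α30 := ⟨_, rfl⟩
  obtain ⟨q04, hq04⟩ : ∃ q, q = α04 * α40 := ⟨_, rfl⟩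
  obtain ⟨q05, hq05⟩ : ∃ q, q = α05 * α50 := ⟨_, rfl⟩
  obtain ⟨q06, hq06⟩ : ∃ q, q = α06 * α60 := ⟨_, rfl⟩
  obtain ⟨q12, hq12⟩ : ∃ q, q = α12 * α21 := ⟨_, rfl⟩
  obtain ⟨q13, hq13⟩ : ∃ q, q = α13 * α31 := ⟨_, rfl⟩
  obtain ⟨q14, hq14⟩ : ∃ q, q = α14 * α41 := ⟨_, rfl⟩
  obtain ⟨q15, hq15⟩ : ∃ q, q = α15 * α51 := ⟨_, rfl⟩
  obtain ⟨q16, hq16⟩ : ∃ q, q = α16 * α61 := ⟨_, rfl⟩
  obtain ⟨q23, hq23⟩ : ∃ q, q = α23 * α32 := ⟨_, rfl⟩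
  obtain ⟨q24, hq24⟩ : ∃ q, q = α24 * α42 := ⟨_, rfl⟩
  obtain ⟨q25, hq25⟩ : ∃ q, q = α25 * α52 := ⟨_, rfl⟩
  obtain ⟨q26, hq26⟩ : ∃ q, q = α26 * α62 := ⟨_, rfl⟩
  obtain ⟨q34, hq34⟩ : ∃ q, q = α34 * α43 := ⟨_, rfl⟩
  obtain ⟨q35, hq35⟩ : ∃ q, q = α35 * α53 := ⟨_, rfl⟩
  obtain ⟨q36, hq36⟩ : ∃ q, q = α36 * α63 := ⟨_, rfl⟩
  obtain ⟨q45, hq45⟩ : ∃ q, q = α45 * α54 := ⟨_, rfl⟩
  obtain ⟨q46, hq46⟩ : ∃ q, q = α46 * α64 := ⟨_, rfl⟩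
  obtain ⟨q56, hq56⟩ : ∃ q, q = α56 * α65 := ⟨_, rfl⟩
  have e0 : x01 + x02 + x03 + x04 + x05 + x06 = 2 * T.m 0 := by rw [hx01, hx02, hx03, hx04, hx05, hx06]; exact e0'
  have e1 : x10 + x12 + x13 + x14 + x15 + x16 = 2 * T.m 1 := by rw [hx10, hx12, hx13, hx14, hx15, hx16]; exact e1'
  have e2 : x20 + x21 + x23 + x24 + x25 + x26 = 2 * T.m 2 := by rw [hx20, hx21, hx23, hx24, hx25, hx26]; exact e2'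
  have e3 : x30 + x31 + x32 + x34 + x35 + x36 = 2 * T.m 3 := by rw [hx30, hx31, hx32, hx34, hx35, hx36]; exact e3'
  have e4 : x40 + x41 + x42 + x43 + x45 + x46 = 2 * T.m 4 := by rw [hx40, hx41, hx42, hx43, hx45, hx46]; exact e4'
  have e5 : x50 + x51 + x52 + x53 + x54 + x56 = 2 * T.m 5 := by rw [hx50, hx51, hx52, hx53, hx54, hx56]; exact e5'
  have e6 : x60 + x61 + x62 + x63 + x64 + x65 = 2 * T.m 6 := by rw [hx60, hx61, hx62, hx63, hx64, hx65]; exact e6'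
  have r01 : 0 ≤ x01 := by rw [hx01]; exact r01'
  have r02 : 0 ≤ x02 := by rw [hx02]; exact r02'
  have r03 : 0 ≤ x03 := by rw [hx03]; exact r03'
  have r04 : 0 ≤ x04 := by rw [hx04]; exact r04'
  have r05 : 0 ≤ x05 := by rw [hx05]; exact r05'
  have r06 : 0 ≤ x06 := by rw [hx06]; exact r06'
  have r10 : 0 ≤ x10 := by rw [hx10]; exact r10'
  have r12 : 0 ≤ x12 := by rw [hx12]; exact r12'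
  have r13 : 0 ≤ x13 := by rw [hx13]; exact r13'
  have r14 : 0 ≤ x14 := by rw [hx14]; exact r14'
  have r15 : 0 ≤ x15 := by rw [hx15]; exact r15'
  have r16 : 0 ≤ x16 := by rw [hx16]; exact r16'
  have r20 : 0 ≤ x20 := by rw [hx20]; exact r20'
  have r21 : 0 ≤ x21 := by rw [hx21]; exact r21'
  have r23 : 0 ≤ x23 := by rw [hx23]; exact r23'
  have r24 : 0 ≤ x24 := by rw [hx24]; exact r24'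
  have r25 : 0 ≤ x25 := by rw [hx25]; exact r25'
  have r26 : 0 ≤ x26 := by rw [hx26]; exact r26'
  have r30 : 0 ≤ x30 := by rw [hx30]; exact r30'
  have r31 : 0 ≤ x31 := by rw [hx31]; exact r31'
  have r32 : 0 ≤ x32 := by rw [hx32]; exact r32'
  have r34 : 0 ≤ x34 := by rw [hx34]; exact r34'
  have r35 : 0 ≤ x35 := by rw [hx35]; exact r35'
  have r36 : 0 ≤ x36 := by rw [hx36]; exact r36'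
  have r40 : 0 ≤ x40 := by rw [hx40]; exact r40'
  have r41 : 0 ≤ x41 := by rw [hx41]; exact r41'
  have r42 : 0 ≤ x42 := by rw [hx42]; exact r42'
  have r43 : 0 ≤ x43 := by rw [hx43]; exact r43'
  have r45 : 0 ≤ x45 := by rw [hx45]; exact r45'
  have r46 : 0 ≤ x46 := by rw [hx46]; exact r46'
  have r50 : 0 ≤ x50 := by rw [hx50]; exact r50'
  have r51 : 0 ≤ x51 := by rw [hx51]; exact r51'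
  have r52 : 0 ≤ x52 := by rw [hx52]; exact r52'
  have r53 : 0 ≤ x53 := by rw [hx53]; exact r53'
  have r54 : 0 ≤ x54 := by rw [hx54]; exact r54'
  have r56 : 0 ≤ x56 := by rw [hx56]; exact r56'
  have r60 : 0 ≤ x60 := by rw [hx60]; exact r60'
  have r61 : 0 ≤ x61 := by rw [hx61]; exact r61'
  have r62 : 0 ≤ x62 := by rw [hx62]; exact r62'
  have r63 : 0 ≤ x63 := by rw [hx63]; exact r63'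
  have r64 : 0 ≤ x64 := by rw [hx64]; exact r64'
  have r65 : 0 ≤ x65 := by rw [hx65]; exact r65'
  have qn01 : 0 ≤ q01 := by rw [hq01]; exact mul_nonneg n01 n10
  have qn02 : 0 ≤ q02 := by rw [hq02]; exact mul_nonneg n02 n20
  have qn03 : 0 ≤ q03 := by rw [hq03]; exact mul_nonneg n03 n30
  have qn04 : 0 ≤ q04 := by rw [hq04]; exact mul_nonneg n04 n40
  have qn05 : 0 ≤ q05 := by rw [hq05]; exact mul_nonneg n05 n50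
  have qn06 : 0 ≤ q06 := by rw [hq06]; exact mul_nonneg n06 n60
  have qn12 : 0 ≤ q12 := by rw [hq12]; exact mul_nonneg n12 n21
  have qn13 : 0 ≤ q13 := by rw [hq13]; exact mul_nonneg n13 n31
  have qn14 : 0 ≤ q14 := by rw [hq14]; exact mul_nonneg n14 n41
  have qn15 : 0 ≤ q15 := by rw [hq15]; exact mul_nonneg n15 n51
  have qn16 : 0 ≤ q16 := by rw [hq16]; exact mul_nonneg n16 n61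
  have qn23 : 0 ≤ q23 := by rw [hq23]; exact mul_nonneg n23 n32
  have qn24 : 0 ≤ q24 := by rw [hq24]; exact mul_nonneg n24 n42
  have qn25 : 0 ≤ q25 := by rw [hq25]; exact mul_nonneg n25 n52
  have qn26 : 0 ≤ q26 := by rw [hq26]; exact mul_nonneg n26 n62
  have qn34 : 0 ≤ q34 := by rw [hq34]; exact mul_nonneg n34 n43
  have qn35 : 0 ≤ q35 := by rw [hq35]; exact mul_nonneg n35 n53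
  have qn36 : 0 ≤ q36 := by rw [hq36]; exact mul_nonneg n36 n63
  have qn45 : 0 ≤ q45 := by rw [hq45]; exact mul_nonneg n45 n54
  have qn46 : 0 ≤ q46 := by rw [hq46]; exact mul_nonneg n46 n64
  have qn56 : 0 ≤ q56 := by rw [hq56]; exact mul_nonneg n56 n65
  have v0 : q01 + q02 + q03 + q04 + q05 + q06 ≤ 4 := by rw [hq01, hq02, hq03, hq04, hq05, hq06]; exact v0'
  have v1 : q01 + q12 + q13 + q14 + q15 + q16 ≤ 4 := by rw [hq01, hq12, hq13, hq14, hq15, hq16]; exact v1'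
  have v2 : q02 + q12 + q23 + q24 + q25 + q26 ≤ 4 := by rw [hq02, hq12, hq23, hq24, hq25, hq26]; exact v2'
  have v3 : q03 + q13 + q23 + q34 + q35 + q36 ≤ 4 := by rw [hq03, hq13, hq23, hq34, hq35, hq36]; exact v3'
  have v4 : q04 + q14 + q24 + q34 + q45 + q46 ≤ 4 := by rw [hq04, hq14, hq24, hq34, hq45, hq46]; exact v4'
  have v5 : q05 + q15 + q25 + q35 + q45 + q56 ≤ 4 := by rw [hq05, hq15, hq25, hq35, hq45, hq56]; exact v5'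
  have v6 : q06 + q16 + q26 + q36 + q46 + q56 ≤ 4 := by rw [hq06, hq16, hq26, hq36, hq46, hq56]; exact v6'
  have hs01 : T.a 0 1 = T.a 1 0 := hs 0 1
  have hs02 : T.a 0 2 = T.a 2 0 := hs 0 2
  have hs03 : T.a 0 3 = T.a 3 0 := hs 0 3
  have hs04 : T.a 0 4 = T.a 4 0 := hs 0 4
  have hs05 : T.a 0 5 = T.a 5 0 := hs 0 5
  have hs06 : T.a 0 6 = T.a 6 0 := hs 0 6
  have hs12 : T.a 1 2 = T.a 2 1 := hs 1 2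
  have hs13 : T.a 1 3 = T.a 3 1 := hs 1 3
  have hs14 : T.a 1 4 = T.a 4 1 := hs 1 4
  have hs15 : T.a 1 5 = T.a 5 1 := hs 1 5
  have hs16 : T.a 1 6 = T.a 6 1 := hs 1 6
  have hs23 : T.a 2 3 = T.a 3 2 := hs 2 3
  have hs24 : T.a 2 4 = T.a 4 2 := hs 2 4
  have hs25 : T.a 2 5 = T.a 5 2 := hs 2 5
  have hs26 : T.a 2 6 = T.a 6 2 := hs 2 6
  have hs34 : T.a 3 4 = T.a 4 3 := hs 3 4
  have hs35 : T.a 3 5 = T.a 5 3 := hs 3 5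
  have hs36 : T.a 3 6 = T.a 6 3 := hs 3 6
  have hs45 : T.a 4 5 = T.a 5 4 := hs 4 5
  have hs46 : T.a 4 6 = T.a 6 4 := hs 4 6
  have hs56 : T.a 5 6 = T.a 6 5 := hs 5 6
  have c01 : Hide (((Hide (x01 = 0 ∧ x10 = 0) ∧ Hide (T.a 0 1 = 0 ∧ T.a 1 0 = 0) ∧ Hide (α01 = 0 ∧ α10 = 0)) ∧ q01 = 0) ∨ ((Hide (x01 = T.m 1 ∧ x10 = T.m 0) ∧ Hide (T.a 0 1 = T.w 0 ∧ T.a 1 0 = T.w 1) ∧ Hide (α01 = 1 ∧ α10 = 1)) ∧ q01 = 1) ∨ ((Hide (x01 = T.m 1 ∧ x10 = 2 * T.m 0) ∧ Hide (T.a 0 1 = T.w 0 ∧ T.a 1 0 = 2 * T.w 1) ∧ Hide (α01 = 1 ∧ α10 = 2)) ∧ q01 = 2) ∨ ((Hide (x01 = 2 * T.m 1 ∧ x10 = T.m 0) ∧ Hide (T.a 0 1 = 2 * T.w 0 ∧ T.a 1 0 = T.w 1) ∧ Hide (α01 = 2 ∧ α10 = 1)) ∧ q01 = 2) ∨ ((Hide (x01 = T.m 1 ∧ x10 = 3 * T.m 0) ∧ Hide (T.a 0 1 = T.w 0 ∧ T.a 1 0 = 3 * T.w 1) ∧ Hide (α01 =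 1 ∧ α10 = 3)) ∧ q01 = 3) ∨ ((Hide (x01 = 3 * T.m 1 ∧ x10 = T.m 0) ∧ Hide (T.a 0 1 = 3 * T.w 0 ∧ T.a 1 0 = T.w 1) ∧ Hide (α01 = 3 ∧ α10 = 1)) ∧ q01 = 3) ∨ ((Hide (x01 = T.m 1 ∧ x10 = 4 * T.m 0) ∧ Hide (T.a 0 1 = T.w 0 ∧ T.a 1 0 = 4 * T.w 1) ∧ Hide (α01 = 1 ∧ α10 = 4)) ∧ q01 = 4) ∨ ((Hide (x01 = 4 * T.m 1 ∧ x10 = T.m 0) ∧ Hide (T.a 0 1 = 4 * T.w 0 ∧ T.a 1 0 = T.w 1) ∧ Hide (α01 = 4 ∧ α10 = 1)) ∧ q01 = 4) ∨ ((Hide (x01 = 2 * T.m 1 ∧ x10 = 2 * T.m 0) ∧ Hide (T.a 0 1 = 2 * T.w 0 ∧ T.a 1 0 = 2 * T.w 1) ∧ Hide (α01 = 2 ∧ α10 = 2)) ∧ q01 = 4)) :=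
    Hide.intro (pair_opts α01 α10 (T.m 0) (T.m 1) (T.w 0) (T.w 1) x01 x10 (T.a 0 1) (T.a 1 0) q01 pc01 hx01 hx10 h01 h10 hq01)
  have c02 : Hide (((Hide (x02 = 0 ∧ x20 = 0) ∧ Hide (T.a 0 2 = 0 ∧ T.a 2 0 = 0) ∧ Hide (α02 = 0 ∧ α20 = 0)) ∧ q02 = 0) ∨ ((Hide (x02 = T.m 2 ∧ x20 = T.m 0) ∧ Hide (T.a 0 2 = T.w 0 ∧ T.a 2 0 = T.w 2) ∧ Hide (α02 = 1 ∧ α20 = 1)) ∧ q02 = 1) ∨ ((Hide (x02 = T.m 2 ∧ x20 = 2 * T.m 0) ∧ Hide (T.a 0 2 = T.w 0 ∧ T.a 2 0 = 2 * T.w 2) ∧ Hide (α02 = 1 ∧ α20 = 2)) ∧ q02 = 2) ∨ ((Hide (x02 = 2 * T.m 2 ∧ x20 = T.m 0) ∧ Hide (T.a 0 2 = 2 * T.w 0 ∧ T.a 2 0 = T.w 2) ∧ Hide (α02 = 2 ∧ α20 = 1)) ∧ q02 = 2) ∨ ((Hide (x02 = T.m 2 ∧ x20 = 3 * T.m 0) ∧ Hide (T.a 0 2 = T.w 0 ∧ T.a 2 0 = 3 * T.w 2) ∧ Hide (α02 = 1 ∧ α20 = 3)) ∧ q02 = 3) ∨ ((Hide (x02 =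 3 * T.m 2 ∧ x20 = T.m 0) ∧ Hide (T.a 0 2 = 3 * T.w 0 ∧ T.a 2 0 = T.w 2) ∧ Hide (α02 = 3 ∧ α20 = 1)) ∧ q02 = 3) ∨ ((Hide (x02 = T.m 2 ∧ x20 = 4 * T.m 0) ∧ Hide (T.a 0 2 = T.w 0 ∧ T.a 2 0 = 4 * T.w 2) ∧ Hide (α02 = 1 ∧ α20 = 4)) ∧ q02 = 4) ∨ ((Hide (x02 = 4 * T.m 2 ∧ x20 = T.m 0) ∧ Hide (T.a 0 2 = 4 * T.w 0 ∧ T.a 2 0 = T.w 2) ∧ Hide (α02 = 4 ∧ α20 = 1)) ∧ q02 = 4) ∨ ((Hide (x02 = 2 * T.m 2 ∧ x20 = 2 * T.m 0) ∧ Hide (T.a 0 2 = 2 * T.w 0 ∧ T.a 2 0 = 2 * T.w 2) ∧ Hide (α02 = 2 ∧ α20 = 2)) ∧ q02 = 4)) :=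
    Hide.intro (pair_opts α02 α20 (T.m 0) (T.m 2) (T.w 0) (T.w 2) x02 x20 (T.a 0 2) (T.a 2 0) q02 pc02 hx02 hx20 h02 h20 hq02)
  have c03 : Hide (((Hide (x03 = 0 ∧ x30 = 0) ∧ Hide (T.a 0 3 = 0 ∧ T.a 3 0 = 0) ∧ Hide (α03 = 0 ∧ α30 = 0)) ∧ q03 = 0) ∨ ((Hide (x03 = T.m 3 ∧ x30 = T.m 0) ∧ Hide (T.a 0 3 = T.w 0 ∧ T.a 3 0 = T.w 3) ∧ Hide (α03 = 1 ∧ α30 = 1)) ∧ q03 = 1) ∨ ((Hide (x03 = T.m 3 ∧ x30 = 2 * T.m 0) ∧ Hide (T.a 0 3 = T.w 0 ∧ T.a 3 0 = 2 * T.w 3) ∧ Hide (α03 = 1 ∧ α30 = 2)) ∧ q03 = 2) ∨ ((Hide (x03 = 2 * T.m 3 ∧ x30 = T.m 0) ∧ Hide (T.a 0 3 = 2 * T.w 0 ∧ T.a 3 0 = T.w 3) ∧ Hide (α03 = 2 ∧ α30 = 1)) ∧ q03 = 2) ∨ ((Hide (x03 = T.m 3 ∧ x30 = 3 * T.m 0) ∧ Hide (T.a 0 3 = T.w 0 ∧ T.a 3 0 = 3 * T.w 3) ∧ Hide (α03 = 1 ∧ α30 = 3)) ∧ q03 = 3) ∨ ((Hide (x03 =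 3 * T.m 3 ∧ x30 = T.m 0) ∧ Hide (T.a 0 3 = 3 * T.w 0 ∧ T.a 3 0 = T.w 3) ∧ Hide (α03 = 3 ∧ α30 = 1)) ∧ q03 = 3) ∨ ((Hide (x03 = T.m 3 ∧ x30 = 4 * T.m 0) ∧ Hide (T.a 0 3 = T.w 0 ∧ T.a 3 0 = 4 * T.w 3) ∧ Hide (α03 = 1 ∧ α30 = 4)) ∧ q03 = 4) ∨ ((Hide (x03 = 4 * T.m 3 ∧ x30 = T.m 0) ∧ Hide (T.a 0 3 = 4 * T.w 0 ∧ T.a 3 0 = T.w 3) ∧ Hide (α03 = 4 ∧ α30 = 1)) ∧ q03 = 4) ∨ ((Hide (x03 = 2 * T.m 3 ∧ x30 = 2 * T.m 0) ∧ Hide (T.a 0 3 = 2 * T.w 0 ∧ T.a 3 0 = 2 * T.w 3) ∧ Hide (α03 = 2 ∧ α30 = 2)) ∧ q03 = 4)) :=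
    Hide.intro (pair_opts α03 α30 (T.m 0) (T.m 3) (T.w 0) (T.w 3) x03 x30 (T.a 0 3) (T.a 3 0) q03 pc03 hx03 hx30 h03 h30 hq03)
  have c04 : Hide (((Hide (x04 = 0 ∧ x40 = 0) ∧ Hide (T.a 0 4 = 0 ∧ T.a 4 0 = 0) ∧ Hide (α04 = 0 ∧ α40 = 0)) ∧ q04 = 0) ∨ ((Hide (x04 = T.m 4 ∧ x40 = T.m 0) ∧ Hide (T.a 0 4 = T.w 0 ∧ T.a 4 0 = T.w 4) ∧ Hide (α04 = 1 ∧ α40 = 1)) ∧ q04 = 1) ∨ ((Hide (x04 = T.m 4 ∧ x40 = 2 * T.m 0) ∧ Hide (T.a 0 4 = T.w 0 ∧ T.a 4 0 = 2 * T.w 4) ∧ Hide (α04 = 1 ∧ α40 = 2)) ∧ q04 = 2) ∨ ((Hide (x04 = 2 * T.m 4 ∧ x40 = T.m 0) ∧ Hide (T.a 0 4 = 2 * T.w 0 ∧ T.a 4 0 = T.w 4) ∧ Hide (α04 = 2 ∧ α40 = 1)) ∧ q04 = 2) ∨ ((Hide (x04 = T.m 4 ∧ x40 = 3 * T.m 0) ∧ Hide (T.a 0 4 = T.w 0 ∧ T.a 4 0 = 3 * T.w 4) ∧ Hide (α04 = 1 ∧ α40 = 3)) ∧ q04 = 3) ∨ ((Hide (x04 =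 3 * T.m 4 ∧ x40 = T.m 0) ∧ Hide (T.a 0 4 = 3 * T.w 0 ∧ T.a 4 0 = T.w 4) ∧ Hide (α04 = 3 ∧ α40 = 1)) ∧ q04 = 3) ∨ ((Hide (x04 = T.m 4 ∧ x40 = 4 * T.m 0) ∧ Hide (T.a 0 4 = T.w 0 ∧ T.a 4 0 = 4 * T.w 4) ∧ Hide (α04 = 1 ∧ α40 = 4)) ∧ q04 = 4) ∨ ((Hide (x04 = 4 * T.m 4 ∧ x40 = T.m 0) ∧ Hide (T.a 0 4 = 4 * T.w 0 ∧ T.a 4 0 = T.w 4) ∧ Hide (α04 = 4 ∧ α40 = 1)) ∧ q04 = 4) ∨ ((Hide (x04 = 2 * T.m 4 ∧ x40 = 2 * T.m 0) ∧ Hide (T.a 0 4 = 2 * T.w 0 ∧ T.a 4 0 = 2 * T.w 4) ∧ Hide (α04 = 2 ∧ α40 = 2)) ∧ q04 = 4)) :=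
    Hide.intro (pair_opts α04 α40 (T.m 0) (T.m 4) (T.w 0) (T.w 4) x04 x40 (T.a 0 4) (T.a 4 0) q04 pc04 hx04 hx40 h04 h40 hq04)
  have c05 : Hide (((Hide (x05 = 0 ∧ x50 = 0) ∧ Hide (T.a 0 5 = 0 ∧ T.a 5 0 = 0) ∧ Hide (α05 = 0 ∧ α50 = 0)) ∧ q05 = 0) ∨ ((Hide (x05 = T.m 5 ∧ x50 = T.m 0) ∧ Hide (T.a 0 5 = T.w 0 ∧ T.a 5 0 = T.w 5) ∧ Hide (α05 = 1 ∧ α50 = 1)) ∧ q05 = 1) ∨ ((Hide (x05 = T.m 5 ∧ x50 = 2 * T.m 0) ∧ Hide (T.a 0 5 = T.w 0 ∧ T.a 5 0 = 2 * T.w 5) ∧ Hide (α05 = 1 ∧ α50 = 2)) ∧ q05 = 2) ∨ ((Hide (x05 = 2 * T.m 5 ∧ x50 = T.m 0) ∧ Hide (T.a 0 5 = 2 * T.w 0 ∧ T.a 5 0 = T.w 5) ∧ Hide (α05 = 2 ∧ α50 = 1)) ∧ q05 = 2) ∨ ((Hide (x05 = T.m 5 ∧ x50 = 3 * T.m 0) ∧ Hide (T.a 0 5 = T.w 0 ∧ T.a 5 0 = 3 * T.w 5) ∧ Hide (α05 = 1 ∧ α50 = 3)) ∧ q05 = 3) ∨ ((Hide (x05 =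 3 * T.m 5 ∧ x50 = T.m 0) ∧ Hide (T.a 0 5 = 3 * T.w 0 ∧ T.a 5 0 = T.w 5) ∧ Hide (α05 = 3 ∧ α50 = 1)) ∧ q05 = 3) ∨ ((Hide (x05 = T.m 5 ∧ x50 = 4 * T.m 0) ∧ Hide (T.a 0 5 = T.w 0 ∧ T.a 5 0 = 4 * T.w 5) ∧ Hide (α05 = 1 ∧ α50 = 4)) ∧ q05 = 4) ∨ ((Hide (x05 = 4 * T.m 5 ∧ x50 = T.m 0) ∧ Hide (T.a 0 5 = 4 * T.w 0 ∧ T.a 5 0 = T.w 5) ∧ Hide (α05 = 4 ∧ α50 = 1)) ∧ q05 = 4) ∨ ((Hide (x05 = 2 * T.m 5 ∧ x50 = 2 * T.m 0) ∧ Hide (T.a 0 5 = 2 * T.w 0 ∧ T.a 5 0 = 2 * T.w 5) ∧ Hide (α05 = 2 ∧ α50 = 2)) ∧ q05 = 4)) :=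
    Hide.intro (pair_opts α05 α50 (T.m 0) (T.m 5) (T.w 0) (T.w 5) x05 x50 (T.a 0 5) (T.a 5 0) q05 pc05 hx05 hx50 h05 h50 hq05)
  have c06 : Hide (((Hide (x06 = 0 ∧ x60 = 0) ∧ Hide (T.a 0 6 = 0 ∧ T.a 6 0 = 0) ∧ Hide (α06 = 0 ∧ α60 = 0)) ∧ q06 = 0) ∨ ((Hide (x06 = T.m 6 ∧ x60 = T.m 0) ∧ Hide (T.a 0 6 = T.w 0 ∧ T.a 6 0 = T.w 6) ∧ Hide (α06 = 1 ∧ α60 = 1)) ∧ q06 = 1) ∨ ((Hide (x06 = T.m 6 ∧ x60 = 2 * T.m 0) ∧ Hide (T.a 0 6 = T.w 0 ∧ T.a 6 0 = 2 * T.w 6) ∧ Hide (α06 = 1 ∧ α60 = 2)) ∧ q06 = 2) ∨ ((Hide (x06 = 2 * T.m 6 ∧ x60 = T.m 0) ∧ Hide (T.a 0 6 = 2 * T.w 0 ∧ T.a 6 0 = T.w 6) ∧ Hide (α06 = 2 ∧ α60 = 1)) ∧ q06 = 2) ∨ ((Hide (x06 = T.m 6 ∧ x60 = 3 * T.m 0) ∧ Hide (T.a 0 6 = T.w 0 ∧ T.a 6 0 = 3 * T.w 6) ∧ Hide (α06 = 1 ∧ α60 = 3)) ∧ q06 = 3) ∨ ((Hide (x06 =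 3 * T.m 6 ∧ x60 = T.m 0) ∧ Hide (T.a 0 6 = 3 * T.w 0 ∧ T.a 6 0 = T.w 6) ∧ Hide (α06 = 3 ∧ α60 = 1)) ∧ q06 = 3) ∨ ((Hide (x06 = T.m 6 ∧ x60 = 4 * T.m 0) ∧ Hide (T.a 0 6 = T.w 0 ∧ T.a 6 0 = 4 * T.w 6) ∧ Hide (α06 = 1 ∧ α60 = 4)) ∧ q06 = 4) ∨ ((Hide (x06 = 4 * T.m 6 ∧ x60 = T.m 0) ∧ Hide (T.a 0 6 = 4 * T.w 0 ∧ T.a 6 0 = T.w 6) ∧ Hide (α06 = 4 ∧ α60 = 1)) ∧ q06 = 4) ∨ ((Hide (x06 = 2 * T.m 6 ∧ x60 = 2 * T.m 0) ∧ Hide (T.a 0 6 = 2 * T.w 0 ∧ T.a 6 0 = 2 * T.w 6) ∧ Hide (α06 = 2 ∧ α60 = 2)) ∧ q06 = 4)) :=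
    Hide.intro (pair_opts α06 α60 (T.m 0) (T.m 6) (T.w 0) (T.w 6) x06 x60 (T.a 0 6) (T.a 6 0) q06 pc06 hx06 hx60 h06 h60 hq06)
  have c12 : Hide (((Hide (x12 = 0 ∧ x21 = 0) ∧ Hide (T.a 1 2 = 0 ∧ T.a 2 1 = 0) ∧ Hide (α12 = 0 ∧ α21 = 0)) ∧ q12 = 0) ∨ ((Hide (x12 = T.m 2 ∧ x21 = T.m 1) ∧ Hide (T.a 1 2 = T.w 1 ∧ T.a 2 1 = T.w 2) ∧ Hide (α12 = 1 ∧ α21 = 1)) ∧ q12 = 1) ∨ ((Hide (x12 = T.m 2 ∧ x21 = 2 * T.m 1) ∧ Hide (T.a 1 2 = T.w 1 ∧ T.a 2 1 = 2 * T.w 2) ∧ Hide (α12 = 1 ∧ α21 = 2)) ∧ q12 = 2) ∨ ((Hide (x12 = 2 * T.m 2 ∧ x21 = T.m 1) ∧ Hide (T.a 1 2 = 2 * T.w 1 ∧ T.a 2 1 = T.w 2) ∧ Hide (α12 = 2 ∧ α21 = 1)) ∧ q12 = 2) ∨ ((Hide (x12 = T.m 2 ∧ x21 = 3 * T.m 1) ∧ Hide (T.a 1 2 = T.w 1 ∧ T.a 2 1 = 3 * T.w 2) ∧ Hide (α12 = 1 ∧ α21 = 3)) ∧ q12 = 3) ∨ ((Hide (x12 =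 3 * T.m 2 ∧ x21 = T.m 1) ∧ Hide (T.a 1 2 = 3 * T.w 1 ∧ T.a 2 1 = T.w 2) ∧ Hide (α12 = 3 ∧ α21 = 1)) ∧ q12 = 3) ∨ ((Hide (x12 = T.m 2 ∧ x21 = 4 * T.m 1) ∧ Hide (T.a 1 2 = T.w 1 ∧ T.a 2 1 = 4 * T.w 2) ∧ Hide (α12 = 1 ∧ α21 = 4)) ∧ q12 = 4) ∨ ((Hide (x12 = 4 * T.m 2 ∧ x21 = T.m 1) ∧ Hide (T.a 1 2 = 4 * T.w 1 ∧ T.a 2 1 = T.w 2) ∧ Hide (α12 = 4 ∧ α21 = 1)) ∧ q12 = 4) ∨ ((Hide (x12 = 2 * T.m 2 ∧ x21 = 2 * T.m 1) ∧ Hide (T.a 1 2 = 2 * T.w 1 ∧ T.a 2 1 = 2 * T.w 2) ∧ Hide (α12 = 2 ∧ α21 = 2)) ∧ q12 = 4)) :=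
    Hide.intro (pair_opts α12 α21 (T.m 1) (T.m 2) (T.w 1) (T.w 2) x12 x21 (T.a 1 2) (T.a 2 1) q12 pc12 hx12 hx21 h12 h21 hq12)
  have c13 : Hide (((Hide (x13 = 0 ∧ x31 = 0) ∧ Hide (T.a 1 3 = 0 ∧ T.a 3 1 = 0) ∧ Hide (α13 = 0 ∧ α31 = 0)) ∧ q13 = 0) ∨ ((Hide (x13 = T.m 3 ∧ x31 = T.m 1) ∧ Hide (T.a 1 3 = T.w 1 ∧ T.a 3 1 = T.w 3) ∧ Hide (α13 = 1 ∧ α31 = 1)) ∧ q13 = 1) ∨ ((Hide (x13 = T.m 3 ∧ x31 = 2 * T.m 1) ∧ Hide (T.a 1 3 = T.w 1 ∧ T.a 3 1 = 2 * T.w 3) ∧ Hide (α13 = 1 ∧ α31 = 2)) ∧ q13 = 2) ∨ ((Hide (x13 = 2 * T.m 3 ∧ x31 = T.m 1) ∧ Hide (T.a 1 3 = 2 * T.w 1 ∧ T.a 3 1 = T.w 3) ∧ Hide (α13 = 2 ∧ α31 = 1)) ∧ q13 = 2) ∨ ((Hide (x13 = T.m 3 ∧ x31 = 3 * T.m 1) ∧ Hide (T.a 1 3 = T.w 1 ∧ T.a 3 1 = 3 * T.w 3) ∧ Hide (α13 = 1 ∧ α31 = 3)) ∧ q13 = 3) ∨ ((Hide (x13 =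 3 * T.m 3 ∧ x31 = T.m 1) ∧ Hide (T.a 1 3 = 3 * T.w 1 ∧ T.a 3 1 = T.w 3) ∧ Hide (α13 = 3 ∧ α31 = 1)) ∧ q13 = 3) ∨ ((Hide (x13 = T.m 3 ∧ x31 = 4 * T.m 1) ∧ Hide (T.a 1 3 = T.w 1 ∧ T.a 3 1 = 4 * T.w 3) ∧ Hide (α13 = 1 ∧ α31 = 4)) ∧ q13 = 4) ∨ ((Hide (x13 = 4 * T.m 3 ∧ x31 = T.m 1) ∧ Hide (T.a 1 3 = 4 * T.w 1 ∧ T.a 3 1 = T.w 3) ∧ Hide (α13 = 4 ∧ α31 = 1)) ∧ q13 = 4) ∨ ((Hide (x13 = 2 * T.m 3 ∧ x31 = 2 * T.m 1) ∧ Hide (T.a 1 3 = 2 * T.w 1 ∧ T.a 3 1 = 2 * T.w 3) ∧ Hide (α13 = 2 ∧ α31 = 2)) ∧ q13 = 4)) :=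
    Hide.intro (pair_opts α13 α31 (T.m 1) (T.m 3) (T.w 1) (T.w 3) x13 x31 (T.a 1 3) (T.a 3 1) q13 pc13 hx13 hx31 h13 h31 hq13)
  have c14 : Hide (((Hide (x14 = 0 ∧ x41 = 0) ∧ Hide (T.a 1 4 = 0 ∧ T.a 4 1 = 0) ∧ Hide (α14 = 0 ∧ α41 = 0)) ∧ q14 = 0) ∨ ((Hide (x14 = T.m 4 ∧ x41 = T.m 1) ∧ Hide (T.a 1 4 = T.w 1 ∧ T.a 4 1 = T.w 4) ∧ Hide (α14 = 1 ∧ α41 = 1)) ∧ q14 = 1) ∨ ((Hide (x14 = T.m 4 ∧ x41 = 2 * T.m 1) ∧ Hide (T.a 1 4 = T.w 1 ∧ T.a 4 1 = 2 * T.w 4) ∧ Hide (α14 = 1 ∧ α41 = 2)) ∧ q14 = 2) ∨ ((Hide (x14 = 2 * T.m 4 ∧ x41 = T.m 1) ∧ Hide (T.a 1 4 = 2 * T.w 1 ∧ T.a 4 1 = T.w 4) ∧ Hide (α14 = 2 ∧ α41 = 1)) ∧ q14 = 2) ∨ ((Hide (x14 = T.m 4 ∧ x41 = 3 * T.m 1) ∧ Hide (T.a 1 4 = T.w 1 ∧ T.a 4 1 = 3 * T.w 4) ∧ Hide (α14 = 1 ∧ α41 = 3)) ∧ q14 = 3) ∨ ((Hide (x14 =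 3 * T.m 4 ∧ x41 = T.m 1) ∧ Hide (T.a 1 4 = 3 * T.w 1 ∧ T.a 4 1 = T.w 4) ∧ Hide (α14 = 3 ∧ α41 = 1)) ∧ q14 = 3) ∨ ((Hide (x14 = T.m 4 ∧ x41 = 4 * T.m 1) ∧ Hide (T.a 1 4 = T.w 1 ∧ T.a 4 1 = 4 * T.w 4) ∧ Hide (α14 = 1 ∧ α41 = 4)) ∧ q14 = 4) ∨ ((Hide (x14 = 4 * T.m 4 ∧ x41 = T.m 1) ∧ Hide (T.a 1 4 = 4 * T.w 1 ∧ T.a 4 1 = T.w 4) ∧ Hide (α14 = 4 ∧ α41 = 1)) ∧ q14 = 4) ∨ ((Hide (x14 = 2 * T.m 4 ∧ x41 = 2 * T.m 1) ∧ Hide (T.a 1 4 = 2 * T.w 1 ∧ T.a 4 1 = 2 * T.w 4) ∧ Hide (α14 = 2 ∧ α41 = 2)) ∧ q14 = 4)) :=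
    Hide.intro (pair_opts α14 α41 (T.m 1) (T.m 4) (T.w 1) (T.w 4) x14 x41 (T.a 1 4) (T.a 4 1) q14 pc14 hx14 hx41 h14 h41 hq14)
  have c15 : Hide (((Hide (x15 = 0 ∧ x51 = 0) ∧ Hide (T.a 1 5 = 0 ∧ T.a 5 1 = 0) ∧ Hide (α15 = 0 ∧ α51 = 0)) ∧ q15 = 0) ∨ ((Hide (x15 = T.m 5 ∧ x51 = T.m 1) ∧ Hide (T.a 1 5 = T.w 1 ∧ T.a 5 1 = T.w 5) ∧ Hide (α15 = 1 ∧ α51 = 1)) ∧ q15 = 1) ∨ ((Hide (x15 = T.m 5 ∧ x51 = 2 * T.m 1) ∧ Hide (T.a 1 5 = T.w 1 ∧ T.a 5 1 = 2 * T.w 5) ∧ Hide (α15 = 1 ∧ α51 = 2)) ∧ q15 = 2) ∨ ((Hide (x15 = 2 * T.m 5 ∧ x51 = T.m 1) ∧ Hide (T.a 1 5 = 2 * T.w 1 ∧ T.a 5 1 = T.w 5) ∧ Hide (α15 = 2 ∧ α51 = 1)) ∧ q15 = 2) ∨ ((Hide (x15 = T.m 5 ∧ x51 = 3 * T.m 1) ∧ Hide (T.a 1 5 = T.w 1 ∧ T.a 5 1 = 3 * T.w 5) ∧ Hide (α15 = 1 ∧ α51 = 3)) ∧ q15 = 3) ∨ ((Hide (x15 =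 3 * T.m 5 ∧ x51 = T.m 1) ∧ Hide (T.a 1 5 = 3 * T.w 1 ∧ T.a 5 1 = T.w 5) ∧ Hide (α15 = 3 ∧ α51 = 1)) ∧ q15 = 3) ∨ ((Hide (x15 = T.m 5 ∧ x51 = 4 * T.m 1) ∧ Hide (T.a 1 5 = T.w 1 ∧ T.a 5 1 = 4 * T.w 5) ∧ Hide (α15 = 1 ∧ α51 = 4)) ∧ q15 = 4) ∨ ((Hide (x15 = 4 * T.m 5 ∧ x51 = T.m 1) ∧ Hide (T.a 1 5 = 4 * T.w 1 ∧ T.a 5 1 = T.w 5) ∧ Hide (α15 = 4 ∧ α51 = 1)) ∧ q15 = 4) ∨ ((Hide (x15 = 2 * T.m 5 ∧ x51 = 2 * T.m 1) ∧ Hide (T.a 1 5 = 2 * T.w 1 ∧ T.a 5 1 = 2 * T.w 5) ∧ Hide (α15 = 2 ∧ α51 = 2)) ∧ q15 = 4)) :=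
    Hide.intro (pair_opts α15 α51 (T.m 1) (T.m 5) (T.w 1) (T.w 5) x15 x51 (T.a 1 5) (T.a 5 1) q15 pc15 hx15 hx51 h15 h51 hq15)
  have c16 : Hide (((Hide (x16 = 0 ∧ x61 = 0) ∧ Hide (T.a 1 6 = 0 ∧ T.a 6 1 = 0) ∧ Hide (α16 = 0 ∧ α61 = 0)) ∧ q16 = 0) ∨ ((Hide (x16 = T.m 6 ∧ x61 = T.m 1) ∧ Hide (T.a 1 6 = T.w 1 ∧ T.a 6 1 = T.w 6) ∧ Hide (α16 = 1 ∧ α61 = 1)) ∧ q16 = 1) ∨ ((Hide (x16 = T.m 6 ∧ x61 = 2 * T.m 1) ∧ Hide (T.a 1 6 = T.w 1 ∧ T.a 6 1 = 2 * T.w 6) ∧ Hide (α16 = 1 ∧ α61 = 2)) ∧ q16 = 2) ∨ ((Hide (x16 = 2 * T.m 6 ∧ x61 = T.m 1) ∧ Hide (T.a 1 6 = 2 * T.w 1 ∧ T.a 6 1 = T.w 6) ∧ Hide (α16 = 2 ∧ α61 = 1)) ∧ q16 = 2) ∨ ((Hide (x16 = T.m 6 ∧ x61 = 3 * T.m 1) ∧ Hide (T.a 1 6 = T.w 1 ∧ T.a 6 1 = 3 * T.w 6) ∧ Hide (α16 = 1 ∧ α61 = 3)) ∧ q16 = 3) ∨ ((Hide (x16 =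 3 * T.m 6 ∧ x61 = T.m 1) ∧ Hide (T.a 1 6 = 3 * T.w 1 ∧ T.a 6 1 = T.w 6) ∧ Hide (α16 = 3 ∧ α61 = 1)) ∧ q16 = 3) ∨ ((Hide (x16 = T.m 6 ∧ x61 = 4 * T.m 1) ∧ Hide (T.a 1 6 = T.w 1 ∧ T.a 6 1 = 4 * T.w 6) ∧ Hide (α16 = 1 ∧ α61 = 4)) ∧ q16 = 4) ∨ ((Hide (x16 = 4 * T.m 6 ∧ x61 = T.m 1) ∧ Hide (T.a 1 6 = 4 * T.w 1 ∧ T.a 6 1 = T.w 6) ∧ Hide (α16 = 4 ∧ α61 = 1)) ∧ q16 = 4) ∨ ((Hide (x16 = 2 * T.m 6 ∧ x61 = 2 * T.m 1) ∧ Hide (T.a 1 6 = 2 * T.w 1 ∧ T.a 6 1 = 2 * T.w 6) ∧ Hide (α16 = 2 ∧ α61 = 2)) ∧ q16 = 4)) :=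
    Hide.intro (pair_opts α16 α61 (T.m 1) (T.m 6) (T.w 1) (T.w 6) x16 x61 (T.a 1 6) (T.a 6 1) q16 pc16 hx16 hx61 h16 h61 hq16)
  have c23 : Hide (((Hide (x23 = 0 ∧ x32 = 0) ∧ Hide (T.a 2 3 = 0 ∧ T.a 3 2 = 0) ∧ Hide (α23 = 0 ∧ α32 = 0)) ∧ q23 = 0) ∨ ((Hide (x23 = T.m 3 ∧ x32 = T.m 2) ∧ Hide (T.a 2 3 = T.w 2 ∧ T.a 3 2 = T.w 3) ∧ Hide (α23 = 1 ∧ α32 = 1)) ∧ q23 = 1) ∨ ((Hide (x23 = T.m 3 ∧ x32 = 2 * T.m 2) ∧ Hide (T.a 2 3 = T.w 2 ∧ T.a 3 2 = 2 * T.w 3) ∧ Hide (α23 = 1 ∧ α32 = 2)) ∧ q23 = 2) ∨ ((Hide (x23 = 2 * T.m 3 ∧ x32 = T.m 2) ∧ Hide (T.a 2 3 = 2 * T.w 2 ∧ T.a 3 2 = T.w 3) ∧ Hide (α23 = 2 ∧ α32 = 1)) ∧ q23 = 2) ∨ ((Hide (x23 = T.m 3 ∧ x32 = 3 * T.m 2) ∧ Hide (T.a 2 3 = T.w 2 ∧ T.a 3 2 = 3 * T.w 3) ∧ Hide (α23 = 1 ∧ α32 = 3)) ∧ q23 = 3) ∨ ((Hide (x23 =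 3 * T.m 3 ∧ x32 = T.m 2) ∧ Hide (T.a 2 3 = 3 * T.w 2 ∧ T.a 3 2 = T.w 3) ∧ Hide (α23 = 3 ∧ α32 = 1)) ∧ q23 = 3) ∨ ((Hide (x23 = T.m 3 ∧ x32 = 4 * T.m 2) ∧ Hide (T.a 2 3 = T.w 2 ∧ T.a 3 2 = 4 * T.w 3) ∧ Hide (α23 = 1 ∧ α32 = 4)) ∧ q23 = 4) ∨ ((Hide (x23 = 4 * T.m 3 ∧ x32 = T.m 2) ∧ Hide (T.a 2 3 = 4 * T.w 2 ∧ T.a 3 2 = T.w 3) ∧ Hide (α23 = 4 ∧ α32 = 1)) ∧ q23 = 4) ∨ ((Hide (x23 = 2 * T.m 3 ∧ x32 = 2 * T.m 2) ∧ Hide (T.a 2 3 = 2 * T.w 2 ∧ T.a 3 2 = 2 * T.w 3) ∧ Hide (α23 = 2 ∧ α32 = 2)) ∧ q23 = 4)) :=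
    Hide.intro (pair_opts α23 α32 (T.m 2) (T.m 3) (T.w 2) (T.w 3) x23 x32 (T.a 2 3) (T.a 3 2) q23 pc23 hx23 hx32 h23 h32 hq23)
  have c24 : Hide (((Hide (x24 = 0 ∧ x42 = 0) ∧ Hide (T.a 2 4 = 0 ∧ T.a 4 2 = 0) ∧ Hide (α24 = 0 ∧ α42 = 0)) ∧ q24 = 0) ∨ ((Hide (x24 = T.m 4 ∧ x42 = T.m 2) ∧ Hide (T.a 2 4 = T.w 2 ∧ T.a 4 2 = T.w 4) ∧ Hide (α24 = 1 ∧ α42 = 1)) ∧ q24 = 1) ∨ ((Hide (x24 = T.m 4 ∧ x42 = 2 * T.m 2) ∧ Hide (T.a 2 4 = T.w 2 ∧ T.a 4 2 = 2 * T.w 4) ∧ Hide (α24 = 1 ∧ α42 = 2)) ∧ q24 = 2) ∨ ((Hide (x24 = 2 * T.m 4 ∧ x42 = T.m 2) ∧ Hide (T.a 2 4 = 2 * T.w 2 ∧ T.a 4 2 = T.w 4) ∧ Hide (α24 = 2 ∧ α42 = 1)) ∧ q24 = 2) ∨ ((Hide (x24 = T.m 4 ∧ x42 = 3 * T.m 2) ∧ Hide (T.a 2 4 = T.w 2 ∧ T.a 4 2 = 3 * T.w 4) ∧ Hide (α24 = 1 ∧ α42 = 3)) ∧ q24 = 3) ∨ ((Hide (x24 =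 3 * T.m 4 ∧ x42 = T.m 2) ∧ Hide (T.a 2 4 = 3 * T.w 2 ∧ T.a 4 2 = T.w 4) ∧ Hide (α24 = 3 ∧ α42 = 1)) ∧ q24 = 3) ∨ ((Hide (x24 = T.m 4 ∧ x42 = 4 * T.m 2) ∧ Hide (T.a 2 4 = T.w 2 ∧ T.a 4 2 = 4 * T.w 4) ∧ Hide (α24 = 1 ∧ α42 = 4)) ∧ q24 = 4) ∨ ((Hide (x24 = 4 * T.m 4 ∧ x42 = T.m 2) ∧ Hide (T.a 2 4 = 4 * T.w 2 ∧ T.a 4 2 = T.w 4) ∧ Hide (α24 = 4 ∧ α42 = 1)) ∧ q24 = 4) ∨ ((Hide (x24 = 2 * T.m 4 ∧ x42 = 2 * T.m 2) ∧ Hide (T.a 2 4 = 2 * T.w 2 ∧ T.a 4 2 = 2 * T.w 4) ∧ Hide (α24 = 2 ∧ α42 = 2)) ∧ q24 = 4)) :=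
    Hide.intro (pair_opts α24 α42 (T.m 2) (T.m 4) (T.w 2) (T.w 4) x24 x42 (T.a 2 4) (T.a 4 2) q24 pc24 hx24 hx42 h24 h42 hq24)
  have c25 : Hide (((Hide (x25 = 0 ∧ x52 = 0) ∧ Hide (T.a 2 5 = 0 ∧ T.a 5 2 = 0) ∧ Hide (α25 = 0 ∧ α52 = 0)) ∧ q25 = 0) ∨ ((Hide (x25 = T.m 5 ∧ x52 = T.m 2) ∧ Hide (T.a 2 5 = T.w 2 ∧ T.a 5 2 = T.w 5) ∧ Hide (α25 = 1 ∧ α52 = 1)) ∧ q25 = 1) ∨ ((Hide (x25 = T.m 5 ∧ x52 = 2 * T.m 2) ∧ Hide (T.a 2 5 = T.w 2 ∧ T.a 5 2 = 2 * T.w 5) ∧ Hide (α25 = 1 ∧ α52 = 2)) ∧ q25 = 2) ∨ ((Hide (x25 = 2 * T.m 5 ∧ x52 = T.m 2) ∧ Hide (T.a 2 5 = 2 * T.w 2 ∧ T.a 5 2 = T.w 5) ∧ Hide (α25 = 2 ∧ α52 = 1)) ∧ q25 = 2) ∨ ((Hide (x25 = T.m 5 ∧ x52 = 3 * T.m 2) ∧ Hide (T.a 2 5 = T.w 2 ∧ T.a 5 2 = 3 * T.w 5) ∧ Hide (α25 = 1 ∧ α52 = 3)) ∧ q25 = 3) ∨ ((Hide (x25 =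 3 * T.m 5 ∧ x52 = T.m 2) ∧ Hide (T.a 2 5 = 3 * T.w 2 ∧ T.a 5 2 = T.w 5) ∧ Hide (α25 = 3 ∧ α52 = 1)) ∧ q25 = 3) ∨ ((Hide (x25 = T.m 5 ∧ x52 = 4 * T.m 2) ∧ Hide (T.a 2 5 = T.w 2 ∧ T.a 5 2 = 4 * T.w 5) ∧ Hide (α25 = 1 ∧ α52 = 4)) ∧ q25 = 4) ∨ ((Hide (x25 = 4 * T.m 5 ∧ x52 = T.m 2) ∧ Hide (T.a 2 5 = 4 * T.w 2 ∧ T.a 5 2 = T.w 5) ∧ Hide (α25 = 4 ∧ α52 = 1)) ∧ q25 = 4) ∨ ((Hide (x25 = 2 * T.m 5 ∧ x52 = 2 * T.m 2) ∧ Hide (T.a 2 5 = 2 * T.w 2 ∧ T.a 5 2 = 2 * T.w 5) ∧ Hide (α25 = 2 ∧ α52 = 2)) ∧ q25 = 4)) :=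
    Hide.intro (pair_opts α25 α52 (T.m 2) (T.m 5) (T.w 2) (T.w 5) x25 x52 (T.a 2 5) (T.a 5 2) q25 pc25 hx25 hx52 h25 h52 hq25)
  have c26 : Hide (((Hide (x26 = 0 ∧ x62 = 0) ∧ Hide (T.a 2 6 = 0 ∧ T.a 6 2 = 0) ∧ Hide (α26 = 0 ∧ α62 = 0)) ∧ q26 = 0) ∨ ((Hide (x26 = T.m 6 ∧ x62 = T.m 2) ∧ Hide (T.a 2 6 = T.w 2 ∧ T.a 6 2 = T.w 6) ∧ Hide (α26 = 1 ∧ α62 = 1)) ∧ q26 = 1) ∨ ((Hide (x26 = T.m 6 ∧ x62 = 2 * T.m 2) ∧ Hide (T.a 2 6 = T.w 2 ∧ T.a 6 2 = 2 * T.w 6) ∧ Hide (α26 = 1 ∧ α62 = 2)) ∧ q26 = 2) ∨ ((Hide (x26 = 2 * T.m 6 ∧ x62 = T.m 2) ∧ Hide (T.a 2 6 = 2 * T.w 2 ∧ T.a 6 2 = T.w 6) ∧ Hide (α26 = 2 ∧ α62 = 1)) ∧ q26 = 2) ∨ ((Hide (x26 = T.m 6 ∧ x62 = 3 * T.m 2) ∧ Hide (T.a 2 6 = T.w 2 ∧ T.a 6 2 = 3 * T.w 6) ∧ Hide (α26 = 1 ∧ α62 = 3)) ∧ q26 = 3) ∨ ((Hide (x26 =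 3 * T.m 6 ∧ x62 = T.m 2) ∧ Hide (T.a 2 6 = 3 * T.w 2 ∧ T.a 6 2 = T.w 6) ∧ Hide (α26 = 3 ∧ α62 = 1)) ∧ q26 = 3) ∨ ((Hide (x26 = T.m 6 ∧ x62 = 4 * T.m 2) ∧ Hide (T.a 2 6 = T.w 2 ∧ T.a 6 2 = 4 * T.w 6) ∧ Hide (α26 = 1 ∧ α62 = 4)) ∧ q26 = 4) ∨ ((Hide (x26 = 4 * T.m 6 ∧ x62 = T.m 2) ∧ Hide (T.a 2 6 = 4 * T.w 2 ∧ T.a 6 2 = T.w 6) ∧ Hide (α26 = 4 ∧ α62 = 1)) ∧ q26 = 4) ∨ ((Hide (x26 = 2 * T.m 6 ∧ x62 = 2 * T.m 2) ∧ Hide (T.a 2 6 = 2 * T.w 2 ∧ T.a 6 2 = 2 * T.w 6) ∧ Hide (α26 = 2 ∧ α62 = 2)) ∧ q26 = 4)) :=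
    Hide.intro (pair_opts α26 α62 (T.m 2) (T.m 6) (T.w 2) (T.w 6) x26 x62 (T.a 2 6) (T.a 6 2) q26 pc26 hx26 hx62 h26 h62 hq26)
  have c34 : Hide (((Hide (x34 = 0 ∧ x43 = 0) ∧ Hide (T.a 3 4 = 0 ∧ T.a 4 3 = 0) ∧ Hide (α34 = 0 ∧ α43 = 0)) ∧ q34 = 0) ∨ ((Hide (x34 = T.m 4 ∧ x43 = T.m 3) ∧ Hide (T.a 3 4 = T.w 3 ∧ T.a 4 3 = T.w 4) ∧ Hide (α34 = 1 ∧ α43 = 1)) ∧ q34 = 1) ∨ ((Hide (x34 = T.m 4 ∧ x43 = 2 * T.m 3) ∧ Hide (T.a 3 4 = T.w 3 ∧ T.a 4 3 = 2 * T.w 4) ∧ Hide (α34 = 1 ∧ α43 = 2)) ∧ q34 = 2) ∨ ((Hide (x34 = 2 * T.m 4 ∧ x43 = T.m 3) ∧ Hide (T.a 3 4 = 2 * T.w 3 ∧ T.a 4 3 = T.w 4) ∧ Hide (α34 = 2 ∧ α43 = 1)) ∧ q34 = 2) ∨ ((Hide (x34 = T.m 4 ∧ x43 = 3 * T.m 3) ∧ Hide (T.a 3 4 = T.w 3 ∧ T.a 4 3 = 3 * T.w 4) ∧ Hide (α34 = 1 ∧ α43 = 3)) ∧ q34 = 3) ∨ ((Hide (x34 =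 3 * T.m 4 ∧ x43 = T.m 3) ∧ Hide (T.a 3 4 = 3 * T.w 3 ∧ T.a 4 3 = T.w 4) ∧ Hide (α34 = 3 ∧ α43 = 1)) ∧ q34 = 3) ∨ ((Hide (x34 = T.m 4 ∧ x43 = 4 * T.m 3) ∧ Hide (T.a 3 4 = T.w 3 ∧ T.a 4 3 = 4 * T.w 4) ∧ Hide (α34 = 1 ∧ α43 = 4)) ∧ q34 = 4) ∨ ((Hide (x34 = 4 * T.m 4 ∧ x43 = T.m 3) ∧ Hide (T.a 3 4 = 4 * T.w 3 ∧ T.a 4 3 = T.w 4) ∧ Hide (α34 = 4 ∧ α43 = 1)) ∧ q34 = 4) ∨ ((Hide (x34 = 2 * T.m 4 ∧ x43 = 2 * T.m 3) ∧ Hide (T.a 3 4 = 2 * T.w 3 ∧ T.a 4 3 = 2 * T.w 4) ∧ Hide (α34 = 2 ∧ α43 = 2)) ∧ q34 = 4)) :=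
    Hide.intro (pair_opts α34 α43 (T.m 3) (T.m 4) (T.w 3) (T.w 4) x34 x43 (T.a 3 4) (T.a 4 3) q34 pc34 hx34 hx43 h34 h43 hq34)
  have c35 : Hide (((Hide (x35 = 0 ∧ x53 = 0) ∧ Hide (T.a 3 5 = 0 ∧ T.a 5 3 = 0) ∧ Hide (α35 = 0 ∧ α53 = 0)) ∧ q35 = 0) ∨ ((Hide (x35 = T.m 5 ∧ x53 = T.m 3) ∧ Hide (T.a 3 5 = T.w 3 ∧ T.a 5 3 = T.w 5) ∧ Hide (α35 = 1 ∧ α53 = 1)) ∧ q35 = 1) ∨ ((Hide (x35 = T.m 5 ∧ x53 = 2 * T.m 3) ∧ Hide (T.a 3 5 = T.w 3 ∧ T.a 5 3 = 2 * T.w 5) ∧ Hide (α35 = 1 ∧ α53 = 2)) ∧ q35 = 2) ∨ ((Hide (x35 = 2 * T.m 5 ∧ x53 = T.m 3) ∧ Hide (T.a 3 5 = 2 * T.w 3 ∧ T.a 5 3 = T.w 5) ∧ Hide (α35 = 2 ∧ α53 = 1)) ∧ q35 = 2) ∨ ((Hide (x35 = T.m 5 ∧ x53 = 3 * T.m 3) ∧ Hide (T.a 3 5 = T.w 3 ∧ T.a 5 3 = 3 * T.w 5) ∧ Hide (α35 = 1 ∧ α53 = 3)) ∧ q35 = 3) ∨ ((Hide (x35 =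 3 * T.m 5 ∧ x53 = T.m 3) ∧ Hide (T.a 3 5 = 3 * T.w 3 ∧ T.a 5 3 = T.w 5) ∧ Hide (α35 = 3 ∧ α53 = 1)) ∧ q35 = 3) ∨ ((Hide (x35 = T.m 5 ∧ x53 = 4 * T.m 3) ∧ Hide (T.a 3 5 = T.w 3 ∧ T.a 5 3 = 4 * T.w 5) ∧ Hide (α35 = 1 ∧ α53 = 4)) ∧ q35 = 4) ∨ ((Hide (x35 = 4 * T.m 5 ∧ x53 = T.m 3) ∧ Hide (T.a 3 5 = 4 * T.w 3 ∧ T.a 5 3 = T.w 5) ∧ Hide (α35 = 4 ∧ α53 = 1)) ∧ q35 = 4) ∨ ((Hide (x35 = 2 * T.m 5 ∧ x53 = 2 * T.m 3) ∧ Hide (T.a 3 5 = 2 * T.w 3 ∧ T.a 5 3 = 2 * T.w 5) ∧ Hide (α35 = 2 ∧ α53 = 2)) ∧ q35 = 4)) :=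
    Hide.intro (pair_opts α35 α53 (T.m 3) (T.m 5) (T.w 3) (T.w 5) x35 x53 (T.a 3 5) (T.a 5 3) q35 pc35 hx35 hx53 h35 h53 hq35)
  have c36 : Hide (((Hide (x36 = 0 ∧ x63 = 0) ∧ Hide (T.a 3 6 = 0 ∧ T.a 6 3 = 0) ∧ Hide (α36 = 0 ∧ α63 = 0)) ∧ q36 = 0) ∨ ((Hide (x36 = T.m 6 ∧ x63 = T.m 3) ∧ Hide (T.a 3 6 = T.w 3 ∧ T.a 6 3 = T.w 6) ∧ Hide (α36 = 1 ∧ α63 = 1)) ∧ q36 = 1) ∨ ((Hide (x36 = T.m 6 ∧ x63 = 2 * T.m 3) ∧ Hide (T.a 3 6 = T.w 3 ∧ T.a 6 3 = 2 * T.w 6) ∧ Hide (α36 = 1 ∧ α63 = 2)) ∧ q36 = 2) ∨ ((Hide (x36 = 2 * T.m 6 ∧ x63 = T.m 3) ∧ Hide (T.a 3 6 = 2 * T.w 3 ∧ T.a 6 3 = T.w 6) ∧ Hide (α36 = 2 ∧ α63 = 1)) ∧ q36 = 2) ∨ ((Hide (x36 = T.m 6 ∧ x63 = 3 * T.m 3) ∧ Hide (T.a 3 6 = T.w 3 ∧ T.a 6 3 = 3 * T.w 6) ∧ Hide (α36 = 1 ∧ α63 = 3)) ∧ q36 = 3) ∨ ((Hide (x36 =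 3 * T.m 6 ∧ x63 = T.m 3) ∧ Hide (T.a 3 6 = 3 * T.w 3 ∧ T.a 6 3 = T.w 6) ∧ Hide (α36 = 3 ∧ α63 = 1)) ∧ q36 = 3) ∨ ((Hide (x36 = T.m 6 ∧ x63 = 4 * T.m 3) ∧ Hide (T.a 3 6 = T.w 3 ∧ T.a 6 3 = 4 * T.w 6) ∧ Hide (α36 = 1 ∧ α63 = 4)) ∧ q36 = 4) ∨ ((Hide (x36 = 4 * T.m 6 ∧ x63 = T.m 3) ∧ Hide (T.a 3 6 = 4 * T.w 3 ∧ T.a 6 3 = T.w 6) ∧ Hide (α36 = 4 ∧ α63 = 1)) ∧ q36 = 4) ∨ ((Hide (x36 = 2 * T.m 6 ∧ x63 = 2 * T.m 3) ∧ Hide (T.a 3 6 = 2 * T.w 3 ∧ T.a 6 3 = 2 * T.w 6) ∧ Hide (α36 = 2 ∧ α63 = 2)) ∧ q36 = 4)) :=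
    Hide.intro (pair_opts α36 α63 (T.m 3) (T.m 6) (T.w 3) (T.w 6) x36 x63 (T.a 3 6) (T.a 6 3) q36 pc36 hx36 hx63 h36 h63 hq36)
  have c45 : Hide (((Hide (x45 = 0 ∧ x54 = 0) ∧ Hide (T.a 4 5 = 0 ∧ T.a 5 4 = 0) ∧ Hide (α45 = 0 ∧ α54 = 0)) ∧ q45 = 0) ∨ ((Hide (x45 = T.m 5 ∧ x54 = T.m 4) ∧ Hide (T.a 4 5 = T.w 4 ∧ T.a 5 4 = T.w 5) ∧ Hide (α45 = 1 ∧ α54 = 1)) ∧ q45 = 1) ∨ ((Hide (x45 = T.m 5 ∧ x54 = 2 * T.m 4) ∧ Hide (T.a 4 5 = T.w 4 ∧ T.a 5 4 = 2 * T.w 5) ∧ Hide (α45 = 1 ∧ α54 = 2)) ∧ q45 = 2) ∨ ((Hide (x45 = 2 * T.m 5 ∧ x54 = T.m 4) ∧ Hide (T.a 4 5 = 2 * T.w 4 ∧ T.a 5 4 = T.w 5) ∧ Hide (α45 = 2 ∧ α54 = 1)) ∧ q45 = 2) ∨ ((Hide (x45 = T.m 5 ∧ x54 = 3 * T.m 4) ∧ Hide (T.a 4 5 = T.w 4 ∧ T.a 5 4 = 3 * T.w 5) ∧ Hide (α45 = 1 ∧ α54 = 3)) ∧ q45 = 3) ∨ ((Hide (x45 =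 3 * T.m 5 ∧ x54 = T.m 4) ∧ Hide (T.a 4 5 = 3 * T.w 4 ∧ T.a 5 4 = T.w 5) ∧ Hide (α45 = 3 ∧ α54 = 1)) ∧ q45 = 3) ∨ ((Hide (x45 = T.m 5 ∧ x54 = 4 * T.m 4) ∧ Hide (T.a 4 5 = T.w 4 ∧ T.a 5 4 = 4 * T.w 5) ∧ Hide (α45 = 1 ∧ α54 = 4)) ∧ q45 = 4) ∨ ((Hide (x45 = 4 * T.m 5 ∧ x54 = T.m 4) ∧ Hide (T.a 4 5 = 4 * T.w 4 ∧ T.a 5 4 = T.w 5) ∧ Hide (α45 = 4 ∧ α54 = 1)) ∧ q45 = 4) ∨ ((Hide (x45 = 2 * T.m 5 ∧ x54 = 2 * T.m 4) ∧ Hide (T.a 4 5 = 2 * T.w 4 ∧ T.a 5 4 = 2 * T.w 5) ∧ Hide (α45 = 2 ∧ α54 = 2)) ∧ q45 = 4)) :=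
    Hide.intro (pair_opts α45 α54 (T.m 4) (T.m 5) (T.w 4) (T.w 5) x45 x54 (T.a 4 5) (T.a 5 4) q45 pc45 hx45 hx54 h45 h54 hq45)
  have c46 : Hide (((Hide (x46 = 0 ∧ x64 = 0) ∧ Hide (T.a 4 6 = 0 ∧ T.a 6 4 = 0) ∧ Hide (α46 = 0 ∧ α64 = 0)) ∧ q46 = 0) ∨ ((Hide (x46 = T.m 6 ∧ x64 = T.m 4) ∧ Hide (T.a 4 6 = T.w 4 ∧ T.a 6 4 = T.w 6) ∧ Hide (α46 = 1 ∧ α64 = 1)) ∧ q46 = 1) ∨ ((Hide (x46 = T.m 6 ∧ x64 = 2 * T.m 4) ∧ Hide (T.a 4 6 = T.w 4 ∧ T.a 6 4 = 2 * T.w 6) ∧ Hide (α46 = 1 ∧ α64 = 2)) ∧ q46 = 2) ∨ ((Hide (x46 = 2 * T.m 6 ∧ x64 = T.m 4) ∧ Hide (T.a 4 6 = 2 * T.w 4 ∧ T.a 6 4 = T.w 6) ∧ Hide (α46 = 2 ∧ α64 = 1)) ∧ q46 = 2) ∨ ((Hide (x46 = T.m 6 ∧ x64 = 3 * T.m 4) ∧ Hide (T.a 4 6 = T.w 4 ∧ T.a 6 4 = 3 * T.w 6) ∧ Hide (α46 = 1 ∧ α64 = 3)) ∧ q46 = 3) ∨ ((Hide (x46 =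 3 * T.m 6 ∧ x64 = T.m 4) ∧ Hide (T.a 4 6 = 3 * T.w 4 ∧ T.a 6 4 = T.w 6) ∧ Hide (α46 = 3 ∧ α64 = 1)) ∧ q46 = 3) ∨ ((Hide (x46 = T.m 6 ∧ x64 = 4 * T.m 4) ∧ Hide (T.a 4 6 = T.w 4 ∧ T.a 6 4 = 4 * T.w 6) ∧ Hide (α46 = 1 ∧ α64 = 4)) ∧ q46 = 4) ∨ ((Hide (x46 = 4 * T.m 6 ∧ x64 = T.m 4) ∧ Hide (T.a 4 6 = 4 * T.w 4 ∧ T.a 6 4 = T.w 6) ∧ Hide (α46 = 4 ∧ α64 = 1)) ∧ q46 = 4) ∨ ((Hide (x46 = 2 * T.m 6 ∧ x64 = 2 * T.m 4) ∧ Hide (T.a 4 6 = 2 * T.w 4 ∧ T.a 6 4 = 2 * T.w 6) ∧ Hide (α46 = 2 ∧ α64 = 2)) ∧ q46 = 4)) :=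
    Hide.intro (pair_opts α46 α64 (T.m 4) (T.m 6) (T.w 4) (T.w 6) x46 x64 (T.a 4 6) (T.a 6 4) q46 pc46 hx46 hx64 h46 h64 hq46)
  have c56 : Hide (((Hide (x56 = 0 ∧ x65 = 0) ∧ Hide (T.a 5 6 = 0 ∧ T.a 6 5 = 0) ∧ Hide (α56 = 0 ∧ α65 = 0)) ∧ q56 = 0) ∨ ((Hide (x56 = T.m 6 ∧ x65 = T.m 5) ∧ Hide (T.a 5 6 = T.w 5 ∧ T.a 6 5 = T.w 6) ∧ Hide (α56 = 1 ∧ α65 = 1)) ∧ q56 = 1) ∨ ((Hide (x56 = T.m 6 ∧ x65 = 2 * T.m 5) ∧ Hide (T.a 5 6 = T.w 5 ∧ T.a 6 5 = 2 * T.w 6) ∧ Hide (α56 = 1 ∧ α65 = 2)) ∧ q56 = 2) ∨ ((Hide (x56 = 2 * T.m 6 ∧ x65 = T.m 5) ∧ Hide (T.a 5 6 = 2 * T.w 5 ∧ T.a 6 5 = T.w 6) ∧ Hide (α56 = 2 ∧ α65 = 1)) ∧ q56 = 2) ∨ ((Hide (x56 = T.m 6 ∧ x65 = 3 * T.m 5) ∧ Hide (T.a 5 6 = T.w 5 ∧ T.a 6 5 = 3 * T.w 6) ∧ Hide (α56 = 1 ∧ α65 = 3)) ∧ q56 = 3) ∨ ((Hide (x56 =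 3 * T.m 6 ∧ x65 = T.m 5) ∧ Hide (T.a 5 6 = 3 * T.w 5 ∧ T.a 6 5 = T.w 6) ∧ Hide (α56 = 3 ∧ α65 = 1)) ∧ q56 = 3) ∨ ((Hide (x56 = T.m 6 ∧ x65 = 4 * T.m 5) ∧ Hide (T.a 5 6 = T.w 5 ∧ T.a 6 5 = 4 * T.w 6) ∧ Hide (α56 = 1 ∧ α65 = 4)) ∧ q56 = 4) ∨ ((Hide (x56 = 4 * T.m 6 ∧ x65 = T.m 5) ∧ Hide (T.a 5 6 = 4 * T.w 5 ∧ T.a 6 5 = T.w 6) ∧ Hide (α56 = 4 ∧ α65 = 1)) ∧ q56 = 4) ∨ ((Hide (x56 = 2 * T.m 6 ∧ x65 = 2 * T.m 5) ∧ Hide (T.a 5 6 = 2 * T.w 5 ∧ T.a 6 5 = 2 * T.w 6) ∧ Hide (α56 = 2 ∧ α65 = 2)) ∧ q56 = 4)) :=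
    Hide.intro (pair_opts α56 α65 (T.m 5) (T.m 6) (T.w 5) (T.w 6) x56 x65 (T.a 5 6) (T.a 6 5) q56 pc56 hx56 hx65 h56 h65 hq56)
  have hm0_h : Hide (0 < T.m 0) := Hide.intro hm0
  have hm1_h : Hide (0 < T.m 1) := Hide.intro hm1
  have hm2_h : Hide (0 < T.m 2) := Hide.intro hm2
  have hm3_h : Hide (0 < T.m 3) := Hide.intro hm3
  have hm4_h : Hide (0 < T.m 4) := Hide.intro hm4
  have hm5_h : Hide (0 < T.m 5) := Hide.intro hm5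
  have hm6_h : Hide (0 < T.m 6) := Hide.intro hm6
  have om1_h : Hide (T.m 0 ≤ T.m 1) := Hide.intro om1
  have om2_h : Hide (T.m 0 ≤ T.m 2) := Hide.intro om2
  have om3_h : Hide (T.m 0 ≤ T.m 3) := Hide.intro om3
  have om4_h : Hide (T.m 0 ≤ T.m 4) := Hide.intro om4
  have om5_h : Hide (T.m 0 ≤ T.m 5) := Hide.intro om5
  have om6_h : Hide (T.m 0 ≤ T.m 6) := Hide.intro om6
  have e0_h : Hide (x01 + x02 + x03 + x04 + x05 + x06 = 2 * T.m 0) := Hide.intro e0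
  have e1_h : Hide (x10 + x12 + x13 + x14 + x15 + x16 = 2 * T.m 1) := Hide.intro e1
  have e2_h : Hide (x20 + x21 + x23 + x24 + x25 + x26 = 2 * T.m 2) := Hide.intro e2
  have e3_h : Hide (x30 + x31 + x32 + x34 + x35 + x36 = 2 * T.m 3) := Hide.intro e3
  have e4_h : Hide (x40 + x41 + x42 + x43 + x45 + x46 = 2 * T.m 4) := Hide.intro e4
  have e5_h : Hide (x50 + x51 + x52 + x53 + x54 + x56 = 2 * T.m 5) := Hide.intro e5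
  have e6_h : Hide (x60 + x61 + x62 + x63 + x64 + x65 = 2 * T.m 6) := Hide.intro e6
  have r01_h : Hide (0 ≤ x01) := Hide.intro r01
  have r02_h : Hide (0 ≤ x02) := Hide.intro r02
  have r03_h : Hide (0 ≤ x03) := Hide.intro r03
  have r04_h : Hide (0 ≤ x04) := Hide.intro r04
  have r05_h : Hide (0 ≤ x05) := Hide.intro r05
  have r06_h : Hide (0 ≤ x06) := Hide.intro r06
  have r10_h : Hide (0 ≤ x10) := Hide.intro r10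
  have r12_h : Hide (0 ≤ x12) := Hide.intro r12
  have r13_h : Hide (0 ≤ x13) := Hide.intro r13
  have r14_h : Hide (0 ≤ x14) := Hide.intro r14
  have r15_h : Hide (0 ≤ x15) := Hide.intro r15
  have r16_h : Hide (0 ≤ x16) := Hide.intro r16
  have r20_h : Hide (0 ≤ x20) := Hide.intro r20
  have r21_h : Hide (0 ≤ x21) := Hide.intro r21
  have r23_h : Hide (0 ≤ x23) := Hide.intro r23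
  have r24_h : Hide (0 ≤ x24) := Hide.intro r24
  have r25_h : Hide (0 ≤ x25) := Hide.intro r25
  have r26_h : Hide (0 ≤ x26) := Hide.intro r26
  have r30_h : Hide (0 ≤ x30) := Hide.intro r30
  have r31_h : Hide (0 ≤ x31) := Hide.intro r31
  have r32_h : Hide (0 ≤ x32) := Hide.intro r32
  have r34_h : Hide (0 ≤ x34) := Hide.intro r34
  have r35_h : Hide (0 ≤ x35) := Hide.intro r35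
  have r36_h : Hide (0 ≤ x36) := Hide.intro r36
  have r40_h : Hide (0 ≤ x40) := Hide.intro r40
  have r41_h : Hide (0 ≤ x41) := Hide.intro r41
  have r42_h : Hide (0 ≤ x42) := Hide.intro r42
  have r43_h : Hide (0 ≤ x43) := Hide.intro r43
  have r45_h : Hide (0 ≤ x45) := Hide.intro r45
  have r46_h : Hide (0 ≤ x46) := Hide.intro r46
  have r50_h : Hide (0 ≤ x50) := Hide.intro r50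
  have r51_h : Hide (0 ≤ x51) := Hide.intro r51
  have r52_h : Hide (0 ≤ x52) := Hide.intro r52
  have r53_h : Hide (0 ≤ x53) := Hide.intro r53
  have r54_h : Hide (0 ≤ x54) := Hide.intro r54
  have r56_h : Hide (0 ≤ x56) := Hide.intro r56
  have r60_h : Hide (0 ≤ x60) := Hide.intro r60
  have r61_h : Hide (0 ≤ x61) := Hide.intro r61
  have r62_h : Hide (0 ≤ x62) := Hide.intro r62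
  have r63_h : Hide (0 ≤ x63) := Hide.intro r63
  have r64_h : Hide (0 ≤ x64) := Hide.intro r64
  have r65_h : Hide (0 ≤ x65) := Hide.intro r65
  have hw0_h : Hide (0 < T.w 0) := Hide.intro hw0
  have hw1_h : Hide (0 < T.w 1) := Hide.intro hw1
  have hw2_h : Hide (0 < T.w 2) := Hide.intro hw2
  have hw3_h : Hide (0 < T.w 3) := Hide.intro hw3
  have hw4_h : Hide (0 < T.w 4) := Hide.intro hw4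
  have hw5_h : Hide (0 < T.w 5) := Hide.intro hw5
  have hw6_h : Hide (0 < T.w 6) := Hide.intro hw6
  have hs01_h : Hide (T.a 0 1 = T.a 1 0) := Hide.intro hs01
  have hs02_h : Hide (T.a 0 2 = T.a 2 0) := Hide.intro hs02
  have hs03_h : Hide (T.a 0 3 = T.a 3 0) := Hide.intro hs03
  have hs04_h : Hide (T.a 0 4 = T.a 4 0) := Hide.intro hs04
  have hs05_h : Hide (T.a 0 5 = T.a 5 0) := Hide.intro hs05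
  have hs06_h : Hide (T.a 0 6 = T.a 6 0) := Hide.intro hs06
  have hs12_h : Hide (T.a 1 2 = T.a 2 1) := Hide.intro hs12
  have hs13_h : Hide (T.a 1 3 = T.a 3 1) := Hide.intro hs13
  have hs14_h : Hide (T.a 1 4 = T.a 4 1) := Hide.intro hs14
  have hs15_h : Hide (T.a 1 5 = T.a 5 1) := Hide.intro hs15
  have hs16_h : Hide (T.a 1 6 = T.a 6 1) := Hide.intro hs16
  have hs23_h : Hide (T.a 2 3 = T.a 3 2) := Hide.intro hs23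
  have hs24_h : Hide (T.a 2 4 = T.a 4 2) := Hide.intro hs24
  have hs25_h : Hide (T.a 2 5 = T.a 5 2) := Hide.intro hs25
  have hs26_h : Hide (T.a 2 6 = T.a 6 2) := Hide.intro hs26
  have hs34_h : Hide (T.a 3 4 = T.a 4 3) := Hide.intro hs34
  have hs35_h : Hide (T.a 3 5 = T.a 5 3) := Hide.intro hs35
  have hs36_h : Hide (T.a 3 6 = T.a 6 3) := Hide.intro hs36
  have hs45_h : Hide (T.a 4 5 = T.a 5 4) := Hide.intro hs45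
  have hs46_h : Hide (T.a 4 6 = T.a 6 4) := Hide.intro hs46
  have hs56_h : Hide (T.a 5 6 = T.a 6 5) := Hide.intro hs56
  have ha00_h : Hide (T.a 0 0 = -2 * T.w 0) := Hide.intro ha00
  have ha11_h : Hide (T.a 1 1 = -2 * T.w 1) := Hide.intro ha11
  have ha22_h : Hide (T.a 2 2 = -2 * T.w 2) := Hide.intro ha22
  have ha33_h : Hide (T.a 3 3 = -2 * T.w 3) := Hide.intro ha33
  have ha44_h : Hide (T.a 4 4 = -2 * T.w 4) := Hide.intro ha44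
  have ha55_h : Hide (T.a 5 5 = -2 * T.w 5) := Hide.intro ha55
  have ha66_h : Hide (T.a 6 6 = -2 * T.w 6) := Hide.intro ha66
  have v0_h : Hide (q01 + q02 + q03 + q04 + q05 + q06 ≤ 4) := Hide.intro v0
  have v1_h : Hide (q01 + q12 + q13 + q14 + q15 + q16 ≤ 4) := Hide.intro v1
  have v2_h : Hide (q02 + q12 + q23 + q24 + q25 + q26 ≤ 4) := Hide.intro v2
  have v3_h : Hide (q03 + q13 + q23 + q34 + q35 + q36 ≤ 4) := Hide.intro v3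
  have v4_h : Hide (q04 + q14 + q24 + q34 + q45 + q46 ≤ 4) := Hide.intro v4
  have v5_h : Hide (q05 + q15 + q25 + q35 + q45 + q56 ≤ 4) := Hide.intro v5
  have v6_h : Hide (q06 + q16 + q26 + q36 + q46 + q56 ≤ 4) := Hide.intro v6
  have qn01_h : Hide (0 ≤ q01) := Hide.intro qn01
  have qn02_h : Hide (0 ≤ q02) := Hide.intro qn02
  have qn03_h : Hide (0 ≤ q03) := Hide.intro qn03
  have qn04_h : Hide (0 ≤ q04) := Hide.intro qn04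
  have qn05_h : Hide (0 ≤ q05) := Hide.intro qn05
  have qn06_h : Hide (0 ≤ q06) := Hide.intro qn06
  have qn12_h : Hide (0 ≤ q12) := Hide.intro qn12
  have qn13_h : Hide (0 ≤ q13) := Hide.intro qn13
  have qn14_h : Hide (0 ≤ q14) := Hide.intro qn14
  have qn15_h : Hide (0 ≤ q15) := Hide.intro qn15
  have qn16_h : Hide (0 ≤ q16) := Hide.intro qn16
  have qn23_h : Hide (0 ≤ q23) := Hide.intro qn23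
  have qn24_h : Hide (0 ≤ q24) := Hide.intro qn24
  have qn25_h : Hide (0 ≤ q25) := Hide.intro qn25
  have qn26_h : Hide (0 ≤ q26) := Hide.intro qn26
  have qn34_h : Hide (0 ≤ q34) := Hide.intro qn34
  have qn35_h : Hide (0 ≤ q35) := Hide.intro qn35
  have qn36_h : Hide (0 ≤ q36) := Hide.intro qn36
  have qn45_h : Hide (0 ≤ q45) := Hide.intro qn45
  have qn46_h : Hide (0 ≤ q46) := Hide.intro qn46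
  have qn56_h : Hide (0 ≤ q56) := Hide.intro qn56
  have od1_h : Hide (0 < α01) := Hide.intro od1
  have od2_h : Hide (0 < α02 + α12) := Hide.intro od2
  have od3_h : Hide (0 < α03 + α13 + α23) := Hide.intro od3
  have od4_h : Hide (0 < α04 + α14 + α24 + α34) := Hide.intro od4
  have od5_h : Hide (0 < α05 + α15 + α25 + α35 + α45) := Hide.intro od5
  have od6_h : Hide (0 < α06 + α16 + α26 + α36 + α46 + α56) := Hide.intro od6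
  clear hrow nn hall hs hmin0 hord q01' q02' q03' q04' q05' q06' q10' q12' q13' q14' q15' q16' q20' q21' q23' q24' q25' q26' q30' q31' q32' q34' q35' q36' q40' q41' q42' q43' q45' q46' q50' q51' q52' q53' q54' q56' q60' q61' q62' q63' q64' q65' b01 b02 b03 b04 b05 b06 b12 b13 b14 b15 b16 b23 b24 b25 b26 b34 b35 b36 b45 b46 b56 n01 n02 n03 n04 n05 n06 n10 n12 n13 n14 n15 n16 n20 n21 n23 n24 n25 n26 n30 n31 n32 n34 n35 n36 n40 n41 n42 n43 n45 n46 n50 n51 n52 n53 n54 n56 n60 n61 n62 n63 n64 n65 h01 h02 h03 h04 h05 h06 h10 h12 h13 h14 h15 h16 h20 h21 h23 h24 h25 h26 h30 h31 h32 h34 h35 h36 h40 h41 h42 h43 h45 h46 h50 h51 h52 h53 h54 h56 h60 h61 h62 h63 h64 h65 hg0 hg1 hg2 hg3 hg4 hg5 hg6 e0' e1' e2' e3' e4' e5' e6' r01' r02' r03' r04' r05' r06' r10' r12' r13'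 r14' r15' r16' r20' r21' r23' r24' r25' r26' r30' r31' r32' r34' r35' r36' r40' r41' r42' r43' r45' r46' r50' r51' r52' r53' r54' r56' r60' r61' r62' r63' r64' r65' v0' v1' v2' v3' v4' v5' v6' s01 s02 s03 s04 s05 s06 s12 s13 s14 s15 s16 s23 s24 s25 s26 s34 s35 s36 s45 s46 s56 pc01 pc02 pc03 pc04 pc05 pc06 pc12 pc13 pc14 pc15 pc16 pc23 pc24 pc25 pc26 pc34 pc35 pc36 pc45 pc46 pc56 hx01 hx02 hx03 hx04 hx05 hx06 hx10 hx12 hx13 hx14 hx15 hx16 hx20 hx21 hx23 hx24 hx25 hx26 hx30 hx31 hx32 hx34 hx35 hx36 hx40 hx41 hx42 hx43 hx45 hx46 hx50 hx51 hx52 hx53 hx54 hx56 hx60 hx61 hx62 hx63 hx64 hx65 hq01 hq02 hq03 hq04 hq05 hq06 hq12 hq13 hq14 hq15 hq16 hq23 hq24 hq25 hq26 hq34 hq35 hq36 hq45 hq46 hq56 hm0 hm1 hm2 hm3 hm4 hm5 hm6 om1 om2 om3 om4 om5 om6 e0 e1 e2 e3 e4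 e5 e6 r01 r02 r03 r04 r05 r06 r10 r12 r13 r14 r15 r16 r20 r21 r23 r24 r25 r26 r30 r31 r32 r34 r35 r36 r40 r41 r42 r43 r45 r46 r50 r51 r52 r53 r54 r56 r60 r61 r62 r63 r64 r65 hw0 hw1 hw2 hw3 hw4 hw5 hw6 hs01 hs02 hs03 hs04 hs05 hs06 hs12 hs13 hs14 hs15 hs16 hs23 hs24 hs25 hs26 hs34 hs35 hs36 hs45 hs46 hs56 ha00 ha11 ha22 ha33 ha44 ha55 ha66 v0 v1 v2 v3 v4 v5 v6 qn01 qn02 qn03 qn04 qn05 qn06 qn12 qn13 qn14 qn15 qn16 qn23 qn24 qn25 qn26 qn34 qn35 qn36 qn45 qn46 qn56 od1 od2 od3 od4 od5 od6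
  have hm0 := hm0_h
  have hm1 := hm1_h
  have hm2 := hm2_h
  have hm3 := hm3_h
  have hm4 := hm4_h
  have hm5 := hm5_h
  have hm6 := hm6_h
  have om1 := om1_h
  have om2 := om2_h
  have om3 := om3_h
  have om4 := om4_h
  have om5 := om5_h
  have om6 := om6_h
  have e0 := e0_h
  have e1 := e1_h
  have e2 := e2_h
  have e3 := e3_h
  have e4 := e4_h
  have e5 := e5_h
  have e6 := e6_h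
  have r01 := r01_h
  have r02 := r02_h
  have r03 := r03_h
  have r04 := r04_h
  have r05 := r05_h
  have r06 := r06_h
  have r10 := r10_h
  have r12 := r12_h
  have r13 := r13_h
  have r14 := r14_h
  have r15 := r15_h
  have r16 := r16_h
  have r20 := r20_h
  have r21 := r21_h
  have r23 := r23_h
  have r24 := r24_h
  have r25 := r25_h
  have r26 := r26_h
  have r30 := r30_h
  have r31 := r31_h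
  have r32 := r32_h
  have r34 := r34_h
  have r35 := r35_h
  have r36 := r36_h
  have r40 := r40_h
  have r41 := r41_h
  have r42 := r42_h
  have r43 := r43_h
  have r45 := r45_h
  have r46 := r46_h
  have r50 := r50_h
  have r51 := r51_h
  have r52 := r52_h
  have r53 := r53_h
  have r54 := r54_h
  have r56 := r56_h
  have r60 := r60_h
  have r61 := r61_h
  have r62 := r62_h
  have r63 := r63_h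
  have r64 := r64_h
  have r65 := r65_h
  have hw0 := hw0_h
  have hw1 := hw1_h
  have hw2 := hw2_h
  have hw3 := hw3_h
  have hw4 := hw4_h
  have hw5 := hw5_h
  have hw6 := hw6_h
  have hs01 := hs01_h
  have hs02 := hs02_h
  have hs03 := hs03_h
  have hs04 := hs04_h
  have hs05 := hs05_h
  have hs06 := hs06_h
  have hs12 := hs12_h
  have hs13 := hs13_h
  have hs14 := hs14_h
  have hs15 := hs15_h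
  have hs16 := hs16_h
  have hs23 := hs23_h
  have hs24 := hs24_h
  have hs25 := hs25_h
  have hs26 := hs26_h
  have hs34 := hs34_h
  have hs35 := hs35_h
  have hs36 := hs36_h
  have hs45 := hs45_h
  have hs46 := hs46_h
  have hs56 := hs56_h
  have ha00 := ha00_h
  have ha11 := ha11_h
  have ha22 := ha22_h
  have ha33 := ha33_h
  have ha44 := ha44_h
  have ha55 := ha55_h
  have ha66 := ha66_h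
  have v0 := v0_h
  have v1 := v1_h
  have v2 := v2_h
  have v3 := v3_h
  have v4 := v4_h
  have v5 := v5_h
  have v6 := v6_h
  have qn01 := qn01_h
  have qn02 := qn02_h
  have qn03 := qn03_h
  have qn04 := qn04_h
  have qn05 := qn05_h
  have qn06 := qn06_h
  have qn12 := qn12_h
  have qn13 := qn13_h
  have qn14 := qn14_h
  have qn15 := qn15_h
  have qn16 := qn16_h
  have qn23 := qn23_h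
  have qn24 := qn24_h
  have qn25 := qn25_h
  have qn26 := qn26_h
  have qn34 := qn34_h
  have qn35 := qn35_h
  have qn36 := qn36_h
  have qn45 := qn45_h
  have qn46 := qn46_h
  have qn56 := qn56_h
  have od1 := od1_h
  have od2 := od2_h
  have od3 := od3_h
  have od4 := od4_h
  have od5 := od5_h
  have od6 := od6_h
  clear hm0_h hm1_h hm2_h hm3_h hm4_h hm5_h hm6_h om1_h om2_h om3_h om4_h om5_h om6_h e0_h e1_h e2_h e3_h e4_h e5_h e6_h r01_h r02_h r03_h r04_h r05_h r06_h r10_h r12_h r13_h r14_h r15_h r16_h r20_h r21_h r23_h r24_h r25_h r26_h r30_h r31_h r32_h r34_h r35_h r36_h r40_h r41_h r42_h r43_h r45_h r46_h r50_h r51_h r52_h r53_h r54_h r56_h r60_h r61_h r62_h r63_h r64_h r65_h hw0_h hw1_h hw2_h hw3_h hw4_h hw5_h hw6_h hs01_h hs02_h hs03_h hs04_h hs05_h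 hs06_h hs12_h hs13_h hs14_h hs15_h hs16_h hs23_h hs24_h hs25_h hs26_h hs34_h hs35_h hs36_h hs45_h hs46_h hs56_h ha00_h ha11_h ha22_h ha33_h ha44_h ha55_h ha66_h v0_h v1_h v2_h v3_h v4_h v5_h v6_h qn01_h qn02_h qn03_h qn04_h qn05_h qn06_h qn12_h qn13_h qn14_h qn15_h qn16_h qn23_h qn24_h qn25_h qn26_h qn34_h qn35_h qn36_h qn45_h qn46_h qn56_h od1_h od2_h od3_h od4_h od5_h od6_h
  exact top T α01 α02 α03 α04 α05 α06 α10 α12 α13 α14 α15 α16 α20 α21 α23 α24 α25 α26 α30 α31 α32 α34 α35 α36 α40 α41 α42 α43 α45 α46 α50 α51 α52 α53 α54 α56 α60 α61 α62 α63 α64 α65 x01 x02 x03 x04 x05 x06 x10 x12 x13 x14 x15 x16 x20 x21 x23 x24 x25 x26 x30 x31 x32 x34 x35 x36 x40 x41 x42 x43 x45 x46 x50 x51 x52 x53 x54 x56 x60 x61 x62 x63 x64 x65 q01 q02 q03 q04 q05 q06 q12 q13 q14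 q15 q16 q23 q24 q25 q26 q34 q35 q36 q45 q46 q56 hm0 hm1 hm2 hm3 hm4 hm5 hm6 om1 om2 om3 om4 om5 om6 e0 e1 e2 e3 e4 e5 e6 r01 r02 r03 r04 r05 r06 r10 r12 r13 r14 r15 r16 r20 r21 r23 r24 r25 r26 r30 r31 r32 r34 r35 r36 r40 r41 r42 r43 r45 r46 r50 r51 r52 r53 r54 r56 r60 r61 r62 r63 r64 r65 hw0 hw1 hw2 hw3 hw4 hw5 hw6 hs01 hs02 hs03 hs04 hs05 hs06 hs12 hs13 hs14 hs15 hs16 hs23 hs24 hs25 hs26 hs34 hs35 hs36 hs45 hs46 hs56 ha00 ha11 ha22 ha33 ha44 ha55 ha66 v0 v1 v2 v3 v4 v5 v6 qn01 qn02 qn03 qn04 qn05 qn06 qn12 qn13 qn14 qn15 qn16 qn23 qn24 qn25 qn26 qn34 qn35 qn36 qn45 qn46 qn56 od1 od2 od3 od4 od5 od6 c01 c02 c03 c04 c05 c06 c12 c13 c14 c15 c16 c23 c24 c25 c26 c34 c35 c36 c45 c46 c56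

/-- Genus one classification: case n = 7: let T be a minimal numerical type of genus 1 on 7 indices.
Then all g_i = 0 and, for some permutation σ of the indices and some integers m, w, the
multiplicities, weights and intersection matrix (m_{σ(i)}, w_{σ(i)}, a_{σ(i)σ(j)}) are those of one
of the following 8 types: [cycle] m = (m, m, m, m, m, m, m), w = (w, w, w, w, w, w, w), a = (-2 * w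
w 0 0 0 0 w / w -2 * w w 0 0 0 0 / 0 w -2 * w w 0 0 0 / 0 0 w -2 * w w 0 0 / 0 0 0 w -2 * w w 0 / 0
0 0 0 w -2 * w w / w 0 0 0 0 w -2 * w); [up chain equal up] m = (2 * m, 2 * m, 2 * m, 2 * m, 2 * m,
2 * m, m), w = (w, 2 * w, 2 * w, 2 * w, 2 * w, 2 * w, 4 * w), a = (-2 * w 2 * w 0 0 0 0 0 / 2 * w -4
* w 2 * w 0 0 0 0 / 0 2 * w -4 * w 2 * w 0 0 0 / 0 0 2 * w -4 * w 2 * w 0 0 / 0 0 0 2 * w -4 * w 2 *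
w 0 / 0 0 0 0 2 * w -4 * w 4 * w / 0 0 0 0 0 4 * w -8 * w); [up chain equal down] m = (m, m, m, m,
m, m, m), w = (w, 2 * w, 2 * w, 2 * w, 2 * w, 2 * w, w), a = (-2 * w 2 * w 0 0 0 0 0 / 2 * w -4 * w
2 * w 0 0 0 0 / 0 2 * w -4 * w 2 * w 0 0 0 / 0 0 2 * w -4 * w 2 * w 0 0 / 0 0 0 2 * w -4 * w 2 * w 0
/ 0 0 0 0 2 * w -4 * w 2 * w / 0 0 0 0 0 2 * w -2 * w); [down chain equal up] m = (m, 2 * m, 2 * m,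
2 * m, 2 * m, 2 * m, m), w = (2 * w, w, w, w, w, w, 2 * w), a = (-4 * w 2 * w 0 0 0 0 0 / 2 * w -2 *
w w 0 0 0 0 / 0 w -2 * w w 0 0 0 / 0 0 w -2 * w w 0 0 / 0 0 0 w -2 * w w 0 / 0 0 0 0 w -2 * w 2 * w
/ 0 0 0 0 0 2 * w -4 * w); [D extended up] m = (m, 2 * m, 2 * m, 2 * m, 2 * m, m, m), w = (2 * w, w,
w, w, w, w, w), a = (-4 * w 2 * w 0 0 0 0 0 / 2 * w -2 * w w 0 0 0 0 / 0 w -2 * w w 0 0 0 / 0 0 w -2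
* w w 0 0 / 0 0 0 w -2 * w w w / 0 0 0 0 w -2 * w 0 / 0 0 0 0 w 0 -2 * w); [D extended down] m = (2
* m, 2 * m, 2 * m, 2 * m, 2 * m, m, m), w = (w, 2 * w, 2 * w, 2 * w, 2 * w, 2 * w, 2 * w), a = (-2 *
w 2 * w 0 0 0 0 0 / 2 * w -4 * w 2 * w 0 0 0 0 / 0 2 * w -4 * w 2 * w 0 0 0 / 0 0 2 * w -4 * w 2 * w
0 0 / 0 0 0 2 * w -4 * w 2 * w 2 * w / 0 0 0 0 2 * w -4 * w 0 / 0 0 0 0 2 * w 0 -4 * w); [double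
triple] m = (m, m, 2 * m, 2 * m, 2 * m, m, m), w = (w, w, w, w, w, w, w), a = (-2 * w 0 w 0 0 0 0 /
0 -2 * w w 0 0 0 0 / w w -2 * w w 0 0 0 / 0 0 w -2 * w w 0 0 / 0 0 0 w -2 * w w w / 0 0 0 0 w -2 * w
0 / 0 0 0 0 w 0 -2 * w); [E6 completed] m = (m, 2 * m, 3 * m, m, 2 * m, m, 2 * m), w = (w, w, w, w,
w, w, w), a = (-2 * w w 0 0 0 0 0 / w -2 * w w 0 0 0 0 / 0 w -2 * w 0 w 0 w / 0 0 0 -2 * w w 0 0 / 0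
0 w w -2 * w 0 0 / 0 0 0 0 0 -2 * w w / 0 0 w 0 0 w -2 * w). Only the classification direction is
stated. (In the family with weights (w, 2w, …, 2w, w) the consecutive intersection numbers are 2w,
as divisibility by the weights forces; the published list prints w there, and omits m_{n-2} = 2m in
the two D-type families.) -/
theorem result (T : Models.NumericalType 7) (hmin : T.IsMinimal) (hg : T.genus = 1) :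
    (∀ i, T.g i = 0) ∧ ∃ (σ : Equiv.Perm (Fin 7)) (m w : ℤ),
      ((T.m (σ 0) = m ∧ T.m (σ 1) = m ∧ T.m (σ 2) = m ∧ T.m (σ 3) = m ∧ T.m (σ 4) = m ∧ T.m (σ 5) = m ∧ T.m (σ 6) = m ∧ T.w (σ 0) = w ∧ T.w (σ 1) = w ∧ T.w (σ 2) = w ∧ T.w (σ 3) = w ∧ T.w (σ 4) = w ∧ T.w (σ 5) = w ∧ T.w (σ 6) = w ∧ T.a (σ 0) (σ 0) = -2 * w ∧ T.a (σ 0) (σ 1) = w ∧ T.a (σ 0) (σ 2) = 0 ∧ T.a (σ 0) (σ 3) = 0 ∧ T.a (σ 0) (σ 4) = 0 ∧ T.a (σ 0) (σ 5) = 0 ∧ T.a (σ 0) (σ 6) = w ∧ T.a (σ 1) (σ 1) = -2 * w ∧ T.a (σ 1) (σ 2) = w ∧ T.a (σ 1) (σ 3) = 0 ∧ T.a (σ 1) (σ 4) = 0 ∧ T.a (σ 1) (σ 5) = 0 ∧ T.a (σ 1) (σ 6) = 0 ∧ T.a (σ 2) (σ 2) = -2 * w ∧ T.a (σ 2) (σ 3) = w ∧ T.a (σ 2) (σ 4) = 0 ∧ T.a (σ 2) (σ 5) = 0 ∧ T.a (σ 2) (σ 6) = 0 ∧ T.a (σ 3) (σ 3) = -2 * w ∧ T.a (σ 3) (σ 4) = w ∧ T.a (σ 3)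 (σ 5) = 0 ∧ T.a (σ 3) (σ 6) = 0 ∧ T.a (σ 4) (σ 4) = -2 * w ∧ T.a (σ 4) (σ 5) = w ∧ T.a (σ 4) (σ 6) = 0 ∧ T.a (σ 5) (σ 5) = -2 * w ∧ T.a (σ 5) (σ 6) = w ∧ T.a (σ 6) (σ 6) = -2 * w) ∨
      (T.m (σ 0) = 2 * m ∧ T.m (σ 1) = 2 * m ∧ T.m (σ 2) = 2 * m ∧ T.m (σ 3) = 2 * m ∧ T.m (σ 4) = 2 * m ∧ T.m (σ 5) = 2 * m ∧ T.m (σ 6) = m ∧ T.w (σ 0) = w ∧ T.w (σ 1) = 2 * w ∧ T.w (σ 2) = 2 * w ∧ T.w (σ 3) = 2 * w ∧ T.w (σ 4) = 2 * w ∧ T.w (σ 5) = 2 * w ∧ T.w (σ 6) = 4 * w ∧ T.a (σ 0) (σ 0) = -2 * w ∧ T.a (σ 0) (σ 1) = 2 * w ∧ T.a (σ 0) (σ 2) = 0 ∧ T.a (σ 0) (σ 3) = 0 ∧ T.a (σ 0) (σ 4) = 0 ∧ T.a (σ 0) (σ 5) = 0 ∧ T.a (σ 0) (σ 6) = 0 ∧ T.a (σ 1) (σ 1) = -4 * w ∧ T.a (σ 1) (σ 2) = 2 * w ∧ T.a (σ 1) (σ 3) = 0 ∧ T.a (σ 1) (σ 4) = 0 ∧ T.a (σ 1) (σ 5) = 0 ∧ T.a (σ 1) (σ 6) = 0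 ∧ T.a (σ 2) (σ 2) = -4 * w ∧ T.a (σ 2) (σ 3) = 2 * w ∧ T.a (σ 2) (σ 4) = 0 ∧ T.a (σ 2) (σ 5) = 0 ∧ T.a (σ 2) (σ 6) = 0 ∧ T.a (σ 3) (σ 3) = -4 * w ∧ T.a (σ 3) (σ 4) = 2 * w ∧ T.a (σ 3) (σ 5) = 0 ∧ T.a (σ 3) (σ 6) = 0 ∧ T.a (σ 4) (σ 4) = -4 * w ∧ T.a (σ 4) (σ 5) = 2 * w ∧ T.a (σ 4) (σ 6) = 0 ∧ T.a (σ 5) (σ 5) = -4 * w ∧ T.a (σ 5) (σ 6) = 4 * w ∧ T.a (σ 6) (σ 6) = -8 * w) ∨
      (T.m (σ 0) = m ∧ T.m (σ 1) = m ∧ T.m (σ 2) = m ∧ T.m (σ 3) = m ∧ T.m (σ 4) = m ∧ T.m (σ 5) = m ∧ T.m (σ 6) = m ∧ T.w (σ 0) = w ∧ T.w (σ 1) = 2 * w ∧ T.w (σ 2) = 2 * w ∧ T.w (σ 3) = 2 * w ∧ T.w (σ 4) = 2 * w ∧ T.w (σ 5) = 2 * w ∧ T.w (σ 6) = w ∧ T.a (σ 0) (σ 0) = -2 * w ∧ T.a (σ 0) (σ 1) = 2 * w ∧ T.a (σ 0) (σ 2) = 0 ∧ T.a (σ 0) (σ 3) = 0 ∧ T.a (σ 0) (σ 4) = 0 ∧ T.a (σ 0) (σ 5) =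 0 ∧ T.a (σ 0) (σ 6) = 0 ∧ T.a (σ 1) (σ 1) = -4 * w ∧ T.a (σ 1) (σ 2) = 2 * w ∧ T.a (σ 1) (σ 3) = 0 ∧ T.a (σ 1) (σ 4) = 0 ∧ T.a (σ 1) (σ 5) = 0 ∧ T.a (σ 1) (σ 6) = 0 ∧ T.a (σ 2) (σ 2) = -4 * w ∧ T.a (σ 2) (σ 3) = 2 * w ∧ T.a (σ 2) (σ 4) = 0 ∧ T.a (σ 2) (σ 5) = 0 ∧ T.a (σ 2) (σ 6) = 0 ∧ T.a (σ 3) (σ 3) = -4 * w ∧ T.a (σ 3) (σ 4) = 2 * w ∧ T.a (σ 3) (σ 5) = 0 ∧ T.a (σ 3) (σ 6) = 0 ∧ T.a (σ 4) (σ 4) = -4 * w ∧ T.a (σ 4) (σ 5) = 2 * w ∧ T.a (σ 4) (σ 6) = 0 ∧ T.a (σ 5) (σ 5) = -4 * w ∧ T.a (σ 5) (σ 6) = 2 * w ∧ T.a (σ 6) (σ 6) = -2 * w) ∨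
      (T.m (σ 0) = m ∧ T.m (σ 1) = 2 * m ∧ T.m (σ 2) = 2 * m ∧ T.m (σ 3) = 2 * m ∧ T.m (σ 4) = 2 * m ∧ T.m (σ 5) = 2 * m ∧ T.m (σ 6) = m ∧ T.w (σ 0) = 2 * w ∧ T.w (σ 1) = w ∧ T.w (σ 2) = w ∧ T.w (σ 3) = w ∧ T.w (σ 4) = w ∧ T.w (σ 5) = w ∧ T.w (σ 6) = 2 * w ∧ T.a (σ 0) (σ 0) = -4 * w ∧ T.a (σ 0) (σ 1) = 2 * w ∧ T.a (σ 0) (σ 2) = 0 ∧ T.a (σ 0) (σ 3) = 0 ∧ T.a (σ 0) (σ 4) = 0 ∧ T.a (σ 0) (σ 5) = 0 ∧ T.a (σ 0) (σ 6) = 0 ∧ T.a (σ 1) (σ 1) = -2 * w ∧ T.a (σ 1) (σ 2) = w ∧ T.a (σ 1) (σ 3) = 0 ∧ T.a (σ 1) (σ 4) = 0 ∧ T.a (σ 1) (σ 5) = 0 ∧ T.a (σ 1) (σ 6) = 0 ∧ T.a (σ 2) (σ 2) = -2 * w ∧ T.a (σ 2) (σ 3) = w ∧ T.a (σ 2) (σ 4) = 0 ∧ T.a (σ 2) (σ 5) = 0 ∧ T.a (σ 2) (σ 6) = 0 ∧ T.a (σ 3) (σ 3) = -2 * w ∧ T.a (σ 3) (σ 4) = w ∧ T.a (σ 3) (σ 5) = 0 ∧ T.a (σ 3) (σ 6) =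 0 ∧ T.a (σ 4) (σ 4) = -2 * w ∧ T.a (σ 4) (σ 5) = w ∧ T.a (σ 4) (σ 6) = 0 ∧ T.a (σ 5) (σ 5) = -2 * w ∧ T.a (σ 5) (σ 6) = 2 * w ∧ T.a (σ 6) (σ 6) = -4 * w) ∨
      (T.m (σ 0) = m ∧ T.m (σ 1) = 2 * m ∧ T.m (σ 2) = 2 * m ∧ T.m (σ 3) = 2 * m ∧ T.m (σ 4) = 2 * m ∧ T.m (σ 5) = m ∧ T.m (σ 6) = m ∧ T.w (σ 0) = 2 * w ∧ T.w (σ 1) = w ∧ T.w (σ 2) = w ∧ T.w (σ 3) = w ∧ T.w (σ 4) = w ∧ T.w (σ 5) = w ∧ T.w (σ 6) = w ∧ T.a (σ 0) (σ 0) = -4 * w ∧ T.a (σ 0) (σ 1) = 2 * w ∧ T.a (σ 0) (σ 2) = 0 ∧ T.a (σ 0) (σ 3) = 0 ∧ T.a (σ 0) (σ 4) = 0 ∧ T.a (σ 0) (σ 5) = 0 ∧ T.a (σ 0) (σ 6) = 0 ∧ T.a (σ 1) (σ 1) = -2 * w ∧ T.a (σ 1) (σ 2) = w ∧ T.a (σ 1) (σ 3) = 0 ∧ T.a (σ 1) (σ 4) = 0 ∧ T.a (σ 1) (σ 5) = 0 ∧ T.a (σ 1) (σ 6) = 0 ∧ T.a (σ 2) (σ 2) = -2 * w ∧ T.a (σ 2) (σ 3) = w ∧ T.a (σ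 2) (σ 4) = 0 ∧ T.a (σ 2) (σ 5) = 0 ∧ T.a (σ 2) (σ 6) = 0 ∧ T.a (σ 3) (σ 3) = -2 * w ∧ T.a (σ 3) (σ 4) = w ∧ T.a (σ 3) (σ 5) = 0 ∧ T.a (σ 3) (σ 6) = 0 ∧ T.a (σ 4) (σ 4) = -2 * w ∧ T.a (σ 4) (σ 5) = w ∧ T.a (σ 4) (σ 6) = w ∧ T.a (σ 5) (σ 5) = -2 * w ∧ T.a (σ 5) (σ 6) = 0 ∧ T.a (σ 6) (σ 6) = -2 * w) ∨
      (T.m (σ 0) = 2 * m ∧ T.m (σ 1) = 2 * m ∧ T.m (σ 2) = 2 * m ∧ T.m (σ 3) = 2 * m ∧ T.m (σ 4) = 2 * m ∧ T.m (σ 5) = m ∧ T.m (σ 6) = m ∧ T.w (σ 0) = w ∧ T.w (σ 1) = 2 * w ∧ T.w (σ 2) = 2 * w ∧ T.w (σ 3) = 2 * w ∧ T.w (σ 4) = 2 * w ∧ T.w (σ 5) = 2 * w ∧ T.w (σ 6) = 2 * w ∧ T.a (σ 0) (σ 0) = -2 * w ∧ T.a (σ 0) (σ 1) = 2 * w ∧ T.a (σ 0) (σ 2) = 0 ∧ T.a (σ 0) (σ 3) = 0 ∧ T.a (σ 0) (σ 4) = 0 ∧ T.a (σ 0) (σ 5) = 0 ∧ T.a (σ 0) (σ 6) = 0 ∧ T.a (σ 1) (σ 1) = -4 * w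 ∧ T.a (σ 1) (σ 2) = 2 * w ∧ T.a (σ 1) (σ 3) = 0 ∧ T.a (σ 1) (σ 4) = 0 ∧ T.a (σ 1) (σ 5) = 0 ∧ T.a (σ 1) (σ 6) = 0 ∧ T.a (σ 2) (σ 2) = -4 * w ∧ T.a (σ 2) (σ 3) = 2 * w ∧ T.a (σ 2) (σ 4) = 0 ∧ T.a (σ 2) (σ 5) = 0 ∧ T.a (σ 2) (σ 6) = 0 ∧ T.a (σ 3) (σ 3) = -4 * w ∧ T.a (σ 3) (σ 4) = 2 * w ∧ T.a (σ 3) (σ 5) = 0 ∧ T.a (σ 3) (σ 6) = 0 ∧ T.a (σ 4) (σ 4) = -4 * w ∧ T.a (σ 4) (σ 5) = 2 * w ∧ T.a (σ 4) (σ 6) = 2 * w ∧ T.a (σ 5) (σ 5) = -4 * w ∧ T.a (σ 5) (σ 6) = 0 ∧ T.a (σ 6) (σ 6) = -4 * w) ∨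
      (T.m (σ 0) = m ∧ T.m (σ 1) = m ∧ T.m (σ 2) = 2 * m ∧ T.m (σ 3) = 2 * m ∧ T.m (σ 4) = 2 * m ∧ T.m (σ 5) = m ∧ T.m (σ 6) = m ∧ T.w (σ 0) = w ∧ T.w (σ 1) = w ∧ T.w (σ 2) = w ∧ T.w (σ 3) = w ∧ T.w (σ 4) = w ∧ T.w (σ 5) = w ∧ T.w (σ 6) = w ∧ T.a (σ 0) (σ 0) = -2 * w ∧ T.a (σ 0) (σ 1) = 0 ∧ T.a (σ 0) (σ 2) = w ∧ T.a (σ 0) (σ 3) = 0 ∧ T.a (σ 0) (σ 4) = 0 ∧ T.a (σ 0) (σ 5) = 0 ∧ T.a (σ 0) (σ 6) = 0 ∧ T.a (σ 1) (σ 1) = -2 * w ∧ T.a (σ 1) (σ 2) = w ∧ T.a (σ 1) (σ 3) = 0 ∧ T.a (σ 1) (σ 4) = 0 ∧ T.a (σ 1) (σ 5) = 0 ∧ T.a (σ 1) (σ 6) = 0 ∧ T.a (σ 2) (σ 2) = -2 * w ∧ T.a (σ 2) (σ 3) = w ∧ T.a (σ 2) (σ 4) = 0 ∧ T.a (σ 2) (σ 5) = 0 ∧ T.a (σ 2) (σ 6) = 0 ∧ T.a (σ 3) (σ 3) = -2 * w ∧ T.a (σ 3) (σ 4) = w ∧ T.a (σ 3) (σ 5) = 0 ∧ T.a (σ 3) (σ 6) = 0 ∧ T.a (σ 4) (σ 4)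 = -2 * w ∧ T.a (σ 4) (σ 5) = w ∧ T.a (σ 4) (σ 6) = w ∧ T.a (σ 5) (σ 5) = -2 * w ∧ T.a (σ 5) (σ 6) = 0 ∧ T.a (σ 6) (σ 6) = -2 * w) ∨
      (T.m (σ 0) = m ∧ T.m (σ 1) = 2 * m ∧ T.m (σ 2) = 3 * m ∧ T.m (σ 3) = m ∧ T.m (σ 4) = 2 * m ∧ T.m (σ 5) = m ∧ T.m (σ 6) = 2 * m ∧ T.w (σ 0) = w ∧ T.w (σ 1) = w ∧ T.w (σ 2) = w ∧ T.w (σ 3) = w ∧ T.w (σ 4) = w ∧ T.w (σ 5) = w ∧ T.w (σ 6) = w ∧ T.a (σ 0) (σ 0) = -2 * w ∧ T.a (σ 0) (σ 1) = w ∧ T.a (σ 0) (σ 2) = 0 ∧ T.a (σ 0) (σ 3) = 0 ∧ T.a (σ 0) (σ 4) = 0 ∧ T.a (σ 0) (σ 5) = 0 ∧ T.a (σ 0) (σ 6) = 0 ∧ T.a (σ 1) (σ 1) = -2 * w ∧ T.a (σ 1) (σ 2) = w ∧ T.a (σ 1) (σ 3) = 0 ∧ T.a (σ 1) (σ 4) = 0 ∧ T.a (σ 1) (σ 5) = 0 ∧ T.a (σ 1) (σ 6) = 0 ∧ T.a (σ 2) (σ 2) = -2 * w ∧ T.a (σ 2) (σ 3) = 0 ∧ T.a (σ 2) (σ 4) = w ∧ T.a (σ 2) (σ 5)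 = 0 ∧ T.a (σ 2) (σ 6) = w ∧ T.a (σ 3) (σ 3) = -2 * w ∧ T.a (σ 3) (σ 4) = w ∧ T.a (σ 3) (σ 5) = 0 ∧ T.a (σ 3) (σ 6) = 0 ∧ T.a (σ 4) (σ 4) = -2 * w ∧ T.a (σ 4) (σ 5) = 0 ∧ T.a (σ 4) (σ 6) = 0 ∧ T.a (σ 5) (σ 5) = -2 * w ∧ T.a (σ 5) (σ 6) = w ∧ T.a (σ 6) (σ 6) = -2 * w)) := by
  have hall := fun i => Groth.Agent.S7362.all_minusTwo T (by norm_num) hmin hg i
  refine ⟨fun i => (hall i).1, ?_⟩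
  obtain ⟨i0, -, hi0⟩ := Finset.exists_min_image Finset.univ T.m ⟨0, Finset.mem_univ _⟩
  obtain ⟨σ, hσ0, hσ⟩ := Groth.Agent.Lib.helper20.exists_connected_ordering T i0
  have key : Groth.Agent.Lib.helper20.G1n7.Goal (Groth.Agent.Lib.helper20.permType T σ) := by
    apply core
    · intro i
      exact hall (σ i)
    · intro j
      show T.m (σ 0) ≤ T.m (σ j)
      have : σ 0 = i0 := hσ0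
      rw [this]
      exact hi0 (σ j) (Finset.mem_univ _)
    · intro j hj
      exact hσ j hj
  obtain ⟨σ', m, w, h⟩ := key
  exact ⟨σ * σ', m, w, h⟩

end Groth.Agent.S7368
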