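import Groth.Statements.S7380
-- import your own Groth.Agent.* helpers here
import Groth.Agent.Lib.Helper9.AbsApprox29
import Groth.Agent.Lib.Helper9.AbsApprox23

set_option autoImplicit false
universe u
open CategoryTheory AlgebraicGeometry
open Lim

namespace Groth.Agent.S7380

/-- Let `f : X → S` be locally of finite type with `X` quasi-compact and quasi-separated and `S`
quasi-separated. Then, in the category of schemes over `S`, `X` is the limit of a nonempty directed
inverse system of schemes `X_i → S` of finite presentation (locally of finite presentation,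
quasi-compact and quasi-separated), each `X_i` being a quasi-compact and quasi-separated scheme,
whose transition morphisms are closed immersions. -/
theorem result {X S : Scheme.{u}}
    (f : X ⟶ S) [LocallyOfFiniteType f] [CompactSpace X] [QuasiSeparatedSpace X] [QuasiSeparatedSpace S] :
    ∃ (I : Type u) (_ : Preorder I) (_ : IsDirected I (fun a b => a ≤ b)) (_ : Nonempty I)
      (D : Iᵒᵖ ⥤ Over S) (c : Limits.Cone D) (_ : Limits.IsLimit c),
      (∀ i, LocallyOfFinitePresentation (D.obj i).hom ∧ QuasiCompact (D.obj i).hom ∧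
        QuasiSeparated (D.obj i).hom ∧ CompactSpace (D.obj i).left ∧ QuasiSeparatedSpace (D.obj i).left) ∧
      (∀ (i j : Iᵒᵖ) (a : i ⟶ j), IsClosedImmersion (D.map a).left) ∧
      Nonempty (c.pt ≅ Over.mk f) := by
  obtain ⟨Z, g, j, hg1, hg2, hg3, hj, hjg, hZ1, hZ2⟩ :=
    Groth.Agent.Lib.helper9.AbsApprox.exists_closedImmersion_fp f
  obtain ⟨I, hI1, hI2, hI3, D, t, c, hc, e, h1, h2, h3, h4⟩ :=
    Groth.Agent.Lib.helper9.AbsApprox.exists_closed_approx j
  have : IsConnected Iᵒᵖ := IsCofiltered.isConnected Iᵒᵖ
  -- the structure morphisms to `S`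
  let t' : D ⟶ (Functor.const Iᵒᵖ).obj S :=
    { app := fun i => t.app i ≫ g
      naturality := fun i j a => by
        have := t.naturality a
        simp only [Functor.const_obj_obj, Functor.const_obj_map, Category.comp_id] at this ⊢
        rw [reassoc_of% this] }
  have ht' : ∀ i, c.π.app i ≫ t'.app i = e.hom ≫ f := fun i => by
    show c.π.app i ≫ t.app i ≫ g = _
    rw [reassoc_of% h1 i, hjg]
  refine ⟨I, hI1, hI2, hI3, Groth.Agent.Lib.helper9.AbsApprox.overFunctor D t',
    Groth.Agent.Lib.helper9.AbsApprox.overCone D t' c (e.hom ≫ f) ht',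
    Groth.Agent.Lib.helper9.AbsApprox.isLimitOverCone D t' c hc (e.hom ≫ f) ht', ?_, ?_, ?_⟩
  · intro i
    have hci : IsClosedImmersion (t.app i) := (h2 i).1
    have hfp : LocallyOfFinitePresentation (t.app i) := (h2 i).2
    have hqc : QuasiCompact (t.app i) := inferInstance
    have hqs : QuasiSeparated (t.app i) := inferInstance
    refine ⟨?_, ?_, ?_, ?_, ?_⟩
    · show LocallyOfFinitePresentation (t.app i ≫ g)
      infer_instance
    · show QuasiCompact (t.app i ≫ g)
      infer_instance
    · show QuasiSeparated (t.app i ≫ g)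
      infer_instance
    · exact @QuasiCompact.compactSpace_of_compactSpace _ Z (t.app i) hqc hZ1
    · exact @quasiSeparatedSpace_of_quasiSeparated _ Z (t.app i) hZ2 hqs
  · intro i j a
    exact h3 i j a
  · exact ⟨Over.isoMk e (by simp [Groth.Agent.Lib.helper9.AbsApprox.overCone])⟩

end Groth.Agent.S7380
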