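import Groth.Statements.S7384
-- import your own Groth.Agent.* helpers here
import Groth.Agent.Lib.Helper9.AbsApprox20

set_option autoImplicit false
universe u
open CategoryTheory AlgebraicGeometry
open Lim

namespace Groth.Agent.S7384

/-- Let `f : X → S` be a morphism of quasi-compact quasi-separated schemes. Then `f` is a limit of
morphisms `f_i : X_i → S_i` indexed by a nonempty directed set: there are inverse systems `X_i`,
`S_i` of quasi-compact schemes locally of finite type over `ℤ` with affine transition morphisms, a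
compatible family of morphisms `f_i`, and limit cones identified with `X` and `S` compatibly with
`f`. -/
theorem result {X S : Scheme.{u}} (f : X ⟶ S) [CompactSpace X]
    [QuasiSeparatedSpace X] [CompactSpace S] [QuasiSeparatedSpace S] :
    ∃ (I : Type u) (_ : Preorder I) (_ : IsDirected I (fun a b => a ≤ b)) (_ : Nonempty I)
      (DX DS : Iᵒᵖ ⥤ Scheme.{u}) (φ : DX ⟶ DS)
      (cX : Limits.Cone DX) (cS : Limits.Cone DS) (_ : Limits.IsLimit cX) (_ : Limits.IsLimit cS)
      (eX : cX.pt ≅ X) (eS : cS.pt ≅ S),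
      (∀ (i j : Iᵒᵖ) (a : i ⟶ j), IsAffineHom (DX.map a) ∧ IsAffineHom (DS.map a)) ∧
      (∀ i, CompactSpace (DX.obj i) ∧ CompactSpace (DS.obj i) ∧
        LocallyOfFiniteType (Limits.IsTerminal.from specULiftZIsTerminal (DX.obj i)) ∧
        LocallyOfFiniteType (Limits.IsTerminal.from specULiftZIsTerminal (DS.obj i))) ∧
      (∀ i, cX.π.app i ≫ φ.app i = eX.hom ≫ f ≫ eS.inv ≫ cS.π.app i) := by
  obtain ⟨TX, ⟨eX⟩⟩ := Groth.Agent.Lib.helper9.AbsApprox.hasApprox_of_qcqs X
  obtain ⟨TS, ⟨eS⟩⟩ := Groth.Agent.Lib.helper9.AbsApprox.hasApprox_of_qcqs S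
  let f' : TX.c.pt ⟶ TS.c.pt := eX.hom ≫ f ≫ eS.inv
  refine ⟨Groth.Agent.Lib.helper9.AbsApprox.MorIdx TX TS f', inferInstance, inferInstance,
    inferInstance, Groth.Agent.Lib.helper9.AbsApprox.MorIdx.DX TX TS f',
    Groth.Agent.Lib.helper9.AbsApprox.MorIdx.DS TX TS f',
    Groth.Agent.Lib.helper9.AbsApprox.MorIdx.φ TX TS f',
    Groth.Agent.Lib.helper9.AbsApprox.MorIdx.cX TX TS f',
    Groth.Agent.Lib.helper9.AbsApprox.MorIdx.cS TX TS f',
    Groth.Agent.Lib.helper9.AbsApprox.MorIdx.hcX TX TS f',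
    Groth.Agent.Lib.helper9.AbsApprox.MorIdx.hcS TX TS f', eX, eS, ?_, ?_, ?_⟩
  · intro i j a
    exact ⟨TX.aff _, TS.aff _⟩
  · intro i
    exact ⟨(TX.ftz _).1, (TS.ftz _).1, (TX.ftz _).2, (TS.ftz _).2⟩
  · intro i
    rw [Groth.Agent.Lib.helper9.AbsApprox.MorIdx.cX_π_φ]
    exact (Category.assoc eX.hom (f ≫ eS.inv) _).trans
      (congrArg (eX.hom ≫ ·) (Category.assoc f eS.inv _))

end Groth.Agent.S7384
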