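import Groth.Statements.S7387
import Mathlib

set_option autoImplicit false
universe u
open CategoryTheory AlgebraicGeometry
open Mor

namespace Groth.Agent.S7387

open AlgebraicGeometry CategoryTheory Limits

set_option backward.isDefEq.respectTransparency.types false in
/-- The union of two disjoint separated open subschemes is separated. -/
theorem isSeparated_sup_of_disjoint {X : Scheme.{u}} (V W : X.Opens) (h : Disjoint V W)
    [V.toScheme.IsSeparated] [W.toScheme.IsSeparated] : (V ⊔ W).toScheme.IsSeparated := by
  let f := X.homOfLE (le_sup_left : V ≤ V ⊔ W)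
  let g := X.homOfLE (le_sup_right : W ≤ V ⊔ W)
  have hfι : f ≫ (V ⊔ W).ι = V.ι := X.homOfLE_ι _
  have hgι : g ≫ (V ⊔ W).ι = W.ι := X.homOfLE_ι _
  have hc : IsCompl f.opensRange g.opensRange := by
    constructor
    · rw [disjoint_iff]
      ext x
      simp only [TopologicalSpace.Opens.coe_inf, Scheme.Hom.coe_opensRange, Set.mem_inter_iff,
        Set.mem_range, TopologicalSpace.Opens.coe_bot, Set.mem_empty_iff_false, iff_false, not_and]
      rintro ⟨v, rfl⟩ ⟨w, hw⟩
      have h1 : W.ι w = V.ι v := by
        rw [← hfι, ← hgι, Scheme.Hom.comp_apply, Scheme.Hom.comp_apply, hw]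
      have h2 : (V.ι v : X) ∈ V ⊓ W := ⟨v.2, h1 ▸ w.2⟩
      rw [disjoint_iff.mp h] at h2
      exact h2
    · rw [codisjoint_iff, eq_top_iff]
      rintro x -
      have hx : x.1 ∈ V ⊔ W := x.2
      rcases hx with hx | hx
      · left
        refine ⟨⟨x.1, hx⟩, ?_⟩
        apply (V ⊔ W).ι.injective
        rw [← Scheme.Hom.comp_apply, hfι]
        rfl
      · right
        refine ⟨⟨x.1, hx⟩, ?_⟩
        apply (V ⊔ W).ι.injective
        rw [← Scheme.Hom.comp_apply, hgι]
        rfl
  obtain ⟨hcol⟩ := nonempty_isColimit_binaryCofanMk_of_isCompl f g hc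
  let e : (V ⊔ W).toScheme ≅ V.toScheme ⨿ W.toScheme :=
    hcol.coconePointUniqueUpToIso (colimit.isColimit _)
  constructor
  have : terminal.from (V ⊔ W).toScheme =
      e.hom ≫ coprod.map (terminal.from V.toScheme) (terminal.from W.toScheme) ≫
        terminal.from _ := Subsingleton.elim _ _
  rw [this]
  have : IsSeparated (coprod.map (terminal.from V.toScheme) (terminal.from W.toScheme)) :=
    IsZariskiLocalAtTarget.coprodMap _ _ inferInstance inferInstance
  infer_instance


set_option backward.isDefEq.respectTransparency.types false in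
/-- An open subscheme contained in an affine open is separated. -/
theorem isSeparated_of_le_affine {X : Scheme.{u}} (W U : X.Opens) (hU : IsAffineOpen U)
    (hWU : W ≤ U) : W.toScheme.IsSeparated := by
  constructor
  have : IsAffine U.toScheme := hU
  have : terminal.from W.toScheme = X.homOfLE hWU ≫ terminal.from U.toScheme :=
    Subsingleton.elim _ _
  rw [this]
  infer_instance

set_option backward.isDefEq.respectTransparency.types false in
theorem exists_dense_separated {X : Scheme.{u}} (S : X.Opens) (hS : IsCompact (S : Set X)) :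
    ∃ V : X.Opens, V ≤ S ∧ (S : Set X) ⊆ closure (V : Set X) ∧ V.toScheme.IsSeparated := by
  refine compact_open_induction_on (P := fun S : X.Opens => ∃ V : X.Opens, V ≤ S ∧
    (S : Set X) ⊆ closure (V : Set X) ∧ V.toScheme.IsSeparated) S hS ?_ ?_
  · refine ⟨⊥, le_rfl, by simp, ?_⟩
    have : IsAffine (⊥ : X.Opens).toScheme := isAffineOpen_bot X
    infer_instance
  · intro S hS U ih
    obtain ⟨V, hVS, hdense, hVsep⟩ := ih
    let C : X.Opens := ⟨(closure (V : Set X))ᶜ, isClosed_closure.isOpen_compl⟩
    let W : X.Opens := U.1 ⊓ C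
    have hdisj : Disjoint V W := by
      rw [disjoint_iff]
      ext x
      simp only [TopologicalSpace.Opens.coe_inf, Set.mem_inter_iff, SetLike.mem_coe,
        TopologicalSpace.Opens.coe_bot, Set.mem_empty_iff_false, iff_false, not_and]
      rintro hxV ⟨-, hxC⟩
      exact hxC (subset_closure hxV)
    have hWsep : W.toScheme.IsSeparated := isSeparated_of_le_affine W U.1 U.2 inf_le_left
    refine ⟨V ⊔ W, sup_le_sup hVS inf_le_left, ?_, isSeparated_sup_of_disjoint V W hdisj⟩
    rintro x (hx | hx)
    · exact closure_mono (by exact fun y hy => Or.inl hy) (hdense hx)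
    · by_cases hxc : x ∈ closure (V : Set X)
      · exact closure_mono (by exact fun y hy => Or.inl hy) hxc
      · exact subset_closure (Or.inr ⟨hx, hxc⟩)

/-- A quasi-compact scheme has a dense open subscheme which is separated. -/
theorem result (X : Scheme.{u}) [CompactSpace X] :
    ∃ V : X.Opens, Dense (V : Set X) ∧ (V : Scheme.{u}).IsSeparated := by
  obtain ⟨V, -, hV, hsep⟩ := exists_dense_separated (⊤ : X.Opens) isCompact_univ
  refine ⟨V, ?_, hsep⟩
  rw [dense_iff_closure_eq, Set.eq_univ_iff_forall]
  intro x
  exact hV (Set.mem_univ x)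

end Groth.Agent.S7387
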