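import Groth.Statements.S7388
import Groth.Agent.Lib.Helper12.HypCover

set_option autoImplicit false
universe u
open CategoryTheory AlgebraicGeometry
open Mor

namespace Groth.Agent.S7388

/-- Let `X` be a scheme admitting an immersion into `Proj S` for some graded ring `S`. Then any finite
set of points of `X` is contained in an affine open of `X`. -/
theorem result {R A : Type u} [CommRing R] [CommRing A] [Algebra R A]
    (𝒜 : ℕ → Submodule R A) [GradedAlgebra 𝒜] {X : Scheme.{u}} (ι : X ⟶ Proj 𝒜) [IsImmersion ι]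
    (E : Set X) (hE : E.Finite) :
    ∃ U : X.Opens, IsAffineOpen U ∧ E ⊆ U := by
  classical
  let φ : X → ProjectiveSpectrum 𝒜 := fun x => ι.base x
  let C : Set (ProjectiveSpectrum 𝒜) := closure (Set.range φ) \ Set.range φ
  have hloc : IsLocallyClosed (Set.range φ) := ι.isLocallyClosed_range
  have hC : IsClosed C := by
    have h1 : IsOpen (coborder (Set.range φ)) := hloc.isOpen_coborder
    have h2 : C = (coborder (Set.range φ))ᶜ := by
      rw [coborder, compl_compl]
    rw [h2]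
    exact h1.isClosed_compl
  let J : Ideal A := (ProjectiveSpectrum.vanishingIdeal C).toIdeal
  let s : Finset (Ideal A) := hE.toFinset.image (fun x => (φ x).asHomogeneousIdeal.toIdeal)
  have hs : ∀ p ∈ s, p.IsPrime ∧ ∃ (d : ℕ) (_ : 0 < d) (x : A), x ∈ 𝒜 d ∧ x ∈ J ∧ x ∉ p := by
    intro p hp
    obtain ⟨x, hx, rfl⟩ := Finset.mem_image.mp hp
    refine ⟨(φ x).isPrime, ?_⟩
    have hxC : φ x ∉ C := fun h => h.2 ⟨x, rfl⟩
    -- an element of J not in φ x
    have h1 : ∃ a ∈ J, a ∉ (φ x).asHomogeneousIdeal.toIdeal := by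
      by_contra hcon
      push Not at hcon
      apply hxC
      rw [← hC.closure_eq, ← ProjectiveSpectrum.zeroLocus_vanishingIdeal_eq_closure]
      rw [ProjectiveSpectrum.mem_zeroLocus]
      intro a ha
      exact hcon a ha
    obtain ⟨a, haJ, hax⟩ := h1
    obtain ⟨i, hi⟩ := Groth.Agent.Lib.helper12.HypCover.exists_proj_notMem 𝒜 _ a hax
    obtain ⟨e, he, b, hb, hbx⟩ := Groth.Agent.Lib.helper12.HypCover.exists_pos_notMem 𝒜 (φ x)
    refine ⟨i + e, by omega, GradedRing.proj 𝒜 i a * b, ?_, ?_, ?_⟩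
    · exact SetLike.mul_mem_graded (GradedRing.proj_apply 𝒜 i a ▸ SetLike.coe_mem _) hb
    · apply Ideal.mul_mem_right
      exact (ProjectiveSpectrum.vanishingIdeal C).isHomogeneous i haJ
    · intro hmem
      rcases (φ x).isPrime.mem_or_mem hmem with h | h
      · exact hi h
      · exact hbx h
  obtain ⟨d, hd, f, hfd, hfJ, hfs⟩ :=
    Groth.Agent.Lib.helper12.HypCover.exists_homogeneous_mem_notMem 𝒜 J s.card s rfl hs
  refine ⟨ι ⁻¹ᵁ (Proj.basicOpen 𝒜 f), ?_, ?_⟩
  · set D : (Proj 𝒜).Opens := Proj.basicOpen 𝒜 f with hD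
    have haff : IsAffineOpen D := Proj.isAffineOpen_basicOpen 𝒜 f hfd hd
    have hle : D ≤ ι.coborderRange.ι.opensRange := by
      rw [Scheme.Opens.opensRange_ι]
      intro y hy
      change y ∈ coborder (Set.range φ)
      rw [coborder]
      intro hyC
      have h1 : f ∉ (y : ProjectiveSpectrum 𝒜).asHomogeneousIdeal := hy
      exact h1 ((ProjectiveSpectrum.mem_vanishingIdeal _ _).mp hfJ y hyC)
    have h1 : IsAffineOpen (ι.coborderRange.ι ⁻¹ᵁ D) :=
      haff.preimage_of_isOpenImmersion ι.coborderRange.ι hle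
    have h2 : IsAffineOpen (ι.liftCoborder ⁻¹ᵁ (ι.coborderRange.ι ⁻¹ᵁ D)) :=
      h1.preimage ι.liftCoborder
    have h3 : ι.liftCoborder ⁻¹ᵁ (ι.coborderRange.ι ⁻¹ᵁ D) = ι ⁻¹ᵁ D := by
      rw [← Scheme.Hom.comp_preimage, ι.liftCoborder_ι]
    rw [← h3]
    exact h2
  · intro x hx
    change ι.base x ∈ Proj.basicOpen 𝒜 f
    rw [Proj.mem_basicOpen]
    exact hfs _ (Finset.mem_image.mpr ⟨x, hE.mem_toFinset.mpr hx, rfl⟩)

end Groth.Agent.S7388
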