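import Groth.Statements.S7392
import Groth.Agent.Lib.Helper16.QCohPullback2

set_option autoImplicit false
universe u
open CategoryTheory AlgebraicGeometry
open Opposite
open Mor
open TensorProduct

namespace Groth.Agent.S7392

instance invPair1 (A : CommRingCat.{u}) :
    RingHomInvPair (Scheme.ΓSpecIso A).inv.hom (Scheme.ΓSpecIso A).hom.hom :=
  ⟨by ext x; exact congr($((Scheme.ΓSpecIso A).inv_hom_id).hom x),
   by ext x; exact congr($((Scheme.ΓSpecIso A).hom_inv_id).hom x)⟩

instance invPair2 (A : CommRingCat.{u}) :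
    RingHomInvPair (Scheme.ΓSpecIso A).hom.hom (Scheme.ΓSpecIso A).inv.hom :=
  ⟨by ext x; exact congr($((Scheme.ΓSpecIso A).hom_inv_id).hom x),
   by ext x; exact congr($((Scheme.ΓSpecIso A).inv_hom_id).hom x)⟩

/-- the semilinear identification `M ≃ Γ(M~, ⊤)` along `A ≅ Γ(Spec A, ⊤)`. -/
noncomputable def topEquiv (A : CommRingCat.{u}) (M : ModuleCat.{u} A) :
    M ≃ₛₗ[(Scheme.ΓSpecIso A).inv.hom] Γ(tilde M, (⊤ : (Spec A).Opens)) :=
  { toFun := fun m => (tilde.isoTop M).hom.hom m
    invFun := fun s => (tilde.isoTop M).inv.hom s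
    map_add' := fun x y => map_add _ x y
    map_smul' := fun r x => by
      have h := (tilde.isoTop M).hom.hom.map_smul r x
      refine h.trans ?_
      rfl
    left_inv := fun x => by
      change ((tilde.isoTop M).hom ≫ (tilde.isoTop M).inv).hom x = x
      rw [Iso.hom_inv_id]; rfl
    right_inv := fun x => by
      change ((tilde.isoTop M).inv ≫ (tilde.isoTop M).hom).hom x = x
      rw [Iso.inv_hom_id]; rfl }

/-- For a ring `A` and an `A`-module `M`, the module `M~` on `Spec A` is locally projective (projective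
sections over every affine open) if and only if `M` is a projective `A`-module. -/
theorem result (A : CommRingCat.{u}) (M : ModuleCat.{u} A) :
    (∀ U : (Spec A).Opens, IsAffineOpen U →
      Module.Projective ((Spec A).ringCatSheaf.obj.obj (op U)) ((tilde M).val.obj (op U))) ↔
      Module.Projective A M := by
  constructor
  · intro h
    have h1 := h ⊤ (isAffineOpen_top _)
    have h2 : Module.Projective Γ(Spec A, ⊤) Γ(tilde M, (⊤ : (Spec A).Opens)) := h1
    exact Module.Projective.of_equiv (topEquiv A M).symm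
  · intro hM U hU
    have h2 : Module.Projective Γ(Spec A, ⊤) Γ(tilde M, (⊤ : (Spec A).Opens)) :=
      Module.Projective.of_equiv (topEquiv A M)
    have e : U ≤ (𝟙 (Spec A)) ⁻¹ᵁ (⊤ : (Spec A).Opens) := le_top
    letI := ((𝟙 (Spec A) : Spec A ⟶ Spec A).appLE ⊤ U e).hom.toAlgebra
    have h3 : Module.Projective Γ(Spec A, U)
        (Γ(Spec A, U) ⊗[Γ(Spec A, ⊤)] Γ(tilde M, (⊤ : (Spec A).Opens))) := inferInstance
    have h4 : Module.Projective Γ(Spec A, U)
        Γ((Scheme.Modules.pullback (𝟙 (Spec A))).obj (tilde M), U) :=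
      Module.Projective.of_equiv'
        (Groth.Agent.Lib.helper16.QCohPullback.pullbackSectionsEquiv (𝟙 (Spec A)) (tilde M)
          (isAffineOpen_top _) hU e).symm
    have h5 : Module.Projective Γ(Spec A, U) Γ(tilde M, U) :=
      Module.Projective.of_equiv'
        (Groth.Agent.Lib.helper16.QCohPullback2.sectionsEquivOfIso
          ((Scheme.Modules.pullbackId (Spec A)).app (tilde M)) U)
    exact h5

end Groth.Agent.S7392
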