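import Groth.Statements.S7394
import Mathlib
import Groth.Agent.Lib.Helper15.CommonField

set_option autoImplicit false
universe u
open CategoryTheory AlgebraicGeometry
open Lim

namespace Groth.Agent.S7394

/-- Let `S` be a scheme and `T_i → S`, `i ∈ I`, surjective affine morphisms. Then any product of the
`T_i` in the category of schemes over `S` maps surjectively onto `S`. -/
theorem result {S : Scheme.{u}} {I : Type u} (T : I → Over S)
    (hT : ∀ i, IsAffineHom (T i).hom ∧ Surjective (T i).hom) (c : Limits.Fan T) (hc : Limits.IsLimit c) :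
    Surjective c.pt.hom := by
  classical
  refine ⟨fun s => ?_⟩
  have ht : ∀ i, ∃ t : (T i).left, (T i).hom t = s := fun i => (hT i).2.surj s
  choose t ht using ht
  let φ : ∀ i, S.residueField s ⟶ (T i).left.residueField (t i) := fun i =>
    (S.residueFieldCongr (ht i)).inv ≫ (T i).hom.residueFieldMap (t i)
  let _ : ∀ i, Algebra (S.residueField s) ((T i).left.residueField (t i)) :=
    fun i => (φ i).hom.toAlgebra
  obtain ⟨K, hK, hKalg, hψ⟩ :=
    Groth.Agent.Lib.helper15.CommonField.exists_common_field_extension
      (k := S.residueField s) (fun i => (T i).left.residueField (t i))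
  let ψ : ∀ i, ↑((T i).left.residueField (t i)) →ₐ[↑(S.residueField s)] K := fun i => (hψ i).some
  let σ : Spec (.of K) ⟶ S :=
    Spec.map (CommRingCat.ofHom (algebraMap (S.residueField s) K)) ≫ S.fromSpecResidueField s
  let g : ∀ i, Spec (.of K) ⟶ (T i).left := fun i =>
    Spec.map (CommRingCat.ofHom (ψ i).toRingHom) ≫ (T i).left.fromSpecResidueField (t i)
  have hg : ∀ i, g i ≫ (T i).hom = σ := by
    intro i
    have h1 : (T i).left.fromSpecResidueField (t i) ≫ (T i).hom =
        Spec.map ((T i).hom.residueFieldMap (t i)) ≫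
          S.fromSpecResidueField ((T i).hom (t i)) :=
      (Scheme.Hom.SpecMap_residueFieldMap_fromSpecResidueField (T i).hom (t i)).symm
    have h2 : S.fromSpecResidueField ((T i).hom (t i)) =
        Spec.map (S.residueFieldCongr (ht i)).inv ≫ S.fromSpecResidueField s := by
      rw [← Scheme.residueFieldCongr_fromSpecResidueField (ht i), ← Category.assoc,
        ← Spec.map_comp, Iso.hom_inv_id, Spec.map_id, Category.id_comp]
    have h3 : φ i ≫ CommRingCat.ofHom (ψ i).toRingHom =
        CommRingCat.ofHom (algebraMap (S.residueField s) K) := by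
      ext x
      exact (ψ i).commutes x
    change (Spec.map (CommRingCat.ofHom (ψ i).toRingHom) ≫
      (T i).left.fromSpecResidueField (t i)) ≫ (T i).hom = _
    rw [Category.assoc, h1, h2, ← Category.assoc, ← Category.assoc, ← Spec.map_comp,
      ← Spec.map_comp, ← Category.assoc]
    change Spec.map (φ i ≫ CommRingCat.ofHom (ψ i).toRingHom) ≫ _ = _
    rw [h3]
  let P : Over S := Over.mk σ
  let π : ∀ i, P ⟶ T i := fun i => Over.homMk (g i) (hg i)
  let l : P ⟶ c.pt := hc.lift (Limits.Fan.mk P π)
  have hl : l.left ≫ c.pt.hom = σ := Over.w l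
  refine ⟨l.left (default : Spec (.of K)), ?_⟩
  have h4 : c.pt.hom (l.left (default : Spec (.of K))) = σ default := by
    rw [← hl]
    rfl
  rw [h4]
  exact Scheme.fromSpecResidueField_apply s _

end Groth.Agent.S7394
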