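import Groth.Statements.S7395
-- import your own Groth.Agent.* helpers here
import Groth.Agent.Lib.Helper9.AbsApprox29
import Groth.Agent.Lib.Helper9.SeparatedStructure

set_option autoImplicit false
universe u
open CategoryTheory AlgebraicGeometry
open Lim

namespace Groth.Agent.S7395

/-- Let `f : X → S` be separated and of finite type with `S` quasi-compact and quasi-separated. Then
there are a separated morphism `f' : X' → S` of finite presentation and a closed immersion `X → X'`
over `S`. -/
theorem result {X S : Scheme.{u}} (f : X ⟶ S) [IsSeparated f]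
    [LocallyOfFiniteType f] [QuasiCompact f] [CompactSpace S] [QuasiSeparatedSpace S] :
    ∃ (X' : Scheme.{u}) (f' : X' ⟶ S) (j : X ⟶ X'), IsSeparated f' ∧ LocallyOfFinitePresentation f' ∧
      QuasiCompact f' ∧ IsClosedImmersion j ∧ j ≫ f' = f := by
  have : CompactSpace X := QuasiCompact.compactSpace_of_compactSpace f
  have : QuasiSeparatedSpace X := quasiSeparatedSpace_of_quasiSeparated f
  obtain ⟨Z, g, j, hg1, hg2, hg3, hj, hjg, hZ1, hZ2⟩ :=
    Groth.Agent.Lib.helper9.AbsApprox.exists_closedImmersion_fp f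
  obtain ⟨I, hI1, hI2, hI3, D, t, c, hc, e, h1, h2, h3, h4⟩ :=
    Groth.Agent.Lib.helper9.AbsApprox.exists_closed_approx j
  have hD : ∀ (i j : Iᵒᵖ) (a : i ⟶ j), IsAffineHom (D.map a) := fun i j a => by
    have := h3 i j a
    infer_instance
  have hci : ∀ i, IsClosedImmersion (t.app i) := fun i => (h2 i).1
  have hfp : ∀ i, LocallyOfFinitePresentation (t.app i) := fun i => (h2 i).2
  have hqc : ∀ i, QuasiCompact (t.app i) := fun i => inferInstance
  have hqs : ∀ i, QuasiSeparated (t.app i) := fun i => inferInstance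
  have hcp : ∀ i, CompactSpace (D.obj i) := fun i =>
    @QuasiCompact.compactSpace_of_compactSpace _ Z (t.app i) (hqc i) hZ1
  have hqsp : ∀ i, QuasiSeparatedSpace (D.obj i) := fun i =>
    @quasiSeparatedSpace_of_quasiSeparated _ Z (t.app i) hZ2 (hqs i)
  have hτ : ∀ {i j : Iᵒᵖ} (a : i ⟶ j), D.map a ≫ (t.app j ≫ g) = t.app i ≫ g := fun a => by
    have := t.naturality a
    simp only [Functor.const_obj_obj, Functor.const_obj_map, Category.comp_id] at this
    rw [reassoc_of% this]
  obtain ⟨i₀⟩ : Nonempty Iᵒᵖ := ⟨Opposite.op hI3.some⟩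
  have : IsSeparated (c.π.app i₀ ≫ (t.app i₀ ≫ g)) := by
    rw [reassoc_of% h1 i₀, hjg]
    infer_instance
  obtain ⟨i₁, hi₁⟩ := Groth.Agent.Lib.helper9.exists_forall_isSeparated_structure S D c hc
    (fun i => t.app i ≫ g) hτ i₀
  have : IsClosedImmersion (c.π.app i₁) := h4 i₁
  refine ⟨D.obj i₁, t.app i₁ ≫ g, e.inv ≫ c.π.app i₁, hi₁ i₁ (𝟙 _), ?_, ?_, inferInstance, ?_⟩
  · have := hfp i₁
    infer_instance
  · have := hqc i₁
    infer_instance
  · rw [Category.assoc, reassoc_of% h1 i₁, Iso.inv_hom_id_assoc, hjg]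

end Groth.Agent.S7395
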