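import Groth.Statements.S7396
-- import your own Groth.Agent.* helpers here
import Groth.Agent.Lib.Helper9.AbsApprox29

set_option autoImplicit false
universe u
open CategoryTheory AlgebraicGeometry
open Lim

namespace Groth.Agent.S7396

/-- Let `f : X → S` be finite with `S` quasi-compact and quasi-separated. Then there are a morphism `f'
: X' → S` which is finite and of finite presentation and a closed immersion `X → X'` over `S`. -/
theorem result {X S : Scheme.{u}} (f : X ⟶ S) [IsFinite f]
    [CompactSpace S] [QuasiSeparatedSpace S] :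
    ∃ (X' : Scheme.{u}) (f' : X' ⟶ S) (j : X ⟶ X'), IsFinite f' ∧ LocallyOfFinitePresentation f' ∧
      IsClosedImmersion j ∧ j ≫ f' = f := by
  obtain ⟨I, hI1, hI2, hI3, D, t, c, hc, e, h1, h2, h3, h4⟩ :=
    Groth.Agent.Lib.helper9.AbsApprox.exists_finite_approx f
  obtain ⟨i⟩ : Nonempty Iᵒᵖ := ⟨Opposite.op hI3.some⟩
  have := h4 i
  refine ⟨D.obj i, t.app i, e.inv ≫ c.π.app i, (h2 i).1, (h2 i).2, inferInstance, ?_⟩
  rw [Category.assoc, h1, Iso.inv_hom_id_assoc]

end Groth.Agent.S7396
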