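import Groth.Statements.S7397
import Mathlib.Tactic.Ring
import Mathlib.Tactic.Linarith
import Mathlib.Data.Nat.Find

set_option autoImplicit false
universe u
open Mor

namespace Groth.Agent.S7397

/-- Let `A ⊆ B` be a ring extension and `b ∈ B`, `b ∉ A`, with `b^n, b^(n+1) ∈ A` for some `n ≥ 2`. Then
some `b' ∈ B` with `b' ∉ A` has `b'^2 ∈ A` and `b'^3 ∈ A`. -/
theorem result {B : Type u} [CommRing B] (A : Subring B) (b : B) (hb : b ∉ A)
    (n : ℕ) (hn : 2 ≤ n) (h1 : b ^ n ∈ A) (h2 : b ^ (n + 1) ∈ A) :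
    ∃ b' : B, b' ∉ A ∧ b' ^ 2 ∈ A ∧ b' ^ 3 ∈ A := by
  classical
  -- all large powers of `b` lie in `A`
  have hlarge : ∀ m : ℕ, n * n ≤ m → b ^ m ∈ A := by
    intro m hm
    have hn0 : 0 < n := by omega
    have hr : m % n < n := Nat.mod_lt _ hn0
    have hq : n ≤ m / n := by
      rw [Nat.le_div_iff_mul_le hn0]
      exact hm
    have hdecomp : m = (m / n - m % n) * n + (m % n) * (n + 1) := by
      have h := Nat.div_add_mod m n
      have h3 : (m / n - m % n) + m % n = m / n := Nat.sub_add_cancel (by omega)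
      calc m = n * (m / n) + m % n := h.symm
        _ = n * ((m / n - m % n) + m % n) + m % n := by rw [h3]
        _ = (m / n - m % n) * n + (m % n) * (n + 1) := by ring
    rw [hdecomp, pow_add, pow_mul', pow_mul']
    exact A.mul_mem (A.pow_mem h1 _) (A.pow_mem h2 _)
  let P : ℕ → Prop := fun m => b ^ m ∉ A
  have hP1 : P 1 := by simpa [P] using hb
  have h1le : 1 ≤ n * n := by nlinarith
  set k := Nat.findGreatest P (n * n) with hk
  have hPk : P k := Nat.findGreatest_spec h1le hP1
  have hk1 : 1 ≤ k := Nat.le_findGreatest h1le hP1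
  have hmax : ∀ m : ℕ, k < m → b ^ m ∈ A := by
    intro m hm
    by_cases hmn : m ≤ n * n
    · by_contra hcon
      exact Nat.findGreatest_is_greatest hm hmn hcon
    · exact hlarge m (by omega)
  refine ⟨b ^ k, hPk, ?_, ?_⟩
  · rw [← pow_mul]
    exact hmax _ (by omega)
  · rw [← pow_mul]
    exact hmax _ (by omega)

end Groth.Agent.S7397
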