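import Groth.Statements.S7404
import Groth.Agent.Lib.Helper2.PolyQuotUH
import Groth.Agent.Lib.Helper2.ExtendHom

set_option autoImplicit false
universe u
open CategoryTheory AlgebraicGeometry
open Mor

namespace Groth.Agent.S7404

open Groth.Agent.Lib.helper2 Groth.Agent.Lib.helper2.UnivHomeoElem in
theorem integral_sub {A B : Type u} [CommRing A] [CommRing B] [Algebra A B]
    (B' : Subalgebra A B)
    (hc : UniversallyClosed (Spec.map (CommRingCat.ofHom (algebraMap A B)))) :
    (algebraMap A B).IsIntegral ∧ (algebraMap A B').IsIntegral ∧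
      UniversallyClosed (Spec.map (CommRingCat.ofHom (algebraMap A B'))) := by
  have h1 : IsIntegralHom (Spec.map (CommRingCat.ofHom (algebraMap A B))) :=
    IsIntegralHom.iff_universallyClosed_and_isAffineHom.2 ⟨hc, inferInstance⟩
  have h2 : (algebraMap A B).IsIntegral := IsIntegralHom.SpecMap_iff.1 h1
  have hcomp : algebraMap A B = (B'.val.toRingHom).comp (algebraMap A B') := by
    ext a
    rfl
  have h3 : (algebraMap A B').IsIntegral := by
    refine isIntegral_of_comp (algebraMap A B') B'.val.toRingHom Subtype.val_injective ?_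
    rw [← hcomp]
    exact h2
  refine ⟨h2, h3, ?_⟩
  have h4 : IsIntegralHom (Spec.map (CommRingCat.ofHom (algebraMap A B'))) :=
    IsIntegralHom.SpecMap_iff.2 h3
  exact (IsIntegralHom.iff_universallyClosed_and_isAffineHom.1 h4).1

open Groth.Agent.Lib.helper2 Groth.Agent.Lib.helper2.UnivHomeoElem in
/-- field-valued points of `B'` are determined by `A` if those of `B` are. -/
theorem points_sub {A B : Type u} [CommRing A] [CommRing B] [Algebra A B]
    (B' : Subalgebra A B) (hint : (algebraMap A B).IsIntegral)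
    (hB : ∀ (K : Type u) [Field K] (φ₁ φ₂ : B →+* K),
      φ₁.comp (algebraMap A B) = φ₂.comp (algebraMap A B) → φ₁ = φ₂)
    (K : Type u) [Field K] (φ₁ φ₂ : B' →+* K)
    (h12 : φ₁.comp (algebraMap A B') = φ₂.comp (algebraMap A B')) : φ₁ = φ₂ := by
  have hcomp : algebraMap A B = (algebraMap B' B).comp (algebraMap A B') := by
    ext a
    rfl
  have hιint : (algebraMap B' B).IsIntegral := by
    refine RingHom.IsIntegral.tower_top (algebraMap A B') (algebraMap B' B) ?_
    rw [← hcomp]
    exact hint
  haveI : Algebra.IsIntegral B' B := algebraMap_isIntegral_iff.1 hιint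
  have hker : ∀ φ : B' →+* K, RingHom.ker (algebraMap B' B) ≤ RingHom.ker φ := by
    intro φ b hb
    have : (b : B) = 0 := hb
    have hb0 : b = 0 := Subtype.ext this
    rw [hb0]
    exact (RingHom.ker φ).zero_mem
  obtain ⟨ψ₁, hψ₁⟩ := ExtendHom.exists_extension_of_ker_le K φ₁ (hker φ₁)
  obtain ⟨ψ₂, hψ₂⟩ := ExtendHom.exists_extension_of_ker_le K φ₂ (hker φ₂)
  have h3 : ψ₁.comp (algebraMap A B) = ψ₂.comp (algebraMap A B) := by
    rw [hcomp, ← RingHom.comp_assoc, ← RingHom.comp_assoc, hψ₁, hψ₂, RingHom.comp_assoc,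
      RingHom.comp_assoc, h12]
  have h4 := hB _ ψ₁ ψ₂ h3
  rw [h4, hψ₂] at hψ₁
  refine RingHom.ext (fun b => ?_)
  have := congrArg (fun f => f b) hψ₁
  exact ((algebraMap K (AlgebraicClosure K)).injective this).symm

open Groth.Agent.Lib.helper2 Groth.Agent.Lib.helper2.UnivHomeoElem in
theorem univInj_points {A B : Type u} [CommRing A] [CommRing B] (ψ : A →+* B)
    (h : UniversallyInjective (Spec.map (CommRingCat.ofHom ψ)))
    (L : Type u) [Field L] (χ₁ χ₂ : B →+* L) (hχ : χ₁.comp ψ = χ₂.comp ψ) : χ₁ = χ₂ := by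
  have h01 : UniversallyInjective (Spec.map (CommRingCat.ofHom ψ)) →
      ∀ (K : Type u) [Field K], Function.Injective
        (fun g : Spec (.of K) ⟶ Spec (CommRingCat.of B) ↦ g ≫ Spec.map (CommRingCat.ofHom ψ)) :=
    ((tfae_universallyInjective (Spec.map (CommRingCat.ofHom ψ))).out 0 1).1
  have hinj := h01 h L
  have h1 : Spec.map (CommRingCat.ofHom χ₁) ≫ Spec.map (CommRingCat.ofHom ψ) =
      Spec.map (CommRingCat.ofHom χ₂) ≫ Spec.map (CommRingCat.ofHom ψ) := by
    rw [← Spec.map_comp, ← Spec.map_comp, ← CommRingCat.ofHom_comp, ← CommRingCat.ofHom_comp, hχ]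
  have h2 := Spec.map_injective (hinj h1)
  have h3 := congrArg CommRingCat.Hom.hom h2
  exact h3

open Groth.Agent.Lib.helper2 Groth.Agent.Lib.helper2.UnivHomeoElem in
theorem univInj_of_points {A B : Type u} [CommRing A] [CommRing B] (ψ : A →+* B)
    (hinj : ∀ (K : Type u) [Field K] (φ₁ φ₂ : B →+* K), φ₁.comp ψ = φ₂.comp ψ → φ₁ = φ₂) :
    UniversallyInjective (Spec.map (CommRingCat.ofHom ψ)) := by
  refine ((tfae_universallyInjective _).out 0 1).2 ?_
  intro K _ g₁ g₂ hg
  obtain ⟨φ₁, rfl⟩ := Spec.map_surjective g₁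
  obtain ⟨φ₂, rfl⟩ := Spec.map_surjective g₂
  dsimp only at hg
  rw [← Spec.map_comp, ← Spec.map_comp] at hg
  have := Spec.map_injective hg
  have h3 : φ₁.hom.comp ψ = φ₂.hom.comp ψ := by
    have := congrArg CommRingCat.Hom.hom this
    simpa using this
  have h4 := hinj K φ₁.hom φ₂.hom h3
  congr 1
  exact CommRingCat.hom_ext h4

open Groth.Agent.Lib.helper2 Groth.Agent.Lib.helper2.UnivHomeoElem in
theorem uh_sub {A B : Type u} [CommRing A] [CommRing B] [Algebra A B]
    (B' : Subalgebra A B)
    (hU : FlatMor.IsUnivHomeo (Spec.map (CommRingCat.ofHom (algebraMap A B)))) :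
    FlatMor.IsUnivHomeo (Spec.map (CommRingCat.ofHom (algebraMap A B'))) := by
  have hint := SpecResidue.isIntegral_of_isUnivHomeo_Spec _ hU
  have hcomp : algebraMap A B = (B'.val.toRingHom).comp (algebraMap A B') := by
    ext a
    rfl
  have h3 : (algebraMap A B').IsIntegral := by
    refine isIntegral_of_comp (algebraMap A B') B'.val.toRingHom Subtype.val_injective ?_
    rw [← hcomp]
    exact hint
  refine SpecResidue.isUnivHomeo_Spec_of _ h3 ?_ ?_
  · intro 𝔭
    obtain ⟨Q, hQ⟩ := (SpecResidue.comap_bijective_of_isUnivHomeo_Spec _ hU).2 𝔭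
    refine ⟨PrimeSpectrum.comap B'.val.toRingHom Q, ?_⟩
    rw [← hQ]
    rfl
  · exact points_sub B' hint (SpecResidue.hom_ext_of_isUnivHomeo_Spec _ hU)

/-- Let `A → B` be a ring map and `B' ⊆ B` an `A`-subalgebra, with `f : Spec B → Spec A` and `f' : Spec
B' → Spec A` the induced morphisms. Each of the following properties passes from `f` to `f'`: being
a universal homeomorphism; being a universal homeomorphism with trivial residue field extensions;
being universally closed; being both universally closed and universally injective. -/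
theorem result {A B : Type u} [CommRing A] [CommRing B] [Algebra A B]
    (B' : Subalgebra A B) :
    (FlatMor.IsUnivHomeo (Spec.map (CommRingCat.ofHom (algebraMap A B))) →
      FlatMor.IsUnivHomeo (Spec.map (CommRingCat.ofHom (algebraMap A B')))) ∧
    ((FlatMor.IsUnivHomeo (Spec.map (CommRingCat.ofHom (algebraMap A B))) ∧
      ∀ x : Spec (CommRingCat.of B),
        Function.Surjective ((Spec.map (CommRingCat.ofHom (algebraMap A B))).residueFieldMap x)) →
      FlatMor.IsUnivHomeo (Spec.map (CommRingCat.ofHom (algebraMap A B'))) ∧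
      ∀ x : Spec (CommRingCat.of B'),
        Function.Surjective ((Spec.map (CommRingCat.ofHom (algebraMap A B'))).residueFieldMap x)) ∧
    (UniversallyClosed (Spec.map (CommRingCat.ofHom (algebraMap A B))) →
      UniversallyClosed (Spec.map (CommRingCat.ofHom (algebraMap A B')))) ∧
    (UniversallyClosed (Spec.map (CommRingCat.ofHom (algebraMap A B))) →
      UniversallyInjective (Spec.map (CommRingCat.ofHom (algebraMap A B))) →
      UniversallyClosed (Spec.map (CommRingCat.ofHom (algebraMap A B'))) ∧
      UniversallyInjective (Spec.map (CommRingCat.ofHom (algebraMap A B')))) := by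
  refine ⟨uh_sub B', ?_, fun hc => (integral_sub B' hc).2.2, ?_⟩
  · rintro ⟨hU, hres⟩
    refine ⟨uh_sub B' hU, ?_⟩
    refine Groth.Agent.Lib.helper2.PolyQuotUH.residueFieldMap_surjective_of _ ?_
    have hint := Groth.Agent.Lib.helper2.SpecResidue.isIntegral_of_isUnivHomeo_Spec _ hU
    have hcomp : algebraMap A B = (B'.val.toRingHom).comp (algebraMap A B') := by
      ext a
      rfl
    have hιint : (B'.val.toRingHom).IsIntegral := by
      refine RingHom.IsIntegral.tower_top (algebraMap A B') B'.val.toRingHom ?_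
      rw [← hcomp]
      exact hint
    refine Groth.Agent.Lib.helper2.UnivHomeoElem.ResSurj.left (algebraMap A B') B'.val.toRingHom
      Subtype.val_injective hιint ?_
    rw [← hcomp]
    exact Groth.Agent.Lib.helper2.UnivHomeoElem.resSurj_of _ hres
  · intro hc hi
    obtain ⟨h1, h2, h3⟩ := integral_sub B' hc
    refine ⟨h3, ?_⟩
    refine univInj_of_points _ ?_
    exact points_sub B' h1 (univInj_points _ hi)

end Groth.Agent.S7404
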