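import Groth.Statements.S7405
import Groth.Agent.Lib.Helper2.FiltColimUH
import Groth.Agent.Lib.Helper2.PolyQuotUH

set_option autoImplicit false
universe u
open CategoryTheory AlgebraicGeometry
open Mor

namespace Groth.Agent.S7405


open Groth.Agent.Lib.helper2.UnivHomeoElem Groth.Agent.Lib.helper2
open Groth.Agent.Lib.helper2.FiltColimUH

section

variable (A : CommRingCat.{u}) {J : Type u} [SmallCategory J] [IsFiltered J]
  (F : J ⥤ Under A) (c : Limits.Cocone F) (hc : Limits.IsColimit c)

theorem hcomp (j : J) :
    ((c.ι.app j).right.hom).comp (F.obj j).hom.hom = c.pt.hom.hom := by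
  have := Under.w (c.ι.app j)
  have h2 := congrArg CommRingCat.Hom.hom this
  exact h2

include hc in
theorem hS (b : c.pt.right) : ∃ (j : J) (x : (F.obj j).right), (c.ι.app j).right.hom x = b :=
  jointly_surj A F c hc b

include hc in
theorem hS2 (b b' : c.pt.right) :
    ∃ (j : J) (x x' : (F.obj j).right), (c.ι.app j).right.hom x = b ∧
      (c.ι.app j).right.hom x' = b' := by
  obtain ⟨i, x, rfl⟩ := hS A F c hc b
  obtain ⟨j, x', rfl⟩ := hS A F c hc b'
  refine ⟨IsFiltered.max i j, (F.map (IsFiltered.leftToMax i j)).right.hom x,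
    (F.map (IsFiltered.rightToMax i j)).right.hom x', ?_, ?_⟩
  · have := c.w (IsFiltered.leftToMax i j)
    have h2 := congrArg (fun f => f.right.hom x) this
    exact h2
  · have := c.w (IsFiltered.rightToMax i j)
    have h2 := congrArg (fun f => f.right.hom x') this
    exact h2

include hc in
theorem hK (j : J) (x : (F.obj j).right) (hx : (c.ι.app j).right.hom x = 0) :
    ∃ (k : J) (f : (F.obj j).right →+* (F.obj k).right),
      f.comp (F.obj j).hom.hom = (F.obj k).hom.hom ∧ f x = 0 := by
  have h0 : (c.ι.app j).right.hom x = (c.ι.app j).right.hom 0 := by rw [hx, map_zero]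
  obtain ⟨k, f, hf⟩ := (eq_iff A F c hc j x 0).1 h0
  refine ⟨k, (F.map f).right.hom, ?_, ?_⟩
  · have := Under.w (F.map f)
    have h2 := congrArg CommRingCat.Hom.hom this
    exact h2
  · rw [hf, map_zero]

end

/-- Let `A` be a ring and `B` the colimit of a filtered diagram `j ↦ B_j` of `A`-algebras. Each of the
following properties, when it holds for every `Spec B_j → Spec A`, holds for `Spec B → Spec A`:
being a universal homeomorphism; being a universal homeomorphism with trivial residue field
extensions; being universally closed; being both universally closed and universally injective. -/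
theorem result (A : CommRingCat.{u}) {J : Type u} [SmallCategory J]
    [IsFiltered J] (F : J ⥤ Under A) (c : Limits.Cocone F) (hc : Limits.IsColimit c) :
    ((∀ j, FlatMor.IsUnivHomeo (Spec.map (F.obj j).hom)) → FlatMor.IsUnivHomeo (Spec.map c.pt.hom)) ∧
    ((∀ j, FlatMor.IsUnivHomeo (Spec.map (F.obj j).hom) ∧
        ∀ x : Spec (F.obj j).right, Function.Surjective ((Spec.map (F.obj j).hom).residueFieldMap x)) →
      FlatMor.IsUnivHomeo (Spec.map c.pt.hom) ∧
        ∀ x : Spec c.pt.right, Function.Surjective ((Spec.map c.pt.hom).residueFieldMap x)) ∧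
    ((∀ j, UniversallyClosed (Spec.map (F.obj j).hom)) → UniversallyClosed (Spec.map c.pt.hom)) ∧
    ((∀ j, UniversallyClosed (Spec.map (F.obj j).hom) ∧ UniversallyInjective (Spec.map (F.obj j).hom)) →
      UniversallyClosed (Spec.map c.pt.hom) ∧ UniversallyInjective (Spec.map c.pt.hom)) := by
  haveI : Nonempty J := IsFiltered.nonempty
  have hUH : (∀ j, FlatMor.IsUnivHomeo (Spec.map (F.obj j).hom)) →
      FlatMor.IsUnivHomeo (Spec.map c.pt.hom) := fun h =>
    isUnivHomeo_of_colim (c.pt.hom.hom) (fun j => (F.obj j).right) (fun j => (F.obj j).hom.hom)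
      (fun j => (c.ι.app j).right.hom) (hcomp A F c) (hS A F c hc) (hK A F c hc) h
  have hInt : (∀ j, (F.obj j).hom.hom.IsIntegral) → c.pt.hom.hom.IsIntegral := fun h =>
    isIntegral_of_colim (c.pt.hom.hom) (fun j => (F.obj j).right) (fun j => (F.obj j).hom.hom)
      (fun j => (c.ι.app j).right.hom) (hcomp A F c) (hS A F c hc) h
  have hUC : (∀ j, UniversallyClosed (Spec.map (F.obj j).hom)) →
      UniversallyClosed (Spec.map c.pt.hom) := fun h =>
    (universallyClosed_Spec_iff c.pt.hom.hom).2
      (hInt fun j => (universallyClosed_Spec_iff (F.obj j).hom.hom).1 (h j))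
  refine ⟨hUH, ?_, hUC, ?_⟩
  · intro h
    refine ⟨hUH fun j => (h j).1, ?_⟩
    have hRS : ResSurj c.pt.hom.hom :=
      resSurj_of_colim (c.pt.hom.hom) (fun j => (F.obj j).right) (fun j => (F.obj j).hom.hom)
        (fun j => (c.ι.app j).right.hom) (hcomp A F c) (hS2 A F c hc)
        (fun j => resSurj_of (F.obj j).hom.hom (h j).2)
    exact PolyQuotUH.residueFieldMap_surjective_of c.pt.hom.hom hRS
  · intro h
    refine ⟨hUC fun j => (h j).1, ?_⟩
    refine (universallyInjective_Spec_iff c.pt.hom.hom).2 ?_
    exact eqz_of_colim (c.pt.hom.hom) (fun j => (F.obj j).right) (fun j => (F.obj j).hom.hom)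
      (fun j => (c.ι.app j).right.hom) (hcomp A F c) (hS A F c hc)
      (fun j => (universallyInjective_Spec_iff (F.obj j).hom.hom).1 (h j).2)

end Groth.Agent.S7405
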