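import Groth.Statements.S7406
import Mathlib

set_option autoImplicit false
universe u
open CategoryTheory AlgebraicGeometry
open Desc

namespace Groth.Agent.S7406

open CategoryTheory.Limits

theorem etale_specMap_of_finite_separable (k k' : Type u) [Field k] [Field k'] [Algebra k k']
    [FiniteDimensional k k'] [Algebra.IsSeparable k k'] :
    Etale (Spec.map (CommRingCat.ofHom (algebraMap k k'))) := by
  rw [HasRingHomProperty.Spec_iff (P := @Etale)]
  change (algebraMap k k').Etale
  rw [RingHom.etale_algebraMap]
  haveI : Algebra.FormallyEtale k k' := Algebra.FormallyEtale.of_isSeparable k k'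
  haveI : Algebra.FinitePresentation k k' := by
    haveI : Algebra.FiniteType k k' := inferInstance
    exact Algebra.FinitePresentation.of_finiteType.mp inferInstance
  exact ⟨inferInstance, inferInstance⟩

theorem finite_residueField {X Y : Scheme.{u}} (f : X ⟶ Y) [FormallyUnramified f]
    [LocallyOfFiniteType f] (x : X) :
    letI : Algebra (Y.residueField (f.base x)) (X.residueField x) :=
      (f.residueFieldMap x).hom.toAlgebra
    Module.Finite (Y.residueField (f.base x)) (X.residueField x) := by
  algebraize [(f.stalkMap x).hom]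
  have : IsLocalHom (algebraMap (Y.presheaf.stalk (f x)) (X.presheaf.stalk x)) :=
    inferInstanceAs <| IsLocalHom (f.stalkMap x).hom
  suffices h : Module.Finite
      (IsLocalRing.ResidueField <| Y.presheaf.stalk (f x))
      (IsLocalRing.ResidueField <| X.presheaf.stalk x) by
    convert! h
    refine Module.ext' _ _ fun r m => ?_
    obtain ⟨r, rfl⟩ := IsLocalRing.residue_surjective r
    obtain ⟨m, rfl⟩ := IsLocalRing.residue_surjective m
    rfl
  have : Algebra.EssFiniteType (Y.presheaf.stalk (f x)) (X.presheaf.stalk x) := by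
    rw [← RingHom.essFiniteType_algebraMap, RingHom.algebraMap_toAlgebra]
    exact LocallyOfFiniteType.stalkMap f x
  have : Algebra.FormallyUnramified (Y.presheaf.stalk (f x)) (X.presheaf.stalk x) := by
    rw [← RingHom.formallyUnramified_algebraMap, RingHom.algebraMap_toAlgebra]
    exact FormallyUnramified.stalkMap f x
  infer_instance

theorem etale_specMap_residueFieldMap {X Y : Scheme.{u}} (f : X ⟶ Y) [Etale f] (x : X) :
    Etale (Spec.map (f.residueFieldMap x)) := by
  letI : Algebra (Y.residueField (f.base x)) (X.residueField x) :=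
    (f.residueFieldMap x).hom.toAlgebra
  haveI : Module.Finite (Y.residueField (f.base x)) (X.residueField x) := finite_residueField f x
  haveI : Algebra.IsSeparable (Y.residueField (f.base x)) (X.residueField x) := inferInstance
  exact etale_specMap_of_finite_separable (Y.residueField (f.base x)) (X.residueField x)


/-- Consider a commutative square of schemes with horizontal maps `h' : U' → V'`, `h : U → V` and étale
vertical maps `a : U' → U`, `b : V' → V`, and let `v' ∈ V'` with image `v = b(v')`. Then the induced
morphism of fibres `U'_{v'} → U_v` is étale. (The morphism of fibres is characterised by its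
compatibility with `a` and with `Spec κ(v') → Spec κ(v)`.) -/
theorem result {U U' V V' : Scheme.{u}} (h : U ⟶ V) (h' : U' ⟶ V') (a : U' ⟶ U)
    (b : V' ⟶ V) [Etale a] [Etale b] (comm : h' ≫ b = a ≫ h) (v' : V')
    (φ : h'.fiber v' ⟶ h.fiber (b v')) (hφ1 : φ ≫ h.fiberι (b v') = h'.fiberι v' ≫ a)
    (hφ2 : φ ≫ h.fiberToSpecResidueField (b v') = h'.fiberToSpecResidueField v' ≫ Spec.map (b.residueFieldMap v')) :
    Etale φ := by
  let fst : pullback h b ⟶ U := pullback.fst h b
  let snd : pullback h b ⟶ V' := pullback.snd h b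
  have hP : IsPullback fst snd h b := IsPullback.of_hasPullback h b
  let c : U' ⟶ pullback h b := pullback.lift a h' comm.symm
  have hc1 : c ≫ fst = a := pullback.lift_fst _ _ _
  have hc2 : c ≫ snd = h' := pullback.lift_snd _ _ _
  haveI : Etale fst := inferInstance
  haveI : Etale (c ≫ fst) := by rw [hc1]; infer_instance
  haveI : Etale c := Etale.of_comp c fst
  let ρ' : Spec (V'.residueField v') ⟶ V' := V'.fromSpecResidueField v'
  -- first map: fibre of h' → fibre of snd
  let ψ₁ : h'.fiber v' ⟶ snd.fiber v' :=
    pullback.map h' ρ' snd ρ' c (𝟙 _) (𝟙 _) (by rw [Category.comp_id, hc2]) (by simp)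
  have hψ₁a : ψ₁ ≫ snd.fiberι v' = h'.fiberι v' ≫ c := pullback.lift_fst _ _ _
  have hψ₁b : ψ₁ ≫ snd.fiberToSpecResidueField v' = h'.fiberToSpecResidueField v' := by
    have := pullback.lift_snd (f := snd) (g := ρ') (pullback.fst h' ρ' ≫ c) (pullback.snd h' ρ' ≫ 𝟙 _)
      (by rw [Category.assoc, hc2, Category.assoc, Category.id_comp]; exact pullback.condition)
    exact this.trans (Category.comp_id _)
  have hout : IsPullback (ψ₁ ≫ snd.fiberToSpecResidueField v') (h'.fiberι v') ρ' (c ≫ snd) := by
    rw [hψ₁b, hc2]
    exact (IsPullback.of_hasPullback h' ρ').flip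
  have hsq₁ : IsPullback ψ₁ (h'.fiberι v') (snd.fiberι v') c :=
    IsPullback.of_right hout hψ₁a (IsPullback.of_hasPullback snd ρ').flip
  haveI : Etale ψ₁ := MorphismProperty.of_isPullback (P := @Etale) hsq₁.flip inferInstance
  -- second map: fibre of snd → fibre of h
  let ψ₂ : snd.fiber v' ⟶ h.fiber (b v') :=
    pullback.map _ _ _ _ fst (Spec.map (b.residueFieldMap v')) b hP.w.symm (by simp)
  have hsq₂ : IsPullback ψ₂ (snd.fiberToSpecResidueField v') (h.fiberToSpecResidueField (b v'))
      (Spec.map (b.residueFieldMap v')) :=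
    isPullback_fiberToSpecResidueField_of_isPullback hP v'
  haveI : Etale (Spec.map (b.residueFieldMap v')) := etale_specMap_residueFieldMap b v'
  haveI : Etale ψ₂ := MorphismProperty.of_isPullback (P := @Etale) hsq₂.flip inferInstance
  have hψ₂a : ψ₂ ≫ h.fiberι (b v') = snd.fiberι v' ≫ fst := pullback.lift_fst _ _ _
  have hφ : φ = ψ₁ ≫ ψ₂ := by
    apply pullback.hom_ext
    · show φ ≫ h.fiberι (b v') = (ψ₁ ≫ ψ₂) ≫ h.fiberι (b v')
      rw [hφ1, Category.assoc, hψ₂a, ← Category.assoc, hψ₁a, Category.assoc, hc1]
    · show φ ≫ h.fiberToSpecResidueField (b v') = (ψ₁ ≫ ψ₂) ≫ h.fiberToSpecResidueField (b v')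
      rw [hφ2, Category.assoc, hsq₂.w, ← Category.assoc, hψ₁b]
  rw [hφ]
  infer_instance

end Groth.Agent.S7406
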