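import Groth.Statements.S7407
import Mathlib

set_option autoImplicit false
universe u
open CategoryTheory AlgebraicGeometry
open Desc

namespace Groth.Agent.S7407



theorem trdeg_eq_of_square {K K1 L0 L1 : Type u} [Field K] [Field K1] [Field L0] [Field L1]
    (α : K →+* K1) (β : K1 →+* L1) (γ : K →+* L0) (δ : L0 →+* L1)
    (hcomm : β.comp α = δ.comp γ)
    (hβ : @Algebra.IsAlgebraic K1 L1 _ _ β.toAlgebra) (hγ : @Algebra.IsAlgebraic K L0 _ _ γ.toAlgebra) :
    @Algebra.trdeg K K1 _ _ α.toAlgebra = @Algebra.trdeg L0 L1 _ _ δ.toAlgebra := by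
  let _ := α.toAlgebra; let _ := β.toAlgebra; let _ := γ.toAlgebra; let _ := δ.toAlgebra
  let _ : Algebra K L1 := (β.comp α).toAlgebra
  have : IsScalarTower K K1 L1 := IsScalarTower.of_algebraMap_eq (fun x => rfl)
  have : IsScalarTower K L0 L1 := IsScalarTower.of_algebraMap_eq (fun x => by
    show (β.comp α) x = δ (γ x); rw [hcomm]; rfl)
  have h1 := trdeg_add_eq (R := K) (S := K1) (A := L1)
  have h2 := trdeg_add_eq (R := K) (S := L0) (A := L1)
  rw [trdeg_eq_zero (R := K1) (A := L1), add_zero] at h1
  rw [trdeg_eq_zero (R := K) (A := L0), zero_add] at h2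
  exact h1.trans h2.symm

theorem isAlgebraic_comp_of_bijective {K K' L : Type u} [Field K] [Field K'] [Field L]
    (ι : K →+* K') (hι : Function.Bijective ι) (g : K' →+* L)
    (hg : @Algebra.IsAlgebraic K' L _ _ g.toAlgebra) :
    @Algebra.IsAlgebraic K L _ _ (g.comp ι).toAlgebra := by
  let _ := ι.toAlgebra; let _ := g.toAlgebra
  let _ : Algebra K L := (g.comp ι).toAlgebra
  have : IsScalarTower K K' L := IsScalarTower.of_algebraMap_eq (fun x => rfl)
  have : Algebra.IsIntegral K K' := Algebra.isIntegral_of_surjective hι.2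
  have : Algebra.IsAlgebraic K K' := inferInstance
  exact Algebra.IsAlgebraic.trans K K' L

theorem isAlgebraic_residueFieldMap_of_etale {X Y : Scheme.{u}} (f : X ⟶ Y) [Etale f] (x : X) :
    @Algebra.IsAlgebraic (Y.residueField (f x)) (X.residueField x) _ _
      (f.residueFieldMap x).hom.toAlgebra := by
  let _ : Algebra (Y.residueField (f x)) (X.residueField x) := (f.residueFieldMap x).hom.toAlgebra
  have : Algebra.IsSeparable (Y.residueField (f x)) (X.residueField x) := inferInstance
  infer_instance

theorem main {U U' V V' : Scheme.{u}} (h : U ⟶ V) (h' : U' ⟶ V') (a : U' ⟶ U)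
    (b : V' ⟶ V) [Etale a] [Etale b] (comm : h' ≫ b = a ≫ h) (u' : U') :
    @Algebra.trdeg (V.residueField (h (a u'))) (U.residueField (a u')) _ _ (h.residueFieldMap (a u')).hom.toAlgebra =
      @Algebra.trdeg (V'.residueField (h' u')) (U'.residueField u') _ _ (h'.residueFieldMap u').hom.toAlgebra := by
  have e' : (h' ≫ b) u' = (a ≫ h) u' := by rw [comm]
  have hres := Scheme.Hom.residueFieldMap_congr comm u'
  rw [Scheme.residueFieldMap_comp, Scheme.residueFieldMap_comp] at hres
  refine trdeg_eq_of_square (h.residueFieldMap (a u')).hom (a.residueFieldMap u').hom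
    ((V.residueFieldCongr e'.symm).hom ≫ b.residueFieldMap (h' u')).hom (h'.residueFieldMap u').hom
    ?_ (isAlgebraic_residueFieldMap_of_etale a u') ?_
  · have hc := congrArg (fun t => (V.residueFieldCongr e'.symm).hom ≫ t) hres
    simp only [Scheme.residueFieldCongr_trans_hom_assoc, Scheme.residueFieldCongr_refl,
      Iso.refl_hom, Category.id_comp] at hc
    have hc' := congrArg CommRingCat.Hom.hom hc
    refine RingHom.ext fun x => ?_
    exact (DFunLike.congr_fun hc' x).symm
  · rw [CommRingCat.hom_comp]
    refine isAlgebraic_comp_of_bijective _ ?_ _ (isAlgebraic_residueFieldMap_of_etale b (h' u'))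
    exact ((V.residueFieldCongr e'.symm).commRingCatIsoToRingEquiv).bijective



/-- The transcendence degree of the residue field extension `κ(x)/κ(s)` of a morphism of germs `(X, x) →
(S, s)` is étale local on the source-and-target: for a commutative square with horizontal maps `h' :
U' → V'`, `h : U → V`, étale vertical maps `a : U' → U`, `b : V' → V` and `u' ∈ U'` with `u =
a(u')`, the transcendence degree of `κ(u)` over `κ(h(u))` equals that of `κ(u')` over `κ(h'(u'))`. -/
theorem result {U U' V V' : Scheme.{u}} (h : U ⟶ V) (h' : U' ⟶ V') (a : U' ⟶ U)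
    (b : V' ⟶ V) [Etale a] [Etale b] (comm : h' ≫ b = a ≫ h) (u' : U') :
    @Algebra.trdeg (V.residueField (h (a u'))) (U.residueField (a u')) _ _ (h.residueFieldMap (a u')).hom.toAlgebra =
      @Algebra.trdeg (V'.residueField (h' u')) (U'.residueField u') _ _ (h'.residueFieldMap u').hom.toAlgebra := by
  exact main h h' a b comm u'

end Groth.Agent.S7407
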