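import Groth.Statements.S7411
import Mathlib
import Groth.Agent.Lib.Helper11.FibreVanQC3
import Groth.Agent.Lib.Helper27.FibreVan2
import Groth.Agent.Lib.Helper21.ModOpenBC2

set_option autoImplicit false
universe u
open Lim

namespace Groth.Agent.S7411

open AlgebraicGeometry CategoryTheory in
/-- Let `f : X → Y` be proper and `y ∈ Y` a point whose fibre `X_y` has dimension at most `d`. Then for
every quasi-coherent `O_X`-module `F` and every `i > d` the stalk `(R^i f_* F)_y` vanishes. (The
published statement assumes that the fibre has dimension exactly `d`; this row assumes dimension at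
most `d`.) -/
theorem result {X Y : Scheme.{u}} (f : X ⟶ Y) [IsProper f]
    (y : Y) (d : ℕ) (hd : topologicalKrullDim ↥(f.fiber y) ≤ d) (M : X.Modules) [Coh.IsQCoh M] (i : ℕ)
    (hi : d < i) :
    Limits.IsZero (TopCat.Presheaf.stalk ((Coh.RpushAb f i).obj (Coh.toAb M)).obj y) := by
  haveI : M.IsQuasicoherent := ‹Coh.IsQCoh M›
  haveI : HasInjectiveResolutions X.Modules :=
    Groth.Agent.Lib.helper21.ModOpenBC.hasInjectiveResolutions_modules X
  have hG : ((Coh.Rpush f i).obj M).IsQuasicoherent := Groth.Agent.S0030.result f M i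
  let g := Limits.pullback.fst f (Y.fromSpecStalk y)
  have hsq : IsPullback g ((Groth.Agent.Lib.helper27.FibreVan.X₁ f y) ↘
      Spec (CommRingCat.of (Y.presheaf.stalk y))) f (Y.fromSpecStalk y) :=
    IsPullback.of_hasPullback _ _
  obtain ⟨e, -⟩ := Groth.Agent.Lib.helper8.StalkBC.exists_stalk_equiv f M i hG y g hsq
  haveI : ((Scheme.Modules.pullback g).obj M).IsQuasicoherent :=
    Groth.Agent.Lib.helper16.QCohPullback.isQuasicoherent_pullback g M
  have hsub : Subsingleton (Coh.HH (Groth.Agent.Lib.helper27.FibreVan.X₁ f y)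
      ((Scheme.Modules.pullback g).obj M) i) :=
    Groth.Agent.Lib.helper11.FibreVanQC.subsingleton_HH_of_affine
      (Limits.pullback.snd f (Y.fromSpecStalk y)) d
      (Groth.Agent.Lib.helper11.FibreVanQC.fiber_dim_le_local f y d hd) _ i hi
  have h1 : Subsingleton (((Coh.Rpush f i).obj M).presheaf.stalk y) := e.toEquiv.subsingleton
  obtain ⟨φ⟩ := Groth.Agent.S11319.result f M i
  have φ' := (TopCat.Presheaf.stalkFunctor AddCommGrpCat.{u} y).mapIso
    ((sheafToPresheaf _ _).mapIso φ)
  refine Limits.IsZero.of_iso ?_ φ'.symm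
  have h2 : Subsingleton ↑((TopCat.Presheaf.stalkFunctor AddCommGrpCat.{u} y).obj
      ((sheafToPresheaf (Opens.grothendieckTopology ↥Y) AddCommGrpCat.{u}).obj
        (Coh.toAb ((Coh.Rpush f i).obj M)))) := h1
  exact AddCommGrpCat.isZero_of_subsingleton _

end Groth.Agent.S7411
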