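import Groth.Statements.S7413
import Groth.Agent.Lib.Helper22.ZarProjSch
import Groth.Agent.Lib.Helper16.QCohPullback

set_option autoImplicit false
universe u
open CategoryTheory AlgebraicGeometry
open Opposite
open Mor

namespace Groth.Agent.S7413

/-- Let `f : X → Y` be a morphism of schemes and `G` a quasi-coherent, locally projective `O_Y`-module
(projective sections over every affine open). Then `f^* G` is locally projective on `X`. -/
theorem result {X Y : Scheme.{u}} (f : X ⟶ Y) (G : Y.Modules) [Coh.IsQCoh G]
    (hG : ∀ V : Y.Opens, IsAffineOpen V → Module.Projective (Y.ringCatSheaf.obj.obj (op V)) (G.val.obj (op V)))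
    (U : X.Opens) (hU : IsAffineOpen U) :
    Module.Projective (X.ringCatSheaf.obj.obj (op U)) (((Scheme.Modules.pullback f).obj G).val.obj (op U)) := by
  haveI : ((Scheme.Modules.pullback f).obj G).IsQuasicoherent :=
    Groth.Agent.Lib.helper16.QCohPullback.isQuasicoherent_pullback f G
  have key : Module.Projective Γ(X, U) Γ((Scheme.Modules.pullback f).obj G, U) := by
    refine Groth.Agent.Lib.helper22.ZarProjSch.projective_of_local _ hU ?_
    intro x _
    obtain ⟨V, hV, hxV, -⟩ := TopologicalSpace.Opens.isBasis_iff_nbhd.mp Y.isBasis_affineOpens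
      (show f x ∈ (⊤ : Y.Opens) from trivial)
    obtain ⟨W, hW, hxW, hWV⟩ := TopologicalSpace.Opens.isBasis_iff_nbhd.mp X.isBasis_affineOpens
      (show x ∈ f ⁻¹ᵁ V from hxV)
    refine ⟨W, hW, hxW, ?_⟩
    letI := (f.appLE V W hWV).hom.toAlgebra
    have h1 : Module.Projective Γ(Y, V) Γ(G, V) := hG V hV
    have h3 : Module.Projective Γ(X, W) (TensorProduct Γ(Y, V) Γ(X, W) Γ(G, V)) := inferInstance
    exact Module.Projective.of_equiv'
      (Groth.Agent.Lib.helper16.QCohPullback.pullbackSectionsEquiv f G hV hW hWV).symm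
  exact key

end Groth.Agent.S7413
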