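import Groth.Statements.S7414
import Groth.Agent.Lib.Helper24.CplRegIso

set_option autoImplicit false
universe u
open CategoryTheory AlgebraicGeometry
open Mor

namespace Groth.Agent.S7414

/-- A scheme `X` is a G-scheme (every point has an affine open neighbourhood with G-ring coordinate
ring) if and only if `O_X(U)` is a G-ring for every affine open `U ⊆ X`. -/
theorem result (X : Scheme.{u}) :
    (∀ x : X, ∃ U : X.Opens, x ∈ U ∧ IsAffineOpen U ∧ CAlg.IsGRing Γ(X, U)) ↔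
      ∀ U : X.Opens, IsAffineOpen U → CAlg.IsGRing Γ(X, U) := by
  constructor
  · intro H U hU
    -- `X` is locally Noetherian
    choose W hxW hWaff hWG using H
    haveI hLN : IsLocallyNoetherian X := by
      refine isLocallyNoetherian_of_affine_cover (S := fun x : X => (⟨W x, hWaff x⟩ : X.affineOpens))
        ?_ (fun x => (hWG x).1)
      rw [eq_top_iff]
      intro x _
      exact TopologicalSpace.Opens.mem_iSup.mpr ⟨x, hxW x⟩
    haveI hN : IsNoetherianRing Γ(X, U) := IsLocallyNoetherian.component_noetherian ⟨U, hU⟩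
    refine ⟨hN, fun p hp => ?_⟩
    -- the point of `U` corresponding to `p`
    have hxU : hU.fromSpec ⟨p, hp⟩ ∈ U := by
      rw [← SetLike.mem_coe, ← hU.range_fromSpec]
      exact Set.mem_range_self _
    have hloc1 := hU.isLocalization_stalk' ⟨p, hp⟩ hxU
    -- the G-ring neighbourhood
    have hxV := hxW (hU.fromSpec ⟨p, hp⟩)
    have hloc2 := (hWaff (hU.fromSpec ⟨p, hp⟩)).isLocalization_stalk ⟨hU.fromSpec ⟨p, hp⟩, hxV⟩
    haveI hNV : IsNoetherianRing Γ(X, W (hU.fromSpec ⟨p, hp⟩)) := (hWG _).1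
    have hreg := (hWG (hU.fromSpec ⟨p, hp⟩)).2
      ((hWaff (hU.fromSpec ⟨p, hp⟩)).primeIdealOf ⟨hU.fromSpec ⟨p, hp⟩, hxV⟩).asIdeal
    letI a1 : Algebra Γ(X, U) (X.presheaf.stalk (hU.fromSpec ⟨p, hp⟩)) :=
      TopCat.Presheaf.algebra_section_stalk X.presheaf ⟨hU.fromSpec ⟨p, hp⟩, hxU⟩
    letI a2 : Algebra Γ(X, W (hU.fromSpec ⟨p, hp⟩)) (X.presheaf.stalk (hU.fromSpec ⟨p, hp⟩)) :=
      TopCat.Presheaf.algebra_section_stalk X.presheaf ⟨hU.fromSpec ⟨p, hp⟩, hxV⟩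
    haveI : IsLocalization.AtPrime (X.presheaf.stalk (hU.fromSpec ⟨p, hp⟩)) p := hloc1
    haveI : IsLocalization.AtPrime (X.presheaf.stalk (hU.fromSpec ⟨p, hp⟩))
        ((hWaff (hU.fromSpec ⟨p, hp⟩)).primeIdealOf ⟨hU.fromSpec ⟨p, hp⟩, hxV⟩).asIdeal := hloc2
    let e1 : Localization.AtPrime p ≃ₐ[Γ(X, U)] X.presheaf.stalk (hU.fromSpec ⟨p, hp⟩) :=
      IsLocalization.algEquiv p.primeCompl _ _
    let e2 : Localization.AtPrime
        ((hWaff (hU.fromSpec ⟨p, hp⟩)).primeIdealOf ⟨hU.fromSpec ⟨p, hp⟩, hxV⟩).asIdeal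
          ≃ₐ[Γ(X, W (hU.fromSpec ⟨p, hp⟩))] X.presheaf.stalk (hU.fromSpec ⟨p, hp⟩) :=
      IsLocalization.algEquiv
        ((hWaff (hU.fromSpec ⟨p, hp⟩)).primeIdealOf ⟨hU.fromSpec ⟨p, hp⟩, hxV⟩).asIdeal.primeCompl
        _ _
    exact Groth.Agent.Lib.Helper24.CplRegIso.isRegularHom_cpl_of_ringEquiv
      (e2.toRingEquiv.trans e1.toRingEquiv.symm) hreg
  · intro H x
    obtain ⟨U, hU, hxU, -⟩ := TopologicalSpace.Opens.isBasis_iff_nbhd.mp X.isBasis_affineOpens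
      (U := ⊤) (x := x) trivial
    exact ⟨U, hxU, hU, H U hU⟩

end Groth.Agent.S7414
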