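import Groth.Statements.S7415
import Mathlib.AlgebraicGeometry.SpreadingOut
import Mathlib.AlgebraicGeometry.Properties

set_option autoImplicit false
universe u
open CategoryTheory AlgebraicGeometry
open Mor

namespace Groth.Agent.S7415

/-- Let `X` be a reduced scheme with finitely many irreducible components and `x ∈ X`. Then `x` has an
affine open neighbourhood `U` such that `O_X(U) → O_{X,x}` is injective. -/
theorem result (X : Scheme.{u}) [AlgebraicGeometry.IsReduced X]
    (hirr : (irreducibleComponents (X : Type u)).Finite) (x : X) : X.IsGermInjectiveAt x := by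
  -- the union of the irreducible components not containing `x`
  let S : Set (Set X) := {Z ∈ irreducibleComponents X | x ∉ Z}
  have hSfin : S.Finite := hirr.subset (fun Z hZ => hZ.1)
  have hC : IsClosed (⋃₀ S) := by
    rw [Set.sUnion_eq_biUnion]
    exact hSfin.isClosed_biUnion (fun Z hZ => isClosed_of_mem_irreducibleComponents Z hZ.1)
  have hxC : x ∈ (⋃₀ S)ᶜ := by
    rintro ⟨Z, hZ, hxZ⟩
    exact hZ.2 hxZ
  obtain ⟨_, ⟨U, hU, rfl⟩, hxU, hUC⟩ :=
    X.isBasis_affineOpens.exists_subset_of_mem_open hxC hC.isOpen_compl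
  refine ⟨⟨U, hxU, hU, ?_⟩⟩
  rw [injective_iff_map_eq_zero]
  intro s hs
  obtain ⟨V, hxV, iVU, iVU', hsV⟩ := X.presheaf.germ_eq x hxU hxU s 0 (by rw [hs, map_zero])
  rw [map_zero] at hsV
  rw [← basicOpen_eq_bot_iff]
  rw [eq_bot_iff]
  intro y hy
  have hyU : y ∈ U := X.basicOpen_le s hy
  -- an irreducible component containing `y`
  have hZ := irreducibleComponent_mem_irreducibleComponents y
  have hyZ : y ∈ irreducibleComponent y := mem_irreducibleComponent
  have hxZ : x ∈ irreducibleComponent y := by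
    by_contra hx
    exact hUC hyU ⟨_, ⟨hZ, hx⟩, hyZ⟩
  have hirrZ : IsPreirreducible (irreducibleComponent y) := isIrreducible_irreducibleComponent.2
  obtain ⟨z, hzZ, hzV, hzs⟩ := hirrZ V (X.basicOpen s) V.2 (X.basicOpen s).2
    ⟨x, hxZ, hxV⟩ ⟨y, hyZ, hy⟩
  -- but `s` vanishes on `V`
  have : X.basicOpen (X.presheaf.map iVU.op s) = ⊥ := by
    rw [hsV]; simp
  rw [Scheme.basicOpen_res] at this
  have hz : z ∈ V ⊓ X.basicOpen s := ⟨hzV, hzs⟩
  rw [this] at hz
  exact hz

end Groth.Agent.S7415
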