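import Groth.Statements.S7416
import Mathlib.AlgebraicGeometry.AffineScheme

set_option autoImplicit false
universe u
open CategoryTheory AlgebraicGeometry
open Mor

namespace Groth.Agent.S7416

theorem basicOpen_eq_of_eq {U : Scheme.{u}} [IsAffine U] (f₀ : Γ(U, ⊤)) (O : U.Opens)
    (e : O = U.basicOpen f₀) (t : Γ(U, O)) : ∃ f : Γ(U, ⊤), U.basicOpen t = U.basicOpen f := by
  subst e
  obtain ⟨f, hf⟩ := (isAffineOpen_top U).basicOpen_basicOpen_is_basicOpen f₀ t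
  exact ⟨f, hf.symm⟩

theorem key {U W : Scheme.{u}} [IsAffine U] (i : W ⟶ U) [IsOpenImmersion i] (f₀ : Γ(U, ⊤))
    (W₁ : W.Opens) (h : i ''ᵁ W₁ = U.basicOpen f₀) (s : Γ(W, W₁)) :
    ∃ f : Γ(U, ⊤), i ''ᵁ (W.basicOpen s) = U.basicOpen f := by
  rw [Scheme.image_basicOpen]
  exact basicOpen_eq_of_eq f₀ _ h _

theorem exists_affine_nhd {U W : Scheme.{u}} [IsAffine U] (i : W ⟶ U) [IsOpenImmersion i] (w : W) :
    ∃ (f₀ : Γ(U, ⊤)) (W₁ : W.Opens), w ∈ W₁ ∧ IsAffineOpen W₁ ∧ i ''ᵁ W₁ = U.basicOpen f₀ := by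
  obtain ⟨f₀, hle, hmem⟩ := (isAffineOpen_top U).exists_basicOpen_le
    (V := i.opensRange) ⟨i w, ⟨w, rfl⟩⟩ trivial
  refine ⟨f₀, i ⁻¹ᵁ U.basicOpen f₀, hmem, ?_, ?_⟩
  · exact ((isAffineOpen_top U).basicOpen f₀).preimage_of_isOpenImmersion i hle
  · rw [i.image_preimage_eq_opensRange_inf, inf_eq_right.mpr hle]

/-- Let `U`, `V` be affine schemes and `W → U`, `W → V` open immersions. Then every `w ∈ W` has an open
neighbourhood `W' ⊆ W` whose images in `U` and in `V` are standard opens `D(f) ⊆ U`, `D(g) ⊆ V` (in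
particular `W'` is affine). -/
theorem result {U V W : Scheme.{u}} [IsAffine U]
    [IsAffine V] (i : W ⟶ U) (j : W ⟶ V) [IsOpenImmersion i] [IsOpenImmersion j] (w : W) :
    ∃ (W' : W.Opens) (f : Γ(U, ⊤)) (g : Γ(V, ⊤)), w ∈ W' ∧ i ''ᵁ W' = U.basicOpen f ∧ j ''ᵁ W' = V.basicOpen g := by
  obtain ⟨f₀, W₁, hw₁, hW₁, h₁⟩ := exists_affine_nhd i w
  obtain ⟨g₀, W₂, hw₂, hW₂, h₂⟩ := exists_affine_nhd j w
  obtain ⟨s, t, hst, hws⟩ := exists_basicOpen_le_affine_inter hW₁ hW₂ w ⟨hw₁, hw₂⟩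
  obtain ⟨f, hf⟩ := key i f₀ W₁ h₁ s
  obtain ⟨g, hg⟩ := key j g₀ W₂ h₂ t
  exact ⟨W.basicOpen s, f, g, hws, hf, hst ▸ hg⟩

end Groth.Agent.S7416
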