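import Groth.Statements.S7433
import Groth.Agent.Lib.Helper1.FibreDeg

set_option autoImplicit false
universe u
open CategoryTheory AlgebraicGeometry
open BddFib

namespace Groth.Agent.S7433

open Limits in
/-- The base change of a fibre along a field-valued point. -/
theorem finiteOfDegLE_pullback_snd {X Y : Scheme.{u}} (f : X ⟶ Y) (n : ℕ)
    (hf : BddFib.FibreDegLE f n) (k : Type u) [Field k] (g : Spec (CommRingCat.of k) ⟶ Y) :
    BddFib.FiniteOfDegLE (CommRingCat.of k) (Limits.pullback.snd f g) n := by
  obtain ⟨y, ψ, rfl⟩ : ∃ (y : Y) (ψ : Y.residueField y ⟶ CommRingCat.of k),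
      Spec.map ψ ≫ Y.fromSpecResidueField y = g :=
    ⟨_, _, Scheme.descResidueField_stalkClosedPointTo_fromSpecResidueField k Y g⟩
  set g := Spec.map ψ ≫ Y.fromSpecResidueField y with hg
  let e : pullback f g ⟶ f.fiber y :=
    pullback.lift (pullback.fst f g) (pullback.snd f g ≫ Spec.map ψ)
      (by rw [pullback.condition, hg, Category.assoc])
  have he1 : e ≫ f.fiberι y = pullback.fst f g := pullback.lift_fst _ _ _
  have he2 : e ≫ f.fiberToSpecResidueField y = pullback.snd f g ≫ Spec.map ψ :=
    pullback.lift_snd _ _ _
  have H : IsPullback e (pullback.snd f g) (f.fiberToSpecResidueField y) (Spec.map ψ) := by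
    refine IsPullback.of_right ?_ he2 (IsPullback.of_hasPullback f (Y.fromSpecResidueField y))
    have := IsPullback.of_hasPullback f g
    rw [← he1] at this
    exact this
  refine Groth.Agent.Lib.helper1.finiteOfDegLE_of_isPullback ψ _ _ e H n ?_ (hf y)
  exact @Module.Free.of_divisionRing (Y.residueField y) Γ(f.fiber y, ⊤) _ _
    (BddFib.secAlgebra (Y.residueField y) (f.fiberToSpecResidueField y)).toModule

/-- Let `f : X → Y` be a morphism of schemes and `n ≥ 0`. Then `n` bounds the degrees of the fibres of
`f` if and only if for every field `k` and every morphism `Spec k → Y` the base change `X_k = Spec k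
×_Y X` is finite over `k` of degree at most `n`. -/
theorem result {X Y : Scheme.{u}} (f : X ⟶ Y) (n : ℕ) :
    BddFib.FibreDegLE f n ↔ ∀ (k : Type u) [Field k] (g : Spec (CommRingCat.of k) ⟶ Y),
      BddFib.FiniteOfDegLE (CommRingCat.of k) (Limits.pullback.snd f g) n := by
  constructor
  · intro hf k _ g
    exact finiteOfDegLE_pullback_snd f n hf k g
  · intro h y
    exact h (Y.residueField y) (Y.fromSpecResidueField y)

end Groth.Agent.S7433
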