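import Groth.Statements.S7434
import Groth.Agent.S7433

set_option autoImplicit false
universe u
open CategoryTheory AlgebraicGeometry
open BddFib

namespace Groth.Agent.S7434

theorem card_primeSpectrum_le_finrank (F R : Type*) [Field F] [CommRing R] [Algebra F R]
    [Module.Finite F R] :
    Finite (PrimeSpectrum R) ∧ Nat.card (PrimeSpectrum R) ≤ Module.finrank F R := by
  have hart : IsArtinianRing R := IsArtinianRing.of_finite F R
  have hfin : Finite (PrimeSpectrum R) := inferInstance
  refine ⟨hfin, ?_⟩
  have := Fintype.ofFinite (PrimeSpectrum R)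
  rw [IsArtinianRing.finrank_eq_sum_primeSpectrum R F, Nat.card_eq_fintype_card,
    ← Finset.card_univ, Finset.card_eq_sum_ones]
  refine Finset.sum_le_sum fun p _ => ?_
  have : Module.Finite F (Localization.AtPrime p.asIdeal) :=
    Module.Finite.of_surjective (Algebra.algHom F R (Localization.AtPrime p.asIdeal)).toLinearMap
      (IsArtinianRing.localization_surjective p.asIdeal.primeCompl (Localization.AtPrime p.asIdeal))
  exact Module.finrank_pos

/-- When every fibre of `f : X → Y` has degree at most `n`, then for every field `k` and `Spec k → Y`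
the scheme `X_k = Spec k ×_Y X` has at most `n` points. (The published statement also bounds the sum
of the residue degrees `[κ(x_i) : k]` by `n`; that sharper bound is a separate row, and this row
states only the count of points.) -/
theorem result {X Y : Scheme.{u}} (f : X ⟶ Y) (n : ℕ) (hf : BddFib.FibreDegLE f n)
    (k : Type u) [Field k] (g : Spec (CommRingCat.of k) ⟶ Y) :
    Finite ↥(Limits.pullback f g) ∧ Nat.card ↥(Limits.pullback f g) ≤ n := by
  obtain ⟨haff, hfin, hrank⟩ := Groth.Agent.S7433.finiteOfDegLE_pullback_snd f n hf k g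
  let _ : Algebra k Γ(Limits.pullback f g, ⊤) :=
    BddFib.secAlgebra (CommRingCat.of k) (Limits.pullback.snd f g)
  have hfin' : Module.Finite k Γ(Limits.pullback f g, ⊤) := hfin
  obtain ⟨h1, h2⟩ := card_primeSpectrum_le_finrank k Γ(Limits.pullback f g, ⊤)
  let e : ↥(Limits.pullback f g) ≃ PrimeSpectrum Γ(Limits.pullback f g, ⊤) :=
    (Scheme.homeoOfIso (Limits.pullback f g).isoSpec).toEquiv
  refine ⟨Finite.of_equiv _ e.symm, ?_⟩
  rw [Nat.card_congr e]
  exact h2.trans hrank

end Groth.Agent.S7434
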