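import Groth.Statements.S7435
import Mathlib

set_option autoImplicit false
universe u
open CategoryTheory AlgebraicGeometry
open BddFib

namespace Groth.Agent.S7435

/-- For a finite flat morphism to the spectrum of a field, the global sections are finite and the rank
is the dimension of the global sections. -/
theorem finrank_eq_of_field (K : Type u) [Field K]
    {T : Scheme.{u}} (p : T ⟶ Spec (CommRingCat.of K)) [IsFinite p] [Flat p]
    (x : Spec (CommRingCat.of K)) :
    letI : Algebra K Γ(T, ⊤) := BddFib.secAlgebra (CommRingCat.of K) p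
    Module.Finite K Γ(T, ⊤) ∧ p.finrank x = Module.finrank K Γ(T, ⊤) := by
  have haff : IsAffine T := isAffine_of_isAffineHom p
  let ψ : CommRingCat.of K ⟶ Γ(T, ⊤) := (Scheme.ΓSpecIso (CommRingCat.of K)).inv ≫ p.appTop
  let _ : Algebra K Γ(T, ⊤) := ψ.hom.toAlgebra
  have hp : p = T.isoSpec.hom ≫ Spec.map ψ := by
    simp only [ψ, Spec.map_comp, ← Category.assoc, Scheme.isoSpec_hom_naturality]
    simp
  have hψfin : ψ.hom.Finite := by
    have h1 : p.appTop.hom.Finite := p.finite_appTop
    have h2 : (Scheme.ΓSpecIso (CommRingCat.of K)).inv.hom.Finite :=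
      .of_surjective _ (ConcreteCategory.bijective_of_isIso _).2
    exact h1.comp h2
  have hψflat : ψ.hom.Flat := by
    have h1 : p.appTop.hom.Flat := p.flat_appTop
    have h2 : (Scheme.ΓSpecIso (CommRingCat.of K)).inv.hom.Flat :=
      .of_bijective (ConcreteCategory.bijective_of_isIso _)
    exact h2.comp h1
  have hfin : Module.Finite K Γ(T, ⊤) := hψfin
  refine ⟨hfin, ?_⟩
  have hfS : IsFinite (Spec.map ψ) := by rwa [IsFinite.SpecMap_iff]
  have hlS : Flat (Spec.map ψ) := by rwa [Flat.SpecMap_iff]
  have e1 : p.finrank x = ψ.hom.finrank x := by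
    conv_lhs => rw [hp]
    rw [Scheme.Hom.finrank_comp_left_of_isIso, Scheme.Hom.finrank_SpecMap_eq_finrank hψfin hψflat]
  rw [e1]
  have key : ∀ x' : PrimeSpectrum K, Module.rankAtStalk (R := K) Γ(T, ⊤) x' =
      Module.finrank K Γ(T, ⊤) := by
    intro x'
    rw [Module.rankAtStalk_eq_finrank_of_free]
    simp
  exact key x

/-- If `f` is finite locally free of degree `d`, then `d` bounds the degrees of the fibres of `f`. -/
theorem result {X Y : Scheme.{u}} (f : X ⟶ Y) (d : ℕ) (hf : Mor2.IsFinLocFreeOfDeg d f) :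
    BddFib.FibreDegLE f d := by
  obtain ⟨⟨hfin, hflat, hfp⟩, hdeg⟩ := hf
  intro y
  have h1 : IsFinite (f.fiberToSpecResidueField y) :=
    inferInstanceAs (IsFinite (Limits.pullback.snd f (Y.fromSpecResidueField y)))
  have h2 : Flat (f.fiberToSpecResidueField y) :=
    inferInstanceAs (Flat (Limits.pullback.snd f (Y.fromSpecResidueField y)))
  have haff : IsAffine (f.fiber y) := inferInstance
  obtain ⟨h3, h4⟩ := finrank_eq_of_field (Y.residueField y) (f.fiberToSpecResidueField y)
    (IsLocalRing.closedPoint _)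
  refine ⟨haff, h3, ?_⟩
  have h5 : (f.fiberToSpecResidueField y).finrank (IsLocalRing.closedPoint _) = f.finrank y := by
    have := Scheme.Hom.finrank_pullback_snd f (Y.fromSpecResidueField y)
      (IsLocalRing.closedPoint _)
    rw [Scheme.fromSpecResidueField_apply] at this
    exact this
  rw [h5, hdeg y] at h4
  exact h4.symm.le

end Groth.Agent.S7435
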