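import Groth.Statements.S7446
import Groth.Agent.S7433
import Mathlib

set_option autoImplicit false
universe u
open CategoryTheory AlgebraicGeometry
open BddFib

namespace Groth.Agent.S7446



/-- pointwise bound: the residue degree at `x` is at most the `k`-dimension of the localization at the
prime of `x` -/
theorem residueDegree_le {k : Type u} [Field k] {T : Scheme.{u}} [IsAffine T]
    (p : T ⟶ Spec (CommRingCat.of k))
    (hfin : @Module.Finite k Γ(T, ⊤) _ _ (BddFib.secAlgebra (CommRingCat.of k) p).toModule) (x : T) :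
    letI : Algebra k Γ(T, ⊤) := BddFib.secAlgebra (CommRingCat.of k) p
    p.residueDegree x ≤ Module.finrank k
      (Localization.AtPrime ((isAffineOpen_top T).primeIdealOf ⟨x, trivial⟩).asIdeal) := by
  letI : Algebra k Γ(T, ⊤) := BddFib.secAlgebra (CommRingCat.of k) p
  haveI : Module.Finite k Γ(T, ⊤) := hfin
  haveI : IsArtinianRing Γ(T, ⊤) := IsArtinianRing.of_finite k _
  let hT : IsAffineOpen (⊤ : T.Opens) := isAffineOpen_top T
  let R := Γ(T, ⊤)
  let S := T.presheaf.stalk x
  let L := T.residueField x
  let K := (Spec (CommRingCat.of k)).residueField (p x)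
  letI aRS : Algebra R S := T.presheaf.algebra_section_stalk (U := (⊤ : T.Opens)) ⟨x, trivial⟩
  haveI hloc : IsLocalization.AtPrime S (hT.primeIdealOf ⟨x, trivial⟩).asIdeal :=
    hT.isLocalization_stalk ⟨x, trivial⟩
  letI akS : Algebra k S := ((algebraMap R S).comp (algebraMap k R)).toAlgebra
  haveI : IsScalarTower k R S := .of_algebraMap_eq' rfl
  letI aSL : Algebra S L := (T.residue x).hom.toAlgebra
  letI akL : Algebra k L := ((algebraMap S L).comp (algebraMap k S)).toAlgebra
  haveI : IsScalarTower k S L := .of_algebraMap_eq' rfl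
  letI aKL : Algebra K L := (p.residueFieldMap x).hom.toAlgebra
  letI akK : Algebra k K :=
    (((Spec (CommRingCat.of k)).Γevaluation (p x)).hom.comp
      (Scheme.ΓSpecIso (CommRingCat.of k)).inv.hom).toAlgebra
  haveI : IsScalarTower k K L := by
    refine .of_algebraMap_eq' ?_
    have h := Scheme.Γevaluation_naturality p x
    have h2 : (Scheme.ΓSpecIso (CommRingCat.of k)).inv ≫
        (Spec (CommRingCat.of k)).Γevaluation (p x) ≫ p.residueFieldMap x =
        (Scheme.ΓSpecIso (CommRingCat.of k)).inv ≫ p.appTop ≫ T.Γevaluation x := by rw [h]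
    exact congrArg CommRingCat.Hom.hom h2.symm
  -- surjectivity of R → S
  have hsurjRS : Function.Surjective (algebraMap R S) :=
    IsArtinianRing.localization_surjective
      (hT.primeIdealOf ⟨x, trivial⟩).asIdeal.primeCompl S
  haveI : Module.Finite k S :=
    Module.Finite.of_surjective (Algebra.algHom k R S).toLinearMap hsurjRS
  have hsurjSL : Function.Surjective (algebraMap S L) := IsLocalRing.residue_surjective
  haveI : Module.Finite k L :=
    Module.Finite.of_surjective (Algebra.algHom k S L).toLinearMap hsurjSL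
  have h1 : p.residueDegree x ≤ Module.finrank k L :=
    Module.finrank_top_le_finrank_of_isScalarTower k K L
  have h2 : Module.finrank k L ≤ Module.finrank k S :=
    LinearMap.finrank_le_finrank_of_surjective (f := (Algebra.algHom k S L).toLinearMap) hsurjSL
  have h3 : Module.finrank k S = Module.finrank k
      (Localization.AtPrime (hT.primeIdealOf ⟨x, trivial⟩).asIdeal) :=
    ((IsLocalization.algEquiv (hT.primeIdealOf ⟨x, trivial⟩).asIdeal.primeCompl S
      (Localization.AtPrime (hT.primeIdealOf ⟨x, trivial⟩).asIdeal)).restrictScalars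
        k).toLinearEquiv.finrank_eq
  exact h1.trans (h2.trans h3.le)


theorem result' {X Y : Scheme.{u}} (f : X ⟶ Y) (n : ℕ) (hf : BddFib.FibreDegLE f n)
    (k : Type u) [Field k] (g : Spec (CommRingCat.of k) ⟶ Y) :
    Finite ↥(Limits.pullback f g) ∧
      ∑ᶠ x : ↥(Limits.pullback f g), (Limits.pullback.snd f g).residueDegree x ≤ n := by
  obtain ⟨haff, hfin, hrank⟩ := Groth.Agent.S7433.finiteOfDegLE_pullback_snd f n hf k g
  haveI := haff
  letI : Algebra k Γ(Limits.pullback f g, ⊤) :=
    BddFib.secAlgebra (CommRingCat.of k) (Limits.pullback.snd f g)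
  haveI hfin' : Module.Finite k Γ(Limits.pullback f g, ⊤) := hfin
  haveI : IsArtinianRing Γ(Limits.pullback f g, ⊤) := IsArtinianRing.of_finite k _
  let hT : IsAffineOpen (⊤ : (Limits.pullback f g).Opens) := isAffineOpen_top _
  let e : ↥(Limits.pullback f g) ≃ PrimeSpectrum Γ(Limits.pullback f g, ⊤) :=
    Equiv.ofBijective (fun x => hT.primeIdealOf ⟨x, trivial⟩) (by
      constructor
      · intro x y hxy
        have h1 := hT.fromSpec_primeIdealOf ⟨x, trivial⟩
        have h2 := hT.fromSpec_primeIdealOf ⟨y, trivial⟩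
        simp only at hxy
        rw [hxy] at h1
        exact h1.symm.trans h2
      · intro y
        refine ⟨hT.fromSpec y, ?_⟩
        apply hT.fromSpec.isOpenEmbedding.injective
        exact hT.fromSpec_primeIdealOf ⟨hT.fromSpec y, trivial⟩)
  haveI : Finite ↥(Limits.pullback f g) := Finite.of_equiv _ e.symm
  refine ⟨inferInstance, ?_⟩
  haveI := Fintype.ofFinite ↥(Limits.pullback f g)
  haveI := Fintype.ofFinite (PrimeSpectrum Γ(Limits.pullback f g, ⊤))
  rw [finsum_eq_sum_of_fintype]
  refine le_trans ?_ hrank
  rw [IsArtinianRing.finrank_eq_sum_primeSpectrum Γ(Limits.pullback f g, ⊤) k,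
    ← Fintype.sum_equiv e (fun x => Module.finrank k
      (Localization.AtPrime (hT.primeIdealOf ⟨x, trivial⟩).asIdeal)) _ (fun x => rfl)]
  exact Finset.sum_le_sum fun x _ => residueDegree_le (Limits.pullback.snd f g) hfin x



/-- When every fibre of `f : X → Y` has degree at most `n`, then for every field `k` and every `Spec k →
Y`, writing `X_k = {x_1, …, x_t}`, one has `Σ_i [κ(x_i) : k] ≤ n`. (Residue degrees are taken along
`X_k → Spec k`; `X_k` is finite, so the sum is a finite sum.) -/
theorem result {X Y : Scheme.{u}} (f : X ⟶ Y) (n : ℕ) (hf : BddFib.FibreDegLE f n)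
    (k : Type u) [Field k] (g : Spec (CommRingCat.of k) ⟶ Y) :
    Finite ↥(Limits.pullback f g) ∧
      ∑ᶠ x : ↥(Limits.pullback f g), (Limits.pullback.snd f g).residueDegree x ≤ n := by
  exact Groth.Agent.S7446.result' f n hf k g

end Groth.Agent.S7446
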