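import Groth.Statements.S7451
import Mathlib

set_option linter.style.haveILetI false
set_option linter.unusedSectionVars false
set_option linter.unusedSimpArgs false

set_option autoImplicit false
universe u
open CategoryTheory AlgebraicGeometry
open Desc

namespace Groth.Agent.S7451

section Core
variable {k : Type u} [Field k] {n : ℕ}

/-- The elementary substitution `x_i ↦ x_i + x_j^d`. -/
noncomputable def phi (i j : Fin n) (d : ℕ) :
    MvPolynomial (Fin n) k →+* MvPolynomial (Fin n) k :=
  (MvPolynomial.aeval (R := k)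
        (Function.update MvPolynomial.X i (MvPolynomial.X i + MvPolynomial.X j ^ d) :
          Fin n → MvPolynomial (Fin n) k)).toRingHom

variable {κ : Type u} [Field κ] (ι : k →+* κ)

/-- evaluation at a `κ`-point. -/
noncomputable def ev (b : Fin n → κ) : MvPolynomial (Fin n) k →+* κ :=
  MvPolynomial.eval₂Hom ι b

lemma ev_comp_phi (b : Fin n → κ) (i j : Fin n) (d : ℕ) :
    (ev ι b).comp (phi i j d) = ev ι (Function.update b i (b i + b j ^ d)) := by
  apply MvPolynomial.ringHom_ext
  · intro a; simp [ev, phi]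
  · intro l
    by_cases h : l = i
    · subst h; simp [ev, phi]
    · simp [ev, phi, Function.update_of_ne h]

/-- the point of affine space defined by a `κ`-point. -/
noncomputable def pt (b : Fin n → κ) : PrimeSpectrum (MvPolynomial (Fin n) k) :=
  PrimeSpectrum.comap (ev ι b) ⟨⊥, Ideal.isPrime_bot⟩

lemma pt_asIdeal (b : Fin n → κ) : (pt ι b).asIdeal = RingHom.ker (ev ι b) := by
  rw [RingHom.ker_eq_comap_bot]; rfl

lemma comap_phi_pt (b : Fin n → κ) (i j : Fin n) (d : ℕ) :
    PrimeSpectrum.comap (phi i j d) (pt ι b) = pt ι (Function.update b i (b i + b j ^ d)) := by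
  unfold pt; rw [← ev_comp_phi]; rfl

lemma mem_iff {Z : Set (PrimeSpectrum (MvPolynomial (Fin n) k))} (hZc : IsClosed Z)
    (b : Fin n → κ) :
    pt ι b ∈ Z ↔ ∀ f ∈ PrimeSpectrum.vanishingIdeal Z, ev ι b f = 0 := by
  conv_lhs => rw [← hZc.closure_eq, ← PrimeSpectrum.zeroLocus_vanishingIdeal_eq_closure]
  rw [PrimeSpectrum.mem_zeroLocus, pt_asIdeal]
  rfl

lemma line {Z : Set (PrimeSpectrum (MvPolynomial (Fin n) k))} (hZc : IsClosed Z)
    (b : Fin n → κ) (i : Fin n)
    (hinf : {c : κ | pt ι (Function.update b i c) ∈ Z}.Infinite) (c : κ) :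
    pt ι (Function.update b i c) ∈ Z := by
  rw [mem_iff ι hZc]; intro f hf
  let g : Polynomial κ := MvPolynomial.eval₂Hom (Polynomial.C.comp ι)
    (Function.update (fun l => Polynomial.C (b l)) i Polynomial.X) f
  have hg : ∀ c, Polynomial.eval c g = ev ι (Function.update b i c) f := by
    intro c
    have : (Polynomial.evalRingHom c).comp (MvPolynomial.eval₂Hom (Polynomial.C.comp ι)
        (Function.update (fun l => Polynomial.C (b l)) i Polynomial.X)) =
        ev ι (Function.update b i c) := by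
      apply MvPolynomial.ringHom_ext
      · intro a; simp [ev]
      · intro l
        by_cases h : l = i
        · subst h; simp [ev]
        · simp [ev, Function.update_of_ne h]
    exact RingHom.congr_fun this f
  have h0 : g = 0 := Polynomial.eq_zero_of_infinite_isRoot g (hinf.mono (fun c hc => by
      rw [Set.mem_ofPred_eq, Polynomial.IsRoot, hg]; exact (mem_iff ι hZc _).1 hc f hf))
  rw [← hg, h0, Polynomial.eval_zero]

lemma fill (hn : 2 ≤ n) (S : Set (Fin n → κ)) (Γ : Set κ)
    (hS : ∀ b ∈ S, ∀ j, b j ∈ Γ → ∀ i, i ≠ j → ∀ c, Function.update b i c ∈ S)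
    (b : Fin n → κ) (hb : b ∈ S) (j : Fin n) (hj : b j ∈ Γ) (t : Fin n → κ)
    (ht : ∀ i, t i ∈ Γ) : t ∈ S := by
  classical
  have h1 : ∀ s : Finset (Fin n), j ∉ s → (fun i => if i ∈ s then t i else b i) ∈ S := by
    intro s
    induction s using Finset.induction_on with
    | empty => intro _; simpa using hb
    | insert a s ha ih =>
      intro hj'
      have hja : j ≠ a := fun h => hj' (h ▸ Finset.mem_insert_self _ _)
      have hjs : j ∉ s := fun h => hj' (Finset.mem_insert_of_mem h)
      have := hS _ (ih hjs) j (by simpa [hjs] using hj) a hja.symm (t a)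
      convert this using 1
      funext i
      by_cases hia : i = a
      · subst hia; simp
      · simp [Function.update_of_ne hia, Finset.mem_insert, hia]
  have h2 := h1 (Finset.univ.erase j) (Finset.notMem_erase j _)
  haveI : Nontrivial (Fin n) := Fin.nontrivial_iff_two_le.2 hn
  obtain ⟨i, hij⟩ := exists_ne j
  have h3 := hS _ h2 i (by simpa [hij] using ht i) j hij.symm (t j)
  convert h3 using 1
  funext l
  by_cases hl : l = j
  · subst hl; simp
  · simp [Function.update_of_ne hl, hl]

lemma false_of_fill (hn : 2 ≤ n) {Z : Set (PrimeSpectrum (MvPolynomial (Fin n) k))}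
    (hZc : IsClosed Z) (hZne : Z ≠ Set.univ) (Γ : Set κ) (hΓ : Γ.Infinite)
    (hS : ∀ b : Fin n → κ, pt ι b ∈ Z → ∀ j, b j ∈ Γ → ∀ i, i ≠ j → ∀ c,
      pt ι (Function.update b i c) ∈ Z)
    (b : Fin n → κ) (hb : pt ι b ∈ Z) (j : Fin n) (hj : b j ∈ Γ) : False := by
  apply hZne
  have hall : ∀ t : Fin n → κ, (∀ i, t i ∈ Γ) → pt ι t ∈ Z := fun t ht =>
    fill hn {b | pt ι b ∈ Z} Γ hS b hb j hj t ht
  have hI : PrimeSpectrum.vanishingIdeal Z = ⊥ := by
    rw [eq_bot_iff]
    intro f hf
    have : MvPolynomial.map ι f = 0 := by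
      apply MvPolynomial.funext_set (fun _ => Γ) (fun _ => hΓ)
      intro t ht
      rw [MvPolynomial.eval_map, map_zero]
      exact (mem_iff ι hZc t).1 (hall t (fun i => ht i (Set.mem_univ i))) f hf
    have h0 : MvPolynomial.map ι f = MvPolynomial.map ι 0 := by rw [this, map_zero]
    exact MvPolynomial.map_injective ι ι.injective h0
  rw [← hZc.closure_eq, ← PrimeSpectrum.zeroLocus_vanishingIdeal_eq_closure, hI]
  simp

theorem core (hn : 2 ≤ n) (Z : Set (PrimeSpectrum (MvPolynomial (Fin n) k))) (hZc : IsClosed Z)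
    (hZne : Z ≠ Set.univ)
    (hinv : ∀ i j : Fin n, i ≠ j → ∀ d : ℕ, ∀ y, PrimeSpectrum.comap (phi i j d) y ∈ Z ↔ y ∈ Z)
    (b : Fin n → κ) (hb : pt ι b ∈ Z) :
    (¬ CharZero κ) ∧ ∀ j, ¬ Function.Injective (fun d : ℕ => b j ^ d) := by
  have hstep : ∀ b : Fin n → κ, pt ι b ∈ Z → ∀ i j : Fin n, i ≠ j → ∀ d : ℕ,
      pt ι (Function.update b i (b i + b j ^ d)) ∈ Z := by
    intro b hb i j hij d
    rw [← comap_phi_pt]
    exact (hinv i j hij d _).2 hb
  haveI : Nontrivial (Fin n) := Fin.nontrivial_iff_two_le.2 hn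
  constructor
  · intro hchar
    obtain ⟨j, -⟩ := exists_ne (⟨0, by omega⟩ : Fin n)
    refine false_of_fill ι hn hZc hZne Set.univ Set.infinite_univ ?_ b hb j (Set.mem_univ _)
    intro b hb j _ i hij c
    apply line ι hZc b i
    have hm : ∀ m : ℕ, pt ι (Function.update b i (b i + m)) ∈ Z := by
      intro m
      induction m with
      | zero => simpa using hb
      | succ m ih =>
        have := hstep _ ih i j hij 0
        simpa [Function.update_idem, add_assoc] using this
    refine Set.Infinite.mono ?_ (Set.infinite_range_of_injective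
      (f := fun m : ℕ => b i + (m : κ)) ?_)
    · rintro _ ⟨m, rfl⟩; exact hm m
    · intro m m' h
      exact Nat.cast_injective (add_left_cancel h)
  · intro j hinj
    let Γ : Set κ := {c | Function.Injective (fun d : ℕ => c ^ d)}
    have hΓ : Γ.Infinite := by
      refine Set.Infinite.mono ?_ (Set.infinite_range_of_injective
        (f := fun m : ℕ => b j ^ (m + 1)) ?_)
      · rintro _ ⟨m, rfl⟩
        intro d d' h
        simp only [← pow_mul] at h
        have := hinj h
        exact Nat.eq_of_mul_eq_mul_left (Nat.succ_pos m) this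
      · intro m m' h
        have := hinj h
        omega
    refine false_of_fill ι hn hZc hZne Γ hΓ ?_ b hb j hinj
    intro b hb j hj i hij c
    apply line ι hZc b i
    refine Set.Infinite.mono ?_ (Set.infinite_range_of_injective
      (f := fun d : ℕ => b i + b j ^ d) ?_)
    · rintro _ ⟨d, rfl⟩; exact hstep b hb i j hij d
    · intro d d' h
      exact hj (add_left_cancel h)

end Core

lemma exists_pow_char_pow_eq {κ : Type*} [Field κ] (p : ℕ) [Fact p.Prime] [CharP κ p] (b : κ)
    (h : ¬ Function.Injective (fun d : ℕ => b ^ d)) : ∃ m : ℕ, 0 < m ∧ b ^ (p ^ m) = b := by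
  have hp : p.Prime := Fact.out
  by_cases hb : b = 0
  · exact ⟨1, one_pos, by simp [hb, hp.ne_zero]⟩
  simp only [Function.Injective, not_forall] at h
  obtain ⟨d, e, hde, hne⟩ := h
  wlog hlt : d < e generalizing d e
  · exact this e d hde.symm (Ne.symm hne) (lt_of_le_of_ne (not_lt.1 hlt) (Ne.symm hne))
  have hr : b ^ (e - d) = 1 := by
    have : b ^ d * b ^ (e - d) = b ^ d * 1 := by
      rw [← pow_add, mul_one, Nat.add_sub_cancel' hlt.le]; exact hde.symm
    exact mul_left_cancel₀ (pow_ne_zero _ hb) this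
  obtain ⟨s, r', hr', hrr⟩ :=
    Nat.exists_eq_pow_mul_and_not_dvd (n := e - d) (by omega) p hp.ne_one
  have h1 : b ^ r' = 1 := by
    have : (b ^ r' - 1) ^ p ^ s = 0 := by
      rw [sub_pow_char_pow, one_pow, ← pow_mul, mul_comm, ← hrr, hr, sub_self]
    exact sub_eq_zero.1 ((pow_eq_zero_iff (pow_ne_zero _ hp.ne_zero)).1 this)
  have hr'pos : 0 < r' := Nat.pos_of_ne_zero (by rintro rfl; simp at hr')
  have hcop : Nat.Coprime p r' := (Nat.Prime.coprime_iff_not_dvd hp).2 hr'
  have hmod := Nat.ModEq.pow_totient hcop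
  have hge : 1 ≤ p ^ Nat.totient r' := Nat.one_le_pow _ _ hp.pos
  have hdvd : r' ∣ p ^ Nat.totient r' - 1 := (Nat.modEq_iff_dvd' hge).1 hmod.symm
  obtain ⟨q, hq⟩ := hdvd
  refine ⟨Nat.totient r', Nat.totient_pos.2 hr'pos, ?_⟩
  have : p ^ Nat.totient r' = 1 + r' * q := by omega
  rw [this, pow_add, pow_one, pow_mul, h1, one_pow, mul_one]

lemma isMaximal_of_coords {k : Type u} [Field k] {n : ℕ} (P : Ideal (MvPolynomial (Fin n) k))
    [P.IsPrime]
    (h : ∀ i, ∃ N : ℕ, 1 < N ∧ (MvPolynomial.X i ^ N - MvPolynomial.X i :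
      MvPolynomial (Fin n) k) ∈ P) : P.IsMaximal := by
  have hint : Algebra.IsIntegral k (MvPolynomial (Fin n) k ⧸ P) := by
    constructor
    intro y
    obtain ⟨f, rfl⟩ := Ideal.Quotient.mk_surjective y
    induction f using MvPolynomial.induction_on with
    | C a => exact isIntegral_algebraMap (x := a)
    | add f g hf hg => rw [map_add]; exact hf.add hg
    | mul_X f i hf =>
      rw [map_mul]; refine hf.mul ?_
      obtain ⟨N, hN, hmem⟩ := h i
      refine ⟨Polynomial.X ^ N - Polynomial.X, ?_, ?_⟩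
      · exact Polynomial.monic_X_pow_sub (by rw [Polynomial.degree_X]; exact_mod_cast hN)
      · rw [Polynomial.eval₂_sub, Polynomial.eval₂_pow, Polynomial.eval₂_X, ← map_pow, ← map_sub]
        exact Ideal.Quotient.eq_zero_iff_mem.2 hmem
  exact Ideal.Quotient.maximal_of_isField _
    (isField_of_isIntegral_of_isField' (Field.toIsField k))

lemma finite_of_forall_isClosed_singleton {α : Type*} [TopologicalSpace α]
    [TopologicalSpace.NoetherianSpace α] [QuasiSober α]
    (Z : Set α) (hZ : IsClosed Z) (h : ∀ x ∈ Z, IsClosed ({x} : Set α)) : Z.Finite := by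
  obtain ⟨S, hSf, hSc, hSi, rfl⟩ :=
    TopologicalSpace.NoetherianSpace.exists_finite_set_isClosed_irreducible hZ
  refine Set.Finite.sUnion hSf ?_
  intro t ht
  obtain ⟨x, hx⟩ := QuasiSober.sober (hSi t ht) (hSc t ht)
  have hxt : x ∈ t := hx.mem
  have hcl := h x ⟨t, ht, hxt⟩
  have : t = {x} := by rw [← hx.def, hcl.closure_eq]
  rw [this]; exact Set.finite_singleton x


/-- Let `k` be a field and `n ≥ 2`. For `i ≠ j` and `d ≥ 0` let `T_{i,j,d}` be the automorphism of
`𝔸^n_k` given by `x_i ↦ x_i + x_j^d` and fixing the other coordinates. Let `W ⊆ 𝔸^n_k` be a nonempty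
open subscheme with `T_{i,j,d}⁻¹(W) = W` for all `i, j, d`. Then either `W = 𝔸^n_k`, or `k` has
prime characteristic `p` and the complement `𝔸^n_k ∖ W` consists of finitely many closed points,
each of whose coordinates `a` in the residue field satisfies `a^(p^m) = a` for some `m ≥ 1`
(equivalently, is algebraic over `𝔽_p`). -/
theorem result (k : Type u) [Field k] (n : ℕ) (hn : 2 ≤ n)
    (W : (Spec (CommRingCat.of (MvPolynomial (Fin n) k))).Opens)
    (hW : (W : Set ↥(Spec (CommRingCat.of (MvPolynomial (Fin n) k)))).Nonempty)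
    (hinv : ∀ (i j : Fin n), i ≠ j → ∀ d : ℕ,
      (Spec.map (CommRingCat.ofHom (MvPolynomial.aeval (R := k)
        (Function.update MvPolynomial.X i (MvPolynomial.X i + MvPolynomial.X j ^ d) :
          Fin n → MvPolynomial (Fin n) k)).toRingHom)) ⁻¹ᵁ W = W) :
    W = ⊤ ∨ ∃ p : ℕ, p.Prime ∧ CharP k p ∧ ((W : Set ↥(Spec (CommRingCat.of (MvPolynomial (Fin n) k))))ᶜ).Finite ∧
      ∀ x : ↥(Spec (CommRingCat.of (MvPolynomial (Fin n) k))),
        x ∉ (W : Set ↥(Spec (CommRingCat.of (MvPolynomial (Fin n) k)))) →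
        IsClosed ({x} : Set ↥(Spec (CommRingCat.of (MvPolynomial (Fin n) k)))) ∧ ∀ i : Fin n, ∃ m : ℕ, 0 < m ∧
          (algebraMap (MvPolynomial (Fin n) k) x.asIdeal.ResidueField (MvPolynomial.X i)) ^ (p ^ m) =
            algebraMap (MvPolynomial (Fin n) k) x.asIdeal.ResidueField (MvPolynomial.X i) := by
  classical
  let Z : Set (PrimeSpectrum (MvPolynomial (Fin n) k)) :=
    (id (W : Set ↥(Spec (CommRingCat.of (MvPolynomial (Fin n) k))))ᶜ :
      Set ↥(Spec (CommRingCat.of (MvPolynomial (Fin n) k))))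
  have hZc : IsClosed Z := W.2.isClosed_compl
  have hZne : Z ≠ Set.univ := by
    obtain ⟨w, hw⟩ := hW
    intro h
    have : w ∈ Z := h ▸ Set.mem_univ w
    exact this hw
  have hinv' : ∀ i j : Fin n, i ≠ j → ∀ d : ℕ, ∀ y,
      PrimeSpectrum.comap (phi i j d) y ∈ Z ↔ y ∈ Z := by
    intro i j hij d y
    have h := hinv i j hij d
    have h2 : y ∈ (Spec.map (CommRingCat.ofHom (MvPolynomial.aeval (R := k)
        (Function.update MvPolynomial.X i (MvPolynomial.X i + MvPolynomial.X j ^ d) :
          Fin n → MvPolynomial (Fin n) k)).toRingHom)) ⁻¹ᵁ W ↔ y ∈ W := by rw [h]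
    exact not_congr h2
  have hcore : ∀ x ∈ Z, (¬ CharZero x.asIdeal.ResidueField) ∧ ∀ j,
      ¬ Function.Injective (fun d : ℕ =>
        (algebraMap (MvPolynomial (Fin n) k) x.asIdeal.ResidueField (MvPolynomial.X j)) ^ d) := by
    intro x hx
    let ι : k →+* x.asIdeal.ResidueField :=
      (algebraMap (MvPolynomial (Fin n) k) x.asIdeal.ResidueField).comp MvPolynomial.C
    let b : Fin n → x.asIdeal.ResidueField :=
      fun i => algebraMap (MvPolynomial (Fin n) k) x.asIdeal.ResidueField (MvPolynomial.X i)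
    have hev : ev ι b = algebraMap (MvPolynomial (Fin n) k) x.asIdeal.ResidueField := by
      apply MvPolynomial.ringHom_ext <;> intro <;> simp [ev, ι, b]
    have hpt : pt ι b = x := by
      apply PrimeSpectrum.ext
      rw [pt_asIdeal, hev, Ideal.ker_algebraMap_residueField]
    exact core ι hn Z hZc hZne hinv' b (by rw [hpt]; exact hx)
  have hιinj : ∀ x : PrimeSpectrum (MvPolynomial (Fin n) k), Function.Injective
      ((algebraMap (MvPolynomial (Fin n) k) x.asIdeal.ResidueField).comp
        (MvPolynomial.C : k →+* MvPolynomial (Fin n) k)) := fun x => RingHom.injective _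
  obtain ⟨p, hp⟩ := CharP.exists k
  rcases CharP.char_is_prime_or_zero k p with hpp | rfl
  · right
    haveI := Fact.mk hpp
    have hcoord : ∀ x ∈ Z, ∀ i : Fin n, ∃ m : ℕ, 0 < m ∧
        (algebraMap (MvPolynomial (Fin n) k) x.asIdeal.ResidueField (MvPolynomial.X i)) ^ (p ^ m) =
          algebraMap (MvPolynomial (Fin n) k) x.asIdeal.ResidueField (MvPolynomial.X i) := by
      intro x hx i
      haveI : CharP x.asIdeal.ResidueField p := charP_of_injective_ringHom (hιinj x) p
      exact exists_pow_char_pow_eq p _ ((hcore x hx).2 i)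
    have hclosed : ∀ x ∈ Z, IsClosed ({x} : Set (PrimeSpectrum (MvPolynomial (Fin n) k))) := by
      intro x hx
      rw [PrimeSpectrum.isClosed_singleton_iff_isMaximal]
      apply isMaximal_of_coords
      intro i
      obtain ⟨m, hm, h⟩ := hcoord x hx i
      refine ⟨p ^ m, Nat.one_lt_pow hm.ne' hpp.one_lt, ?_⟩
      rw [← Ideal.algebraMap_residueField_eq_zero, map_sub, map_pow, h, sub_self]
    refine ⟨p, hpp, hp, ?_, ?_⟩
    · exact finite_of_forall_isClosed_singleton Z hZc hclosed
    · intro x hx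
      exact ⟨hclosed x hx, hcoord x hx⟩
  · left
    haveI : CharZero k := CharP.charP_to_charZero k
    apply top_unique
    intro x _
    by_contra hx
    have hxZ : x ∈ Z := hx
    exact (hcore x hxZ).1 (charZero_of_injective_ringHom (hιinj x))

end Groth.Agent.S7451
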