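import Groth.Statements.S7458


set_option autoImplicit false
universe u
open CategoryTheory MonoidalCategory CartesianMonoidalCategory MonObj GrpObj AlgebraicGeometry
open GrpSch

namespace Groth.Agent.S7458


theorem aux (S : Scheme.{u}) (G : Over S) [GrpObj G] (T : Over S) (ψ : T ⟶ G)
    (hT : Flat T.hom) : Flat (ψ ▷ G ≫ μ[G]).left := by
  have h1 : ψ ▷ G ≫ μ[G] = (fst T G ≫ ψ) * snd T G := by
    rw [Hom.mul_def]
    congr 1
  let sh : T ⊗ G ⟶ T ⊗ G := lift (fst T G) ((fst T G ≫ ψ) * snd T G)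
  let sh' : T ⊗ G ⟶ T ⊗ G := lift (fst T G) ((fst T G ≫ ψ)⁻¹ * snd T G)
  have e1 : sh ≫ sh' = 𝟙 _ := by
    ext
    · simp [sh, sh']
    · simp [sh, sh', MonObj.comp_mul, GrpObj.comp_inv]
  have e2 : sh' ≫ sh = 𝟙 _ := by
    ext
    · simp [sh, sh']
    · simp [sh, sh', MonObj.comp_mul]
  have hiso : IsIso sh := ⟨sh', e1, e2⟩
  have h2 : ψ ▷ G ≫ μ[G] = sh ≫ snd T G := by simp [sh, h1]
  rw [h2, Over.comp_left]
  have hiso' : IsIso sh.left := inferInstanceAs (IsIso ((Over.forget S).map sh))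
  have hsnd : Flat (snd T G).left := by
    rw [Over.snd_left]
    exact MorphismProperty.pullback_snd _ _ hT
  infer_instance


/-- For a group scheme G over a scheme S, a scheme T flat over S and a morphism ψ : T -> G over S, the
map T x_S G -> G sending (t, g) to the product ψ(t)·g is a flat morphism; taking T = G and ψ the
identity, the multiplication G x_S G -> G is flat whenever G is flat over S. -/
theorem result (S : Scheme.{u}) (G : Over S) [GrpObj G] : (∀ (T : Over S) (ψ : T ⟶ G), Flat T.hom → Flat (ψ ▷ G ≫ μ[G]).left) ∧ (Flat G.hom → Flat μ[G].left) := by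
  refine ⟨fun T ψ hT => aux S G T ψ hT, fun hG => ?_⟩
  have := aux S G G (𝟙 G) hG
  simpa using this

end Groth.Agent.S7458
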