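import Groth.Statements.S7463
import Mathlib
import Groth.Agent.S7462
-- import your own Groth.Agent.* helpers here

set_option autoImplicit false
universe u
open CategoryTheory CategoryTheory.Limits AlgebraicGeometry
open Grpd

namespace Groth.Agent.S7463

/-- the pair groupoid `U ×_S U ⇉ U` -/
noncomputable def pairGrpd {S : Scheme.{u}} (U : Scheme.{u}) (pU : U ⟶ S) :
    Grpd.GroupoidScheme S where
  U := U
  R := pullback pU pU
  pU := pU
  pR := pullback.fst pU pU ≫ pU
  s := pullback.snd pU pU
  t := pullback.fst pU pU
  e := pullback.lift (𝟙 U) (𝟙 U) rfl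
  i := pullback.lift (pullback.snd pU pU) (pullback.fst pU pU) pullback.condition.symm
  c := pullback.lift (pullback.fst _ _ ≫ pullback.fst pU pU)
    (pullback.snd _ _ ≫ pullback.snd pU pU) (by
      rw [Category.assoc, Category.assoc, pullback.condition, ← Category.assoc,
        pullback.condition, Category.assoc, pullback.condition])
  s_over := pullback.condition.symm
  t_over := rfl
  comp_s := by
    intros
    simp only [Category.assoc, pullback.lift_fst, pullback.lift_snd, pullback.lift_fst_assoc, pullback.lift_snd_assoc, Category.comp_id, Category.id_comp]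
  comp_t := by
    intros
    simp only [Category.assoc, pullback.lift_fst, pullback.lift_snd, pullback.lift_fst_assoc, pullback.lift_snd_assoc, Category.comp_id, Category.id_comp]
  assoc := by
    intros
    apply pullback.hom_ext <;>
    simp only [Category.assoc, pullback.lift_fst, pullback.lift_snd, pullback.lift_fst_assoc, pullback.lift_snd_assoc, Category.comp_id, Category.id_comp]
  e_s := by
    simp only [Category.assoc, pullback.lift_fst, pullback.lift_snd, pullback.lift_fst_assoc, pullback.lift_snd_assoc, Category.comp_id, Category.id_comp]
  e_t := by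
    simp only [Category.assoc, pullback.lift_fst, pullback.lift_snd, pullback.lift_fst_assoc, pullback.lift_snd_assoc, Category.comp_id, Category.id_comp]
  comp_e := by
    intros
    apply pullback.hom_ext <;>
    simp only [Category.assoc, pullback.lift_fst, pullback.lift_snd, pullback.lift_fst_assoc, pullback.lift_snd_assoc, Category.comp_id, Category.id_comp]
  e_comp := by
    intros
    apply pullback.hom_ext <;>
    simp only [Category.assoc, pullback.lift_fst, pullback.lift_snd, pullback.lift_fst_assoc, pullback.lift_snd_assoc, Category.comp_id, Category.id_comp]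
  i_s := by
    simp only [Category.assoc, pullback.lift_fst, pullback.lift_snd, pullback.lift_fst_assoc, pullback.lift_snd_assoc, Category.comp_id, Category.id_comp]
  i_t := by
    simp only [Category.assoc, pullback.lift_fst, pullback.lift_snd, pullback.lift_fst_assoc, pullback.lift_snd_assoc, Category.comp_id, Category.id_comp]
  comp_i := by
    intros
    apply pullback.hom_ext <;>
    simp only [Category.assoc, pullback.lift_fst, pullback.lift_snd, pullback.lift_fst_assoc, pullback.lift_snd_assoc, Category.comp_id, Category.id_comp]
  i_comp := by
    intros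
    apply pullback.hom_ext <;>
    simp only [Category.assoc, pullback.lift_fst, pullback.lift_snd, pullback.lift_fst_assoc, pullback.lift_snd_assoc, Category.comp_id, Category.id_comp]

/-- `j = (t, s)` as a morphism of groupoid schemes to the pair groupoid -/
noncomputable def jHom {S : Scheme.{u}} (G : Grpd.GroupoidScheme S) :
    Grpd.GroupoidScheme.Hom G (pairGrpd G.U G.pU) where
  fU := 𝟙 G.U
  fR := G.j
  fU_over := Category.id_comp _
  comm_s := by
    show G.j ≫ pullback.snd G.pU G.pU = G.s ≫ 𝟙 G.U
    simp only [Grpd.GroupoidScheme.j, Category.assoc, pullback.lift_fst, pullback.lift_snd, Category.comp_id]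
  comm_t := by
    show G.j ≫ pullback.fst G.pU G.pU = G.t ≫ 𝟙 G.U
    simp only [Grpd.GroupoidScheme.j, Category.assoc, pullback.lift_fst, pullback.lift_snd, Category.comp_id]
  comm_c := by
    intro T α β h
    apply pullback.hom_ext
    · have := G.comp_t α β h
      simp only [Grpd.GroupoidScheme.j, pairGrpd, Category.assoc, pullback.lift_fst, pullback.lift_snd, pullback.lift_fst_assoc, pullback.lift_snd_assoc] at this ⊢
      exact this
    · have := G.comp_s α β h
      simp only [Grpd.GroupoidScheme.j, pairGrpd, Category.assoc, pullback.lift_fst, pullback.lift_snd, pullback.lift_fst_assoc, pullback.lift_snd_assoc] at this ⊢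
      exact this

/-- Consider a groupoid scheme (U, R, s, t, c) over S in which U is the spectrum of a field, and write Z
for the closure of the image of the morphism j = (t, s) : R -> U x_S U. Then, set-theoretically,
pr_02 carries Z x_(pr_1,U,pr_0) Z into Z: given the morphism pr_02 from (U x_S U) x_(pr_1,U,pr_0) (U
x_S U) to U x_S U, whose components are pr_0 of the first factor and pr_1 of the second, any point
both of whose projections land in Z is mapped to a point of Z. (A groupoid scheme consists of U, R,
s, t, c, e, i over S satisfying the groupoid axioms on T-points; c is defined on the fibre product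
of s and t and takes a pair (a, b) with s(a) = t(b) to the composite of a with b.) -/
theorem result (S : Scheme.{u}) (G : Grpd.GroupoidScheme S) (k : Type u) [Field k] (eU : G.U ≅ Spec (CommRingCat.of k)) (pr02 : pullback (pullback.snd G.pU G.pU) (pullback.fst G.pU G.pU) ⟶ pullback G.pU G.pU) (h0 : pr02 ≫ pullback.fst G.pU G.pU = pullback.fst (pullback.snd G.pU G.pU) (pullback.fst G.pU G.pU) ≫ pullback.fst G.pU G.pU) (h1 : pr02 ≫ pullback.snd G.pU G.pU = pullback.snd (pullback.snd G.pU G.pU) (pullback.fst G.pU G.pU) ≫ pullback.snd G.pU G.pU) (p : ↑(pullback (pullback.snd G.pU G.pU) (pullback.fst G.pU G.pU))) (h₁ : pullback.fst (pullback.snd G.pU G.pU) (pullback.fst G.pU G.pU) p ∈ closure (Set.range ⇑G.j)) (h₂ : pullback.snd (pullback.snd G.pU G.pU) (pullback.fst G.pU G.pU) p ∈ closure (Set.range ⇑G.j)) : pr02 p ∈ closure (Set.range ⇑G.j) := by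
  have hpr : pr02 = (pairGrpd G.U G.pU).c := by
    apply pullback.hom_ext
    · rw [h0]; simp only [pairGrpd, pullback.lift_fst]
    · rw [h1]; simp only [pairGrpd, pullback.lift_snd]
  have hiso : IsIso (jHom G).fU := inferInstanceAs (IsIso (𝟙 G.U))
  have := Groth.Agent.S7462.result S G (pairGrpd G.U G.pU) (jHom G) k eU p h₁ h₂
  rw [hpr]
  exact this

end Groth.Agent.S7463
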