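import Groth.Statements.S7464
import Mathlib
import Groth.Agent.S7457
-- import your own Groth.Agent.* helpers here

set_option autoImplicit false
universe u
open CategoryTheory CategoryTheory.Limits AlgebraicGeometry
open Grpd

namespace Groth.Agent.S7464

open Groth.Agent.S7457 in
lemma c_s {S : Scheme.{u}} (G : Grpd.GroupoidScheme S) :
    G.c ≫ G.s = pullback.snd G.s G.t ≫ G.s := by
  have h1 := hom_c G (𝟙 (pullback G.s G.t))
  rw [Category.id_comp] at h1
  rw [h1, cmp_s, Category.id_comp]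

open Groth.Agent.S7457 in
lemma c_t {S : Scheme.{u}} (G : Grpd.GroupoidScheme S) :
    G.c ≫ G.t = pullback.fst G.s G.t ≫ G.t := by
  have h1 := hom_c G (𝟙 (pullback G.s G.t))
  rw [Category.id_comp] at h1
  rw [h1, cmp_t, Category.id_comp]

/-- Let (U, R, s, t, c) be a groupoid scheme over S with s and t finite, and let u, u' be distinct
points of U in the same orbit, say u = s(r) and u' = t(r). Then u' does not lie in the closure of u.
(The published statement calls u, u' points of R; this row takes them to be points of U, as the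
orbit condition and the proof require.) (A groupoid scheme carries U, R, s, t, c, e, i over S with
the groupoid axioms on T-points; c is defined on the fibre product of s and t and sends a pair (a,
b) with s(a) = t(b) to a composed with b.) -/
theorem result (S : Scheme.{u}) (G : Grpd.GroupoidScheme S) [IsFinite G.s] [IsFinite G.t] (r : G.R) (hne : G.s r ≠ G.t r) : ¬ (G.s r ⤳ G.t r) := by
  intro hspec
  obtain ⟨O, hOdef⟩ : ∃ O : Set G.U, O = G.t '' (G.s ⁻¹' {G.s r}) := ⟨_, rfl⟩
  have hOfin : O.Finite := by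
    rw [hOdef]
    exact (G.s.finite_preimage_singleton (G.s r)).image _
  have hrO : G.t r ∈ O := by
    rw [hOdef]; exact ⟨r, rfl, rfl⟩
  -- key step
  have key : ∀ w ∈ O, ∃ w' ∈ O, w ⤳ w' ∧ w' ≠ w := by
    intro w hw
    rw [hOdef] at hw
    obtain ⟨ρ₂, hρ₂s, hρ₂t⟩ := hw
    have hρs : G.s (G.i ρ₂) = w := by
      rw [← Scheme.Hom.comp_apply, G.i_s, hρ₂t]
    have hρt : G.t (G.i ρ₂) = G.s r := by
      rw [← Scheme.Hom.comp_apply, G.i_t]
      exact hρ₂s
    have hcl : IsClosedMap G.t := G.t.isClosedMap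
    obtain ⟨ρ', hρρ', hρ't⟩ := hcl.specializingMap (a := G.i ρ₂) (b := G.t r) (by
      show G.t (G.i ρ₂) ⤳ G.t r
      rw [hρt]; exact hspec)
    have hρρ'' : G.i ρ₂ ⤳ ρ' := hρρ'
    refine ⟨G.s ρ', ?_, ?_, ?_⟩
    · -- membership in the orbit
      have hcomp : G.s (G.i ρ') = G.t r := by
        rw [← Scheme.Hom.comp_apply, G.i_s]; exact hρ't
      obtain ⟨q, hq1, hq2⟩ := Scheme.Pullback.exists_preimage_pullback (f := G.s) (g := G.t)
        (G.i ρ') r hcomp
      rw [hOdef]
      refine ⟨G.c q, ?_, ?_⟩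
      · show G.s (G.c q) = G.s r
        rw [← Scheme.Hom.comp_apply, c_s, Scheme.Hom.comp_apply, hq2]
      · rw [← Scheme.Hom.comp_apply, c_t, Scheme.Hom.comp_apply, hq1, ← Scheme.Hom.comp_apply,
          G.i_t]
    · rw [← hρs]
      exact hρρ''.map (Scheme.Hom.continuous G.s)
    · intro heq
      have hd := G.s.isDiscrete_preimage_singleton w
      have h1 : G.i ρ₂ ∈ G.s ⁻¹' {w} := hρs
      have h2 : ρ' ∈ G.s ⁻¹' {w} := heq
      have h3 : (⟨G.i ρ₂, h1⟩ : G.s ⁻¹' {w}) ⤳ ⟨ρ', h2⟩ :=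
        Topology.IsInducing.subtypeVal.specializes_iff.mp hρρ''
      have hdt : DiscreteTopology (G.s ⁻¹' {w}) := isDiscrete_iff_discreteTopology.mp hd
      have h4 := specializes_iff_eq.mp h3
      have h5 : G.i ρ₂ = ρ' := congrArg Subtype.val h4
      apply hne
      rw [← hρt, h5, hρ't]
  -- minimality argument
  obtain ⟨w, hwO, hwmin⟩ := Set.exists_min_image O (fun w => {x ∈ O | w ⤳ x}.ncard) hOfin
    ⟨_, hrO⟩
  obtain ⟨w', hw'O, hww', hne'⟩ := key w hwO
  have hlt : {x ∈ O | w' ⤳ x}.ncard < {x ∈ O | w ⤳ x}.ncard := by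
    apply Set.ncard_lt_ncard
    · refine ⟨fun x hx => ⟨hx.1, hww'.trans hx.2⟩, fun hsub => ?_⟩
      have : w ∈ {x ∈ O | w' ⤳ x} := hsub ⟨hwO, specializes_rfl⟩
      exact hne' (hww'.antisymm this.2).eq.symm
    · exact hOfin.subset (fun x hx => hx.1)
  exact absurd (hwmin w' hw'O) (not_le.mpr hlt)

end Groth.Agent.S7464
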