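import Groth.Statements.S7474
import Groth.Agent.S7471
import Groth.Agent.S7473
-- import your own Groth.Agent.* helpers here

set_option autoImplicit false
universe w w' w'' u
open HTop

namespace Groth.Agent.S7474

open CategoryTheory CategoryTheory.Limits AlgebraicGeometry

/-- Reindexing along an equivalence preserves standard V coverings. -/
theorem isStandardV_reindex {T : Scheme.{u}} (E : PreZeroHypercover.{w'} T) (hE : IsStandardV E)
    {ι : Type w''} (e : ι ≃ E.I₀) : IsStandardV (E.reindex e) := by
  have := hE.finite_index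
  refine ⟨hE.isAffine, Finite.of_equiv _ e.symm, fun k => hE.isAffine_obj (e k), ?_⟩
  intro V _ _ g
  obtain ⟨W, hW1, hW2, φ, hφ, j, g', hg'⟩ := hE.lift V g
  obtain ⟨k, rfl⟩ := e.surjective j
  exact ⟨W, hW1, hW2, φ, hφ, k, g', hg'⟩

/-- A standard V covering is a V covering. -/
theorem isVCover_of_isStandardV {T : Scheme.{u}} (E : PreZeroHypercover.{w'} T)
    (hE : IsStandardV E) : IsVCover E := by
  intro U
  have : IsAffine (U.1 : Scheme.{u}) := U.2
  have hpb : IsStandardV (E.pullback₁ U.1.ι) := Groth.Agent.S7469.result U.1.ι E hE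
  have hfin : Finite E.I₀ := hE.finite_index
  obtain ⟨n, ⟨e⟩⟩ := Finite.exists_equiv_fin E.I₀
  refine ⟨(E.pullback₁ U.1.ι).reindex e.symm, isStandardV_reindex _ hpb e.symm, fun k => ?_⟩
  exact ⟨e.symm k, pullback.snd _ _, pullback.condition.symm⟩

/-- The sheaf condition for standard V coverings indexed in universe `u` gives the sheaf condition
for standard V coverings indexed in any universe. -/
theorem isSheafFor_of_isStandardV (F : Scheme.{u}ᵒᵖ ⥤ Type w)
    (hSV : ∀ (T : Scheme.{u}) (E : PreZeroHypercover.{u} T), IsStandardV E →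
      Presieve.IsSheafFor F E.presieve₀)
    {T : Scheme.{u}} (G : PreZeroHypercover.{w'} T) (hG : IsStandardV G) :
    Presieve.IsSheafFor F G.presieve₀ := by
  have := hG.finite_index
  obtain ⟨n, ⟨e⟩⟩ := Finite.exists_equiv_fin G.I₀
  let e' : ULift.{u} (Fin n) ≃ G.I₀ := Equiv.ulift.trans e.symm
  rw [← G.presieve₀_reindex e']
  exact hSV T _ (isStandardV_reindex G hG e')

theorem isAffine_affineOneHypercover_X (Y : Scheme.{u}) (i : Y.affineOneHypercover.I₀) :
    IsAffine (Y.affineOneHypercover.X i) := by
  show IsAffine (Y.affineCover.X i)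
  infer_instance

theorem isAffine_affineOneHypercover_Y (Y : Scheme.{u}) (i j : Y.affineOneHypercover.I₀)
    (k : Y.affineOneHypercover.I₁ i j) : IsAffine (Y.affineOneHypercover.Y k) := by
  show IsAffine ((pullback (Y.affineCover.f i) (Y.affineCover.f j)).affineCover.X k)
  infer_instance

/-- The double base change of a standard V covering to an affine scheme is a standard V covering. -/
theorem isStandardV_pullback₂_pullback₂ {T Y W : Scheme.{u}} [IsAffine W]
    (G : PreZeroHypercover.{w'} T) (hG : IsStandardV G) (f : Y ⟶ T) (g : W ⟶ Y) :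
    IsStandardV ((G.pullback₂ f).pullback₂ g) := by
  have hT := hG.isAffine
  have hobj := hG.isAffine_obj
  refine ⟨inferInstance, hG.finite_index, fun k => ?_, ?_⟩
  · show IsAffine (pullback (pullback.snd (G.f k) f) g)
    exact .of_isIso (pullbackLeftPullbackSndIso (G.f k) f g).hom
  · intro V _ _ h
    obtain ⟨W', hW1, hW2, φ, hφ, k, g', hg'⟩ := hG.lift V (h ≫ g ≫ f)
    refine ⟨W', hW1, hW2, φ, hφ, k,
      pullback.lift (pullback.lift g' (Spec.map φ ≫ h ≫ g) (by rw [hg']; simp))
        (Spec.map φ ≫ h) (by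
          show pullback.lift _ _ _ ≫ pullback.snd _ _ = _
          rw [pullback.lift_snd, Category.assoc]), ?_⟩
    show pullback.lift _ _ _ ≫ pullback.snd _ _ = _
    rw [pullback.lift_snd]

/-- A Zariski sheaf with the sheaf property for standard V coverings has the sheaf property for
every base change of a standard V covering. -/
theorem isSheafFor_pullback_of_isStandardV (F : Scheme.{u}ᵒᵖ ⥤ Type w)
    (hzar : Presieve.IsSheaf Scheme.zariskiTopology F)
    (hSV : ∀ (T : Scheme.{u}) (E : PreZeroHypercover.{u} T), IsStandardV E →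
      Presieve.IsSheafFor F E.presieve₀)
    {T Y : Scheme.{u}} (G : PreZeroHypercover.{w'} T) (hG : IsStandardV G) (f : Y ⟶ T) :
    Presieve.IsSheafFor F (G.pullback₂ f).presieve₀ := by
  refine Y.affineOneHypercover.isSheafFor_of_pullback hzar (fun i => ?_) (fun i j k => ?_)
  · rw [← Sieve.pullbackArrows_comm, ← PreZeroHypercover.presieve₀_pullback₁,
      ← Presieve.isSheafFor_iff_generate]
    have := isAffine_affineOneHypercover_X Y i
    exact isSheafFor_of_isStandardV F hSV _ (isStandardV_pullback₂_pullback₂ G hG f _)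
  · rw [← Sieve.pullbackArrows_comm, ← PreZeroHypercover.presieve₀_pullback₁,
      ← Presieve.isSeparatedFor_iff_generate]
    have := isAffine_affineOneHypercover_Y Y i j k
    exact (isSheafFor_of_isStandardV F hSV _
      (isStandardV_pullback₂_pullback₂ G hG f _)).isSeparatedFor

/-- The case of an affine target. -/
theorem isSheafFor_of_isVCover_affine (F : Scheme.{u}ᵒᵖ ⥤ Type w)
    (hzar : Presieve.IsSheaf Scheme.zariskiTopology F)
    (hSV : ∀ (T : Scheme.{u}) (E : PreZeroHypercover.{u} T), IsStandardV E →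
      Presieve.IsSheafFor F E.presieve₀)
    {X : Scheme.{u}} [IsAffine X] (E : PreZeroHypercover.{w'} X) (hE : IsVCover E) :
    Presieve.IsSheafFor F E.presieve₀ := by
  obtain ⟨G, hG, href⟩ := Groth.Agent.S7471.exists_standardV_refinesOver (𝟙 X) E hE
  rw [Presieve.isSheafFor_iff_generate]
  apply Presieve.isSheafFor_subsieve_aux (S := Sieve.generate G.presieve₀)
  · show Sieve.generate G.presieve₀ ≤ Sieve.generate E.presieve₀
    rw [Sieve.generate_le_iff, PreZeroHypercover.presieve₀, Presieve.ofArrows_le_iff]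
    intro j
    obtain ⟨i, h, hh⟩ := href j
    exact ⟨_, h, E.f i, ⟨i⟩, by rw [hh, Category.comp_id]⟩
  · rw [← Presieve.isSheafFor_iff_generate]
    exact isSheafFor_of_isStandardV F hSV G hG
  · intro Y f _
    rw [← Sieve.pullbackArrows_comm, ← Presieve.isSeparatedFor_iff_generate,
      ← PreZeroHypercover.presieve₀_pullback₁]
    exact (isSheafFor_pullback_of_isStandardV F hzar hSV G hG f).isSeparatedFor

/-- V coverings are stable under base change (second-factor convention). -/
theorem isVCover_pullback₂ {T T' : Scheme.{u}} (g : T' ⟶ T) (E : PreZeroHypercover.{w'} T)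
    (hE : IsVCover E) : IsVCover (E.pullback₂ g) := by
  intro U'
  obtain ⟨G, hG, hGref⟩ := Groth.Agent.S7471.exists_standardV_refinesOver (U'.1.ι ≫ g) E hE
  refine ⟨G, hG, fun j => ?_⟩
  obtain ⟨i, h, hh⟩ := hGref j
  refine ⟨i, pullback.lift h (G.f j ≫ U'.1.ι) (by rw [hh, Category.assoc]), ?_⟩
  change pullback.lift h (G.f j ≫ U'.1.ι) _ ≫ pullback.snd (E.f i) g = _
  rw [pullback.lift_snd]

/-- A Zariski sheaf with the sheaf property for standard V coverings has the sheaf property for
all V coverings. -/
theorem isSheafFor_of_isVCover (F : Scheme.{u}ᵒᵖ ⥤ Type w)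
    (hzar : Presieve.IsSheaf Scheme.zariskiTopology F)
    (hSV : ∀ (T : Scheme.{u}) (E : PreZeroHypercover.{u} T), IsStandardV E →
      Presieve.IsSheafFor F E.presieve₀)
    {X : Scheme.{u}} (E : PreZeroHypercover.{w'} X) (hE : IsVCover E) :
    Presieve.IsSheafFor F E.presieve₀ := by
  refine X.affineOneHypercover.isSheafFor_of_pullback hzar (fun i => ?_) (fun i j k => ?_)
  · rw [← Sieve.pullbackArrows_comm, ← PreZeroHypercover.presieve₀_pullback₁,
      ← Presieve.isSheafFor_iff_generate]
    have := isAffine_affineOneHypercover_X X i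
    exact isSheafFor_of_isVCover_affine F hzar hSV _ (isVCover_pullback₂ _ E hE)
  · rw [← Sieve.pullbackArrows_comm, ← PreZeroHypercover.presieve₀_pullback₁,
      ← Presieve.isSeparatedFor_iff_generate]
    have := isAffine_affineOneHypercover_Y X i j k
    exact (isSheafFor_of_isVCover_affine F hzar hSV _ (isVCover_pullback₂ _ E hE)).isSeparatedFor

/-- A V sheaf is a Zariski sheaf. -/
theorem isSheaf_zariski_of_isVSheaf (F : Scheme.{u}ᵒᵖ ⥤ Type w) (hV : IsVSheaf F) :
    Presieve.IsSheaf Scheme.zariskiTopology F := by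
  rw [Precoverage.isSheaf_toGrothendieck_iff_of_isStableUnderBaseChange]
  intro X R hR
  obtain ⟨E₀, rfl⟩ := R.exists_eq_preZeroHypercover
  let 𝒰 : Scheme.Cover (Scheme.precoverage @IsOpenImmersion) X := ⟨E₀, hR⟩
  have h𝒰 := Groth.Agent.S7473.result (𝒰.weaken Scheme.zariskiPrecoverage_le_fpqcPrecoverage)
  exact hV _ ((presieve₀_mem_vPrecoverage_iff E₀).2 h𝒰)

/-- A presheaf F of sets on the category of all schemes has the sheaf property for every V covering
family exactly when F is a sheaf for the Zariski topology and has the sheaf property for each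
standard V covering. -/
theorem result (F : Scheme.{u}ᵒᵖ ⥤ Type w) : HTop.IsVSheaf F ↔ (Presieve.IsSheaf Scheme.zariskiTopology F ∧ ∀ (T : Scheme.{u}) (E : PreZeroHypercover.{u} T), HTop.IsStandardV E → Presieve.IsSheafFor F E.presieve₀) := by
  constructor
  · intro hV
    exact ⟨isSheaf_zariski_of_isVSheaf F hV, fun T E hE =>
      hV _ ((presieve₀_mem_vPrecoverage_iff E).2 (isVCover_of_isStandardV E hE))⟩
  · rintro ⟨hzar, hSV⟩ X R hR
    rw [vPrecoverage, PreZeroHypercoverFamily.mem_precoverage_iff] at hR
    obtain ⟨E, hE, rfl⟩ := hR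
    exact isSheafFor_of_isVCover F hzar hSV E hE

end Groth.Agent.S7474
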