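import Groth.Statements.S7475
import Groth.Agent.S7474
-- import your own Groth.Agent.* helpers here

set_option autoImplicit false
universe w u
open HTop

namespace Groth.Agent.S7475

open CategoryTheory CategoryTheory.Limits AlgebraicGeometry

universe w' w''

/-- The one-member family of the morphism from the coproduct of a standard V covering is a
standard V covering. -/
theorem isStandardV_singleton_sigmaDesc {T : Scheme.{u}} (E : PreZeroHypercover.{u} T)
    (hE : IsStandardV E) : IsStandardV (PreZeroHypercover.singleton.{w'} (Sigma.desc E.f)) := by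
  have hT := hE.isAffine
  have hfin := hE.finite_index
  have hobj := hE.isAffine_obj
  refine ⟨hT, inferInstanceAs (Finite PUnit), fun _ => ?_, ?_⟩
  · show IsAffine (∐ E.X)
    infer_instance
  · intro V _ _ g
    obtain ⟨W, hW1, hW2, φ, hφ, j, g', hg'⟩ := hE.lift V g
    refine ⟨W, hW1, hW2, φ, hφ, ⟨⟩, g' ≫ Sigma.ι E.X j, ?_⟩
    show (g' ≫ Sigma.ι E.X j) ≫ Sigma.desc E.f = _
    rw [Category.assoc, Sigma.ι_desc, hg']

/-- For a Zariski sheaf, the sheaf condition for a finite family is equivalent to the sheaf condition
for the morphism from the coproduct. -/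
theorem isSheafFor_sigmaDesc_iff (F : Scheme.{u}ᵒᵖ ⥤ Type w)
    (hzar : Presieve.IsSheaf Scheme.zariskiTopology F) {T : Scheme.{u}}
    (E : PreZeroHypercover.{u} T) [Finite E.I₀] :
    Presieve.IsSheafFor F (Presieve.singleton (Sigma.desc E.f)) ↔
      Presieve.IsSheafFor F E.presieve₀ := by
  have : PreservesLimitsOfShape (Discrete (E.I₀ × E.I₀)) F :=
    preservesLimitsOfShape_discrete_of_isSheaf_zariskiTopology hzar
  have : PreservesLimitsOfShape (Discrete E.I₀) F :=
    preservesLimitsOfShape_discrete_of_isSheaf_zariskiTopology hzar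
  exact Presieve.isSheafFor_sigmaDesc_iff E.f (coproductIsCoproduct _)
    (FinitaryExtensive.isVanKampen_finiteCoproducts (coproductIsCoproduct _)).isUniversal F

/-- Variant with a single arrow: a presheaf of sets on all schemes has the sheaf property for every V
covering family exactly when it is a Zariski sheaf and has the sheaf property for every morphism V
-> U of affine schemes that on its own forms a standard V covering. -/
theorem result (F : Scheme.{u}ᵒᵖ ⥤ Type w) : HTop.IsVSheaf F ↔ (Presieve.IsSheaf Scheme.zariskiTopology F ∧ ∀ (U V : Scheme.{u}) (f : V ⟶ U), HTop.IsStandardV (PreZeroHypercover.singleton f) → Presieve.IsSheafFor F (Presieve.singleton f)) := by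
  rw [Groth.Agent.S7474.result]
  constructor
  · rintro ⟨hzar, hSV⟩
    refine ⟨hzar, fun U V f hf => ?_⟩
    have := Groth.Agent.S7474.isSheafFor_of_isStandardV F hSV _ hf
    rwa [PreZeroHypercover.presieve₀_singleton] at this
  · rintro ⟨hzar, hS⟩
    refine ⟨hzar, fun T E hE => ?_⟩
    have := hE.finite_index
    rw [← isSheafFor_sigmaDesc_iff F hzar E]
    exact hS _ _ _ (isStandardV_singleton_sigmaDesc E hE)

end Groth.Agent.S7475
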