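import Groth.Statements.S7478
-- import your own Groth.Agent.* helpers here

set_option autoImplicit false
universe w u
open HTop

namespace Groth.Agent.S7478

open CategoryTheory CategoryTheory.Limits AlgebraicGeometry in
/-- The base change of a standard ph covering along a morphism of affine schemes T' -> T is a standard
ph covering of T'. -/
theorem result {T T' : Scheme.{u}} [IsAffine T'] (g : T' ⟶ T) (E : PreZeroHypercover.{w} T) (hE : HTop.IsStandardPh E) : HTop.IsStandardPh (E.pullback₁ g) := by
  obtain ⟨hT, hfin, haff, U, f, ι, hprop, hsurj, hopen, hcomm, hcov⟩ := hE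
  refine ⟨inferInstance, hfin, fun j => ?_, pullback g f, pullback.fst g f,
    fun j => pullback.map g (E.f j) g f (𝟙 _) (ι j) (𝟙 _) (by simp) (by simp [hcomm j]),
    ?_, ?_, fun j => ?_, fun j => ?_, fun x => ?_⟩
  · have := haff j
    show IsAffine (pullback g (E.f j))
    infer_instance
  · exact MorphismProperty.pullback_fst _ _ hprop
  · exact MorphismProperty.pullback_fst _ _ hsurj
  · have := hopen j
    show IsOpenImmersion (pullback.map g (E.f j) g f (𝟙 _) (ι j) (𝟙 _) _ _)
    infer_instance
  · change E.I₀ at j
    show pullback.map g (E.f j) g f (𝟙 _) (ι j) (𝟙 _) _ _ ≫ pullback.fst g f = pullback.fst g (E.f j)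
    rw [pullback.lift_fst]
    exact Category.comp_id _
  · obtain ⟨j, hj⟩ := hcov (pullback.snd g f x)
    refine ⟨j, ?_⟩
    show x ∈ Set.range (pullback.map g (E.f j) g f (𝟙 _) (ι j) (𝟙 _) _ _)
    rw [Scheme.Pullback.range_map]
    refine ⟨?_, hj⟩
    simp

end Groth.Agent.S7478
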