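import Groth.Statements.S7487
import Mathlib
import Groth.Agent.S1878
import Groth.Agent.S1879
import Groth.Agent.Lib.Helper28.FinProjBC
-- import your own Groth.Agent.* helpers here

set_option autoImplicit false
universe u
open CategoryTheory CategoryTheory.Limits AlgebraicGeometry
open Grpd

namespace Groth.Agent.S7487


open Groth.Agent.Lib.helper28.FinProjCharpoly

/-- Let (U, R, s, t, c) be a groupoid scheme over S with U = Spec A and R = Spec B affine and s, t
finite locally free; let C be the subring of R-invariant functions of A and C -> C' a ring map. Put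
A' = A (x)_C C' and B' = B (x)_C C' (B a C-algebra through s^#) and let C^1 be the subring of A'
where the two maps s^# (x) 1, t^# (x) 1 : A' -> B' agree; the structure map C' -> A' lands in C^1,
giving φ : C' -> C^1. Then: (a) for every f in C^1 there are n > 0 and a polynomial P over C' whose
image in A'[x] is (x - f)^n; (b) every element of the kernel of φ is nilpotent; (c) if C -> C' is
flat then φ is bijective, that is C' -> A' is injective with image C^1. (The published statement
also asserts that the base change is again a groupoid scheme; this row omits that clause.) (A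
groupoid scheme carries U, R, s, t, c, e, i over S with the groupoid axioms on T-points; c is
defined on the fibre product of s and t and sends a pair (a, b) with s(a) = t(b) to a composed with
b.) -/
theorem result (S : Scheme.{u}) (G : Grpd.GroupoidScheme S) [IsAffine G.U] [IsAffine G.R] [IsFinite G.s] [Flat G.s] [LocallyOfFinitePresentation G.s] [IsFinite G.t] [Flat G.t] [LocallyOfFinitePresentation G.t] (C' : Type u) [CommRing C'] [Algebra G.invariants C'] : letI : Algebra G.invariants Γ(G.R, ⊤) := (G.s.appTop.hom.comp G.invariants.subtype).toAlgebra; ∀ (sT tT : TensorProduct G.invariants Γ(G.U, ⊤) C' →ₐ[G.invariants] TensorProduct G.invariants Γ(G.R, ⊤) C'), (∀ (a : Γ(G.U, ⊤)) (c : C'), sT (a ⊗ₜ c) = G.s.appTop.hom a ⊗ₜ c) → (∀ (a : Γ(G.U, ⊤)) (c : C'), tT (a ⊗ₜ c) = G.t.appTop.hom a ⊗ₜ c) → (∀ f : TensorProduct G.invariants Γ(G.U, ⊤) C', sT f = tT f → ∃ (n : ℕ) (P : Polynomial C'), 0 < n ∧ Polynomial.map (Algebra.TensorProduct.includeRight : C' →ₐ[G.invariants] TensorProduct G.invariants Γ(G.U, ⊤) C').toRingHom P = (Polynomial.X - Polynomial.C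 f) ^ n) ∧ (∀ c : C', (Algebra.TensorProduct.includeRight : C' →ₐ[G.invariants] TensorProduct G.invariants Γ(G.U, ⊤) C') c = 0 → IsNilpotent c) ∧ (Module.Flat G.invariants C' → Function.Injective (Algebra.TensorProduct.includeRight : C' →ₐ[G.invariants] TensorProduct G.invariants Γ(G.U, ⊤) C') ∧ ∀ f : TensorProduct G.invariants Γ(G.U, ⊤) C', sT f = tT f → f ∈ Set.range (Algebra.TensorProduct.includeRight : C' →ₐ[G.invariants] TensorProduct G.invariants Γ(G.U, ⊤) C')) := by
  obtain ⟨n, ⟨D⟩⟩ := Groth.Agent.S1879.exists_dualBasis G.s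
  have H := Groth.Agent.S1878.invData G D
  have hint := Groth.Agent.S1878.isIntegral_subtype G
  have hes := Groth.Agent.S1879.e_s_app G
  have hC : ∀ a, a ∈ G.invariants ↔ G.s.appTop.hom a = G.t.appTop.hom a := fun a => Iff.rfl
  intro sT tT hsT htT
  refine ⟨?_, ?_, ?_⟩
  · intro f hf
    exact InvData.exists_pow_eq_map H G.e.appTop.hom hes G.invariants hC C'
      sT.toRingHom.toAddMonoidHom tT.toRingHom.toAddMonoidHom hsT htT f hf
  · intro c hc
    refine isNilpotent_of_includeRight_eq_zero (R := G.invariants) (S := Γ(G.U, ⊤)) ?_ c hc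
    intro 𝔭 h𝔭
    exact @InvData.exists_prime_over Γ(G.U, ⊤) Γ(G.R, ⊤) _ _ G.s.appTop.hom
      G.t.appTop.hom hint 𝔭 h𝔭
  · intro hflat
    exact flat_case G.s.appTop.hom G.t.appTop.hom G.invariants hC C'
      sT.toRingHom.toAddMonoidHom tT.toRingHom.toAddMonoidHom hsT htT

end Groth.Agent.S7487
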