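import Groth.Statements.S7493
import Mathlib


set_option autoImplicit false
universe u
open CategoryTheory CategoryTheory.Limits AlgebraicGeometry
open Grpd

namespace Groth.Agent.S7493

set_option linter.style.haveILetI false
open Cardinal

/-- alg closed fields of the same transcendence degree over `k` are `k`-isomorphic -/
theorem nonempty_algEquiv_of_trdeg_eq {k L M : Type u} [Field k] [Field L] [Field M]
    [Algebra k L] [Algebra k M] [IsAlgClosed L] [IsAlgClosed M]
    (h : Algebra.trdeg k L = Algebra.trdeg k M) : Nonempty (L ≃ₐ[k] M) := by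
  obtain ⟨ι, v, hv⟩ := exists_isTranscendenceBasis' k L
  obtain ⟨κ, w, hw⟩ := exists_isTranscendenceBasis' k M
  have hc : #ι = #κ := by rw [hv.cardinalMk_eq_trdeg, hw.cardinalMk_eq_trdeg, h]
  obtain ⟨e⟩ := Cardinal.eq.1 hc
  letI := IsAlgClosed.isAlgClosure_of_transcendence_basis v hv
  letI := IsAlgClosed.isAlgClosure_of_transcendence_basis w hw
  let e' : Algebra.adjoin k (Set.range v) ≃ₐ[k] Algebra.adjoin k (Set.range w) :=
    hv.1.aevalEquiv.symm.trans ((MvPolynomial.renameEquiv k e).trans hw.1.aevalEquiv)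
  let E := IsAlgClosure.equivOfEquiv L M e'.toRingEquiv
  refine ⟨AlgEquiv.ofRingEquiv (f := E) ?_⟩
  intro c
  rw [IsScalarTower.algebraMap_apply k (Algebra.adjoin k (Set.range v)) L]
  rw [IsAlgClosure.equivOfEquiv_algebraMap]
  rw [IsScalarTower.algebraMap_apply k (Algebra.adjoin k (Set.range w)) M]
  congr 1
  exact e'.commutes c

theorem trdeg_le_mk (k K : Type u) [Field k] [Field K] [Algebra k K] :
    Algebra.trdeg k K ≤ #K := by
  obtain ⟨s, hs⟩ := exists_isTranscendenceBasis k K
  rw [← hs.cardinalMk_eq_trdeg]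
  exact Cardinal.mk_set_le s

theorem trdeg_eq_of_big {k K L : Type u} [Field k] [Field K] [Field L] [Algebra k K]
    [Algebra K L] [Algebra k L] [IsScalarTower k K L] (c : Cardinal.{u}) (hc : ℵ₀ ≤ c)
    (hK : #K ≤ c) (hL : Algebra.trdeg K L = c) : Algebra.trdeg k L = c := by
  have := _root_.trdeg_add_eq k K (A := L)
  rw [← this, hL]
  exact Cardinal.add_eq_right hc ((trdeg_le_mk k K).trans hK)


theorem trdeg_closure (K I : Type u) [Field K] :
    Algebra.trdeg K (AlgebraicClosure (FractionRing (MvPolynomial I K))) = #I := by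
  have : Algebra.IsAlgebraic (MvPolynomial I K)
      (AlgebraicClosure (FractionRing (MvPolynomial I K))) :=
    (IsFractionRing.comap_isAlgebraic_iff (A := MvPolynomial I K) (K := FractionRing (MvPolynomial I K))).mpr inferInstance
  have : FaithfulSMul (MvPolynomial I K) (AlgebraicClosure (FractionRing (MvPolynomial I K))) := by
    rw [faithfulSMul_iff_algebraMap_injective,
      IsScalarTower.algebraMap_eq _ (FractionRing (MvPolynomial I K))]
    exact (algebraMap (FractionRing (MvPolynomial I K)) (AlgebraicClosure (FractionRing (MvPolynomial I K)))).injective.comp (IsFractionRing.injective (MvPolynomial I K) (FractionRing (MvPolynomial I K)))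
  have h1 := _root_.trdeg_add_eq K (MvPolynomial I K)
    (A := AlgebraicClosure (FractionRing (MvPolynomial I K)))
  rw [MvPolynomial.trdeg_of_isDomain, _root_.trdeg_eq_zero, add_zero,
    Cardinal.lift_id] at h1
  exact h1.symm

theorem exists_big_field {k K : Type u} [Field k] [Field K] (ιs ιt : k →+* K) :
    ∃ (k' : Type u) (_ : Field k') (_ : IsAlgClosed k') (j : K →+* k') (σ : k' ≃+* k'),
      (σ : k' →+* k').comp (j.comp ιt) = j.comp ιs := by
  let I : Type u := K ⊕ ULift.{u} ℕ
  let L := AlgebraicClosure (FractionRing (MvPolynomial I K))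
  have hI1 : ℵ₀ ≤ #I := by
    simp only [I, Cardinal.mk_sum, Cardinal.lift_id, Cardinal.mk_uLift, Cardinal.mk_nat]
    simp
  have hI2 : #K ≤ #I := by
    simp only [I, Cardinal.mk_sum, Cardinal.lift_id]
    exact le_self_add
  have key : ∀ (ι : k →+* K),
      letI := ((algebraMap K L).comp ι).toAlgebra
      Algebra.trdeg k L = #I := by
    intro ι
    letI := ι.toAlgebra
    letI := ((algebraMap K L).comp ι).toAlgebra
    exact @trdeg_eq_of_big k K L _ _ _ _ _ _ (IsScalarTower.of_algebraMap_eq (fun _ => rfl))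
      (#I) hI1 hI2 (trdeg_closure K I)
  let As : Algebra k L := ((algebraMap K L).comp ιs).toAlgebra
  let At : Algebra k L := ((algebraMap K L).comp ιt).toAlgebra
  obtain ⟨E⟩ := @nonempty_algEquiv_of_trdeg_eq k L L _ _ _ At As _ _ ((key ιt).trans (key ιs).symm)
  refine ⟨L, inferInstance, inferInstance, algebraMap K L, (@AlgEquiv.toRingEquiv k L L _ _ _ At As E), ?_⟩
  ext c
  exact @AlgEquiv.commutes k L L _ _ _ At As E c


theorem isIso_residueFieldMap_of_isIso_comp {X Y Z : Scheme.{u}} (q : X ⟶ Y) (f : Y ⟶ Z)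
    [IsIso (q ≫ f)] (x : X) : IsIso (f.residueFieldMap (q x)) := by
  have h1 : IsIso ((q ≫ f).residueFieldMap x) := inferInstance
  rw [Scheme.residueFieldMap_comp] at h1
  have h2 : IsIso (q.residueFieldMap x) := by
    rw [ConcreteCategory.isIso_iff_bijective]
    refine ⟨(q.residueFieldMap x).hom.injective, ?_⟩
    have := (ConcreteCategory.isIso_iff_bijective _).1 h1
    intro y
    obtain ⟨z, hz⟩ := this.2 y
    exact ⟨f.residueFieldMap (q x) z, hz⟩
  exact @IsIso.of_isIso_comp_right _ _ _ _ _ _ (q.residueFieldMap x) h2 h1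

theorem main (S : Scheme.{u}) (G : Grpd.GroupoidScheme S) (k : Type u) [Field k] (eU : G.U ≅ Spec (CommRingCat.of k)) (r : G.R) : ∃ (k' : Type u) (_ : Field k') (_ : IsAlgClosed k') (_ : Algebra k k'), ∃ r' : ↑(pullback (pullback.snd (Spec.map (CommRingCat.ofHom (algebraMap k k')) ≫ eU.inv) G.t ≫ G.s) (Spec.map (CommRingCat.ofHom (algebraMap k k')) ≫ eU.inv)), (pullback.fst (pullback.snd (Spec.map (CommRingCat.ofHom (algebraMap k k')) ≫ eU.inv) G.t ≫ G.s) (Spec.map (CommRingCat.ofHom (algebraMap k k')) ≫ eU.inv) ≫ pullback.snd (Spec.map (CommRingCat.ofHom (algebraMap k k')) ≫ eU.inv) G.t) r' = r ∧ IsIso ((pullback.snd (pullback.snd (Spec.map (CommRingCat.ofHom (algebraMap k k')) ≫ eU.inv) G.t ≫ G.s) (Spec.map (CommRingCat.ofHom (algebraMap k k')) ≫ eU.inv)).residueFieldMap r') ∧ IsIso ((pullback.fst (pullback.snd (Spec.map (CommRingCat.ofHom (algebraMap k k')) ≫ eU.inv) G.t ≫ G.s) (Spec.map (CommRingCat.ofHom (algebraMap k k')) ≫ eU.inv) ≫ pullback.fst (Spec.map (CommRingCat.ofHom (algebraMap k k'))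 ≫ eU.inv) G.t).residueFieldMap r') := by
  let K := G.R.residueField r
  let ft : Spec K ⟶ Spec (CommRingCat.of k) := G.R.fromSpecResidueField r ≫ G.t ≫ eU.hom
  let fs : Spec K ⟶ Spec (CommRingCat.of k) := G.R.fromSpecResidueField r ≫ G.s ≫ eU.hom
  let ιt : k →+* K := (Spec.preimage ft).hom
  let ιs : k →+* K := (Spec.preimage fs).hom
  obtain ⟨k', hF, hAC, j, σ, hσ⟩ := exists_big_field ιs ιt
  letI := hF
  refine ⟨k', hF, hAC, (j.comp ιt).toAlgebra, ?_⟩
  letI : Algebra k k' := (j.comp ιt).toAlgebra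
  have hιt : Spec.map (CommRingCat.ofHom ιt) = ft := Spec.map_preimage ft
  have hιs : Spec.map (CommRingCat.ofHom ιs) = fs := Spec.map_preimage fs
  have halg : CommRingCat.ofHom (algebraMap k k') = CommRingCat.ofHom ιt ≫ CommRingCat.ofHom j := rfl
  let g : Spec (CommRingCat.of k') ⟶ G.U := Spec.map (CommRingCat.ofHom (algebraMap k k')) ≫ eU.inv
  let ρ : Spec (CommRingCat.of k') ⟶ G.R :=
    Spec.map (CommRingCat.ofHom j) ≫ G.R.fromSpecResidueField r
  have h1 : 𝟙 _ ≫ g = ρ ≫ G.t := by
    simp only [g, ρ, Category.id_comp, halg, Spec.map_comp, hιt, ft, Category.assoc,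
      Iso.hom_inv_id, Category.comp_id]
  let p1 := pullback.lift (𝟙 _) ρ h1
  let b : Spec (CommRingCat.of k') ⟶ Spec (CommRingCat.of k') :=
    Spec.map (CommRingCat.ofHom (σ : k' →+* k'))
  haveI hb : IsIso b := by
    haveI : IsIso (CommRingCat.ofHom (σ : k' →+* k')) := (RingEquiv.toCommRingCatIso σ).isIso_hom
    infer_instance
  have h2 : p1 ≫ (pullback.snd g G.t ≫ G.s) = b ≫ g := by
    have e1 : CommRingCat.ofHom ιs ≫ CommRingCat.ofHom j =
        (CommRingCat.ofHom ιt ≫ CommRingCat.ofHom j) ≫ CommRingCat.ofHom (σ : k' →+* k') := by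
      ext c
      exact (congr($hσ c)).symm
    simp only [p1, pullback.lift_snd_assoc, g, b, halg, ← Spec.map_comp_assoc, ← e1]
    simp only [ρ, Spec.map_comp, hιs, fs, Category.assoc, Iso.hom_inv_id, Category.comp_id]
  let q := pullback.lift p1 b h2
  let x₀ : Spec (CommRingCat.of k') := IsLocalRing.closedPoint k'
  refine ⟨q x₀, ?_, ?_, ?_⟩
  · have : q ≫ pullback.fst _ _ ≫ pullback.snd _ _ = ρ := by
      simp only [q, p1, pullback.lift_fst_assoc, pullback.lift_snd]
    rw [← Scheme.Hom.comp_apply, this]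
    exact Scheme.fromSpecResidueField_apply r _
  · haveI : IsIso (q ≫ pullback.snd (pullback.snd g G.t ≫ G.s) g) := by
      rw [pullback.lift_snd]; infer_instance
    exact isIso_residueFieldMap_of_isIso_comp q _ x₀
  · haveI : IsIso (q ≫ (pullback.fst (pullback.snd g G.t ≫ G.s) g ≫ pullback.fst g G.t)) := by
      simp only [q, p1, pullback.lift_fst_assoc, pullback.lift_fst]; infer_instance
    exact isIso_residueFieldMap_of_isIso_comp q _ x₀



/-- Let (U, R, s, t, c) be a groupoid scheme over S with U = Spec k for a field k, and let r be a point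
of R. Then there exist a field extension k -> k' with k' algebraically closed and a point r' of the
restriction R' of R along g : U' = Spec k' -> U, that is R' = (U' x_(g,U,t) R) x_(s pr, U, g) U'
with t' the projection to the first factor U' and s' the projection to the last factor U', such that
r' maps to r under R' -> R and both s' and t' induce isomorphisms on residue fields at r' (k' ->
κ(r') bijective). (A groupoid scheme carries U, R, s, t, c, e, i over S with the groupoid axioms on
T-points; c is defined on the fibre product of s and t and sends a pair (a, b) with s(a) = t(b) to a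
composed with b.) -/
theorem result (S : Scheme.{u}) (G : Grpd.GroupoidScheme S) (k : Type u) [Field k] (eU : G.U ≅ Spec (CommRingCat.of k)) (r : G.R) : ∃ (k' : Type u) (_ : Field k') (_ : IsAlgClosed k') (_ : Algebra k k'), ∃ r' : ↑(pullback (pullback.snd (Spec.map (CommRingCat.ofHom (algebraMap k k')) ≫ eU.inv) G.t ≫ G.s) (Spec.map (CommRingCat.ofHom (algebraMap k k')) ≫ eU.inv)), (pullback.fst (pullback.snd (Spec.map (CommRingCat.ofHom (algebraMap k k')) ≫ eU.inv) G.t ≫ G.s) (Spec.map (CommRingCat.ofHom (algebraMap k k')) ≫ eU.inv) ≫ pullback.snd (Spec.map (CommRingCat.ofHom (algebraMap k k')) ≫ eU.inv) G.t) r' = r ∧ IsIso ((pullback.snd (pullback.snd (Spec.map (CommRingCat.ofHom (algebraMap k k')) ≫ eU.inv) G.t ≫ G.s) (Spec.map (CommRingCat.ofHom (algebraMap k k')) ≫ eU.inv)).residueFieldMap r') ∧ IsIso ((pullback.fst (pullback.snd (Spec.map (CommRingCat.ofHom (algebraMap k k')) ≫ eU.inv) G.t ≫ G.s) (Spec.map (CommRingCat.ofHom (algebraMap k k')) ≫ eU.inv) ≫ pullback.fst (Spec.map (CommRingCat.ofHom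 (algebraMap k k')) ≫ eU.inv) G.t).residueFieldMap r') := by
  exact main S G k eU r

end Groth.Agent.S7493
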