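import Groth.Statements.S7494
import Groth.Agent.Lib.Helper22.ActPts
-- import your own Groth.Agent.* helpers here

set_option autoImplicit false
universe u
open CategoryTheory MonoidalCategory CartesianMonoidalCategory MonObj GrpObj AlgebraicGeometry
open AlgGrp

namespace Groth.Agent.S7494

/-- Let G be a group scheme over S acting on a scheme X over S by a. The action is free, meaning that
for every scheme T over S and all T-points g of G and x of X with g · x = x one has g = 1, if and
only if the morphism G x_S X -> X x_S X, (g, x) ↦ (a(g, x), x), is a monomorphism of schemes. -/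
theorem result {S : Scheme.{u}} (G X : Over S) [GrpObj G] (a : AlgGrp.Action G X) : (∀ (T : Over S) (g : T ⟶ G) (x : T ⟶ X), lift g x ≫ a.act = x → g = toUnit T ≫ η[G]) ↔ Mono (lift a.act (snd G X)).left := by
  have hγ : ∀ (T : Over S) (g : T ⟶ G) (x : T ⟶ X),
      lift g x ≫ lift a.act (snd G X) = lift (Groth.Agent.Lib.helper22.smul a g x) x := by
    intro T g x
    rw [comp_lift, lift_snd]; rfl
  constructor
  · intro hfree
    have hmono : Mono (lift a.act (snd G X)) := by
      constructor
      intro T u v huv
      have hu : u = lift (u ≫ fst G X) (u ≫ snd G X) := by simp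
      have hv : v = lift (v ≫ fst G X) (v ≫ snd G X) := by simp
      rw [hu, hv, hγ, hγ] at huv
      have h1 := congrArg (fun f => f ≫ fst X X) huv
      have h2 := congrArg (fun f => f ≫ snd X X) huv
      simp only [lift_fst, lift_snd] at h1 h2
      rw [h2] at h1
      -- (v1⁻¹ * u1) • x = x
      have h3 : Groth.Agent.Lib.helper22.smul a ((v ≫ fst G X)⁻¹ * (u ≫ fst G X)) (v ≫ snd G X) =
          v ≫ snd G X := by
        rw [Groth.Agent.Lib.helper22.mul_smul, h1, Groth.Agent.Lib.helper22.inv_smul_smul]
      have h4 := hfree T _ _ h3
      rw [← Hom.one_def, inv_mul_eq_one] at h4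
      rw [hu, hv, h2, h4]
    infer_instance
  · intro hmono T g x hgx
    have hmono' : Mono (lift a.act (snd G X)) := (Over.forget S).mono_of_mono_map hmono
    have h1 : lift g x ≫ lift a.act (snd G X) = lift (1 : T ⟶ G) x ≫ lift a.act (snd G X) := by
      rw [hγ, hγ, Groth.Agent.Lib.helper22.one_smul]
      congr 1
    have h2 := (cancel_mono _).mp h1
    have h3 := congrArg (fun f => f ≫ fst G X) h2
    simpa [Hom.one_def] using h3

end Groth.Agent.S7494
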