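import Groth.Statements.S7496
import Mathlib
-- import your own Groth.Agent.* helpers here

set_option autoImplicit false
universe w u
open CategoryTheory CategoryTheory.Limits AlgebraicGeometry
open HTop

namespace Groth.Agent.S7496

open TopologicalSpace in
theorem main {T : Scheme.{u}} [QuasiSeparatedSpace T] (E : PreZeroHypercover.{w} T) :
    QuasiCompactCover E ↔ ∀ t : T, ∃ (n : ℕ) (i : Fin n → E.I₀) (V : ∀ j, (E.X (i j)).Opens),
      (∀ j, IsCompact (V j : Set (E.X (i j)))) ∧
        (⋃ j, ⇑(E.f (i j)) '' (V j : Set (E.X (i j)))) ∈ nhds t := by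
  constructor
  · intro hE t
    obtain ⟨U, hU, htU, -⟩ :=
      (Opens.isBasis_iff_nbhd.mp T.isBasis_affineOpens) (show t ∈ (⊤ : Opens T) from trivial)
    obtain ⟨n, i, V, hV, heq⟩ := QuasiCompactCover.exists_isAffineOpen_of_isCompact E
      (IsAffineOpen.isCompact hU)
    refine ⟨n, i, V, fun j => (hV j).isCompact, ?_⟩
    rw [heq]
    exact U.isOpen.mem_nhds htU
  · intro H
    refine ⟨fun {U} hU => ?_⟩
    apply IsCompactOpenCovered.of_isCompact_of_forall_exists_isCompactOpenCovered hU.isCompact
    intro x hx
    obtain ⟨n, i, V, hV, hN⟩ := H x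
    let N : Opens T := ⟨interior (⋃ j, ⇑(E.f (i j)) '' (V j : Set (E.X (i j)))), isOpen_interior⟩
    have hxmem : x ∈ U ⊓ N := ⟨hx, mem_interior_iff_mem_nhds.mpr hN⟩
    obtain ⟨W, hW, hxW, hWsub⟩ :=
      (Opens.isBasis_iff_nbhd.mp T.isBasis_affineOpens) hxmem
    have hW' : IsAffineOpen W := hW
    refine ⟨W, fun y hy => (hWsub hy).1, hxW, W.isOpen, ?_⟩
    refine IsCompactOpenCovered.of_finite (κ := Fin n) i
      (fun j => V j ⊓ (E.f (i j)) ⁻¹ᵁ W) ?_ ?_
    · intro j
      have : CompactSpace (V j) := isCompact_iff_compactSpace.mp (hV j)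
      have hc : IsCompact (((V j).ι ≫ E.f (i j)) ⁻¹ᵁ W : Set (V j)) :=
        Scheme.Hom.isCompact_preimage _ hW'.isCompact
      have h2 := hc.image (V j).ι.continuous
      have h3 : (V j).ι ''ᵁ ((V j).ι ⁻¹ᵁ ((E.f (i j)) ⁻¹ᵁ W)) = V j ⊓ (E.f (i j)) ⁻¹ᵁ W := by
        rw [Scheme.Hom.image_preimage_eq_opensRange_inf, Scheme.Opens.opensRange_ι]
      rw [← h3]
      exact h2
    · apply Set.Subset.antisymm
      · intro y hy
        simp only [Set.mem_iUnion, Set.mem_image] at hy
        obtain ⟨j, z, hz, rfl⟩ := hy
        exact hz.2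
      · intro y hy
        have hyN : y ∈ interior (⋃ j, ⇑(E.f (i j)) '' (V j : Set (E.X (i j)))) := (hWsub hy).2
        have := interior_subset hyN
        simp only [Set.mem_iUnion, Set.mem_image] at this ⊢
        obtain ⟨j, z, hz, rfl⟩ := this
        exact ⟨j, z, ⟨hz, hy⟩, rfl⟩

/-- Let T be a quasi-separated scheme and {f_i : T_i -> T} a family of morphisms. Then every affine open
of T is the union of the images of finitely many quasi-compact opens of the T_i (the
quasi-compactness condition in the definition of an fpqc covering) if and only if for every point t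
of T there are finitely many quasi-compact opens U_j of members T_(i_j) such that the union of the
f_(i_j)(U_j) is a neighbourhood of t. (The published statement also asks every f_i to be flat, on
both sides, and lists two more equivalent forms of the quasi-compactness condition; this row omits
flatness, which plays no part in the equivalence, and states only the equivalence of the
quasi-compactness condition with the neighbourhood condition.) -/
theorem result {T : Scheme.{u}} [QuasiSeparatedSpace T] (E : PreZeroHypercover.{w} T) : QuasiCompactCover E ↔ ∀ t : T, ∃ (n : ℕ) (i : Fin n → E.I₀) (V : ∀ j, (E.X (i j)).Opens), (∀ j, IsCompact (V j : Set (E.X (i j)))) ∧ (⋃ j, ⇑(E.f (i j)) '' (V j : Set (E.X (i j)))) ∈ nhds t := by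
  exact main E

end Groth.Agent.S7496
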