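import Groth.Statements.S7497
-- import your own Groth.Agent.* helpers here

set_option autoImplicit false
universe u
open CategoryTheory CategoryTheory.Limits AlgebraicGeometry
open HTop

namespace Groth.Agent.S7497

universe w w'

open TopologicalSpace.Opens in
lemma qc_bind {X : Scheme.{u}} (𝒰 : PreZeroHypercover.{w} X) [QuasiCompactCover 𝒰]
    (f : ∀ (x : 𝒰.I₀), PreZeroHypercover.{w'} (𝒰.X x)) [∀ x, QuasiCompactCover (f x)] :
    QuasiCompactCover (𝒰.bind f) where
  isCompactOpenCovered_of_isAffineOpen {U} hU := by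
    obtain ⟨s, hs, V, hcV, hU⟩ := hU.isCompactOpenCovered 𝒰
    have (i) (hi) : IsCompactOpenCovered ((f i).f ·) (V i hi) :=
      QuasiCompactCover.isCompactOpenCovered_of_isCompact (f i) (hcV i hi)
    choose t ht W hcW hV using this
    have : Finite s := hs
    have (i) (hi) : Finite (t i hi) := ht i hi
    refine .of_finite (κ := Σ (i : s), t i.1 i.2) (fun p ↦ ⟨p.1, p.2⟩) (fun p ↦ W _ p.1.2 _ p.2.2)
      (fun p ↦ hcW ..) ?_
    simpa [← hV, Set.iUnion_sigma, Set.iUnion_subtype, Set.image_iUnion, Set.image_image] using! hU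

/-- Let {f_i : T_i -> T} be a family of flat morphisms of schemes and {g_j : S_j -> T} an fpqc covering
such that for every j the family of base changes {S_j x_T T_i -> S_j} is an fpqc covering. Then {f_i
: T_i -> T} is an fpqc covering. (fpqc coverings are Mathlib's: flat, jointly surjective, every
affine open of the target covered by images of finitely many quasi-compact opens.) -/
theorem result {T : Scheme.{u}} (E : PreZeroHypercover.{u} T) (hflat : ∀ i, Flat (E.f i)) (𝒱 : Scheme.Cover Scheme.fpqcPrecoverage T) (hloc : ∀ j, (E.pullback₁ (𝒱.f j)).presieve₀ ∈ Scheme.fpqcPrecoverage (𝒱.X j)) : E.presieve₀ ∈ Scheme.fpqcPrecoverage T := by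
  have hloc' : ∀ j, (E.pullback₁ (𝒱.f j)).presieve₀ ∈ Scheme.qcPrecoverage (𝒱.X j) ∧
      (E.pullback₁ (𝒱.f j)).presieve₀ ∈ Scheme.precoverage @Flat (𝒱.X j) := hloc
  change E.presieve₀ ∈ Scheme.qcPrecoverage T ∧ E.presieve₀ ∈ Scheme.precoverage @Flat T
  have h𝒱 : 𝒱.presieve₀ ∈ Scheme.qcPrecoverage T ∧ 𝒱.presieve₀ ∈ Scheme.precoverage @Flat T :=
    𝒱.mem₀
  rw [Scheme.presieve₀_mem_qcPrecoverage_iff, Scheme.presieve₀_mem_precoverage_iff] at h𝒱 ⊢
  simp only [Scheme.presieve₀_mem_qcPrecoverage_iff, Scheme.presieve₀_mem_precoverage_iff] at hloc'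
  refine ⟨?_, ?_, hflat⟩
  · have : QuasiCompactCover 𝒱.toPreZeroHypercover := h𝒱.1
    have : ∀ j, QuasiCompactCover (E.pullback₁ (𝒱.f j)) := fun j => (hloc' j).1
    have hbind : QuasiCompactCover
        (𝒱.toPreZeroHypercover.bind (fun j => E.pullback₁ (𝒱.f j))) := qc_bind _ _
    exact QuasiCompactCover.of_hom
      (𝒱 := 𝒱.toPreZeroHypercover.bind (fun j => E.pullback₁ (𝒱.f j))) (𝒰 := E)
      ⟨fun ji => ji.2, fun ji => pullback.snd (𝒱.f ji.1) (E.f ji.2),
        fun ji => pullback.condition.symm⟩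
  · intro x
    obtain ⟨j, y, rfl⟩ := h𝒱.2.1 x
    obtain ⟨i, z, rfl⟩ := (hloc' j).2.1 y
    refine ⟨i, pullback.snd (𝒱.f j) (E.f i) z, ?_⟩
    change (E.f i) (pullback.snd (𝒱.f j) (E.f i) z) = (𝒱.f j) (pullback.fst (𝒱.f j) (E.f i) z)
    rw [← Scheme.Hom.comp_apply, ← Scheme.Hom.comp_apply, pullback.condition]

end Groth.Agent.S7497
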