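import Groth.Statements.S7498
import Mathlib
import Groth.Agent.S7457
-- import your own Groth.Agent.* helpers here

set_option autoImplicit false
universe u
open CategoryTheory CategoryTheory.Limits AlgebraicGeometry
open Grpd

namespace Groth.Agent.S7498

open Groth.Agent.S7457 in
lemma key {S : Scheme.{u}} (G : Grpd.GroupoidScheme S) {T : Scheme.{u}} (ρ ρ' : T ⟶ G.R)
    (hρ : ρ ≫ G.t = ρ' ≫ G.t) :
    ∃ φ : pullback G.s (ρ ≫ G.s) ≅ pullback G.s (ρ' ≫ G.s),
      φ.hom ≫ pullback.snd G.s (ρ' ≫ G.s) = pullback.snd G.s (ρ ≫ G.s) ∧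
      pullback.lift ρ (𝟙 T) (by rw [Category.id_comp]) ≫ φ.hom ≫ pullback.fst G.s (ρ' ≫ G.s)
        = ρ' := by
  have hg0 : (ρ' ≫ G.i) ≫ G.s = ρ ≫ G.t := by rw [Category.assoc, G.i_s, hρ]
  obtain ⟨g, hg⟩ : ∃ g : T ⟶ G.R, g = cmp G (ρ' ≫ G.i) ρ hg0 := ⟨_, rfl⟩
  have hgs : g ≫ G.s = ρ ≫ G.s := by rw [hg, cmp_s]
  have hgt : g ≫ G.t = ρ' ≫ G.s := by rw [hg, cmp_t, Category.assoc, G.i_t]
  have hρ'g : ρ' ≫ G.s = g ≫ G.t := hgt.symm
  have hρeq : cmp G ρ' g hρ'g = ρ := by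
    subst hg
    exact L1 G ρ' ρ hρ.symm _ _
  -- forward map
  have hc1 : pullback.fst G.s (ρ ≫ G.s) ≫ G.s =
      ((pullback.snd G.s (ρ ≫ G.s) ≫ g) ≫ G.i) ≫ G.t := by
    rw [Category.assoc, G.i_t, Category.assoc, hgs, pullback.condition]
  have hc2 : cmp G (pullback.fst G.s (ρ ≫ G.s)) ((pullback.snd G.s (ρ ≫ G.s) ≫ g) ≫ G.i) hc1 ≫ G.s
      = pullback.snd G.s (ρ ≫ G.s) ≫ ρ' ≫ G.s := by
    rw [cmp_s, Category.assoc, G.i_s, Category.assoc, hgt]
  obtain ⟨f, hf1, hf2⟩ : ∃ f : pullback G.s (ρ ≫ G.s) ⟶ pullback G.s (ρ' ≫ G.s),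
      f ≫ pullback.fst G.s (ρ' ≫ G.s) =
        cmp G (pullback.fst G.s (ρ ≫ G.s)) ((pullback.snd G.s (ρ ≫ G.s) ≫ g) ≫ G.i) hc1 ∧
      f ≫ pullback.snd G.s (ρ' ≫ G.s) = pullback.snd G.s (ρ ≫ G.s) :=
    ⟨pullback.lift _ _ hc2, pullback.lift_fst _ _ _, pullback.lift_snd _ _ _⟩
  -- backward map
  have hd1 : pullback.fst G.s (ρ' ≫ G.s) ≫ G.s = (pullback.snd G.s (ρ' ≫ G.s) ≫ g) ≫ G.t := by
    rw [Category.assoc, hgt, pullback.condition]
  have hd2 : cmp G (pullback.fst G.s (ρ' ≫ G.s)) (pullback.snd G.s (ρ' ≫ G.s) ≫ g) hd1 ≫ G.s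
      = pullback.snd G.s (ρ' ≫ G.s) ≫ ρ ≫ G.s := by
    rw [cmp_s, Category.assoc, hgs]
  obtain ⟨f', hf'1, hf'2⟩ : ∃ f' : pullback G.s (ρ' ≫ G.s) ⟶ pullback G.s (ρ ≫ G.s),
      f' ≫ pullback.fst G.s (ρ ≫ G.s) =
        cmp G (pullback.fst G.s (ρ' ≫ G.s)) (pullback.snd G.s (ρ' ≫ G.s) ≫ g) hd1 ∧
      f' ≫ pullback.snd G.s (ρ ≫ G.s) = pullback.snd G.s (ρ' ≫ G.s) :=
    ⟨pullback.lift _ _ hd2, pullback.lift_fst _ _ _, pullback.lift_snd _ _ _⟩
  refine ⟨⟨f, f', ?_, ?_⟩, hf2, ?_⟩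
  · apply pullback.hom_ext
    · rw [Category.assoc, hf'1, Category.id_comp, pre_cmp]
      have e2 : f ≫ pullback.snd G.s (ρ' ≫ G.s) ≫ g = pullback.snd G.s (ρ ≫ G.s) ≫ g := by
        rw [← Category.assoc, hf2]
      rw [cmp_congr G _ hf1 e2]
      exact L3 G _ _ (by rw [Category.assoc, hgs, pullback.condition]) _ _
    · rw [Category.assoc, hf'2, hf2, Category.id_comp]
  · apply pullback.hom_ext
    · rw [Category.assoc, hf1, Category.id_comp, pre_cmp]
      have e2 : f' ≫ (pullback.snd G.s (ρ ≫ G.s) ≫ g) ≫ G.i =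
          (pullback.snd G.s (ρ' ≫ G.s) ≫ g) ≫ G.i := by
        rw [← Category.assoc, ← Category.assoc, hf'2]
      rw [cmp_congr G _ hf'1 e2]
      exact L4 G _ _ _ _
    · rw [Category.assoc, hf2, hf'2, Category.id_comp]
  · show pullback.lift ρ (𝟙 T) _ ≫ f ≫ pullback.fst G.s (ρ' ≫ G.s) = ρ'
    rw [hf1, pre_cmp]
    have e1 : pullback.lift ρ (𝟙 T) (by rw [Category.id_comp]) ≫ pullback.fst G.s (ρ ≫ G.s)
        = cmp G ρ' g hρ'g := by
      rw [pullback.lift_fst, hρeq]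
    have e2 : pullback.lift ρ (𝟙 T) (by rw [Category.id_comp]) ≫
        (pullback.snd G.s (ρ ≫ G.s) ≫ g) ≫ G.i = g ≫ G.i := by
      rw [← Category.assoc, ← Category.assoc, pullback.lift_snd, Category.id_comp]
    rw [cmp_congr G _ e1 e2]
    exact L4 G _ _ _ _

/-- Let (U, R, s, t, c) be a groupoid scheme over S and r, r' points of R with t(r) = t(r'); put u =
s(r), u' = s(r') and let F_u, F_u' be the scheme-theoretic fibres of s. Then there are a field k
which is a common extension of κ(u) and κ(u') (morphisms a, b : Spec k -> U with images u, u') and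
an isomorphism of the base changes (F_u)_k and (F_u')_k over Spec k, which moreover can be chosen to
send some point lying over r to a point lying over r'. (The published statement also compares the
germs of s at r and at r' when s and t are flat or flat of finite presentation; this row omits
that.) (A groupoid scheme carries U, R, s, t, c, e, i over S with the groupoid axioms on T-points; c
is defined on the fibre product of s and t and sends a pair (a, b) with s(a) = t(b) to a composed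
with b.) -/
theorem result (S : Scheme.{u}) (G : Grpd.GroupoidScheme S) (r r' : G.R) (h : G.t r = G.t r') : ∃ (k : Type u) (_ : Field k) (a b : Spec (CommRingCat.of k) ⟶ G.U) (φ : pullback G.s a ≅ pullback G.s b) (p : ↑(pullback G.s a)), a (IsLocalRing.closedPoint k) = G.s r ∧ b (IsLocalRing.closedPoint k) = G.s r' ∧ φ.hom ≫ pullback.snd G.s b = pullback.snd G.s a ∧ pullback.fst G.s a p = r ∧ pullback.fst G.s b (φ.hom p) = r' := by
  obtain ⟨w, hw1, hw2⟩ :=
    Scheme.Pullback.exists_preimage_pullback (f := G.t) (g := G.t) r r' h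
  have hρ : ((pullback G.t G.t).fromSpecResidueField w ≫ pullback.fst G.t G.t) ≫ G.t =
      ((pullback G.t G.t).fromSpecResidueField w ≫ pullback.snd G.t G.t) ≫ G.t := by
    rw [Category.assoc, Category.assoc, pullback.condition]
  obtain ⟨φ, hφ1, hφ2⟩ := key G _ _ hρ
  have hpt : ((pullback G.t G.t).fromSpecResidueField w)
      (IsLocalRing.closedPoint ↑((pullback G.t G.t).residueField w)) = w :=
    Scheme.fromSpecResidueField_apply w _
  refine ⟨(pullback G.t G.t).residueField w, inferInstance, _, _, φ,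
    (pullback.lift ((pullback G.t G.t).fromSpecResidueField w ≫ pullback.fst G.t G.t) (𝟙 _)
      (by rw [Category.id_comp]))
      (IsLocalRing.closedPoint ((pullback G.t G.t).residueField w)), ?_, ?_, hφ1, ?_, ?_⟩
  · simp only [Scheme.Hom.comp_apply]
    rw [hpt, hw1]
  · simp only [Scheme.Hom.comp_apply]
    rw [hpt, hw2]
  · rw [← Scheme.Hom.comp_apply, pullback.lift_fst]
    simp only [Scheme.Hom.comp_apply]
    rw [hpt, hw1]
  · rw [← Scheme.Hom.comp_apply, ← Scheme.Hom.comp_apply, hφ2]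
    simp only [Scheme.Hom.comp_apply]
    rw [hpt, hw2]

end Groth.Agent.S7498
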