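import Groth.Statements.S7500
import Mathlib
import Groth.Agent.S7457
-- import your own Groth.Agent.* helpers here

set_option autoImplicit false
universe u
open CategoryTheory CategoryTheory.Limits AlgebraicGeometry
open Grpd

namespace Groth.Agent.S7500

lemma key {S : Scheme.{u}} (G : Grpd.GroupoidScheme S) {Z : Scheme.{u}} (g : Z ⟶ G.R) (v : Z ⟶ G.U)
    (hZ : IsPullback g v G.j G.diag)
    (α : pullback v G.t ⟶ pullback G.s G.t)
    (hα₁ : α ≫ pullback.fst G.s G.t = pullback.fst v G.t ≫ g)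
    (hα₂ : α ≫ pullback.snd G.s G.t = pullback.snd v G.t)
    (β : pullback v G.t ⟶ pullback G.j G.j)
    (hβ₁ : β ≫ pullback.fst G.j G.j = α ≫ G.c)
    (hβ₂ : β ≫ pullback.snd G.j G.j = pullback.snd v G.t) : IsIso β := by
  have hjt : G.j ≫ pullback.fst G.pU G.pU = G.t := pullback.lift_fst _ _ _
  have hjs : G.j ≫ pullback.snd G.pU G.pU = G.s := pullback.lift_snd _ _ _
  have hdf : G.diag ≫ pullback.fst G.pU G.pU = 𝟙 _ := pullback.lift_fst _ _ _
  have hds : G.diag ≫ pullback.snd G.pU G.pU = 𝟙 _ := pullback.lift_snd _ _ _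
  have ht : pullback.fst G.j G.j ≫ G.t = pullback.snd G.j G.j ≫ G.t := by
    rw [← hjt, ← Category.assoc, ← Category.assoc, pullback.condition]
  have hs : pullback.fst G.j G.j ≫ G.s = pullback.snd G.j G.j ≫ G.s := by
    rw [← hjs, ← Category.assoc, ← Category.assoc, pullback.condition]
  have hγc : pullback.fst G.j G.j ≫ G.s = (pullback.snd G.j G.j ≫ G.i) ≫ G.t := by
    rw [Category.assoc, G.i_t, hs]
  have hγj : Groth.Agent.S7457.cmp G (pullback.fst G.j G.j) (pullback.snd G.j G.j ≫ G.i) hγc ≫ G.j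
      = (pullback.snd G.j G.j ≫ G.t) ≫ G.diag := by
    apply pullback.hom_ext
    · simp only [Category.assoc, hjt, hdf, Category.comp_id, Groth.Agent.S7457.cmp_t]
      exact ht
    · simp only [Category.assoc, hjs, hds, Category.comp_id, Groth.Agent.S7457.cmp_s, G.i_s]
  obtain ⟨σ, hσ1, hσ2⟩ : ∃ σ : pullback G.j G.j ⟶ Z,
      σ ≫ g = Groth.Agent.S7457.cmp G (pullback.fst G.j G.j) (pullback.snd G.j G.j ≫ G.i) hγc ∧
      σ ≫ v = pullback.snd G.j G.j ≫ G.t :=
    ⟨hZ.lift _ _ hγj, hZ.lift_fst _ _ _, hZ.lift_snd _ _ _⟩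
  have hαc : α ≫ G.c = Groth.Agent.S7457.cmp G (pullback.fst v G.t ≫ g) (pullback.snd v G.t)
      (by rw [← hα₁, ← hα₂, Category.assoc, Category.assoc, pullback.condition]) := by
    rw [Groth.Agent.S7457.hom_c, Groth.Agent.S7457.cmp_congr G _ hα₁ hα₂]
  obtain ⟨ψ, hψ1, hψ2⟩ : ∃ ψ : pullback G.j G.j ⟶ pullback v G.t,
      ψ ≫ pullback.fst v G.t = σ ∧ ψ ≫ pullback.snd v G.t = pullback.snd G.j G.j :=
    ⟨pullback.lift σ (pullback.snd G.j G.j) hσ2, pullback.lift_fst _ _ _, pullback.lift_snd _ _ _⟩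
  refine ⟨⟨ψ, ?_, ?_⟩⟩
  · apply pullback.hom_ext
    · rw [Category.assoc, hψ1, Category.id_comp]
      apply hZ.hom_ext
      · rw [Category.assoc, hσ1, Groth.Agent.S7457.pre_cmp]
        have e2 : β ≫ pullback.snd G.j G.j ≫ G.i = pullback.snd v G.t ≫ G.i := by
          rw [← Category.assoc, hβ₂]
        rw [Groth.Agent.S7457.cmp_congr G _ (hβ₁.trans hαc) e2]
        exact Groth.Agent.S7457.L4 G _ _ _ _
      · rw [Category.assoc, hσ2, ← Category.assoc, hβ₂]
        exact pullback.condition.symm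
    · rw [Category.assoc, hψ2, Category.id_comp, hβ₂]
  · apply pullback.hom_ext
    · rw [Category.assoc, hβ₁, Category.id_comp, ← Category.assoc, Groth.Agent.S7457.hom_c]
      have e1 : (ψ ≫ α) ≫ pullback.fst G.s G.t =
          Groth.Agent.S7457.cmp G (pullback.fst G.j G.j) (pullback.snd G.j G.j ≫ G.i) hγc := by
        rw [Category.assoc, hα₁, ← Category.assoc, hψ1, hσ1]
      have e2 : (ψ ≫ α) ≫ pullback.snd G.s G.t = pullback.snd G.j G.j := by
        rw [Category.assoc, hα₂, hψ2]
      rw [Groth.Agent.S7457.cmp_congr G _ e1 e2]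
      exact Groth.Agent.S7457.L3 G _ _ hs _ _
    · rw [Category.assoc, hβ₂, hψ2, Category.id_comp]

/-- Let (U, R, s, t, c) be a groupoid scheme over S and G -> U its stabilizer group scheme (the base
change of j = (t, s) along the diagonal). The action of G on R by composition, base changed to G_0 =
G x_(U, pr_0) (U x_S U), makes R a pseudo G_0-torsor over U x_S U. Concretely: let α : G x_(U, t) R
-> R x_(s, U, t) R be the morphism with components (γ viewed in R, r) and β : G x_(U, t) R -> R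
x_(j, U x_S U, j) R the morphism with components (c ∘ α, r); then β is an isomorphism. (A groupoid
scheme carries U, R, s, t, c, e, i over S with the groupoid axioms on T-points; c is defined on the
fibre product of s and t and sends a pair (a, b) with s(a) = t(b) to a composed with b.) -/
theorem result (S : Scheme.{u}) (G : Grpd.GroupoidScheme S) (α : pullback G.stabilizerToU G.t ⟶ pullback G.s G.t) (hα₁ : α ≫ pullback.fst G.s G.t = pullback.fst G.stabilizerToU G.t ≫ pullback.fst G.j G.diag) (hα₂ : α ≫ pullback.snd G.s G.t = pullback.snd G.stabilizerToU G.t) (β : pullback G.stabilizerToU G.t ⟶ pullback G.j G.j) (hβ₁ : β ≫ pullback.fst G.j G.j = α ≫ G.c) (hβ₂ : β ≫ pullback.snd G.j G.j = pullback.snd G.stabilizerToU G.t) : IsIso β := by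
  exact key G (pullback.fst G.j G.diag) G.stabilizerToU (IsPullback.of_hasPullback G.j G.diag)
    α hα₁ hα₂ β hβ₁ hβ₂

end Groth.Agent.S7500
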