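import Groth.Statements.S7501
-- import your own Groth.Agent.* helpers here

set_option autoImplicit false
universe w u
open HTop

namespace Groth.Agent.S7501

open CategoryTheory CategoryTheory.Limits AlgebraicGeometry

universe w'

/-- The sieve `S` contains all composites of a proper surjective morphism with the arrows of a
Zariski covering sieve of its source. -/
def PhShape {X : Scheme.{u}} (S : Sieve X) : Prop :=
  ∃ (P : Scheme.{u}) (p : P ⟶ X) (Z : Sieve P), IsProper p ∧ Surjective p ∧
    Z ∈ Scheme.zariskiTopology P ∧ ∀ ⦃Y : Scheme.{u}⦄ (k : Y ⟶ P), Z k → S (k ≫ p)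

theorem phShape_pullback {X Y : Scheme.{u}} (S : Sieve X) (hS : PhShape S) (f : Y ⟶ X) :
    PhShape (S.pullback f) := by
  obtain ⟨P, p, Z, hp, hs, hZ, hZS⟩ := hS
  refine ⟨pullback p f, pullback.snd p f, Z.pullback (pullback.fst p f), inferInstance,
    inferInstance, Scheme.zariskiTopology.pullback_stable _ hZ, ?_⟩
  intro Y' k hk
  show S ((k ≫ pullback.snd p f) ≫ f)
  rw [Category.assoc, ← pullback.condition, ← Category.assoc]
  exact hZS _ hk

theorem isSheafFor_of_phShape (F : Scheme.{u}ᵒᵖ ⥤ Type w)
    (h₁ : Presieve.IsSheaf Scheme.zariskiTopology F)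
    (h₂ : ∀ (U V : Scheme.{u}) (f : V ⟶ U), IsProper f → Surjective f →
      Presieve.IsSheafFor F (Presieve.singleton f))
    {X : Scheme.{u}} (S : Sieve X) (hS : PhShape S) : Presieve.IsSheafFor F S.arrows := by
  obtain ⟨P, p, Z, hp, hs, hZ, hZS⟩ := hS
  refine Presieve.isSheafFor_trans F (Sieve.generate (Presieve.singleton p)) S ?_ ?_ ?_
  · rw [← Presieve.isSheafFor_iff_generate]
    exact h₂ _ _ p hp hs
  · intro Y f _
    rw [← Sieve.pullbackArrows_comm, ← Presieve.isSeparatedFor_iff_generate,
      Presieve.pullback_singleton]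
    exact (h₂ _ _ (pullback.snd p f) inferInstance inferInstance).isSeparatedFor
  · intro Y f hf
    obtain ⟨_, g, _, ⟨⟩, rfl⟩ := hf
    apply h₁ _ (Scheme.zariskiTopology.superset_covering ?_
      (Scheme.zariskiTopology.pullback_stable g hZ))
    intro Y' k hk
    show S (k ≫ g ≫ p)
    rw [← Category.assoc]
    exact hZS _ hk

theorem phShape_of_isPhCover {X : Scheme.{u}} (E : PreZeroHypercover.{w'} X) (hE : IsPhCover E)
    {W : Scheme.{u}} [IsAffine W] (j : W ⟶ X) [IsOpenImmersion j] :
    PhShape ((Sieve.generate E.presieve₀).pullback j) := by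
  have hU : j.opensRange ∈ X.affineOpens := isAffineOpen_opensRange j
  obtain ⟨G, hG, href⟩ := hE.2 ⟨j.opensRange, hU⟩
  obtain ⟨P, p, ι, hp, hs, hopen, hcomp, hcov⟩ := hG.exists_proper
  have key : PhShape ((Sieve.generate E.presieve₀).pullback j.opensRange.ι) := by
    let 𝒱 : P.OpenCover := Scheme.Cover.mkOfCovers G.I₀ G.X ι (fun x => by
      obtain ⟨k, y, hy⟩ := hcov x
      exact ⟨k, y, hy⟩) hopen
    refine ⟨P, p, Sieve.ofArrows 𝒱.X 𝒱.f, hp, hs, 𝒱.mem_grothendieckTopology, ?_⟩
    rintro Y k ⟨Y', a, _, ⟨l⟩, rfl⟩
    let l' : G.I₀ := l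
    let a' : _ ⟶ G.X l' := a
    obtain ⟨i, h, hh⟩ := href l'
    show Sieve.generate E.presieve₀ (((a' ≫ ι l') ≫ p) ≫ j.opensRange.ι)
    refine ⟨_, a' ≫ h, E.f i, ⟨i⟩, ?_⟩
    have e1 : h ≫ E.f i = G.f l' ≫ j.opensRange.ι := hh
    rw [Category.assoc, e1, Category.assoc, Category.assoc, ← hcomp l', Category.assoc]
  have := phShape_pullback _ key j.isoOpensRange.hom
  rwa [← Sieve.pullback_comp, Scheme.Hom.isoOpensRange_hom_ι] at this

/-- Let F be a presheaf of sets on the category of schemes. If F is a sheaf for the Zariski topology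
and, for every proper surjective morphism f : V -> U, F has the sheaf property for the one-arrow
family {f} (sections over V whose two pullbacks to V x_U V agree come from exactly one section over
U), then F has the sheaf property for every ph covering. (The published statement is an equivalence
for presheaves on the big ph site of a base scheme and adds that, for a Zariski sheaf, the condition
on proper surjective morphisms may be asked only for affine targets; this row states, for presheaves
on all schemes, only that the two conditions imply the sheaf property for ph coverings.) -/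
theorem result (F : Scheme.{u}ᵒᵖ ⥤ Type w) (h₁ : Presieve.IsSheaf Scheme.zariskiTopology F) (h₂ : ∀ (U V : Scheme.{u}) (f : V ⟶ U), IsProper f → Surjective f → Presieve.IsSheafFor F (Presieve.singleton f)) : HTop.IsPhSheaf F := by
  intro X R hR
  rw [phPrecoverage, PreZeroHypercoverFamily.mem_precoverage_iff] at hR
  obtain ⟨E, hE, rfl⟩ := hR
  refine X.affineOneHypercover.isSheafFor_of_pullback h₁ (fun i => ?_) (fun i j k => ?_)
  · have : IsAffine (X.affineOneHypercover.X i) := by
      show IsAffine (X.affineCover.X i)
      infer_instance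
    have : IsOpenImmersion (X.affineOneHypercover.f i) := by
      show IsOpenImmersion (X.affineCover.f i)
      infer_instance
    exact isSheafFor_of_phShape F h₁ h₂ _ (phShape_of_isPhCover E hE _)
  · have : IsAffine (X.affineOneHypercover.X i) := by
      show IsAffine (X.affineCover.X i)
      infer_instance
    have : IsOpenImmersion (X.affineOneHypercover.f i) := by
      show IsOpenImmersion (X.affineCover.f i)
      infer_instance
    rw [Sieve.pullback_comp]
    exact (isSheafFor_of_phShape F h₁ h₂ _
      (phShape_pullback _ (phShape_of_isPhCover E hE _) _)).isSeparatedFor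

end Groth.Agent.S7501
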