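import Groth.Statements.S7503
import Mathlib
import Groth.Agent.Lib.Helper21.GrpdPair
-- import your own Groth.Agent.* helpers here

set_option autoImplicit false
universe u
open CategoryTheory CategoryTheory.Limits AlgebraicGeometry
open Grpd

namespace Groth.Agent.S7503

/-- Let (U, R, s, t, c) be a groupoid scheme over S with U the spectrum of a perfect field and let Z be
the reduced closed subscheme of U x_S U whose underlying set is the closure of the image of j = (t,
s). Then (U, Z, pr_0|_Z, pr_1|_Z, pr_02) is a groupoid scheme over S; stated as: there are a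
groupoid scheme G' over S with G'.R reduced and an isomorphism of schemes over S from G'.U to U such
that j' = (t', s') : G'.R -> G'.U x_S G'.U is a closed immersion and the image of j' followed by the
induced isomorphism G'.U x_S G'.U -> U x_S U is the closure of the image of j. (No morphism from (U,
R, s, t, c) to G' is asserted: when R is not reduced, j need not factor through the reduced
subscheme Z.) (A groupoid scheme carries U, R, s, t, c, e, i over S with the groupoid axioms on
T-points; c is defined on the fibre product of s and t and sends a pair (a, b) with s(a) = t(b) to a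
composed with b.) -/
theorem result (S : Scheme.{u}) (G : Grpd.GroupoidScheme S) (k : Type u) [Field k] [PerfectField k] (eU : G.U ≅ Spec (CommRingCat.of k)) : ∃ (G' : Grpd.GroupoidScheme S) (ψ : G'.U ≅ G.U) (hψ : ψ.hom ≫ G.pU = G'.pU), IsReduced G'.R ∧ IsClosedImmersion G'.j ∧ Set.range ⇑(G'.j ≫ pullback.map G'.pU G'.pU G.pU G.pU ψ.hom ψ.hom (𝟙 S) ((Category.comp_id _).trans hψ.symm) ((Category.comp_id _).trans hψ.symm)) = closure (Set.range ⇑G.j) := by
  obtain ⟨G', ψ, hiso, hcl, hred, hrange⟩ :=
    Groth.Agent.Lib.helper21.GrpdImage.exists_reduced_image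
      (Groth.Agent.Lib.helper21.GrpdImage.toPair G) k eU
  obtain ⟨ψU, hψU⟩ : ∃ ψU : G'.U ⟶ G.U, ψU = ψ.fU := ⟨ψ.fU, rfl⟩
  haveI : IsIso ψU := by
    rw [hψU]
    exact hiso
  have hψ : (asIso ψU).hom ≫ G.pU = G'.pU := by
    show ψU ≫ G.pU = G'.pU
    rw [hψU]
    exact ψ.fU_over
  have hkey : (ψ.fR : G'.R ⟶ pullback G.pU G.pU) =
      G'.j ≫ pullback.map G'.pU G'.pU G.pU G.pU (asIso ψU).hom (asIso ψU).hom (𝟙 S)
        ((Category.comp_id _).trans hψ.symm) ((Category.comp_id _).trans hψ.symm) := by
    apply pullback.hom_ext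
    · rw [Category.assoc, pullback.lift_fst, Grpd.GroupoidScheme.j, pullback.lift_fst_assoc]
      show _ = G'.t ≫ ψU
      rw [hψU]
      exact ψ.comm_t
    · rw [Category.assoc, pullback.lift_snd, Grpd.GroupoidScheme.j, pullback.lift_snd_assoc]
      show _ = G'.s ≫ ψU
      rw [hψU]
      exact ψ.comm_s
  refine ⟨G', asIso ψU, hψ, hred, ?_, ?_⟩
  · haveI : IsClosedImmersion (G'.j ≫ pullback.map G'.pU G'.pU G.pU G.pU (asIso ψU).hom
        (asIso ψU).hom (𝟙 S) ((Category.comp_id _).trans hψ.symm)
        ((Category.comp_id _).trans hψ.symm)) := by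
      rw [← hkey]
      exact hcl
    have h2 : G'.j = (G'.j ≫ pullback.map G'.pU G'.pU G.pU G.pU (asIso ψU).hom
        (asIso ψU).hom (𝟙 S) ((Category.comp_id _).trans hψ.symm)
        ((Category.comp_id _).trans hψ.symm)) ≫ inv (pullback.map G'.pU G'.pU G.pU G.pU
        (asIso ψU).hom (asIso ψU).hom (𝟙 S) ((Category.comp_id _).trans hψ.symm)
        ((Category.comp_id _).trans hψ.symm)) := by
      rw [Category.assoc, IsIso.hom_inv_id, Category.comp_id]
    rw [h2]
    infer_instance
  · rw [← hkey]
    exact hrange

end Groth.Agent.S7503
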