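import Groth.Statements.S7505
import Mathlib
import Groth.Agent.Lib.Helper28.GrpdStab
import Groth.Agent.Lib.Helper28.GrpdLocal
-- import your own Groth.Agent.* helpers here

set_option autoImplicit false
universe u
open CategoryTheory CategoryTheory.Limits AlgebraicGeometry
open Grpd

namespace Groth.Agent.S7505

open Groth.Agent.Lib.helper28.GrpdLocal Groth.Agent.Lib.helper28.GrpdStab

lemma aux (S : Scheme.{u}) (G : Grpd.GroupoidScheme S)
    (Q : MorphismProperty Scheme.{u}) [Q.IsStableUnderBaseChange] [Q.IsStableUnderComposition]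
    (hQ1 : ∀ {X Y : Scheme.{u}} (f : X ⟶ Y), IsOpenImmersion f → Q f)
    (hQ2 : ∀ {X Y : Scheme.{u}} (f : X ⟶ Y), Q f → IsOpenMap f)
    (K : Precoverage Scheme.{u}) (hK : K = Scheme.precoverage Q)
    (P : MorphismProperty Scheme.{u}) [P.IsLocalAtTarget K]
    (hs : Presieve.singleton G.s ∈ K G.U) (ht : Presieve.singleton G.t ∈ K G.U)
    (W : G.U.Opens) (hW : P (G.stabilizerToU ∣_ W))
    (hmax : ∀ W' : G.U.Opens, P (G.stabilizerToU ∣_ W') → W' ≤ W) :
    G.s ⁻¹ᵁ W = G.t ⁻¹ᵁ W := by
  subst hK
  rw [Scheme.singleton_mem_precoverage_iff] at hs ht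
  exact preimage_s_eq_preimage_t G Q hQ1 hQ2 P hs.2 ht G.stabilizerToU
    (pullback.fst G.stabilizerToU G.s) (φ G ≫ pullback.fst G.stabilizerToU G.t)
    (pullback.snd G.stabilizerToU G.s) (IsPullback.of_hasPullback G.stabilizerToU G.s)
    (isPullback_conj G) W hW hmax

/-- Let (U, R, s, t, c) be a groupoid scheme over S with stabilizer group scheme G -> U, let τ be the
étale, smooth or fppf topology (given as the corresponding precoverage K), and let P be a property
of scheme morphisms that is τ-local on the target. (The published statement also allows the syntomic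
topology; this row omits it.) Assume {s : R -> U} and {t : R -> U} are τ-coverings. If W is the
largest open subscheme of U such that the restriction G_W -> W of the stabilizer has P, then W is
R-invariant: s^{-1}(W) = t^{-1}(W). (A groupoid scheme carries U, R, s, t, c, e, i over S with the
groupoid axioms on T-points; c is defined on the fibre product of s and t and sends a pair (a, b)
with s(a) = t(b) to a composed with b.) -/
theorem result (S : Scheme.{u}) (G : Grpd.GroupoidScheme S) (K : Precoverage Scheme.{u}) (hK : K = Scheme.etalePrecoverage ∨ K = Scheme.precoverage @Smooth ∨ K = Scheme.fppfPrecoverage) (P : MorphismProperty Scheme.{u}) [P.IsLocalAtTarget K] (hs : Presieve.singleton G.s ∈ K G.U) (ht : Presieve.singleton G.t ∈ K G.U) (W : G.U.Opens) (hW : P (G.stabilizerToU ∣_ W)) (hmax : ∀ W' : G.U.Opens, P (G.stabilizerToU ∣_ W') → W' ≤ W) : G.s ⁻¹ᵁ W = G.t ⁻¹ᵁ W := by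
  rcases hK with hK | hK | hK
  · exact aux S G @Etale (fun f hf => inferInstance) (fun f hf => f.isOpenMap)
      K hK P hs ht W hW hmax
  · exact aux S G @Smooth (fun f hf => inferInstance) (fun f hf => f.isOpenMap)
      K hK P hs ht W hW hmax
  · exact aux S G (@Flat ⊓ @LocallyOfFinitePresentation) (fun f hf => ⟨inferInstance, inferInstance⟩)
      (fun f hf => by
        haveI : Flat f := hf.1
        haveI : LocallyOfFinitePresentation f := hf.2
        exact f.isOpenMap)
      K hK P hs ht W hW hmax

end Groth.Agent.S7505
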