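import Groth.Statements.S7506
import Mathlib
import Groth.Agent.Lib.Helper5.GSlice15

set_option autoImplicit false
universe u
open CategoryTheory CategoryTheory.Limits AlgebraicGeometry
open Grpd

namespace Groth.Agent.S7506

/-- Let (U, R, s, t, c, e, i) be a groupoid scheme over S with s and t Cohen-Macaulay and locally of
finite presentation, G -> U the stabilizer group scheme and u a finite type point of U. Put d_1 =
dim(G_u) and d_2 = dim_(e(u))(F_u) with F_u = s^{-1}(u). If d_2 > d_1, there exist an affine scheme
U', an immersion g : U' -> U locally of finite presentation and a point u' of U' with g(u') = u such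
that, writing h = s ∘ pr_1 : U' x_(g,U,t) R -> U and p for the point of U' x_(g,U,t) R with
projections u' and e(u), the morphism h is Cohen-Macaulay at p and the local dimension at p of the
fibre of h is d_2 - 1 (this fibre is the fibre F'_(u') of the restricted groupoid). Here a morphism
is Cohen-Macaulay when it is Cohen-Macaulay at every point of its source (flat there with
Cohen-Macaulay fibre local ring, Grpd.IsCMAt), a finite type point u is one for which Spec κ(u) -> U
is locally of finite type, dim_x of a fibre is the local dimension FlatMor.fibreDimAt, and G_u is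
the scheme-theoretic fibre of the stabilizer G -> U over u. (A groupoid scheme carries U, R, s, t,
c, e, i over S with the groupoid axioms on T-points; c is defined on the fibre product of s and t
and sends a pair (a, b) with s(a) = t(b) to a composed with b.) -/
theorem result (S : Scheme.{u}) (G : Grpd.GroupoidScheme S) [LocallyOfFinitePresentation G.s] [LocallyOfFinitePresentation G.t] (hs : ∀ r : G.R, Grpd.IsCMAt G.s r) (ht : ∀ r : G.R, Grpd.IsCMAt G.t r) (u : G.U) (hu : LocallyOfFiniteType (G.U.fromSpecResidueField u)) (hd : topologicalKrullDim ↥(G.stabilizerToU.fiber u) < FlatMor.fibreDimAt G.s (G.e u)) : ∃ (U' : Scheme.{u}) (_ : IsAffine U') (g : U' ⟶ G.U) (u' : U') (p : ↑(pullback g G.t)), IsImmersion g ∧ LocallyOfFinitePresentation g ∧ g u' = u ∧ pullback.fst g G.t p = u' ∧ pullback.snd g G.t p = G.e u ∧ Grpd.IsCMAt (pullback.snd g G.t ≫ G.s) p ∧ FlatMor.fibreDimAt (pullback.snd g G.t ≫ G.s) p + 1 = FlatMor.fibreDimAt G.s (G.e u) := by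
  classical
  haveI : Flat G.s := Flat.of_stalkMap _ fun r => (hs r).1
  haveI : Flat G.t := Flat.of_stalkMap _ fun r => (ht r).1
  haveI : LocCoh.IsCohenMacaulayLocalRing
      (Groth.Agent.Lib.helper17.FibreStalk.FibRing G.s (G.e u)) := (hs (G.e u)).2
  have hn : topologicalKrullDim ↥(G.stabilizerToU.fiber u) + ((1 : ℕ) : WithBot ℕ∞) ≤
      ringKrullDim (Groth.Agent.Lib.helper17.FibreStalk.FibRing G.s (G.e u)) := by
    rw [← Groth.Agent.Lib.helper5.GSlice.fibreDimAt_s_e G u]
    generalize topologicalKrullDim ↥(G.stabilizerToU.fiber u) = a at hd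
    generalize FlatMor.fibreDimAt G.s (G.e u) = b at hd
    induction a with
    | bot => simp
    | coe a =>
      induction b with
      | bot => simp at hd
      | coe b =>
        have h1 : a < b := by exact_mod_cast hd
        have h2 : a + 1 ≤ b := Order.add_one_le_of_lt h1
        exact_mod_cast h2
  obtain ⟨U', hU', g, u', hg1, hg2, hgu, hcm, hdim⟩ :=
    Groth.Agent.Lib.helper5.GSlice.exists_cm_slice G u hu 1 hn
  refine ⟨U', hU', g, u', Groth.Agent.Lib.helper5.GSlice.epsMap G g u', hg1, hg2, hgu, ?_, ?_,
    hcm, ?_⟩
  · rw [← Scheme.Hom.comp_apply, Groth.Agent.Lib.helper5.GSlice.epsMap_fst]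
    rfl
  · rw [← Scheme.Hom.comp_apply, Groth.Agent.Lib.helper5.GSlice.epsMap_snd, Scheme.Hom.comp_apply,
      hgu]
  · exact_mod_cast hdim

end Groth.Agent.S7506
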