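import Groth.Statements.S7509
import Mathlib
import Groth.Agent.Lib.Helper21.GrpdPair
import Groth.Agent.Lib.Helper21.GrpdImage4
-- import your own Groth.Agent.* helpers here

set_option autoImplicit false
universe u
open CategoryTheory CategoryTheory.Limits AlgebraicGeometry
open Grpd

namespace Groth.Agent.S7509

/-- Let (U, R, s, t, c) be a groupoid scheme over S with U the spectrum of a field and R quasi-compact
(equivalently s, t quasi-compact), and let Z be the scheme-theoretic image of j = (t, s) : R -> U
x_S U. Then (U, Z, pr_0|_Z, pr_1|_Z, pr_02) is a groupoid scheme over S; stated as: there are a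
groupoid scheme G' over S and a morphism of groupoid schemes φ : (U, R, s, t, c) -> G' which is an
isomorphism on object schemes, such that j' : G'.R -> G'.U x_S G'.U is a closed immersion whose
kernel ideal sheaf equals the kernel ideal sheaf of j followed by the induced isomorphism U x_S U ->
G'.U x_S G'.U (so G'.R is the scheme-theoretic image of j, transported). (A groupoid scheme carries
U, R, s, t, c, e, i over S with the groupoid axioms on T-points; c is defined on the fibre product
of s and t and sends a pair (a, b) with s(a) = t(b) to a composed with b.) -/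
theorem result (S : Scheme.{u}) (G : Grpd.GroupoidScheme S) (k : Type u) [Field k] (eU : G.U ≅ Spec (CommRingCat.of k)) [CompactSpace G.R] : ∃ (G' : Grpd.GroupoidScheme S) (φ : Grpd.GroupoidScheme.Hom G G'), IsIso φ.fU ∧ IsClosedImmersion G'.j ∧ G'.j.ker = (G.j ≫ pullback.map G.pU G.pU G'.pU G'.pU φ.fU φ.fU (𝟙 S) ((Category.comp_id _).trans φ.fU_over.symm) ((Category.comp_id _).trans φ.fU_over.symm)).ker := by
  haveI : QuasiSeparatedSpace ↥(pullback G.pU G.pU) :=
    Groth.Agent.Lib.helper21.GrpdImage.quasiSeparatedSpace_pullback_of_iso_spec_field G.pU k eU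
  haveI hqc : QuasiCompact G.j := inferInstance
  let f := Groth.Agent.Lib.helper21.GrpdImage.toPair G
  haveI : QuasiCompact f.fR := hqc
  haveI : IsIso f.fU := (inferInstance : IsIso (𝟙 G.U))
  have hflat : ∀ {W : Scheme.{u}} (h : W ⟶ (Groth.Agent.Lib.helper21.GrpdImage.pairGroupoid G.pU).U),
      Flat h := fun h => Groth.Agent.Lib.helper21.GrpdImage.flat_of_iso_spec_field k eU h
  let G' := Groth.Agent.Lib.helper21.GrpdImage.imageGroupoid f hflat
  let φ : Grpd.GroupoidScheme.Hom G G' := Groth.Agent.Lib.helper21.GrpdImage.toImageHom f hflat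
  have hj : (G'.j : f.fR.image ⟶ pullback G.pU G.pU) = f.fR.imageι := by
    apply pullback.hom_ext
    · rw [Grpd.GroupoidScheme.j, pullback.lift_fst]
      rfl
    · rw [Grpd.GroupoidScheme.j, pullback.lift_snd]
      rfl
  have hmap : (pullback.map G.pU G.pU G'.pU G'.pU φ.fU φ.fU (𝟙 S)
      ((Category.comp_id _).trans φ.fU_over.symm) ((Category.comp_id _).trans φ.fU_over.symm) :
      pullback G.pU G.pU ⟶ pullback G.pU G.pU) = 𝟙 _ := by
    apply pullback.hom_ext
    · rw [pullback.lift_fst]
      exact (Category.comp_id _).trans (Category.id_comp (pullback.fst G.pU G.pU)).symm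
    · rw [pullback.lift_snd]
      exact (Category.comp_id _).trans (Category.id_comp (pullback.snd G.pU G.pU)).symm
  refine ⟨G', φ, (inferInstance : IsIso (𝟙 G.U)), ?_, ?_⟩
  · show IsClosedImmersion (G'.j : f.fR.image ⟶ pullback G.pU G.pU)
    rw [hj]
    exact (inferInstance : IsClosedImmersion f.fR.imageι)
  · have h1 : (G.j ≫ (pullback.map G.pU G.pU G'.pU G'.pU φ.fU φ.fU (𝟙 S)
        ((Category.comp_id _).trans φ.fU_over.symm) ((Category.comp_id _).trans φ.fU_over.symm) :
        pullback G.pU G.pU ⟶ pullback G.pU G.pU)) = G.j := by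
      rw [hmap]
      exact Category.comp_id G.j
    show (G'.j : f.fR.image ⟶ pullback G.pU G.pU).ker = _
    rw [hj]
    refine Eq.trans (Scheme.IdealSheafData.ker_subschemeι _) ?_
    exact congrArg Scheme.Hom.ker h1.symm

end Groth.Agent.S7509
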