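import Groth.Statements.S7510
import Mathlib
import Groth.Agent.S7457
-- import your own Groth.Agent.* helpers here

set_option autoImplicit false
universe u
open CategoryTheory CategoryTheory.Limits AlgebraicGeometry
open Grpd

namespace Groth.Agent.S7510

open Groth.Agent.S7457

section
variable {P Q : MorphismProperty Scheme.{u}} [P.RespectsIso]
  (W : ∀ {X Y : Scheme.{u}} (f : X ⟶ Y), Q f → X.Opens)
  (hWP : ∀ {X Y : Scheme.{u}} (f : X ⟶ Y) (hf : Q f), P ((W f hf).ι ≫ f))
  (hWmax : ∀ {X Y : Scheme.{u}} (f : X ⟶ Y) (hf : Q f) (V : X.Opens), P (V.ι ≫ f) → V ≤ W f hf)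

omit [P.RespectsIso] in
lemma W_congr {X Y : Scheme.{u}} {f₁ f₂ : X ⟶ Y} (h : f₁ = f₂) (h₁ : Q f₁) (h₂ : Q f₂) :
    W f₁ h₁ = W f₂ h₂ := by
  subst h; rfl

include hWP hWmax in
lemma W_iso_le {X' Y Z : Scheme.{u}} (ε : Y ⟶ X') [IsIso ε] (f' : X' ⟶ Z) (h₁ : Q f')
    (h₂ : Q (ε ≫ f')) : ε ⁻¹ᵁ W f' h₁ ≤ W (ε ≫ f') h₂ := by
  apply hWmax
  have : (ε ⁻¹ᵁ W f' h₁).ι ≫ ε ≫ f' = (ε ∣_ W f' h₁) ≫ (W f' h₁).ι ≫ f' := by
    rw [← Category.assoc, ← morphismRestrict_ι, Category.assoc]
  rw [this, P.cancel_left_of_respectsIso]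
  exact hWP f' h₁

include hWP hWmax in
lemma W_iso {X' Y Z : Scheme.{u}} (ε : Y ⟶ X') [IsIso ε] (f' : X' ⟶ Z) (h₁ : Q f')
    (h₂ : Q (ε ≫ f')) : W (ε ≫ f') h₂ = ε ⁻¹ᵁ W f' h₁ := by
  refine le_antisymm ?_ (W_iso_le W hWP hWmax ε f' h₁ h₂)
  have h₃ : Q (inv ε ≫ ε ≫ f') := by rw [IsIso.inv_hom_id_assoc]; exact h₁
  have key := W_iso_le W hWP hWmax (inv ε) (ε ≫ f') h₂ h₃
  rw [W_congr W (IsIso.inv_hom_id_assoc ε f') h₃ h₁] at key
  intro x hx
  apply key
  show (inv ε) (ε x) ∈ W (ε ≫ f') h₂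
  rw [← Scheme.Hom.comp_apply, IsIso.hom_inv_id]
  exact hx

end

/-- Let (U, R, s, t, c, e, i) be a groupoid scheme over S and g : U' -> U a morphism; write h = s ∘ pr_1
: U' x_(g,U,t) R -> U. Let P, Q, R be properties of morphisms of schemes, with P invariant under
composition with isomorphisms, such that (1) R implies Q, (2) Q is stable under base change and
composition, (3) every morphism f : X -> Y with Q has a largest open W(P, f) of X on which the
restriction of f has P (given here as a function W with these two properties), and (4) for f with Q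
and a base change along Y' -> Y with R, the preimage of W(P, f) in X x_Y Y' is W(P, f') for the base
change f'. If s, t have R and g has Q, then there is an open W of U' whose preimage in U' x_(g,U,t)
R equals W(P, h). (The published statement speaks of arbitrary properties of morphisms; this row
asks P to be invariant under composition with isomorphisms, which the proof uses to identify the
largest opens on the two isomorphic fibre products of h with t and with s.) (A groupoid scheme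
carries U, R, s, t, c, e, i over S with the groupoid axioms on T-points; c is defined on the fibre
product of s and t and sends a pair (a, b) with s(a) = t(b) to a composed with b.) -/
theorem result (S : Scheme.{u}) (G : Grpd.GroupoidScheme S) {U' : Scheme.{u}} (g : U' ⟶ G.U) (P Q R : MorphismProperty Scheme.{u}) [P.RespectsIso] (hRQ : R ≤ Q) [Q.IsStableUnderBaseChange] [Q.IsStableUnderComposition] (W : ∀ {X Y : Scheme.{u}} (f : X ⟶ Y), Q f → X.Opens) (hWP : ∀ {X Y : Scheme.{u}} (f : X ⟶ Y) (hf : Q f), P ((W f hf).ι ≫ f)) (hWmax : ∀ {X Y : Scheme.{u}} (f : X ⟶ Y) (hf : Q f) (V : X.Opens), P (V.ι ≫ f) → V ≤ W f hf) (hWbc : ∀ {X Y Y' : Scheme.{u}} (f : X ⟶ Y) (hf : Q f) (b : Y' ⟶ Y), R b → ∀ hf' : Q (pullback.snd f b), pullback.fst f b ⁻¹ᵁ W f hf = W (pullback.snd f b) hf') (hs : R G.s) (ht : R G.t) (hg : Q g) (hh : Q (pullback.snd g G.t ≫ G.s)) : ∃ V : U'.Opens, pullback.fst g G.t ⁻¹ᵁ V = W (pullback.snd g G.t ≫ G.s) hh := by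
  classical
  set h : pullback g G.t ⟶ G.U := pullback.snd g G.t ≫ G.s with hh_def
  set pr01 : pullback h G.t ⟶ pullback g G.t := pullback.fst h G.t with hpr01
  set pr2 : pullback h G.t ⟶ G.R := pullback.snd h G.t with hpr2
  -- ν : Y → R ×_{s,t} R
  have hν : (pr01 ≫ pullback.snd g G.t) ≫ G.s = pr2 ≫ G.t := by
    rw [Category.assoc]; exact pullback.condition
  set ν : pullback h G.t ⟶ pullback G.s G.t :=
    pullback.lift (pr01 ≫ pullback.snd g G.t) pr2 hν with hνdef
  have hν1 : ν ≫ pullback.fst G.s G.t = pr01 ≫ pullback.snd g G.t := pullback.lift_fst _ _ _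
  have hν2 : ν ≫ pullback.snd G.s G.t = pr2 := pullback.lift_snd _ _ _
  have hνc : ν ≫ G.c = cmp G (pr01 ≫ pullback.snd g G.t) pr2 hν := rfl
  have ha : (pr01 ≫ pullback.fst g G.t) ≫ g = (ν ≫ G.c) ≫ G.t := by
    rw [hνc, cmp_t, Category.assoc, Category.assoc, pullback.condition]
  set a : pullback h G.t ⟶ pullback g G.t :=
    pullback.lift (pr01 ≫ pullback.fst g G.t) (ν ≫ G.c) ha with hadef
  have ha1 : a ≫ pullback.fst g G.t = pr01 ≫ pullback.fst g G.t := pullback.lift_fst _ _ _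
  have ha2 : a ≫ pullback.snd g G.t = ν ≫ G.c := pullback.lift_snd _ _ _
  -- the pullback squares
  have sqX : IsPullback (pullback.fst g G.t) (pullback.snd g G.t) g G.t :=
    IsPullback.of_hasPullback _ _
  have sqY : IsPullback pr01 pr2 h G.t := IsPullback.of_hasPullback _ _
  have sqRR : IsPullback (pullback.fst G.s G.t) (pullback.snd G.s G.t) G.s G.t :=
    IsPullback.of_hasPullback _ _
  have sqL : IsPullback ν pr01 (pullback.fst G.s G.t) (pullback.snd g G.t) := by
    refine IsPullback.of_right ?_ hν1 sqRR.flip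
    rw [hν2]
    exact sqY.flip
  have hct : G.c ≫ G.t = pullback.fst G.s G.t ≫ G.t := by
    have := hom_c G (𝟙 (pullback G.s G.t))
    rw [Category.id_comp] at this
    rw [this, cmp_t, Category.id_comp]
  have sqT : IsPullback (a ≫ pullback.fst g G.t) ν g (G.c ≫ G.t) := by
    rw [ha1, hct]
    exact sqL.flip.paste_horiz sqX
  have sqM : IsPullback a ν (pullback.snd g G.t) G.c := IsPullback.of_right sqT ha2 sqX
  have sqA : IsPullback a pr2 h G.s := by
    have := sqM.paste_vert (Groth.Agent.S7457.result S G).2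
    rw [hν2] at this
    exact this
  -- the comparison isomorphism
  set ε : pullback h G.t ≅ pullback h G.s := sqA.isoPullback with hε
  have hε1 : ε.hom ≫ pullback.fst h G.s = a := sqA.isoPullback_hom_fst
  have hε2 : ε.hom ≫ pullback.snd h G.s = pr2 := sqA.isoPullback_hom_snd
  have hQt : Q pr2 := Q.pullback_snd _ _ hh
  have hQs : Q (pullback.snd h G.s) := Q.pullback_snd _ _ hh
  have E1 : pr01 ⁻¹ᵁ W h hh = W pr2 hQt := hWbc h hh G.t ht hQt
  have E2 : pullback.fst h G.s ⁻¹ᵁ W h hh = W (pullback.snd h G.s) hQs := hWbc h hh G.s hs hQs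
  have E3 : a ⁻¹ᵁ W h hh = W pr2 hQt := by
    have hQ' : Q (ε.hom ≫ pullback.snd h G.s) := by rw [hε2]; exact hQt
    rw [← hε1, Scheme.Hom.comp_preimage, E2, ← W_iso W hWP hWmax ε.hom _ hQs hQ']
    exact W_congr W hε2 hQ' hQt
  -- the section of pr01
  have hm : 𝟙 (pullback g G.t) ≫ h = (pullback.snd g G.t ≫ G.i) ≫ G.t := by
    rw [Category.id_comp, Category.assoc, G.i_t]
  set m : pullback g G.t ⟶ pullback h G.t := pullback.lift (𝟙 _) (pullback.snd g G.t ≫ G.i) hm
    with hmdef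
  have hm1 : m ≫ pr01 = 𝟙 _ := pullback.lift_fst _ _ _
  have hm2 : m ≫ pr2 = pullback.snd g G.t ≫ G.i := pullback.lift_snd _ _ _
  have hσ : 𝟙 U' ≫ g = (g ≫ G.e) ≫ G.t := by
    rw [Category.id_comp, Category.assoc, G.e_t, Category.comp_id]
  set σ : U' ⟶ pullback g G.t := pullback.lift (𝟙 U') (g ≫ G.e) hσ with hσdef
  have hma : m ≫ a = pullback.fst g G.t ≫ σ := by
    apply pullback.hom_ext
    · rw [Category.assoc, ha1, ← Category.assoc, hm1, Category.id_comp, Category.assoc,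
        pullback.lift_fst, Category.comp_id]
    · have hr : (pullback.fst g G.t ≫ σ) ≫ pullback.snd g G.t = pullback.fst g G.t ≫ g ≫ G.e := by
        rw [Category.assoc, pullback.lift_snd]
      have e1 : m ≫ pr01 ≫ pullback.snd g G.t = pullback.snd g G.t := by
        rw [← Category.assoc, hm1, Category.id_comp]
      rw [hr, Category.assoc, ha2, hνc, pre_cmp, cmp_congr G _ e1 hm2]
      have := G.comp_i (pullback.snd g G.t)
      unfold Groth.Agent.S7457.cmp
      rw [this, ← Category.assoc, ← pullback.condition, Category.assoc]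
  refine ⟨σ ⁻¹ᵁ W h hh, ?_⟩
  calc pullback.fst g G.t ⁻¹ᵁ σ ⁻¹ᵁ W h hh
      = (pullback.fst g G.t ≫ σ) ⁻¹ᵁ W h hh := rfl
    _ = (m ≫ a) ⁻¹ᵁ W h hh := by rw [hma]
    _ = m ⁻¹ᵁ a ⁻¹ᵁ W h hh := rfl
    _ = m ⁻¹ᵁ pr01 ⁻¹ᵁ W h hh := by rw [E3, E1]
    _ = (m ≫ pr01) ⁻¹ᵁ W h hh := rfl
    _ = W h hh := by rw [hm1]; rfl

end Groth.Agent.S7510
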