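import Groth.Statements.S7511
-- import your own Groth.Agent.* helpers here

set_option autoImplicit false
universe u
open CategoryTheory CategoryTheory.Limits AlgebraicGeometry
open HTop

namespace Groth.Agent.S7511

lemma flat_desc_iff {T : Scheme.{u}} (E : PreZeroHypercover.{u} T) :
    Flat (Sigma.desc E.f) ↔ ∀ i, Flat (E.f i) := by
  rw [IsZariskiLocalAtSource.iff_of_openCover (P := @Flat) (sigmaOpenCover E.X)]
  refine forall_congr' fun i => ?_
  have : (sigmaOpenCover E.X).f i ≫ Sigma.desc E.f = E.f i := Sigma.ι_desc _ _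
  rw [this]
  exact Iff.rfl

lemma surjective_desc_iff {T : Scheme.{u}} (E : PreZeroHypercover.{u} T) :
    Function.Surjective (Sigma.desc E.f).base ↔ ∀ x, ∃ i, x ∈ Set.range (E.f i) := by
  constructor
  · intro h x
    obtain ⟨y, rfl⟩ := h x
    obtain ⟨⟨i, z⟩, rfl⟩ := (sigmaMk E.X).surjective y
    refine ⟨i, z, ?_⟩
    rw [sigmaMk_mk, ← Scheme.Hom.comp_apply, Sigma.ι_desc]
  · intro h x
    obtain ⟨i, z, rfl⟩ := h x
    refine ⟨Sigma.ι E.X i z, ?_⟩
    rw [← Scheme.Hom.comp_apply, Sigma.ι_desc]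

lemma qc_iff {T : Scheme.{u}} (E : PreZeroHypercover.{u} T) :
    QuasiCompactCover (PreZeroHypercover.singleton.{u} (Sigma.desc E.f)) ↔ QuasiCompactCover E := by
  constructor
  · intro h
    refine ⟨fun {U} hU => ?_⟩
    have h1 := hU.isCompactOpenCovered (PreZeroHypercover.singleton.{u} (Sigma.desc E.f))
    rw [IsCompactOpenCovered.iff_of_unique] at h1
    obtain ⟨V, hV, hVU⟩ := h1
    rw [IsCompactOpenCovered.iff_isCompactOpenCovered_sigmaMk, IsCompactOpenCovered.iff_of_unique]
    refine ⟨⟨(sigmaMk E.X) ⁻¹' V.1, V.2.preimage (sigmaMk E.X).continuous⟩, ?_, ?_⟩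
    · exact (sigmaMk E.X).isCompact_preimage.mpr hV
    · rw [← hVU]
      ext x
      constructor
      · rintro ⟨⟨i, z⟩, hz, rfl⟩
        refine ⟨sigmaMk E.X ⟨i, z⟩, hz, ?_⟩
        rw [sigmaMk_mk]
        change (Sigma.desc E.f) (Sigma.ι E.X i z) = E.f i z
        rw [← Scheme.Hom.comp_apply, Sigma.ι_desc]
      · rintro ⟨y, hy, rfl⟩
        obtain ⟨⟨i, z⟩, rfl⟩ := (sigmaMk E.X).surjective y
        refine ⟨⟨i, z⟩, hy, ?_⟩
        rw [sigmaMk_mk]
        change E.f i z = (Sigma.desc E.f) (Sigma.ι E.X i z)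
        rw [← Scheme.Hom.comp_apply, Sigma.ι_desc]
  · intro h
    exact QuasiCompactCover.of_hom (𝒱 := E) (𝒰 := PreZeroHypercover.singleton.{u} (Sigma.desc E.f))
      ⟨fun _ => PUnit.unit, fun i => Sigma.ι E.X i, fun i => Sigma.ι_desc _ _⟩

/-- Let {f_i : T_i -> T} be a family of morphisms of schemes (indexed by a type in the universe of T, so
that the coproduct exists). Then it is an fpqc covering if and only if the one-arrow family
consisting of the induced morphism from the coproduct of the T_i to T is an fpqc covering. -/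
theorem result {T : Scheme.{u}} (E : PreZeroHypercover.{u} T) : E.presieve₀ ∈ Scheme.fpqcPrecoverage T ↔ Presieve.singleton (Sigma.desc E.f) ∈ Scheme.fpqcPrecoverage T := by
  rw [← PreZeroHypercover.presieve₀_singleton.{_, _, u}]
  change (E.presieve₀ ∈ Scheme.qcPrecoverage T ∧ E.presieve₀ ∈ Scheme.precoverage @Flat T) ↔
    ((PreZeroHypercover.singleton.{u} (Sigma.desc E.f)).presieve₀ ∈ Scheme.qcPrecoverage T ∧
      (PreZeroHypercover.singleton.{u} (Sigma.desc E.f)).presieve₀ ∈ Scheme.precoverage @Flat T)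
  rw [Scheme.presieve₀_mem_qcPrecoverage_iff, Scheme.presieve₀_mem_qcPrecoverage_iff,
    Scheme.presieve₀_mem_precoverage_iff, PreZeroHypercover.presieve₀_singleton,
    Scheme.singleton_mem_precoverage_iff, qc_iff, flat_desc_iff, surjective_desc_iff]

end Groth.Agent.S7511
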