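import Groth.Statements.S7512
import Mathlib
-- import your own Groth.Agent.* helpers here

set_option autoImplicit false
universe w u
open HTop

namespace Groth.Agent.S7512

open CategoryTheory CategoryTheory.Limits AlgebraicGeometry TopologicalSpace in
theorem main {T : Scheme.{u}} (E : PreZeroHypercover.{w} T) (hflat : ∀ i, Flat (E.f i))
    (href : ∀ (Z : Scheme.{u}) [IsAffine Z] (h : Z ⟶ T), ∃ F : PreZeroHypercover.{0} Z,
      Finite F.I₀ ∧ (∀ j, IsAffine (F.X j)) ∧ (∀ j, Flat (F.f j)) ∧
      (∀ z : Z, ∃ (j : F.I₀) (x : F.X j), F.f j x = z) ∧ HTop.RefinesOver h F E) :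
    E.presieve₀ ∈ Scheme.fpqcPrecoverage T := by
  refine ⟨?_, ?_⟩
  · rw [Scheme.presieve₀_mem_qcPrecoverage_iff]
    refine ⟨fun {U} hU => ?_⟩
    haveI : IsAffine U := hU
    obtain ⟨F, hfin, haff, -, hcov, href'⟩ := href U U.ι
    haveI := hfin
    choose i g hg using href'
    have hK : ∀ j, ∃ W : Set (E.X (i j)), IsCompact W ∧ IsOpen W ∧ Set.range (g j) ⊆ W ∧
        W ⊆ (E.f (i j)) ⁻¹' (U : Set T) := by
      intro j
      haveI := haff j
      apply PrespectralSpace.exists_isCompact_and_isOpen_between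
      · exact isCompact_range (g j).continuous
      · exact (E.f (i j)).continuous.isOpen_preimage _ U.isOpen
      · rintro _ ⟨y, rfl⟩
        show (E.f (i j)) (g j y) ∈ U
        rw [← Scheme.Hom.comp_apply, hg j, Scheme.Hom.comp_apply]
        exact (F.f j y).2
    choose W hWc hWo hgW hWU using hK
    refine IsCompactOpenCovered.of_finite (κ := F.I₀) i (fun j => ⟨W j, hWo j⟩) (fun j => hWc j) ?_
    apply Set.Subset.antisymm
    · intro y hy
      simp only [Set.mem_iUnion, Set.mem_image] at hy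
      obtain ⟨j, z, hz, rfl⟩ := hy
      exact hWU j hz
    · intro y hy
      obtain ⟨j, x, hx⟩ := hcov ⟨y, hy⟩
      simp only [Set.mem_iUnion, Set.mem_image]
      refine ⟨j, g j x, hgW j ⟨x, rfl⟩, ?_⟩
      rw [← Scheme.Hom.comp_apply, hg j, Scheme.Hom.comp_apply, hx]
      rfl
  · rw [Scheme.presieve₀_mem_precoverage_iff]
    refine ⟨fun x => ?_, hflat⟩
    obtain ⟨U, hU, hxU, -⟩ := (Opens.isBasis_iff_nbhd.mp T.isBasis_affineOpens)
      (show x ∈ (⊤ : Opens T) from trivial)
    haveI : IsAffine (U : T.Opens) := hU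
    obtain ⟨F, -, -, -, hcov, href'⟩ := href (U : T.Opens) (Scheme.Opens.ι U)
    obtain ⟨j, y, hy⟩ := hcov ⟨x, hxU⟩
    obtain ⟨i, g, hg⟩ := href' j
    refine ⟨i, g y, ?_⟩
    rw [← Scheme.Hom.comp_apply, hg, Scheme.Hom.comp_apply, hy]
    rfl

open CategoryTheory CategoryTheory.Limits AlgebraicGeometry in
/-- Let {f_i : T_i -> T} be a family of flat morphisms of schemes. Assume that for every affine scheme Z
and every morphism h : Z -> T there is a standard fpqc covering of Z (a finite family of flat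
morphisms Z_j -> Z with Z_j affine whose images cover Z) refining the family of base changes {T_i
x_T Z -> Z} (every Z_j -> Z factors through some T_i compatibly with h). Then {f_i : T_i -> T} is an
fpqc covering (in Mathlib's sense). -/
theorem result {T : Scheme.{u}} (E : PreZeroHypercover.{w} T) (hflat : ∀ i, Flat (E.f i)) (href : ∀ (Z : Scheme.{u}) [IsAffine Z] (h : Z ⟶ T), ∃ F : PreZeroHypercover.{0} Z, Finite F.I₀ ∧ (∀ j, IsAffine (F.X j)) ∧ (∀ j, Flat (F.f j)) ∧ (∀ z : Z, ∃ (j : F.I₀) (x : F.X j), F.f j x = z) ∧ HTop.RefinesOver h F E) : E.presieve₀ ∈ Scheme.fpqcPrecoverage T := by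
  exact main E hflat href

end Groth.Agent.S7512
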