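import Groth.Statements.S7517
import Mathlib
import Groth.Agent.Lib.Helper3.GrpIrrBC

set_option autoImplicit false
universe u
open CategoryTheory MonoidalCategory CartesianMonoidalCategory MonObj GrpObj AlgebraicGeometry
open GrpSch

namespace Groth.Agent.S7517


open Groth.Agent.Lib.helper3
open scoped TensorProduct

/-- If the inverse image of `T = closure {ζ}` in `X_{k^alg}` is irreducible, then so is its inverse
image in `X_K` for every extension field `K`. -/
theorem isIrreducible_preimage_of_algClosure {k : Type u} [Field k] {X : Scheme.{u}}
    (f : X ⟶ Spec (CommRingCat.of k)) {T : Set X} {ζ : X} (hη : IsGenericPoint ζ T)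
    (h : IsIrreducible ((Limits.pullback.fst f (Spec.map (CommRingCat.ofHom
      (algebraMap k (AlgebraicClosure k))))) ⁻¹' T))
    (K : Type u) [Field K] [Algebra k K] :
    IsIrreducible ((Limits.pullback.fst f (Spec.map (CommRingCat.ofHom (algebraMap k K)))) ⁻¹' T) := by
  let _ : X.Over (Spec (CommRingCat.of k)) := ⟨f⟩
  have hφ : Spec.map (CommRingCat.ofHom (Curv2.resMap k X ζ)) = X.fromSpecResidueField ζ ≫ f :=
    ResMap.specMap_resMap k X ζ
  have h1 := IrrPreimage.isIrreducible_preimage_singleton
    (GeomConnPt.isOpenMap_fst_specMap f (AlgebraicClosure k)) hη h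
  have h2 := (GenericFibre.isIrreducible_preimage_singleton_iff f ζ _ hφ (AlgebraicClosure k)).mp h1
  let _ : Algebra k (X.residueField ζ) := (Curv2.resMap k X ζ).toAlgebra
  have h3 : IrreducibleSpace (PrimeSpectrum (K ⊗[k] X.residueField ζ)) :=
    GeomIrr.geomIrr_of_algebraicClosure h2 K
  have h4 := (GenericFibre.isIrreducible_preimage_singleton_iff f ζ _ hφ K).mpr h3
  exact IrrPreimage.isIrreducible_preimage_of_singleton (IrrPreimage.generalizingMap_fst f K) hη h4

/-- Let G be a group scheme over a field k and Z the irreducible component of G passing through the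
identity e (there is exactly one). Then Z is geometrically irreducible over k: for any closed
immersion incl : Z -> G from an irreducible scheme whose image is an irreducible component of G
containing e, the composite Z -> G -> Spec k is geometrically irreducible. (Parts (1) and (2) of the
source are not stated here.) -/
theorem result (K : Type u) [Field K] (G : Over (Spec (CommRingCat.of K))) [GrpObj G] (Z : Scheme.{u}) (incl : Z ⟶ G.left) [IsClosedImmersion incl] [IrreducibleSpace Z] (hZ : Set.range ⇑incl ∈ irreducibleComponents ↥G.left) (he : η[G].left (IsLocalRing.closedPoint K) ∈ Set.range ⇑incl) : GeometricallyIrreducible (incl ≫ G.hom) := by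
  have h1 : IsIrreducible (GrpIrrBC.pr G (AlgebraicClosure K) ⁻¹' Set.range ⇑incl) := by
    rw [GrpIrrBC.preimage_eq G (AlgebraicClosure K) hZ he]
    exact isIrreducible_irreducibleComponent
  have hcl : IsClosed (Set.range ⇑incl) := incl.isClosedEmbedding.isClosed_range
  have hξ : IsGenericPoint (incl (genericPoint Z)) (Set.range ⇑incl) := by
    have := (genericPoint_spec Z).image incl.continuous
    rwa [Set.image_univ, hcl.closure_eq] at this
  refine ⟨(geometrically_iff_of_commRing_of_isClosedUnderIsomorphisms).mpr fun L _ _ => ?_⟩
  have h2 := isIrreducible_preimage_of_algClosure G.hom hξ h1 L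
  set gL := Spec.map (CommRingCat.ofHom (algebraMap K L)) with hgL
  have hemb : Topology.IsEmbedding (Limits.pullback.snd incl (Limits.pullback.fst G.hom gL)) :=
    (Scheme.Hom.isClosedEmbedding _).isEmbedding
  have hr : Set.range (Limits.pullback.snd incl (Limits.pullback.fst G.hom gL)) =
      (Limits.pullback.fst G.hom gL) ⁻¹' Set.range ⇑incl := Scheme.Pullback.range_snd _ _
  have h3 : IrreducibleSpace (Set.range (Limits.pullback.snd incl (Limits.pullback.fst G.hom gL))) := by
    rw [hr]
    exact Subtype.irreducibleSpace h2
  have h4 : IrreducibleSpace ↥(Limits.pullback incl (Limits.pullback.fst G.hom gL)) :=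
    (hemb.toHomeomorph).irreducibleSpace_iff.mpr h3
  exact ((Limits.pullbackRightPullbackFstIso G.hom gL incl).hom.homeomorph).irreducibleSpace_iff.mp h4

end Groth.Agent.S7517
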