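import Groth.Statements.S7518
import Groth.Agent.Lib.Helper5.GrpdHomog

set_option autoImplicit false
universe u
open CategoryTheory CategoryTheory.Limits AlgebraicGeometry
open Grpd

namespace Groth.Agent.S7518

/-- Let (U, R, s, t, c) be a groupoid scheme over S with U the spectrum of a field and s, t locally of
finite type. Then R is equidimensional: every irreducible component of R has Krull dimension equal
to dim R; and for every point r of R the local dimension of R at r (the infimum of the dimensions of
open neighbourhoods) equals dim R. (The equality of the transcendence degrees of κ(r) over s(k) and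
over t(k), and the dimension of the local rings at closed points, are not stated here.) (A groupoid
scheme carries U, R, s, t, c, e, i over S with the groupoid axioms on T-points; c is defined on the
fibre product of s and t and sends a pair (a, b) with s(a) = t(b) to a composed with b.) -/
theorem result (S : Scheme.{u}) (G : Grpd.GroupoidScheme S) (k : Type u) [Field k] (eU : G.U ≅ Spec (CommRingCat.of k)) [LocallyOfFiniteType G.s] [LocallyOfFiniteType G.t] : (∀ Z ∈ irreducibleComponents ↥G.R, topologicalKrullDim ↥Z = topologicalKrullDim ↥G.R) ∧ ∀ r : G.R, FlatMor.localDim ↥G.R r = topologicalKrullDim ↥G.R := by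
  have h2 : ∀ r : G.R, FlatMor.localDim ↥G.R r = topologicalKrullDim ↥G.R :=
    fun r => Groth.Agent.Lib.helper5.GrpdHomog.localDim_eq_dim G k eU r
  refine ⟨?_, h2⟩
  intro Z hZ
  letI : G.R.Over (Spec (CommRingCat.of k)) := ⟨G.s ≫ eU.hom⟩
  haveI : LocallyOfFiniteType (G.R ↘ Spec (CommRingCat.of k)) :=
    inferInstanceAs (LocallyOfFiniteType (G.s ≫ eU.hom))
  obtain ⟨z, -⟩ := hZ.1.nonempty
  obtain ⟨a, b, -, -, hab⟩ :=
    Groth.Agent.Lib.helper3.IrredDim.localDim_eq_trdeg_add_stalk k G.R z
  have h3 : ∀ r : G.R, FlatMor.localDim ↥G.R r = ((a + b : ℕ) : WithBot ℕ∞) := by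
    intro r
    rw [Groth.Agent.Lib.helper5.GrpdHomog.localDim_eq_localDim G k eU r z, hab]
  rw [Groth.Agent.Lib.helper3.RelDim.dim_eq_of_forall_localDim k G.R (a + b) h3 Z hZ,
    ← h2 z, hab]

end Groth.Agent.S7518
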