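import Groth.Statements.S7520
import Groth.Agent.Lib.Helper5.GrpConnSub
import Groth.Agent.Lib.Helper14.AbSchFib1
import Groth.Agent.Lib.Helper14.RatPtGeomConn
import Groth.Agent.Lib.Helper3.GrpConn3

set_option autoImplicit false
universe u
open CategoryTheory MonoidalCategory CartesianMonoidalCategory MonObj GrpObj AlgebraicGeometry
open GrpSch

namespace Groth.Agent.S7520

/-- Let G be a group scheme over a field k. Then there is a closed subgroup scheme G^0 of G, that is a
group scheme G^0 over k with a homomorphism G^0 -> G which is a closed immersion, such that (1) G^0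
-> G is moreover flat, (2) its image is the connected component of the identity point, (3) G^0 is
geometrically irreducible over k, and (4) G^0 is quasi-compact. -/
theorem result (K : Type u) [Field K] (G : Over (Spec (CommRingCat.of K))) [GrpObj G] : ∃ (G₀ : Over (Spec (CommRingCat.of K))) (_ : GrpObj G₀) (incl : G₀ ⟶ G) (_ : IsMonHom incl), IsClosedImmersion incl.left ∧ Flat incl.left ∧ Set.range ⇑incl.left = connectedComponent (η[G].left (IsLocalRing.closedPoint K)) ∧ GeometricallyIrreducible G₀.hom ∧ CompactSpace ↥G₀.left := by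
  obtain ⟨str, hmon⟩ := Groth.Agent.Lib.helper5.GrpConnSub.exists_grpObj_G0 G
  letI : GrpObj (Groth.Agent.Lib.helper5.GrpConnSub.G0 G) := str
  have hci : IsClosedImmersion (Groth.Agent.Lib.helper5.GrpConnSub.i0 G).left :=
    inferInstanceAs (IsClosedImmersion (Groth.Agent.Lib.helper5.GrpConnSub.qcι G.left _))
  have hrange : Set.range (Groth.Agent.Lib.helper5.GrpConnSub.i0 G).left =
      connectedComponent (Groth.Agent.Lib.helper3.GrpIrr.e G) :=
    Groth.Agent.Lib.helper5.GrpConnSub.range_i0 G
  have hemb : Topology.IsClosedEmbedding (Groth.Agent.Lib.helper5.GrpConnSub.i0 G).left :=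
    (Groth.Agent.Lib.helper5.GrpConnSub.i0 G).left.isClosedEmbedding
  -- compactness
  have hcomp : CompactSpace ↥(Groth.Agent.Lib.helper5.GrpConnSub.G0 G).left := by
    rw [← isCompact_univ_iff, hemb.isEmbedding.isCompact_iff, Set.image_univ, hrange]
    exact Groth.Agent.Lib.helper3.GrpConn.isCompact_connectedComponent_unit G
  -- connectedness
  haveI hconn : ConnectedSpace ↥(Groth.Agent.Lib.helper5.GrpConnSub.G0 G).left := by
    rw [connectedSpace_iff_univ]
    have h1 : _root_.IsConnected ((Groth.Agent.Lib.helper5.GrpConnSub.i0 G).left ''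
        (Set.univ : Set ↥(Groth.Agent.Lib.helper5.GrpConnSub.G0 G).left)) := by
      rw [Set.image_univ, hrange]
      exact isConnected_connectedComponent
    refine ⟨?_, (hemb.isEmbedding.isInducing.isPreconnected_image).mp h1.2⟩
    obtain ⟨y, hy⟩ := h1.1
    obtain ⟨x, -, -⟩ := hy
    exact ⟨x, trivial⟩
  haveI : GeometricallyConnected (Groth.Agent.Lib.helper5.GrpConnSub.G0 G).hom :=
    Groth.Agent.Lib.Helper14.RatPtGeomConn.geometricallyConnected_of_section
      (Groth.Agent.Lib.helper5.GrpConnSub.G0 G) η[Groth.Agent.Lib.helper5.GrpConnSub.G0 G]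
  refine ⟨Groth.Agent.Lib.helper5.GrpConnSub.G0 G, str, Groth.Agent.Lib.helper5.GrpConnSub.i0 G, hmon,
    hci, inferInstanceAs (Flat (Groth.Agent.Lib.helper5.GrpConnSub.qcι G.left _)), ?_,
    Groth.Agent.Lib.Helper14.AbSchFib.geometricallyIrreducible_of_grp _, hcomp⟩
  rw [hrange]
  rfl

end Groth.Agent.S7520
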