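import Groth.Statements.S7522
import Mathlib
-- import your own Groth.Agent.* helpers here

set_option autoImplicit false
universe u
open CategoryTheory CategoryTheory.Limits AlgebraicGeometry
open Grpd

namespace Groth.Agent.S7522

/-- Let S be a scheme, U a scheme over S and j : R -> U x_S U a pre-equivalence relation, that is a
morphism such that for every scheme T the image of the T-points of R in pairs of T-points of U is an
equivalence relation; write t = pr_0 ∘ j and s = pr_1 ∘ j. Then the relation on the points of U in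
which x ∼ y when some point r of R has t(r) = x and s(r) = y is an equivalence relation. -/
theorem result {S U R : Scheme.{u}} (pU : U ⟶ S) (j : R ⟶ pullback pU pU) (hj : ∀ T : Scheme.{u}, Equivalence (fun a b : T ⟶ U => ∃ r : T ⟶ R, r ≫ j ≫ pullback.fst pU pU = a ∧ r ≫ j ≫ pullback.snd pU pU = b)) : Equivalence (fun x y : ↥U => ∃ r : R, (j ≫ pullback.fst pU pU) r = x ∧ (j ≫ pullback.snd pU pU) r = y) := by
  have hpt : ∀ (X : Scheme.{u}) (x : X), ∃ pt : ↥(Spec (X.residueField x)), True :=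
    fun X x => ⟨IsLocalRing.closedPoint (X.residueField x), trivial⟩
  refine ⟨?_, ?_, ?_⟩
  · intro x
    obtain ⟨r, hr1, hr2⟩ := (hj _).refl (U.fromSpecResidueField x)
    obtain ⟨pt, -⟩ := hpt U x
    refine ⟨r pt, ?_, ?_⟩
    · rw [← Scheme.Hom.comp_apply, hr1, Scheme.fromSpecResidueField_apply]
    · rw [← Scheme.Hom.comp_apply, hr2, Scheme.fromSpecResidueField_apply]
  · rintro x y ⟨r, hr1, hr2⟩
    obtain ⟨r', hr'1, hr'2⟩ := (hj _).symm
      (⟨R.fromSpecResidueField r, rfl, rfl⟩ : ∃ ρ : Spec (R.residueField r) ⟶ R,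
        ρ ≫ j ≫ pullback.fst pU pU = R.fromSpecResidueField r ≫ j ≫ pullback.fst pU pU ∧
        ρ ≫ j ≫ pullback.snd pU pU = R.fromSpecResidueField r ≫ j ≫ pullback.snd pU pU)
    obtain ⟨pt, -⟩ := hpt R r
    refine ⟨r' pt, ?_, ?_⟩
    · rw [← Scheme.Hom.comp_apply, hr'1, Scheme.Hom.comp_apply,
        Scheme.fromSpecResidueField_apply, hr2]
    · rw [← Scheme.Hom.comp_apply, hr'2, Scheme.Hom.comp_apply,
        Scheme.fromSpecResidueField_apply, hr1]
  · rintro x y z ⟨r₁, hr₁1, hr₁2⟩ ⟨r₂, hr₂1, hr₂2⟩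
    obtain ⟨w, hw1, hw2⟩ := Scheme.Pullback.exists_preimage_pullback
      (f := j ≫ pullback.snd pU pU) (g := j ≫ pullback.fst pU pU) r₁ r₂ (hr₁2.trans hr₂1.symm)
    have hcond : ((pullback (j ≫ pullback.snd pU pU) (j ≫ pullback.fst pU pU)).fromSpecResidueField w
          ≫ pullback.fst _ _) ≫ j ≫ pullback.snd pU pU =
        ((pullback (j ≫ pullback.snd pU pU) (j ≫ pullback.fst pU pU)).fromSpecResidueField w
          ≫ pullback.snd _ _) ≫ j ≫ pullback.fst pU pU := by
      rw [Category.assoc, Category.assoc, pullback.condition]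
    obtain ⟨r₃, hr₃1, hr₃2⟩ := (hj _).trans
      (⟨_, rfl, rfl⟩ : ∃ ρ : Spec (Scheme.residueField _ w) ⟶ R,
        ρ ≫ j ≫ pullback.fst pU pU =
          ((pullback (j ≫ pullback.snd pU pU) (j ≫ pullback.fst pU pU)).fromSpecResidueField w
            ≫ pullback.fst _ _) ≫ j ≫ pullback.fst pU pU ∧
        ρ ≫ j ≫ pullback.snd pU pU =
          ((pullback (j ≫ pullback.snd pU pU) (j ≫ pullback.fst pU pU)).fromSpecResidueField w
            ≫ pullback.fst _ _) ≫ j ≫ pullback.snd pU pU)
      (⟨_, hcond.symm, rfl⟩ : ∃ ρ : Spec (Scheme.residueField _ w) ⟶ R,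
        ρ ≫ j ≫ pullback.fst pU pU =
          ((pullback (j ≫ pullback.snd pU pU) (j ≫ pullback.fst pU pU)).fromSpecResidueField w
            ≫ pullback.fst _ _) ≫ j ≫ pullback.snd pU pU ∧
        ρ ≫ j ≫ pullback.snd pU pU =
          ((pullback (j ≫ pullback.snd pU pU) (j ≫ pullback.fst pU pU)).fromSpecResidueField w
            ≫ pullback.snd _ _) ≫ j ≫ pullback.snd pU pU)
    obtain ⟨pt, -⟩ := hpt _ w
    refine ⟨r₃ pt, ?_, ?_⟩
    · have h1 := hr₁1
      rw [Scheme.Hom.comp_apply] at h1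
      rw [← Scheme.Hom.comp_apply, hr₃1]
      simp only [Scheme.Hom.comp_apply, Scheme.fromSpecResidueField_apply, hw1]
      exact h1
    · have h2 := hr₂2
      rw [Scheme.Hom.comp_apply] at h2
      rw [← Scheme.Hom.comp_apply, hr₃2]
      simp only [Scheme.Hom.comp_apply, Scheme.fromSpecResidueField_apply, hw2]
      exact h2

end Groth.Agent.S7522
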