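import Groth.Statements.S7527
import Groth.Agent.Lib.Helper9.SpectralSep

set_option autoImplicit false
universe u
open SpecSp

namespace Groth.Agent.S7527

/-- Let X be a spectral space and x, y ∈ X. Then either there is a third point specializing to both x
and y, or there are disjoint open neighbourhoods of x and of y. -/
theorem result {X : Type u} [TopologicalSpace X] [SpectralSpace X] (x y : X) :
    (∃ z : X, z ⤳ x ∧ z ⤳ y) ∨
    (∃ U V : Set X, IsOpen U ∧ IsOpen V ∧ x ∈ U ∧ y ∈ V ∧ Disjoint U V) := by
  rcases Groth.Agent.Lib.helper9.exists_common_generalization_or_disjoint_compact_opens x y with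
    h | ⟨U, V, hUo, -, hVo, -, hx, hy, hd⟩
  · exact Or.inl h
  · exact Or.inr ⟨U, V, hUo, hVo, hx, hy, hd⟩

end Groth.Agent.S7527
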