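import Groth.Statements.S7528
import Groth.Agent.Lib.Helper9.SpectralSep

set_option autoImplicit false
universe u
open SpecSp

namespace Groth.Agent.S7528

/-- For a spectral space X the following are equivalent: (1) X is profinite, i.e. quasi-compact,
Hausdorff and totally disconnected (quasi-compactness being automatic); (2) X is Hausdorff; (3) X is
totally disconnected; (4) every quasi-compact open subset is closed; (5) there are no nontrivial
specializations between points; (6) every point is closed; (7) every point is the generic point of
an irreducible component; (8) the constructible topology coincides with the topology of X. -/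
theorem result (X : Type u) [tX : TopologicalSpace X] [SpectralSpace X] :
    List.TFAE [
      T2Space X ∧ TotallyDisconnectedSpace X,
      T2Space X,
      TotallyDisconnectedSpace X,
      ∀ U : Set X, IsOpen U → IsCompact U → IsClosed U,
      ∀ x y : X, x ⤳ y → x = y,
      ∀ x : X, IsClosed ({x} : Set X),
      ∀ x : X, closure ({x} : Set X) ∈ irreducibleComponents X,
      constructibleTopology X = tX] := by
  tfae_have 1 → 2 := fun h => h.1
  tfae_have 1 → 3 := fun h => h.2
  tfae_have 2 → 4 := fun _ U _ hUc => hUc.isClosed
  tfae_have 4 → 8 := by
    intro h
    apply le_antisymm Groth.Agent.Lib.helper9.constructibleTopology_le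
    rw [constructibleTopology, TopologicalSpace.le_generateFrom_iff_subset_isOpen]
    rintro s (hs | hs)
    · exact hs.1
    · have := h sᶜ hs.1.isOpen_compl hs.2
      simpa using this.isOpen_compl
  tfae_have 8 → 1 := by
    intro h
    have h1 := Groth.Agent.Lib.helper9.t2Space_constructibleTopology (X := X)
    have h2 := Groth.Agent.Lib.helper9.totallyDisconnectedSpace_constructibleTopology (X := X)
    rw [h] at h1 h2
    exact ⟨h1, h2⟩
  tfae_have 3 → 5 := by
    intro h x y hxy
    have hpre : IsPreconnected (closure ({x} : Set X)) := isPreconnected_singleton.closure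
    exact hpre.subsingleton (subset_closure rfl) (specializes_iff_mem_closure.mp hxy)
  tfae_have 5 → 2 := by
    intro h
    refine ⟨fun x y hxy => ?_⟩
    rcases Groth.Agent.Lib.helper9.exists_common_generalization_or_disjoint_compact_opens x y with
      ⟨z, hzx, hzy⟩ | ⟨U, V, hUo, -, hVo, -, hx, hy, hd⟩
    · exact absurd ((h z x hzx).symm.trans (h z y hzy)) hxy
    · exact ⟨U, V, hUo, hVo, hx, hy, hd⟩
  tfae_have 5 → 6 := by
    intro h x
    have : closure ({x} : Set X) = {x} := by
      ext y
      rw [← specializes_iff_mem_closure]
      exact ⟨fun hxy => (h x y hxy).symm, fun hy => hy ▸ specializes_rfl⟩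
    exact this ▸ isClosed_closure
  tfae_have 6 → 5 := by
    intro h x y hxy
    have := specializes_iff_mem_closure.mp hxy
    rw [(h x).closure_eq] at this
    exact this.symm
  tfae_have 5 → 7 := by
    intro h x
    refine ⟨isIrreducible_singleton.closure, fun Z hZ hxZ => ?_⟩
    obtain ⟨ξ, hξ⟩ := QuasiSober.sober hZ.closure isClosed_closure
    have hξx : ξ ⤳ x := specializes_iff_mem_closure.mpr
      (hξ.def ▸ subset_closure (hxZ (subset_closure rfl)))
    have := h ξ x hξx
    subst this
    exact hξ.def ▸ subset_closure
  tfae_have 7 → 5 := by
    intro h x y hxy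
    have hle : closure ({y} : Set X) ⊆ closure {x} := specializes_iff_closure_subset.mp hxy
    have hge : closure ({x} : Set X) ⊆ closure {y} :=
      (h y).2 isIrreducible_singleton.closure hle
    exact (hxy.antisymm (specializes_iff_closure_subset.mpr hge)).eq
  tfae_finish

end Groth.Agent.S7528
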