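import Groth.Statements.S7529
-- import your own Groth.Agent.* helpers here

set_option autoImplicit false
universe u
open SpecSp

namespace Groth.Agent.S7529

open Topology TopologicalSpace in
/-- The product of two quasi-sober spaces is quasi-sober. -/
theorem quasiSober_prod (X Y : Type u) [TopologicalSpace X] [TopologicalSpace Y]
    [QuasiSober X] [QuasiSober Y] : QuasiSober (X × Y) := by
  refine ⟨fun {Z} hZ hZc => ?_⟩
  have h1 : IsIrreducible (closure (Prod.fst '' Z)) :=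
    (hZ.image Prod.fst continuous_fst.continuousOn).closure
  have h2 : IsIrreducible (closure (Prod.snd '' Z)) :=
    (hZ.image Prod.snd continuous_snd.continuousOn).closure
  obtain ⟨ξ, hξ⟩ := QuasiSober.sober h1 isClosed_closure
  obtain ⟨η, hη⟩ := QuasiSober.sober h2 isClosed_closure
  refine ⟨(ξ, η), ?_⟩
  change closure {(ξ, η)} = Z
  rw [← Set.singleton_prod_singleton, closure_prod_eq, hξ.def, hη.def]
  apply Set.Subset.antisymm
  · rintro ⟨x, y⟩ ⟨hx, hy⟩
    rw [← hZc.closure_eq, mem_closure_iff_nhds_basis ((nhds_basis_opens x).prod_nhds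
      (nhds_basis_opens y))]
    rintro ⟨U, V⟩ ⟨⟨hxU, hU⟩, ⟨hyV, hV⟩⟩
    obtain ⟨_, haU, ⟨a, haZ, rfl⟩⟩ := mem_closure_iff.mp hx U hU hxU
    obtain ⟨_, hbV, ⟨b, hbZ, rfl⟩⟩ := mem_closure_iff.mp hy V hV hyV
    obtain ⟨c, hcZ, hcU, hcV⟩ := hZ.isPreirreducible (Prod.fst ⁻¹' U) (Prod.snd ⁻¹' V)
      (hU.preimage continuous_fst) (hV.preimage continuous_snd) ⟨a, haZ, haU⟩ ⟨b, hbZ, hbV⟩
    exact ⟨c, hcZ, hcU, hcV⟩
  · rintro ⟨x, y⟩ h
    exact ⟨subset_closure ⟨_, h, rfl⟩, subset_closure ⟨_, h, rfl⟩⟩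

/-- The product X × Y of two spectral spaces X and Y is a spectral space. -/
theorem result (X Y : Type u) [TopologicalSpace X] [TopologicalSpace Y]
    [SpectralSpace X] [SpectralSpace Y] : SpectralSpace (X × Y) := by
  have hbX := (PrespectralSpace.isTopologicalBasis (X := X))
  have hbY := (PrespectralSpace.isTopologicalBasis (X := Y))
  have hb := hbX.prod hbY
  have hcomp : ∀ W ∈ Set.image2 (· ×ˢ ·) {U : Set X | IsOpen U ∧ IsCompact U}
      {V : Set Y | IsOpen V ∧ IsCompact V}, IsCompact W := by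
    rintro _ ⟨U, hU, V, hV, rfl⟩
    exact hU.2.prod hV.2
  haveI : QuasiSober (X × Y) := quasiSober_prod X Y
  haveI : PrespectralSpace (X × Y) := PrespectralSpace.of_isTopologicalBasis hb hcomp
  haveI : QuasiSeparatedSpace (X × Y) := by
    refine QuasiSeparatedSpace.of_isTopologicalBasis
      (b := (Subtype.val : ↥(Set.image2 (· ×ˢ ·) {U : Set X | IsOpen U ∧ IsCompact U}
        {V : Set Y | IsOpen V ∧ IsCompact V}) → Set (X × Y)))
      (by rw [Subtype.range_coe]; exact hb) ?_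
    rintro ⟨_, ⟨U, hU, V, hV, rfl⟩⟩ ⟨_, ⟨U', hU', V', hV', rfl⟩⟩
    change IsCompact ((U ×ˢ V) ∩ (U' ×ˢ V'))
    rw [Set.prod_inter_prod]
    exact (QuasiSeparatedSpace.inter_isCompact U U' hU.1 hU.2 hU'.1 hU'.2).prod
      (QuasiSeparatedSpace.inter_isCompact V V' hV.1 hV.2 hV'.1 hV'.2)
  exact { }

end Groth.Agent.S7529
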