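import Groth.Statements.S7530
import Groth.Agent.Lib.Helper9.SpectralMap
import Mathlib.Topology.Homeomorph.Lemmas

set_option autoImplicit false
universe u
open SpecSp

namespace Groth.Agent.S7530

/-- Let f : X → Y be a map of spectral spaces which is spectral and bijective, and assume that
generalizations lift along f or that specializations lift along f. Then f is a homeomorphism. -/
theorem result {X Y : Type u} [TopologicalSpace X] [TopologicalSpace Y]
    [SpectralSpace X] [SpectralSpace Y] (f : X → Y) (hf : IsSpectralMap f) (hb : Function.Bijective f)
    (hlift : GeneralizingMap f ∨ SpecializingMap f) :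
    IsHomeomorph f := by
  rcases hlift with hgen | hspec
  · refine ⟨hf.continuous, ?_, hb⟩
    rw [(PrespectralSpace.isTopologicalBasis (X := X)).isOpenMap_iff]
    rintro U ⟨hUo, hUc⟩
    apply Groth.Agent.Lib.helper9.isOpen_of_isOpen_constructibleTopology_of_stableUnderGeneralization
    · have h1 : @IsClosed Y (constructibleTopology Y) (f '' Uᶜ) :=
        Groth.Agent.Lib.helper9.isClosed_constructibleTopology_image_of_isSpectralMap hf
          (@IsOpen.isClosed_compl X (constructibleTopology X) U
            (Groth.Agent.Lib.helper9.isClopen_constructibleTopology hUo hUc).2)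
      have h2 : f '' U = (f '' Uᶜ)ᶜ := by
        rw [Set.image_compl_eq hb, compl_compl]
      rw [h2]
      exact @IsClosed.isOpen_compl Y (constructibleTopology Y) _ h1
    · exact hgen.stableUnderGeneralization_image hUo.stableUnderGeneralization
  · rw [isHomeomorph_iff_continuous_isClosedMap_bijective]
    refine ⟨hf.continuous, fun Z hZ => ?_, hb⟩
    apply Groth.Agent.Lib.helper9.isClosed_of_isClosed_constructibleTopology_of_stableUnderSpecialization
    · exact Groth.Agent.Lib.helper9.isClosed_constructibleTopology_image_of_isSpectralMap hf
        (Groth.Agent.Lib.helper9.isClosed_constructibleTopology_of_isClosed hZ)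
    · exact hspec.stableUnderSpecialization_image hZ.stableUnderSpecialization

end Groth.Agent.S7530
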