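import Groth.Statements.S7532
import Groth.Agent.Lib.Helper9.SierpinskiPow
import Groth.Agent.Lib.Helper9.SpectralCons

set_option autoImplicit false
universe u
open SpecSp

namespace Groth.Agent.S7532

open Topology TopologicalSpace Groth.Agent.Lib.helper9 in
/-- The canonical map of a spectral space into a power of the Sierpiński space. -/
theorem forward (X : Type u) [TopologicalSpace X] [SpectralSpace X] :
    ∃ (I : Type u) (f : X → (I → Prop)),
      Topology.IsEmbedding f ∧
        @IsClosed (I → Prop) (constructibleTopology (I → Prop)) (Set.range f) := by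
  classical
  let I : Type u := {U : Set X // IsOpen U ∧ IsCompact U}
  let f : X → (I → Prop) := fun x U => x ∈ U.1
  have hcont : Continuous f := continuous_pi fun U => continuous_Prop.mpr U.2.1
  have hinj : Function.Injective f := by
    intro x y hxy
    by_contra hne
    obtain ⟨U, hUo, hUc, hU⟩ := exists_isCompact_isOpen_xor_mem hne
    have := congrFun hxy ⟨U, hUo, hUc⟩
    simp only [f, eq_iff_iff] at this
    rcases hU with ⟨h1, h2⟩ | ⟨h1, h2⟩
    · exact h2 (this.mp h1)
    · exact h2 (this.mpr h1)
  have hind : IsInducing f := by
    refine ⟨le_antisymm hcont.le_induced ?_⟩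
    intro O hO
    obtain ⟨S, hS, rfl⟩ := (PrespectralSpace.isTopologicalBasis (X := X)).open_eq_sUnion hO
    refine @isOpen_sUnion X (induced f inferInstance) S fun U hU => ?_
    rw [isOpen_induced_iff]
    exact ⟨{u | u ⟨U, hS hU⟩}, continuous_Prop.mp (continuous_apply _), rfl⟩
  have hspec : IsSpectralMap f := by
    refine ⟨hcont, fun O hOo hOc => ?_⟩
    obtain ⟨s, hs, rfl⟩ := eq_finite_iUnion_of_isTopologicalBasis_of_isCompact_open
      (sierpBasic : Finset I → Set (I → Prop)) isTopologicalBasis_sierpBasic O hOc hOo
    rw [Set.preimage_iUnion₂]
    refine hs.isCompact_biUnion fun S _ => ?_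
    have : f ⁻¹' sierpBasic S = ⋂ U ∈ S, (U : I).1 := by
      ext x
      simp [sierpBasic, f]
    rw [this]
    exact (isOpen_isCompact_biInter_finset S (fun U : I => U.1) fun U _ => U.2).2
  exact ⟨I, f, ⟨hind, hinj⟩, isClosed_constructibleTopology_range_of_isSpectralMap hspec⟩

/-- Let W be the two-point space with one closed and one non-closed point (here the Sierpiński topology
on Prop). A topological space X is spectral exactly when, for some index type I, X admits a
topological embedding into the power W^I whose image is a closed set for the constructible topology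
on W^I. -/
theorem result (X : Type u) [TopologicalSpace X] :
    SpectralSpace X ↔ ∃ (I : Type u) (f : X → (I → Prop)),
      Topology.IsEmbedding f ∧ @IsClosed (I → Prop) (constructibleTopology (I → Prop)) (Set.range f) := by
  constructor
  · intro h
    exact forward X
  · rintro ⟨I, f, hf, hcl⟩
    haveI : SpectralSpace (Set.range f) :=
      Groth.Agent.Lib.helper9.spectralSpace_of_isClosed_constructibleTopology hcl
    let e : X ≃ₜ Set.range f := hf.toHomeomorph
    haveI : CompactSpace X := e.symm.compactSpace
    exact e.isOpenEmbedding.spectralSpace

end Groth.Agent.S7532
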