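import Groth.Statements.S7539
import Groth.Agent.Lib.Helper9.SpectralCons

set_option autoImplicit false
universe u
open SpecSp

namespace Groth.Agent.S7539

/-- For a subset W of a spectral space X, these five conditions coincide: (1) W can be written as an
intersection of constructible subsets and is stable under generalization; (2) W is quasi-compact and
stable under generalization; (3) for some quasi-compact E ⊆ X, W consists exactly of the points that
specialize to a point of E; (4) W is the intersection of some family of quasi-compact opens; (5)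
there are a nonempty index set I and quasi-compact opens U_i with W = ⋂ U_i such that for all i, j
some U_k is contained in U_i ∩ U_j. -/
theorem result {X : Type u} [TopologicalSpace X] [SpectralSpace X] (W : Set X) :
    List.TFAE [
      (∃ S : Set (Set X), (∀ s ∈ S, Topology.IsConstructible s) ∧ W = ⋂₀ S) ∧ StableUnderGeneralization W,
      IsCompact W ∧ StableUnderGeneralization W,
      ∃ E : Set X, IsCompact E ∧ W = {x | ∃ e ∈ E, x ⤳ e},
      ∃ S : Set (Set X), (∀ s ∈ S, IsOpen s ∧ IsCompact s) ∧ W = ⋂₀ S,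
      ∃ (I : Type u) (_ : Nonempty I) (U : I → Set X), (∀ i, IsOpen (U i) ∧ IsCompact (U i)) ∧
        W = ⋂ i, U i ∧ ∀ i j, ∃ k, U k ⊆ U i ∩ U j] := by
  tfae_have 1 → 2 := by
    rintro ⟨⟨S, hS, rfl⟩, hgen⟩
    refine ⟨?_, hgen⟩
    apply Groth.Agent.Lib.helper9.isCompact_of_isClosed_constructibleTopology
    exact @isClosed_sInter X (constructibleTopology X) S fun s hs =>
      (Groth.Agent.Lib.helper9.isClopen_constructibleTopology_of_isConstructible (hS s hs)).1
  tfae_have 2 → 3 := by
    rintro ⟨hc, hgen⟩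
    refine ⟨W, hc, ?_⟩
    ext x
    exact ⟨fun hx => ⟨x, hx, specializes_rfl⟩, fun ⟨e, he, hxe⟩ => hgen hxe he⟩
  tfae_have 3 → 4 := by
    rintro ⟨E, hE, rfl⟩
    exact ⟨{U : Set X | IsOpen U ∧ IsCompact U ∧ E ⊆ U}, fun s hs => ⟨hs.1, hs.2.1⟩,
      Groth.Agent.Lib.helper9.setOf_generalizations_eq_sInter hE⟩
  tfae_have 4 → 1 := by
    rintro ⟨S, hS, rfl⟩
    refine ⟨⟨S, fun s hs =>
      Groth.Agent.Lib.helper9.isConstructible_of_isCompact_isOpen (hS s hs).1 (hS s hs).2, rfl⟩, ?_⟩
    intro x y hyx hx s hs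
    exact hyx.mem_open (hS s hs).1 (hx s hs)
  tfae_have 5 → 4 := by
    rintro ⟨I, _, U, hU, rfl, -⟩
    refine ⟨Set.range U, ?_, (Set.sInter_range U).symm⟩
    rintro _ ⟨i, rfl⟩
    exact hU i
  tfae_have 4 → 5 := by
    rintro ⟨S, hS, rfl⟩
    classical
    refine ⟨Finset ↥S, ⟨∅⟩, fun F => ⋂ s ∈ F, (s : Set X), fun F => ?_, ?_, fun F G => ?_⟩
    · exact Groth.Agent.Lib.helper9.isOpen_isCompact_biInter_finset F (fun s : ↥S => (s : Set X))
        fun s _ => hS s.1 s.2
    · ext x
      simp only [Set.mem_sInter, Set.mem_iInter]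
      constructor
      · intro h F s _
        exact h s.1 s.2
      · intro h s hs
        exact h {⟨s, hs⟩} ⟨s, hs⟩ (Finset.mem_singleton_self _)
    · refine ⟨F ∪ G, ?_⟩
      intro x hx
      simp only [Set.mem_iInter, Set.mem_inter_iff] at hx ⊢
      exact ⟨fun s hs => hx s (Finset.mem_union_left _ hs),
        fun s hs => hx s (Finset.mem_union_right _ hs)⟩
  tfae_finish

end Groth.Agent.S7539
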