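import Groth.Statements.S7540
import Groth.Agent.Lib.Helper9.SpectralDir

set_option autoImplicit false
universe u
open SpecSp

namespace Groth.Agent.S7540

/-- Let X be a spectral space, I a nonempty index set and U_i ⊆ X quasi-compact opens such that for all
i, j some U_k lies in U_i ∩ U_j; put W = ⋂ U_i. Then every open subset of X containing W contains
some U_i. The published statement also asserts that W is spectral and is the limit of the U_i; this
row states the neighbourhood property. -/
theorem result {X : Type u} [TopologicalSpace X] [SpectralSpace X]
    {I : Type u} [Nonempty I] (U : I → Set X) (hU : ∀ i, IsOpen (U i) ∧ IsCompact (U i))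
    (hdir : ∀ i j, ∃ k, U k ⊆ U i ∩ U j) :
    ∀ V : Set X, IsOpen V → (⋂ i, U i) ⊆ V → ∃ i, U i ⊆ V := by
  intro V hV hUV
  exact Groth.Agent.Lib.helper9.exists_subset_of_iInter_subset U
    (fun i => (Groth.Agent.Lib.helper9.isClopen_constructibleTopology (hU i).1 (hU i).2).1) hdir
    (Groth.Agent.Lib.helper9.isOpen_constructibleTopology_of_isOpen' hV) hUV

end Groth.Agent.S7540
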