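import Groth.Statements.S7541
import Groth.Agent.Lib.Helper9.SpectralCons

set_option autoImplicit false
universe u
open SpecSp

namespace Groth.Agent.S7541

/-- Let X be a spectral space, E ⊆ X a constructible subset and W the set of points of X that specialize
to a point of E. Then the subspace W minus E is a spectral space. (The description of W minus E as a
limit of the U_i minus E is not recorded here.) -/
theorem result {X : Type u} [TopologicalSpace X] [SpectralSpace X]
    (E : Set X) (hE : Topology.IsConstructible E) :
    SpectralSpace ↥({x : X | ∃ e ∈ E, x ⤳ e} \ E) := by
  apply Groth.Agent.Lib.helper9.spectralSpace_of_isClosed_constructibleTopology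
  have hEclopen := Groth.Agent.Lib.helper9.isClopen_constructibleTopology_of_isConstructible hE
  have hEc : IsCompact E :=
    Groth.Agent.Lib.helper9.isCompact_of_isClosed_constructibleTopology hEclopen.1
  rw [Groth.Agent.Lib.helper9.setOf_generalizations_eq_sInter hEc, Set.sdiff_eq]
  refine @IsClosed.inter X _ _ (constructibleTopology X) ?_
    (@IsOpen.isClosed_compl X (constructibleTopology X) E hEclopen.2)
  exact @isClosed_sInter X (constructibleTopology X) _ fun s hs =>
    (Groth.Agent.Lib.helper9.isClopen_constructibleTopology hs.1 hs.2.1).1

end Groth.Agent.S7541
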