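import Groth.Statements.S7542
-- import your own Groth.Agent.* helpers here

set_option autoImplicit false
universe u
open ConstrTop

namespace Groth.Agent.S7542

/-- Let X be a topological space such that the quasi-compact opens form a basis for the topology, and
let T ⊆ X be retrocompact in X. Then for any constructible subset E ⊆ X, the intersection E ∩ T is
constructible in T (with the induced topology). -/
theorem result {X : Type u} [TopologicalSpace X] [PrespectralSpace X]
    (T : Set X) (hT : IsRetrocompact T) (E : Set X) (hE : Topology.IsConstructible E) :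
    Topology.IsConstructible ((Subtype.val : T → X) ⁻¹' E) := by
  refine hE.preimage continuous_subtype_val ?_
  intro s hso hsr W hWc hWo
  obtain ⟨W', hW'o, rfl⟩ := isOpen_induced_iff.mp hWo
  have hspec := IsRetrocompact_iff_isSpectralMap_subtypeVal.mp hT
  obtain ⟨K, hKc, hKo, hWK, hKW'⟩ := PrespectralSpace.exists_isCompact_and_isOpen_between
    (hWc.image continuous_subtype_val) hW'o (by
      rintro _ ⟨t, ht, rfl⟩
      exact ht)
  have heq : (Subtype.val : T → X) ⁻¹' s ∩ Subtype.val ⁻¹' W' = Subtype.val ⁻¹' (s ∩ K) := by
    ext t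
    constructor
    · rintro ⟨h1, h2⟩
      exact ⟨h1, hWK ⟨t, h2, rfl⟩⟩
    · rintro ⟨h1, h2⟩
      exact ⟨h1, hKW' h2⟩
  rw [heq]
  exact hspec.2 (hso.inter hKo) (hsr hKc hKo)

end Groth.Agent.S7542
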