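import Groth.Statements.S7544
import Groth.Agent.Lib.Helper9.SpectralCons

set_option autoImplicit false
universe u
open ConstrTop

namespace Groth.Agent.S7544

/-- Let X be a quasi-compact topological space whose quasi-compact opens form a basis and are closed
under pairwise intersection. Take T ⊆ X to be locally closed, quasi-compact, and with retrocompact
complement. Then T is constructible in X. -/
theorem result {X : Type u} [TopologicalSpace X]
    [CompactSpace X] [PrespectralSpace X] [QuasiSeparatedSpace X]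
    (T : Set X) (hT : IsLocallyClosed T) (hTc : IsCompact T) (hTr : IsRetrocompact Tᶜ) :
    Topology.IsConstructible T := by
  obtain ⟨U, Z, hU, hZ, rfl⟩ := hT
  obtain ⟨U', hU'c, hU'o, hTU', hU'U⟩ := PrespectralSpace.exists_isCompact_and_isOpen_between
    hTc hU Set.inter_subset_left
  have h1 : IsCompact ((U ∩ Z)ᶜ ∩ U') := hTr hU'c hU'o
  have h2 : (U ∩ Z)ᶜ ∩ U' = U' ∩ Zᶜ := by
    ext x
    simp only [Set.mem_inter_iff, Set.mem_compl_iff, not_and]
    constructor
    · rintro ⟨h, hx⟩
      exact ⟨hx, fun hz => h (hU'U hx) hz⟩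
    · rintro ⟨hx, hz⟩
      exact ⟨fun _ hz' => hz hz', hx⟩
  rw [h2] at h1
  have h3 : U ∩ Z = U' \ (U' ∩ Zᶜ) := by
    ext x
    simp only [Set.mem_inter_iff, Set.mem_sdiff, Set.mem_compl_iff, not_and, not_not]
    constructor
    · rintro ⟨hx, hz⟩
      exact ⟨hTU' ⟨hx, hz⟩, fun _ => hz⟩
    · rintro ⟨hx, hz⟩
      exact ⟨hU'U hx, hz hx⟩
  rw [h3]
  exact (Groth.Agent.Lib.helper9.isConstructible_of_isCompact_isOpen hU'o hU'c).sdiff
    (Groth.Agent.Lib.helper9.isConstructible_of_isCompact_isOpen
      (hU'o.inter hZ.isOpen_compl) h1)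

end Groth.Agent.S7544
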