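import Groth.Statements.S7546
-- import your own Groth.Agent.* helpers here

set_option autoImplicit false
universe u
open ConstrTop

namespace Groth.Agent.S7546

/-- Let X be a topological space, Z ⊆ X irreducible and E ⊆ X a finite union of locally closed subsets
(for instance a constructible set). Then E ∩ Z is dense in Z if and only if E ∩ Z contains a subset
of the form U ∩ Z, U open in X, which is dense in Z. If moreover ξ ∈ Z is a generic point of Z,
these conditions are equivalent to ξ ∈ E. -/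
theorem result {X : Type u} [TopologicalSpace X] (Z : Set X) (hZ : IsIrreducible Z)
    {n : ℕ} (L : Fin n → Set X) (hL : ∀ i, IsLocallyClosed (L i)) (E : Set X) (hE : E = ⋃ i, L i) :
    (Z ⊆ closure (E ∩ Z) ↔ ∃ U : Set X, IsOpen U ∧ U ∩ Z ⊆ E ∧ Z ⊆ closure (U ∩ Z)) ∧
    (∀ ξ : X, ξ ∈ Z → Z ⊆ closure {ξ} → (Z ⊆ closure (E ∩ Z) ↔ ξ ∈ E)) := by
  classical
  subst hE
  have hA : Z ⊆ closure ((⋃ i, L i) ∩ Z) →
      ∃ U : Set X, IsOpen U ∧ U ∩ Z ⊆ ⋃ i, L i ∧ Z ⊆ closure (U ∩ Z) := by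
    intro h
    have h1 : Z ⊆ ⋃₀ ((Finset.univ.image fun i => closure (L i ∩ Z) : Finset (Set X)) : Set (Set X)) := by
      intro z hz
      have := h hz
      rw [Set.iUnion_inter, closure_iUnion_of_finite] at this
      obtain ⟨i, hi⟩ := Set.mem_iUnion.mp this
      exact Set.mem_sUnion.mpr ⟨_, by simp, hi⟩
    obtain ⟨C, hC, hZC⟩ := isIrreducible_iff_sUnion_isClosed.mp hZ _ (by
      intro z hz
      simp only [Finset.mem_image, Finset.mem_univ, true_and] at hz
      obtain ⟨i, rfl⟩ := hz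
      exact isClosed_closure) h1
    simp only [Finset.mem_image, Finset.mem_univ, true_and] at hC
    obtain ⟨i, rfl⟩ := hC
    obtain ⟨U, C, hU, hCc, hLi⟩ := hL i
    have hZsubC : Z ⊆ C := by
      refine hZC.trans (closure_minimal ?_ hCc)
      rw [hLi]
      exact fun x hx => hx.1.2
    have hUZ : U ∩ Z = L i ∩ Z := by
      rw [hLi]
      ext x
      constructor
      · rintro ⟨h1, h2⟩
        exact ⟨⟨h1, hZsubC h2⟩, h2⟩
      · rintro ⟨⟨h1, -⟩, h2⟩
        exact ⟨h1, h2⟩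
    refine ⟨U, hU, ?_, ?_⟩
    · rw [hUZ]
      exact fun x hx => Set.mem_iUnion.mpr ⟨i, hx.1⟩
    · rw [hUZ]
      exact hZC
  have hB : (∃ U : Set X, IsOpen U ∧ U ∩ Z ⊆ ⋃ i, L i ∧ Z ⊆ closure (U ∩ Z)) →
      Z ⊆ closure ((⋃ i, L i) ∩ Z) := by
    rintro ⟨U, -, hUE, hZU⟩
    exact hZU.trans (closure_mono fun x hx => ⟨hUE hx, hx.2⟩)
  refine ⟨⟨hA, hB⟩, ?_⟩
  intro ξ hξZ hξ
  constructor
  · intro h
    obtain ⟨U, hU, hUE, hZU⟩ := hA h
    obtain ⟨z, hz⟩ := hZ.nonempty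
    have hne : (U ∩ Z).Nonempty := by
      by_contra hemp
      rw [Set.not_nonempty_iff_eq_empty] at hemp
      rw [hemp, closure_empty] at hZU
      exact hZU hz
    obtain ⟨y, hyU, hyZ⟩ := hne
    have hsp : ξ ⤳ y := specializes_iff_mem_closure.mpr (hξ hyZ)
    exact hUE ⟨hsp.mem_open hU hyU, hξZ⟩
  · intro h
    exact hξ.trans (closure_mono (Set.singleton_subset_iff.mpr ⟨h, hξZ⟩))

end Groth.Agent.S7546
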