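import Groth.Statements.S7547
-- import your own Groth.Agent.* helpers here

set_option autoImplicit false
universe u
open PtTop

namespace Groth.Agent.S7547

/-- Let X be a Kolmogorov topological space whose quasi-compact opens form a basis for the topology. If
X is not Jacobson, there is a point x ∈ X which is not closed but such that {x} is locally closed. -/
theorem result {X : Type u} [TopologicalSpace X]
    [T0Space X] [PrespectralSpace X] (hX : ¬ JacobsonSpace X) :
    ∃ x : X, ¬ IsClosed ({x} : Set X) ∧ IsLocallyClosed ({x} : Set X) := by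
  classical
  rw [jacobsonSpace_iff_locallyClosed] at hX
  push Not at hX
  obtain ⟨Z, ⟨z, hzZ⟩, hZlc, hZe⟩ := hX
  obtain ⟨U, C, hU, hC, rfl⟩ := hZlc
  obtain ⟨W, ⟨hWo, hWc⟩, hzW, hWU⟩ :=
    (PrespectralSpace.isTopologicalBasis (X := X)).exists_subset_of_mem_open hzZ.1 hU
  have hTc : IsCompact (W ∩ C) := hWc.inter_right hC
  haveI : CompactSpace ↥(W ∩ C) := isCompact_iff_compactSpace.mp hTc
  obtain ⟨x, -, hx⟩ := (isClosed_univ (X := ↥(W ∩ C))).exists_closed_singleton
    ⟨⟨z, hzW, hzZ.2⟩, Set.mem_univ _⟩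
  refine ⟨x.1, ?_, ?_⟩
  · intro hcl
    have : x.1 ∈ U ∩ C ∩ closedPoints X := ⟨⟨hWU x.2.1, x.2.2⟩, hcl⟩
    rw [hZe] at this
    exact this
  · obtain ⟨F, hF, hFx⟩ := isClosed_induced_iff.mp hx
    have : ({x.1} : Set X) = W ∩ (C ∩ F) := by
      ext y
      constructor
      · rintro rfl
        have : x ∈ Subtype.val ⁻¹' F := hFx ▸ Set.mem_singleton x
        exact ⟨x.2.1, x.2.2, this⟩
      · rintro ⟨hyW, hyC, hyF⟩
        have : (⟨y, hyW, hyC⟩ : ↥(W ∩ C)) ∈ Subtype.val ⁻¹' F := hyF
        rw [hFx] at this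
        exact congrArg Subtype.val this
    rw [this]
    exact hWo.isLocallyClosed.inter (hC.inter hF).isLocallyClosed

end Groth.Agent.S7547
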