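import Groth.Statements.S7548
-- import your own Groth.Agent.* helpers here

set_option autoImplicit false
universe u
open PtTop

namespace Groth.Agent.S7548

/-- Let X be a Jacobson space and let T = ⋃ T_i be a union of subsets T_i ⊆ X each locally closed in X
(open, closed, locally closed and constructible subsets are of this form). Then T is Jacobson and
every point of T closed in T is closed in X. -/
theorem result {X : Type u} [TopologicalSpace X] [JacobsonSpace X]
    {ι : Type u} (T : ι → Set X) (hT : ∀ i, IsLocallyClosed (T i)) :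
    JacobsonSpace ↥(⋃ i, T i) ∧
      closedPoints ↥(⋃ i, T i) ⊆ (Subtype.val : ↥(⋃ i, T i) → X) ⁻¹' closedPoints X := by
  classical
  -- second claim first
  have hcl : closedPoints ↥(⋃ i, T i) ⊆
      (Subtype.val : ↥(⋃ i, T i) → X) ⁻¹' closedPoints X := by
    intro t ht
    rw [mem_closedPoints_iff] at ht
    obtain ⟨C, hC, hCt⟩ := isClosed_induced_iff.mp ht
    obtain ⟨i, hi⟩ := Set.mem_iUnion.mp t.2
    have hmem : t.1 ∈ C := by
      have : t ∈ Subtype.val ⁻¹' C := hCt ▸ Set.mem_singleton t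
      exact this
    have heq : ({t.1} : Set X) = T i ∩ C := by
      ext x
      constructor
      · rintro rfl
        exact ⟨hi, hmem⟩
      · rintro ⟨hxT, hxC⟩
        have hx : x ∈ ⋃ i, T i := Set.mem_iUnion.mpr ⟨i, hxT⟩
        have : (⟨x, hx⟩ : ↥(⋃ i, T i)) ∈ Subtype.val ⁻¹' C := hxC
        rw [hCt] at this
        exact congrArg Subtype.val this
    have hlc : IsLocallyClosed ({t.1} : Set X) := by
      rw [heq]
      exact (hT i).inter hC.isLocallyClosed
    exact isClosed_singleton_of_isLocallyClosed_singleton hlc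
  refine ⟨?_, hcl⟩
  rw [jacobsonSpace_iff_locallyClosed]
  rintro Z ⟨z, hz⟩ hZ
  obtain ⟨U, C, hU, hC, rfl⟩ := hZ
  obtain ⟨U', hU', rfl⟩ := isOpen_induced_iff.mp hU
  obtain ⟨C', hC', rfl⟩ := isClosed_induced_iff.mp hC
  obtain ⟨i, hi⟩ := Set.mem_iUnion.mp z.2
  have hlc : IsLocallyClosed (T i ∩ (U' ∩ C')) :=
    (hT i).inter (hU'.isLocallyClosed.inter hC'.isLocallyClosed)
  have hne : (T i ∩ (U' ∩ C')).Nonempty := ⟨z.1, hi, hz.1, hz.2⟩
  obtain ⟨x, ⟨hxT, hxU, hxC⟩, hxcl⟩ := nonempty_inter_closedPoints hne hlc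
  have hx : x ∈ ⋃ i, T i := Set.mem_iUnion.mpr ⟨i, hxT⟩
  refine ⟨⟨x, hx⟩, ⟨hxU, hxC⟩, ?_⟩
  rw [mem_closedPoints_iff]
  have : ({⟨x, hx⟩} : Set ↥(⋃ i, T i)) = Subtype.val ⁻¹' {x} := by
    ext y
    simp [Subtype.ext_iff]
  rw [this]
  exact (mem_closedPoints_iff.mp hxcl).preimage continuous_subtype_val

end Groth.Agent.S7548
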