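import Groth.Statements.S7549
import Groth.Agent.Lib.Helper9.ConstrSub

set_option autoImplicit false
universe u
open PtTop

namespace Groth.Agent.S7549

/-- A nonempty constructible subset of a Jacobson space contains a closed point. -/
theorem nonempty_inter_closedPoints_of_isConstructible {X : Type u} [TopologicalSpace X]
    [JacobsonSpace X] {E : Set X} (hE : Topology.IsConstructible E) (hne : E.Nonempty) :
    (E ∩ closedPoints X).Nonempty := by
  induction hE using Groth.Agent.Lib.helper9.isConstructible_sdiff_sup_induction with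
  | sdiff U V hUo hUr hVo hVr =>
    exact nonempty_inter_closedPoints hne
      (hUo.isLocallyClosed.inter hVo.isClosed_compl.isLocallyClosed)
  | sup s t hs ht ihs iht =>
    obtain ⟨x, hx | hx⟩ := hne
    · obtain ⟨y, hy1, hy2⟩ := ihs ⟨x, hx⟩
      exact ⟨y, Or.inl hy1, hy2⟩
    · obtain ⟨y, hy1, hy2⟩ := iht ⟨x, hx⟩
      exact ⟨y, Or.inr hy1, hy2⟩

/-- Constructible sets of a Jacobson space are detected on closed points. -/
theorem subset_of_preimage_subset {X : Type u} [TopologicalSpace X]
    [JacobsonSpace X] {E E' : Set X} (hE : Topology.IsConstructible E)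
    (hE' : Topology.IsConstructible E')
    (h : (Subtype.val : closedPoints X → X) ⁻¹' E ⊆ Subtype.val ⁻¹' E') : E ⊆ E' := by
  by_contra hne
  have hne' : (E \ E').Nonempty := by
    rw [Set.not_subset] at hne
    obtain ⟨x, hx, hx'⟩ := hne
    exact ⟨x, hx, hx'⟩
  obtain ⟨y, ⟨hy1, hy2⟩, hy3⟩ :=
    nonempty_inter_closedPoints_of_isConstructible (hE.sdiff hE') hne'
  exact hy2 (h (a := ⟨y, hy3⟩) hy1)

/-- Compactness of opens of a Jacobson space is detected on closed points. -/
theorem isCompact_iff_isCompact_preimage {X : Type u} [TopologicalSpace X]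
    [JacobsonSpace X] {U : Set X} (hU : IsOpen U) (hUr : ∀ W : Set X, IsOpen W →
      ((Subtype.val : closedPoints X → X) ⁻¹' U ⊆ Subtype.val ⁻¹' W → U ⊆ W)) :
    IsCompact U ↔ IsCompact ((Subtype.val : closedPoints X → X) ⁻¹' U) := by
  constructor
  · intro hc
    rw [isCompact_iff_finite_subcover]
    intro ι W hW hcov
    have hW' : ∀ i, ∃ W' : Set X, IsOpen W' ∧ Subtype.val ⁻¹' W' = W i :=
      fun i => isOpen_induced_iff.mp (hW i)
    choose W' hW'o hW'e using hW'
    have hsub : U ⊆ ⋃ i, W' i := by
      refine hUr _ (isOpen_iUnion hW'o) ?_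
      rw [Set.preimage_iUnion]
      simpa only [hW'e] using hcov
    obtain ⟨t, ht⟩ := hc.elim_finite_subcover W' hW'o hsub
    refine ⟨t, ?_⟩
    intro x hx
    have := ht hx
    simp only [Set.mem_iUnion] at this ⊢
    obtain ⟨i, hi, hxi⟩ := this
    exact ⟨i, hi, by rw [← hW'e i]; exact hxi⟩
  · intro hc
    rw [isCompact_iff_finite_subcover]
    intro ι W hW hcov
    obtain ⟨t, ht⟩ := hc.elim_finite_subcover (fun i => Subtype.val ⁻¹' W i)
      (fun i => (hW i).preimage continuous_subtype_val) (by
        rw [← Set.preimage_iUnion]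
        exact Set.preimage_mono hcov)
    refine ⟨t, ?_⟩
    refine hUr _ (isOpen_biUnion fun i _ => hW i) ?_
    simpa only [Set.preimage_iUnion] using ht

/-- Let X be a Jacobson space and X₀ ⊆ X the subspace of closed points. (a) For U ⊆ X open, U is
quasi-compact if and only if U ∩ X₀ is quasi-compact, and U is retrocompact in X if and only if U ∩
X₀ is retrocompact in X₀. (b) The rule E ↦ E ∩ X₀ is an inclusion-preserving and
inclusion-reflecting bijection between the constructible subsets of X and the constructible subsets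
of X₀. -/
theorem result {X : Type u} [TopologicalSpace X] [JacobsonSpace X] :
    (∀ U : Set X, IsOpen U →
      (IsCompact U ↔ IsCompact ((Subtype.val : closedPoints X → X) ⁻¹' U)) ∧
      (IsRetrocompact U ↔ IsRetrocompact ((Subtype.val : closedPoints X → X) ⁻¹' U))) ∧
    (∀ E : Set X, Topology.IsConstructible E →
      Topology.IsConstructible ((Subtype.val : closedPoints X → X) ⁻¹' E)) ∧
    (∀ E E' : Set X, Topology.IsConstructible E → Topology.IsConstructible E' →
      ((Subtype.val : closedPoints X → X) ⁻¹' E ⊆ Subtype.val ⁻¹' E' ↔ E ⊆ E')) ∧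
    (∀ F : Set (closedPoints X), Topology.IsConstructible F →
      ∃ E : Set X, Topology.IsConstructible E ∧ (Subtype.val : closedPoints X → X) ⁻¹' E = F) := by
  classical
  -- opens are detected on closed points
  have hop : ∀ U W : Set X, IsOpen U → IsOpen W →
      ((Subtype.val : closedPoints X → X) ⁻¹' U ⊆ Subtype.val ⁻¹' W → U ⊆ W) := by
    intro U W hU hW h
    by_contra hne
    rw [Set.not_subset] at hne
    obtain ⟨x, hx, hx'⟩ := hne
    obtain ⟨y, ⟨hy1, hy2⟩, hy3⟩ := nonempty_inter_closedPoints (Z := U ∩ Wᶜ) ⟨x, hx, hx'⟩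
      (hU.isLocallyClosed.inter hW.isClosed_compl.isLocallyClosed)
    exact hy2 (h (a := ⟨y, hy3⟩) hy1)
  have hcomp : ∀ U : Set X, IsOpen U →
      (IsCompact U ↔ IsCompact ((Subtype.val : closedPoints X → X) ⁻¹' U)) :=
    fun U hU => isCompact_iff_isCompact_preimage hU (fun W hW => hop U W hU hW)
  have hretro : ∀ U : Set X, IsOpen U →
      (IsRetrocompact U ↔ IsRetrocompact ((Subtype.val : closedPoints X → X) ⁻¹' U)) := by
    intro U hU
    constructor
    · intro hr K₀ hK₀c hK₀o
      obtain ⟨K, hKo, rfl⟩ := isOpen_induced_iff.mp hK₀o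
      have hKc : IsCompact K := (hcomp K hKo).mpr hK₀c
      rw [← Set.preimage_inter]
      exact (hcomp _ (hU.inter hKo)).mp (hr hKc hKo)
    · intro hr K hKc hKo
      have h1 : IsCompact ((Subtype.val : closedPoints X → X) ⁻¹' K) := (hcomp K hKo).mp hKc
      have h2 := hr h1 (hKo.preimage continuous_subtype_val)
      rw [← Set.preimage_inter] at h2
      exact (hcomp _ (hU.inter hKo)).mpr h2
  refine ⟨fun U hU => ⟨hcomp U hU, hretro U hU⟩, ?_, ?_, ?_⟩
  · intro E hE
    exact hE.preimage continuous_subtype_val fun s hso hsr => (hretro s hso).mp hsr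
  · intro E E' hE hE'
    exact ⟨fun h => subset_of_preimage_subset hE hE' h, fun h => Set.preimage_mono h⟩
  · intro F hF
    induction hF using Topology.IsConstructible.empty_union_induction with
    | open_retrocompact U hUo hUr =>
      obtain ⟨U', hU'o, rfl⟩ := isOpen_induced_iff.mp hUo
      exact ⟨U', ((hretro U' hU'o).mpr hUr).isConstructible hU'o, rfl⟩
    | union s hs t ht ihs iht =>
      obtain ⟨Es, hEs, rfl⟩ := ihs
      obtain ⟨Et, hEt, rfl⟩ := iht
      exact ⟨Es ∪ Et, hEs.union hEt, rfl⟩
    | compl s hs ih =>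
      obtain ⟨Es, hEs, rfl⟩ := ih
      exact ⟨Esᶜ, hEs.compl, rfl⟩

end Groth.Agent.S7549
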