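import Groth.Statements.S7550
import Mathlib.Topology.NoetherianSpace
import Mathlib.Topology.Sober

set_option autoImplicit false
universe u
open PtTop

namespace Groth.Agent.S7550

/-- Let f : X → Y be a continuous and open map of topological spaces, with X Noetherian, every
irreducible closed subset of X having a generic point, and Y Kolmogorov. Then generalizations lift
along f. (Part (1), closed maps are specializing, is a library fact.) -/
theorem result {X Y : Type u} [TopologicalSpace X] [TopologicalSpace Y]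
    [TopologicalSpace.NoetherianSpace X] [QuasiSober X] [T0Space Y]
    (f : X → Y) (hf : Continuous f) (hfo : IsOpenMap f) :
    GeneralizingMap f := by
  intro x y hy
  set S : Set X := f ⁻¹' {y} with hS
  have hxS : x ∈ closure S := by
    rw [mem_closure_iff]
    intro U hU hxU
    have hyU : y ∈ f '' U := hy.mem_open (hfo U hU) ⟨x, hxU, rfl⟩
    obtain ⟨z, hzU, hz⟩ := hyU
    exact ⟨z, hzU, hz⟩
  -- minimal closed C with x ∈ closure (S ∩ C)
  let P : TopologicalSpace.Closeds X → Prop := fun C => x ∈ closure (S ∩ (C : Set X))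
  have hP : ∃ C, C ∈ {C | P C} := ⟨⊤, by simpa [P] using hxS⟩
  obtain ⟨C, hC, hmin⟩ := WellFounded.has_min
    (wellFounded_lt (α := TopologicalSpace.Closeds X)) {C | P C} hP
  have hC' : x ∈ closure (S ∩ (C : Set X)) := hC
  have hminle : ∀ D : TopologicalSpace.Closeds X, P D → D ≤ C → D = C := by
    intro D hD hDC
    by_contra hne
    exact hmin D hD (lt_of_le_of_ne hDC hne)
  -- C = closure (S ∩ C)
  have hCeq : (C : Set X) = closure (S ∩ (C : Set X)) := by
    have h1 : closure (S ∩ (C : Set X)) ⊆ (C : Set X) :=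
      closure_minimal Set.inter_subset_right C.isClosed
    have := hminle ⟨closure (S ∩ (C : Set X)), isClosed_closure⟩ (by
      change x ∈ closure (S ∩ closure (S ∩ (C : Set X)))
      exact closure_mono (Set.subset_inter Set.inter_subset_left subset_closure) hC') h1
    exact (congrArg (fun D : TopologicalSpace.Closeds X => (D : Set X)) this).symm
  have hxC : x ∈ (C : Set X) := hCeq ▸ hC'
  -- C irreducible
  have hirr : IsIrreducible (C : Set X) := by
    refine ⟨⟨x, hxC⟩, ?_⟩
    rw [isPreirreducible_iff_isClosed_union_isClosed]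
    intro z₁ z₂ hz₁ hz₂ hsub
    have hunion : S ∩ (C : Set X) = (S ∩ ((C : Set X) ∩ z₁)) ∪ (S ∩ ((C : Set X) ∩ z₂)) := by
      ext w
      constructor
      · rintro ⟨hw1, hw2⟩
        rcases hsub hw2 with h | h
        · exact Or.inl ⟨hw1, hw2, h⟩
        · exact Or.inr ⟨hw1, hw2, h⟩
      · rintro (⟨hw1, hw2, -⟩ | ⟨hw1, hw2, -⟩) <;> exact ⟨hw1, hw2⟩
    rw [hunion, closure_union] at hC'
    rcases hC' with h | h
    · left
      have := hminle (C ⊓ ⟨z₁, hz₁⟩) h inf_le_left
      intro w hw
      have hw' : w ∈ ((C ⊓ ⟨z₁, hz₁⟩ : TopologicalSpace.Closeds X) : Set X) := by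
        rw [this]; exact hw
      exact hw'.2
    · right
      have := hminle (C ⊓ ⟨z₂, hz₂⟩) h inf_le_left
      intro w hw
      have hw' : w ∈ ((C ⊓ ⟨z₂, hz₂⟩ : TopologicalSpace.Closeds X) : Set X) := by
        rw [this]; exact hw
      exact hw'.2
  obtain ⟨ξ, hξ⟩ := QuasiSober.sober hirr C.isClosed
  have hξC : closure {ξ} = (C : Set X) := hξ
  refine ⟨ξ, ?_, ?_⟩
  · change ξ ⤳ x
    rw [specializes_iff_mem_closure, hξC]
    exact hxC
  · -- f ξ = y by T0
    have hne : (S ∩ (C : Set X)).Nonempty := by
      by_contra hemp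
      rw [Set.not_nonempty_iff_eq_empty] at hemp
      rw [hemp, closure_empty] at hCeq
      rw [hCeq] at hxC
      exact hxC
    obtain ⟨z, hzS, hzC⟩ := hne
    have h1 : f ξ ⤳ y := by
      have : ξ ⤳ z := by
        rw [specializes_iff_mem_closure, hξC]; exact hzC
      have h2 := this.map hf
      rwa [show f z = y from hzS] at h2
    have h2 : y ⤳ f ξ := by
      rw [specializes_iff_forall_open]
      intro V hV hξV
      have hξmem : ξ ∈ closure (S ∩ (C : Set X)) := by
        rw [← hCeq, ← hξC]; exact subset_closure rfl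
      rw [mem_closure_iff] at hξmem
      obtain ⟨w, hwV, hwS, -⟩ := hξmem (f ⁻¹' V) (hV.preimage hf) hξV
      have : f w = y := hwS
      rw [← this]; exact hwV
    exact (h1.antisymm h2).eq

end Groth.Agent.S7550
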