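import Groth.Statements.S7551
import Mathlib.Order.Preorder.Finite

set_option autoImplicit false
universe u
open PtTop

namespace Groth.Agent.S7551

/-- Let s, t : R → U and π : U → X be continuous maps between topological spaces satisfying: (1) π is an
open map, (2) U is a sober space, (3) s and t have finite fibres, (4) generalizations lift along s
and along t, and (5) the image of (t, s) : R → U × U is an equivalence relation on U and π
identifies X, as a set, with the quotient of U by it. Then X is Kolmogorov. -/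
theorem result {R U X : Type u}
    [TopologicalSpace R] [TopologicalSpace U] [TopologicalSpace X] [QuasiSober U] [T0Space U]
    (s t : R → U) (π : U → X) (hs : Continuous s) (ht : Continuous t) (hπ : Continuous π)
    (hπo : IsOpenMap π) (hsf : ∀ u, (s ⁻¹' {u}).Finite) (htf : ∀ u, (t ⁻¹' {u}).Finite)
    (hsg : GeneralizingMap s) (htg : GeneralizingMap t)
    (hE : Equivalence fun u u' : U => ∃ r, t r = u ∧ s r = u')
    (hπs : Function.Surjective π) (hπq : ∀ u u' : U, π u = π u' ↔ ∃ r, t r = u ∧ s r = u') :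
    T0Space X := by
  classical
  have hfin : ∀ u : U, (π ⁻¹' {π u}).Finite := by
    intro u
    have hsub : π ⁻¹' {π u} ⊆ s '' (t ⁻¹' {u}) := by
      intro u' hu'
      have h1 : π u = π u' := (hu' : π u' = π u).symm
      obtain ⟨r, hr1, hr2⟩ := (hπq u u').mp h1
      exact ⟨r, hr1, hr2⟩
    exact ((htf u).image s).subset hsub
  -- lifting specializations
  have key : ∀ u u' : U, π u ⤳ π u' → ∃ v, π v = π u ∧ v ⤳ u' := by
    intro u u' hsp
    set W : Set U := ⋃ v ∈ π ⁻¹' {π u}, closure {v} with hW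
    have hWclosed : IsClosed W := (hfin u).isClosed_biUnion fun v _ => isClosed_closure
    have hWsat : ∀ w w', w ∈ W → π w = π w' → w' ∈ W := by
      intro w w' hw hww'
      simp only [hW, Set.mem_iUnion] at hw ⊢
      obtain ⟨v, hv, hwv⟩ := hw
      obtain ⟨r', hr't, hr's⟩ := (hπq w' w).mp hww'.symm
      have hvw : v ⤳ s r' := by
        rw [hr's]
        exact specializes_iff_mem_closure.mpr hwv
      obtain ⟨r, hrr', hsr⟩ := hsg hvw
      refine ⟨t r, ?_, ?_⟩
      · have h1 : π (t r) = π (s r) := (hπq _ _).mpr ⟨r, rfl, rfl⟩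
        show π (t r) = π u
        rw [h1, hsr]
        exact hv
      · rw [← hr't]
        exact specializes_iff_mem_closure.mp (hrr'.map ht)
    have hZ : IsClosed (π '' W) := by
      rw [← isOpen_compl_iff]
      have : (π '' W)ᶜ = π '' Wᶜ := by
        ext x
        constructor
        · intro hx
          obtain ⟨w, rfl⟩ := hπs x
          exact ⟨w, fun hw => hx ⟨w, hw, rfl⟩, rfl⟩
        · rintro ⟨w, hw, rfl⟩ ⟨w', hw', hww'⟩
          exact hw (hWsat w' w hw' hww')
      rw [this]
      exact hπo _ hWclosed.isOpen_compl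
    have hu : π u ∈ π '' W := by
      refine ⟨u, ?_, rfl⟩
      simp only [hW, Set.mem_iUnion]
      exact ⟨u, rfl, subset_closure rfl⟩
    have hu' : π u' ∈ π '' W := by
      have hcl : closure {π u} ⊆ π '' W :=
        closure_minimal (Set.singleton_subset_iff.mpr hu) hZ
      exact hcl (specializes_iff_mem_closure.mp hsp)
    obtain ⟨w, hw, hww'⟩ := hu'
    have hu'W : u' ∈ W := hWsat w u' hw hww'
    simp only [hW, Set.mem_iUnion] at hu'W
    obtain ⟨v, hv, hu'v⟩ := hu'W
    exact ⟨v, hv, specializes_iff_mem_closure.mpr hu'v⟩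
  rw [t0Space_iff_inseparable]
  intro x x' hxx'
  obtain ⟨u, rfl⟩ := hπs x
  obtain ⟨u', rfl⟩ := hπs x'
  have hsp1 : π u ⤳ π u' := hxx'.specializes
  have hsp2 : π u' ⤳ π u := hxx'.specializes'
  have hF : (π ⁻¹' {π u} ∪ π ⁻¹' {π u'}).Finite := (hfin u).union (hfin u')
  have hFne : (π ⁻¹' {π u} ∪ π ⁻¹' {π u'}).Nonempty := ⟨u, Or.inl rfl⟩
  letI := specializationPreorder U
  obtain ⟨m, hmF, hmax⟩ := hF.exists_maximal hFne
  have hmax' : ∀ y ∈ π ⁻¹' {π u} ∪ π ⁻¹' {π u'}, y ⤳ m → m ⤳ y := fun y hy h => hmax hy h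
  rcases hmF with hm | hm
  · have hm' : π m = π u := hm
    obtain ⟨v, hv1, hv2⟩ := key u' m (hm'.symm ▸ hsp2)
    have hvm : m ⤳ v := hmax' v (Or.inr hv1) hv2
    have : v = m := (hv2.antisymm hvm).eq
    rw [← hm', ← this, hv1]
  · have hm' : π m = π u' := hm
    obtain ⟨v, hv1, hv2⟩ := key u m (hm'.symm ▸ hsp1)
    have hvm : m ⤳ v := hmax' v (Or.inl hv1) hv2
    have : v = m := (hv2.antisymm hvm).eq
    rw [← hm', ← this, hv1]

end Groth.Agent.S7551
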