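import Groth.Statements.S7552
import Groth.Agent.S10838

set_option autoImplicit false
universe u
open PtTop

namespace Groth.Agent.S7552

open Groth.Agent.S10838 in
theorem height_le_of_specializing {X W : Type u} [TopologicalSpace X] [TopologicalSpace W]
    (g : X → W) (hg : Continuous g) (hspec : SpecializingMap g) [QuasiSober W] :
    ∀ (n : ℕ) (x : X), Order.height (clPt x) ≤ n → Order.height (clPt (g x)) ≤ n := by
  intro n
  induction n with
  | zero =>
    intro x hx
    rw [Order.height_le_coe_iff] at hx ⊢
    intro b hb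
    exfalso
    obtain ⟨ξ, hξ⟩ := QuasiSober.sober b.isIrreducible b.isClosed
    have hb' : clPt ξ = b := TopologicalSpace.IrreducibleCloseds.ext hξ.def
    rw [← hb'] at hb
    obtain ⟨x₁, hx₁, rfl⟩ := hspec ((clPt_le_iff _ _).mp hb.le)
    have hlt : clPt x₁ < clPt x := by
      refine lt_of_le_not_ge ((clPt_le_iff _ _).mpr hx₁) fun hle => ?_
      exact hb.not_ge ((clPt_le_iff _ _).mpr (((clPt_le_iff _ _).mp hle).map hg))
    exact not_lt_zero (hx _ hlt)
  | succ m ih =>
    intro x hx
    rw [Order.height_le_coe_iff] at hx ⊢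
    intro b hb
    obtain ⟨ξ, hξ⟩ := QuasiSober.sober b.isIrreducible b.isClosed
    have hb' : clPt ξ = b := TopologicalSpace.IrreducibleCloseds.ext hξ.def
    rw [← hb'] at hb ⊢
    obtain ⟨x₁, hx₁, rfl⟩ := hspec ((clPt_le_iff _ _).mp hb.le)
    have hlt : clPt x₁ < clPt x := by
      refine lt_of_le_not_ge ((clPt_le_iff _ _).mpr hx₁) fun hle => ?_
      exact hb.not_ge ((clPt_le_iff _ _).mpr (((clPt_le_iff _ _).mp hle).map hg))
    have h1 : Order.height (clPt x₁) < ((m + 1 : ℕ) : ℕ∞) := hx _ hlt
    have h2 : Order.height (clPt x₁) ≤ (m : ℕ∞) := by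
      rw [Nat.cast_add, Nat.cast_one] at h1
      exact Order.le_of_lt_add_one h1
    calc Order.height (clPt (g x₁)) ≤ (m : ℕ∞) := ih x₁ h2
      _ < ((m + 1 : ℕ) : ℕ∞) := by exact_mod_cast Nat.lt_succ_self m

open Groth.Agent.S10838 in
theorem topologicalKrullDim_le_of_specializing {X W : Type u} [TopologicalSpace X]
    [TopologicalSpace W] (g : X → W) (hg : Continuous g) (hspec : SpecializingMap g)
    (hsurj : Function.Surjective g) [QuasiSober W] :
    topologicalKrullDim W ≤ topologicalKrullDim X := by
  rw [topologicalKrullDim, Order.krullDim_eq_iSup_height]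
  refine iSup_le fun b => ?_
  obtain ⟨ξ, hξ⟩ := QuasiSober.sober b.isIrreducible b.isClosed
  have hb' : clPt ξ = b := TopologicalSpace.IrreducibleCloseds.ext hξ.def
  obtain ⟨x, rfl⟩ := hsurj ξ
  rw [← hb']
  have hX : ((Order.height (clPt x) : ℕ∞) : WithBot ℕ∞) ≤ topologicalKrullDim X := by
    rw [topologicalKrullDim, Order.krullDim_eq_iSup_height]
    exact le_iSup (fun a : TopologicalSpace.IrreducibleCloseds X =>
      ((Order.height a : ℕ∞) : WithBot ℕ∞)) (clPt x)
  refine le_trans (WithBot.coe_le_coe.mpr ?_) hX
  rcases eq_or_ne (Order.height (clPt x)) ⊤ with htop | hne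
  · rw [htop]; exact le_top
  · obtain ⟨n, hn⟩ := ENat.ne_top_iff_exists.mp hne
    rw [← hn]
    exact height_le_of_specializing g hg hspec n x hn.symm.le

/-- Let f : X → Y be a continuous surjective map of topological spaces with Y sober, and assume that
specializations lift along f or that generalizations lift along f. Then dim X ≥ dim Y (Krull
dimensions as suprema of lengths of chains of irreducible closed subsets). -/
theorem result {X Y : Type u}
    [TopologicalSpace X] [TopologicalSpace Y] [QuasiSober Y] [T0Space Y]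
    (f : X → Y) (hf : Continuous f) (hsurj : Function.Surjective f)
    (hlift : SpecializingMap f ∨ GeneralizingMap f) :
    topologicalKrullDim Y ≤ topologicalKrullDim X := by
  rcases hlift with h | h
  · exact topologicalKrullDim_le_of_specializing f hf h hsurj
  · exact Groth.Agent.S10838.topologicalKrullDim_le_of_generalizing f hf h hsurj

end Groth.Agent.S7552
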