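import Groth.Statements.S7556
import Mathlib.Topology.Compactification.StoneCech

set_option autoImplicit false
universe u
open PtTop

namespace Groth.Agent.S7556

/-- A discrete copy of a type. -/
structure Disc (X : Type u) where
  /-- the underlying point -/
  val : X

instance (X : Type u) : TopologicalSpace (Disc X) := ⊥
instance (X : Type u) : DiscreteTopology (Disc X) := ⟨rfl⟩

/-- An endomorphism of a minimal cover over the base is the identity. -/
theorem eq_id_of_minimal {E A : Type u} [TopologicalSpace E] [T2Space E]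
    {ρ : E → A} (ρ_surj : Function.Surjective ρ)
    (hmin : ∀ E₀ : Set E, IsClosed E₀ → E₀ ≠ Set.univ → ρ '' E₀ ≠ Set.univ)
    {s : E → E} (hs : Continuous s) (hρs : ρ ∘ s = ρ) : s = id := by
  funext e
  by_contra hne
  obtain ⟨V, U, hV, hU, hsV, heU, hVU⟩ := t2_separation hne
  have hW : IsOpen (U ∩ s ⁻¹' V) := hU.inter (hV.preimage hs)
  have heW : e ∈ U ∩ s ⁻¹' V := ⟨heU, hsV⟩
  have hne' : (U ∩ s ⁻¹' V)ᶜ ≠ Set.univ := fun h =>
    (h ▸ Set.mem_univ e : e ∈ (U ∩ s ⁻¹' V)ᶜ) heW
  refine hmin _ hW.isClosed_compl hne' ?_
  rw [Set.eq_univ_iff_forall]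
  intro a
  obtain ⟨x, rfl⟩ := ρ_surj a
  by_cases hx : x ∈ U ∩ s ⁻¹' V
  · refine ⟨s x, ?_, congrFun hρs x⟩
    intro hsx
    exact Set.disjoint_left.mp hVU hx.2 hsx.1
  · exact ⟨x, hx, rfl⟩

/-- Let X be a quasi-compact Hausdorff space. There is a continuous surjection p : X' → X with X'
quasi-compact, Hausdorff and extremally disconnected such that no proper closed subset of X' maps
onto X; and if q : X'' → X is a second cover with the same properties, there is a homeomorphism X' ≃
X'' compatible with p and q. -/
theorem result (X : Type u) [TopologicalSpace X] [CompactSpace X] [T2Space X] :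
    (∃ (X' : Type u) (_ : TopologicalSpace X') (_ : CompactSpace X') (_ : T2Space X') (_ : ExtremallyDisconnected X')
        (p : X' → X), Continuous p ∧ Function.Surjective p ∧
        ∀ E : Set X', IsClosed E → E ≠ Set.univ → p '' E ≠ Set.univ) ∧
    (∀ (X' X'' : Type u) [TopologicalSpace X'] [CompactSpace X'] [T2Space X'] [ExtremallyDisconnected X']
        [TopologicalSpace X''] [CompactSpace X''] [T2Space X''] [ExtremallyDisconnected X'']
        (p : X' → X) (q : X'' → X),
        Continuous p → Function.Surjective p → (∀ E : Set X', IsClosed E → E ≠ Set.univ → p '' E ≠ Set.univ) →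
        Continuous q → Function.Surjective q → (∀ E : Set X'', IsClosed E → E ≠ Set.univ → q '' E ≠ Set.univ) →
        ∃ h : X' ≃ₜ X'', q ∘ h = p) := by
  constructor
  · have hcont : Continuous (fun d : Disc X => d.val) := continuous_of_discreteTopology
    have π_cont : Continuous (stoneCechExtend hcont) := continuous_stoneCechExtend hcont
    have π_surj : Function.Surjective (stoneCechExtend hcont) := fun x =>
      ⟨stoneCechUnit ⟨x⟩, stoneCechExtend_stoneCechUnit hcont ⟨x⟩⟩
    obtain ⟨E, hEc, hEsurj, hEmin⟩ := exists_compact_surjective_zorn_subset π_cont π_surj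
    have hDproj : CompactT2.Projective (StoneCech (Disc X)) := StoneCech.projective
    have ρ_cont : Continuous (fun e : E => stoneCechExtend hcont e.1) :=
      π_cont.comp continuous_subtype_val
    have ρ_surj : Function.Surjective (fun e : E => stoneCechExtend hcont e.1) := by
      intro x
      have : x ∈ stoneCechExtend hcont '' E := hEsurj ▸ Set.mem_univ x
      obtain ⟨d, hd, rfl⟩ := this
      exact ⟨⟨d, hd⟩, rfl⟩
    have hmin' : ∀ E₀ : Set E, IsClosed E₀ → E₀ ≠ Set.univ →
        (fun e : E => stoneCechExtend hcont e.1) '' E₀ ≠ Set.univ :=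
      fun E₀ hc hne => hEmin E₀ hne hc
    obtain ⟨r, r_cont, hr⟩ := hDproj (f := stoneCechExtend hcont)
      (g := fun e : E => stoneCechExtend hcont e.1) π_cont ρ_cont ρ_surj
    have hid : r ∘ Subtype.val = id :=
      eq_id_of_minimal ρ_surj hmin' (r_cont.comp continuous_subtype_val) (by
        rw [← Function.comp_assoc, hr]
        rfl)
    have hEproj : CompactT2.Projective E := by
      intro Y Z _ _ _ _ _ _ f g hf hg hgs
      obtain ⟨h, hh, hgh⟩ := hDproj (f := f ∘ r) (g := g) (hf.comp r_cont) hg hgs
      refine ⟨h ∘ Subtype.val, hh.comp continuous_subtype_val, ?_⟩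
      rw [← Function.comp_assoc, hgh, Function.comp_assoc, hid]
      rfl
    have hED : ExtremallyDisconnected E := hEproj.extremallyDisconnected
    exact ⟨E, inferInstance, hEc, inferInstance, hED, fun e : E => stoneCechExtend hcont e.1,
      ρ_cont, ρ_surj, hmin'⟩
  · intro X' X'' _ _ _ _ _ _ _ _ p q hp hps hpmin hq hqs hqmin
    have hproj : CompactT2.Projective X' := CompactT2.ExtremallyDisconnected.projective
    obtain ⟨h, hh, hqh⟩ := hproj (f := p) (g := q) hp hq hqs
    have hsurj : Function.Surjective h := by
      have hcl : IsClosed (Set.range h) := (isCompact_range hh).isClosed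
      by_contra hns
      have hne : Set.range h ≠ Set.univ := fun e => hns (Set.range_eq_univ.mp e)
      refine hqmin (Set.range h) hcl hne ?_
      rw [← Set.range_comp, hqh]
      exact hps.range_eq
    have hmin : ∀ E₀ : Set X', E₀ ≠ Set.univ → IsClosed E₀ → h '' E₀ ≠ Set.univ := by
      intro E₀ hne hc heq
      refine hpmin E₀ hc hne ?_
      rw [← hqh, Set.image_comp, heq, Set.image_univ]
      exact hqs.range_eq
    refine ⟨ExtremallyDisconnected.homeoCompactToT2 hh hsurj hmin, ?_⟩
    rw [← hqh]
    rfl

end Groth.Agent.S7556
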