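import Groth.Statements.S7557
import Mathlib

set_option autoImplicit false
universe u
open CategoryTheory CategoryTheory.Limits
open PtTop

namespace Groth.Agent.S7557

section aux

variable {J : Type u} [Category.{u} J] (F : J ⥤ TopCommRingCat.{u})

/-- compatible families -/
def sectionsSubring : Subring (∀ j, F.obj j) where
  carrier := {x | ∀ ⦃i j : J⦄ (f : i ⟶ j), (F.map f).1 (x i) = x j}
  mul_mem' {a b} ha hb i j f := by
    show (F.map f).1 (a i * b i) = a j * b j
    rw [map_mul, ha f, hb f]
  one_mem' i j f := by
    show (F.map f).1 1 = 1
    rw [map_one]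
  add_mem' {a b} ha hb i j f := by
    show (F.map f).1 (a i + b i) = a j + b j
    rw [map_add, ha f, hb f]
  zero_mem' i j f := by
    show (F.map f).1 0 = 0
    rw [map_zero]
  neg_mem' {a} ha i j f := by
    show (F.map f).1 (- a i) = - a j
    rw [map_neg, ha f]

/-- the limit cone -/
def limCone : Cone F where
  pt := TopCommRingCat.of (sectionsSubring F)
  π :=
    { app := fun j => ⟨(Pi.evalRingHom (fun j => F.obj j) j).comp (sectionsSubring F).subtype,
        (continuous_apply j).comp continuous_subtype_val⟩
      naturality := fun i j f => by
        apply Subtype.ext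
        apply RingHom.ext
        intro x
        exact (x.2 f).symm }

/-- it is a limit -/
def isLim : IsLimit (limCone F) where
  lift s := ⟨
    { toFun := fun x => ⟨fun j => (s.π.app j).1 x, fun i j f => by
        show (F.map f).1 ((s.π.app i).1 x) = (s.π.app j).1 x
        rw [← s.w f]; rfl⟩
      map_one' := by
        apply Subtype.ext; funext j; exact map_one (s.π.app j).1
      map_mul' := fun a b => by
        apply Subtype.ext; funext j; exact map_mul (s.π.app j).1 a b
      map_zero' := by
        apply Subtype.ext; funext j; exact map_zero (s.π.app j).1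
      map_add' := fun a b => by
        apply Subtype.ext; funext j; exact map_add (s.π.app j).1 a b },
    Continuous.subtype_mk (continuous_pi fun j => (s.π.app j).2) _⟩
  fac s j := by
    apply Subtype.ext
    apply RingHom.ext
    intro x
    rfl
  uniq s m hm := by
    apply Subtype.ext
    apply RingHom.ext
    intro x
    apply Subtype.ext
    funext j
    exact congrArg (fun g => g.1 x) (hm j)

/-- the image in `TopCat` is a limit -/
def isLimTop : IsLimit ((forget₂ TopCommRingCat.{u} TopCat.{u}).mapCone (limCone F)) where
  lift t := TopCat.ofHom ⟨fun x => ⟨fun j => (t.π.app j).hom x, fun i j f => by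
      show (F.map f).1 ((t.π.app i).hom x) = (t.π.app j).hom x
      rw [← t.w f]; rfl⟩,
    Continuous.subtype_mk (continuous_pi fun j => (t.π.app j).hom.2) _⟩
  fac t j := by
    ext x
    rfl
  uniq t m hm := by
    ext x
    apply Subtype.ext
    funext j
    exact congrArg (fun g => g.hom x) (hm j)

/-- the image in `CommRingCat` is a limit -/
def isLimRing : IsLimit ((forget₂ TopCommRingCat.{u} CommRingCat.{u}).mapCone (limCone F)) where
  lift t := CommRingCat.ofHom
    { toFun := fun x => ⟨fun j => (t.π.app j).hom x, fun i j f => by
        show (F.map f).1 ((t.π.app i).hom x) = (t.π.app j).hom x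
        rw [← t.w f]; rfl⟩
      map_one' := by
        apply Subtype.ext; funext j; exact map_one (t.π.app j).hom
      map_mul' := fun a b => by
        apply Subtype.ext; funext j; exact map_mul (t.π.app j).hom a b
      map_zero' := by
        apply Subtype.ext; funext j; exact map_zero (t.π.app j).hom
      map_add' := fun a b => by
        apply Subtype.ext; funext j; exact map_add (t.π.app j).hom a b }
  fac t j := by
    ext x
    rfl
  uniq t m hm := by
    ext x
    apply Subtype.ext
    funext j
    exact congrArg (fun g => g.hom x) (hm j)

end aux

/-- The category of topological rings (commutative, with continuous ring homomorphisms) has limits, and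
limits commute with the forgetful functors to topological spaces and to rings. -/
theorem result :
    HasLimits TopCommRingCat.{u} ∧
    PreservesLimits (forget₂ TopCommRingCat.{u} TopCat.{u}) ∧
    PreservesLimits (forget₂ TopCommRingCat.{u} CommRingCat.{u}) := by
  refine ⟨⟨fun {J} _ => ⟨fun {F} => ⟨⟨limCone F, isLim F⟩⟩⟩⟩, ⟨fun {J} _ => ⟨fun {F} => ?_⟩⟩,
    ⟨fun {J} _ => ⟨fun {F} => ?_⟩⟩⟩
  · exact preservesLimit_of_preserves_limit_cone (isLim F) (isLimTop F)
  · exact preservesLimit_of_preserves_limit_cone (isLim F) (isLimRing F)

end Groth.Agent.S7557
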