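import Groth.Statements.S7558
import Mathlib.Algebra.Category.Ring.Colimits
import Mathlib.Topology.Algebra.Ring.Basic

set_option autoImplicit false
universe u
open CategoryTheory CategoryTheory.Limits
open PtTop

namespace Groth.Agent.S7558

section Construction

variable {J : Type u} [Category.{u} J] (F : J ⥤ TopCommRingCat.{u})

/-- The underlying diagram of commutative rings. -/
noncomputable abbrev G : J ⥤ CommRingCat.{u} := F ⋙ forget₂ TopCommRingCat.{u} CommRingCat.{u}

/-- The underlying colimit ring. -/
noncomputable abbrev R : CommRingCat.{u} := colimit (G F)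

/-- The coprojections, as ring homomorphisms. -/
noncomputable def inc (j : J) : (F.obj j) →+* (R F) := (colimit.ι (G F) j).hom

/-- The finest ring topology on the colimit ring making all coprojections continuous. -/
noncomputable def τ₀ : RingTopology (R F) :=
  ⨆ j : J, @RingTopology.coinduced (F.obj j) (R F) (F.obj j).isTopologicalSpace _ (inc F j)

theorem inc_continuous (j : J) :
    @Continuous _ _ (F.obj j).isTopologicalSpace (τ₀ F).toTopologicalSpace (inc F j) := by
  have h1 := @RingTopology.coinduced_continuous (F.obj j) (R F) (F.obj j).isTopologicalSpace _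
    (inc F j)
  have h2 : @RingTopology.coinduced (F.obj j) (R F) (F.obj j).isTopologicalSpace _ (inc F j) ≤
      τ₀ F := le_iSup (fun j : J =>
        @RingTopology.coinduced (F.obj j) (R F) (F.obj j).isTopologicalSpace _ (inc F j)) j
  have h3 : @Continuous _ _ (@RingTopology.coinduced (F.obj j) (R F)
      (F.obj j).isTopologicalSpace _ (inc F j)).toTopologicalSpace (τ₀ F).toTopologicalSpace id :=
    @continuous_id_of_le (R F) _ _ h2
  exact @Continuous.comp _ _ _ (F.obj j).isTopologicalSpace
    (@RingTopology.coinduced (F.obj j) (R F) (F.obj j).isTopologicalSpace _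
      (inc F j)).toTopologicalSpace (τ₀ F).toTopologicalSpace (inc F j) id h3 h1

/-- Continuity of a ring hom out of the colimit can be checked on the coprojections. -/
theorem continuous_of_comp (S : TopCommRingCat.{u}) (h : (R F) →+* S)
    (hh : ∀ j, @Continuous _ _ (F.obj j).isTopologicalSpace S.isTopologicalSpace
      (fun x => h (inc F j x))) :
    @Continuous _ _ (τ₀ F).toTopologicalSpace S.isTopologicalSpace h := by
  let tS : TopologicalSpace (R F) := TopologicalSpace.induced h S.isTopologicalSpace
  have hring : @IsTopologicalRing (R F) tS _ := by
    let _ := tS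
    let _ := S.isTopologicalSpace
    have hind : Topology.IsInducing h := ⟨rfl⟩
    exact
      { toContinuousAdd := hind.continuousAdd h
        toContinuousMul := hind.continuousMul h
        toContinuousNeg := hind.continuousNeg (map_neg h) }
  let τ' : RingTopology (R F) := { toTopologicalSpace := tS, toIsTopologicalRing := hring }
  have hle : τ₀ F ≤ τ' := by
    apply iSup_le
    intro j
    apply sInf_le
    change TopologicalSpace.coinduced (inc F j) (F.obj j).isTopologicalSpace ≤ tS
    rw [← continuous_iff_coinduced_le, continuous_induced_rng]
    exact hh j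
  have hle' : (τ₀ F).toTopologicalSpace ≤ tS := hle
  rw [continuous_iff_le_induced]
  exact hle'

/-- The colimit object. -/
noncomputable def pt : TopCommRingCat.{u} :=
  @TopCommRingCat.of (R F) _ (τ₀ F).toTopologicalSpace (τ₀ F).toIsTopologicalRing

/-- The colimit cocone. -/
noncomputable def cocone : Cocone F where
  pt := pt F
  ι :=
    { app := fun j => ⟨inc F j, inc_continuous F j⟩
      naturality := by
        intro j j' f
        apply Subtype.ext
        have := colimit.w (G F) f
        ext x
        exact congrArg (fun g => g.hom x) this }

/-- The colimit cocone is a colimit. -/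
noncomputable def isColimit : IsColimit (cocone F) where
  desc s :=
    ⟨(colimit.desc (G F) ((forget₂ TopCommRingCat.{u} CommRingCat.{u}).mapCocone s)).hom, by
      apply continuous_of_comp F s.pt
      intro j
      have h1 : colimit.ι (G F) j ≫ colimit.desc (G F)
          ((forget₂ TopCommRingCat.{u} CommRingCat.{u}).mapCocone s) =
          (forget₂ TopCommRingCat.{u} CommRingCat.{u}).map (s.ι.app j) := colimit.ι_desc _ _
      have h2 : ∀ x, (colimit.desc (G F)
          ((forget₂ TopCommRingCat.{u} CommRingCat.{u}).mapCocone s)).hom (inc F j x) =
          (s.ι.app j).1 x := by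
        intro x
        exact congrArg (fun g => g.hom x) h1
      exact (@continuous_congr _ _ (F.obj j).isTopologicalSpace s.pt.isTopologicalSpace _ _
        h2).mpr (s.ι.app j).2⟩
  fac s j := by
    apply Subtype.ext
    have h1 : colimit.ι (G F) j ≫ colimit.desc (G F)
        ((forget₂ TopCommRingCat.{u} CommRingCat.{u}).mapCocone s) =
        (forget₂ TopCommRingCat.{u} CommRingCat.{u}).map (s.ι.app j) := colimit.ι_desc _ _
    ext x
    exact congrArg (fun g => g.hom x) h1
  uniq s m hm := by
    apply Subtype.ext
    have h1 : (forget₂ TopCommRingCat.{u} CommRingCat.{u}).map m =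
        colimit.desc (G F) ((forget₂ TopCommRingCat.{u} CommRingCat.{u}).mapCocone s) := by
      apply colimit.hom_ext
      intro j
      rw [colimit.ι_desc]
      have h := congrArg (fun g => (forget₂ TopCommRingCat.{u} CommRingCat.{u}).map g) (hm j)
      simp only [Functor.map_comp] at h
      exact h
    ext x
    exact congrArg (fun g => g.hom x) h1

end Construction

/-- The category of topological rings (commutative, with continuous ring homomorphisms) has colimits,
and colimits commute with the forgetful functor to rings. -/
theorem result :
    HasColimits TopCommRingCat.{u} ∧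
    PreservesColimits (forget₂ TopCommRingCat.{u} CommRingCat.{u}) := by
  refine ⟨⟨fun J _ => ⟨fun F => HasColimit.mk ⟨cocone F, isColimit F⟩⟩⟩, ⟨fun {J} _ => ⟨fun {F} => ?_⟩⟩⟩
  apply preservesColimit_of_preserves_colimit_cocone (isColimit F)
  refine IsColimit.ofIsoColimit (colimit.isColimit (G F)) (Cocone.ext (Iso.refl _) ?_)
  intro j
  rfl

end Groth.Agent.S7558
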