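import Groth.Statements.S7559
import Groth.Agent.Lib.Helper9.Stratify
import Mathlib.Data.Fintype.Sum

set_option autoImplicit false
universe u
open PtTop

namespace Groth.Agent.S7559

/-- Let X be a topological space and X = ∐ P_k a finite partition into locally closed parts. Then there
is a finite stratification of X refining it: a finite partially ordered index set I and pairwise
disjoint locally closed strata S_i covering X with closure(S_j) ⊆ ⋃_{i ≤ j} S_i, such that every
part P_k is a union of strata. -/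
theorem result {X : Type u} [TopologicalSpace X]
    {n : ℕ} (P : Fin n → Set X) (hP : ∀ k, IsLocallyClosed (P k)) (hcov : ⋃ k, P k = Set.univ)
    (hdisj : ∀ k k', k ≠ k' → Disjoint (P k) (P k')) :
    ∃ (I : Type) (_ : Fintype I) (_ : PartialOrder I) (S : I → Set X),
      (∀ i, IsLocallyClosed (S i)) ∧ (⋃ i, S i = Set.univ) ∧ (∀ i j, i ≠ j → Disjoint (S i) (S j)) ∧
      (∀ j, closure (S j) ⊆ ⋃ i ∈ Set.Iic j, S i) ∧
      (∀ i k, (S i ∩ P k).Nonempty → S i ⊆ P k) := by
  classical
  choose U Z hU hZ hPUZ using hP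
  obtain ⟨I, hI1, hI2, S, h1, h2, h3, h4, h5, -⟩ :=
    Groth.Agent.Lib.helper9.exists_stratification_of_closed_family
      (L := Fin n ⊕ Fin n) (fun l => Sum.elim (fun k => (U k)ᶜ) (fun k => Z k) l)
      (by
        rintro (k | k)
        · exact (hU k).isClosed_compl
        · exact hZ k)
  refine ⟨I, hI1, hI2, S, h1, h2, h3, h4, ?_⟩
  rintro i k ⟨x, hxS, hxP⟩ y hyS
  rw [hPUZ k] at hxP ⊢
  have e1 := h5 i x hxS y hyS (Sum.inl k)
  have e2 := h5 i x hxS y hyS (Sum.inr k)
  simp only [Sum.elim_inl, Sum.elim_inr, Set.mem_compl_iff] at e1 e2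
  exact ⟨not_not.mp (fun h => (e1.mpr h) hxP.1), e2.mp hxP.2⟩

end Groth.Agent.S7559
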