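import Groth.Statements.S7560
import Groth.Agent.Lib.Helper9.Stratify

set_option autoImplicit false
universe u
open ConstrTop

namespace Groth.Agent.S7560

/-- Let X be a topological space written as a finite union X = T_1 ∪ … ∪ T_n of constructible subsets.
Then there is a finite stratification X = ∐ S_i (pairwise disjoint locally closed strata indexed by
a finite partially ordered set, with closure(S_j) ⊆ ⋃_{i ≤ j} S_i) whose strata are constructible
and such that every T_k is a union of strata. -/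
theorem result {X : Type u} [TopologicalSpace X]
    {n : ℕ} (T : Fin n → Set X) (hT : ∀ k, Topology.IsConstructible (T k)) (hcov : ⋃ k, T k = Set.univ) :
    ∃ (I : Type) (_ : Fintype I) (_ : PartialOrder I) (S : I → Set X),
      (∀ i, IsLocallyClosed (S i) ∧ Topology.IsConstructible (S i)) ∧ (⋃ i, S i = Set.univ) ∧
      (∀ i j, i ≠ j → Disjoint (S i) (S j)) ∧
      (∀ j, closure (S j) ⊆ ⋃ i ∈ Set.Iic j, S i) ∧
      (∀ i k, (S i ∩ T k).Nonempty → S i ⊆ T k) := by
  classical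
  have hfam := fun k => Groth.Agent.Lib.helper9.exists_finset_closed_of_isConstructible (hT k)
  choose 𝒞 h𝒞 h𝒞' using hfam
  set 𝒟 : Finset (Set X) := Finset.univ.biUnion 𝒞 with h𝒟
  have hmem𝒟 : ∀ k, ∀ C ∈ 𝒞 k, C ∈ 𝒟 := fun k C hC =>
    Finset.mem_biUnion.mpr ⟨k, Finset.mem_univ k, hC⟩
  have h𝒟prop : ∀ C ∈ 𝒟, IsClosed C ∧ IsRetrocompact Cᶜ := by
    intro C hC
    obtain ⟨k, -, hk⟩ := Finset.mem_biUnion.mp hC
    exact h𝒞 k C hk
  let e := 𝒟.equivFin
  obtain ⟨I, hI1, hI2, S, h1, h2, h3, h4, h5, h6⟩ :=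
    Groth.Agent.Lib.helper9.exists_stratification_of_closed_family
      (L := Fin 𝒟.card) (fun l => ((e.symm l : 𝒟) : Set X))
      (fun l => (h𝒟prop _ (e.symm l).2).1)
  have h6' := h6 (fun l => (h𝒟prop _ (e.symm l).2).2)
  refine ⟨I, hI1, hI2, S, fun i => ⟨h1 i, h6' i⟩, h2, h3, h4, ?_⟩
  rintro i k ⟨x, hxS, hxT⟩ y hyS
  refine h𝒞' k x y ?_ hxT
  intro C hC
  have := h5 i x hxS y hyS (e ⟨C, hmem𝒟 k C hC⟩)
  simpa using this

end Groth.Agent.S7560
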