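import Groth.Statements.S7561
import Mathlib

set_option autoImplicit false
universe u
open PtTop

namespace Groth.Agent.S7561

/-- a nonempty relatively open part of a finite union of locally closed sets lies in one of them -/
theorem exists_open_part {X : Type u} [TopologicalSpace X] {κ : Type} (Z : Set X) (P : κ → Set X)
    (hP : ∀ k, IsLocallyClosed (P k)) (s : Finset κ) :
    ∀ (O₀ : Set X), IsOpen O₀ → (Z ∩ O₀).Nonempty → Z ∩ O₀ ⊆ ⋃ k ∈ s, P k →
      ∃ k ∈ s, ∃ O : Set X, IsOpen O ∧ (Z ∩ O).Nonempty ∧ Z ∩ O ⊆ P k := by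
  classical
  induction s using Finset.induction_on with
  | empty =>
    intro O₀ _ hne hsub
    obtain ⟨x, hx⟩ := hne
    have := hsub hx
    simp at this
  | insert a s' ha ih =>
    intro O₀ hO₀ hne hsub
    obtain ⟨Oa, C, hOa, hC, hPa⟩ := hP a
    by_cases hA : (Z ∩ (O₀ ∩ Cᶜ)).Nonempty
    · -- points outside `C` are not in `P a`
      obtain ⟨k, hk, O, hO, hne', hsub'⟩ := ih (O₀ ∩ Cᶜ) (hO₀.inter hC.isOpen_compl) hA (by
        intro x hx
        have h1 := hsub ⟨hx.1, hx.2.1⟩
        simp only [Finset.mem_insert, Set.iUnion_iUnion_eq_or_left, Set.mem_union] at h1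
        rcases h1 with h1 | h1
        · rw [hPa] at h1
          exact absurd h1.2 hx.2.2
        · exact h1)
      exact ⟨k, Finset.mem_insert_of_mem hk, O, hO, hne', hsub'⟩
    · have hZC : Z ∩ O₀ ⊆ C := by
        intro x hx
        by_contra hxC
        exact hA ⟨x, hx.1, hx.2, hxC⟩
      by_cases hB : (Z ∩ (O₀ ∩ Oa)).Nonempty
      · refine ⟨a, Finset.mem_insert_self a s', O₀ ∩ Oa, hO₀.inter hOa, hB, ?_⟩
        intro x hx
        rw [hPa]
        exact ⟨hx.2.2, hZC ⟨hx.1, hx.2.1⟩⟩
      · obtain ⟨k, hk, O, hO, hne', hsub'⟩ := ih O₀ hO₀ hne (by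
          intro x hx
          have h1 := hsub hx
          simp only [Finset.mem_insert, Set.iUnion_iUnion_eq_or_left, Set.mem_union] at h1
          rcases h1 with h1 | h1
          · rw [hPa] at h1
            exact absurd ⟨x, hx.1, hx.2, h1.1⟩ hB
          · exact h1)
        exact ⟨k, Finset.mem_insert_of_mem hk, O, hO, hne', hsub'⟩

/-- good stratifications refining a finite locally closed partition of a closed subset of a
Noetherian space -/
theorem exists_good_stratification {X : Type u} [TopologicalSpace X]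
    [TopologicalSpace.NoetherianSpace X] (Z : TopologicalSpace.Closeds X) :
    ∀ (κ : Type) [Finite κ] (P : κ → Set X), (∀ k, IsLocallyClosed (P k)) →
      (⋃ k, P k = (Z : Set X)) → (∀ k k', k ≠ k' → Disjoint (P k) (P k')) →
      ∃ (σ : Type) (_ : Finite σ) (S : σ → Set X),
        (∀ i, IsLocallyClosed (S i)) ∧ (⋃ i, S i = (Z : Set X)) ∧
        (∀ i j, i ≠ j → Disjoint (S i) (S j)) ∧
        (∀ i j, (S i ∩ closure (S j)).Nonempty → S i ⊆ closure (S j)) ∧
        (∀ i k, (S i ∩ P k).Nonempty → S i ⊆ P k) := by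
  classical
  induction Z using WellFoundedLT.induction with
  | ind Z ih =>
  intro κ hκ P hP hcov hdisj
  by_cases hZ : (Z : Set X) = ∅
  · refine ⟨PEmpty, inferInstance, PEmpty.elim, fun i => i.elim, ?_, fun i => i.elim,
      fun i => i.elim, fun i => i.elim⟩
    rw [hZ]
    simp
  · have hZne : (Z : Set X).Nonempty := Set.nonempty_iff_ne_empty.mpr hZ
    haveI := Fintype.ofFinite κ
    obtain ⟨i₀, -, O, hO, hUne, hUsub⟩ := exists_open_part (Z : Set X) P hP Finset.univ Set.univ
      isOpen_univ (by simpa using hZne) (by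
        intro x hx
        have : x ∈ ⋃ k, P k := hcov ▸ hx.1
        simpa using this)
    set U : Set X := (Z : Set X) ∩ O with hU
    -- the smaller closed set
    let Z' : TopologicalSpace.Closeds X := ⟨(Z : Set X) ∩ Oᶜ, Z.2.inter hO.isClosed_compl⟩
    have hZ'lt : Z' < Z := by
      refine lt_of_le_of_ne (fun x hx => hx.1) ?_
      intro h
      obtain ⟨x, hx⟩ := hUne
      have : x ∈ (Z' : Set X) := h ▸ hx.1
      exact this.2 hx.2
    have hPZ : ∀ k, P k ⊆ (Z : Set X) := fun k x hx => hcov ▸ Set.mem_iUnion.mpr ⟨k, hx⟩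
    -- the induced partition of `Z'`
    let P' : κ × Bool → Set X := fun kb =>
      if kb.2 then (P kb.1 ∩ Oᶜ) ∩ closure U else (P kb.1 ∩ Oᶜ) ∩ (closure U)ᶜ
    have hP' : ∀ kb, IsLocallyClosed (P' kb) := by
      rintro ⟨k, b⟩
      cases b
      · exact ((hP k).inter hO.isClosed_compl.isLocallyClosed).inter
          isClosed_closure.isOpen_compl.isLocallyClosed
      · exact ((hP k).inter hO.isClosed_compl.isLocallyClosed).inter
          isClosed_closure.isLocallyClosed
    have hcov' : ⋃ kb, P' kb = (Z' : Set X) := by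
      ext x
      simp only [Set.mem_iUnion, Prod.exists, Bool.exists_bool]
      constructor
      · rintro ⟨k, h | h⟩
        · exact ⟨hPZ k h.1.1, h.1.2⟩
        · exact ⟨hPZ k h.1.1, h.1.2⟩
      · rintro ⟨hxZ, hxO⟩
        have : x ∈ ⋃ k, P k := hcov ▸ hxZ
        obtain ⟨k, hk⟩ := Set.mem_iUnion.mp this
        refine ⟨k, ?_⟩
        by_cases hc : x ∈ closure U
        · exact Or.inr ⟨⟨hk, hxO⟩, hc⟩
        · exact Or.inl ⟨⟨hk, hxO⟩, hc⟩
    have hdisj' : ∀ kb kb', kb ≠ kb' → Disjoint (P' kb) (P' kb') := by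
      rintro ⟨k, b⟩ ⟨k', b'⟩ hne
      rw [Set.disjoint_left]
      intro x hx hx'
      by_cases hk : k = k'
      · subst hk
        have hb : b ≠ b' := fun h => hne (by rw [h])
        cases b <;> cases b' <;> simp_all [P']
      · have h1 : x ∈ P k := by cases b <;> exact hx.1.1
        have h2 : x ∈ P k' := by cases b' <;> exact hx'.1.1
        exact Set.disjoint_left.mp (hdisj k k' hk) h1 h2
    obtain ⟨σ', hσ', T, hT, hTcov, hTdisj, hTgood, hTref⟩ :=
      ih Z' hZ'lt (κ × Bool) P' hP' hcov' hdisj'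
    have hTZ' : ∀ α, T α ⊆ (Z' : Set X) := fun α x hx => hTcov ▸ Set.mem_iUnion.mpr ⟨α, hx⟩
    have hclT : ∀ α, closure (T α) ⊆ (Z' : Set X) := fun α =>
      closure_minimal (hTZ' α) Z'.2
    have hUZ' : ∀ x, x ∈ U → x ∉ (Z' : Set X) := fun x hx hx' => hx'.2 hx.2
    refine ⟨Option σ', inferInstance, fun o => o.elim U T, ?_, ?_, ?_, ?_, ?_⟩
    · rintro (_ | α)
      · exact Z.2.isLocallyClosed.inter hO.isLocallyClosed
      · exact hT α
    · ext x
      simp only [Set.mem_iUnion, Option.exists, Option.elim]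
      constructor
      · rintro (h | ⟨α, h⟩)
        · exact h.1
        · exact (hTZ' α h).1
      · intro hx
        by_cases hxO : x ∈ O
        · exact Or.inl ⟨hx, hxO⟩
        · have : x ∈ ⋃ α, T α := hTcov ▸ (⟨hx, hxO⟩ : x ∈ (Z' : Set X))
          exact Or.inr (Set.mem_iUnion.mp this)
    · rintro (_ | α) (_ | β) hne
      · exact absurd rfl hne
      · exact Set.disjoint_left.mpr fun x hx hx' => hUZ' x hx (hTZ' β hx')
      · exact Set.disjoint_left.mpr fun x hx hx' => hUZ' x hx' (hTZ' α hx)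
      · exact hTdisj α β (fun h => hne (by rw [h]))
    · rintro (_ | α) (_ | β) ⟨x, hx1, hx2⟩
      · exact subset_closure
      · exact absurd (hclT β hx2) (hUZ' x hx1)
      · -- `T α` meets `closure U`
        have hxZ' := hTZ' α hx1
        have : x ∈ ⋃ kb, P' kb := hcov' ▸ hxZ'
        obtain ⟨⟨k, b⟩, hkb⟩ := Set.mem_iUnion.mp this
        have hb : b = true := by
          cases b
          · exact absurd hx2 hkb.2
          · rfl
        subst hb
        exact (hTref α (k, true) ⟨x, hx1, hkb⟩).trans (fun y hy => hy.2)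
      · exact hTgood α β ⟨x, hx1, hx2⟩
    · rintro (_ | α) k ⟨x, hx1, hx2⟩
      · have hk : k = i₀ := by
          by_contra hne
          exact Set.disjoint_left.mp (hdisj k i₀ hne) hx2 (hUsub hx1)
        rw [hk]
        exact hUsub
      · have hxZ' := hTZ' α hx1
        by_cases hc : x ∈ closure U
        · exact (hTref α (k, true) ⟨x, hx1, ⟨hx2, hxZ'.2⟩, hc⟩).trans (fun y hy => hy.1.1)
        · exact (hTref α (k, false) ⟨x, hx1, ⟨hx2, hxZ'.2⟩, hc⟩).trans (fun y hy => hy.1.1)


/-- Let X be a Noetherian topological space and X = ∐ P_k a finite partition into locally closed parts.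
Then it is refined by a finite good stratification: a finite partition X = ∐ S_i into locally closed
strata such that S_i ∩ closure(S_j) ≠ ∅ implies S_i ⊆ closure(S_j), with every P_k a union of
strata. -/
theorem result {X : Type u} [TopologicalSpace X]
    [TopologicalSpace.NoetherianSpace X]
    {n : ℕ} (P : Fin n → Set X) (hP : ∀ k, IsLocallyClosed (P k)) (hcov : ⋃ k, P k = Set.univ)
    (hdisj : ∀ k k', k ≠ k' → Disjoint (P k) (P k')) :
    ∃ (m : ℕ) (S : Fin m → Set X),
      (∀ i, IsLocallyClosed (S i)) ∧ (⋃ i, S i = Set.univ) ∧ (∀ i j, i ≠ j → Disjoint (S i) (S j)) ∧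
      (∀ i j, (S i ∩ closure (S j)).Nonempty → S i ⊆ closure (S j)) ∧
      (∀ i k, (S i ∩ P k).Nonempty → S i ⊆ P k) := by
  obtain ⟨σ, hσ, S, h1, h2, h3, h4, h5⟩ := exists_good_stratification (⊤ : TopologicalSpace.Closeds X)
    (Fin n) P hP (by simpa using hcov) hdisj
  obtain ⟨m, ⟨e⟩⟩ := Finite.exists_equiv_fin σ
  refine ⟨m, fun i => S (e.symm i), fun i => h1 _, ?_, ?_, fun i j hi => h4 _ _ hi,
    fun i k hi => h5 _ _ hi⟩
  · rw [← (by simpa using h2 : ⋃ i, S i = Set.univ)]
    exact e.symm.surjective.iUnion_comp S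
  · intro i j hij
    exact h3 _ _ (fun h => hij (e.symm.injective h))

end Groth.Agent.S7561
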