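import Groth.Statements.S7563
import Mathlib.Topology.Irreducible

set_option autoImplicit false
universe u
open PtTop

namespace Groth.Agent.S7563

theorem subset_of_finite_closed_cover {X : Type u} [TopologicalSpace X] {ι : Type*} [Finite ι]
    (Z : ι → Set X) (hZ : ∀ i, IsClosed (Z i)) {W : Set X} (hW : IsIrreducible W)
    (hWZ : W ⊆ ⋃ i, Z i) : ∃ i, W ⊆ Z i := by
  classical
  have := Fintype.ofFinite ι
  obtain ⟨z, hz, hWz⟩ := isIrreducible_iff_sUnion_isClosed.mp hW (Finset.univ.image Z)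
    (by intro z hz; obtain ⟨i, -, rfl⟩ := Finset.mem_image.mp hz; exact hZ i)
    (by
      intro x hx
      obtain ⟨i, hi⟩ := Set.mem_iUnion.mp (hWZ hx)
      exact Set.mem_sUnion.mpr ⟨Z i, by simp, hi⟩)
  obtain ⟨i, -, rfl⟩ := Finset.mem_image.mp hz
  exact ⟨i, hWz⟩


/-- Let X be a topological space and X = X_1 ∪ … ∪ X_n with each X_i irreducible and closed and no X_i
contained in the union of the others. Then the irreducible components of X are precisely the sets
X_1, …, X_n. -/
theorem result {X : Type u} [TopologicalSpace X]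
    {n : ℕ} (Z : Fin n → Set X) (hZ : ∀ i, IsIrreducible (Z i) ∧ IsClosed (Z i))
    (hcov : ⋃ i, Z i = Set.univ) (hirr : ∀ i, ¬ Z i ⊆ ⋃ j ∈ ({i}ᶜ : Set (Fin n)), Z j) :
    irreducibleComponents X = Set.range Z := by
  have key : ∀ W : Set X, IsIrreducible W → ∃ i, W ⊆ Z i := fun W hW =>
    subset_of_finite_closed_cover Z (fun i => (hZ i).2) hW (by rw [hcov]; exact Set.subset_univ _)
  ext W
  constructor
  · intro hW
    obtain ⟨i, hi⟩ := key W hW.1
    exact ⟨i, (hW.2 (hZ i).1 hi).antisymm hi |>.symm ▸ rfl⟩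
  · rintro ⟨i, rfl⟩
    refine ⟨(hZ i).1, fun W hW hiW => ?_⟩
    obtain ⟨j, hj⟩ := key W hW
    by_cases hij : j = i
    · subst hij; exact hj
    · exfalso
      apply hirr i
      intro x hx
      exact Set.mem_biUnion (show j ∈ ({i}ᶜ : Set (Fin n)) from hij) (hj (hiW hx))

end Groth.Agent.S7563
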