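import Groth.Statements.S7564
import Groth.Agent.S7563

set_option autoImplicit false
universe u
open PtTop

namespace Groth.Agent.S7564

/-- For a continuous surjection f : X → Y, if X has finitely many irreducible components, say n of them,
then Y has at most n irreducible components. -/
theorem result {X Y : Type u} [TopologicalSpace X] [TopologicalSpace Y]
    (f : X → Y) (hf : Continuous f) (hs : Function.Surjective f) (hfin : (irreducibleComponents X).Finite) :
    (irreducibleComponents Y).Finite ∧ (irreducibleComponents Y).ncard ≤ (irreducibleComponents X).ncard := by
  have hsub : irreducibleComponents Y ⊆ (fun C : Set X => closure (f '' C)) '' irreducibleComponents X := by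
    intro D hD
    have := hfin.to_subtype
    have hcov : D ⊆ ⋃ C : irreducibleComponents X, closure (f '' (C : Set X)) := by
      intro y _
      obtain ⟨x, rfl⟩ := hs y
      exact Set.mem_iUnion.mpr ⟨⟨irreducibleComponent x, irreducibleComponent_mem_irreducibleComponents x⟩,
        subset_closure ⟨x, mem_irreducibleComponent, rfl⟩⟩
    obtain ⟨C, hC⟩ := Groth.Agent.S7563.subset_of_finite_closed_cover
      (fun C : irreducibleComponents X => closure (f '' (C : Set X))) (fun _ => isClosed_closure) hD.1 hcov
    refine ⟨C.1, C.2, ?_⟩
    have hirr : IsIrreducible (closure (f '' (C : Set X))) :=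
      (C.2.1.image f hf.continuousOn).closure
    exact (hD.2 hirr hC).antisymm hC
  refine ⟨(hfin.image _).subset hsub, ?_⟩
  exact (Set.ncard_le_ncard hsub (hfin.image _)).trans (Set.ncard_image_le hfin)

end Groth.Agent.S7564
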