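import Groth.Statements.S7566
import Mathlib.Topology.Compactness.Compact

set_option autoImplicit false
universe u
open PtTop

namespace Groth.Agent.S7566

/-- In a compact space, a compact set disjoint from the intersection of all clopen neighbourhoods
of `x` is disjoint from a single clopen neighbourhood of `x`. -/
theorem exists_clopen_disjoint {X : Type u} [TopologicalSpace X] (x : X) {K : Set X}
    (hK : IsCompact K) (hKS : K ∩ ⋂₀ {Z : Set X | IsClopen Z ∧ x ∈ Z} = ∅) :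
    ∃ Z : Set X, IsClopen Z ∧ x ∈ Z ∧ K ∩ Z = ∅ := by
  classical
  have h1 : K ∩ ⋂ i : {Z : Set X // IsClopen Z ∧ x ∈ Z}, (i : Set X) = ∅ := by
    rw [← hKS, Set.sInter_eq_iInter]
    rfl
  obtain ⟨u, hu⟩ := hK.elim_finite_subfamily_closed
    (fun i : {Z : Set X // IsClopen Z ∧ x ∈ Z} => (i : Set X)) (fun i => i.2.1.1) h1
  refine ⟨⋂ i ∈ u, (i : Set X), isClopen_biInter_finset fun i _ => i.2.1, ?_, hu⟩
  exact Set.mem_iInter₂.mpr fun i _ => i.2.2

theorem main {X : Type u} [TopologicalSpace X]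
    [CompactSpace X] [PrespectralSpace X] [QuasiSeparatedSpace X] (x : X) :
    connectedComponent x = ⋂₀ {Z : Set X | IsClopen Z ∧ x ∈ Z} := by
  set S := ⋂₀ {Z : Set X | IsClopen Z ∧ x ∈ Z} with hS
  have hxS : x ∈ S := Set.mem_sInter.mpr fun Z hZ => hZ.2
  have hSc : IsClosed S := isClosed_sInter fun Z hZ => hZ.1.1
  apply subset_antisymm
  · exact Set.subset_sInter fun Z hZ => hZ.1.connectedComponent_subset hZ.2
  refine IsPreconnected.subset_connectedComponent ?_ hxS
  rw [isPreconnected_iff_subset_of_fully_disjoint_closed hSc]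
  intro a b ha hb hSab hab
  -- compact opens separating `S ∩ a` and `S ∩ b`
  obtain ⟨U, hUc, hUo, hBU, hUb⟩ := PrespectralSpace.exists_isCompact_and_isOpen_between
    (hSc.inter ha).isCompact hb.isOpen_compl
    (fun y hy => Set.disjoint_left.mp hab hy.2)
  obtain ⟨V, hVc, hVo, hCV, hVa⟩ := PrespectralSpace.exists_isCompact_and_isOpen_between
    (hSc.inter hb).isCompact ha.isOpen_compl
    (fun y hy => Set.disjoint_right.mp hab hy.2)
  have hSUV : S ⊆ U ∪ V := by
    intro y hy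
    rcases hSab hy with h | h
    · exact Or.inl (hBU ⟨hy, h⟩)
    · exact Or.inr (hCV ⟨hy, h⟩)
  have hUVS : (U ∩ V) ∩ S = ∅ := by
    rw [Set.eq_empty_iff_forall_notMem]
    rintro y ⟨⟨hyU, hyV⟩, hyS⟩
    rcases hSab hyS with h | h
    · exact hVa hyV h
    · exact hUb hyU h
  obtain ⟨Z1, hZ1, hxZ1, hZ1d⟩ := exists_clopen_disjoint x (hUc.inter_of_isOpen hVc hUo hVo) hUVS
  obtain ⟨Z2, hZ2, hxZ2, hZ2d⟩ := exists_clopen_disjoint x
    ((hUo.union hVo).isClosed_compl.isCompact)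
    (by
      rw [Set.eq_empty_iff_forall_notMem]
      rintro y ⟨hy1, hy2⟩
      exact hy1 (hSUV hy2))
  set Z := Z1 ∩ Z2 with hZdef
  have hZ : IsClopen Z := hZ1.inter hZ2
  have hxZ : x ∈ Z := ⟨hxZ1, hxZ2⟩
  have hZUV : Z ⊆ (U ∩ Z) ∪ (V ∩ Z) := by
    intro y hy
    have hy2 : y ∈ U ∪ V := by
      by_contra hcon
      have : y ∈ (U ∪ V)ᶜ ∩ Z2 := ⟨hcon, hy.2⟩
      rw [hZ2d] at this
      exact this
    rcases hy2 with h | h
    · exact Or.inl ⟨h, hy⟩
    · exact Or.inr ⟨h, hy⟩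
  have hdisj : Disjoint (U ∩ Z) (V ∩ Z) := by
    rw [Set.disjoint_left]
    rintro y ⟨hyU, hyZ⟩ ⟨hyV, -⟩
    have : y ∈ (U ∩ V) ∩ Z1 := ⟨⟨hyU, hyV⟩, hyZ.1⟩
    rw [hZ1d] at this
    exact this
  have hcl1 : IsClopen (Z ∩ (U ∩ Z)) :=
    isClopen_inter_of_disjoint_cover_clopen hZ hZUV (hUo.inter hZ.2) (hVo.inter hZ.2) hdisj
  have hcl2 : IsClopen (Z ∩ (V ∩ Z)) := by
    rw [Set.union_comm] at hZUV
    exact isClopen_inter_of_disjoint_cover_clopen hZ hZUV (hVo.inter hZ.2) (hUo.inter hZ.2) hdisj.symm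
  rcases hSab hxS with hxa | hxb
  · left
    have hxU : x ∈ U := hBU ⟨hxS, hxa⟩
    have hSsub : S ⊆ Z ∩ (U ∩ Z) := Set.sInter_subset_of_mem ⟨hcl1, hxZ, hxU, hxZ⟩
    intro y hy
    rcases hSab hy with h | h
    · exact h
    · exact absurd h (hUb (hSsub hy).2.1)
  · right
    have hxV : x ∈ V := hCV ⟨hxS, hxb⟩
    have hSsub : S ⊆ Z ∩ (V ∩ Z) := Set.sInter_subset_of_mem ⟨hcl2, hxZ, hxV, hxZ⟩
    intro y hy
    rcases hSab hy with h | h
    · exact absurd h (hVa (hSsub hy).2.1)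
    · exact h


/-- Let X be a quasi-compact topological space whose quasi-compact opens form a basis, any two of them
meeting in a quasi-compact set. Then for every x ∈ X the connected component of x equals the
intersection of every clopen subset of X that contains x. -/
theorem result {X : Type u} [TopologicalSpace X]
    [CompactSpace X] [PrespectralSpace X] [QuasiSeparatedSpace X] (x : X) :
    connectedComponent x = ⋂₀ {Z : Set X | IsClopen Z ∧ x ∈ Z} := by
  exact main x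

end Groth.Agent.S7566
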