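import Groth.Statements.S7567
import Groth.Agent.S7566

set_option autoImplicit false
universe u
open PtTop

namespace Groth.Agent.S7567

/-- Let X be a quasi-compact topological space whose quasi-compact opens form a basis, any two of them
meeting in a quasi-compact set. For a subset T ⊆ X these two conditions are equivalent: (a) T can be
written as an intersection of clopen subsets of X; (b) T is closed and is a union of connected
components of X. -/
theorem result {X : Type u} [TopologicalSpace X]
    [CompactSpace X] [PrespectralSpace X] [QuasiSeparatedSpace X] (T : Set X) :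
    (∃ S : Set (Set X), (∀ Z ∈ S, IsClopen Z) ∧ T = ⋂₀ S) ↔
      (IsClosed T ∧ ∀ x ∈ T, connectedComponent x ⊆ T) := by
  constructor
  · rintro ⟨S, hS, rfl⟩
    refine ⟨isClosed_sInter fun Z hZ => (hS Z hZ).1, fun x hx => ?_⟩
    exact Set.subset_sInter fun Z hZ =>
      (hS Z hZ).connectedComponent_subset (Set.mem_sInter.mp hx Z hZ)
  · rintro ⟨hTc, hT⟩
    refine ⟨{Z | IsClopen Z ∧ T ⊆ Z}, fun Z hZ => hZ.1, ?_⟩
    apply subset_antisymm
    · exact Set.subset_sInter fun Z hZ => hZ.2
    · intro y hy
      by_contra hyT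
      -- for each `t ∈ T` a clopen neighbourhood of `t` missing `y`
      have hex : ∀ t : T, ∃ Z : Set X, IsClopen Z ∧ (t : X) ∈ Z ∧ y ∉ Z := by
        intro t
        have hyt : y ∉ connectedComponent (t : X) := fun h => hyT (hT t t.2 h)
        rw [Groth.Agent.S7566.main (t : X), Set.mem_sInter] at hyt
        push Not at hyt
        obtain ⟨Z, hZ, hyZ⟩ := hyt
        exact ⟨Z, hZ.1, hZ.2, hyZ⟩
      choose Z hZcl hZt hZy using hex
      obtain ⟨u, hu⟩ := hTc.isCompact.elim_finite_subcover Z (fun t => (hZcl t).2)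
        (fun t ht => Set.mem_iUnion.mpr ⟨⟨t, ht⟩, hZt ⟨t, ht⟩⟩)
      have hcl : IsClopen (⋃ t ∈ u, Z t) := isClopen_biUnion_finset fun t _ => hZcl t
      have := Set.mem_sInter.mp hy _ ⟨hcl, hu⟩
      simp only [Set.mem_iUnion] at this
      obtain ⟨t, -, hyt⟩ := this
      exact hZy t hyt

end Groth.Agent.S7567
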