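import Groth.Statements.S7568
import Mathlib

set_option autoImplicit false
universe u
open PtTop

namespace Groth.Agent.S7568

/-- Let X be a Hausdorff quasi-compact space, X = ⋃ U_i an open covering, p ≥ 0 an integer, and for
every (p+1)-tuple (i_0, …, i_p) an open covering of U_{i_0} ∩ … ∩ U_{i_p} by opens W_{i_0…i_p,k}.
Then there are an open covering X = ⋃_{j ∈ J} V_j and a map α : J → I with closure(V_j) ⊆ U_{α(j)}
such that each V_{j_0} ∩ … ∩ V_{j_p} is contained in W_{α(j_0)…α(j_p),k} for some k. The published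
statement allows a covering of an empty intersection to have no members; this row requires every
covering W_{i_0…i_p} to have at least one member (possibly empty), without which the conclusion
fails. -/
theorem result {X : Type u} [TopologicalSpace X] [CompactSpace X] [T2Space X]
    {ι : Type u} (U : ι → Set X) (hU : ∀ i, IsOpen (U i)) (hcov : ⋃ i, U i = Set.univ) (p : ℕ)
    (W : (Fin (p + 1) → ι) → Set (Set X)) (hWo : ∀ t, ∀ w ∈ W t, IsOpen w)
    (hWc : ∀ t, ⋃₀ W t = ⋂ l, U (t l)) (hWne : ∀ t, (W t).Nonempty) :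
    ∃ (J : Type u) (V : J → Set X) (α : J → ι), (∀ j, IsOpen (V j)) ∧ (⋃ j, V j = Set.univ) ∧
      (∀ j, closure (V j) ⊆ U (α j)) ∧
      (∀ t : Fin (p + 1) → J, ∃ w ∈ W (α ∘ t), (⋂ l, V (t l)) ⊆ w) := by
  classical
  let _ : UniformSpace X := uniformSpaceOfCompactR1
  -- pointwise shrinking
  have hex : ∀ x : X, ∃ (i : ι) (G : Set X), IsOpen G ∧ x ∈ G ∧ closure G ⊆ U i := by
    intro x
    have hx : x ∈ ⋃ i, U i := hcov ▸ Set.mem_univ x
    obtain ⟨i, hi⟩ := Set.mem_iUnion.1 hx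
    obtain ⟨G, ⟨hG1, hG2⟩, hG3⟩ := (hasBasis_opens_closure x).mem_iff.1 ((hU i).mem_nhds hi)
    exact ⟨i, G, hG2, hG1, hG3⟩
  choose idx G hGo hxG hGU using hex
  obtain ⟨s, -, hs⟩ := isCompact_univ.elim_nhds_subcover G
    (fun x _ => (hGo x).mem_nhds (hxG x))
  have hc : ∀ x : X, ∃ c ∈ s, x ∈ G c := by
    intro x
    obtain ⟨c, hc, hxc⟩ := Set.mem_iUnion₂.1 (hs (Set.mem_univ x))
    exact ⟨c, hc, hxc⟩
  choose c hcs hxc using hc
  set F : Finset ι := s.image idx with hF
  set K : ι → Set X := fun i => ⋃ x ∈ s.filter (fun x => idx x = i), closure (G x) with hK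
  have hKcl : ∀ i, IsClosed (K i) := fun i =>
    Set.Finite.isClosed_biUnion (Finset.finite_toSet _) (fun x _ => isClosed_closure)
  have hKU : ∀ i, K i ⊆ U i := by
    intro i
    refine Set.iUnion₂_subset (fun x hx => ?_)
    have := (Finset.mem_filter.1 hx).2
    exact this ▸ hGU x
  have hGK : ∀ x ∈ s, G x ⊆ K (idx x) := by
    intro x hx y hy
    exact Set.mem_iUnion₂.2 ⟨x, Finset.mem_filter.2 ⟨hx, rfl⟩, subset_closure hy⟩
  -- choice of members of the coverings
  have hw : ∀ (τ : Fin (p + 1) → ι) (y : X), ∃ w ∈ W τ, (y ∈ ⋂ l, U (τ l)) → y ∈ w := by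
    intro τ y
    by_cases hy : y ∈ ⋂ l, U (τ l)
    · rw [← hWc τ] at hy
      obtain ⟨w, hw1, hw2⟩ := hy
      exact ⟨w, hw1, fun _ => hw2⟩
    · obtain ⟨w, hw⟩ := hWne τ
      exact ⟨w, hw, fun h => absurd h hy⟩
  choose wch hwW hwy using hw
  set T : Finset (Fin (p + 1) → ι) := Fintype.piFinset (fun _ => F) with hT
  set N : X → Set X := fun y =>
    (⋂ τ ∈ T.filter (fun τ => y ∈ ⋂ l, K (τ l)), wch τ y) ∩
      (⋂ i ∈ F.filter (fun i => y ∉ K i), (K i)ᶜ) with hN
  have hNnhds : ∀ y ∈ (Set.univ : Set X), N y ∈ nhds y := by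
    intro y _
    refine IsOpen.mem_nhds ?_ ?_
    · refine IsOpen.inter ?_ ?_
      · exact isOpen_biInter_finset (fun τ _ => hWo τ _ (hwW τ y))
      · exact isOpen_biInter_finset (fun i _ => (hKcl i).isOpen_compl)
    · refine ⟨Set.mem_iInter₂.2 (fun τ hτ => ?_), Set.mem_iInter₂.2 (fun i hi => ?_)⟩
      · have := (Finset.mem_filter.1 hτ).2
        exact hwy τ y (Set.mem_iInter.2 (fun l => hKU _ (Set.mem_iInter.1 this l)))
      · exact (Finset.mem_filter.1 hi).2
  obtain ⟨E, hE, hEN⟩ := lebesgue_number_lemma_nhds isCompact_univ hNnhds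
  obtain ⟨E', hE', hsymm, hcomp⟩ := comp_symm_of_uniformity hE
  refine ⟨X, fun x => interior (UniformSpace.ball x E') ∩ G (c x), fun x => idx (c x),
    fun x => isOpen_interior.inter (hGo _), ?_, fun x => ?_, fun t => ?_⟩
  · refine Set.eq_univ_of_forall (fun x => Set.mem_iUnion.2 ⟨x, ?_, hxc x⟩)
    exact mem_interior_iff_mem_nhds.2 (UniformSpace.ball_mem_nhds x hE')
  · exact (closure_mono Set.inter_subset_right).trans (hGU _)
  · by_cases hne : (⋂ l, (fun x => interior (UniformSpace.ball x E') ∩ G (c x)) (t l)).Nonempty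
    · obtain ⟨z, hz⟩ := hne
      have hz' := Set.mem_iInter.1 hz
      obtain ⟨y, hy⟩ := hEN z (Set.mem_univ z)
      have hVN : ∀ l, interior (UniformSpace.ball (t l) E') ⊆ N y := by
        intro l v hv
        apply hy
        have h1 : (t l, z) ∈ E' :=
          (interior_subset (hz' l).1 : z ∈ UniformSpace.ball (t l) E')
        have h2 : (t l, v) ∈ E' := (interior_subset hv : v ∈ UniformSpace.ball (t l) E')
        exact hcomp ⟨t l, hsymm h1, h2⟩
      have htlN : ∀ l, t l ∈ N y := fun l =>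
        hVN l (mem_interior_iff_mem_nhds.2 (UniformSpace.ball_mem_nhds _ hE'))
      have hτF : ∀ l, idx (c (t l)) ∈ F := fun l =>
        Finset.mem_image.2 ⟨c (t l), hcs _, rfl⟩
      have hyK : ∀ l, y ∈ K (idx (c (t l))) := by
        intro l
        by_contra hyK
        have h1 : t l ∈ (K (idx (c (t l))))ᶜ :=
          Set.mem_iInter₂.1 (htlN l).2 _ (Finset.mem_filter.2 ⟨hτF l, hyK⟩)
        exact h1 (hGK _ (hcs _) (hxc (t l)))
      have hτT : ((fun x => idx (c x)) ∘ t) ∈
          T.filter (fun τ => y ∈ ⋂ l, K (τ l)) := by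
        refine Finset.mem_filter.2 ⟨?_, Set.mem_iInter.2 (fun l => hyK l)⟩
        rw [hT, Fintype.mem_piFinset]
        exact fun l => hτF l
      refine ⟨wch _ y, hwW _ y, ?_⟩
      intro v hv
      have hv0 := (Set.mem_iInter.1 hv 0).1
      exact Set.mem_iInter₂.1 (hVN 0 hv0).1 _ hτT
    · obtain ⟨w, hw⟩ := hWne ((fun x => idx (c x)) ∘ t)
      refine ⟨w, hw, ?_⟩
      rw [Set.not_nonempty_iff_eq_empty] at hne
      rw [hne]
      exact Set.empty_subset _

end Groth.Agent.S7568
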