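import Groth.Statements.S7569
import Mathlib

set_option autoImplicit false
universe u
open PtTop

namespace Groth.Agent.S7569

/-- Let X be a Hausdorff, locally quasi-compact space and Z ⊆ X a quasi-compact subset. Let p ≥ 0, let
U_i ⊆ X be opens with Z ⊆ ⋃ U_i, and for every (p+1)-tuple (i_0, …, i_p) let W_{i_0…i_p} ⊆ U_{i_0} ∩
… ∩ U_{i_p} be an open with W_{i_0…i_p} ∩ Z = U_{i_0} ∩ … ∩ U_{i_p} ∩ Z. Then there are opens V_i ⊆
X with Z ⊆ ⋃ V_i, closure(V_i) ⊆ U_i for all i, and V_{i_0} ∩ … ∩ V_{i_p} ⊆ W_{i_0…i_p} for all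
(p+1)-tuples. -/
theorem result {X : Type u} [TopologicalSpace X]
    [T2Space X] [LocallyCompactSpace X] (Z : Set X) (hZ : IsCompact Z)
    {ι : Type u} (U : ι → Set X) (hU : ∀ i, IsOpen (U i)) (hcov : Z ⊆ ⋃ i, U i) (p : ℕ)
    (W : (Fin (p + 1) → ι) → Set X) (hWo : ∀ t, IsOpen (W t)) (hWU : ∀ t, W t ⊆ ⋂ l, U (t l))
    (hWZ : ∀ t, W t ∩ Z = (⋂ l, U (t l)) ∩ Z) :
    ∃ V : ι → Set X, (∀ i, IsOpen (V i)) ∧ (Z ⊆ ⋃ i, V i) ∧ (∀ i, closure (V i) ⊆ U i) ∧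
      (∀ t : Fin (p + 1) → ι, (⋂ l, V (t l)) ⊆ W t) := by
  classical
  have hex : ∀ z : Z, ∃ (i : ι) (K : Set X), IsCompact K ∧ (z : X) ∈ interior K ∧ K ⊆ U i := by
    intro z
    obtain ⟨i, hi⟩ := Set.mem_iUnion.1 (hcov z.2)
    obtain ⟨K, hK1, hK2, hK3⟩ := exists_compact_subset (hU i) hi
    exact ⟨i, K, hK1, hK2, hK3⟩
  choose idx K hKc hKi hKU using hex
  obtain ⟨t, ht⟩ := hZ.elim_nhds_subcover' (fun x hx => interior (K ⟨x, hx⟩))
    (fun x hx => (isOpen_interior.mem_nhds (hKi ⟨x, hx⟩)))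
  set V' : ι → Set X := fun i => ⋃ x ∈ t.filter (fun x => idx x = i), interior (K x) with hV'
  set C : ι → Set X := fun i => ⋃ x ∈ t.filter (fun x => idx x = i), K x with hC
  have hCc : ∀ i, IsCompact (C i) := fun i =>
    (t.filter (fun x => idx x = i)).isCompact_biUnion (fun x _ => hKc x)
  have hCcl : ∀ i, IsClosed (C i) := fun i => (hCc i).isClosed
  have hV'C : ∀ i, V' i ⊆ C i := fun i =>
    Set.iUnion₂_mono (fun x _ => interior_subset)
  have hCU : ∀ i, C i ⊆ U i := by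
    intro i
    refine Set.iUnion₂_subset (fun x hx => ?_)
    have := (Finset.mem_filter.1 hx).2
    exact this ▸ hKU x
  set F : Finset ι := t.image idx with hF
  set T : Finset (Fin (p + 1) → ι) := Fintype.piFinset (fun _ => F) with hT
  set D : Set X := ⋃ τ ∈ T, ((⋂ l, C (τ l)) \ W τ) with hD
  have hDc : IsCompact D := by
    refine T.isCompact_biUnion (fun τ _ => IsCompact.diff ?_ (hWo τ))
    exact (hCc (τ 0)).of_isClosed_subset (isClosed_iInter (fun l => hCcl (τ l)))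
      (Set.iInter_subset _ 0)
  have hDZ : Disjoint Z D := by
    rw [Set.disjoint_left]
    intro x hxZ hxD
    obtain ⟨τ, _, hx1, hx2⟩ := Set.mem_iUnion₂.1 hxD
    apply hx2
    have : x ∈ (⋂ l, U (τ l)) ∩ Z :=
      ⟨Set.mem_iInter.2 (fun l => hCU _ (Set.mem_iInter.1 hx1 l)), hxZ⟩
    rw [← hWZ τ] at this
    exact this.1
  obtain ⟨N, M, hNo, hMo, hZN, hDM, hNM⟩ := SeparatedNhds.of_isCompact_isCompact hZ hDc hDZ
  refine ⟨fun i => V' i ∩ N, fun i => ?_, ?_, fun i => ?_, fun τ => ?_⟩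
  · exact (isOpen_biUnion (fun x _ => isOpen_interior)).inter hNo
  · intro z hz
    obtain ⟨x, hxt, hzx⟩ := Set.mem_iUnion₂.1 (ht hz)
    refine Set.mem_iUnion.2 ⟨idx x, ?_, hZN hz⟩
    exact Set.mem_iUnion₂.2 ⟨x, Finset.mem_filter.2 ⟨hxt, rfl⟩, hzx⟩
  · calc closure (V' i ∩ N) ⊆ closure (C i) :=
          closure_mono (Set.inter_subset_left.trans (hV'C i))
      _ = C i := (hCcl i).closure_eq
      _ ⊆ U i := hCU i
  · intro x hx
    have hx' := Set.mem_iInter.1 hx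
    by_contra hxW
    have hτ : τ ∈ T := by
      rw [hT, Fintype.mem_piFinset]
      intro l
      obtain ⟨y, hy, _⟩ := Set.mem_iUnion₂.1 (hx' l).1
      have hy' := Finset.mem_filter.1 hy
      exact Finset.mem_image.2 ⟨y, hy'.1, hy'.2⟩
    have hxD : x ∈ D :=
      Set.mem_iUnion₂.2 ⟨τ, hτ, Set.mem_iInter.2 (fun l => hV'C _ (hx' l).1), hxW⟩
    exact (Set.disjoint_left.1 hNM) (hx' 0).2 (hDM hxD)

end Groth.Agent.S7569
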