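import Groth.Statements.S7570
import Mathlib

set_option autoImplicit false
universe u
open PtTop

namespace Groth.Agent.S7570

/-- Let X be a topological space and Z ⊆ X a quasi-compact subset such that any two distinct points of Z
have disjoint open neighbourhoods in X. Let p ≥ 0, let U_i ⊆ X be opens with Z ⊆ ⋃ U_i, and for
every (p+1)-tuple let W_{i_0…i_p} ⊆ U_{i_0} ∩ … ∩ U_{i_p} be an open with W_{i_0…i_p} ∩ Z = U_{i_0}
∩ … ∩ U_{i_p} ∩ Z. Then there are opens V_i with (1) Z ⊆ ⋃ V_i, (2) V_i ⊆ U_i, (3) closure(V_i) ∩ Z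
⊆ U_i, and (4) V_{i_0} ∩ … ∩ V_{i_p} ⊆ W_{i_0…i_p} for all (p+1)-tuples. -/
theorem result {X : Type u} [TopologicalSpace X]
    (Z : Set X) (hZ : IsCompact Z)
    (hZsep : ∀ z ∈ Z, ∀ z' ∈ Z, z ≠ z' → ∃ A B : Set X, IsOpen A ∧ IsOpen B ∧ z ∈ A ∧ z' ∈ B ∧ Disjoint A B)
    {ι : Type u} (U : ι → Set X) (hU : ∀ i, IsOpen (U i)) (hcov : Z ⊆ ⋃ i, U i) (p : ℕ)
    (W : (Fin (p + 1) → ι) → Set X) (hWo : ∀ t, IsOpen (W t)) (hWU : ∀ t, W t ⊆ ⋂ l, U (t l))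
    (hWZ : ∀ t, W t ∩ Z = (⋂ l, U (t l)) ∩ Z) :
    ∃ V : ι → Set X, (∀ i, IsOpen (V i)) ∧ (Z ⊆ ⋃ i, V i) ∧ (∀ i, V i ⊆ U i) ∧
      (∀ i, closure (V i) ∩ Z ⊆ U i) ∧ (∀ t : Fin (p + 1) → ι, (⋂ l, V (t l)) ⊆ W t) := by
  classical
  -- separation of a point of Z from a compact subset of Z
  have hsep : ∀ z ∈ Z, ∀ L : Set X, IsCompact L → L ⊆ Z → z ∉ L →
      ∃ A B : Set X, IsOpen A ∧ IsOpen B ∧ z ∈ A ∧ L ⊆ B ∧ Disjoint A B := by
    intro z hz L hL hLZ hzL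
    have h1 : ∀ y : L, ∃ A B : Set X, IsOpen A ∧ IsOpen B ∧ z ∈ A ∧ (y : X) ∈ B ∧ Disjoint A B := by
      intro y
      exact hZsep z hz y (hLZ y.2) (fun h => hzL (h ▸ y.2))
    choose A B hA hB hzA hyB hAB using h1
    obtain ⟨t, ht⟩ := hL.elim_nhds_subcover' (fun y hy => B ⟨y, hy⟩)
      (fun y hy => (hB ⟨y, hy⟩).mem_nhds (hyB ⟨y, hy⟩))
    refine ⟨⋂ y ∈ t, A y, ⋃ y ∈ t, B y, isOpen_biInter_finset (fun y _ => hA y),
      isOpen_biUnion (fun y _ => hB y), Set.mem_iInter₂.2 (fun y _ => hzA y), ht, ?_⟩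
    rw [Set.disjoint_left]
    intro x hxA hxB
    obtain ⟨y, hyt, hxy⟩ := Set.mem_iUnion₂.1 hxB
    exact (Set.disjoint_left.1 (hAB y)) (Set.mem_iInter₂.1 hxA y hyt) hxy
  -- pointwise shrinking
  have hex : ∀ z : Z, ∃ (i : ι) (G : Set X), IsOpen G ∧ (z : X) ∈ G ∧ G ⊆ U i ∧
      closure G ∩ Z ⊆ U i := by
    intro z
    obtain ⟨i, hi⟩ := Set.mem_iUnion.1 (hcov z.2)
    obtain ⟨A, B, hA, hB, hzA, hLB, hAB⟩ := hsep z z.2 (Z \ U i) (hZ.diff (hU i))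
      Set.sdiff_subset (fun h => h.2 hi)
    refine ⟨i, A ∩ U i, hA.inter (hU i), ⟨hzA, hi⟩, Set.inter_subset_right, ?_⟩
    intro x hx
    by_contra hxU
    have hxB : x ∈ B := hLB ⟨hx.2, hxU⟩
    have hcl : closure (A ∩ U i) ⊆ Bᶜ :=
      closure_minimal (fun y hy hyB => (Set.disjoint_left.1 hAB) hy.1 hyB) hB.isClosed_compl
    exact hcl hx.1 hxB
  choose idx G hGo hzG hGU hGcl using hex
  obtain ⟨t, ht⟩ := hZ.elim_nhds_subcover' (fun x hx => G ⟨x, hx⟩)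
    (fun x hx => (hGo ⟨x, hx⟩).mem_nhds (hzG ⟨x, hx⟩))
  set G' : ι → Set X := fun i => ⋃ x ∈ t.filter (fun x => idx x = i), G x with hG'
  have hG'o : ∀ i, IsOpen (G' i) := fun i => isOpen_biUnion (fun x _ => hGo x)
  have hG'U : ∀ i, G' i ⊆ U i := by
    intro i
    refine Set.iUnion₂_subset (fun x hx => ?_)
    have := (Finset.mem_filter.1 hx).2
    exact this ▸ hGU x
  have hG'cl : ∀ i, closure (G' i) ∩ Z ⊆ U i := by
    intro i x hx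
    have h1 : closure (G' i) ⊆ ⋃ x ∈ t.filter (fun x => idx x = i), closure (G x) := by
      refine closure_minimal (Set.iUnion₂_mono (fun x _ => subset_closure)) ?_
      exact Set.Finite.isClosed_biUnion (Finset.finite_toSet _) (fun x _ => isClosed_closure)
    obtain ⟨y, hy, hxy⟩ := Set.mem_iUnion₂.1 (h1 hx.1)
    have := (Finset.mem_filter.1 hy).2
    exact this ▸ hGcl y ⟨hxy, hx.2⟩
  have hZG' : Z ⊆ ⋃ i, G' i := by
    intro z hz
    obtain ⟨x, hxt, hzx⟩ := Set.mem_iUnion₂.1 (ht hz)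
    exact Set.mem_iUnion.2 ⟨idx x, Set.mem_iUnion₂.2 ⟨x, Finset.mem_filter.2 ⟨hxt, rfl⟩, hzx⟩⟩
  set F : Finset ι := t.image idx with hF
  set T : Finset (Fin (p + 1) → ι) := Fintype.piFinset (fun _ => F) with hT
  set Bad : Set X := ⋃ τ ∈ T, closure ((⋂ l, G' (τ l)) \ W τ) with hBad
  have hBadcl : IsClosed Bad :=
    Set.Finite.isClosed_biUnion (Finset.finite_toSet _) (fun τ _ => isClosed_closure)
  have hBadZ : ∀ z ∈ Z, z ∉ Bad := by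
    intro z hz hzB
    obtain ⟨τ, _, hzτ⟩ := Set.mem_iUnion₂.1 hzB
    have h1 : z ∈ (W τ)ᶜ :=
      closure_minimal (fun y hy => hy.2) (hWo τ).isClosed_compl hzτ
    have h2 : z ∈ (⋂ l, U (τ l)) ∩ Z := by
      refine ⟨Set.mem_iInter.2 (fun l => hG'cl (τ l) ⟨?_, hz⟩), hz⟩
      exact closure_mono (fun y hy => Set.mem_iInter.1 hy.1 l) hzτ
    rw [← hWZ τ] at h2
    exact h1 h2.1
  refine ⟨fun i => G' i ∩ Badᶜ, fun i => (hG'o i).inter hBadcl.isOpen_compl, ?_,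
    fun i => Set.inter_subset_left.trans (hG'U i), fun i => ?_, fun τ => ?_⟩
  · intro z hz
    obtain ⟨i, hi⟩ := Set.mem_iUnion.1 (hZG' hz)
    exact Set.mem_iUnion.2 ⟨i, hi, hBadZ z hz⟩
  · exact (Set.inter_subset_inter_left Z (closure_mono Set.inter_subset_left)).trans (hG'cl i)
  · intro x hx
    have hx' := Set.mem_iInter.1 hx
    by_contra hxW
    have hτ : τ ∈ T := by
      rw [hT, Fintype.mem_piFinset]
      intro l
      obtain ⟨y, hy, _⟩ := Set.mem_iUnion₂.1 (hx' l).1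
      have hy' := Finset.mem_filter.1 hy
      exact Finset.mem_image.2 ⟨y, hy'.1, hy'.2⟩
    have hxB : x ∈ Bad :=
      Set.mem_iUnion₂.2 ⟨τ, hτ, subset_closure ⟨Set.mem_iInter.2 (fun l => (hx' l).1), hxW⟩⟩
    exact (hx' 0).2 hxB

end Groth.Agent.S7570
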