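import Groth.Statements.S7571
import Mathlib.Topology.Category.TopCat.Limits.Cofiltered

set_option autoImplicit false
universe u
open CategoryTheory CategoryTheory.Limits
open PtTop

namespace Groth.Agent.S7571

/-- Let j ↦ X_j be a diagram of topological spaces over a cofiltered category with limit X and
projections f_j. (1) Every open of X is a union of subsets of the form f_j⁻¹(U_j) with U_j ⊆ X_j
open. (2) Every quasi-compact open of X equals f_i⁻¹(U_i) for some i and some open U_i ⊆ X_i. -/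
theorem result {J : Type u} [SmallCategory J] [IsCofiltered J]
    (F : J ⥤ TopCat.{u}) (c : Cone F) (hc : IsLimit c) :
    (∀ W : Set c.pt, IsOpen W →
      ∃ S : Set (Σ j, Set (F.obj j)), (∀ s ∈ S, IsOpen s.2) ∧ W = ⋃ s ∈ S, c.π.app s.1 ⁻¹' s.2) ∧
    (∀ W : Set c.pt, IsOpen W → IsCompact W →
      ∃ (i : J) (Ui : Set (F.obj i)), IsOpen Ui ∧ W = c.π.app i ⁻¹' Ui) := by
  classical
  have hB := TopCat.isTopologicalBasis_cofiltered_limit.{u, u} F c hc (fun j => {V | IsOpen V})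
    (fun j => TopologicalSpace.isTopologicalBasis_opens) (fun i => isOpen_univ)
    (fun i U1 U2 h1 h2 => IsOpen.inter h1 h2)
    (fun i j f V hV => hV.preimage (F.map f).hom.continuous)
  have hw : ∀ {i j : J} (g : i ⟶ j) (x : c.pt), F.map g (c.π.app i x) = c.π.app j x := by
    intro i j g x
    have := ConcreteCategory.congr_hom (c.w g) x
    rwa [ConcreteCategory.comp_apply] at this
  -- key: for every open W and x ∈ W there is a basic open around x inside W
  have hkey : ∀ W : Set c.pt, IsOpen W → ∀ x ∈ W, ∃ (j : J) (V : Set (F.obj j)), IsOpen V ∧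
      x ∈ c.π.app j ⁻¹' V ∧ c.π.app j ⁻¹' V ⊆ W := by
    intro W hW x hx
    obtain ⟨_, ⟨j, V, hV, rfl⟩, hxV, hVW⟩ := hB.exists_subset_of_mem_open hx hW
    exact ⟨j, V, hV, hxV, hVW⟩
  constructor
  · intro W hW
    refine ⟨{s | IsOpen s.2 ∧ c.π.app s.1 ⁻¹' s.2 ⊆ W}, fun s hs => hs.1, ?_⟩
    apply subset_antisymm
    · intro x hx
      obtain ⟨j, V, hV, hxV, hVW⟩ := hkey W hW x hx
      exact Set.mem_biUnion (show (⟨j, V⟩ : Σ j, Set (F.obj j)) ∈ _ from ⟨hV, hVW⟩) hxV
    · intro x hx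
      simp only [Set.mem_iUnion] at hx
      obtain ⟨s, hs, hxs⟩ := hx
      exact hs.2 hxs
  · intro W hW hWc
    -- the class of sets of the form `π_i⁻¹ U_i` is closed under finite unions
    have hempty : ∃ (i : J) (Ui : Set (F.obj i)), IsOpen Ui ∧ (∅ : Set c.pt) = c.π.app i ⁻¹' Ui :=
      ⟨(IsCofiltered.nonempty (C := J)).some, ∅, isOpen_empty, by simp⟩
    have hunion : ∀ A B : Set c.pt,
        (∃ (i : J) (Ui : Set (F.obj i)), IsOpen Ui ∧ A = c.π.app i ⁻¹' Ui) →
        (∃ (i : J) (Ui : Set (F.obj i)), IsOpen Ui ∧ B = c.π.app i ⁻¹' Ui) →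
        ∃ (i : J) (Ui : Set (F.obj i)), IsOpen Ui ∧ A ∪ B = c.π.app i ⁻¹' Ui := by
      rintro _ _ ⟨i1, U1, hU1, rfl⟩ ⟨i2, U2, hU2, rfl⟩
      refine ⟨IsCofiltered.min i1 i2,
        F.map (IsCofiltered.minToLeft i1 i2) ⁻¹' U1 ∪ F.map (IsCofiltered.minToRight i1 i2) ⁻¹' U2,
        (hU1.preimage (F.map _).hom.continuous).union (hU2.preimage (F.map _).hom.continuous), ?_⟩
      ext x
      simp only [Set.mem_union, Set.mem_preimage, hw]
    let ι := {s : Σ j, Set (F.obj j) // IsOpen s.2 ∧ c.π.app s.1 ⁻¹' s.2 ⊆ W}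
    obtain ⟨t, ht⟩ := hWc.elim_finite_subcover (fun s : ι => c.π.app s.1.1 ⁻¹' s.1.2)
      (fun s => s.2.1.preimage (c.π.app s.1.1).hom.continuous)
      (by
        intro x hx
        obtain ⟨j, V, hV, hxV, hVW⟩ := hkey W hW x hx
        exact Set.mem_iUnion.mpr ⟨⟨⟨j, V⟩, hV, hVW⟩, hxV⟩)
    have hWeq : W = ⋃ s ∈ t, c.π.app s.1.1 ⁻¹' s.1.2 := by
      apply subset_antisymm ht
      intro x hx
      simp only [Set.mem_iUnion] at hx
      obtain ⟨s, -, hxs⟩ := hx
      exact s.2.2 hxs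
    rw [hWeq]
    clear hWeq ht
    induction t using Finset.induction_on with
    | empty => simpa using hempty
    | insert a t _ ih =>
      rw [Finset.set_biUnion_insert]
      exact hunion _ _ ⟨a.1.1, a.1.2, a.2.1, rfl⟩ ih

end Groth.Agent.S7571
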