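import Groth.Statements.S7574
import Mathlib
import Groth.Agent.Lib.Helper11.EmbPush

set_option autoImplicit false
universe u
open CategoryTheory TopologicalSpace
open ShSp

namespace Groth.Agent.S7574

open Opposite Groth.Agent.Lib.helper11.ClosedPush

variable {X : TopCat.{u}} (U : Opens X)

/-- the inclusion of `U` -/
def ι : TopCat.of U ⟶ X := TopCat.ofHom ⟨_, continuous_subtype_val⟩

lemma hι : Topology.IsOpenEmbedding (ι U) := U.isOpenEmbedding

/-- image functor -/
def jf : Opens (TopCat.of U) ⥤ Opens X := (hι U).isOpenMap.functor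

lemma jf_le (V' : Opens (TopCat.of U)) : (jf U).obj V' ≤ U := by
  rintro x ⟨z, -, rfl⟩
  exact z.2

lemma jf_map_le (V : Opens X) : (jf U).obj ((Opens.map (ι U)).obj V) ≤ V := by
  rintro x ⟨z, hz, rfl⟩
  exact hz

lemma le_jf_map (V : Opens X) (hV : V ≤ U) : V ≤ (jf U).obj ((Opens.map (ι U)).obj V) := by
  intro x hx
  exact ⟨⟨x, hV hx⟩, hx, rfl⟩

lemma map_jf (V' : Opens (TopCat.of U)) : (Opens.map (ι U)).obj ((jf U).obj V') = V' := by
  ext z
  constructor
  · rintro ⟨z', hz', h⟩
    have : z' = z := Subtype.ext h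
    rw [← this]
    exact hz'
  · intro hz
    exact ⟨z, hz, rfl⟩

/-- adjunction restriction ⊣ pushforward -/
noncomputable def adj₂ : U.sheafRestrict (C := Type u) ⊣ TopCat.Sheaf.pushforward (Type u) (ι U) :=
  (TopCat.Sheaf.pullbackPushforwardAdjunction (Type u) (ι U)).ofNatIsoLeft
    ((hι U).sheafPullbackIso (Type u))

/-- the representable sheaf of `U` -/
def hU : X.Sheaf (Type u) :=
  ⟨yoneda.obj U, (TopCat.Presheaf.isSheaf_iff_isSheafUniqueGluing_types _).mpr (by
    intro κ V sf _
    exact ⟨homOfLE (iSup_le fun a => (sf a).le),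
      fun a => Subsingleton.elim (α := (V a ⟶ U)) _ _,
      fun _ _ => Subsingleton.elim (α := (iSup V ⟶ U)) _ _⟩)⟩

/-- the unique map `G|_U ⟶ (h_U)|_U` -/
def toHU (G : X.Sheaf (Type u)) : U.sheafRestrict.obj G ⟶ U.sheafRestrict.obj (hU U) :=
  ⟨{ app := fun V' => TypeCat.ofHom (fun _ => (homOfLE (jf_le U V'.unop) : (jf U).obj V'.unop ⟶ U))
     naturality := by
      intro V V' f
      ext s
      exact Subsingleton.elim (α := ((jf U).obj V'.unop ⟶ U)) _ _ }⟩

section

variable {G G' : X.Sheaf (Type u)}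

/-- a morphism is determined by its restriction to `U` on opens inside `U` -/
lemma app_eq_of_le (φ : G ⟶ G') (V : Opens X) (hV : V ≤ U) (s : G.presheaf.obj (op V)) :
    φ.hom.app (op V) s = G'.presheaf.map (homOfLE (le_jf_map U V hV)).op
      ((U.sheafRestrict.map φ).hom.app (op ((Opens.map (ι U)).obj V))
        (G.presheaf.map (homOfLE (jf_map_le U V)).op s)) := by
  change _ = G'.presheaf.map _ (φ.hom.app (op ((jf U).obj ((Opens.map (ι U)).obj V)))
    (G.presheaf.map (homOfLE (jf_map_le U V)).op s))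
  have h := NatTrans.naturality_apply φ.hom (homOfLE (jf_map_le U V)).op s
  rw [h]
  exact ((map_map_eq' G'.presheaf _ _ (𝟙 _) _).trans (map_id' _ _ _)).symm

variable (hVU : ∀ V : Opens X, G.presheaf.obj (op V) → V ≤ U)

include hVU in
lemma restrict_injective (φ φ' : G ⟶ G') (h : U.sheafRestrict.map φ = U.sheafRestrict.map φ') :
    φ = φ' := by
  apply Sheaf.hom_ext
  ext ⟨V⟩ s
  change φ.hom.app (op V) s = φ'.hom.app (op V) s
  rw [app_eq_of_le U φ V (hVU V s) s, app_eq_of_le U φ' V (hVU V s) s, h]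

/-- extension of a morphism given on `U` -/
def extApp (β : U.sheafRestrict.obj G ⟶ U.sheafRestrict.obj G') (V : Opens X)
    (s : G.presheaf.obj (op V)) : G'.presheaf.obj (op V) :=
  G'.presheaf.map (homOfLE (le_jf_map U V (hVU V s))).op
    (β.hom.app (op ((Opens.map (ι U)).obj V)) (G.presheaf.map (homOfLE (jf_map_le U V)).op s))

lemma β_res (β : U.sheafRestrict.obj G ⟶ U.sheafRestrict.obj G') {V' W' : Opens (TopCat.of U)}
    (g : W' ⟶ V') (s : G.presheaf.obj (op ((jf U).obj V'))) :
    β.hom.app (op W') (G.presheaf.map ((jf U).map g).op s) =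
      G'.presheaf.map ((jf U).map g).op (β.hom.app (op V') s) :=
  NatTrans.naturality_apply β.hom g.op s

/-- the extension as a morphism -/
def ext (β : U.sheafRestrict.obj G ⟶ U.sheafRestrict.obj G') : G ⟶ G' :=
  ⟨{ app := fun V => TypeCat.ofHom (extApp U hVU β V.unop)
     naturality := by
      intro V W f
      ext s
      obtain ⟨V⟩ := V
      obtain ⟨W⟩ := W
      have hle : W ≤ V := f.unop.le
      have hf : f = (homOfLE hle).op := Subsingleton.elim _ _
      subst hf
      change extApp U hVU β W (G.presheaf.map (homOfLE hle).op s) =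
        G'.presheaf.map (homOfLE hle).op (extApp U hVU β V s)
      unfold extApp
      have h1 : G.presheaf.map (homOfLE (jf_map_le U W)).op (G.presheaf.map (homOfLE hle).op s) =
          G.presheaf.map ((jf U).map ((Opens.map (ι U)).map (homOfLE hle))).op
            (G.presheaf.map (homOfLE (jf_map_le U V)).op s) := map_map_eq _ _ _ _ _ _
      rw [h1, β_res]
      exact map_map_eq _ _ _ _ _ _ }⟩

lemma restrict_ext (β : U.sheafRestrict.obj G ⟶ U.sheafRestrict.obj G') :
    U.sheafRestrict.map (ext U hVU β) = β := by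
  apply Sheaf.hom_ext
  ext ⟨V'⟩ s
  change extApp U hVU β ((jf U).obj V') s = β.hom.app (op V') s
  unfold extApp
  have h2 : G.presheaf.map (homOfLE (jf_map_le U ((jf U).obj V'))).op s =
      G.presheaf.map ((jf U).map (eqToHom (map_jf U V'))).op s := map_congr' _ _ _ _
  rw [h2, β_res]
  exact (map_map_eq' G'.presheaf _ _ (𝟙 _) _).trans (map_id' _ _ _)

end

lemma isEmpty_stalk_of_le {G : X.Sheaf (Type u)}
    (hVU : ∀ V : Opens X, G.presheaf.obj (op V) → V ≤ U) (x : X) (hx : x ∉ U) :
    IsEmpty (G.presheaf.stalk x) := by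
  refine ⟨fun t => ?_⟩
  obtain ⟨V, hxV, s, -⟩ := G.presheaf.exists_germ_eq t
  exact hx (hVU V s hxV)

lemma le_of_isEmpty_stalk {G : X.Sheaf (Type u)}
    (h : ∀ x : X, x ∉ U → IsEmpty (G.presheaf.stalk x)) (V : Opens X)
    (s : G.presheaf.obj (op V)) : V ≤ U := by
  intro x hxV
  by_contra hxU
  exact (h x hxU).false (G.presheaf.germ V x hxV s)


/-- Let X be a topological space, U ⊆ X open and j_! : Sh(U) → Sh(X) a left adjoint of restriction of
sheaves of sets to U. Then j_! is fully faithful, and a sheaf G on X lies in its essential image if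
and only if G_x = ∅ for all x ∈ X not in U. -/
theorem result {X : TopCat.{u}} (U : Opens X)
    (L : (TopCat.of U).Sheaf (Type u) ⥤ X.Sheaf (Type u)) (adj : L ⊣ U.sheafRestrict (C := Type u)) :
    L.Full ∧ L.Faithful ∧
    ∀ G : X.Sheaf (Type u), L.essImage G ↔ ∀ x : X, x ∉ U → IsEmpty (G.presheaf.stalk x) := by
  let t : Adjunction.Triple L (U.sheafRestrict (C := Type u))
      (TopCat.Sheaf.pushforward (Type u) (ι U)) := ⟨adj, adj₂ U⟩
  haveI := Groth.Agent.Lib.helper11.EmbPush.full (ι U) (hι U).isInducing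
  haveI := Groth.Agent.Lib.helper11.EmbPush.faithful (ι U) (hι U).isInducing
  have hff : L.FullyFaithful := t.fullyFaithfulEquiv.symm (Functor.FullyFaithful.ofFullyFaithful _)
  haveI := hff.full
  haveI := hff.faithful
  refine ⟨inferInstance, inferInstance, fun G => ⟨fun h => ?_, fun h => ?_⟩⟩
  · haveI : IsIso (adj.counit.app G) := (adj.isIso_counit_app_iff_mem_essImage).mpr h
    let φ : G ⟶ hU U := inv (adj.counit.app G) ≫ (adj.homEquiv _ _).symm (toHU U G)
    exact isEmpty_stalk_of_le U (fun V s => (φ.hom.app (op V) s : V ⟶ U).le)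
  · have hVU := le_of_isEmpty_stalk U h
    rw [← adj.isIso_counit_app_iff_mem_essImage, isIso_iff_coyoneda_map_bijective]
    intro G'
    have hcomp : ∀ x : G ⟶ G', (adj.homEquiv _ _) (adj.counit.app G ≫ x) = U.sheafRestrict.map x := by
      intro x
      rw [Adjunction.homEquiv_unit, Functor.map_comp, ← Category.assoc,
        adj.right_triangle_components, Category.id_comp]
    constructor
    · intro x x' hxx
      apply restrict_injective U hVU
      rw [← hcomp x, ← hcomp x']
      exact congrArg _ hxx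
    · intro y
      refine ⟨ext U hVU ((adj.homEquiv _ _) y), ?_⟩
      apply (adj.homEquiv _ _).injective
      rw [hcomp, restrict_ext]
      rfl

end Groth.Agent.S7574
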