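import Groth.Statements.S7578
import Mathlib
import Groth.Agent.Lib.Helper16.SoberRank

set_option autoImplicit false
universe u
open PtTop

namespace Groth.Agent.S7578

open Groth.Agent.Lib.helper16.SoberRank TopologicalSpace

theorem diff_eq {X : Type u} [TopologicalSpace X] [QuasiSober X] [T0Space X]
    (δ δ' : X → ℤ) (hδ : PtTop.IsDimensionFunction δ) (hδ' : PtTop.IsDimensionFunction δ')
    {ξ u : X} (h : ξ ⤳ u) : δ ξ - δ' ξ = δ u - δ' u := by
  have h1 := codim_cl δ hδ h
  have h2 := codim_cl δ' hδ' h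
  rw [h1] at h2
  have h3 : (δ ξ - δ u).toNat = (δ' ξ - δ' u).toNat := by exact_mod_cast h2
  have h4 : δ u ≤ δ ξ := by
    by_cases e : ξ = u
    · rw [e]
    · exact (hδ.1 ξ u h e).le
  have h5 : δ' u ≤ δ' ξ := by
    by_cases e : ξ = u
    · rw [e]
    · exact (hδ'.1 ξ u h e).le
  omega

theorem exists_nhd {X : Type u} [TopologicalSpace X] [QuasiSober X]
    (hX : ∀ x : X, ∃ E ∈ nhds x, TopologicalSpace.NoetherianSpace E) (x : X) :
    ∃ V : Set X, IsOpen V ∧ x ∈ V ∧ ∀ u ∈ V, ∃ ξ : X, ξ ⤳ u ∧ ξ ⤳ x := by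
  obtain ⟨E, hE, hEN⟩ := hX x
  set U : Set X := interior E with hU
  have hUo : IsOpen U := isOpen_interior
  have hxU : x ∈ U := mem_interior_iff_mem_nhds.mpr hE
  haveI : NoetherianSpace ↥U := by
    rw [noetherianSpace_set_iff] at hEN ⊢
    exact fun t ht => hEN t (ht.trans interior_subset)
  have hfin : (irreducibleComponents ↥U).Finite := NoetherianSpace.finite_irreducibleComponents
  let x' : ↥U := ⟨x, hxU⟩
  let C₀ : Set (Set ↥U) := {Z | Z ∈ irreducibleComponents ↥U ∧ x' ∉ Z}
  have hC₀fin : C₀.Finite := hfin.subset (fun Z hZ => hZ.1)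
  let F : Set ↥U := ⋃ Z ∈ C₀, Z
  have hF : IsClosed F :=
    hC₀fin.isClosed_biUnion (fun Z hZ => isClosed_of_mem_irreducibleComponents Z hZ.1)
  refine ⟨Subtype.val '' Fᶜ, hUo.isOpenMap_subtype_val _ hF.isOpen_compl, ⟨x', ?_, rfl⟩, ?_⟩
  · intro hx'
    simp only [F, Set.mem_iUnion] at hx'
    obtain ⟨Z, hZ, hxZ⟩ := hx'
    exact hZ.2 hxZ
  · rintro _ ⟨u', hu', rfl⟩
    set Z := irreducibleComponent u' with hZ
    have hZmem : Z ∈ irreducibleComponents ↥U := irreducibleComponent_mem_irreducibleComponents u'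
    have huZ : u' ∈ Z := mem_irreducibleComponent
    have hxZ : x' ∈ Z := by
      by_contra hx'
      apply hu'
      simp only [F, Set.mem_iUnion]
      exact ⟨Z, ⟨hZmem, hx'⟩, huZ⟩
    have hZirr : IsIrreducible Z := isIrreducible_irreducibleComponent
    have hWirr : IsIrreducible (closure (Subtype.val '' Z : Set X)) :=
      (hZirr.image Subtype.val continuous_subtype_val.continuousOn).closure
    refine ⟨hWirr.genericPoint, ?_, ?_⟩
    · rw [specializes_iff_mem_closure, hWirr.closure_genericPoint isClosed_closure]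
      exact subset_closure ⟨u', huZ, rfl⟩
    · rw [specializes_iff_mem_closure, hWirr.closure_genericPoint isClosed_closure]
      exact subset_closure ⟨x', hxZ, rfl⟩

theorem result' {X : Type u} [TopologicalSpace X] [QuasiSober X] [T0Space X]
    (hX : ∀ x : X, ∃ E ∈ nhds x, TopologicalSpace.NoetherianSpace E)
    (δ δ' : X → ℤ) (hδ : PtTop.IsDimensionFunction δ) (hδ' : PtTop.IsDimensionFunction δ') :
    IsLocallyConstant (fun x => δ x - δ' x) := by
  rw [IsLocallyConstant.iff_exists_open]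
  intro x
  obtain ⟨V, hV, hxV, h⟩ := exists_nhd hX x
  refine ⟨V, hV, hxV, fun u hu => ?_⟩
  obtain ⟨ξ, h1, h2⟩ := h u hu
  show δ u - δ' u = δ x - δ' x
  rw [← diff_eq δ δ' hδ hδ' h1, ← diff_eq δ δ' hδ hδ' h2]



/-- Let X be a topological space which is locally Noetherian (every point has a Noetherian
neighbourhood) and sober, and let δ, δ' be two dimension functions on X. Then δ − δ' is locally
constant. -/
theorem result {X : Type u} [TopologicalSpace X] [QuasiSober X] [T0Space X]
    (hX : ∀ x : X, ∃ E ∈ nhds x, TopologicalSpace.NoetherianSpace E)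
    (δ δ' : X → ℤ) (hδ : PtTop.IsDimensionFunction δ) (hδ' : PtTop.IsDimensionFunction δ') :
    IsLocallyConstant (fun x => δ x - δ' x) := by
  exact Groth.Agent.S7578.result' hX δ δ' hδ hδ'

end Groth.Agent.S7578
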