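import Groth.Statements.S7580


set_option autoImplicit false
universe u
open PtTop

namespace Groth.Agent.S7580

/-- Let f : X → Y be a continuous map of topological spaces with f(X) dense in Y and Y Hausdorff. Then
the cardinality of Y is at most that of the double power set of X. -/
theorem result {X Y : Type u} [TopologicalSpace X] [TopologicalSpace Y] [T2Space Y]
    (f : X → Y) (hf : Continuous f) (hd : DenseRange f) :
    Cardinal.mk Y ≤ (2 : Cardinal.{u}) ^ ((2 : Cardinal.{u}) ^ Cardinal.mk X) := by
  let g : Y → Set (Set X) := fun y => {A | y ∈ closure (f '' A)}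
  have hg : Function.Injective g := by
    intro y y' hyy'
    by_contra hne
    obtain ⟨V, V', hV, hV', hyV, hy'V', hdisj⟩ := t2_separation hne
    have h1 : f ⁻¹' V ∈ g y := by
      show y ∈ closure (f '' (f ⁻¹' V))
      rw [mem_closure_iff]
      intro N hN hyN
      obtain ⟨x, hx⟩ := hd.exists_mem_open (hN.inter hV) ⟨y, hyN, hyV⟩
      exact ⟨f x, hx.1, x, hx.2, rfl⟩
    have h2 : f ⁻¹' V ∉ g y' := by
      show y' ∉ closure (f '' (f ⁻¹' V))
      rw [mem_closure_iff]
      intro h
      obtain ⟨z, hzV', x, hxV, rfl⟩ := h V' hV' hy'V'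
      exact Set.disjoint_left.mp hdisj hxV hzV'
    rw [hyy'] at h1
    exact h2 h1
  calc Cardinal.mk Y ≤ Cardinal.mk (Set (Set X)) := Cardinal.mk_le_of_injective hg
    _ = 2 ^ ((2 : Cardinal.{u}) ^ Cardinal.mk X) := by rw [Cardinal.mk_set, Cardinal.mk_set]

end Groth.Agent.S7580
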