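import Groth.Statements.S7584
-- import your own Groth.Agent.* helpers here

set_option autoImplicit false
universe u
open PtTop

namespace Groth.Agent.S7584

/-- Let X be a quasi-compact topological space in which each connected component equals the intersection
of all clopen sets that contain it. Then π₀(X), the set of connected components with the quotient
topology, is Hausdorff. The published statement concludes that π₀(X) is profinite; this row records
the Hausdorff property, quasi-compactness and total disconnectedness of the quotient being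
automatic. -/
theorem result (X : Type u) [TopologicalSpace X] [CompactSpace X]
    (h : ∀ x : X, connectedComponent x = ⋂₀ {Z : Set X | IsClopen Z ∧ x ∈ Z}) :
    T2Space (ConnectedComponents X) := by
  -- saturation of clopen sets
  have hsat : ∀ Z : Set X, IsClopen Z → ∀ a b : X,
      (a : ConnectedComponents X) = b → a ∈ Z → b ∈ Z := by
    intro Z hZ a b hab ha
    rw [ConnectedComponents.coe_eq_coe] at hab
    have hb : b ∈ connectedComponent a := hab ▸ mem_connectedComponent
    exact hZ.connectedComponent_subset ha hb
  have hpre : ∀ Z : Set X, IsClopen Z →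
      (ConnectedComponents.mk ⁻¹' (ConnectedComponents.mk '' Z)) = Z := by
    intro Z hZ
    ext b
    constructor
    · rintro ⟨a, ha, hab⟩
      exact hsat Z hZ a b hab ha
    · intro hb
      exact ⟨b, hb, rfl⟩
  rw [t2Space_iff]
  intro a b hab
  obtain ⟨x, rfl⟩ := ConnectedComponents.surjective_coe a
  obtain ⟨y, rfl⟩ := ConnectedComponents.surjective_coe b
  have hy : y ∉ connectedComponent x := by
    intro hy
    exact hab (ConnectedComponents.coe_eq_coe'.mpr hy).symm
  rw [h x, Set.mem_sInter] at hy
  push Not at hy
  obtain ⟨Z, ⟨hZ, hxZ⟩, hyZ⟩ := hy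
  refine ⟨ConnectedComponents.mk '' Z, ConnectedComponents.mk '' Zᶜ, ?_, ?_, ⟨x, hxZ, rfl⟩,
    ⟨y, hyZ, rfl⟩, ?_⟩
  · rw [← ConnectedComponents.isQuotientMap_coe.isOpen_preimage, hpre Z hZ]
    exact hZ.isOpen
  · rw [← ConnectedComponents.isQuotientMap_coe.isOpen_preimage, hpre Zᶜ hZ.compl]
    exact hZ.compl.isOpen
  · rw [Set.disjoint_left]
    rintro _ ⟨a, ha, rfl⟩ ⟨b, hb, hba⟩
    exact hb (hsat Z hZ a b hba.symm ha)

end Groth.Agent.S7584
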