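import Groth.Statements.S7585


set_option autoImplicit false
universe u
open ShSp

namespace Groth.Agent.S7585

open TopologicalSpace in
/-- Separatedness from the cofinal system: two sections over `M ∈ B` which agree locally (on members
of `B`) are equal. -/
theorem sep {X : Type u} [TopologicalSpace X] {B : Set (Opens X)} (F : ShB.Pre B)
    (C : ∀ U : B, Set (ShB.Cover B)) (hCU : ∀ U, ∀ c ∈ C U, c.U = U)
    (hC : ∀ (U : B) (ι : Type u) (V : ι → B), (∀ i, (V i : Opens X) ≤ (U : Opens X)) →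
      (U : Opens X) ≤ ⨆ i, (V i : Opens X) →
      ∃ c ∈ C U, ∀ i' : c.ι, ∃ i, (c.V i' : Opens X) ≤ (V i : Opens X))
    (hglue : ∀ U, ∀ c ∈ C U, ShB.GluesUniquely F c)
    (M : B) (a b : F.obj M)
    (h : ∀ x ∈ (M : Opens X), ∃ (N : B) (hNM : (N : Opens X) ≤ (M : Opens X)),
      x ∈ (N : Opens X) ∧ F.res hNM a = F.res hNM b) : a = b := by
  let ι' := {N : B // ∃ hNM : (N : Opens X) ≤ (M : Opens X), F.res hNM a = F.res hNM b}
  obtain ⟨c, hc, href⟩ := hC M ι' (fun N => N.1) (fun N => N.2.1) (by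
    intro x hx
    obtain ⟨N, hNM, hxN, hab⟩ := h x hx
    exact Opens.mem_iSup.mpr ⟨⟨N, hNM, hab⟩, hxN⟩)
  have e := hCU M c hc
  subst e
  have hu := hglue _ c hc (fun i' => F.res (c.V_le i') a) (by
    intro i j k
    rw [F.res_comp, F.res_comp])
  refine hu.unique (fun i => rfl) (fun i' => ?_)
  obtain ⟨⟨N, hNM, hab⟩, hle⟩ := href i'
  have h1 : F.res (c.V_le i') b = F.res hle (F.res hNM b) := by rw [F.res_comp]
  have h2 : F.res (c.V_le i') a = F.res hle (F.res hNM a) := by rw [F.res_comp]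
  rw [h1, h2, hab]

open TopologicalSpace in
theorem glues_of_cofinal {X : Type u} [TopologicalSpace X] {B : Set (Opens X)}
    (hB : Opens.IsBasis B) (F : ShB.Pre B)
    (C : ∀ U : B, Set (ShB.Cover B)) (hCU : ∀ U, ∀ c ∈ C U, c.U = U)
    (hC : ∀ (U : B) (ι : Type u) (V : ι → B), (∀ i, (V i : Opens X) ≤ (U : Opens X)) →
      (U : Opens X) ≤ ⨆ i, (V i : Opens X) →
      ∃ c ∈ C U, ∀ i' : c.ι, ∃ i, (c.V i' : Opens X) ≤ (V i : Opens X))
    (hglue : ∀ U, ∀ c ∈ C U, ShB.GluesUniquely F c) (d : ShB.Cover B) :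
    ShB.GluesUniquely F d := by
  have hsep := sep F C hCU hC hglue
  obtain ⟨U, ι, V, V_le, V_cover, κ, W, W_le_left, W_le_right, W_cover⟩ := d
  intro s hs
  dsimp only at s hs ⊢
  -- sections `s i`, `s j` agree on any member of `B` inside `V i ⊓ V j`
  have hagree : ∀ (i j : ι) (M : B) (h1 : (M : Opens X) ≤ (V i : Opens X))
      (h2 : (M : Opens X) ≤ (V j : Opens X)), F.res h1 (s i) = F.res h2 (s j) := by
    intro i j M h1 h2
    apply hsep M
    intro x hx
    have hx' : x ∈ (V i : Opens X) ⊓ (V j : Opens X) := ⟨h1 hx, h2 hx⟩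
    obtain ⟨k, hk⟩ := Opens.mem_iSup.mp (W_cover i j hx')
    obtain ⟨N, hNB, hxN, hNle⟩ := Opens.isBasis_iff_nbhd.mp hB
      (show x ∈ (M : Opens X) ⊓ (W i j k : Opens X) from ⟨hx, hk⟩)
    refine ⟨⟨N, hNB⟩, hNle.trans inf_le_left, hxN, ?_⟩
    have hNW : ((⟨N, hNB⟩ : B) : Opens X) ≤ (W i j k : Opens X) := hNle.trans inf_le_right
    rw [F.res_comp, F.res_comp]
    have e1 : F.res ((hNle.trans inf_le_left).trans h1) (s i) =
        F.res hNW (F.res (W_le_left i j k) (s i)) := by rw [F.res_comp]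
    have e2 : F.res ((hNle.trans inf_le_left).trans h2) (s j) =
        F.res hNW (F.res (W_le_right i j k) (s j)) := by rw [F.res_comp]
    rw [e1, e2, hs i j k]
  -- refine by a cover in the cofinal system
  obtain ⟨c, hc, href⟩ := hC U ι V V_le V_cover
  have e := hCU U c hc
  subst e
  choose α hα using href
  obtain ⟨t, ht, -⟩ := hglue _ c hc (fun i' => F.res (hα i') (s (α i'))) (by
    intro i' j' k
    rw [F.res_comp, F.res_comp]
    exact hagree _ _ _ _ _)
  have htV : ∀ i, F.res (V_le i) t = s i := by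
    intro i
    apply hsep (V i)
    intro x hx
    obtain ⟨i', hi'⟩ := Opens.mem_iSup.mp (c.V_cover (V_le i hx))
    obtain ⟨N, hNB, hxN, hNle⟩ := Opens.isBasis_iff_nbhd.mp hB
      (show x ∈ (V i : Opens X) ⊓ (c.V i' : Opens X) from ⟨hx, hi'⟩)
    refine ⟨⟨N, hNB⟩, hNle.trans inf_le_left, hxN, ?_⟩
    have hNc : ((⟨N, hNB⟩ : B) : Opens X) ≤ (c.V i' : Opens X) := hNle.trans inf_le_right
    rw [F.res_comp]
    have e1 : F.res ((hNle.trans inf_le_left).trans (V_le i)) t =
        F.res hNc (F.res (c.V_le i') t) := by rw [F.res_comp]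
    rw [e1, ht i', F.res_comp]
    exact hagree _ _ _ _ _
  refine ⟨t, htV, fun t' ht' => ?_⟩
  apply hsep c.U
  intro x hx
  obtain ⟨i, hi⟩ := Opens.mem_iSup.mp (V_cover hx)
  exact ⟨V i, V_le i, hi, by rw [ht' i, htV i]⟩


/-- Let X be a topological space, ℬ a basis for its topology and F a presheaf of sets on ℬ. For each U ∈
ℬ let C(U) be a cofinal system of coverings of U by members of ℬ (every covering of U by members of
ℬ is refined by one in C(U)), each member of C(U) coming with chosen coverings of the pairwise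
intersections U_i ∩ U_j by members of ℬ. Then F is a sheaf on ℬ if and only if the sheaf condition
(**) holds for every U ∈ ℬ and every covering in C(U) with its chosen intersection coverings. -/
theorem result {X : Type u} [TopologicalSpace X] {B : Set (TopologicalSpace.Opens X)}
    (hB : TopologicalSpace.Opens.IsBasis B) (F : ShB.Pre B)
    (C : ∀ U : B, Set (ShB.Cover B)) (hCU : ∀ U, ∀ c ∈ C U, c.U = U)
    (hC : ∀ (U : B) (ι : Type u) (V : ι → B), (∀ i, (V i : TopologicalSpace.Opens X) ≤ (U : TopologicalSpace.Opens X)) →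
      (U : TopologicalSpace.Opens X) ≤ ⨆ i, (V i : TopologicalSpace.Opens X) →
      ∃ c ∈ C U, ∀ i' : c.ι, ∃ i, (c.V i' : TopologicalSpace.Opens X) ≤ (V i : TopologicalSpace.Opens X)) :
    ShB.IsSheaf F ↔ ∀ U, ∀ c ∈ C U, ShB.GluesUniquely F c := by
  constructor
  · intro h U c _
    exact h c
  · intro h d
    exact glues_of_cofinal hB F C hCU hC h d

end Groth.Agent.S7585
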