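import Groth.Statements.S7587
import Groth.Agent.S7585

set_option autoImplicit false
universe u
open ShSp

namespace Groth.Agent.S7587

open TopologicalSpace

/-- A covering datum built from a family of members covering `U`, the intersections being covered by
all members of `B` inside them. -/
def coverOf {X : Type u} [TopologicalSpace X] {B : Set (Opens X)} (hB : Opens.IsBasis B)
    (U : B) (ι : Type u) (V : ι → B) (hle : ∀ i, (V i : Opens X) ≤ (U : Opens X))
    (hcov : (U : Opens X) ≤ ⨆ i, (V i : Opens X)) : ShB.Cover B where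
  U := U
  ι := ι
  V := V
  V_le := hle
  V_cover := hcov
  κ := fun i j => {N : B // (N : Opens X) ≤ (V i : Opens X) ⊓ (V j : Opens X)}
  W := fun _ _ k => k.1
  W_le_left := fun _ _ k => k.2.trans inf_le_left
  W_le_right := fun _ _ k => k.2.trans inf_le_right
  W_cover := by
    intro i j x hx
    obtain ⟨N, hNB, hxN, hNle⟩ := Opens.isBasis_iff_nbhd.mp hB hx
    exact Opens.mem_iSup.mpr ⟨⟨⟨N, hNB⟩, hNle⟩, hxN⟩

theorem sep' {X : Type u} [TopologicalSpace X] {B : Set (Opens X)} (hB : Opens.IsBasis B)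
    (F : ShB.Pre B) (hF : ShB.IsSheaf F) (M : B) (a b : F.obj M)
    (h : ∀ x ∈ (M : Opens X), ∃ (N : B) (hNM : (N : Opens X) ≤ (M : Opens X)),
      x ∈ (N : Opens X) ∧ F.res hNM a = F.res hNM b) : a = b := by
  refine Groth.Agent.S7585.sep F (fun U => {c | c.U = U}) (fun U c hc => hc) ?_
    (fun U c _ => hF c) M a b h
  intro U ι V hle hcov
  exact ⟨coverOf hB U ι V hle hcov, rfl, fun i' => ⟨i', le_rfl⟩⟩

theorem stalkRel_equivalence {X : Type u} [TopologicalSpace X] {B : Set (Opens X)}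
    (hB : Opens.IsBasis B) (F : ShB.Pre B) (x : X) : Equivalence (ShB.StalkRel F x) where
  refl a := ⟨a.1.1, a.1.2, le_rfl, le_rfl, rfl⟩
  symm := by
    rintro a b ⟨W, hxW, ha, hb, hab⟩
    exact ⟨W, hxW, hb, ha, hab.symm⟩
  trans := by
    rintro a b c ⟨W1, hxW1, ha1, hb1, hab⟩ ⟨W2, hxW2, hb2, hc2, hbc⟩
    obtain ⟨N, hNB, hxN, hNle⟩ := Opens.isBasis_iff_nbhd.mp hB
      (show x ∈ (W1 : Opens X) ⊓ (W2 : Opens X) from ⟨hxW1, hxW2⟩)
    have h1 : ((⟨N, hNB⟩ : B) : Opens X) ≤ (W1 : Opens X) := hNle.trans inf_le_left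
    have h2 : ((⟨N, hNB⟩ : B) : Opens X) ≤ (W2 : Opens X) := hNle.trans inf_le_right
    refine ⟨⟨N, hNB⟩, hxN, h1.trans ha1, h2.trans hc2, ?_⟩
    have e1 : F.res (h1.trans ha1) a.2 = F.res h1 (F.res ha1 a.2) := by rw [F.res_comp]
    have e2 : F.res (h2.trans hc2) c.2 = F.res h2 (F.res hc2 c.2) := by rw [F.res_comp]
    rw [e1, e2, hab, ← hbc, F.res_comp, F.res_comp]

theorem germ_eq_iff {X : Type u} [TopologicalSpace X] {B : Set (Opens X)}
    (hB : Opens.IsBasis B) (F : ShB.Pre B) (x : X) {U V : B} (hxU : x ∈ (U : Opens X))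
    (hxV : x ∈ (V : Opens X)) (s : F.obj U) (t : F.obj V) :
    ShB.germ F x hxU s = ShB.germ F x hxV t ↔
      ∃ (W : B) (_ : x ∈ (W : Opens X)) (ha : (W : Opens X) ≤ (U : Opens X))
        (hb : (W : Opens X) ≤ (V : Opens X)), F.res ha s = F.res hb t := by
  constructor
  · intro h
    have := Quot.eqvGen_exact h
    rw [(stalkRel_equivalence hB F x).eqvGen_iff] at this
    exact this
  · intro h
    exact Quot.sound h

theorem germ_res {X : Type u} [TopologicalSpace X] {B : Set (Opens X)}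
    (F : ShB.Pre B) (x : X) {U V : B} (hVU : (V : Opens X) ≤ (U : Opens X))
    (hxV : x ∈ (V : Opens X)) (s : F.obj U) :
    ShB.germ F x hxV (F.res hVU s) = ShB.germ F x (hVU hxV) s :=
  Quot.sound ⟨V, hxV, le_rfl, hVU, by rw [F.res_id]⟩


/-- Let X be a topological space, ℬ a basis for its topology, U ∈ ℬ and F a sheaf of sets on ℬ. Sending
a section over U to its germs at the points of U, a map from F(U) into the product of the stalks F_x
over x ∈ U, puts F(U) in bijection with those germ families (s_x)_{x ∈ U} that satisfy (*): each x ∈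
U lies in some V ∈ ℬ contained in U carrying a section σ ∈ F(V) whose germ at every y ∈ V equals
s_y. That is, the map is injective and its image is exactly the set of such families. -/
theorem result {X : Type u} [TopologicalSpace X] {B : Set (TopologicalSpace.Opens X)}
    (hB : TopologicalSpace.Opens.IsBasis B) (F : ShB.Pre B) (hF : ShB.IsSheaf F) (U : B) :
    Function.Injective (fun (s : F.obj U) (x : (U : TopologicalSpace.Opens X)) => ShB.germ F x.1 x.2 s) ∧
    ∀ f : ∀ x : (U : TopologicalSpace.Opens X), ShB.Stalk F x.1,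
      (∃ s : F.obj U, ∀ x, ShB.germ F x.1 x.2 s = f x) ↔
      ∀ x : (U : TopologicalSpace.Opens X), ∃ (V : B) (hxV : x.1 ∈ (V : TopologicalSpace.Opens X))
        (hVU : (V : TopologicalSpace.Opens X) ≤ (U : TopologicalSpace.Opens X)) (σ : F.obj V),
        ∀ (y : X) (hy : y ∈ (V : TopologicalSpace.Opens X)), ShB.germ F y hy σ = f ⟨y, hVU hy⟩ := by
  constructor
  · intro s s' hss'
    apply sep' hB F hF U
    intro x hx
    have h1 := congr_fun hss' ⟨x, hx⟩
    obtain ⟨W, hxW, ha, hb, hab⟩ := (germ_eq_iff hB F x hx hx s s').mp h1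
    exact ⟨W, ha, hxW, hab⟩
  · intro f
    constructor
    · rintro ⟨s, hs⟩ x
      exact ⟨U, x.2, le_rfl, s, fun y hy => hs ⟨y, hy⟩⟩
    · intro h
      choose V hxV hVU σ hσ using h
      have hcov : (U : Opens X) ≤ ⨆ x : (U : Opens X), (V x : Opens X) :=
        fun x hx => Opens.mem_iSup.mpr ⟨⟨x, hx⟩, hxV ⟨x, hx⟩⟩
      obtain ⟨t, ht, -⟩ := hF (coverOf hB U (U : Opens X) V hVU hcov) σ (by
        rintro x x' ⟨N, hN⟩
        apply sep' hB F hF N
        intro y hy
        have hy1 : y ∈ (V x : Opens X) := (hN.trans inf_le_left) hy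
        have hy2 : y ∈ (V x' : Opens X) := (hN.trans inf_le_right) hy
        have hg : ShB.germ F y hy1 (σ x) = ShB.germ F y hy2 (σ x') := by
          rw [hσ x y hy1, hσ x' y hy2]
        obtain ⟨W, hyW, ha, hb, hab⟩ := (germ_eq_iff hB F y hy1 hy2 _ _).mp hg
        obtain ⟨N', hN'B, hyN', hN'le⟩ := Opens.isBasis_iff_nbhd.mp hB
          (show y ∈ (N : Opens X) ⊓ (W : Opens X) from ⟨hy, hyW⟩)
        have h1 : ((⟨N', hN'B⟩ : B) : Opens X) ≤ (N : Opens X) := hN'le.trans inf_le_left
        have h2 : ((⟨N', hN'B⟩ : B) : Opens X) ≤ (W : Opens X) := hN'le.trans inf_le_right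
        refine ⟨⟨N', hN'B⟩, h1, hyN', ?_⟩
        show F.res h1 (F.res (hN.trans inf_le_left) (σ x)) =
          F.res h1 (F.res (hN.trans inf_le_right) (σ x'))
        rw [F.res_comp, F.res_comp]
        have e1 : F.res (h1.trans (hN.trans inf_le_left)) (σ x) = F.res h2 (F.res ha (σ x)) := by
          rw [F.res_comp]
        have e2 : F.res (h1.trans (hN.trans inf_le_right)) (σ x') = F.res h2 (F.res hb (σ x')) := by
          rw [F.res_comp]
        rw [e1, e2, hab])
      refine ⟨t, fun x => ?_⟩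
      have h1 : F.res (hVU x) t = σ x := ht x
      rw [← germ_res F x.1 (hVU x) (hxV x) t, h1]
      exact hσ x x.1 (hxV x)

end Groth.Agent.S7587
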