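import Groth.Statements.S7588
import Groth.Agent.S7587
import Mathlib

set_option autoImplicit false
universe u
open CategoryTheory
open ShSp

namespace Groth.Agent.S7588

open TopologicalSpace Opposite CategoryTheory TopCat

variable {X : Type u} [TopologicalSpace X] {B : Set (Opens X)}

/-- the local predicate: families of germs locally given by sections over members of `B` -/
def lp (hB : Opens.IsBasis B) (F : ShB.Pre B) :
    TopCat.LocalPredicate (X := TopCat.of X) (fun x => ShB.Stalk F x) where
  pred {U} f := ∀ x : U, ∃ (V : B) (_ : x.1 ∈ (V : Opens X)) (hVU : (V : Opens X) ≤ U)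
    (σ : F.obj V), ∀ (y : X) (hy : y ∈ (V : Opens X)), ShB.germ F y hy σ = f ⟨y, hVU hy⟩
  res {U V} i f hf := by
    intro x
    obtain ⟨W, hxW, hWV, σ, hσ⟩ := hf ⟨x.1, i.le x.2⟩
    obtain ⟨N, hNB, hxN, hNle⟩ := Opens.isBasis_iff_nbhd.mp hB
      (show x.1 ∈ (W : Opens X) ⊓ U from ⟨hxW, x.2⟩)
    have h1 : ((⟨N, hNB⟩ : B) : Opens X) ≤ (W : Opens X) := hNle.trans inf_le_left
    have h2 : ((⟨N, hNB⟩ : B) : Opens X) ≤ U := hNle.trans inf_le_right
    refine ⟨⟨N, hNB⟩, hxN, h2, F.res h1 σ, fun y hy => ?_⟩
    rw [Groth.Agent.S7587.germ_res F y h1 hy σ]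
    exact hσ y (h1 hy)
  locality {U} f hf := by
    intro x
    obtain ⟨V, hxV, i, hV⟩ := hf x
    obtain ⟨W, hxW, hWV, σ, hσ⟩ := hV ⟨x.1, hxV⟩
    exact ⟨W, hxW, hWV.trans i.le, σ, fun y hy => hσ y hy⟩


/-- the extension sheaf -/
def ext (hB : Opens.IsBasis B) (F : ShB.Pre B) : TopCat.Sheaf (Type u) (TopCat.of X) :=
  TopCat.subsheafToTypes (lp hB F)

lemma exists_section (hB : Opens.IsBasis B) (F : ShB.Pre B) (hF : ShB.IsSheaf F) (U : B)
    (g : (ext hB F).presheaf.obj (op (U : Opens X))) :
    ∃ s : F.obj U, ∀ x : (U : Opens X), ShB.germ F x.1 x.2 s = g.1 x :=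
  ((Groth.Agent.S7587.result hB F hF U).2 g.1).mpr g.2

/-- the section of `F` over `U ∈ B` attached to a section of the extension -/
noncomputable def toF (hB : Opens.IsBasis B) (F : ShB.Pre B) (hF : ShB.IsSheaf F) (U : B)
    (g : (ext hB F).presheaf.obj (op (U : Opens X))) : F.obj U :=
  (exists_section hB F hF U g).choose

lemma germ_toF (hB : Opens.IsBasis B) (F : ShB.Pre B) (hF : ShB.IsSheaf F) (U : B)
    (g : (ext hB F).presheaf.obj (op (U : Opens X))) (x : (U : Opens X)) :
    ShB.germ F x.1 x.2 (toF hB F hF U g) = g.1 x :=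
  (exists_section hB F hF U g).choose_spec x

/-- the germs of a section over `U ∈ B` -/
def ofF (hB : Opens.IsBasis B) (F : ShB.Pre B) (U : B) (s : F.obj U) :
    (ext hB F).presheaf.obj (op (U : Opens X)) :=
  ⟨fun x => ShB.germ F x.1 x.2 s, fun x => ⟨U, x.2, le_rfl, s, fun _ _ => rfl⟩⟩

lemma eq_of_germ_eq (hB : Opens.IsBasis B) (F : ShB.Pre B) (hF : ShB.IsSheaf F) (U : B)
    (s t : F.obj U) (h : ∀ x : (U : Opens X), ShB.germ F x.1 x.2 s = ShB.germ F x.1 x.2 t) :
    s = t :=
  (Groth.Agent.S7587.result hB F hF U).1 (funext h)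

/-- the isomorphism between the restriction of the extension and `F` -/
noncomputable def extIso (hB : Opens.IsBasis B) (F : ShB.Pre B) (hF : ShB.IsSheaf F) :
    ShB.Iso (ShB.restrict B (ext hB F).presheaf) F where
  hom :=
    { app := fun U g => toF hB F hF U g
      natural := by
        intro U V h g
        apply eq_of_germ_eq hB F hF V
        intro x
        rw [Groth.Agent.S7587.germ_res F x.1 h x.2, germ_toF hB F hF U g ⟨x.1, h x.2⟩,
          germ_toF hB F hF V _ x]
        rfl }
  inv :=
    { app := fun U s => ofF hB F U s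
      natural := by
        intro U V h s
        apply Subtype.ext
        funext x
        exact (Groth.Agent.S7587.germ_res F x.1 h x.2 s).symm }
  hom_inv := by
    intro U g
    apply Subtype.ext
    funext x
    exact germ_toF hB F hF U g x
  inv_hom := by
    intro U t
    apply eq_of_germ_eq hB F hF U
    intro x
    exact germ_toF hB F hF U (ofF hB F U t) x


section Uniq

variable (G G' : TopCat.Sheaf (Type u) (TopCat.of X))
  {F : ShB.Pre B}
  (e : ShB.Iso (ShB.restrict B G.presheaf) F) (e' : ShB.Iso (ShB.restrict B G'.presheaf) F)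

/-- the indexing of the basis -/
abbrev Bf (B : Set (Opens X)) : B → Opens (TopCat.of X) := fun U => U.1

lemma isBasis_range (hB : Opens.IsBasis B) : Opens.IsBasis (Set.range (Bf B)) := by
  have : Set.range (Bf B) = B := Subtype.range_coe
  rw [this]; exact hB

/-- the morphism on the basis -/
def alpha : (inducedFunctor (Bf B)).op ⋙ G.presheaf ⟶ (inducedFunctor (Bf B)).op ⋙ G'.presheaf where
  app U := ↾fun s => e'.inv.app U.unop (e.hom.app U.unop s)
  naturality U V f := by
    ext s
    have h : Bf B V.unop ≤ Bf B U.unop := f.unop.hom.le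
    have h1 := e.hom.natural h s
    have h2 := e'.inv.natural h (e.hom.app U.unop s)
    show e'.inv.app V.unop (e.hom.app V.unop (G.presheaf.map f.unop.hom.op s)) =
      G'.presheaf.map f.unop.hom.op (e'.inv.app U.unop (e.hom.app U.unop s))
    have h3 : f.unop.hom = homOfLE h := Subsingleton.elim _ _
    rw [h3]
    exact (h2.trans (congrArg _ h1)).symm

/-- the comparison morphism -/
noncomputable def phi (hB : Opens.IsBasis B) : G ⟶ G' :=
  ⟨TopCat.Sheaf.restrictHomEquivHom G.presheaf G' (isBasis_range hB) (alpha G G' e e')⟩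

lemma phi_app (hB : Opens.IsBasis B) (U : B) (s : G.presheaf.obj (op (U : Opens X))) :
    (phi G G' e e' hB).1.app (op (U : Opens X)) s = e'.inv.app U (e.hom.app U s) := by
  have := TopCat.Sheaf.extend_hom_app G.presheaf G' (isBasis_range hB) (alpha G G' e e') U
  exact ConcreteCategory.congr_hom this s

end Uniq

theorem main {X : Type u} [TopologicalSpace X] {B : Set (TopologicalSpace.Opens X)}
    (hB : TopologicalSpace.Opens.IsBasis B) (F : ShB.Pre B) (hF : ShB.IsSheaf F) :
    (∃ G : TopCat.Sheaf (Type u) (TopCat.of X), Nonempty (ShB.Iso (ShB.restrict B G.presheaf) F)) ∧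
    ∀ (G G' : TopCat.Sheaf (Type u) (TopCat.of X)) (e : ShB.Iso (ShB.restrict B G.presheaf) F)
      (e' : ShB.Iso (ShB.restrict B G'.presheaf) F),
      ∃! φ : G ⟶ G', IsIso φ ∧ ∀ (U : B) (s : G.presheaf.obj (Opposite.op (U : TopologicalSpace.Opens X))),
        e'.hom.app U (φ.1.app (Opposite.op (U : TopologicalSpace.Opens X)) s) = e.hom.app U s := by
  refine ⟨⟨ext hB F, ⟨extIso hB F hF⟩⟩, ?_⟩
  intro G G' e e'
  refine ⟨phi G G' e e' hB, ⟨?_, ?_⟩, ?_⟩
  · apply TopCat.Sheaf.isIso_iff_isIso_basis (isBasis_range hB)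
    intro U
    rw [isIso_iff_bijective]
    have hφ : ∀ s, (phi G G' e e' hB).1.app (op (U : Opens X)) s =
        e'.inv.app U (e.hom.app U s) := phi_app G G' e e' hB U
    constructor
    · intro s t hst
      have h1 : e'.inv.app U (e.hom.app U s) = e'.inv.app U (e.hom.app U t) := by
        rw [← hφ s, ← hφ t]; exact hst
      have h2 := congrArg (e'.hom.app U) h1
      rw [e'.inv_hom, e'.inv_hom] at h2
      have h3 := congrArg (e.inv.app U) h2
      rw [e.hom_inv, e.hom_inv] at h3
      exact h3
    · intro t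
      refine ⟨e.inv.app U (e'.hom.app U t), ?_⟩
      have := hφ (e.inv.app U (e'.hom.app U t))
      rw [e.inv_hom, e'.hom_inv] at this
      exact this
  · intro U s
    rw [phi_app, e'.inv_hom]
  · rintro ψ ⟨-, hψ⟩
    apply CategoryTheory.Sheaf.hom_ext
    apply TopCat.Sheaf.hom_ext G.presheaf G' (isBasis_range hB)
    intro U
    ext s
    have h1 := hψ U s
    have h2 := congrArg (e'.inv.app U) h1
    rw [e'.hom_inv] at h2
    exact h2.trans (phi_app G G' e e' hB U s).symm

/-- Let X be a topological space, ℬ a basis for its topology and F a sheaf of sets on ℬ. There is a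
sheaf of sets F^ext on X together with an isomorphism of presheaves on ℬ between the restriction of
F^ext to ℬ and F; and it is unique: given two sheaves G, G′ on X with such isomorphisms e, e′, there
is a unique isomorphism G ≅ G′ whose restriction to the members of ℬ is compatible with e and e′. -/
theorem result {X : Type u} [TopologicalSpace X] {B : Set (TopologicalSpace.Opens X)}
    (hB : TopologicalSpace.Opens.IsBasis B) (F : ShB.Pre B) (hF : ShB.IsSheaf F) :
    (∃ G : TopCat.Sheaf (Type u) (TopCat.of X), Nonempty (ShB.Iso (ShB.restrict B G.presheaf) F)) ∧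
    ∀ (G G' : TopCat.Sheaf (Type u) (TopCat.of X)) (e : ShB.Iso (ShB.restrict B G.presheaf) F)
      (e' : ShB.Iso (ShB.restrict B G'.presheaf) F),
      ∃! φ : G ⟶ G', IsIso φ ∧ ∀ (U : B) (s : G.presheaf.obj (Opposite.op (U : TopologicalSpace.Opens X))),
        e'.hom.app U (φ.1.app (Opposite.op (U : TopologicalSpace.Opens X)) s) = e.hom.app U s := by
  exact main hB F hF

end Groth.Agent.S7588
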