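import Groth.Statements.S7591
import Mathlib
import Groth.Agent.Lib.Helper3.FinSepConn
import Groth.Agent.Lib.Helper3.ConnPreimage

set_option autoImplicit false
universe u
open CategoryTheory CategoryTheory.Limits AlgebraicGeometry
open Variety

namespace Groth.Agent.S7591

/-- For a scheme X over a field k, geometric connectedness of X over k holds exactly when, for each
finite separable extension field k' of k, the base change X_{k'} is a connected (so nonempty)
scheme. -/
theorem result (k : Type u) [Field k] (X : Scheme.{u}) [X.Over (Spec (CommRingCat.of k))] :
    GeometricallyConnected (X ↘ (Spec (CommRingCat.of k))) ↔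
      ∀ (k' : Type u) [Field k'] [Algebra k k'] [FiniteDimensional k k'] [Algebra.IsSeparable k k'],
        ConnectedSpace ↥(Curv2.bc k X k') := by
  rw [AlgebraicGeometry.geometricallyConnected_iff,
    geometrically_iff_of_commRing_of_isClosedUnderIsomorphisms]
  constructor
  · intro h k' _ _ _ _
    exact h k'
  · intro h K _ _
    have hKs : ConnectedSpace ↥(Limits.pullback (X ↘ Spec (CommRingCat.of k))
        (Spec.map (CommRingCat.ofHom (algebraMap k (SeparableClosure k))))) :=
      Groth.Agent.Lib.helper3.FinSepConn.connectedSpace_of_forall_finite _ (SeparableClosure k)
        (fun L hL => by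
          have : Algebra.IsSeparable k L :=
            Algebra.isSeparable_tower_bot_of_isSeparable k L (SeparableClosure k)
          exact h L)
    have h1 := Groth.Agent.Lib.helper3.ConnPreimage.isConnected_preimage_of_sepClosed
      (X ↘ Spec (CommRingCat.of k)) (SeparableClosure k) (C := Set.univ)
      (by rw [Set.preimage_univ]; exact isConnected_univ) K
    rw [Set.preimage_univ] at h1
    exact connectedSpace_iff_univ.mpr h1

end Groth.Agent.S7591
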