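import Groth.Statements.S7593
import Mathlib
import Groth.Agent.Lib.Helper3.GalAct
import Groth.Agent.Lib.Helper3.ConnPreimage

set_option autoImplicit false
universe u
open CategoryTheory CategoryTheory.Limits AlgebraicGeometry
open Variety

namespace Groth.Agent.S7593

/-- Let k̄ be a separable algebraic closure of a field k, X a scheme over k and t a point of X_{k̄} with
image x in X. The connected component of t is mapped onto itself by the action of every
k-automorphism of k̄ if and only if it equals the full inverse image of the connected component T of
x in X and T is geometrically connected over k (the inverse image of T in X_K is connected for every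
extension field K of k). -/
theorem result (k : Type u) [Field k] (X : Scheme.{u}) [X.Over (Spec (CommRingCat.of k))] (t : ↥(Curv2.bc k X (SeparableClosure k))) :
    (∀ σ : SeparableClosure k ≃ₐ[k] SeparableClosure k,
        (Curv2.galAct k X (SeparableClosure k) σ).base '' connectedComponent t = connectedComponent t) ↔
      ((Curv2.bcFst k X (SeparableClosure k)).base ⁻¹' connectedComponent (Curv2.bcFst k X (SeparableClosure k) t) = connectedComponent t ∧
        ∀ (K : Type u) [Field K] [Algebra k K],
          _root_.IsConnected ((Curv2.bcFst k X K).base ⁻¹' connectedComponent (Curv2.bcFst k X (SeparableClosure k) t))) := by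
  have hnorm : Normal k (SeparableClosure k) := inferInstance
  have hstab : ∀ (T : Set X) (σ : SeparableClosure k ≃ₐ[k] SeparableClosure k),
      (Curv2.galAct k X (SeparableClosure k) σ).base ''
        ((Curv2.bcFst k X (SeparableClosure k)).base ⁻¹' T) =
        (Curv2.bcFst k X (SeparableClosure k)).base ⁻¹' T := by
    intro T σ
    ext y
    constructor
    · rintro ⟨z, hz, rfl⟩
      change (Curv2.bcFst k X (SeparableClosure k)) _ ∈ T
      rw [Groth.Agent.Lib.helper3.GalAct.galAct_fst_apply]
      exact hz
    · intro hy
      refine ⟨Curv2.galAct k X (SeparableClosure k) σ.symm y, ?_,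
        Groth.Agent.Lib.helper3.GalAct.galAct_apply_symm k X (SeparableClosure k) σ y⟩
      change (Curv2.bcFst k X (SeparableClosure k)) _ ∈ T
      rw [Groth.Agent.Lib.helper3.GalAct.galAct_fst_apply]
      exact hy
  constructor
  · intro hinv
    have hsub : connectedComponent t ⊆ (Curv2.bcFst k X (SeparableClosure k)).base ⁻¹'
        connectedComponent (Curv2.bcFst k X (SeparableClosure k) t) := by
      intro z hz
      exact (isPreconnected_connectedComponent.image _
        (Curv2.bcFst k X (SeparableClosure k)).continuous.continuousOn).subset_connectedComponent
        ⟨t, mem_connectedComponent, rfl⟩ ⟨z, hz, rfl⟩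
    have hfib : (Curv2.bcFst k X (SeparableClosure k)).base ⁻¹'
        {Curv2.bcFst k X (SeparableClosure k) t} ⊆ connectedComponent t := by
      intro y hy
      obtain ⟨σ, hσ⟩ := Groth.Agent.Lib.helper3.GalAct.exists_galAct_eq k X (SeparableClosure k)
        t y hy.symm
      rw [← hinv σ]
      exact ⟨t, mem_connectedComponent, hσ⟩
    have hconn := Groth.Agent.Lib.helper3.ConnPreimage.isConnected_preimage_of_isAlgebraic
      (X ↘ Spec (CommRingCat.of k)) (SeparableClosure k)
      (isConnected_connectedComponent (x := Curv2.bcFst k X (SeparableClosure k) t))
      isPreconnected_connectedComponent hsub mem_connectedComponent hfib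
    refine ⟨Set.Subset.antisymm ?_ hsub, fun K _ _ => ?_⟩
    · exact hconn.isPreconnected.subset_connectedComponent
        (show t ∈ _ from mem_connectedComponent (x := Curv2.bcFst k X (SeparableClosure k) t))
    · exact Groth.Agent.Lib.helper3.ConnPreimage.isConnected_preimage_of_sepClosed
        (X ↘ Spec (CommRingCat.of k)) (SeparableClosure k) hconn K
  · rintro ⟨h1, -⟩ σ
    rw [← h1]
    exact hstab _ σ

end Groth.Agent.S7593
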