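import Groth.Statements.S7596

set_option autoImplicit false
universe u
open CategoryTheory CategoryTheory.Limits AlgebraicGeometry
open Variety

namespace Groth.Agent.S7596

section Aux

variable (k : Type u) [Field k] (X : Scheme.{u}) [X.Over (Spec (CommRingCat.of k))]

/-- `Spec κ(x) ⟶ X ⟶ Spec k` is `Spec` of `Curv2.resMap`. -/
theorem fromSpecResidueField_comp (x : X) :
    X.fromSpecResidueField x ≫ (X ↘ Spec (CommRingCat.of k)) =
      Spec.map (CommRingCat.ofHom (Curv2.resMap k X x)) := by
  apply ext_of_isAffine
  have h1 : (Spec.map (CommRingCat.ofHom (Curv2.resMap k X x))).appTop =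
      (Scheme.ΓSpecIso (CommRingCat.of k)).hom ≫ CommRingCat.ofHom (Curv2.resMap k X x) ≫
        (Scheme.ΓSpecIso (X.residueField x)).inv := by
    rw [← Category.assoc, Iso.eq_comp_inv]
    exact Scheme.ΓSpecIso_naturality (CommRingCat.ofHom (Curv2.resMap k X x))
  have h2 : CommRingCat.ofHom (Curv2.resMap k X x) =
      (Scheme.ΓSpecIso (CommRingCat.of k)).inv ≫ (X ↘ Spec (CommRingCat.of k)).appTop ≫
        X.presheaf.germ ⊤ x trivial ≫ X.residue x := rfl
  have h3 : (X.fromSpecResidueField x).appTop =
      X.presheaf.germ ⊤ x trivial ≫ X.residue x ≫ (Scheme.ΓSpecIso (X.residueField x)).inv := by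
    unfold Scheme.fromSpecResidueField
    rw [Scheme.Hom.comp_appTop, Scheme.fromSpecStalk_appTop]
    have h4 : (Spec (X.presheaf.stalk x)).presheaf.map (homOfLE (le_top : (⊤ : (Spec (X.presheaf.stalk x)).Opens) ≤ ⊤)).op = 𝟙 _ := by
      rw [← (Spec (X.presheaf.stalk x)).presheaf.map_id]; rfl
    rw [h4, Category.comp_id]
    exact congrArg (X.presheaf.germ ⊤ x trivial ≫ ·)
      (Scheme.ΓSpecIso_inv_naturality (X.residue x)).symm
  rw [Scheme.Hom.comp_appTop, h1, h2, h3]
  simp only [Category.assoc, Iso.hom_inv_id_assoc]

theorem subsingleton_fiber (K : Type u) [Field K] [Algebra k K] (x : X)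
    (hx : Function.Surjective (Curv2.resMap k X x)) :
    Subsingleton ((pullback.fst (X ↘ Spec (CommRingCat.of k))
      (Spec.map (CommRingCat.ofHom (algebraMap k K)))).fiber x) := by
  set fX := X ↘ Spec (CommRingCat.of k)
  set g := Spec.map (CommRingCat.ofHom (algebraMap k K))
  letI : Algebra k (X.residueField x) := (Curv2.resMap k X x).toAlgebra
  -- fibre ≅ pullback (i ≫ fX) g
  let e1 : (pullback.fst fX g).fiber x ≅ pullback (X.fromSpecResidueField x ≫ fX) g :=
    pullbackSymmetry _ _ ≪≫ pullbackRightPullbackFstIso fX g (X.fromSpecResidueField x)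
  have h0 : X.fromSpecResidueField x ≫ fX =
      Spec.map (CommRingCat.ofHom (algebraMap k (X.residueField x))) :=
    fromSpecResidueField_comp k X x
  let e2 : pullback (X.fromSpecResidueField x ≫ fX) g ≅
      Spec (CommRingCat.of (TensorProduct k (X.residueField x) K)) :=
    pullback.congrHom h0 rfl ≪≫ pullbackSpecIso k (X.residueField x) K
  have hsurj : Function.Surjective
      (Algebra.TensorProduct.includeRight (R := k) (A := X.residueField x) (B := K)) := by
    intro z
    induction z using TensorProduct.induction_on with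
    | zero => exact ⟨0, map_zero _⟩
    | tmul a b =>
      obtain ⟨c, rfl⟩ := hx a
      refine ⟨c • b, ?_⟩
      show (1 : X.residueField x) ⊗ₜ[k] (c • b) = (algebraMap k (X.residueField x) c) ⊗ₜ[k] b
      rw [TensorProduct.tmul_smul, TensorProduct.smul_tmul', Algebra.smul_def, mul_one]
    | add a b ha hb =>
      obtain ⟨a', rfl⟩ := ha
      obtain ⟨b', rfl⟩ := hb
      exact ⟨a' + b', map_add _ _ _⟩
  haveI : Subsingleton (PrimeSpectrum (TensorProduct k (X.residueField x) K)) := by
    refine ⟨fun p q => ?_⟩
    have hinj := PrimeSpectrum.comap_injective_of_surjective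
      (Algebra.TensorProduct.includeRight (R := k) (A := X.residueField x) (B := K)).toRingHom hsurj
    exact hinj (Subsingleton.elim _ _)
  haveI : Subsingleton (Spec (CommRingCat.of (TensorProduct k (X.residueField x) K))) :=
    inferInstanceAs (Subsingleton (PrimeSpectrum (TensorProduct k (X.residueField x) K)))
  exact (e1 ≪≫ e2).hom.homeomorph.subsingleton

end Aux


/-- Let X be an irreducible scheme over a field k whose k-rational points (points x at which k → κ(x) is
onto) form a dense subset. Then X is geometrically irreducible over k. -/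
theorem result (k : Type u) [Field k] (X : Scheme.{u}) [X.Over (Spec (CommRingCat.of k))] [IrreducibleSpace ↥X]
    (hd : Dense {x : ↥X | Function.Surjective (Curv2.resMap k X x)}) :
    GeometricallyIrreducible (X ↘ (Spec (CommRingCat.of k))) := by
  refine ⟨geometrically_iff_of_commRing_of_isClosedUnderIsomorphisms.mpr fun K _ _ => ?_⟩
  set p := pullback.fst (X ↘ Spec (CommRingCat.of k))
    (Spec.map (CommRingCat.ofHom (algebraMap k K))) with hp
  haveI : Surjective (Spec.map (CommRingCat.ofHom (algebraMap k K))) := by
    constructor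
    intro y
    exact ⟨Classical.arbitrary _, Subsingleton.elim (α := PrimeSpectrum k) _ _⟩
  haveI : Surjective p := inferInstance
  have hopen : IsOpenMap p := p.isOpenMap
  have hpre : IsPreirreducible (p ⁻¹' (Set.univ : Set X)) := by
    refine (PreirreducibleSpace.isPreirreducible_univ (X := X)).preimage_of_dense_isPreirreducible_fiber
      p hopen ?_
    intro x _
    have : {x : ↥X | Function.Surjective (Curv2.resMap k X x)} ⊆
        Set.univ ∩ {x | IsPreirreducible (p ⁻¹' {x})} := by
      intro x hx
      refine ⟨trivial, ?_⟩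
      haveI := subsingleton_fiber k X K x hx
      have : (p ⁻¹' {x}).Subsingleton := by
        intro a ha b hb
        have := Subsingleton.elim ((p.fiberHomeo x).symm ⟨a, ha⟩) ((p.fiberHomeo x).symm ⟨b, hb⟩)
        have h2 := (p.fiberHomeo x).symm.injective this
        exact congrArg Subtype.val h2
      exact this.isPreirreducible
    exact closure_mono this (hd x)
  rw [Set.preimage_univ] at hpre
  haveI : Nonempty ↥(pullback (X ↘ Spec (CommRingCat.of k))
      (Spec.map (CommRingCat.ofHom (algebraMap k K)))) := by
    obtain ⟨x⟩ := (inferInstance : Nonempty X)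
    obtain ⟨y, _⟩ := p.surjective x
    exact ⟨y⟩
  exact { isPreirreducible_univ := hpre, toNonempty := this }

end Groth.Agent.S7596
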