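import Groth.Statements.S7597
import Mathlib
import Groth.Agent.Lib.Helper3.GalAct
import Groth.Agent.Lib.Helper3.IrrPreimage
import Groth.Agent.Lib.Helper3.IrrCompImage

set_option autoImplicit false
universe u
open CategoryTheory CategoryTheory.Limits AlgebraicGeometry
open Variety

namespace Groth.Agent.S7597

/-- Let k̄ be a separable algebraic closure of a field k, X a scheme over k and Z an irreducible
component of X_{k̄}. Then Z is mapped onto itself by the action of every k-automorphism of k̄ if and
only if Z is the full inverse image of some irreducible component T of X which is geometrically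
irreducible over k (the inverse image of T in X_K is irreducible for every extension field K of k). -/
theorem result (k : Type u) [Field k] (X : Scheme.{u}) [X.Over (Spec (CommRingCat.of k))]
    (Z : Set ↥(Curv2.bc k X (SeparableClosure k))) (hZ : Z ∈ irreducibleComponents ↥(Curv2.bc k X (SeparableClosure k))) :
    (∀ σ : SeparableClosure k ≃ₐ[k] SeparableClosure k, (Curv2.galAct k X (SeparableClosure k) σ).base '' Z = Z) ↔
      ∃ T ∈ irreducibleComponents ↥X, (Curv2.bcFst k X (SeparableClosure k)).base ⁻¹' T = Z ∧
        ∀ (K : Type u) [Field K] [Algebra k K], IsIrreducible ((Curv2.bcFst k X K).base ⁻¹' T) := by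
  have hnorm : Normal k (SeparableClosure k) := inferInstance
  constructor
  · intro hinv
    have hT : (Curv2.bcFst k X (SeparableClosure k)).base '' Z ∈ irreducibleComponents ↥X :=
      Groth.Agent.Lib.helper3.IrrCompImage.image_mem_irreducibleComponents
        (X ↘ (Spec (CommRingCat.of k))) (SeparableClosure k) hZ
    have hpre := Groth.Agent.Lib.helper3.GalAct.preimage_image_eq_of_invariant k X
      (SeparableClosure k) Z hinv
    refine ⟨_, hT, hpre, fun K _ _ => ?_⟩
    obtain ⟨η, hη⟩ := QuasiSober.sober hT.1 (isClosed_of_mem_irreducibleComponents _ hT)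
    refine Groth.Agent.Lib.helper3.IrrPreimage.isIrreducible_preimage_of_sepClosure
      (X ↘ (Spec (CommRingCat.of k))) hη ?_ K
    have h1 : IsIrreducible ((Curv2.bcFst k X (SeparableClosure k)).base ⁻¹'
        ((Curv2.bcFst k X (SeparableClosure k)).base '' Z)) := by
      rw [hpre]
      exact hZ.1
    exact h1
  · rintro ⟨T, -, rfl, -⟩ σ
    ext y
    constructor
    · rintro ⟨z, hz, rfl⟩
      change (Curv2.bcFst k X (SeparableClosure k)) _ ∈ T
      rw [Groth.Agent.Lib.helper3.GalAct.galAct_fst_apply]
      exact hz
    · intro hy
      refine ⟨Curv2.galAct k X (SeparableClosure k) σ.symm y, ?_,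
        Groth.Agent.Lib.helper3.GalAct.galAct_apply_symm k X (SeparableClosure k) σ y⟩
      change (Curv2.bcFst k X (SeparableClosure k)) _ ∈ T
      rw [Groth.Agent.Lib.helper3.GalAct.galAct_fst_apply]
      exact hy

end Groth.Agent.S7597
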