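import Groth.Statements.S7600
import Mathlib
import Groth.Agent.Lib.Helper17.GeomPoint2
import Groth.Agent.S7599

set_option autoImplicit false
set_option linter.style.haveILetI false
universe u
open CategoryTheory CategoryTheory.Limits AlgebraicGeometry
open Variety

namespace Groth.Agent.S7600

theorem hdesc (R S : Type u) [CommRing R] [CommRing S] [IsLocalRing R] [IsLocalRing S]
    [Algebra R S] [Module.FaithfullyFlat R S] (h : IsDomain S ∧ IsIntegrallyClosed S) :
    IsDomain R ∧ IsIntegrallyClosed R := by
  obtain ⟨hd, hic⟩ := h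
  have hinj : Function.Injective (algebraMap R S) := FaithfulSMul.algebraMap_injective R S
  haveI hdp : IsDomain R := hinj.isDomain _
  refine ⟨hdp, ?_⟩
  apply Groth.Agent.Lib.Helper24.EtaleNormal.isIntegrallyClosed_of_nf
  exact Groth.Agent.Lib.Helper24.EtaleNormal.nf_of_faithfullyFlat R S
    (Groth.Agent.Lib.Helper24.EtaleNormal.nf_of_isIntegrallyClosed S)

/-- (2) ⇒ (1): let X be a scheme over a field k, k' an extension field of k and x' a point of X_{k'}
with image x in X. If X_{k'} is geometrically normal at x' over k' (for every extension field k'' of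
k' and every point x'' of (X_{k'})_{k''} over x' the local ring at x'' is an integrally closed
domain), then X is geometrically normal at x over k. -/
theorem result (k : Type u) [Field k] (X : Scheme.{u}) [X.Over (Spec (CommRingCat.of k))] (k' : Type u) [Field k'] [Algebra k k'] (x' : ↥(Curv2.bc k X k'))
    (h : letI : (Curv2.bc k X k').Over (Spec (CommRingCat.of k')) := ⟨Curv2.bcSnd k X k'⟩
      ∀ (k'' : Type u) [Field k''] [Algebra k' k''] (x'' : ↥(Curv2.bc k' (Curv2.bc k X k') k'')), Curv2.bcFst k' (Curv2.bc k X k') k'' x'' = x' →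
          IsDomain ↥((Curv2.bc k' (Curv2.bc k X k') k'').presheaf.stalk x'') ∧ IsIntegrallyClosed ↥((Curv2.bc k' (Curv2.bc k X k') k'').presheaf.stalk x'')) :
    ∀ (K : Type u) [Field K] [Algebra k K] (y : ↥(Curv2.bc k X K)), Curv2.bcFst k X K y = (Curv2.bcFst k X k' x') →
          IsDomain ↥((Curv2.bc k X K).presheaf.stalk y) ∧ IsIntegrallyClosed ↥((Curv2.bc k X K).presheaf.stalk y) := by
  intro K _ _ y hy
  exact (Groth.Agent.S7599.result k X (Curv2.bcFst k X k' x')).1.2
    (fun l _ _ _ _ z hz =>
      Groth.Agent.Lib.helper17.GeomPoint.descend_pi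
        (fun R _ => IsDomain R ∧ IsIntegrallyClosed R) hdesc
        k X k' x' (fun L _ _ _ w hw => h L w hw) l z hz) K y hy

end Groth.Agent.S7600
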