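import Groth.Statements.S7602
import Mathlib
import Groth.Agent.Lib.Helper17.GeomPoint
import Groth.Agent.Lib.Helper24.GeomSep1
import Groth.Agent.S7599

set_option autoImplicit false
set_option linter.style.haveILetI false
universe u
open CategoryTheory CategoryTheory.Limits AlgebraicGeometry
open Variety

namespace Groth.Agent.S7602

attribute [local instance] Curv2.stalkAlgebra

theorem geomRed_of_scheme (k K : Type u) [Field k] [Field K] [Algebra k K]
    [GeometricallyReduced (Spec.map (CommRingCat.ofHom (algebraMap k K)))] :
    Algebra.IsGeometricallyReduced k K := by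
  rw [Algebra.isGeometricallyReduced_field_iff]
  have h1 : AlgebraicGeometry.IsReduced
      (pullback (Spec.map (CommRingCat.ofHom (algebraMap k K)))
        (Spec.map (CommRingCat.ofHom (algebraMap k (AlgebraicClosure k))))) :=
    pullback_of_geometrically (GeometricallyReduced.geometrically_isReduced
      (f := Spec.map (CommRingCat.ofHom (algebraMap k K)))) (AlgebraicClosure k) _
  have h2 : AlgebraicGeometry.IsReduced
      (Spec (CommRingCat.of (TensorProduct k K (AlgebraicClosure k)))) :=
    isReduced_of_isOpenImmersion (pullbackSpecIso k K (AlgebraicClosure k)).inv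
  rw [affine_isReduced_iff] at h2
  exact isReduced_of_injective (Algebra.TensorProduct.comm k (AlgebraicClosure k) K)
    (Algebra.TensorProduct.comm k (AlgebraicClosure k) K).injective

/-- Let X be a normal scheme over a field k and K an extension field of k which is separable over k in
the sense that Spec K → Spec k is geometrically reduced (K ⊗_k k' reduced for every field k' over
k). Then X_K is a normal scheme. -/
theorem result (k : Type u) [Field k] (X : Scheme.{u}) [X.Over (Spec (CommRingCat.of k))] (hX : Pi1.IsNormalScheme X)
    (K : Type u) [Field K] [Algebra k K] [GeometricallyReduced (Spec.map (CommRingCat.ofHom (algebraMap k K)))] :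
    Pi1.IsNormalScheme (Curv2.bc k X K) := by
  intro y
  obtain ⟨hd, hic⟩ := hX (Curv2.bcFst k X K y)
  have hA : ∀ (p : Ideal (X.presheaf.stalk (Curv2.bcFst k X K y))) [p.IsPrime],
      IsDomain (Localization.AtPrime p) ∧ IsIntegrallyClosed (Localization.AtPrime p) := by
    intro p hp
    have hM : p.primeCompl ≤ nonZeroDivisors (X.presheaf.stalk (Curv2.bcFst k X K y)) := by
      intro a ha
      rw [mem_nonZeroDivisors_iff_ne_zero]
      rintro rfl
      exact ha (Ideal.zero_mem _)
    exact ⟨IsLocalization.isDomain_localization hM, isIntegrallyClosed_of_isLocalization _ _ hM⟩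
  haveI : Algebra.IsGeometricallyReduced k K := geomRed_of_scheme k K
  exact Groth.Agent.Lib.helper17.GeomPoint.stalk_of_tensor k X (Curv2.bcFst k X K y)
    (fun R _ => IsDomain R ∧ IsIntegrallyClosed R) Groth.Agent.S7599.hiso K
    (fun q _ => Groth.Agent.Lib.Helper24.GeomSep.isNormal_tensor_of_separable k K _ hA q) y rfl

end Groth.Agent.S7602
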