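import Groth.Statements.S7603
import Mathlib
import Groth.Agent.Lib.Helper13.Normal3

set_option autoImplicit false
universe u
open CategoryTheory CategoryTheory.Limits AlgebraicGeometry
open Variety

namespace Groth.Agent.S7603

/-- normality transfers along isomorphisms -/
theorem isNormalScheme_of_iso {Z W : Scheme.{u}} (e : Z ≅ W) (hW : Pi1.IsNormalScheme W) :
    Pi1.IsNormalScheme Z := by
  intro z
  obtain ⟨h1, h2⟩ := hW (e.hom z)
  let φ : W.presheaf.stalk (e.hom z) ≃+* Z.presheaf.stalk z :=
    (asIso (e.hom.stalkMap z)).commRingCatIsoToRingEquiv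
  exact ⟨MulEquiv.isDomain (W.presheaf.stalk (e.hom z)) φ.symm.toMulEquiv, IsIntegrallyClosed.of_equiv φ⟩

theorem irreducibleSpace_of_connected (Z : Scheme.{u}) [IsLocallyNoetherian Z] [ConnectedSpace Z]
    (hZ : Pi1.IsNormalScheme Z) : IrreducibleSpace Z := by
  have hfin : ∀ U : Z.Opens, IsCompact (U : Set Z) → (irreducibleComponents ↥U).Finite := by
    intro U hU
    haveI : CompactSpace ↥U := isCompact_iff_compactSpace.mp hU
    haveI : CompactSpace ↥(U : Scheme.{u}) := isCompact_iff_compactSpace.mp hU
    haveI : IsNoetherian (U : Scheme.{u}) := {}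
    haveI : TopologicalSpace.NoetherianSpace ↥U :=
      inferInstanceAs (TopologicalSpace.NoetherianSpace ↥(U : Scheme.{u}))
    exact TopologicalSpace.NoetherianSpace.finite_irreducibleComponents
  haveI := Groth.Agent.Lib.helper13.Normal.isIntegral_of_connected hZ hfin
  infer_instance

theorem result' (k : Type u) [Field k] (X : Scheme.{u}) [X.Over (Spec (CommRingCat.of k))] [IsProper (X ↘ (Spec (CommRingCat.of k)))]
    (hX : ∀ (K : Type u) [Field K] [Algebra k K], Pi1.IsNormalScheme (Curv2.bc k X K)) :
    GeometricallyConnected (X ↘ (Spec (CommRingCat.of k))) ↔ GeometricallyIrreducible (X ↘ (Spec (CommRingCat.of k))) := by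
  constructor
  · intro h
    refine ⟨?_⟩
    intro K _ y Z fst snd hpb
    haveI : ConnectedSpace Z := h.geometrically_connectedSpace y fst snd hpb
    let φ : CommRingCat.of k ⟶ CommRingCat.of K := Spec.preimage y
    have hφ : Spec.map φ = y := Spec.map_preimage y
    letI : Algebra k K := φ.hom.toAlgebra
    have hφ' : CommRingCat.ofHom (algebraMap k K) = φ := rfl
    have hpb' : IsPullback fst snd (X ↘ (Spec (CommRingCat.of k)))
        (Spec.map (CommRingCat.ofHom (algebraMap k K))) := by
      rw [hφ', hφ]; exact hpb
    let e : Z ≅ Curv2.bc k X K := hpb'.isoPullback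
    have hZ : Pi1.IsNormalScheme Z := isNormalScheme_of_iso e (hX K)
    haveI : LocallyOfFiniteType snd :=
      MorphismProperty.of_isPullback hpb (inferInstance : LocallyOfFiniteType (X ↘ (Spec (CommRingCat.of k))))
    haveI : IsLocallyNoetherian Z := LocallyOfFiniteType.isLocallyNoetherian snd
    exact irreducibleSpace_of_connected Z hZ
  · intro h
    refine ⟨?_⟩
    intro K _ y Z fst snd hpb
    haveI : IrreducibleSpace Z := h.geometrically_irreducibleSpace y fst snd hpb
    infer_instance



/-- (2) ⇔ (3): let X be a proper scheme over a field k which is geometrically normal (X_K is a normal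
scheme for every extension field K of k). Then X is geometrically connected over k exactly when it
is geometrically irreducible over k. (The published statement lists geometric integrality as a
further equivalent condition; given geometric normality it is equivalent to geometric irreducibility
by a direct argument, so this row omits it.) -/
theorem result (k : Type u) [Field k] (X : Scheme.{u}) [X.Over (Spec (CommRingCat.of k))] [IsProper (X ↘ (Spec (CommRingCat.of k)))]
    (hX : ∀ (K : Type u) [Field K] [Algebra k K], Pi1.IsNormalScheme (Curv2.bc k X K)) :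
    GeometricallyConnected (X ↘ (Spec (CommRingCat.of k))) ↔ GeometricallyIrreducible (X ↘ (Spec (CommRingCat.of k))) := by
  exact Groth.Agent.S7603.result' k X hX

end Groth.Agent.S7603
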