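import Groth.Statements.S7604
import Mathlib
import Groth.Agent.Lib.Helper3.StalkBC2
import Groth.Agent.Lib.Helper3.GeomRed2
import Groth.Agent.S1541

set_option autoImplicit false
universe u
open CategoryTheory CategoryTheory.Limits AlgebraicGeometry
open Variety

namespace Groth.Agent.S7604

open scoped TensorProduct
attribute [local instance] Curv2.stalkAlgebra

/-- Let X and Y be schemes over a field k with Y reduced, and let x be a point of X at which X is
geometrically reduced. Then each point of X ×_k Y mapping to x has a reduced local ring. -/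
theorem result (k : Type u) [Field k] (X : Scheme.{u}) [X.Over (Spec (CommRingCat.of k))] (Y : Scheme.{u}) [Y.Over (Spec (CommRingCat.of k))] [IsReduced Y]
    (x : ↥X) (hx : Curv2.IsGeomReducedAt k X x) (z : ↥(pullback (X ↘ (Spec (CommRingCat.of k))) (Y ↘ (Spec (CommRingCat.of k)))))
    (hz : pullback.fst (X ↘ (Spec (CommRingCat.of k))) (Y ↘ (Spec (CommRingCat.of k))) z = x) :
    _root_.IsReduced ↥((pullback (X ↘ (Spec (CommRingCat.of k))) (Y ↘ (Spec (CommRingCat.of k)))).presheaf.stalk z) := by
  have hj : X.fromSpecStalk x ≫ (X ↘ Spec (CommRingCat.of k)) =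
      Spec.map (CommRingCat.ofHom (algebraMap k (X.presheaf.stalk x))) :=
    Groth.Agent.Lib.helper3.StalkBC2.specMap_stalkMap k X x
  have hgr : Algebra.IsGeometricallyReduced k (X.presheaf.stalk x) :=
    (Groth.Agent.S1541.result k X x).mp hx
  -- `Y ×_k Spec 𝒪_{X,x}` is reduced
  have hred1 : AlgebraicGeometry.IsReduced (pullback (Y ↘ Spec (CommRingCat.of k))
      (Spec.map (CommRingCat.ofHom (algebraMap k (X.presheaf.stalk x))))) := by
    apply Groth.Agent.Lib.helper3.GeomRed.isReduced_pullback_of_forall
    intro A _ _ i _ _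
    have hA : _root_.IsReduced A := Groth.Agent.Lib.helper3.GeomRed.isReduced_of_openImmersion_spec A i
    have h1 : _root_.IsReduced ((X.presheaf.stalk x) ⊗[k] A) := by
      refine Groth.Agent.Lib.helper3.GeomRed.isReduced_tensor_of_forall_field (fun L _ _ _ => ?_) A
      have h2 : _root_.IsReduced (L ⊗[k] (X.presheaf.stalk x)) :=
        Groth.Agent.Lib.helper3.GeomRed.isReduced_tensor_of_isGeometricallyReduced k L _
      exact isReduced_of_injective (Algebra.TensorProduct.comm k (X.presheaf.stalk x) L)
        (Algebra.TensorProduct.comm k (X.presheaf.stalk x) L).injective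
    exact isReduced_of_injective (Algebra.TensorProduct.comm k A (X.presheaf.stalk x))
      (Algebra.TensorProduct.comm k A (X.presheaf.stalk x)).injective
  -- hence so is `Spec 𝒪_{X,x} ×_X (X ×_k Y)`
  have hred2 : AlgebraicGeometry.IsReduced (pullback (X.fromSpecStalk x)
      (pullback.fst (X ↘ (Spec (CommRingCat.of k))) (Y ↘ (Spec (CommRingCat.of k))))) :=
    isReduced_of_isOpenImmersion
      ((pullbackRightPullbackFstIso (X ↘ (Spec (CommRingCat.of k)))
          (Y ↘ (Spec (CommRingCat.of k))) (X.fromSpecStalk x)).hom ≫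
        (pullback.congrHom hj rfl).hom ≫ (pullbackSymmetry _ _).hom)
  obtain ⟨y, rfl⟩ := Groth.Agent.Lib.helper3.StalkBC2.exists_point_of_specializes
    (pullback.fst (X ↘ (Spec (CommRingCat.of k))) (Y ↘ (Spec (CommRingCat.of k)))) x z
    (hz ▸ specializes_rfl)
  have e := Groth.Agent.Lib.helper3.StalkBC2.stalkEquiv
    (pullback.fst (X ↘ (Spec (CommRingCat.of k))) (Y ↘ (Spec (CommRingCat.of k)))) x y
  exact isReduced_of_injective e e.injective

end Groth.Agent.S7604
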