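import Groth.Statements.S7607
import Mathlib
import Groth.Agent.Lib.Helper17.GeomPoint2

set_option autoImplicit false
set_option linter.style.haveILetI false
universe u
open CategoryTheory CategoryTheory.Limits AlgebraicGeometry
open Variety

namespace Groth.Agent.S7607

theorem hdesc (R S : Type u) [CommRing R] [CommRing S] [IsLocalRing R] [IsLocalRing S]
    [Algebra R S] [Module.FaithfullyFlat R S] (h : IsRegularLocalRing S) :
    IsRegularLocalRing R := by
  haveI := h
  haveI : IsRegularRing S :=
    Groth.Agent.Lib.Helper24.SmoothRegularIff.isRegularRing_of_isRegularLocalRing S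
  haveI : IsRegularRing R :=
    Groth.Agent.Lib.Helper24.FormalFibreDescent.isRegularRing_of_faithfullyFlat R S
  exact IsRegularLocalRing.of_isRegularRing_of_isLocalRing R

/-- (2) ⇒ (1): let X be a scheme over a field k, k' a finitely generated field extension of k and x' a
point of X_{k'} with image x in X. If X_{k'} is geometrically regular at x' over k', then X is
geometrically regular at x over k. (The published setting defines geometric regularity only for
locally Noetherian schemes; this row allows any scheme X over k.) -/
theorem result (k : Type u) [Field k] (X : Scheme.{u}) [X.Over (Spec (CommRingCat.of k))] (k' : Type u) [Field k'] [Algebra k k'] (hfg : (⊤ : IntermediateField k k').FG)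
    (x' : ↥(Curv2.bc k X k'))
    (h : @Curv2.IsGeomRegularAt k' _ (Curv2.bc k X k') ⟨Curv2.bcSnd k X k'⟩ x') :
    Curv2.IsGeomRegularAt k X (Curv2.bcFst k X k' x') := by
  have hpi : ∀ (l : Type u) [Field l] [Algebra k l] [FiniteDimensional k l]
      [IsPurelyInseparable k l] (z : ↥(Curv2.bc k X l)),
      Curv2.bcFst k X l z = Curv2.bcFst k X k' x' →
      IsRegularLocalRing ↥((Curv2.bc k X l).presheaf.stalk z) := by
    intro l _ _ _ _ z hz
    exact Groth.Agent.Lib.helper17.GeomPoint.descend_pi (fun R _ => IsRegularLocalRing R) hdesc
      k X k' x' (fun L _ _ _ w hw => h L (IntermediateField.fg_top k' L) w hw) l z hz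
  -- the local ring at `x` is regular, in particular Noetherian
  haveI : Surjective (Curv2.bcFst k X k) :=
    MorphismProperty.of_isPullback (P := @Surjective)
      (IsPullback.of_hasPullback (X ↘ Spec (CommRingCat.of k))
        (Spec.map (CommRingCat.ofHom (algebraMap k k)))).flip
      (Groth.Agent.Lib.helper17.GeomPoint.surjective_SpecMap k k)
  haveI : Flat (Curv2.bcFst k X k) :=
    MorphismProperty.of_isPullback (P := @Flat)
      (IsPullback.of_hasPullback (X ↘ Spec (CommRingCat.of k))
        (Spec.map (CommRingCat.ofHom (algebraMap k k)))).flip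
      (Groth.Agent.Lib.helper17.GeomPoint.flat_SpecMap k k)
  obtain ⟨z, hz⟩ := (Curv2.bcFst k X k).surjective (Curv2.bcFst k X k' x')
  have hreg : IsRegularLocalRing ↥(X.presheaf.stalk (Curv2.bcFst k X k' x')) := by
    have := Groth.Agent.Lib.helper17.GeomPoint.stalk_descent (fun R _ => IsRegularLocalRing R)
      hdesc (Curv2.bcFst k X k) z (hpi k z hz)
    rwa [hz] at this
  haveI : IsNoetherianRing ↥(X.presheaf.stalk (Curv2.bcFst k X k' x')) := by
    haveI := hreg
    infer_instance
  exact Groth.Agent.Lib.helper17.GeomPoint.geomRegularAt_of_pi k X (Curv2.bcFst k X k' x')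
    (fun l _ _ _ _ z hz => hpi l z hz)

end Groth.Agent.S7607
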