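import Groth.Statements.S7608
import Mathlib
import Groth.Agent.Lib.Helper17.FieldBC

set_option autoImplicit false
set_option linter.style.haveILetI false
universe u
open CategoryTheory CategoryTheory.Limits AlgebraicGeometry
open Variety

namespace Groth.Agent.S7608

/-- Let X be a locally Noetherian scheme over a field k, k' a finitely generated field extension of k
and x' a point of X_{k'} with image x in X. Then the local ring O_{X, x} is Cohen-Macaulay if and
only if O_{X_{k'}, x'} is Cohen-Macaulay. -/
theorem result (k : Type u) [Field k] (X : Scheme.{u}) [X.Over (Spec (CommRingCat.of k))] [IsLocallyNoetherian X] (k' : Type u) [Field k'] [Algebra k k']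
    (hfg : (⊤ : IntermediateField k k').FG) (x' : ↥(Curv2.bc k X k')) :
    LocCoh.IsCohenMacaulayLocalRing ↥(X.presheaf.stalk (Curv2.bcFst k X k' x')) ↔
      LocCoh.IsCohenMacaulayLocalRing ↥((Curv2.bc k X k').presheaf.stalk x') := by
  have hc : IsPullback (Curv2.bcFst k X k') (Curv2.bcSnd k X k') (X ↘ Spec (CommRingCat.of k))
      (Spec.map (CommRingCat.ofHom (algebraMap k k'))) := IsPullback.of_hasPullback _ _
  have hφ : (CommRingCat.ofHom (algebraMap k k')).hom.EssFiniteType := by
    have : Algebra.EssFiniteType k k' := IntermediateField.fg_top_iff.mp hfg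
    exact RingHom.essFiniteType_algebraMap.mpr this
  let ψ : CommRingCat.of k ⟶ X.residueField (Curv2.bcFst k X k' x') :=
    Spec.preimage (X.fromSpecResidueField (Curv2.bcFst k X k' x') ≫ (X ↘ Spec (CommRingCat.of k)))
  have hψ : X.fromSpecResidueField (Curv2.bcFst k X k' x') ≫ (X ↘ Spec (CommRingCat.of k)) =
      Spec.map ψ := (Spec.map_preimage _).symm
  haveI : IsNoetherianRing (X.presheaf.stalk (Curv2.bcFst k X k' x')) := inferInstance
  haveI : IsNoetherianRing ((Curv2.bc k X k').presheaf.stalk x') :=
    Groth.Agent.Lib.helper17.FieldBC.isNoetherianRing_stalk hc x' hφ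
  exact (Groth.Agent.Lib.helper17.FieldBC.cm_stalk_iff hc x' (Field.toIsField k)
    (Field.toIsField k') ψ hψ (Or.inr hφ)).symm

end Groth.Agent.S7608
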