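import Groth.Statements.S7613
import Groth.Agent.S1537
import Groth.Agent.Lib.Helper14.AbVarComm

set_option autoImplicit false
universe u
open CategoryTheory CategoryTheory.Limits AlgebraicGeometry
open Variety

namespace Groth.Agent.S7613

/-- Let X be a variety over a field k (integral, separated and of finite type over k) with a k-rational
point x (k → κ(x) onto) such that X → Spec k is smooth at x. Then every base change of X to an
extension field of k is an integral scheme (X is geometrically integral over k). -/
theorem result (k : Type u) [Field k] (X : Scheme.{u}) [X.Over (Spec (CommRingCat.of k))] [IsIntegral X] [IsSeparated (X ↘ (Spec (CommRingCat.of k)))]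
    [LocallyOfFiniteType (X ↘ (Spec (CommRingCat.of k)))] [QuasiCompact (X ↘ (Spec (CommRingCat.of k)))]
    (x : ↥X) (hx : Function.Surjective (Curv2.resMap k X x)) (hsm : x ∈ (X ↘ (Spec (CommRingCat.of k))).smoothLocus) :
    GeometricallyIntegral (X ↘ (Spec (CommRingCat.of k))) := by
  classical
  let f : X ⟶ Spec (CommRingCat.of k) := X ↘ Spec (CommRingCat.of k)
  haveI : IsLocallyNoetherian X := LocallyOfFiniteType.isLocallyNoetherian f
  haveI : CompactSpace X := (quasiCompact_iff_compactSpace f).mp inferInstance
  haveI : IsNoetherian X := {}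
  let U : X.Opens := f.smoothLocus
  have hxU : x ∈ U := hsm
  -- `U` is smooth over `k`
  haveI hUsm : Smooth (U.ι ≫ f) := by
    rw [← Scheme.Hom.smoothLocus_eq_top_iff, ← Scheme.Hom.preimage_smoothLocus_eq]
    exact Scheme.Opens.ι_preimage_self U
  haveI : Nonempty U := ⟨⟨x, hxU⟩⟩
  haveI : IsIntegral (U : Scheme.{u}) := inferInstance
  haveI : ConnectedSpace (U : Scheme.{u}) := inferInstance
  -- `U` is geometrically connected (it has a rational point)
  have hUgc : GeometricallyConnected (U.ι ≫ f) := by
    letI : (U : Scheme.{u}).Over (Spec (CommRingCat.of k)) := ⟨U.ι ≫ f⟩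
    refine Groth.Agent.S1537.result k U ⟨x, hxU⟩ ?_
    intro a _
    have h1 := Groth.Agent.Lib.helper3.ResMap.specMap_resMap k (U : Scheme.{u}) ⟨x, hxU⟩
    have h2 := Groth.Agent.Lib.helper3.ResMap.specMap_resMap k X x
    have h3 : Spec.map (U.ι.residueFieldMap ⟨x, hxU⟩) ≫ X.fromSpecResidueField (U.ι ⟨x, hxU⟩) =
        (U : Scheme.{u}).fromSpecResidueField ⟨x, hxU⟩ ≫ U.ι :=
      Scheme.Hom.SpecMap_residueFieldMap_fromSpecResidueField _ _
    have h4 : CommRingCat.ofHom (Curv2.resMap k (U : Scheme.{u}) ⟨x, hxU⟩) =
        CommRingCat.ofHom (Curv2.resMap k X x) ≫ U.ι.residueFieldMap ⟨x, hxU⟩ := by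
      apply Spec.map_injective
      rw [h1, Spec.map_comp, h2]
      change _ ≫ U.ι ≫ f = _
      rw [← Category.assoc, ← h3, Category.assoc]
      rfl
    haveI : IsIso (U.ι.residueFieldMap ⟨x, hxU⟩) := inferInstance
    obtain ⟨b, hb⟩ := ((ConcreteCategory.isIso_iff_bijective _).mp this).2 a
    obtain ⟨c, hc⟩ := hx b
    refine ⟨c, ?_⟩
    have := congr($h4 c)
    rw [← hb]
    refine this.trans ?_
    change (U.ι.residueFieldMap ⟨x, hxU⟩) (Curv2.resMap k X x c) = _
    rw [hc]
  haveI : ObjectProperty.IsClosedUnderIsomorphisms (IsIntegral : Scheme.{u} → Prop) :=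
    ⟨fun {A B} e hA => by
      haveI : IsIntegral A := hA
      haveI : Nonempty B := ⟨e.hom (Nonempty.some inferInstance)⟩
      exact isIntegral_of_isOpenImmersion e.inv⟩
  rw [geometricallyIntegral_iff, geometrically_iff_of_commRing_of_isClosedUnderIsomorphisms]
  intro K _ _
  let g : Spec (CommRingCat.of K) ⟶ Spec (CommRingCat.of k) :=
    Spec.map (CommRingCat.ofHom (algebraMap k K))
  change IsIntegral (pullback f g)
  -- the base change of `U` is integral
  haveI : TopologicalSpace.NoetherianSpace X := inferInstance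
  haveI : TopologicalSpace.NoetherianSpace (U : Scheme.{u}) :=
    inferInstanceAs (TopologicalSpace.NoetherianSpace ((U : Set X) : Type u))
  haveI : QuasiCompact (U.ι ≫ f) := inferInstance
  haveI : Smooth (pullback.snd (U.ι ≫ f) g) := inferInstance
  haveI : QuasiCompact (pullback.snd (U.ι ≫ f) g) := inferInstance
  haveI : ConnectedSpace ↑(pullback (U.ι ≫ f) g) :=
    hUgc.geometrically_connectedSpace _ _ _ (IsPullback.of_hasPullback _ _)
  haveI hUK : IsIntegral (pullback (U.ι ≫ f) g) :=
    Groth.Agent.Lib.Helper14.AbVarComm.isIntegral_of_smooth_connected (pullback.snd (U.ι ≫ f) g)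
  -- the open immersion `U_K ⟶ X_K`
  let j : pullback (U.ι ≫ f) g ⟶ pullback f g :=
    pullback.lift (pullback.fst (U.ι ≫ f) g ≫ U.ι) (pullback.snd (U.ι ≫ f) g)
      (by rw [Category.assoc, pullback.condition])
  have hj1 : j ≫ pullback.fst f g = pullback.fst (U.ι ≫ f) g ≫ U.ι := pullback.lift_fst _ _ _
  have hj2 : j ≫ pullback.snd f g = pullback.snd (U.ι ≫ f) g := pullback.lift_snd _ _ _
  have hpb : IsPullback j (pullback.fst (U.ι ≫ f) g) (pullback.fst f g) U.ι := by
    refine IsPullback.of_right ?_ hj1 (IsPullback.of_hasPullback f g).flip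
    rw [hj2]
    exact (IsPullback.of_hasPullback (U.ι ≫ f) g).flip
  haveI : IsDominant U.ι := Opens.isDominant_ι (U.2.dense ⟨x, hxU⟩)
  haveI : IsSchemeTheoreticallyDominant U.ι := IsSchemeTheoreticallyDominant.of_isDominant U.ι
  haveI : QuasiCompact U.ι := inferInstance
  haveI : Flat g := inferInstance
  haveI : Flat (pullback.fst f g) := inferInstance
  haveI : IsSchemeTheoreticallyDominant j := IsSchemeTheoreticallyDominant.of_isPullback hpb.flip
  haveI : QuasiCompact j := MorphismProperty.of_isPullback hpb.flip inferInstance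
  haveI : IsReduced (pullback f g) := IsSchemeTheoreticallyDominant.isReduced j
  haveI : IsDominant j := inferInstance
  haveI : IrreducibleSpace ↑(pullback f g) := by
    rw [irreducibleSpace_def]
    have h1 : IsIrreducible (Set.range j) := by
      rw [← Set.image_univ]
      exact (IrreducibleSpace.isIrreducible_univ _).image _ j.continuous.continuousOn
    have h2 : closure (Set.range j) = Set.univ := j.denseRange.closure_range
    have := h1.closure
    rwa [h2] at this
  exact isIntegral_of_irreducibleSpace_of_isReduced _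

end Groth.Agent.S7613
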