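import Groth.Statements.S7614
import Mathlib

set_option autoImplicit false
set_option linter.style.haveILetI false
universe u
open CategoryTheory CategoryTheory.Limits AlgebraicGeometry
open Variety

namespace Groth.Agent.S7614

theorem appLE_top_top {X Y : Scheme.{u}} (f : X ⟶ Y) (h : (⊤ : X.Opens) ≤ f ⁻¹ᵁ ⊤) :
    f.appLE ⊤ ⊤ h = f.appTop := by
  change f.appLE ⊤ ⊤ h = f.app ⊤
  rw [Scheme.Hom.app_eq_appLE]
  rfl

set_option backward.isDefEq.respectTransparency.types false in
/-- fpqc descent of quasi-affineness along a flat surjective base change of affine bases -/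
theorem isQuasiAffine_of_isPullback {X Y : Scheme.{u}} {R R' : CommRingCat.{u}}
    (f : X ⟶ Spec R) (φ : R ⟶ R') [Flat (Spec.map φ)] [Surjective (Spec.map φ)]
    (g : Y ⟶ X) (iY : Y ⟶ Spec R') (H : IsPullback g iY f (Spec.map φ)) [Y.IsQuasiAffine] :
    X.IsQuasiAffine := by
  haveI : Surjective g := MorphismProperty.of_isPullback (P := @Surjective) H.flip inferInstance
  haveI : Flat g := MorphismProperty.of_isPullback (P := @Flat) H.flip inferInstance
  haveI : IsAffineHom g := MorphismProperty.of_isPullback (P := @IsAffineHom) H.flip inferInstance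
  haveI : CompactSpace X := g.surjective.compactSpace g.continuous
  haveI : QuasiSeparatedSpace X := by
    rw [quasiSeparatedSpace_iff_forall_affineOpens]
    intro U V
    have hU : IsAffineOpen (g ⁻¹ᵁ U.1) := U.2.preimage g
    have hV : IsAffineOpen (g ⁻¹ᵁ V.1) := V.2.preimage g
    have h1 : IsCompact ((g ⁻¹ᵁ U.1 : Set Y) ∩ (g ⁻¹ᵁ V.1 : Set Y)) :=
      QuasiSeparatedSpace.inter_isCompact _ _ (g ⁻¹ᵁ U.1).2 hU.isCompact (g ⁻¹ᵁ V.1).2 hV.isCompact
    have h2 := h1.image g.continuous
    have h3 : g '' ((g ⁻¹ᵁ U.1 : Set Y) ∩ (g ⁻¹ᵁ V.1 : Set Y)) = (U : Set X) ∩ (V : Set X) := by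
      change g '' (g ⁻¹' (U : Set X) ∩ g ⁻¹' (V : Set X)) = _
      rw [← Set.preimage_inter, Set.image_preimage_eq _ g.surjective]
    rwa [h3] at h2
  -- flat base change of global sections
  have hUY : (⊤ : Y.Opens) = g ⁻¹ᵁ ⊤ ⊓ iY ⁻¹ᵁ ⊤ := by simp
  have hiso := isIso_pushoutSection_of_isQuasiSeparated_of_flat_right H
    (US := ⊤) (UT := ⊤) (UX := ⊤) le_top le_top hUY (isAffineOpen_top _) (isAffineOpen_top _)
    isCompact_univ isQuasiSeparated_univ
  have hpo := (isIso_pushoutSection_iff H le_top le_top hUY).mp hiso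
  rw [appLE_top_top, appLE_top_top, appLE_top_top, appLE_top_top] at hpo
  have hbot := isPullback_SpecMap_of_isPushout _ _ _ _ hpo
  -- the iso square
  have hsq : IsPullback (Spec R').toSpecΓ (Spec.map φ) (Spec.map (Spec.map φ).appTop)
      (Spec R).toSpecΓ :=
    IsPullback.of_horiz_isIso ⟨(Scheme.toSpecΓ_naturality (Spec.map φ)).symm⟩
  have houter := H.flip.paste_horiz hsq
  rw [Scheme.toSpecΓ_naturality iY, Scheme.toSpecΓ_naturality f] at houter
  have htop : IsPullback Y.toSpecΓ g (Spec.map g.appTop) X.toSpecΓ :=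
    IsPullback.of_right houter (Scheme.toSpecΓ_naturality g).symm hbot.flip
  -- the base change morphism is fpqc
  have hQ0 : (@Surjective ⊓ @Flat ⊓ @QuasiCompact : MorphismProperty Scheme.{u})
      (Spec.map (Spec.map φ).appTop) := by
    have h0 : (@Surjective ⊓ @Flat ⊓ @QuasiCompact : MorphismProperty Scheme.{u}) (Spec.map φ) :=
      ⟨⟨inferInstance, inferInstance⟩, inferInstance⟩
    have h1 := (MorphismProperty.cancel_right_of_respectsIso
      (@Surjective ⊓ @Flat ⊓ @QuasiCompact : MorphismProperty Scheme.{u})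
      (Spec.map φ) (Spec R).toSpecΓ).mpr h0
    rw [Scheme.toSpecΓ_naturality] at h1
    exact (MorphismProperty.cancel_left_of_respectsIso
      (@Surjective ⊓ @Flat ⊓ @QuasiCompact : MorphismProperty Scheme.{u}) _ _).mp h1
  have hQ : (@Surjective ⊓ @Flat ⊓ @QuasiCompact : MorphismProperty Scheme.{u})
      (Spec.map g.appTop) :=
    MorphismProperty.of_isPullback hbot.flip hQ0
  have hopen : IsOpenImmersion X.toSpecΓ :=
    MorphismProperty.of_isPullback_of_descendsAlong (P := @IsOpenImmersion)
      (Q := @Surjective ⊓ @Flat ⊓ @QuasiCompact) htop hQ inferInstance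
  exact { toCompactSpace := inferInstance, toIsImmersion := inferInstance }


/-- Let X be a scheme over a field k and K an extension field of k. If X_K is quasi-affine, then X is
quasi-affine. -/
theorem result (k : Type u) [Field k] (X : Scheme.{u}) [X.Over (Spec (CommRingCat.of k))] (K : Type u) [Field K] [Algebra k K]
    [(Curv2.bc k X K).IsQuasiAffine] : X.IsQuasiAffine := by
  haveI : Flat (Spec.map (CommRingCat.ofHom (algebraMap k K))) := by
    rw [HasRingHomProperty.Spec_iff (P := @Flat)]
    exact RingHom.flat_algebraMap_iff.mpr inferInstance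
  haveI : Surjective (Spec.map (CommRingCat.ofHom (algebraMap k K))) := by
    refine ⟨fun x => ?_⟩
    haveI : Subsingleton (Spec (CommRingCat.of k)) :=
      inferInstanceAs (Subsingleton (PrimeSpectrum k))
    haveI : Nonempty (Spec (CommRingCat.of K)) := inferInstanceAs (Nonempty (PrimeSpectrum K))
    exact ⟨Classical.arbitrary _, Subsingleton.elim _ _⟩
  exact isQuasiAffine_of_isPullback (X ↘ Spec (CommRingCat.of k))
    (CommRingCat.ofHom (algebraMap k K)) _ _ (IsPullback.of_hasPullback _ _)

end Groth.Agent.S7614
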