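import Groth.Statements.S7615
import Mathlib
import Groth.Agent.Lib.Helper16.GeomConn

set_option autoImplicit false
universe u
open CategoryTheory CategoryTheory.Limits AlgebraicGeometry
open Variety

namespace Groth.Agent.S7615

open TensorProduct

theorem isPurelyInseparable_of_idem {k R : Type u} [Field k] [Field R] [Algebra k R]
    [Algebra.IsAlgebraic k R]
    (hK : ∀ (K : Type u) [Field K] [Algebra k K], ∀ e : K ⊗[k] R, IsIdempotentElem e → e = 0 ∨ e = 1) :
    IsPurelyInseparable k R := by
  haveI : Algebra.IsIntegral k R := inferInstance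
  haveI : Nonempty (R →+* AlgebraicClosure k) :=
    ⟨(IsAlgClosed.lift : R →ₐ[k] AlgebraicClosure k).toRingHom⟩
  apply IsPurelyInseparable.of_injective_comp_algebraMap k _ (AlgebraicClosure k)
  intro f g hfg
  exact Groth.Agent.Lib.helper16.IdemAlg.ringHom_eq_of_idem hK (AlgebraicClosure k) f g hfg

theorem isPurelyInseparable_of_idem' {k R : Type u} [Field k] [CommRing R] (hR : IsField R) [Algebra k R]
    [Module.Finite k R]
    (hK : ∀ (K : Type u) [Field K] [Algebra k K], ∀ e : K ⊗[k] R, IsIdempotentElem e → e = 0 ∨ e = 1) :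
    IsPurelyInseparable k R := by
  letI := hR.toField
  haveI : Algebra.IsAlgebraic k R := Algebra.IsAlgebraic.of_finite k R
  exact isPurelyInseparable_of_idem hK

theorem isSeparable_of_isReduced' {k R L : Type u} [Field k] [CommRing R] (hR : IsField R) [Algebra k R]
    [Module.Finite k R] [Field L] [Algebra k L] [PerfectField L] [IsReduced (L ⊗[k] R)] :
    Algebra.IsSeparable k R := by
  letI := hR.toField
  haveI : Algebra.IsAlgebraic k R := Algebra.IsAlgebraic.of_finite k R
  exact Groth.Agent.Lib.helper16.IdemAlg.isSeparable_of_isReduced (L := L)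

theorem result' (k : Type u) [Field k] (X : Scheme.{u}) [X.Over (Spec (CommRingCat.of k))] [IsIntegral X] [IsProper (X ↘ (Spec (CommRingCat.of k)))] :
    letI := ((X ↘ (Spec (CommRingCat.of k))).appTop.hom.comp (Scheme.ΓSpecIso (CommRingCat.of k)).inv.hom : k →+* Γ(X, ⊤)).toAlgebra
    IsField ↑Γ(X, ⊤) ∧ Module.Finite k ↑Γ(X, ⊤) ∧
      (GeometricallyReduced (X ↘ (Spec (CommRingCat.of k))) → Algebra.IsSeparable k ↑Γ(X, ⊤)) ∧
      (GeometricallyIrreducible (X ↘ (Spec (CommRingCat.of k))) → IsPurelyInseparable k ↑Γ(X, ⊤)) := by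
  letI : Algebra k Γ(X, ⊤) := ((X ↘ (Spec (CommRingCat.of k))).appTop.hom.comp (Scheme.ΓSpecIso (CommRingCat.of k)).inv.hom : k →+* Γ(X, ⊤)).toAlgebra
  obtain ⟨hF, hfin, -⟩ := Groth.Agent.S7639.result k X
  haveI := hfin
  let iX := X ↘ Spec (CommRingCat.of k)
  refine ⟨hF, hfin, ?_, ?_⟩
  · intro hred
    let K := AlgebraicClosure k
    let f := Spec.map (CommRingCat.ofHom (algebraMap k K))
    have H : IsPullback (pullback.fst iX f) (pullback.snd iX f) iX f := IsPullback.of_hasPullback iX f
    haveI : IsReduced (pullback iX f) :=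
      GeometricallyReduced.geometrically_isReduced (f := iX) f (pullback.fst iX f) (pullback.snd iX f) H
    obtain ⟨φ⟩ := Groth.Agent.Lib.helper16.GeomConn.exists_ringEquiv k K X iX
    haveI : IsReduced (K ⊗[k] Γ(X, ⊤)) := isReduced_of_injective φ.toRingHom φ.injective
    exact isSeparable_of_isReduced' (L := K) hF
  · intro hirr
    apply isPurelyInseparable_of_idem' hF
    intro K _ _
    let f := Spec.map (CommRingCat.ofHom (algebraMap k K))
    have H : IsPullback (pullback.fst iX f) (pullback.snd iX f) iX f := IsPullback.of_hasPullback iX f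
    haveI : IrreducibleSpace ↥(pullback iX f : Scheme.{u}) :=
      GeometricallyIrreducible.geometrically_irreducibleSpace (f := iX) f (pullback.fst iX f)
        (pullback.snd iX f) H
    have hconn : ConnectedSpace ↥(pullback iX f : Scheme.{u}) := inferInstance
    obtain ⟨φ⟩ := Groth.Agent.Lib.helper16.GeomConn.exists_ringEquiv k K X iX
    exact ((Groth.Agent.Lib.helper16.GeomConn.idem_transfer φ).mpr
      ((Groth.Agent.Lib.helper16.GeomConn.connectedSpace_iff _).mp hconn)).2



/-- Let X be a proper variety over a field k (integral, separated, of finite type and proper over k) and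
K = H^0(X, O_X), a k-algebra via the structure morphism. Then K is a field, finite over k; K/k is
separable when X is geometrically reduced over k, and purely inseparable when X is geometrically
irreducible over k. -/
theorem result (k : Type u) [Field k] (X : Scheme.{u}) [X.Over (Spec (CommRingCat.of k))] [IsIntegral X] [IsProper (X ↘ (Spec (CommRingCat.of k)))] :
    letI := ((X ↘ (Spec (CommRingCat.of k))).appTop.hom.comp (Scheme.ΓSpecIso (CommRingCat.of k)).inv.hom : k →+* Γ(X, ⊤)).toAlgebra
    IsField ↑Γ(X, ⊤) ∧ Module.Finite k ↑Γ(X, ⊤) ∧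
      (GeometricallyReduced (X ↘ (Spec (CommRingCat.of k))) → Algebra.IsSeparable k ↑Γ(X, ⊤)) ∧
      (GeometricallyIrreducible (X ↘ (Spec (CommRingCat.of k))) → IsPurelyInseparable k ↑Γ(X, ⊤)) := by
  exact Groth.Agent.S7615.result' k X

end Groth.Agent.S7615
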