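import Groth.Statements.S9675
import Mathlib
import Groth.Agent.Lib.Helper13.Nag3
import Groth.Agent.Lib.Helper13.Normal10
-- import your own Groth.Agent.* helpers here

set_option autoImplicit false
universe u
open CategoryTheory CategoryTheory.Limits AlgebraicGeometry
open Mor

namespace Groth.Agent.S9675

open Groth.Agent.Lib.helper13.Nag

/-- Residue field extensions of a morphism locally of finite type are finitely generated. -/
theorem essFiniteType_residueFieldMap {X S : Scheme.{u}} (f : X ⟶ S) [LocallyOfFiniteType f]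
    (x : X) : (f.residueFieldMap x).hom.EssFiniteType := by
  have e2 : (f.stalkMap x).hom.EssFiniteType := LocallyOfFiniteType.stalkMap f x
  have e3 : (X.residue x).hom.EssFiniteType :=
    RingHom.FiniteType.essFiniteType
      (RingHom.FiniteType.of_surjective _ (X.residue_surjective x))
  have h1 : (S.residue (f x) ≫ f.residueFieldMap x).hom.EssFiniteType := by
    rw [Scheme.residue_residueFieldMap]
    exact e2.comp e3
  exact RingHom.EssFiniteType.of_comp _ h1


/-- Let f : X ⟶ S be of finite type with X reduced and every affine open of S having Nagata coordinate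
ring. Then the normalization of S in X is finite over S. (Such an f is automatically
quasi-separated; the binder is carried only to form the relative normalization.) -/
theorem result {X S : Scheme.{u}} (f : X ⟶ S)
    [LocallyOfFiniteType f] [QuasiCompact f] [QuasiSeparated f] [IsReduced X]
    (hS : ∀ U : S.affineOpens, CAlg.IsNagata Γ(S, U)) :
    IsFinite f.fromNormalization := by
  classical
  refine isFinite_fromNormalization_of_forall_finite f (fun U hU => ?_)
  obtain ⟨hnoeth, hN2⟩ := hS ⟨U, hU⟩
  haveI : IsNoetherianRing Γ(S, U) := hnoeth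
  -- `S` and `X` are locally Noetherian
  haveI : IsLocallyNoetherian S := ⟨fun V => (hS V).1⟩
  haveI : IsLocallyNoetherian X := LocallyOfFiniteType.isLocallyNoetherian f
  have hW : IsCompact ((f ⁻¹ᵁ U : X.Opens) : Set X) :=
    QuasiCompact.isCompact_preimage (f := f) _ U.2 hU.isCompact
  have hfinW : (irreducibleComponents ↥(f ⁻¹ᵁ U)).Finite :=
    Groth.Agent.Lib.helper13.Normal.finite_irreducibleComponents_of_isLocallyNoetherian X
      (f ⁻¹ᵁ U) hW
  have hgp : ∀ Z : ↥(irreducibleComponents ↥(f ⁻¹ᵁ U)),
      ∃ x : (f ⁻¹ᵁ U).toScheme, IsGenericPoint x (Z : Set ↥(f ⁻¹ᵁ U)) := fun Z =>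
    QuasiSober.sober (α := (f ⁻¹ᵁ U).toScheme) Z.2.1 (isClosed_of_mem_irreducibleComponents _ Z.2)
  choose gp hgp using hgp
  haveI : Finite ↥(irreducibleComponents ↥(f ⁻¹ᵁ U)) := hfinW.to_subtype
  let T : Set X := Set.range (fun Z => (f ⁻¹ᵁ U).ι (gp Z))
  have hTW : T ⊆ f ⁻¹ᵁ U := by
    rintro _ ⟨Z, rfl⟩
    exact (gp Z).2
  have hgen : ∀ w ∈ f ⁻¹ᵁ U, ∃ t ∈ T, t ⤳ w := by
    intro w hw
    let w' : ↥(f ⁻¹ᵁ U) := ⟨w, hw⟩
    let Z : ↥(irreducibleComponents ↥(f ⁻¹ᵁ U)) :=
      ⟨irreducibleComponent w', irreducibleComponent_mem_irreducibleComponents w'⟩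
    refine ⟨_, ⟨Z, rfl⟩, ?_⟩
    have h1 : gp Z ⤳ w' := by
      rw [specializes_iff_mem_closure, (hgp Z).def]
      exact mem_irreducibleComponent
    exact h1.map (f ⁻¹ᵁ U).ι.continuous
  refine finite_integralClosure_sections f U (fun p _ => hN2 p) T (Set.finite_range _) hTW hgen ?_
  intro t ht
  exact essFiniteType_app_evaluation f U hU t _ (essFiniteType_residueFieldMap f t)

end Groth.Agent.S9675
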