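import Groth.Statements.S7616
import Mathlib
import Groth.Agent.S9675
import Groth.Agent.Lib.Helper13.PIns3
-- import your own Groth.Agent.* helpers here

set_option autoImplicit false
universe u
open CategoryTheory CategoryTheory.Limits AlgebraicGeometry
open Variety

namespace Groth.Agent.S7616

/-- Let f : Y → X be a quasi-compact morphism of schemes locally of finite type over a field k, with Y
reduced; f is automatically quasi-separated. Then the normalization of X in Y is finite over X. -/
theorem result (k : Type u) [Field k] (X : Scheme.{u}) [X.Over (Spec (CommRingCat.of k))] [LocallyOfFiniteType (X ↘ (Spec (CommRingCat.of k)))]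
    (Y : Scheme.{u}) [Y.Over (Spec (CommRingCat.of k))] [LocallyOfFiniteType (Y ↘ (Spec (CommRingCat.of k)))] [IsReduced Y]
    (f : Y ⟶ X) [f.IsOver (Spec (CommRingCat.of k))] [QuasiCompact f] [QuasiSeparated f] :
    IsFinite f.fromNormalization := by
  haveI : LocallyOfFiniteType f := by
    have h1 : f ≫ (X ↘ Spec (CommRingCat.of k)) = Y ↘ Spec (CommRingCat.of k) :=
      CategoryTheory.comp_over f _
    have : LocallyOfFiniteType (f ≫ (X ↘ Spec (CommRingCat.of k))) := by
      rw [h1]; infer_instance
    exact locallyOfFiniteType_of_comp f (X ↘ Spec (CommRingCat.of k))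
  refine Groth.Agent.S9675.result f (fun U => ?_)
  obtain ⟨ρ, hρ⟩ := Groth.Agent.Lib.helper13.PIns.exists_finiteType_sections k
    (X ↘ Spec (CommRingCat.of k)) U.1 U.2
  letI : Algebra k Γ(X, U.1) := ρ.toAlgebra
  haveI : Algebra.FiniteType k Γ(X, U.1) := hρ
  refine ⟨Algebra.FiniteType.isNoetherianRing k _, fun p _ => ?_⟩
  haveI : Algebra.FiniteType k (Γ(X, U.1) ⧸ p) :=
    Algebra.FiniteType.of_surjective (Ideal.Quotient.mkₐ k p) Ideal.Quotient.mk_surjective
  exact Groth.Agent.Lib.helper13.PIns.isN2_of_finiteType_field k _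

end Groth.Agent.S7616
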