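import Groth.Statements.S7618
import Mathlib.RingTheory.Artinian.Ring
import Mathlib.RingTheory.Adjoin.FG
import Mathlib.AlgebraicGeometry.Properties
-- import your own Groth.Agent.* helpers here

set_option autoImplicit false
universe u
open CategoryTheory CategoryTheory.Limits AlgebraicGeometry
open Variety

namespace Groth.Agent.S7618

theorem exists_inv_of_integral (k : Type u) [Field k] (R : Type u) [CommRing R] [Algebra k R]
    [IsReduced R] (hid : ∀ e : R, e * e = e → e = 0 ∨ e = 1) (a : R) (ha : IsIntegral k a)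
    (ha0 : a ≠ 0) : ∃ b, IsIntegral k b ∧ a * b = 1 := by
  let B := Algebra.adjoin k {a}
  have hfin : Module.Finite k B := Algebra.finite_adjoin_simple_of_isIntegral ha
  have hart : IsArtinianRing B := IsArtinianRing.of_finite k B
  have haB : a ∈ B := Algebra.self_mem_adjoin_singleton k a
  obtain ⟨n, y, hy⟩ := IsArtinian.exists_pow_succ_smul_dvd (⟨a, haB⟩ : B) (1 : B)
  have hyint : IsIntegral k (y : R) := by
    have : IsIntegral k y := Algebra.IsIntegral.isIntegral y
    exact this.map (B.val)
  have hrel0 : a ^ (n + 1) * (y : R) = a ^ n := by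
    have := congrArg (B.val) hy
    simpa using this
  -- use exponent N = n + 1
  have hrel : a ^ (n + 2) * (y : R) = a ^ (n + 1) := by
    rw [pow_succ, mul_assoc, mul_comm a, ← mul_assoc, hrel0, ← pow_succ]
  have hiter : ∀ j : ℕ, a ^ (n + 1 + j) * (y : R) ^ j = a ^ (n + 1) := by
    intro j
    induction j with
    | zero => simp
    | succ j ih =>
      calc a ^ (n + 1 + (j + 1)) * (y : R) ^ (j + 1)
          = (a ^ (n + 2) * (y : R)) * (a ^ j * (y : R) ^ j) := by ring
        _ = a ^ (n + 1 + j) * (y : R) ^ j := by rw [hrel]; ring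
        _ = a ^ (n + 1) := ih
  have he : (a ^ (n + 1) * (y : R) ^ (n + 1)) * (a ^ (n + 1) * (y : R) ^ (n + 1)) =
      a ^ (n + 1) * (y : R) ^ (n + 1) := by
    calc (a ^ (n + 1) * (y : R) ^ (n + 1)) * (a ^ (n + 1) * (y : R) ^ (n + 1))
        = (a ^ (n + 1 + (n + 1)) * (y : R) ^ (n + 1)) * (y : R) ^ (n + 1) := by ring
      _ = a ^ (n + 1) * (y : R) ^ (n + 1) := by rw [hiter (n + 1)]
  rcases hid _ he with h0 | h1
  · exfalso
    have : a ^ (n + 1) = 0 := by
      have h2 := hiter (n + 1)
      have h3 : a ^ (n + 1 + (n + 1)) * (y : R) ^ (n + 1) =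
          a ^ (n + 1) * (a ^ (n + 1) * (y : R) ^ (n + 1)) := by ring
      rw [h3, h0, mul_zero] at h2
      exact h2.symm
    exact ha0 (pow_eq_zero_iff (n := n + 1) (by omega) |>.mp this)
  · refine ⟨a ^ n * (y : R) ^ (n + 1), ?_, ?_⟩
    · exact (ha.pow n).mul (hyint.pow (n + 1))
    · rw [← h1]; ring

/-- Let X be a connected reduced scheme over a field k. Then the global functions on X that are integral
over k form a field. -/
theorem result (k : Type u) [Field k] (X : Scheme.{u}) [X.Over (Spec (CommRingCat.of k))] [ConnectedSpace ↥X] [IsReduced X] :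
    letI := ((X ↘ (Spec (CommRingCat.of k))).appTop.hom.comp (Scheme.ΓSpecIso (CommRingCat.of k)).inv.hom : k →+* Γ(X, ⊤)).toAlgebra
    IsField ↥(integralClosure k ↑Γ(X, ⊤)) := by
  letI := ((X ↘ (Spec (CommRingCat.of k))).appTop.hom.comp (Scheme.ΓSpecIso (CommRingCat.of k)).inv.hom : k →+* Γ(X, ⊤)).toAlgebra
  have hid : ∀ e : Γ(X, ⊤), e * e = e → e = 0 ∨ e = 1 := by
    intro e he
    -- D(e) is clopen
    have hcl : IsClopen ((X.basicOpen e : X.Opens) : Set X) := by
      refine ⟨?_, (X.basicOpen e).2⟩
      have hcompl : ((X.basicOpen e : X.Opens) : Set X)ᶜ = ((X.basicOpen (1 - e) : X.Opens) : Set X) := by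
        have hinter : X.basicOpen e ⊓ X.basicOpen (1 - e) = ⊥ := by
          rw [← Scheme.basicOpen_mul]
          have : e * (1 - e) = 0 := by rw [mul_sub, mul_one, he, sub_self]
          rw [this]
          simp
        ext x
        simp only [Set.mem_compl_iff, SetLike.mem_coe]
        constructor
        · intro hx
          -- germ of e at x is not a unit, so germ of 1 - e is a unit
          rw [Scheme.mem_basicOpen_top] at hx ⊢
          have := IsLocalRing.isUnit_or_isUnit_of_add_one
            (a := X.presheaf.germ ⊤ x trivial e) (b := X.presheaf.germ ⊤ x trivial (1 - e))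
            (by rw [← map_add]; simp)
          exact this.resolve_left hx
        · intro hx hx'
          have : x ∈ X.basicOpen e ⊓ X.basicOpen (1 - e) := ⟨hx', hx⟩
          rw [hinter] at this
          exact this
      rw [← isOpen_compl_iff, hcompl]
      exact (X.basicOpen (1 - e)).2
    rcases isClopen_iff.mp hcl with h | h
    · left
      have : X.basicOpen e = ⊥ := by
        ext x
        simp [h]
      exact (basicOpen_eq_bot_iff e).mp this
    · right
      have h2 : X.basicOpen (1 - e) = ⊥ := by
        have hinter : X.basicOpen e ⊓ X.basicOpen (1 - e) = ⊥ := by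
          rw [← Scheme.basicOpen_mul]
          have : e * (1 - e) = 0 := by rw [mul_sub, mul_one, he, sub_self]
          rw [this]
          simp
        have htop : X.basicOpen e = ⊤ := by
          ext x
          simp [h]
        rw [htop, top_inf_eq] at hinter
        exact hinter
      have := (basicOpen_eq_bot_iff (1 - e)).mp h2
      exact (sub_eq_zero.mp this).symm
  refine ⟨⟨0, 1, ?_⟩, mul_comm, ?_⟩
  · intro h
    have hne : Nonempty ((⊤ : X.Opens)) := ⟨⟨Classical.arbitrary X, trivial⟩⟩
    have hnt : Nontrivial Γ(X, ⊤) := Scheme.component_nontrivial X ⊤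
    have := congrArg Subtype.val h
    exact zero_ne_one this
  · intro a ha0
    have ha0' : (a : Γ(X, ⊤)) ≠ 0 := fun h => ha0 (Subtype.ext h)
    obtain ⟨b, hb, hab⟩ := exists_inv_of_integral k Γ(X, ⊤) hid a.1 a.2 ha0'
    exact ⟨⟨b, hb⟩, Subtype.ext hab⟩

end Groth.Agent.S7618
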