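import Groth.Statements.S7619
import Mathlib
import Groth.Agent.S6266

set_option autoImplicit false
universe u
open CategoryTheory CategoryTheory.Limits AlgebraicGeometry
open scoped TensorProduct
open Variety

namespace Groth.Agent.S7619

lemma span_one_tmul_D (A B : Type u) [CommRing A] [CommRing B] [Algebra A B]
    (κ : Type u) [Field κ] [Algebra B κ] :
    Submodule.span κ (Set.range (fun b : B => (1 : κ) ⊗ₜ[B] KaehlerDifferential.D A B b)) = ⊤ := by
  rw [eq_top_iff, ← Groth.Agent.S6266.span_one_tmul B κ (Ω[B⁄A]), Submodule.span_le]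
  rintro _ ⟨ω, rfl⟩
  have hω : ω ∈ Submodule.span B (Set.range (KaehlerDifferential.D A B)) := by
    rw [KaehlerDifferential.span_range_derivation]; trivial
  induction hω using Submodule.span_induction with
  | mem x hx =>
    obtain ⟨b, rfl⟩ := hx
    exact Submodule.subset_span ⟨b, rfl⟩
  | zero =>
    simp only [TensorProduct.tmul_zero]
    exact zero_mem _
  | add x y _ _ hx hy =>
    simp only [TensorProduct.tmul_add]
    exact add_mem hx hy
  | smul c x _ hx =>
    have : (1 : κ) ⊗ₜ[B] (c • x) = (algebraMap B κ c) • ((1 : κ) ⊗ₜ[B] x) := by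
      rw [TensorProduct.tmul_smul, TensorProduct.smul_tmul', TensorProduct.smul_tmul',
        Algebra.smul_def, smul_eq_mul]
    simp only [this]
    exact Submodule.smul_mem _ _ hx

lemma exists_fin_span (A B : Type u) [CommRing A] [CommRing B] [Algebra A B]
    [Algebra.FiniteType A B] (κ : Type u) [Field κ] [Algebra B κ] (r : ℕ)
    (hr : Module.finrank κ (κ ⊗[B] Ω[B⁄A]) = r) :
    ∃ b : Fin r → B, Submodule.span κ
      (Set.range (fun i : Fin r => (1 : κ) ⊗ₜ[B] KaehlerDifferential.D A B (b i))) = ⊤ := by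
  classical
  obtain ⟨s, hs_sub, hs_span, hs_li⟩ := exists_linearIndependent κ
    (Set.range (fun b : B => (1 : κ) ⊗ₜ[B] KaehlerDifferential.D A B b))
  rw [span_one_tmul_D] at hs_span
  let Bs : Module.Basis s κ (κ ⊗[B] Ω[B⁄A]) :=
    Module.Basis.mk hs_li (by rw [Subtype.range_coe, hs_span])
  have : Finite s := Module.Finite.finite_basis Bs
  have : Fintype s := Fintype.ofFinite s
  have hcard : Fintype.card s = r := by
    rw [← hr, Module.finrank_eq_card_basis Bs]
  let e : Fin r ≃ s := (Fintype.equivFinOfCardEq hcard).symm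
  choose m hm using fun i : s => hs_sub i.2
  refine ⟨fun i => m (e i), ?_⟩
  rw [eq_top_iff, ← hs_span, Submodule.span_le]
  intro t ht
  refine Submodule.subset_span ⟨e.symm ⟨t, ht⟩, ?_⟩
  simp only [Equiv.apply_symm_apply]
  exact hm ⟨t, ht⟩


/-- Let A → B be a finite type ring map (a finite type morphism of affine schemes), q a prime of B and r
= dim_{κ(q)} Ω_{B/A} ⊗_B κ(q). Then there is an A-algebra homomorphism A[x_1, …, x_r] → B for which
B is unramified over A[x_1, …, x_r] at q. -/
theorem result (A B : Type u) [CommRing A] [CommRing B] [Algebra A B] [Algebra.FiniteType A B]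
    (q : Ideal B) [q.IsPrime] (r : ℕ) (hr : Module.finrank q.ResidueField (q.ResidueField ⊗[B] Ω[B⁄A]) = r) :
    ∃ φ : MvPolynomial (Fin r) A →ₐ[A] B,
      letI := φ.toRingHom.toAlgebra
      Algebra.IsUnramifiedAt (MvPolynomial (Fin r) A) q := by
  classical
  obtain ⟨b, hb⟩ := exists_fin_span A B q.ResidueField r hr
  refine ⟨MvPolynomial.aeval b, ?_⟩
  let alg : Algebra (MvPolynomial (Fin r) A) B :=
    (MvPolynomial.aeval b : MvPolynomial (Fin r) A →ₐ[A] B).toRingHom.toAlgebra
  have halg : ∀ x, algebraMap (MvPolynomial (Fin r) A) B x = MvPolynomial.aeval b x := fun _ => rfl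
  have : IsScalarTower A (MvPolynomial (Fin r) A) B :=
    IsScalarTower.of_algebraMap_eq (fun a => by
      rw [halg, MvPolynomial.algebraMap_eq, MvPolynomial.aeval_C])
  have : Algebra.FiniteType (MvPolynomial (Fin r) A) B :=
    Algebra.FiniteType.of_restrictScalars_finiteType A _ B
  change Algebra.IsUnramifiedAt (MvPolynomial (Fin r) A) q
  have hq : (⟨q, inferInstance⟩ : PrimeSpectrum B) ∈
      Algebra.unramifiedLocus (MvPolynomial (Fin r) A) B := by
    rw [Algebra.unramifiedLocus_eq_compl_support, Set.mem_compl_iff,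
      Module.mem_support_iff_nontrivial_residueField_tensorProduct, not_nontrivial_iff_subsingleton]
    let ψ : q.ResidueField ⊗[B] Ω[B⁄A] →ₗ[q.ResidueField]
        q.ResidueField ⊗[B] Ω[B⁄MvPolynomial (Fin r) A] :=
      (KaehlerDifferential.map A (MvPolynomial (Fin r) A) B B).baseChange q.ResidueField
    have hψs : Function.Surjective ψ := by
      have : (ψ : q.ResidueField ⊗[B] Ω[B⁄A] → q.ResidueField ⊗[B] Ω[B⁄MvPolynomial (Fin r) A]) =
          (KaehlerDifferential.map A (MvPolynomial (Fin r) A) B B).lTensor q.ResidueField :=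
        LinearMap.baseChange_eq_ltensor _
      rw [this]
      exact LinearMap.lTensor_surjective _ (KaehlerDifferential.map_surjective A _ B)
    have hψ0 : LinearMap.ker ψ = ⊤ := by
      rw [eq_top_iff, ← hb, Submodule.span_le]
      rintro _ ⟨i, rfl⟩
      rw [SetLike.mem_coe, LinearMap.mem_ker]
      simp only [ψ, LinearMap.baseChange_tmul, KaehlerDifferential.map_D, Algebra.algebraMap_self,
        RingHom.id_apply]
      have : b i = algebraMap (MvPolynomial (Fin r) A) B (MvPolynomial.X i) := by
        rw [halg, MvPolynomial.aeval_X]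
      rw [this, Derivation.map_algebraMap, TensorProduct.tmul_zero]
    refine ⟨fun x y => ?_⟩
    obtain ⟨x', rfl⟩ := hψs x
    obtain ⟨y', rfl⟩ := hψs y
    have hx : x' ∈ LinearMap.ker ψ := hψ0 ▸ Submodule.mem_top
    have hy : y' ∈ LinearMap.ker ψ := hψ0 ▸ Submodule.mem_top
    rw [LinearMap.mem_ker.mp hx, LinearMap.mem_ker.mp hy]
  exact hq

end Groth.Agent.S7619
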