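import Groth.Statements.S7622
import Mathlib
import Groth.Agent.Lib.Helper24.CohenPS
import Groth.Agent.Lib.Helper17.FieldLift
import Groth.Agent.S0542

set_option autoImplicit false
universe u
open CategoryTheory CategoryTheory.Limits AlgebraicGeometry
open Variety

namespace Groth.Agent.S7622

-- MARK
section Aux
open IsLocalRing

theorem exists_fin_generators {R : Type u} [CommRing R] (c : Ideal R) (hc : c.FG) :
    ∃ (t : ℕ) (w : Fin t → R), Ideal.span (Set.range w) = c := by
  obtain ⟨S, hS, hspan⟩ := Submodule.FG.exists_span_finset_card_eq_spanFinrank hc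
  let e := Finset.equivFinOfCardEq hS
  refine ⟨_, fun i => (e.symm i : R), ?_⟩
  refine Eq.trans ?_ hspan
  show Submodule.span R _ = Submodule.span R _
  congr 1
  ext x
  constructor
  · rintro ⟨i, rfl⟩
    exact (e.symm i).2
  · intro hx
    exact ⟨e ⟨x, hx⟩, by simp⟩

end Aux



/-- Let A be a Noetherian local algebra over a field k (such as the local ring of a locally Noetherian
k-scheme at a point) whose residue field κ is a separable extension of k, meaning geometrically
reduced over k; κ need not be algebraic over k. Then there are n ≥ 0, an ideal I of κ[[x_1, …, x_n]]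
and a k-algebra isomorphism e from κ[[x_1, …, x_n]]/I onto the completion A^∧ of A at its maximal
ideal which induces the identity on residue fields: for every a in A, the value of e on the constant
power series whose value is the residue class of a is congruent to the image of a modulo the
extended maximal ideal of A^∧. -/
theorem result (k A : Type u) [Field k] [CommRing A] [Algebra k A]
    [IsNoetherianRing A] [IsLocalRing A] [Algebra.IsGeometricallyReduced k (IsLocalRing.ResidueField A)] :
    ∃ (n : ℕ) (I : Ideal (MvPowerSeries (Fin n) (IsLocalRing.ResidueField A)))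
      (e : (MvPowerSeries (Fin n) (IsLocalRing.ResidueField A) ⧸ I) ≃ₐ[k]
        AdicCompletion (IsLocalRing.maximalIdeal A) A),
      ∀ a : A, e (Ideal.Quotient.mk I (MvPowerSeries.C (IsLocalRing.residue A a))) -
          algebraMap A (AdicCompletion (IsLocalRing.maximalIdeal A) A) a ∈
        (IsLocalRing.maximalIdeal A).map (algebraMap A (AdicCompletion (IsLocalRing.maximalIdeal A) A)) := by
  classical
  have hfg : (IsLocalRing.maximalIdeal A).FG := (IsLocalRing.maximalIdeal A).fg_of_isNoetherianRing
  have hN : IsNoetherianRing (AdicCompletion (IsLocalRing.maximalIdeal A) A) :=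
    Groth.Agent.S0542.result A _ hfg
  have : Algebra.FormallySmooth k (IsLocalRing.ResidueField A) :=
    Groth.Agent.Lib.helper17.FieldLift.formallySmooth_of_isGeometricallyReduced
  -- the coefficient field
  let f₀ : IsLocalRing.ResidueField A →ₐ[k] A ⧸ IsLocalRing.maximalIdeal A :=
    { RingHom.id (A ⧸ IsLocalRing.maximalIdeal A) with commutes' := fun c => rfl }
  obtain ⟨g, hg⟩ := Algebra.FormallySmooth.exists_adicCompletionEvalOneₐ_comp_eq
    (I := IsLocalRing.maximalIdeal A) f₀
  have hg' : ∀ y : IsLocalRing.ResidueField A,
      AdicCompletion.evalOneₐ (IsLocalRing.maximalIdeal A) (g y) = y := fun y => congr($hg y)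
  have hker : ∀ z : AdicCompletion (IsLocalRing.maximalIdeal A) A,
      AdicCompletion.evalOneₐ (IsLocalRing.maximalIdeal A) z = 0 →
        z ∈ (IsLocalRing.maximalIdeal A).map
          (algebraMap A (AdicCompletion (IsLocalRing.maximalIdeal A) A)) := by
    intro z hz
    rw [← AdicCompletion.ker_evalOneₐ_eq_map _ hfg]
    exact hz
  have hclose : ∀ a : A, g (IsLocalRing.residue A a) -
      algebraMap A (AdicCompletion (IsLocalRing.maximalIdeal A) A) a ∈
        (IsLocalRing.maximalIdeal A).map
          (algebraMap A (AdicCompletion (IsLocalRing.maximalIdeal A) A)) := by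
    intro a
    apply hker
    rw [map_sub, hg']
    have := congr($(AdicCompletion.evalOneₐ_comp_algebraMap_eq_mk (IsLocalRing.maximalIdeal A)) a)
    simp only [RingHom.comp_apply] at this
    erw [this]
    exact sub_self _
  have hres : Function.Surjective
      ((IsLocalRing.residue (AdicCompletion (IsLocalRing.maximalIdeal A) A)).comp g.toRingHom) := by
    intro y
    obtain ⟨z, rfl⟩ := IsLocalRing.residue_surjective y
    obtain ⟨a, ha⟩ := Ideal.Quotient.mk_surjective
      (AdicCompletion.evalOneₐ (IsLocalRing.maximalIdeal A) z)
    refine ⟨IsLocalRing.residue A a, ?_⟩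
    show IsLocalRing.residue _ (g (IsLocalRing.residue A a)) = IsLocalRing.residue _ z
    rw [← sub_eq_zero, ← map_sub, IsLocalRing.residue_eq_zero_iff,
      AdicCompletion.maximalIdeal_eq_map]
    apply hker
    rw [map_sub, hg', ← ha]
    exact sub_self _
  obtain ⟨n, w, hw⟩ := exists_fin_generators (IsLocalRing.maximalIdeal A) hfg
  have hmK : IsLocalRing.maximalIdeal (AdicCompletion (IsLocalRing.maximalIdeal A) A) =
      (IsLocalRing.maximalIdeal (IsLocalRing.ResidueField A)).map g.toRingHom ⊔
        Ideal.span (Set.range fun i =>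
          algebraMap A (AdicCompletion (IsLocalRing.maximalIdeal A) A) (w i)) := by
    rw [IsLocalRing.maximalIdeal_eq_bot, Ideal.map_bot, bot_sup_eq,
      AdicCompletion.maximalIdeal_eq_map, ← hw, Ideal.map_span, ← Set.range_comp]
    rfl
  have hKc : IsAdicComplete (IsLocalRing.maximalIdeal (IsLocalRing.ResidueField A))
      (IsLocalRing.ResidueField A) := by
    rw [IsLocalRing.maximalIdeal_eq_bot]; infer_instance
  obtain ⟨F, hFC, hFX, hFs, hFm⟩ :=
    Groth.Agent.Lib.Helper24.CohenPS.exists_ps_surjective g.toRingHom hres n _ hmK
  have hFC' : ∀ y, F (MvPowerSeries.C y) = g y := fun y => congr($hFC y)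
  let F' : MvPowerSeries (Fin n) (IsLocalRing.ResidueField A) →ₐ[k]
      AdicCompletion (IsLocalRing.maximalIdeal A) A :=
    { F with
      commutes' := fun c => by
        show F (algebraMap k (MvPowerSeries (Fin n) (IsLocalRing.ResidueField A)) c) = _
        rw [MvPowerSeries.algebraMap_apply, hFC', g.commutes] }
  have hF's : Function.Surjective F' := hFs
  refine ⟨n, RingHom.ker F', Ideal.quotientKerAlgEquivOfSurjective hF's, fun a => ?_⟩
  rw [Ideal.quotientKerAlgEquivOfSurjective_apply]
  show F' (MvPowerSeries.C (IsLocalRing.residue A a)) - _ ∈ _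
  show F (MvPowerSeries.C (IsLocalRing.residue A a)) - _ ∈ _
  rw [hFC']
  exact hclose a

end Groth.Agent.S7622
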