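import Groth.Statements.S7627
import Mathlib
import Groth.Agent.Lib.Helper17.FieldBC
import Groth.Agent.Lib.Helper17.FibreDim

set_option autoImplicit false
set_option linter.style.haveILetI false
universe u
open CategoryTheory CategoryTheory.Limits AlgebraicGeometry
attribute [local instance] Curv2.resAlgebra
open scoped TensorProduct
open Variety

namespace Groth.Agent.S7627

/-- Let X be locally of finite type over a field k, K an extension field of k, y a point of X_K with
image x in X. Assume dim O_{X, x} = dim O_{X_K, y} and that κ(x) ⊗_k K is reduced (for instance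
κ(x)/k separable or K/k separable). Then m_x O_{X_K, y} = m_y. -/
theorem result (k : Type u) [Field k] (X : Scheme.{u}) [X.Over (Spec (CommRingCat.of k))] [LocallyOfFiniteType (X ↘ (Spec (CommRingCat.of k)))]
    (K : Type u) [Field K] [Algebra k K] (y : ↥(Curv2.bc k X K))
    (hdim : ringKrullDim ↥(X.presheaf.stalk (Curv2.bcFst k X K y)) = ringKrullDim ↥((Curv2.bc k X K).presheaf.stalk y))
    (hred : _root_.IsReduced (X.residueField (Curv2.bcFst k X K y) ⊗[k] K)) :
    Ideal.map ((Curv2.bcFst k X K).stalkMap y).hom (IsLocalRing.maximalIdeal ↥(X.presheaf.stalk (Curv2.bcFst k X K y))) =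
      IsLocalRing.maximalIdeal ↥((Curv2.bc k X K).presheaf.stalk y) := by
  have hc : IsPullback (Curv2.bcFst k X K) (Curv2.bcSnd k X K) (X ↘ Spec (CommRingCat.of k))
      (Spec.map (CommRingCat.ofHom (algebraMap k K))) := IsPullback.of_hasPullback _ _
  set x := Curv2.bcFst k X K y with hx
  let ψ : CommRingCat.of k ⟶ X.residueField x := CommRingCat.ofHom (Curv2.resMap k X x)
  have hψ : X.fromSpecResidueField x ≫ (X ↘ Spec (CommRingCat.of k)) = Spec.map ψ := by
    have h1 := Groth.Agent.Lib.helper3.StalkBC2.specMap_stalkMap k X x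
    have h2 : X.fromSpecResidueField x = Spec.map (X.residue x) ≫ X.fromSpecStalk x := rfl
    rw [h2, Category.assoc, h1, ← Spec.map_comp]
    rfl
  -- Noetherian local rings
  haveI : IsLocallyNoetherian X :=
    LocallyOfFiniteType.isLocallyNoetherian (X ↘ Spec (CommRingCat.of k))
  haveI : LocallyOfFiniteType (Curv2.bcSnd k X K) :=
    MorphismProperty.pullback_snd _ _ inferInstance
  haveI : IsLocallyNoetherian (Curv2.bc k X K) :=
    LocallyOfFiniteType.isLocallyNoetherian (Curv2.bcSnd k X K)
  -- the fibre ring is a localization of κ(x) ⊗ K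
  have key := Groth.Agent.Lib.helper17.FieldBC.exists_fibRing_equiv_localization hc y ψ hψ
  have hinst : (CommRingCat.ofHom (algebraMap k K)).hom.toAlgebra = (inferInstance : Algebra k K) :=
    Algebra.algebra_ext _ _ (fun r => rfl)
  rw [hinst] at key
  obtain ⟨q, hq, ⟨e⟩⟩ := key
  haveI : _root_.IsReduced (Localization.AtPrime q) :=
    isReduced_localizationPreserves q.primeCompl _ hred
  haveI hredF : _root_.IsReduced
      (Groth.Agent.Lib.helper17.FibreStalk.FibRing (Curv2.bcFst k X K) y) :=
    isReduced_of_injective e.toRingHom e.injective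
  -- the fibre ring has dimension zero
  have hflatφ : Flat (Spec.map (CommRingCat.ofHom (algebraMap k K))) := by
    rw [HasRingHomProperty.Spec_iff (P := @Flat)]
    exact Groth.Agent.Lib.helper17.FieldBC.flat_of_isField (Field.toIsField k)
  haveI : Flat (Curv2.bcFst k X K) := MorphismProperty.of_isPullback hc.flip hflatφ
  letI := ((Curv2.bcFst k X K).stalkMap y).hom.toAlgebra
  haveI : Module.Flat (X.presheaf.stalk x) ((Curv2.bc k X K).presheaf.stalk y) :=
    Flat.stalkMap (Curv2.bcFst k X K) y
  haveI : IsLocalHom (algebraMap (X.presheaf.stalk x) ((Curv2.bc k X K).presheaf.stalk y)) :=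
    inferInstanceAs (IsLocalHom ((Curv2.bcFst k X K).stalkMap y).hom)
  have hdimF := Groth.Agent.Lib.Helper24.FlatDimFormula.ringKrullDim_eq_add_of_flat
    (X.presheaf.stalk x) ((Curv2.bc k X K).presheaf.stalk y)
  obtain ⟨a, ha⟩ := Groth.Agent.Lib.Helper24.CatEquidim.exists_nat_eq_ringKrullDim
    (X.presheaf.stalk x)
  obtain ⟨b, hb⟩ := Groth.Agent.Lib.Helper24.CatEquidim.exists_nat_eq_ringKrullDim
    (Groth.Agent.Lib.helper17.FibreStalk.FibRing (Curv2.bcFst k X K) y)
  have hzero : ringKrullDim (Groth.Agent.Lib.helper17.FibreStalk.FibRing (Curv2.bcFst k X K) y)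
      = 0 := by
    rw [← hdim] at hdimF
    change ringKrullDim (X.presheaf.stalk x) = ringKrullDim (X.presheaf.stalk x) +
      ringKrullDim (Groth.Agent.Lib.helper17.FibreStalk.FibRing (Curv2.bcFst k X K) y) at hdimF
    rw [ha, hb] at hdimF
    rw [hb]
    have : (a : ℕ) = a + b := by exact_mod_cast hdimF
    have hb0 : b = 0 := by omega
    rw [hb0]
    rfl
  haveI : Ring.KrullDimLE 0 (Groth.Agent.Lib.helper17.FibreStalk.FibRing (Curv2.bcFst k X K) y) :=
    Ring.krullDimLE_iff.mpr hzero.le
  have hmax : IsLocalRing.maximalIdeal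
      (Groth.Agent.Lib.helper17.FibreStalk.FibRing (Curv2.bcFst k X K) y) = ⊥ := by
    have h1 := Ring.KrullDimLE.nilradical_eq_maximalIdeal
      (Groth.Agent.Lib.helper17.FibreStalk.FibRing (Curv2.bcFst k X K) y)
    rw [nilradical_eq_zero] at h1
    exact h1.symm
  -- conclude
  have hle : Ideal.map ((Curv2.bcFst k X K).stalkMap y).hom
      (IsLocalRing.maximalIdeal (X.presheaf.stalk x)) ≤
      IsLocalRing.maximalIdeal ((Curv2.bc k X K).presheaf.stalk y) :=
    ((IsLocalRing.local_hom_TFAE ((Curv2.bcFst k X K).stalkMap y).hom).out 0 2 rfl rfl).mp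
      inferInstance
  refine le_antisymm hle ?_
  intro b hb
  have h1 : Ideal.Quotient.mk (Ideal.map ((Curv2.bcFst k X K).stalkMap y).hom
      (IsLocalRing.maximalIdeal (X.presheaf.stalk x))) b ∈ IsLocalRing.maximalIdeal
      (Groth.Agent.Lib.helper17.FibreStalk.FibRing (Curv2.bcFst k X K) y) := by
    haveI : IsLocalHom (Ideal.Quotient.mk (Ideal.map ((Curv2.bcFst k X K).stalkMap y).hom
        (IsLocalRing.maximalIdeal (X.presheaf.stalk x)))) :=
      IsLocalHom.of_surjective _ Ideal.Quotient.mk_surjective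
    rw [IsLocalRing.mem_maximalIdeal, mem_nonunits_iff] at hb ⊢
    intro hu
    exact hb ((isUnit_map_iff (Ideal.Quotient.mk _) b).mp hu)
  rw [hmax, Ideal.mem_bot] at h1
  exact Ideal.Quotient.eq_zero_iff_mem.mp h1

end Groth.Agent.S7627
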