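import Groth.Statements.S7629
import Groth.Agent.Lib.Helper4.SpreadUniqLft

set_option autoImplicit false
universe u
open CategoryTheory CategoryTheory.Limits AlgebraicGeometry
open Variety

namespace Groth.Agent.S7629

/-- (2) ⇒ (3): let X and Y be varieties over a field k (integral, separated, of finite type) and suppose
the function fields k(X) and k(Y) are isomorphic as k-algebras. Then there are nonempty open
subschemes U ⊆ X and V ⊆ Y which are isomorphic as schemes over k. -/
theorem result (k : Type u) [Field k] (X : Scheme.{u}) [X.Over (Spec (CommRingCat.of k))] [IsIntegral X] [IsSeparated (X ↘ (Spec (CommRingCat.of k)))] [LocallyOfFiniteType (X ↘ (Spec (CommRingCat.of k)))] [QuasiCompact (X ↘ (Spec (CommRingCat.of k)))]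
    (Y : Scheme.{u}) [Y.Over (Spec (CommRingCat.of k))] [IsIntegral Y] [IsSeparated (Y ↘ (Spec (CommRingCat.of k)))] [LocallyOfFiniteType (Y ↘ (Spec (CommRingCat.of k)))] [QuasiCompact (Y ↘ (Spec (CommRingCat.of k)))]
    (e : X.functionField ≅ Y.functionField)
    (he : e.hom.hom.comp (Curv2.stalkMap k X (genericPoint X)) = Curv2.stalkMap k Y (genericPoint Y)) :
    ∃ (U : X.Opens) (V : Y.Opens), (U : Set ↥X).Nonempty ∧
      ∃ φ : (U : Scheme.{u}) ≅ (V : Scheme.{u}), φ.hom ≫ V.ι ≫ (Y ↘ (Spec (CommRingCat.of k))) = U.ι ≫ (X ↘ (Spec (CommRingCat.of k))) := by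
  classical
  haveI : LocallyOfFinitePresentation (X ↘ Spec (CommRingCat.of k)) :=
    LocallyOfFinitePresentation.iff_locallyOfFiniteType.mpr inferInstance
  haveI : LocallyOfFinitePresentation (Y ↘ Spec (CommRingCat.of k)) :=
    LocallyOfFinitePresentation.iff_locallyOfFiniteType.mpr inferInstance
  -- ring homs out of a stalk of `Spec k` are determined by their restriction to `k`
  have key : ∀ (s : Spec (CommRingCat.of k)) (A : CommRingCat.{u})
      (a b : (Spec (CommRingCat.of k)).presheaf.stalk s ⟶ A),
      (Scheme.ΓSpecIso (CommRingCat.of k)).inv ≫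
          (Spec (CommRingCat.of k)).presheaf.germ ⊤ s trivial ≫ a =
        (Scheme.ΓSpecIso (CommRingCat.of k)).inv ≫
          (Spec (CommRingCat.of k)).presheaf.germ ⊤ s trivial ≫ b → a = b := by
    intro s A a b h
    letI : Algebra k ((Spec (CommRingCat.of k)).presheaf.stalk s) :=
      StructureSheaf.stalkAlgebra k s
    haveI : IsLocalization.AtPrime ((Spec (CommRingCat.of k)).presheaf.stalk s) s.asIdeal :=
      StructureSheaf.IsLocalization.to_stalk k s
    ext1
    apply IsLocalization.ringHom_ext s.asIdeal.primeCompl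
    ext r
    have := congr($h r)
    exact this
  have hs : (X ↘ Spec (CommRingCat.of k)) (genericPoint X) =
      (Y ↘ Spec (CommRingCat.of k)) (genericPoint Y) := Subsingleton.elim _ _
  have hbir : Scheme.BirationalOver (X ↘ Spec (CommRingCat.of k)) (Y ↘ Spec (CommRingCat.of k)) := by
    rw [Groth.Agent.Lib.Helper4.SpreadUniqLft.birationalOver_iff_stalk]
    refine ⟨hs, e, ?_⟩
    apply key
    have heq : ∀ (s s' : Spec (CommRingCat.of k)) (h : s = s'),
        (Spec (CommRingCat.of k)).presheaf.germ ⊤ s trivial ≫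
          eqToHom (congrArg (Spec (CommRingCat.of k)).presheaf.stalk h) =
        (Spec (CommRingCat.of k)).presheaf.germ ⊤ s' trivial := by
      rintro s _ rfl
      simp
    rw [← Category.assoc ((Spec (CommRingCat.of k)).presheaf.germ ⊤ _ trivial) (eqToHom _), heq _ _ hs,
      ← Category.assoc ((Spec (CommRingCat.of k)).presheaf.germ ⊤ _ trivial) (Scheme.Hom.stalkMap _ _),
      Scheme.Hom.germ_stalkMap, Scheme.Hom.germ_stalkMap]
    ext x
    exact congr($he x)
  obtain ⟨p, hp⟩ := hbir
  exact ⟨p.source, p.target, p.dense_source.nonempty, p.iso, hp⟩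

end Groth.Agent.S7629
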