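import Groth.Statements.S7641
import Mathlib
import Groth.Agent.Lib.Helper18.IsoLocusRed
import Groth.Agent.Lib.Helper18.DegComponents
import Groth.Agent.Lib.Lead.CurveInv
import Groth.Agent.Lib.Lead.CurveSec

set_option autoImplicit false
universe u
open CategoryTheory CategoryTheory.Limits AlgebraicGeometry
open Variety

namespace Groth.Agent.S7641

open Groth.Agent.Lib.Helper18.DegComponents Groth.Agent.Lib.Helper18.CompRed
  Groth.Agent.Lib.Helper18.IsoLocusRed
open Groth.Agent.Lib.helper11.IsoLocus Groth.Agent.Lib.helper11.InvMod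
  Groth.Agent.Lib.helper11.InvPullback

/-- dichotomy on a component -/
theorem dichotomy (k : Type u) [Field k] (X : Scheme.{u}) [X.Over (Spec (CommRingCat.of k))]
    [IsProper (X ↘ (Spec (CommRingCat.of k)))] [IsNoetherian X]
    (L : X.Modules) (hL : PicF.IsInvertible L) (s : Coh.structureModule X ⟶ L)
    (Z : irreducibleComponents (X : Type u)) (hZ : topologicalKrullDim Z.1 = 1)
    (hdeg : dC k X 1 L Z ≤ 0) :
    Z.1 ⊆ (isoLocus s : Set X) ∨ Disjoint Z.1 (isoLocus s : Set X) := by
  letI : (Cr X Z).Over (Spec (CommRingCat.of k)) :=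
    ⟨ιr X Z ≫ (X ↘ Spec (CommRingCat.of k))⟩
  haveI : IsProper ((Cr X Z) ↘ Spec (CommRingCat.of k)) :=
    inferInstanceAs (IsProper (ιr X Z ≫ (X ↘ Spec (CommRingCat.of k))))
  have hO := isInvertible_structureModule X
  have hN : PicF.IsInvertible ((Scheme.Modules.pullback (ιr X Z)).obj (Coh.structureModule X)) :=
    isInvertible_pullback _ hO
  have hL' : PicF.IsInvertible ((Scheme.Modules.pullback (ιr X Z)).obj L) :=
    isInvertible_pullback _ hL
  have hloc := isoLocus_pullback_map (ιr X Z) hO hL s
  by_cases h0 : (Scheme.Modules.pullback (ιr X Z)).map s = 0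
  · right
    rw [h0, isoLocus_zero hN hL'] at hloc
    rw [Set.disjoint_left]
    intro x hxZ hxW
    rw [← range_ιr X Z] at hxZ
    obtain ⟨z, rfl⟩ := hxZ
    have : z ∈ (ιr X Z) ⁻¹ᵁ isoLocus s := hxW
    rw [← hloc] at this
    exact this
  · left
    have hdimZ : topologicalKrullDim (Cr X Z) ≤ 1 := by rw [dim_Cr, hZ]
    have hle := Groth.Agent.Lib.Lead.CurveInv.deg_le k (Cr X Z) hdimZ hN hL' _ h0
    have hd0 : Curv2.deg k (Cr X Z)
        ((Scheme.Modules.pullback (ιr X Z)).obj (Coh.structureModule X)) 1 = 0 := by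
      unfold Curv2.deg
      rw [Groth.Agent.Lib.Lead.CurveEuler.euler_eq_of_iso k (Cr X Z) (pullbackUnitIso (ιr X Z))]
      simp
    have hdeg' : Curv2.deg k (Cr X Z) ((Scheme.Modules.pullback (ιr X Z)).obj L) 1 ≤ 0 := hdeg
    have hiso := Groth.Agent.Lib.Lead.CurveInv.isIso_of_deg_eq k (Cr X Z) hdimZ hN hL' _ h0
      (by rw [hd0] at hle ⊢; exact le_antisymm hle hdeg')
    rw [(isoLocus_eq_top_iff _).mpr hiso] at hloc
    intro x hxZ
    rw [← range_ιr X Z] at hxZ
    obtain ⟨z, rfl⟩ := hxZ
    have : z ∈ (ιr X Z) ⁻¹ᵁ isoLocus s := by rw [← hloc]; trivial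
    exact this

/-- Let X be proper over a field k, reduced and connected, with every irreducible component of dimension
one, and let L be an invertible module whose restriction to each irreducible component C, with its
reduced induced structure, has degree at most zero. Then H^0(X, L) = 0 or L is isomorphic to O_X. -/
theorem result (k : Type u) [Field k] (X : Scheme.{u}) [X.Over (Spec (CommRingCat.of k))] [IsProper (X ↘ (Spec (CommRingCat.of k)))]
    [IsReduced X] [ConnectedSpace X] [IsNoetherian X]
    (hdim : ∀ (C : Set X), C ∈ irreducibleComponents (X : Type u) → topologicalKrullDim C = 1)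
    (L : X.Modules) (hL : PicF.IsInvertible L)
    (hdeg : ∀ (C : Set X) (hC : C ∈ irreducibleComponents (X : Type u)), @Curv2.deg k _ (X.irreducibleComponentIdeal C hC).radical.subscheme ⟨(X.irreducibleComponentIdeal C hC).radical.subschemeι ≫ (X ↘ (Spec (CommRingCat.of k)))⟩ ((Scheme.Modules.pullback (X.irreducibleComponentIdeal C hC).radical.subschemeι).obj L) 1 ≤ 0) :
    Subsingleton (Coh.HH X L 0) ∨ Nonempty (L ≅ Coh.structureModule X) := by
  by_cases hsub : Subsingleton (Coh.HH X L 0)
  · exact Or.inl hsub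
  right
  rw [not_subsingleton_iff_nontrivial] at hsub
  obtain ⟨s, hs⟩ := Groth.Agent.Lib.Lead.CurveSec.exists_hom_ne_zero_of_nontrivial L hsub
  have hO := isInvertible_structureModule X
  have hdich : ∀ Z : irreducibleComponents (X : Type u),
      Z.1 ⊆ (isoLocus s : Set X) ∨ Disjoint Z.1 (isoLocus s : Set X) := fun Z =>
    dichotomy k X L hL s Z (hdim Z.1 Z.2) (hdeg Z.1 Z.2)
  -- the iso locus is closed
  have hclosed : IsClosed (isoLocus s : Set X) := by
    have heq : (isoLocus s : Set X) =
        ⋃ Z ∈ {Z : irreducibleComponents (X : Type u) | Z.1 ⊆ (isoLocus s : Set X)}, Z.1 := by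
      apply Set.Subset.antisymm
      · intro x hx
        have hxu : x ∈ ⋃₀ irreducibleComponents (X : Type u) := by
          rw [sUnion_irreducibleComponents]; trivial
        obtain ⟨C, hC, hxC⟩ := hxu
        rcases hdich ⟨C, hC⟩ with h | h
        · exact Set.mem_biUnion (x := (⟨C, hC⟩ : irreducibleComponents (X : Type u))) h hxC
        · exact absurd hx (Set.disjoint_left.mp h hxC)
      · intro x hx
        simp only [Set.mem_iUnion] at hx
        obtain ⟨Z, hZ, hxZ⟩ := hx
        exact hZ hxZ
    rw [heq]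
    exact (Set.toFinite _).isClosed_biUnion fun Z _ =>
      isClosed_of_mem_irreducibleComponents Z.1 Z.2
  have hclopen : IsClopen (isoLocus s : Set X) := ⟨hclosed, (isoLocus s).isOpen⟩
  rcases isClopen_iff.mp hclopen with h | h
  · exfalso
    apply isoLocus_ne_bot_of_isReduced hO hL s hs
    ext x
    simp only [TopologicalSpace.Opens.coe_bot]
    rw [h]
  · have : isoLocus s = ⊤ := by
      ext x
      simp only [TopologicalSpace.Opens.coe_top]
      rw [h]
    haveI := (isoLocus_eq_top_iff s).mp this
    exact ⟨(asIso s).symm⟩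

end Groth.Agent.S7641
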