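import Groth.Statements.S7642
import Groth.Agent.S1530
import Groth.Agent.S4373
import Groth.Agent.S11559
import Groth.Agent.Lib.Helper11.InvMod

set_option autoImplicit false
universe u
open CategoryTheory CategoryTheory.Limits AlgebraicGeometry
open Variety

namespace Groth.Agent.S7642

/-- The closed subscheme cut out by the vanishing ideal of a closed set is reduced
(as in `Groth.Agent.S2285`). -/
theorem isReduced_subscheme_vanishingIdeal {X : Scheme.{u}} (Z : TopologicalSpace.Closeds X) :
    IsReduced (Scheme.IdealSheafData.vanishingIdeal Z).subscheme := by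
  have : ∀ i, IsReduced ((Scheme.IdealSheafData.vanishingIdeal Z).subschemeCover.openCover.X i) := by
    intro (U : X.affineOpens)
    have hrad : ((Scheme.IdealSheafData.vanishingIdeal Z).ideal U).IsRadical := by
      rw [Scheme.IdealSheafData.vanishingIdeal_ideal]
      exact PrimeSpectrum.isRadical_vanishingIdeal _
    have : _root_.IsReduced (Γ(X, U) ⧸ (Scheme.IdealSheafData.vanishingIdeal Z).ideal U) :=
      (Ideal.isRadical_iff_quotient_reduced _).mp hrad
    change IsReduced (Spec (.of (Γ(X, U) ⧸ (Scheme.IdealSheafData.vanishingIdeal Z).ideal U)))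
    infer_instance
  exact IsReduced.of_openCover _ (Scheme.IdealSheafData.vanishingIdeal Z).subschemeCover.openCover

/-- an irreducible T0 space of Krull dimension `≤ 0` is a single point -/
theorem subsingleton_of_dim_le_zero (Y : Type*) [TopologicalSpace Y] [T0Space Y]
    [IrreducibleSpace Y] (h : topologicalKrullDim Y ≤ 0) : Subsingleton Y := by
  have hmax : ∀ x : TopologicalSpace.IrreducibleCloseds Y, IsMax x :=
    Order.krullDim_nonpos_iff_forall_isMax.mp h
  have hcl : ∀ a : Y, closure ({a} : Set Y) = Set.univ := by
    intro a
    let A : TopologicalSpace.IrreducibleCloseds Y :=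
      ⟨closure {a}, isIrreducible_singleton.closure, isClosed_closure⟩
    let T : TopologicalSpace.IrreducibleCloseds Y :=
      ⟨Set.univ, IrreducibleSpace.isIrreducible_univ Y, isClosed_univ⟩
    have h1 : A ≤ T := fun _ _ => Set.mem_univ _
    have h2 : T ≤ A := hmax A h1
    exact Set.eq_univ_of_univ_subset h2
  refine ⟨fun a b => ?_⟩
  have hab : a ⤳ b := by
    rw [specializes_iff_mem_closure, hcl a]; trivial
  have hba : b ⤳ a := by
    rw [specializes_iff_mem_closure, hcl b]; trivial
  exact (hab.antisymm hba).eq

/-- a scheme with exactly one point is affine -/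
theorem isAffine_of_subsingleton (Y : Scheme.{u}) [Nonempty Y] [Subsingleton Y] : IsAffine Y := by
  obtain ⟨y⟩ := ‹Nonempty Y›
  obtain ⟨W, hW, hyW, -⟩ := exists_isAffineOpen_mem_and_subset (x := y) (U := ⊤) trivial
  have hW' : W = ⊤ := by
    rw [eq_top_iff]
    intro z _
    rw [Subsingleton.elim z y]
    exact hyW
  subst hW'
  have : IsAffine ((⊤ : Y.Opens) : Scheme.{u}) := hW
  exact IsAffine.of_isIso Y.topIso.inv

section

variable (k : Type u) [Field k] (X : Scheme.{u}) [X.Over (Spec (CommRingCat.of k))]
  [IsProper (X ↘ (Spec (CommRingCat.of k)))] (L : X.Modules) (hL : PicF.IsInvertible L)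

include hL

/-- on a reduced irreducible one-dimensional closed subscheme: ample iff positive degree -/
theorem isAmple_iff_deg_pos_subscheme (I : X.IdealSheafData) (hred : IsReduced I.subscheme)
    (hirr : IsIrreducible (I.support : Set X))
    (hd : topologicalKrullDim (I.support : Set X) = 1) :
    CohB1.IsAmple ((Scheme.Modules.pullback I.subschemeι).obj L) ↔
      0 < @Curv2.deg k _ I.subscheme ⟨I.subschemeι ≫ (X ↘ (Spec (CommRingCat.of k)))⟩
        ((Scheme.Modules.pullback I.subschemeι).obj L) 1 := by
  have : IrreducibleSpace I.subscheme := Subtype.irreducibleSpace hirr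
  have : IsIntegral I.subscheme := isIntegral_of_irreducibleSpace_of_isReduced _
  let _ : I.subscheme.Over (Spec (CommRingCat.of k)) :=
    ⟨I.subschemeι ≫ (X ↘ (Spec (CommRingCat.of k)))⟩
  have : IsProper (I.subscheme ↘ (Spec (CommRingCat.of k))) := by
    change IsProper (I.subschemeι ≫ (X ↘ (Spec (CommRingCat.of k))))
    infer_instance
  exact Groth.Agent.S1530.result k I.subscheme hd _
    (Groth.Agent.Lib.helper11.InvMod.isInvertible_pullback I.subschemeι hL)

/-- on a reduced irreducible zero-dimensional closed subscheme every invertible module is ample -/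
theorem isAmple_subscheme_of_dim_le_zero (I : X.IdealSheafData)
    (hirr : IsIrreducible (I.support : Set X))
    (hd : topologicalKrullDim (I.support : Set X) ≤ 0) :
    CohB1.IsAmple ((Scheme.Modules.pullback I.subschemeι).obj L) := by
  have : IrreducibleSpace I.subscheme := Subtype.irreducibleSpace hirr
  have : Subsingleton I.subscheme := subsingleton_of_dim_le_zero I.subscheme hd
  have : IsAffine I.subscheme := isAffine_of_subsingleton I.subscheme
  exact Groth.Agent.S4373.result I.subscheme _
    (Groth.Agent.Lib.helper11.InvMod.isInvertible_pullback I.subschemeι hL)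

end

/-- Let X be proper of dimension at most one over a field k and let L be an invertible module on X. Then
L is ample if and only if deg(L|_C) > 0 for every irreducible component C of X of dimension one, C
carrying its reduced induced structure. -/
theorem result (k : Type u) [Field k] (X : Scheme.{u}) [X.Over (Spec (CommRingCat.of k))] [IsProper (X ↘ (Spec (CommRingCat.of k)))] [IsNoetherian X]
    (hdim : topologicalKrullDim X ≤ 1) (L : X.Modules) (hL : PicF.IsInvertible L) :
    CohB1.IsAmple L ↔ ∀ (C : Set X) (hC : C ∈ irreducibleComponents (X : Type u)),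
      topologicalKrullDim C = 1 → 0 < @Curv2.deg k _ (X.irreducibleComponentIdeal C hC).radical.subscheme ⟨(X.irreducibleComponentIdeal C hC).radical.subschemeι ≫ (X ↘ (Spec (CommRingCat.of k)))⟩ ((Scheme.Modules.pullback (X.irreducibleComponentIdeal C hC).radical.subschemeι).obj L) 1 := by
  classical
  rw [Groth.Agent.S11559.result k X L hL]
  have hI : ∀ (C : Set X) (hC : C ∈ irreducibleComponents X),
      (X.irreducibleComponentIdeal C hC).radical =
        Scheme.IdealSheafData.vanishingIdeal
          ⟨C, isClosed_of_mem_irreducibleComponents C hC⟩ := by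
    intro C hC
    rw [← Scheme.IdealSheafData.vanishingIdeal_support]
    rfl
  have hsupp : ∀ (Z : TopologicalSpace.Closeds X),
      ((Scheme.IdealSheafData.vanishingIdeal Z).support : Set X) = (Z : Set X) :=
    fun Z => Scheme.IdealSheafData.coe_support_vanishingIdeal Z
  constructor
  · intro h C hC hdC
    have h1 := h ⟨C, isClosed_of_mem_irreducibleComponents C hC⟩ hC
    have h2 := (isAmple_iff_deg_pos_subscheme k X L hL
      (Scheme.IdealSheafData.vanishingIdeal ⟨C, isClosed_of_mem_irreducibleComponents C hC⟩)
      (isReduced_subscheme_vanishingIdeal _) (by rw [hsupp]; exact hC.1)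
      (by rw [hsupp]; exact hdC)).mp h1
    rw [← hI C hC] at h2
    exact h2
  · intro h Z hZ
    by_cases hdZ : topologicalKrullDim (Z : Set X) = 1
    · have h1 := h (Z : Set X) hZ hdZ
      rw [hI (Z : Set X) hZ] at h1
      exact (isAmple_iff_deg_pos_subscheme k X L hL (Scheme.IdealSheafData.vanishingIdeal Z)
        (isReduced_subscheme_vanishingIdeal _) (by rw [hsupp]; exact hZ.1)
        (by rw [hsupp]; exact hdZ)).mpr h1
    · have hle : topologicalKrullDim (Z : Set X) ≤ 1 :=
        (topologicalKrullDim_subspace_le X (Z : Set X)).trans hdim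
      have hlt : topologicalKrullDim (Z : Set X) < 1 := lt_of_le_of_ne hle hdZ
      have h0 : topologicalKrullDim (Z : Set X) ≤ 0 := by
        generalize topologicalKrullDim (Z : Set X) = x at hlt
        induction x using WithBot.recBotCoe with
        | bot => exact bot_le
        | coe n =>
          have h3 : n < 1 := by exact_mod_cast hlt
          have h4 : n = 0 := Order.lt_one_iff.mp h3
          rw [h4]
          rfl
      exact isAmple_subscheme_of_dim_le_zero X L hL (Scheme.IdealSheafData.vanishingIdeal Z)
        (by rw [hsupp]; exact hZ.1) (by rw [hsupp]; exact h0)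

end Groth.Agent.S7642
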