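import Groth.Statements.S7643
import Groth.Agent.Lib.Lead.RankAdd
import Groth.Agent.Lib.Lead.ProperEuler
-- import your own Groth.Agent.* helpers here

set_option autoImplicit false
set_option backward.isDefEq.respectTransparency false
universe u
open CategoryTheory CategoryTheory.Limits AlgebraicGeometry
open Variety

namespace Groth.Agent.S7643

/-- Let X be proper of dimension at most one over a field k and let 0 → E₁ → E₂ → E₃ → 0 be a short
exact sequence of finite locally free modules of constant ranks n₁, n₂, n₃. Then deg(E₂) = deg(E₁) +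
deg(E₃). -/
theorem result (k : Type u) [Field k] (X : Scheme.{u}) [X.Over (Spec (CommRingCat.of k))] [IsProper (X ↘ (Spec (CommRingCat.of k)))]
    (hdim : topologicalKrullDim X ≤ 1) (S : ShortComplex X.Modules) (hS : S.ShortExact)
    (n₁ n₂ n₃ : ℕ) (h₁ : FlatMod.IsFinLocFreeOfRank n₁ S.X₁) (h₂ : FlatMod.IsFinLocFreeOfRank n₂ S.X₂)
    (h₃ : FlatMod.IsFinLocFreeOfRank n₃ S.X₃) :
    Curv2.deg k X S.X₂ n₂ = Curv2.deg k X S.X₁ n₁ + Curv2.deg k X S.X₃ n₃ := by
  have c₁ := Groth.Agent.Lib.Lead.RankAdd.isCoh_of_isFinLocFreeOfRank h₁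
  have c₃ := Groth.Agent.Lib.Lead.RankAdd.isCoh_of_isFinLocFreeOfRank h₃
  by_cases hX : Nonempty X
  · have hn := Groth.Agent.Lib.Lead.RankAdd.rank_add_of_shortExact S hS n₁ n₂ n₃ h₁ h₂ h₃
    exact Groth.Agent.Lib.Lead.ProperEuler.deg_additive k hS c₁ c₃ n₁ n₂ n₃ hn
  · haveI : IsEmpty X := not_nonempty_iff.mp hX
    have hz : ∀ F : X.Modules, Curv2.euler k X F = 0 := by
      intro F
      unfold Curv2.euler
      have : ∀ i : ℕ, Module.finrank k (Coh.HH X F i) = 0 := by
        intro i
        haveI : Subsingleton (Coh.HH X F i) := Groth.Agent.Lib.Lead.ProperFin.subsingleton_HH_of_isEmpty X F i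
        exact Module.finrank_zero_of_subsingleton
      simp [this]
    unfold Curv2.deg
    simp [hz]

end Groth.Agent.S7643
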