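import Groth.Statements.S7644
import Mathlib

set_option autoImplicit false
universe u
open CategoryTheory CategoryTheory.Limits AlgebraicGeometry
open Variety

namespace Groth.Agent.S7644

/-- If X is an irreducible scheme of positive dimension, separated over a field k, and x is a closed
point of X, then the open subscheme obtained by removing x is not proper over k. -/
theorem result (k : Type u) [Field k] (X : Scheme.{u}) [X.Over (Spec (CommRingCat.of k))]
    [IsSeparated (X ↘ (Spec (CommRingCat.of k)))] [IrreducibleSpace X] (hdim : 0 < topologicalKrullDim X)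
    (x : X) (hx : IsClosed ({x} : Set X)) :
    ¬ IsProper (Scheme.Opens.ι (⟨({x} : Set X)ᶜ, hx.isOpen_compl⟩ : X.Opens) ≫ (X ↘ (Spec (CommRingCat.of k)))) := by
  intro h
  set U : X.Opens := ⟨({x} : Set X)ᶜ, hx.isOpen_compl⟩ with hU
  have hp : IsProper U.ι := IsProper.of_comp U.ι (X ↘ (Spec (CommRingCat.of k)))
  have hclosed : IsClosed (Set.range U.ι.base) := (Scheme.Hom.isClosedMap U.ι).isClosed_range
  rw [Scheme.Opens.range_ι] at hclosed
  have hclopen : IsClopen (U : Set X) := ⟨hclosed, U.2⟩
  rcases isClopen_iff.mp hclopen with h0 | h1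
  · -- U = ∅, so X = {x}
    have hsub : Subsingleton X := by
      refine ⟨fun a b => ?_⟩
      have ha : a ∉ (U : Set X) := by rw [h0]; exact Set.notMem_empty a
      have hb : b ∉ (U : Set X) := by rw [h0]; exact Set.notMem_empty b
      simp only [hU, TopologicalSpace.Opens.coe_mk, Set.mem_compl_iff, Set.mem_singleton_iff,
        not_not] at ha hb
      rw [ha, hb]
    have : topologicalKrullDim X ≤ 0 := topologicalKrullDim_zero_of_discreteTopology X
    exact absurd hdim (not_lt.mpr this)
  · have : x ∈ (U : Set X) := by rw [h1]; trivial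
    simp [hU] at this

end Groth.Agent.S7644
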