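import Groth.Statements.S7646
import Mathlib
import Groth.Agent.S1627
import Groth.Agent.S0021
import Groth.Agent.Lib.Helper2.SigmaFin
import Groth.Agent.Lib.Helper17.ZeroDim
import Groth.Agent.Lib.Helper18.CompRed

set_option autoImplicit false
universe u
open CategoryTheory CategoryTheory.Limits AlgebraicGeometry
open Variety

namespace Groth.Agent.S7646

open Groth.Agent.Lib.Helper18.CompRed

theorem le_zero_of_le_one_of_ne {d : WithBot ℕ∞} (h1 : d ≤ 1) (hne : d ≠ 1) : d ≤ 0 := by
  have h2 : d < 1 := lt_of_le_of_ne h1 hne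
  induction d using WithBot.recBotCoe with
  | bot => exact bot_le
  | coe n =>
    have h3 : n < 1 := by exact_mod_cast h2
    have h4 : n = 0 := Order.lt_one_iff.1 h3
    rw [h4]
    rfl

/-- Let X be separated and of finite type over a field k with dim X ≤ 1, and assume that no irreducible
component of X of dimension one, given its reduced induced structure, is proper over k. Then X is
affine. -/
theorem result (k : Type u) [Field k] (X : Scheme.{u}) [X.Over (Spec (CommRingCat.of k))]
    [IsSeparated (X ↘ (Spec (CommRingCat.of k)))] [LocallyOfFiniteType (X ↘ (Spec (CommRingCat.of k)))]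
    [IsNoetherian X] (hdim : topologicalKrullDim X ≤ 1)
    (h : ∀ (C : Set X) (hC : C ∈ irreducibleComponents (X : Type u)), topologicalKrullDim C = 1 →
      ¬ IsProper ((X.irreducibleComponentIdeal C hC).radical.subschemeι ≫ (X ↘ (Spec (CommRingCat.of k))))) :
    IsAffine X := by
  haveI : TopologicalSpace.NoetherianSpace X := IsNoetherian.noetherianSpace (X := X)
  haveI : Finite (irreducibleComponents (X : Type u)) :=
    TopologicalSpace.NoetherianSpace.finite_irreducibleComponents.to_subtype
  -- every component is affine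
  have haff : ∀ Z : irreducibleComponents (X : Type u), IsAffine (Cr X Z) := by
    intro Z
    have hdZ : topologicalKrullDim (Cr X Z) ≤ 1 := by
      rw [dim_Cr]
      exact (topologicalKrullDim_subspace_le _ _).trans hdim
    by_cases hd1 : topologicalKrullDim (Cr X Z) = 1
    · letI : (Cr X Z).Over (Spec (CommRingCat.of k)) := ⟨ιr X Z ≫ (X ↘ Spec (CommRingCat.of k))⟩
      haveI : IsSeparated ((Cr X Z) ↘ Spec (CommRingCat.of k)) :=
        inferInstanceAs (IsSeparated (ιr X Z ≫ (X ↘ Spec (CommRingCat.of k))))
      haveI : LocallyOfFiniteType ((Cr X Z) ↘ Spec (CommRingCat.of k)) :=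
        inferInstanceAs (LocallyOfFiniteType (ιr X Z ≫ (X ↘ Spec (CommRingCat.of k))))
      haveI : QuasiCompact ((Cr X Z) ↘ Spec (CommRingCat.of k)) :=
        inferInstanceAs (QuasiCompact (ιr X Z ≫ (X ↘ Spec (CommRingCat.of k))))
      rcases Groth.Agent.S1627.result k (Cr X Z) hd1 with h1 | ⟨d, c, hc, hcw⟩
      · exact h1
      · exfalso
        apply h Z.1 Z.2 (by rw [← dim_Cr]; exact hd1)
        change IsProper ((Cr X Z) ↘ Spec (CommRingCat.of k))
        rw [← hcw]
        haveI := Groth.Agent.Lib.helper19.ProjSpaceProper.proper_toSpec d k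
        infer_instance
    · have hd0 := le_zero_of_le_one_of_ne hdZ hd1
      haveI : IsLocallyNoetherian (Cr X Z) :=
        LocallyOfFiniteType.isLocallyNoetherian (ιr X Z ≫ (X ↘ Spec (CommRingCat.of k)))
      haveI : CompactSpace (Cr X Z) := QuasiCompact.compactSpace_of_compactSpace (ιr X Z)
      haveI : IsNoetherian (Cr X Z) := {}
      have := Groth.Agent.Lib.helper17.isAffineOpen_of_isCompact hd0 (⊤ : (Cr X Z).Opens)
        isCompact_univ
      haveI : IsAffine ((⊤ : (Cr X Z).Opens) : Scheme) := this
      exact IsAffine.of_isIso (Cr X Z).topIso.inv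
  let ν : (∐ fun Z : irreducibleComponents (X : Type u) => Cr X Z) ⟶ X := Sigma.desc (fun Z => ιr X Z)
  haveI : IsFinite ν := Groth.Agent.Lib.helper2.QuotLib.isFinite_sigmaDesc _ _ _ (fun Z => inferInstance)
  haveI : Surjective ν := by
    refine ⟨fun x => ?_⟩
    obtain ⟨Z, hZ, hxZ⟩ := exists_mem_irreducibleComponents_subset_of_isIrreducible ({x} : Set X)
      isIrreducible_singleton
    have hx : x ∈ Set.range (ιr X ⟨Z, hZ⟩) := by
      rw [range_ιr]
      exact hxZ rfl
    obtain ⟨y, rfl⟩ := hx
    refine ⟨(Sigma.ι (fun Z : irreducibleComponents (X : Type u) => Cr X Z) ⟨Z, hZ⟩) y, ?_⟩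
    rw [← Scheme.Hom.comp_apply, Sigma.ι_desc]
  exact Groth.Agent.S0021.result ν

end Groth.Agent.S7646
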