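import Groth.Statements.S7647
import Mathlib
import Groth.Agent.Lib.Helper18.DegTensor
import Groth.Agent.Lib.Helper12.PullAmple

set_option autoImplicit false
universe u
open CategoryTheory CategoryTheory.Limits AlgebraicGeometry
open Variety

namespace Groth.Agent.S7647

open Groth.Agent.Lib.Helper18.DegTensor Groth.Agent.Lib.Lead.ModTensor

/-- `deg(M^{⊗ m}) = m deg M` on a proper scheme of dimension `≤ 1` -/
theorem deg_tensorPow (k : Type u) [Field k] (Z : Scheme.{u}) [Z.Over (Spec (CommRingCat.of k))]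
    [IsProper (Z ↘ (Spec (CommRingCat.of k)))] (hdim : topologicalKrullDim Z ≤ 1)
    (M : Z.Modules) (hM : FlatMod.IsFinLocFreeOfRank 1 M) (m : ℕ) :
    FlatMod.IsFinLocFreeOfRank 1 (CohB1.tensorPow M m) ∧
      Curv2.deg k Z (CohB1.tensorPow M m) 1 = m * Curv2.deg k Z M 1 := by
  induction m with
  | zero =>
    refine ⟨Groth.Agent.Lib.helper16.FLF.isFinLocFreeOfRank_structureModule Z, ?_⟩
    change Curv2.deg k Z (Coh.structureModule Z) 1 = _
    unfold Curv2.deg
    simp
  | succ m ih =>
    have h1 := Groth.Agent.Lib.Helper18.EffCartierCurve.isFinLocFreeOfRank_tensor ih.1 hM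
    have h2 := deg_tensor k Z hdim ih.1 hM
    rw [ih.2] at h2
    refine ⟨h1, ?_⟩
    change Curv2.deg k Z (CohB1.tensorMod (CohB1.tensorPow M m) M) 1 = _
    have h3 : (1 * 1 : ℕ) = 1 := rfl
    rw [h3] at h2
    rw [h2]
    push_cast
    ring

/-- Let X be proper over a field k, Z ⊆ X a closed subscheme of dimension ≤ 1 and L an invertible
module. Then the intersection number (L · Z), i.e. the coefficient of n in the polynomial computing
χ(X, O_Z ⊗ L^{⊗n}), equals the degree of L|_Z on Z. -/
theorem result (k : Type u) [Field k] (X : Scheme.{u}) [X.Over (Spec (CommRingCat.of k))] [IsProper (X ↘ (Spec (CommRingCat.of k)))]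
    (D : X.IdealSheafData) (hD : topologicalKrullDim (D.support : Set X) ≤ 1)
    (L : X.Modules) (hL : PicF.IsInvertible L) (P : MvPolynomial (Fin 1) ℚ)
    (hP : ∀ n : Fin 1 → ℕ, (Curv2.euler k X (Curv2.tensorPows (ClSub.quotMod D) 1 (fun _ => L) n) : ℚ) = MvPolynomial.eval (fun i => (n i : ℚ)) P) :
    MvPolynomial.coeff (Finsupp.equivFunOnFinite.symm fun _ : Fin 1 => 1) P =
      (@Curv2.deg k _ D.subscheme ⟨D.subschemeι ≫ (X ↘ (Spec (CommRingCat.of k)))⟩
        ((Scheme.Modules.pullback D.subschemeι).obj L) 1 : ℚ) := by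
  letI : D.subscheme.Over (Spec (CommRingCat.of k)) :=
    ⟨D.subschemeι ≫ (X ↘ Spec (CommRingCat.of k))⟩
  haveI : IsProper (D.subscheme ↘ Spec (CommRingCat.of k)) :=
    inferInstanceAs (IsProper (D.subschemeι ≫ (X ↘ Spec (CommRingCat.of k))))
  have hi : D.subschemeι ≫ (X ↘ Spec (CommRingCat.of k)) =
    D.subscheme ↘ Spec (CommRingCat.of k) := rfl
  set i := D.subschemeι with hidef
  have hdimZ : topologicalKrullDim D.subscheme ≤ 1 := by
    have e : D.subscheme ≃ₜ ↥(Set.range i) := i.isClosedEmbedding.isEmbedding.toHomeomorph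
    rw [IsHomeomorph.topologicalKrullDim_eq e e.isHomeomorph, hidef,
      Scheme.IdealSheafData.range_subschemeι]
    exact hD
  have hL1 : FlatMod.IsFinLocFreeOfRank 1 L :=
    Groth.Agent.Lib.Helper18.EffCartierCurve.isFinLocFreeOfRank_one_of_isInvertible hL
  have hM1 : FlatMod.IsFinLocFreeOfRank 1 ((Scheme.Modules.pullback i).obj L) :=
    Groth.Agent.Lib.helper16.FLF.isFinLocFreeOfRank_pullback i hL1
  -- the Euler characteristics
  have key : ∀ m : ℕ, Curv2.euler k X (CohB1.tensorMod (ClSub.quotMod D) (CohB1.tensorPow L m)) =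
      m * Curv2.deg k D.subscheme ((Scheme.Modules.pullback i).obj L) 1 + Curv2.euler k D.subscheme (Coh.structureModule D.subscheme) := by
    intro m
    have hLm := Groth.Agent.Lib.helper12.TensorInv.isInvertible_tensorPow hL m
    have hLm1 := Groth.Agent.Lib.Helper18.EffCartierCurve.isFinLocFreeOfRank_one_of_isInvertible hLm
    have T1 := euler_push_tensor k i hi (Coh.structureModule D.subscheme) (CohB1.tensorPow L m)
      (Groth.Agent.Lib.helper16.FLF.isFinLocFree_of_isFinLocFreeOfRank hLm1)
    have T3 := Groth.Agent.Lib.Lead.CurveEuler.euler_eq_of_iso k D.subscheme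
      (leftUnitor ((Scheme.Modules.pullback i).obj (CohB1.tensorPow L m)))
    have T4 := Groth.Agent.Lib.Lead.CurveEuler.euler_eq_of_iso k D.subscheme
      (Groth.Agent.Lib.helper12.PullAmple.pullTensorPowIso i hL m)
    have T5 := (deg_tensorPow k D.subscheme hdimZ _ hM1 m).2
    unfold Curv2.deg at T5
    change Curv2.euler k X (CohB1.tensorMod ((Scheme.Modules.pushforward i).obj
      (Coh.structureModule D.subscheme)) (CohB1.tensorPow L m)) = _
    rw [T1, T3, T4]
    unfold Curv2.deg
    push_cast at T5 ⊢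
    linarith
  set d : ℤ := Curv2.deg k D.subscheme ((Scheme.Modules.pullback i).obj L) 1 with hd
  set c : ℤ := Curv2.euler k D.subscheme (Coh.structureModule D.subscheme) with hc
  have hPQ : P = MvPolynomial.C (c : ℚ) + MvPolynomial.C (d : ℚ) * MvPolynomial.X 0 := by
    refine MvPolynomial.funext_set (fun _ => Set.range ((↑) : ℕ → ℚ))
      (fun _ => Set.infinite_range_of_injective Nat.cast_injective) ?_
    intro x hx
    have hx' : ∀ j : Fin 1, ∃ a : ℕ, (a : ℚ) = x j := fun j => hx j (Set.mem_univ j)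
    choose n hn using hx'
    have hxn : x = fun j => (n j : ℚ) := funext fun j => (hn j).symm
    rw [hxn, ← hP n]
    have h1 : Curv2.tensorPows (ClSub.quotMod D) 1 (fun _ => L) n =
        CohB1.tensorMod (ClSub.quotMod D) (CohB1.tensorPow L (n (Fin.last 0))) := rfl
    rw [h1, key]
    simp only [map_add, map_mul, MvPolynomial.eval_C, MvPolynomial.eval_X]
    push_cast
    ring
  rw [hPQ]
  have hm : (Finsupp.equivFunOnFinite.symm fun _ : Fin 1 => 1) = Finsupp.single (0 : Fin 1) 1 := by
    refine Finsupp.ext fun j => ?_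
    have : j = 0 := Subsingleton.elim _ _
    subst this
    simp
  rw [hm, MvPolynomial.coeff_add, MvPolynomial.coeff_C_mul, MvPolynomial.coeff_C,
    MvPolynomial.coeff_X]
  have hne : (0 : Fin 1 →₀ ℕ) ≠ Finsupp.single (0 : Fin 1) 1 := by
    intro h
    have := congrArg (fun f => f 0) h
    simp at this
  rw [if_neg hne]
  simp

end Groth.Agent.S7647
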