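import Groth.Statements.S7650
import Groth.Agent.Lib.Helper7.SnapperRefined
open Groth.Agent.Lib.helper7.SnapperRefined Groth.Agent.Lib.helper7.SnapperMult Groth.Agent.Lib.helper7.SnapperMain Groth.Agent.Lib.helper7.SnapperDiff

set_option autoImplicit false
universe u
open CategoryTheory CategoryTheory.Limits AlgebraicGeometry
open Variety

namespace Groth.Agent.S7650

/-- Let X be proper over a field k, F a coherent module with dim Supp(F) = d and L_1, …, L_r invertible
modules. The Euler characteristic of F twisted by L_1^{⊗n_1} ⊗ ⋯ ⊗ L_r^{⊗n_r}, minus the sum over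
the d-dimensional irreducible components Z of Supp(F) of the length of F at the generic point of Z
times the Euler characteristic on Z of the restricted twist, agrees with a rational polynomial in
the exponents each of whose monomials has total degree less than d. Here the sum is written over all
points ξ of X whose closure has dimension d (the term vanishes unless ξ is the generic point of a
d-dimensional component of Supp(F)), and Z_ξ carries its reduced induced structure. (The published
statement lets the exponents range over all integers; this row takes them in ℕ.) -/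
theorem result (k : Type u) [Field k] (X : Scheme.{u}) [X.Over (Spec (CommRingCat.of k))] [IsProper (X ↘ (Spec (CommRingCat.of k)))]
    (F : X.Modules) (hF : Coh.IsCoh F) (d : ℕ) (hd : topologicalKrullDim (CohB1.support F) = d)
    (r : ℕ) (L : Fin r → X.Modules) (hL : ∀ i, PicF.IsInvertible (L i)) :
    ∃ P : MvPolynomial (Fin r) ℚ, (∀ m ∈ P.support, (m.sum fun _ e => e) < d) ∧
      ∀ n : Fin r → ℕ,
        (Curv2.euler k X (Curv2.tensorPows F r L n) : ℚ) -
          ∑ᶠ ξ : X, (if topologicalKrullDim (closure ({ξ} : Set X)) = (d : WithBot ℕ∞) then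
            ((Module.length (X.presheaf.stalk ξ) (F.presheaf.stalk ξ)).toNat : ℚ) *
              (@Curv2.euler k _
                (Scheme.IdealSheafData.vanishingIdeal (⟨closure ({ξ} : Set X), isClosed_closure⟩ : TopologicalSpace.Closeds X)).subscheme
                ⟨(Scheme.IdealSheafData.vanishingIdeal (⟨closure ({ξ} : Set X), isClosed_closure⟩ : TopologicalSpace.Closeds X)).subschemeι ≫ (X ↘ (Spec (CommRingCat.of k)))⟩
                (Curv2.tensorPows
                  (Coh.structureModule (Scheme.IdealSheafData.vanishingIdeal (⟨closure ({ξ} : Set X), isClosed_closure⟩ : TopologicalSpace.Closeds X)).subscheme)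
                  r (fun i => (Scheme.Modules.pullback
                    (Scheme.IdealSheafData.vanishingIdeal (⟨closure ({ξ} : Set X), isClosed_closure⟩ : TopologicalSpace.Closeds X)).subschemeι).obj (L i)) n) : ℚ)
            else 0)
          = MvPolynomial.eval (fun i => (n i : ℚ)) P := by
  classical
  haveI := Groth.Agent.Lib.Lead.CurveEuler.isNoetherian k X
  have hd' : topologicalKrullDim (CohB1.support F) ≤ ((d : ℕ) : WithBot ℕ∞) := le_of_eq hd
  have hsn := snapper_refined k F hF d hd' r L hL
  have key : ∀ n : Fin r → ℕ,
      (Curv2.euler k X (Curv2.tensorPows F r L n) : ℚ) -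
        ∑ᶠ ξ : X, (if topologicalKrullDim (closure ({ξ} : Set X)) = (d : WithBot ℕ∞) then
          ((Module.length (X.presheaf.stalk ξ) (F.presheaf.stalk ξ)).toNat : ℚ) *
            (@Curv2.euler k _
              (Scheme.IdealSheafData.vanishingIdeal (⟨closure ({ξ} : Set X), isClosed_closure⟩ : TopologicalSpace.Closeds X)).subscheme
              ⟨(Scheme.IdealSheafData.vanishingIdeal (⟨closure ({ξ} : Set X), isClosed_closure⟩ : TopologicalSpace.Closeds X)).subschemeι ≫ (X ↘ (Spec (CommRingCat.of k)))⟩
              (Curv2.tensorPows
                (Coh.structureModule (Scheme.IdealSheafData.vanishingIdeal (⟨closure ({ξ} : Set X), isClosed_closure⟩ : TopologicalSpace.Closeds X)).subscheme)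
                r (fun i => (Scheme.Modules.pullback
                  (Scheme.IdealSheafData.vanishingIdeal (⟨closure ({ξ} : Set X), isClosed_closure⟩ : TopologicalSpace.Closeds X)).subschemeι).obj (L i)) n) : ℚ)
          else 0)
        = ((chi k X F r L n - psi k X d F r L n : ℤ) : ℚ) := by
    intro n
    rw [Int.cast_sub]
    congr 1
    unfold psi
    have hc : ((∑ᶠ ξ : X, psiTerm k X d F r L n ξ : ℤ) : ℚ) =
        ∑ᶠ ξ : X, ((psiTerm k X d F r L n ξ : ℤ) : ℚ) :=
      (Int.castAddHom ℚ).map_finsum (hasFiniteSupport_psiTerm k d F hF hd' r L n)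
    rw [hc]
    congr 1
    funext ξ
    unfold psiTerm
    split_ifs with hξ
    · rw [Int.cast_mul, Int.cast_natCast]
      congr 2
      haveI : (Coh.structureModule (Jx ξ).subscheme).IsQuasicoherent :=
        (Groth.Agent.Lib.helper8.Dev.isCoh_structureModule _).1
      exact (chi_push k X (Jx ξ).subschemeι (Coh.structureModule _) r L hL n).symm
    · simp
  rcases d with _ | d'
  · refine ⟨0, fun m hm => by simp at hm, fun n => ?_⟩
    rw [key n, map_zero]
    have h0 : chi k X F r L n - psi k X 0 F r L n = 0 := hsn n
    rw [h0, Int.cast_zero]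
  · obtain ⟨P, hP1, hP2⟩ := hsn.exists_poly
    refine ⟨P, fun m hm => ?_, fun n => ?_⟩
    · exact lt_of_le_of_lt ((MvPolynomial.le_totalDegree hm).trans hP1) (Nat.lt_succ_self d')
    · rw [key n]
      exact hP2 n

end Groth.Agent.S7650
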