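import Groth.Statements.S7651
import Mathlib
-- import your own Groth.Agent.* helpers here

set_option autoImplicit false
universe u
open CategoryTheory CategoryTheory.Limits AlgebraicGeometry
open Variety

namespace Groth.Agent.S7651

open IsLocalRing in
lemma max_not_min (A : Type u) [CommRing A] [IsLocalRing A] (hdim : ringKrullDim A = 1) :
    maximalIdeal A ∉ minimalPrimes A := by
  intro h
  have : Ring.KrullDimLE 0 A := by
    refine .mk₀ fun I hI => ?_
    have h1 : I ≤ maximalIdeal A := le_maximalIdeal hI.ne_top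
    have h2 : maximalIdeal A ≤ I := h.2 ⟨hI, bot_le⟩ h1
    rw [le_antisymm h1 h2]; infer_instance
  have := Ring.krullDimLE_iff.mp this
  rw [hdim] at this
  norm_num at this

open IsLocalRing in
lemma eq_max_of_not_min (A : Type u) [CommRing A] [IsLocalRing A] (hdim : ringKrullDim A = 1)
    (p : Ideal A) [hp : p.IsPrime] (hpm : p ∉ minimalPrimes A) : p = maximalIdeal A := by
  obtain ⟨q, hq, hqp⟩ := Ideal.exists_minimalPrimes_le (bot_le : ⊥ ≤ p)
  have hqp' : q < p := lt_of_le_of_ne hqp (fun h => hpm (h ▸ hq))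
  by_contra hne
  have hpm' : p < maximalIdeal A := lt_of_le_of_ne (le_maximalIdeal hp.ne_top) hne
  have hqP : q.IsPrime := hq.1.1
  let Q : PrimeSpectrum A := ⟨q, hqP⟩
  let P : PrimeSpectrum A := ⟨p, hp⟩
  let M : PrimeSpectrum A := ⟨maximalIdeal A, inferInstance⟩
  have h1 : Q < P := hqp'
  have h2 : P < M := hpm'
  have h3 := Order.height_add_one_le h1
  have h4 := Order.height_add_one_le h2
  have h5 := Order.height_le_krullDim M
  have h6 : (2 : ℕ∞) ≤ Order.height M := by
    calc (2 : ℕ∞) = 0 + 1 + 1 := by norm_num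
      _ ≤ Order.height Q + 1 + 1 := by gcongr; exact zero_le
      _ ≤ Order.height P + 1 := by gcongr
      _ ≤ Order.height M := h4
  have h7 : ((2 : ℕ∞) : WithBot ℕ∞) ≤ 1 := by
    rw [← hdim]; exact (WithBot.coe_le_coe.mpr h6).trans h5
  have h8 : ((2 : ℕ∞) : WithBot ℕ∞) ≤ ((1 : ℕ∞) : WithBot ℕ∞) := h7
  rw [WithBot.coe_le_coe] at h8
  norm_num at h8

open IsLocalRing in
lemma min_of_not_mem (A : Type u) [CommRing A] [IsLocalRing A] (hdim : ringKrullDim A = 1)
    {f : A} (hf : f ∈ maximalIdeal A)
    (p : Ideal A) [hp : p.IsPrime] (hfp : f ∉ p) : p ∈ minimalPrimes A := by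
  by_contra h
  exact hfp (eq_max_of_not_min A hdim p h ▸ hf)

open IsLocalRing in
lemma exists_avoid (A : Type u) [CommRing A] [IsLocalRing A] [IsNoetherianRing A]
    (hdim : ringKrullDim A = 1) :
    ∃ f ∈ maximalIdeal A, ∀ p ∈ minimalPrimes A, f ∉ p := by
  by_contra hcon
  push Not at hcon
  have hfin := minimalPrimes.finite_of_isNoetherianRing A
  have hsub : (maximalIdeal A : Set A) ⊆ ⋃ p ∈ (hfin.toFinset : Set (Ideal A)), ((id p : Ideal A) : Set A) := by
    intro f hf
    obtain ⟨p, hp, hfp⟩ := hcon f hf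
    simp only [Set.mem_iUnion]
    exact ⟨p, by simpa using hp, hfp⟩
  rw [Ideal.subset_union_prime (s := hfin.toFinset) (f := id) ⊥ ⊥
    (fun p hp _ _ => ((hfin.mem_toFinset.mp hp).1.1))] at hsub
  obtain ⟨p, hp, hmp⟩ := hsub
  have hp' := hfin.mem_toFinset.mp hp
  have : p = maximalIdeal A := le_antisymm (le_maximalIdeal hp'.1.1.ne_top) hmp
  exact max_not_min A hdim (this ▸ hp')

open IsLocalRing in
lemma radical_iff (A : Type u) [CommRing A] [IsLocalRing A]
    (hdim : ringKrullDim A = 1) {f : A} (hf : f ∈ maximalIdeal A) :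
    (maximalIdeal A = (Ideal.span {f}).radical) ↔ (∀ p ∈ minimalPrimes A, f ∉ p) := by
  constructor
  · intro h p hp hfp
    have h1 : (Ideal.span {f}).radical ≤ p :=
      hp.1.1.radical_le_iff.mpr ((Ideal.span_singleton_le_iff_mem _).mpr hfp)
    rw [← h] at h1
    have : p = maximalIdeal A := le_antisymm (le_maximalIdeal hp.1.1.ne_top) h1
    exact max_not_min A hdim (this ▸ hp)
  · intro h
    apply le_antisymm
    · rw [Ideal.radical_eq_sInf]
      refine le_sInf fun J ⟨hJ, hJp⟩ => ?_
      have hfJ : f ∈ J := hJ (Ideal.mem_span_singleton_self f)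
      have : J ∉ minimalPrimes A := fun hJm => h J hJm hfJ
      rw [eq_max_of_not_min A hdim J this]
    · exact (Ideal.IsPrime.radical_le_iff inferInstance).mpr
        ((Ideal.span_singleton_le_iff_mem _).mpr hf)

open IsLocalRing in
lemma min_comap (A : Type u) [CommRing A] [IsLocalRing A] (hdim : ringKrullDim A = 1)
    {f : A} (hf : f ∈ maximalIdeal A) (P : Ideal (Localization.Away f)) [hP : P.IsPrime] :
    (P.comap (algebraMap A (Localization.Away f))) ∈ minimalPrimes A := by
  apply min_of_not_mem A hdim hf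
  intro hfP
  exact hP.ne_top (Ideal.eq_top_of_isUnit_mem _ hfP (IsLocalization.Away.algebraMap_isUnit f))

open IsLocalRing in
lemma krullDimLE_zero_away (A : Type u) [CommRing A] [IsLocalRing A] (hdim : ringKrullDim A = 1)
    {f : A} (hf : f ∈ maximalIdeal A) : Ring.KrullDimLE 0 (Localization.Away f) := by
  refine .mk₀ fun P hP => ?_
  obtain ⟨Q, hQ, hPQ⟩ := Ideal.exists_le_maximal P hP.ne_top
  have hQp : Q.IsPrime := hQ.isPrime
  have h2 := min_comap A hdim hf Q
  have hle : P.comap (algebraMap A _) ≤ Q.comap (algebraMap A _) := Ideal.comap_mono hPQ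
  have heq : Q.comap (algebraMap A _) ≤ P.comap (algebraMap A _) :=
    h2.2 ⟨inferInstance, bot_le⟩ hle
  have e : Ideal.under A P = Ideal.under A Q := le_antisymm hle heq
  have : P = Q := by
    rw [← IsLocalization.map_comap (Submonoid.powers f) _ P,
      ← IsLocalization.map_comap (Submonoid.powers f) _ Q, e]
  exact this ▸ hQ

open IsLocalRing in
lemma exists_equiv (A : Type u) [CommRing A] [IsLocalRing A] [IsNoetherianRing A]
    (hdim : ringKrullDim A = 1) {f : A} (hf : f ∈ maximalIdeal A)
    (h : ∀ p ∈ minimalPrimes A, f ∉ p) :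
    Nonempty (Localization.Away f ≃ₐ[A]
      (∀ p : {p : PrimeSpectrum A // p.asIdeal ∈ minimalPrimes A},
        Localization.AtPrime p.1.asIdeal)) := by
  have hK := krullDimLE_zero_away A hdim hf
  have hN : IsNoetherianRing (Localization.Away f) :=
    IsLocalization.isNoetherianRing (Submonoid.powers f) _ inferInstance
  have hArt : IsArtinianRing (Localization.Away f) :=
    isArtinianRing_iff_isNoetherianRing_krullDimLE_zero.mpr ⟨hN, hK⟩
  have hψ := PrimeSpectrum.toPiLocalization_bijective (R := Localization.Away f)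
  have hu : IsUnit (algebraMap A (∀ p : {p : PrimeSpectrum A // p.asIdeal ∈ minimalPrimes A},
      Localization.AtPrime p.1.asIdeal) f) := by
    rw [Pi.isUnit_iff]
    intro p
    exact IsLocalization.map_units (M := p.1.asIdeal.primeCompl) _ ⟨f, h _ p.2⟩
  let φ₀ : Localization.Away f →+* (∀ p : {p : PrimeSpectrum A // p.asIdeal ∈ minimalPrimes A},
      Localization.AtPrime p.1.asIdeal) := IsLocalization.Away.lift f hu
  let φ : Localization.Away f →ₐ[A] (∀ p : {p : PrimeSpectrum A // p.asIdeal ∈ minimalPrimes A},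
      Localization.AtPrime p.1.asIdeal) :=
    { φ₀ with commutes' := fun a => IsLocalization.Away.lift_eq f hu a }
  let idx : PrimeSpectrum (Localization.Away f) →
      {p : PrimeSpectrum A // p.asIdeal ∈ minimalPrimes A} := fun P =>
    ⟨⟨P.asIdeal.comap (algebraMap A (Localization.Away f)), inferInstance⟩,
      min_comap A hdim hf P.asIdeal⟩
  let θ : (∀ p : {p : PrimeSpectrum A // p.asIdeal ∈ minimalPrimes A},
      Localization.AtPrime p.1.asIdeal) →+* PrimeSpectrum.PiLocalization (Localization.Away f) :=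
    Pi.ringHom fun P =>
      ((IsLocalization.localizationLocalizationAtPrimeIsoLocalization (Submonoid.powers f)
        P.asIdeal).toAlgHom.toRingHom).comp
      (Pi.evalRingHom _ (idx P))
  have hθφ : θ.comp φ₀ = (PrimeSpectrum.toPiLocalization (Localization.Away f)).toRingHom := by
    apply IsLocalization.ringHom_ext (Submonoid.powers f)
    ext a P
    simp only [RingHom.comp_apply, θ, φ₀, IsLocalization.Away.lift_eq]
    change (IsLocalization.localizationLocalizationAtPrimeIsoLocalization (Submonoid.powers f)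
      P.asIdeal) (algebraMap A _ a) = algebraMap (Localization.Away f)
        (Localization.AtPrime P.asIdeal) (algebraMap A (Localization.Away f) a)
    rw [AlgEquiv.commutes, ← IsScalarTower.algebraMap_apply]
  have hθinj : Function.Injective θ := by
    intro x y hxy
    have key : ∀ P : PrimeSpectrum (Localization.Away f), x (idx P) = y (idx P) := by
      intro P
      have := congrFun hxy P
      exact (IsLocalization.localizationLocalizationAtPrimeIsoLocalization (Submonoid.powers f)
        P.asIdeal).injective this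
    funext p
    have hdisj : Disjoint (Submonoid.powers f : Set A) (p.1.asIdeal : Set A) := by
      rw [Set.disjoint_left]
      rintro _ ⟨n, rfl⟩ hn
      exact h _ p.2 (p.1.2.mem_of_pow_mem n hn)
    have hPp : (Ideal.map (algebraMap A (Localization.Away f)) p.1.asIdeal).IsPrime :=
      IsLocalization.isPrime_of_isPrime_disjoint (Submonoid.powers f) _ _ p.1.2 hdisj
    have hcm := IsLocalization.comap_map_of_isPrime_disjoint (Submonoid.powers f)
      (Localization.Away f) p.1.2 hdisj
    have hp : idx ⟨_, hPp⟩ = p := Subtype.ext (PrimeSpectrum.ext hcm)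
    exact hp ▸ key ⟨_, hPp⟩
  refine ⟨AlgEquiv.ofBijective φ ⟨?_, ?_⟩⟩
  · have : Function.Injective (θ ∘ φ₀) := by
      have h1 : Function.Injective (θ.comp φ₀) := by rw [hθφ]; exact hψ.1
      exact h1
    exact Function.Injective.of_comp this
  · intro x
    obtain ⟨a, ha⟩ := hψ.2 (θ x)
    refine ⟨a, hθinj ?_⟩
    rw [← ha]
    exact congrFun (congrArg DFunLike.coe hθφ) a

lemma not_mem_of_equiv (A : Type u) [CommRing A] {f : A}
    (e : Localization.Away f ≃ₐ[A]
      (∀ p : {p : PrimeSpectrum A // p.asIdeal ∈ minimalPrimes A},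
        Localization.AtPrime p.1.asIdeal)) (p : Ideal A) (hp : p ∈ minimalPrimes A) : f ∉ p := by
  have hp' : p.IsPrime := hp.1.1
  have hu : IsUnit (algebraMap A (Localization.Away f) f) :=
    IsLocalization.Away.algebraMap_isUnit f
  have h1 := hu.map e
  rw [AlgEquiv.commutes, Pi.isUnit_iff] at h1
  have h2 := h1 ⟨⟨p, hp'⟩, hp⟩
  exact (IsLocalization.AtPrime.isUnit_to_map_iff (Localization.AtPrime p) p f).mp h2

lemma not_mem_of_equiv' (A : Type u) [CommRing A] {f : A}
    (e : Localization.Away f ≃ₐ[A]
      (∀ p : {p : PrimeSpectrum A // p.asIdeal ∈ minimalPrimes A},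
        p.1.asIdeal.ResidueField)) (p : Ideal A) (hp : p ∈ minimalPrimes A) : f ∉ p := by
  have hp' : p.IsPrime := hp.1.1
  have hu : IsUnit (algebraMap A (Localization.Away f) f) :=
    IsLocalization.Away.algebraMap_isUnit f
  have h1 := hu.map e
  rw [AlgEquiv.commutes, Pi.isUnit_iff] at h1
  have h2 : IsUnit (algebraMap A p.ResidueField f) := h1 ⟨⟨p, hp'⟩, hp⟩
  intro hfp
  rw [← Ideal.algebraMap_residueField_eq_zero] at hfp
  rw [hfp] at h2
  exact not_isUnit_zero h2

open IsLocalRing in
lemma exists_regular_of_depth (A : Type u) [CommRing A] [IsLocalRing A]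
    (hd : LocCoh.depth A A = 1) : ∃ g ∈ maximalIdeal A, IsSMulRegular A g := by
  unfold LocCoh.depth LocCoh.idealDepth at hd
  split_ifs at hd with h1
  · simp at hd
  · by_contra hcon
    push Not at hcon
    have : (⨆ (rs : List A) (_ : RingTheory.Sequence.IsWeaklyRegular A rs ∧
        ∀ r ∈ rs, r ∈ maximalIdeal A), (rs.length : ℕ∞)) ≤ 0 := by
      refine iSup₂_le fun rs hrs => ?_
      cases rs with
      | nil => simp
      | cons r rs =>
        exfalso
        have h2 := hrs.1
        rw [RingTheory.Sequence.isWeaklyRegular_cons_iff] at h2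
        exact hcon r (hrs.2 r (by simp)) h2.1
    rw [hd] at this
    simp at this

open IsLocalRing in
lemma nzd_of_avoid (A : Type u) [CommRing A] [IsLocalRing A] [IsNoetherianRing A]
    (hdim : ringKrullDim A = 1) (hd : LocCoh.depth A A = 1 ∨ IsReduced A) {f : A}
    (h : ∀ p ∈ minimalPrimes A, f ∉ p) : f ∈ nonZeroDivisors A := by
  rw [mem_nonZeroDivisors_iff_right]
  intro a hfa
  rcases hd with hd | hd
  · obtain ⟨g, hg, hreg⟩ := exists_regular_of_depth A hd
    by_contra ha
    obtain ⟨P, hP, hle⟩ := exists_le_isAssociatedPrime_of_isNoetherianRing A a ha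
    rw [isAssociatedPrime_iff] at hP
    obtain ⟨hPp, b, hb⟩ := hP
    have hfP : f ∈ P := hle (by
      rw [Submodule.mem_colon_singleton]; simpa [mul_comm] using hfa)
    have hPm : P ∉ minimalPrimes A := fun hm => h P hm hfP
    have hPeq := eq_max_of_not_min A hdim P hPm
    have hgP : g ∈ P := hPeq ▸ hg
    rw [hb, Submodule.mem_colon_singleton] at hgP
    have hb0 : b = 0 := hreg (by simpa using hgP)
    rw [hb0] at hb
    have : (1 : A) ∈ P := by rw [hb, Submodule.mem_colon_singleton]; simp
    exact hPp.ne_top ((Ideal.eq_top_iff_one _).mpr this)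
  · have : a ∈ sInf (minimalPrimes A) := by
      rw [Ideal.mem_sInf]
      intro p hp
      have : a * f ∈ p := by rw [hfa]; exact zero_mem _
      exact (hp.1.1.mem_or_mem this).resolve_right (h p hp)
    have h2 : sInf (minimalPrimes A) = ⊥ := by
      unfold minimalPrimes
      rw [Ideal.sInf_minimalPrimes]
      exact (nilradical_eq_zero A)
    rw [h2] at this
    exact this

open IsLocalRing in
lemma nzd_isUnit (A : Type u) [CommRing A] [IsLocalRing A]
    (hdim : ringKrullDim A = 1) {f : A} (hf : f ∈ maximalIdeal A)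
    (r : A) (hr : r ∈ nonZeroDivisors A) :
    IsUnit (algebraMap A (Localization.Away f) r) := by
  by_cases hrm : r ∈ maximalIdeal A
  · have hr' : ∀ p ∈ minimalPrimes A, r ∉ p := fun p hp hrp =>
      Set.disjoint_left.mp (Ideal.disjoint_nonZeroDivisors_of_mem_minimalPrimes hp) hrp hr
    have h1 := (radical_iff A hdim hrm).mpr hr'
    have h2 : f ∈ (Ideal.span {r}).radical := h1 ▸ hf
    obtain ⟨n, hn⟩ := h2
    rw [Ideal.mem_span_singleton'] at hn
    obtain ⟨c, hc⟩ := hn
    have h3 : IsUnit (algebraMap A (Localization.Away f) (c * r)) := by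
      rw [hc, map_pow]; exact (IsLocalization.Away.algebraMap_isUnit f).pow n
    rw [map_mul] at h3
    exact isUnit_of_mul_isUnit_right h3
  · have : IsUnit r := by
      by_contra hnu
      exact hrm ((mem_maximalIdeal r).mpr hnu)
    exact this.map _

open IsLocalRing in
lemma nzd_of_isLocalization (A : Type u) [CommRing A] {f : A}
    (hL : IsLocalization (nonZeroDivisors A) (Localization.Away f)) : f ∈ nonZeroDivisors A := by
  have hu : IsUnit (algebraMap A (Localization.Away f) f) :=
    IsLocalization.Away.algebraMap_isUnit f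
  obtain ⟨u, hu'⟩ := hu.exists_right_inv
  obtain ⟨⟨a, s⟩, has⟩ := IsLocalization.surj (nonZeroDivisors A) u
  have hinj : Function.Injective (algebraMap A (Localization.Away f)) :=
    IsLocalization.injective _ (le_refl (nonZeroDivisors A))
  have h1 : f * a = s := by
    apply hinj
    rw [map_mul, ← has, ← mul_assoc, hu', one_mul]
  rw [mem_nonZeroDivisors_iff_right]
  intro b hb
  have : b * (s : A) = 0 := by rw [← h1, ← mul_assoc, hb, zero_mul]
  exact (mem_nonZeroDivisors_iff_right.mp s.2) b this

lemma bijective_residue (A : Type u) [CommRing A] [IsReduced A] (p : Ideal A)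
    (hp : p ∈ minimalPrimes A) [p.IsPrime] :
    Function.Bijective (algebraMap (Localization.AtPrime p) p.ResidueField) := by
  constructor
  · rw [injective_iff_map_eq_zero]
    intro x hx
    have hx' : x ∈ IsLocalRing.maximalIdeal (Localization.AtPrime p) := by
      rwa [IsLocalRing.ResidueField.algebraMap_eq, IsLocalRing.residue_eq_zero_iff] at hx
    have hsub := IsLocalization.subsingleton_primeSpectrum_of_mem_minimalPrimes p hp
      (Localization.AtPrime p)
    have : x ∈ nilradical (Localization.AtPrime p) := by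
      rw [nilradical_eq_sInf, Ideal.mem_sInf]
      intro J hJ
      have h1 : (⟨J, hJ⟩ : PrimeSpectrum _) = ⟨IsLocalRing.maximalIdeal _, inferInstance⟩ :=
        Subsingleton.elim _ _
      have h2 : J = IsLocalRing.maximalIdeal _ := congrArg PrimeSpectrum.asIdeal h1
      rw [h2]; exact hx'
    rw [nilradical_eq_zero] at this
    exact this
  · rw [IsLocalRing.ResidueField.algebraMap_eq]
    exact IsLocalRing.residue_surjective

lemma exists_equiv_residue (A : Type u) [CommRing A] [IsReduced A] :
    Nonempty ((∀ p : {p : PrimeSpectrum A // p.asIdeal ∈ minimalPrimes A},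
        Localization.AtPrime p.1.asIdeal) ≃ₐ[A]
      (∀ p : {p : PrimeSpectrum A // p.asIdeal ∈ minimalPrimes A},
        p.1.asIdeal.ResidueField)) := by
  refine ⟨AlgEquiv.piCongrRight fun p => ?_⟩
  exact AlgEquiv.ofBijective (IsScalarTower.toAlgHom A (Localization.AtPrime p.1.asIdeal)
    p.1.asIdeal.ResidueField) (bijective_residue A p.1.asIdeal p.2)


/-- Let (A, m) be a Noetherian local ring of dimension one and f ∈ m. Then (1) m = √(f), (2) f lies in
no minimal prime of A, and (3) A_f ≅ ∏_{p minimal} A_p as A-algebras, are equivalent; such an f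
exists; if A has depth one, for instance if A is reduced, they are also equivalent to (4) f is a
nonzerodivisor and to (5) A → A_f is the localization of A at all its nonzerodivisors; and if A is
reduced they are also equivalent to (6) A_f ≅ ∏_{p minimal} κ(p) as A-algebras. -/
theorem result (A : Type u) [CommRing A] [IsLocalRing A]
    [IsNoetherianRing A] (hdim : ringKrullDim A = 1) :
    (∃ f ∈ IsLocalRing.maximalIdeal A, ∀ p ∈ minimalPrimes A, f ∉ p) ∧
    ∀ f ∈ IsLocalRing.maximalIdeal A,
      ((IsLocalRing.maximalIdeal A = (Ideal.span {f}).radical) ↔ (∀ p ∈ minimalPrimes A, f ∉ p)) ∧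
      ((∀ p ∈ minimalPrimes A, f ∉ p) ↔
        Nonempty (Localization.Away f ≃ₐ[A] (∀ p : {p : PrimeSpectrum A // p.asIdeal ∈ minimalPrimes A}, Localization.AtPrime p.1.asIdeal))) ∧
      ((LocCoh.depth A A = 1 ∨ IsReduced A) →
        ((∀ p ∈ minimalPrimes A, f ∉ p) ↔ f ∈ nonZeroDivisors A) ∧
        ((∀ p ∈ minimalPrimes A, f ∉ p) ↔ IsLocalization (nonZeroDivisors A) (Localization.Away f))) ∧
      (IsReduced A →
        ((∀ p ∈ minimalPrimes A, f ∉ p) ↔
          Nonempty (Localization.Away f ≃ₐ[A] (∀ p : {p : PrimeSpectrum A // p.asIdeal ∈ minimalPrimes A}, p.1.asIdeal.ResidueField)))) := by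
  refine ⟨exists_avoid A hdim, fun f hf => ⟨radical_iff A hdim hf, ?_, ?_, ?_⟩⟩
  · exact ⟨fun h => exists_equiv A hdim hf h, fun ⟨e⟩ p hp => not_mem_of_equiv A e p hp⟩
  · intro hd
    have key : (∀ p ∈ minimalPrimes A, f ∉ p) ↔ f ∈ nonZeroDivisors A :=
      ⟨fun h => nzd_of_avoid A hdim hd h, fun h p hp hfp =>
        Set.disjoint_left.mp (Ideal.disjoint_nonZeroDivisors_of_mem_minimalPrimes hp) hfp h⟩
    refine ⟨key, ?_⟩
    constructor
    · intro h
      have hnzd := key.mp h
      exact IsLocalization.of_le (Submonoid.powers f) (nonZeroDivisors A)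
        ((Submonoid.powers_le).mpr hnzd) (fun r hr => nzd_isUnit A hdim hf r hr)
    · intro hL
      exact key.mpr (nzd_of_isLocalization A hL)
  · intro hred
    constructor
    · intro h
      obtain ⟨e⟩ := exists_equiv A hdim hf h
      obtain ⟨e'⟩ := exists_equiv_residue A
      exact ⟨e.trans e'⟩
    · rintro ⟨e⟩ p hp
      exact not_mem_of_equiv' A e p hp

end Groth.Agent.S7651
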