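import Groth.Statements.S7653
import Mathlib

set_option autoImplicit false
universe u
open CategoryTheory CategoryTheory.Limits AlgebraicGeometry
open Variety

namespace Groth.Agent.S7653

theorem idem_local {C : Type*} [CommRing C] [IsLocalRing C] {f : C}
    (hf : IsIdempotentElem f) : f = 0 ∨ f = 1 := by
  rcases IsLocalRing.isUnit_or_isUnit_one_sub_self f with h | h
  · right
    exact (IsIdempotentElem.iff_eq_one_of_isUnit h).mp hf
  · left
    have h1 : IsIdempotentElem (1 - f) := hf.one_sub
    have := (IsIdempotentElem.iff_eq_one_of_isUnit h).mp h1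
    rw [sub_eq_self] at this
    exact this

/-- A reduced Noetherian local ring in which every element of the total ring of fractions that is
integral over `A` comes from `A` is a domain. -/
theorem isDomain_of_closed (A : Type u) [CommRing A] [IsLocalRing A] [IsReduced A]
    [IsNoetherianRing A]
    (hcl : ∀ z : FractionRing A, IsIntegral A z → ∃ a : A, algebraMap A (FractionRing A) a = z) :
    IsDomain A := by
  classical
  have hfin : (minimalPrimes A).Finite := minimalPrimes.finite_of_isNoetherianRing A
  have hInf : sInf (minimalPrimes A) = (⊥ : Ideal A) := by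
    have h1 : sInf (minimalPrimes A) = (⊥ : Ideal A).radical := Ideal.sInf_minimalPrimes
    rw [h1]
    simpa [nilradical, Ideal.zero_eq_bot] using nilradical_eq_zero A
  obtain ⟨p₁, hp₁⟩ : (minimalPrimes A).Nonempty := by
    obtain ⟨p, hp, -⟩ := Ideal.exists_minimalPrimes_le (I := (⊥ : Ideal A)) (J := IsLocalRing.maximalIdeal A) bot_le
    exact ⟨p, hp⟩
  have hp₁prime : p₁.IsPrime := hp₁.1.1
  -- every minimal prime equals `p₁`
  have hall : ∀ q ∈ minimalPrimes A, q = p₁ := by
    by_contra hcon
    push Not at hcon
    obtain ⟨q₀, hq₀, hq₀ne⟩ := hcon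
    set P' : Finset (Ideal A) := hfin.toFinset.erase p₁ with hP'
    have hP'mem : ∀ q, q ∈ P' ↔ q ∈ minimalPrimes A ∧ q ≠ p₁ := by
      intro q
      simp [hP', and_comm]
    have hq₀P' : q₀ ∈ P' := (hP'mem q₀).mpr ⟨hq₀, hq₀ne⟩
    -- choose x ∈ p₁ outside all the other minimal primes
    have hx : ∃ x ∈ p₁, ∀ q ∈ P', x ∉ q := by
      by_contra hno
      push Not at hno
      have hsub : ((p₁ : Ideal A) : Set A) ⊆ ⋃ i ∈ (↑P' : Set (Ideal A)), (id i : Ideal A) := by
        intro x hx
        obtain ⟨q, hq, hxq⟩ := hno x hx
        exact Set.mem_biUnion (by exact_mod_cast hq) hxq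
      obtain ⟨q, hq, hle⟩ := (Ideal.subset_union_prime (f := id) p₁ p₁ (fun i hi _ _ =>
        ((hP'mem i).mp hi).1.1.1)).mp hsub
      have hqm := (hP'mem q).mp hq
      have : q ≤ p₁ := hqm.1.2 ⟨hp₁prime, bot_le⟩ hle
      exact hqm.2 (le_antisymm this hle)
    obtain ⟨x, hxp₁, hxq⟩ := hx
    -- choose y in all the other minimal primes, outside p₁
    have hy : ∃ y, (∀ q ∈ P', y ∈ q) ∧ y ∉ p₁ := by
      by_contra hno
      push Not at hno
      have hle : P'.inf id ≤ p₁ := by
        intro y hy
        apply hno y
        intro q hq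
        exact (Finset.inf_le hq : P'.inf id ≤ id q) hy
      obtain ⟨q, hq, hqle⟩ := (Ideal.IsPrime.inf_le' hp₁prime).mp hle
      have hqm := (hP'mem q).mp hq
      have : p₁ ≤ q := hp₁.2 ⟨hqm.1.1.1, bot_le⟩ hqle
      exact hqm.2 (le_antisymm hqle this)
    obtain ⟨y, hyq, hyp₁⟩ := hy
    have hxy : x * y = 0 := by
      have : x * y ∈ sInf (minimalPrimes A) := by
        rw [Ideal.mem_sInf]
        intro q hq
        by_cases hqp : q = p₁
        · rw [hqp]; exact Ideal.mul_mem_right _ _ hxp₁
        · exact Ideal.mul_mem_left _ _ (hyq q ((hP'mem q).mpr ⟨hq, hqp⟩))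
      rw [hInf] at this
      exact this
    have hs : ∀ q ∈ minimalPrimes A, x + y ∉ q := by
      intro q hq hmem
      by_cases hqp : q = p₁
      · rw [hqp] at hmem
        exact hyp₁ ((Ideal.add_mem_iff_right _ hxp₁).mp hmem)
      · have hqP' := (hP'mem q).mpr ⟨hq, hqp⟩
        exact hxq q hqP' ((Ideal.add_mem_iff_left _ (hyq q hqP')).mp hmem)
    have hsnzd : x + y ∈ nonZeroDivisors A := by
      rw [mem_nonZeroDivisors_iff_right]
      intro c hc
      have : c ∈ sInf (minimalPrimes A) := by
        rw [Ideal.mem_sInf]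
        intro q hq
        have hq' : q.IsPrime := hq.1.1
        have : c * (x + y) ∈ q := by rw [hc]; exact q.zero_mem
        exact (hq'.mem_or_mem this).resolve_right (hs q hq)
      rw [hInf] at this
      exact this
    set e : FractionRing A := IsLocalization.mk' (FractionRing A) x ⟨x + y, hsnzd⟩ with he
    have hee : e * e = e := by
      rw [he, ← IsLocalization.mk'_mul, IsLocalization.mk'_eq_iff_eq]
      congr 1
      show (⟨x + y, hsnzd⟩ : nonZeroDivisors A).1 * (x * x) = ((x + y) * (x + y)) * x
      linear_combination (-(x + y)) * hxy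
    have hint : IsIntegral A e := by
      refine ⟨Polynomial.X ^ 2 - Polynomial.X, ?_, ?_⟩
      · exact Polynomial.monic_X_pow_sub (by simp [Polynomial.degree_X])
      · simp [pow_two, hee]
    obtain ⟨a, ha⟩ := hcl e hint
    have hinj : Function.Injective (algebraMap A (FractionRing A)) :=
      IsFractionRing.injective A (FractionRing A)
    have haa : IsIdempotentElem a := by
      apply hinj
      rw [map_mul, ha, hee]
    have hspec : algebraMap A (FractionRing A) x = e * algebraMap A (FractionRing A) (x + y) := by
      rw [he]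
      exact (IsLocalization.mk'_spec (FractionRing A) x ⟨x + y, hsnzd⟩).symm
    rcases idem_local haa with h0 | h1
    · have : algebraMap A (FractionRing A) x = 0 := by
        rw [hspec, ← ha, h0, map_zero, zero_mul]
      have hx0 : x = 0 := hinj (by rw [this, map_zero])
      exact hxq q₀ hq₀P' (hx0 ▸ q₀.zero_mem)
    · have : algebraMap A (FractionRing A) x = algebraMap A (FractionRing A) (x + y) := by
        rw [hspec, ← ha, h1, map_one, one_mul]
      have hy0 : y = 0 := by
        have := hinj this
        exact (left_eq_add.mp this)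
      exact hyp₁ (hy0 ▸ p₁.zero_mem)
  have hbot : p₁ = ⊥ := by
    rw [← hInf]
    apply le_antisymm
    · apply le_sInf
      intro q hq
      rw [hall q hq]
    · exact sInf_le hp₁
  have hbp : (⊥ : Ideal A).IsPrime := hbot ▸ hp₁prime
  have : NoZeroDivisors A := ⟨fun {a b} hab => by
    have h : a * b ∈ (⊥ : Ideal A) := by rw [hab]; exact Ideal.zero_mem _
    rcases hbp.mem_or_mem h with h | h
    · exact Or.inl ((Ideal.mem_bot).mp h)
    · exact Or.inr ((Ideal.mem_bot).mp h)⟩
  exact NoZeroDivisors.to_isDomain A


/-- For a reduced local Nagata ring A of Krull dimension one, the δ-invariant of A is zero exactly when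
A is a DVR (in particular a domain). -/
theorem result (A : Type u) [CommRing A] [IsLocalRing A]
    [IsReduced A] (hN : CAlg.IsNagata A) (hdim : ringKrullDim A = 1) :
    Curv2.deltaInv A = 0 ↔ ∃ _ : IsDomain A, IsDiscreteValuationRing A := by
  have hnoeth : IsNoetherianRing A := hN.1
  constructor
  · intro h0
    unfold Curv2.deltaInv at h0
    rw [Module.length_eq_zero_iff] at h0
    have htop : LinearMap.range (Algebra.linearMap A ↥(integralClosure A (FractionRing A))) = ⊤ :=
      Submodule.Quotient.subsingleton_iff.mp h0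
    have hcl : ∀ z : FractionRing A, IsIntegral A z →
        ∃ a : A, algebraMap A (FractionRing A) a = z := by
      intro z hz
      have hmem : (⟨z, hz⟩ : ↥(integralClosure A (FractionRing A))) ∈
          LinearMap.range (Algebra.linearMap A ↥(integralClosure A (FractionRing A))) := by
        rw [htop]; trivial
      obtain ⟨a, ha⟩ := hmem
      refine ⟨a, ?_⟩
      have := congrArg Subtype.val ha
      simpa using this
    have hdom : IsDomain A := isDomain_of_closed A hcl
    refine ⟨hdom, ?_⟩
    have hic : IsIntegrallyClosed A :=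
      (isIntegrallyClosed_iff (FractionRing A)).mpr (fun {x} hx => hcl x hx)
    have hkd : Ring.KrullDimLE 1 A := Ring.krullDimLE_iff.mpr (le_of_eq hdim)
    have hd1 : Ring.DimensionLEOne A := ⟨fun hne hp => hp.isMaximal_of_ne_bot hne⟩
    have hded : IsDedekindDomain A := { toIsDomain := hdom, toIsDedekindRing := {} }
    have hnf : ¬ IsField A := by
      intro hf
      have := ringKrullDim_eq_zero_of_isField hf
      rw [hdim] at this
      exact one_ne_zero this
    exact ((IsDiscreteValuationRing.TFAE A hnf).out 0 2).mpr hded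
  · rintro ⟨hdom, hdvr⟩
    unfold Curv2.deltaInv
    rw [Module.length_eq_zero_iff, Submodule.Quotient.subsingleton_iff]
    rw [eq_top_iff]
    rintro ⟨z, hz⟩ -
    obtain ⟨a, ha⟩ := (isIntegrallyClosed_iff (FractionRing A)).mp inferInstance hz
    refine ⟨a, ?_⟩
    apply Subtype.ext
    simpa using ha


end Groth.Agent.S7653
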