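import Groth.Statements.S7654
import Mathlib
import Groth.Agent.Lib.Helper17.DeltaBC
import Groth.Agent.Lib.Helper17.NormHens2
import Groth.Agent.Lib.Helper24.HensDim
import Groth.Agent.Lib.Helper24.HenselizationFlat
import Groth.Agent.Lib.Helper24.StrictHensProps
import Groth.Agent.Lib.Helper24.HensRegular
import Groth.Agent.Lib.Helper24.CplFlat
import Groth.Agent.S9446
import Groth.Agent.S0547

set_option autoImplicit false
set_option linter.style.haveILetI false
universe u
open CategoryTheory CategoryTheory.Limits AlgebraicGeometry
open Variety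

namespace Groth.Agent.S7654

/-- For a reduced local Nagata ring A of Krull dimension one, the δ-invariant does not change on passing
to a henselization of A, to a strict henselization of A, or to the completion of A. -/
theorem result (A : Type u) [CommRing A] [IsLocalRing A]
    [IsReduced A] (hN : CAlg.IsNagata A) (hdim : ringKrullDim A = 1) :
    (∀ (B : Type u) [CommRing B] [IsLocalRing B] [Algebra A B] [IsLocalHom (algebraMap A B)],
        Hensel.IsHenselization A B → Curv2.deltaInv B = Curv2.deltaInv A) ∧
      (∀ (B : Type u) [CommRing B] [IsLocalRing B] [Algebra A B] [IsLocalHom (algebraMap A B)],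
        Hensel.IsStrictHenselization A B → Curv2.deltaInv B = Curv2.deltaInv A) ∧
      Curv2.deltaInv (Curv2.cpl A) = Curv2.deltaInv A := by
  classical
  haveI hNoeth : IsNoetherianRing A := hN.1
  obtain ⟨t, ht, htn⟩ :=
    Groth.Agent.Lib.helper17.DeltaBC.exists_nonZeroDivisor_mem_maximalIdeal A hdim
  refine ⟨?_, ?_, ?_⟩
  · intro B _ _ _ _ hB
    haveI := hB
    haveI : Module.FaithfullyFlat A B :=
      Groth.Agent.Lib.helper24.Henselization.faithfullyFlat_of_isHenselization A B
    refine Groth.Agent.Lib.helper17.DeltaBC.deltaInv_eq_of_surj A B (le_of_eq hdim) ?_ t ht htn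
      (Groth.Agent.Lib.Helper24.HensRegular.map_maximalIdeal_of_isHenselization A B)
      (Groth.Agent.S9446.result A B
        (Groth.Agent.Lib.helper17.NormHens.indSmooth_of_isHenselization A B)
        (FractionRing A)).2
    rw [Groth.Agent.Lib.Helper24.HensDim.ringKrullDim_of_isHenselization A B, hdim]
  · intro B _ _ _ _ hB
    haveI := hB
    haveI : Module.FaithfullyFlat A B :=
      Groth.Agent.Lib.Helper24.StrictHens.faithfullyFlat_of_isStrictHenselization A B
    refine Groth.Agent.Lib.helper17.DeltaBC.deltaInv_eq_of_surj A B (le_of_eq hdim) ?_ t ht htn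
      (Groth.Agent.Lib.Helper24.StrictHens.map_maximalIdeal_of_isStrictHenselization A B)
      (Groth.Agent.S9446.result A B
        (Groth.Agent.Lib.helper17.NormHens.indSmooth_of_isStrictHenselization A B)
        (FractionRing A)).2
    rw [Groth.Agent.Lib.Helper24.HensDim.ringKrullDim_of_isStrictHenselization A B, hdim]
  · refine Groth.Agent.Lib.helper17.DeltaBC.deltaInv_eq_of_dense A (Curv2.cpl A) (le_of_eq hdim) ?_
      t ht htn AdicCompletion.maximalIdeal_eq_map.symm ?_
    · rw [Groth.Agent.S0547.result, hdim]
    · intro r x
      exact Groth.Agent.Lib.Helper24.CplFlat.exists_sub_mem (IsLocalRing.maximalIdeal A)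
        (IsLocalRing.maximalIdeal A).fg_of_isNoetherianRing r x

end Groth.Agent.S7654
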