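import Groth.Statements.S7657
import Mathlib
import Groth.Agent.Lib.Helper13.Br7
-- import your own Groth.Agent.* helpers here

set_option autoImplicit false
universe u
open CategoryTheory CategoryTheory.Limits AlgebraicGeometry
open Variety

namespace Groth.Agent.S7657

/-- For an integral scheme X with normalization ν : X^ν → X and a point x: (1) X has as many branches at
x as there are points of X^ν lying over x; (2) counted geometrically, the branches of X at x number
Σ_{ν(x') = x} [κ(x') : κ(x)]_s, the separable degree being counted as the number of κ(x)-embeddings
of κ(x') into an algebraic closure. (The published statement allows any scheme each of whose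
quasi-compact opens meets only finitely many irreducible components; this row takes X integral.) -/
theorem result (X : Scheme.{u}) [IsIntegral X]
    [QuasiCompact (X.fromSpecStalk (genericPoint X))] [QuasiSeparated (X.fromSpecStalk (genericPoint X))]
    (x : X) :
    Brnch.numBranchesAt X x =
        ENat.card {x' : ↥(Curv2.normalization X) // (Curv2.normalizationι X).base x' = x} ∧
      Brnch.numGeomBranchesAt X x =
        ∑' x' : {x' : ↥(Curv2.normalization X) // (Curv2.normalizationι X).base x' = x},
          (letI := ((Curv2.normalizationι X).residueFieldMap x'.1).hom.toAlgebra
           ENat.card (Field.Emb (X.residueField ((Curv2.normalizationι X).base x'.1))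
             ((Curv2.normalization X).residueField x'.1))) := by
  classical
  obtain ⟨Φ, hΦ⟩ := Groth.Agent.Lib.helper13.Br.exists_equiv_fibre X x
  have hfin : (minimalPrimes (X.presheaf.stalk x)).Finite := by
    rw [IsDomain.minimalPrimes_eq_singleton_bot]
    exact Set.finite_singleton _
  constructor
  · unfold Brnch.numBranchesAt Brnch.numBranches
    rw [if_pos hfin]
    exact (ENat.card_congr Φ).symm
  · unfold Brnch.numGeomBranchesAt Brnch.numGeomBranches
    rw [if_pos hfin, Groth.Agent.Lib.helper13.Br.card_sigma]
    rw [← Φ.tsum_eq]
    refine tsum_congr ?_
    rintro ⟨x', h⟩
    exact hΦ x' h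

end Groth.Agent.S7657
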