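import Groth.Statements.S7661
import Mathlib.RingTheory.Ideal.Operations
import Mathlib.Order.Preorder.Finite

set_option autoImplicit false
universe u
open CategoryTheory CategoryTheory.Limits AlgebraicGeometry
open Variety

namespace Groth.Agent.S7661

theorem key (A : Type u) [CommRing A] (I : Ideal A) :
    ∀ (n : ℕ) (s : Finset (Ideal A)), s.card = n → (∀ p ∈ s, p.IsPrime) → (∀ p ∈ s, ¬ I ≤ p) →
      ∀ f₀ : A, ∃ f : A, f - f₀ ∈ I ∧ ∀ p ∈ s, f ∉ p := by
  classical
  intro n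
  induction n with
  | zero =>
    intro s hs _ _ f₀
    rw [Finset.card_eq_zero] at hs
    subst hs
    exact ⟨f₀, by simp, by simp⟩
  | succ n ih =>
    intro s hs hprime hI f₀
    have hne : s.Nonempty := by
      rw [← Finset.card_pos]; omega
    obtain ⟨p₀, hp₀⟩ := s.exists_minimal hne
    have hp₀s : p₀ ∈ s := hp₀.prop
    have hp₀prime : p₀.IsPrime := hprime p₀ hp₀s
    obtain ⟨f₁, hf₁I, hf₁⟩ := ih (s.erase p₀) (by rw [Finset.card_erase_of_mem hp₀s, hs]; rfl)
      (fun p hp => hprime p (Finset.mem_of_mem_erase hp))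
      (fun p hp => hI p (Finset.mem_of_mem_erase hp)) f₀
    by_cases hmem : f₁ ∈ p₀
    · have hnot : ¬ (I * ∏ p ∈ s.erase p₀, p) ≤ p₀ := by
        rw [hp₀prime.mul_le, hp₀prime.prod_le]
        rintro (h | ⟨p, hp, hle⟩)
        · exact hI p₀ hp₀s h
        · have hps : p ∈ s := Finset.mem_of_mem_erase hp
          have : p₀ ≤ p := hp₀.le_of_le hps hle
          exact (Finset.ne_of_mem_erase hp) (le_antisymm hle this)
      obtain ⟨x, hx, hxp₀⟩ := SetLike.not_le_iff_exists.mp hnot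
      have h0 : (I * ∏ p ∈ s.erase p₀, p) ≤ I := Ideal.mul_le_left
      have hxI : x ∈ I := h0 hx
      have hxp : ∀ p ∈ s.erase p₀, x ∈ p := by
        intro p hp
        have h1 : (I * ∏ p ∈ s.erase p₀, p) ≤ ∏ p ∈ s.erase p₀, p := Ideal.mul_le_right
        have h2 : (∏ p ∈ s.erase p₀, p) ≤ p :=
          Ideal.le_of_dvd (Finset.dvd_prod_of_mem (fun p => p) hp)
        exact h2 (h1 hx)
      refine ⟨f₁ + x, ?_, ?_⟩
      · have : f₁ + x - f₀ = (f₁ - f₀) + x := by ring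
        rw [this]
        exact I.add_mem hf₁I hxI
      · intro p hp hfp
        by_cases hpp : p = p₀
        · subst hpp
          exact hxp₀ ((Ideal.add_mem_iff_right _ hmem).mp hfp)
        · have hpe : p ∈ s.erase p₀ := Finset.mem_erase.mpr ⟨hpp, hp⟩
          exact hf₁ p hpe ((Ideal.add_mem_iff_left _ (hxp p hpe)).mp hfp)
    · refine ⟨f₁, hf₁I, ?_⟩
      intro p hp
      by_cases hpp : p = p₀
      · subst hpp; exact hmem
      · exact hf₁ p (Finset.mem_erase.mpr ⟨hpp, hp⟩)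


/-- Let A be a ring, I an ideal, p_1, …, p_r prime ideals with I ⊄ p_i for all i, and let f̄ ∈ A/I. Then
f̄ lifts to an element f ∈ A with f ∉ p_i for all i. -/
theorem result (A : Type u) [CommRing A] (I : Ideal A)
    (s : Finset (Ideal A)) (hs : ∀ p ∈ s, p.IsPrime) (hI : ∀ p ∈ s, ¬ I ≤ p) (fbar : A ⧸ I) :
    ∃ f : A, Ideal.Quotient.mk I f = fbar ∧ ∀ p ∈ s, f ∉ p := by
  obtain ⟨f₀, rfl⟩ := Ideal.Quotient.mk_surjective fbar
  obtain ⟨f, hf, hfp⟩ := key A I s.card s rfl hs hI f₀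
  exact ⟨f, (Ideal.Quotient.mk_eq_mk_iff_sub_mem f f₀).mpr hf, hfp⟩

end Groth.Agent.S7661
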