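import Groth.Statements.S7663
import Mathlib
import Groth.Agent.Lib.Helper13.KA4
-- import your own Groth.Agent.* helpers here

set_option autoImplicit false
universe u
open CategoryTheory CategoryTheory.Limits AlgebraicGeometry
open Variety

namespace Groth.Agent.S7663

/-- Let K be a field and A, B ⊆ K subrings with fraction field K, with A Noetherian of dimension one.
Then A ⊗ B → K is not surjective (equivalently, the subring generated by A and B is not K) if and
only if some discrete valuation ring O ⊆ K with fraction field K contains both A and B. -/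
theorem result (K : Type u) [Field K]
    (A : Subring K) [IsFractionRing A K] (B : Subring K) [IsFractionRing B K] [IsNoetherianRing A] (hdim : ringKrullDim A = 1) :
    A ⊔ B ≠ ⊤ ↔ ∃ O : ValuationSubring K, IsDiscreteValuationRing O ∧ A ≤ O.toSubring ∧ B ≤ O.toSubring := by
  have hK1 : Ring.KrullDimLE 1 A := Ring.krullDimLE_iff.mpr (by rw [hdim]; rfl)
  constructor
  · intro hne
    let T : Subalgebra A K :=
      { toSubsemiring := (A ⊔ B).toSubsemiring
        algebraMap_mem' := fun a => (le_sup_left : A ≤ A ⊔ B) a.2 }
    have hTmem : ∀ x : K, x ∈ T ↔ x ∈ A ⊔ B := fun x => Iff.rfl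
    have hT : T ≠ ⊤ := by
      intro h
      apply hne
      rw [eq_top_iff]
      intro x _
      rw [← hTmem, h]
      trivial
    obtain ⟨O, hO, hTO⟩ := Groth.Agent.Lib.helper13.KA.exists_dvr_of_ne_top A T hT
    refine ⟨O, hO, ?_, ?_⟩
    · intro x hx
      exact hTO x ((hTmem x).mpr ((le_sup_left : A ≤ A ⊔ B) hx))
    · intro x hx
      exact hTO x ((hTmem x).mpr ((le_sup_right : B ≤ A ⊔ B) hx))
  · rintro ⟨O, hO, hAO, hBO⟩ htop
    have hle : A ⊔ B ≤ O.toSubring := sup_le hAO hBO
    rw [htop] at hle
    have hall : ∀ x : K, x ∈ O := fun x => hle (Subring.mem_top x)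
    have hf : IsField O :=
      { exists_pair_ne := ⟨0, 1, zero_ne_one⟩
        mul_comm := mul_comm
        mul_inv_cancel := fun {x} hx => ⟨⟨(x : K)⁻¹, hall _⟩, Subtype.ext
          (mul_inv_cancel₀ (fun h => hx (Subtype.ext h)))⟩ }
    exact IsDiscreteValuationRing.not_isField O hf

end Groth.Agent.S7663
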