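import Groth.Statements.S7664
import Mathlib
import Groth.Agent.Lib.Helper13.SL1
-- import your own Groth.Agent.* helpers here

set_option autoImplicit false
universe u
open CategoryTheory CategoryTheory.Limits AlgebraicGeometry
open Variety

namespace Groth.Agent.S7664

noncomputable section

open Groth.Agent.Lib.helper13.SL1

/-- Elements of a valuation subring whose inverse is not in it lie in every maximal ideal. -/
lemma mem_maximal_of_inv_notMem {K : Type u} [Field K] (B : ValuationSubring K) (s : K)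
    (hs : s ∈ B) (hns : s = 0 ∨ s⁻¹ ∉ B) :
    ∀ m : Ideal B.toSubring, m.IsMaximal → (⟨s, hs⟩ : B.toSubring) ∈ m := by
  intro m hm
  haveI : IsLocalRing B.toSubring := inferInstanceAs (IsLocalRing B)
  rw [IsLocalRing.eq_maximalIdeal hm, IsLocalRing.mem_maximalIdeal, mem_nonunits_iff]
  intro hu
  rcases hns with h0 | hinv
  · have : (⟨s, hs⟩ : B.toSubring) = 0 := Subtype.ext h0
    rw [this] at hu
    exact not_isUnit_zero hu
  · apply hinv
    obtain ⟨v, hv⟩ := hu.exists_right_inv
    have h1 : s * (v : K) = 1 := congrArg Subtype.val hv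
    have : s⁻¹ = (v : K) := by
      rw [inv_eq_iff_eq_inv]
      exact eq_inv_of_mul_eq_one_left h1
    rw [this]
    exact v.2

end


/-- Let K be a field, A ⊆ K a Noetherian semi-local domain of dimension one and B ⊆ K a discrete
valuation ring, both with fraction field K, and R = A ∩ B. (a) If some unit of A does not lie in R,
then Spec A and Spec B each map to Spec R by an open immersion, Spec R is the union of the two
images, and the natural map A ⊗_R B → K is an isomorphism. (b) If every unit of A lies in R, then B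
dominates the local ring of A at one of its maximal ideals (A ⊆ B and the maximal ideal of B
contracts to a maximal ideal of A) and A ⊗ B → K is not surjective. -/
theorem result (K : Type u) [Field K]
    (A : Subring K) [IsFractionRing A K] [IsNoetherianRing A] (hdim : ringKrullDim A = 1) (hsl : Finite (MaximalSpectrum A))
    (B : ValuationSubring K) [IsDiscreteValuationRing B] :
    ((∃ u : A, IsUnit u ∧ (u : K) ∉ B) →
      IsOpenImmersion (Spec.map (CommRingCat.ofHom (Subring.inclusion (inf_le_left : A ⊓ B.toSubring ≤ A)))) ∧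
      IsOpenImmersion (Spec.map (CommRingCat.ofHom (Subring.inclusion (inf_le_right : A ⊓ B.toSubring ≤ B.toSubring)))) ∧
      Set.range (Spec.map (CommRingCat.ofHom (Subring.inclusion (inf_le_left : A ⊓ B.toSubring ≤ A)))).base ∪
        Set.range (Spec.map (CommRingCat.ofHom (Subring.inclusion (inf_le_right : A ⊓ B.toSubring ≤ B.toSubring)))).base = Set.univ ∧
      IsPushout (CommRingCat.ofHom (Subring.inclusion (inf_le_left : A ⊓ B.toSubring ≤ A)))
        (CommRingCat.ofHom (Subring.inclusion (inf_le_right : A ⊓ B.toSubring ≤ B.toSubring)))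
        (CommRingCat.ofHom A.subtype) (CommRingCat.ofHom B.toSubring.subtype)) ∧
    ((∀ u : A, IsUnit u → (u : K) ∈ B) →
      (∃ h : A ≤ B.toSubring,
        (Ideal.comap (Subring.inclusion h) (IsLocalRing.maximalIdeal B)).IsMaximal) ∧ A ⊔ B.toSubring ≠ ⊤) := by
  classical
  haveI : IsDomain A := inferInstance
  have hdimA : ∀ P : Ideal A, P.IsPrime → P ≠ ⊥ → P.IsMaximal := fun P hP hP0 =>
    Ring.krullDimLE_one_iff_of_noZeroDivisors.mp (Ring.krullDimLE_iff.mpr hdim.le) P hP0 hP
  have hAnf : ¬ IsField A := fun h => by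
    rw [ringKrullDim_eq_zero_of_isField h] at hdim
    exact zero_ne_one hdim
  obtain ⟨z, hz0, hz⟩ := Groth.Agent.Lib.helper13.SL1.exists_ne_zero_mem_maximal hAnf hsl
  have hz0' : (z : K) ≠ 0 := fun h => hz0 (Subtype.ext h)
  haveI : IsFractionRing B.toSubring K := inferInstanceAs (IsFractionRing B K)
  have hdimB : ∀ P : Ideal B.toSubring, P.IsPrime → P ≠ ⊥ → P.IsMaximal := fun P hP hP0 =>
    Ring.DimensionLEOne.maximalOfPrime (R := B) hP0 hP
  -- key construction: from `a ∈ A`, `a ∉ B`, an element `t` of the radical of `A` with pole at `B`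
  have key : ∀ a : A, (a : K) ∉ B → ∃ t : A, (∀ m : Ideal A, m.IsMaximal → t ∈ m) ∧
      (t : K) ≠ 0 ∧ ∃ hs : (t : K)⁻¹ ∈ B,
        ∀ m : Ideal B.toSubring, m.IsMaximal → (⟨(t : K)⁻¹, hs⟩ : B.toSubring) ∈ m := by
    intro a haB
    have ha0 : (a : K) ≠ 0 := fun h => haB (h ▸ B.zero_mem)
    have hinvB : (a : K)⁻¹ ∈ B := (B.mem_or_inv_mem (a : K)).resolve_left haB
    have hx₀m := mem_maximal_of_inv_notMem B (a : K)⁻¹ hinvB (Or.inr (by rwa [inv_inv]))
    obtain ⟨n, hn⟩ := Groth.Agent.Lib.helper13.SL1.exists_pow_mul_mem B.toSubring hdimB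
      ⟨(a : K)⁻¹, hinvB⟩ hx₀m (z : K)⁻¹
    refine ⟨z * a ^ (n + 1), fun m hm => m.mul_mem_right _ (hz m hm), ?_, ?_⟩
    · push_cast
      exact mul_ne_zero hz0' (pow_ne_zero _ ha0)
    · have heq : ((z * a ^ (n + 1) : A) : K)⁻¹ = ((z : K)⁻¹ * ((a : K)⁻¹) ^ n) * (a : K)⁻¹ := by
        push_cast
        rw [mul_inv, pow_succ, mul_inv, inv_pow]
        ring
      have hmemB : ((z * a ^ (n + 1) : A) : K)⁻¹ ∈ B := by
        rw [heq]; exact B.mul_mem _ _ hn hinvB
      refine ⟨hmemB, fun m hm => ?_⟩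
      have : (⟨((z * a ^ (n + 1) : A) : K)⁻¹, hmemB⟩ : B.toSubring) =
          ⟨(z : K)⁻¹ * ((a : K)⁻¹) ^ n, hn⟩ * ⟨(a : K)⁻¹, hinvB⟩ := Subtype.ext heq
      rw [this]
      exact m.mul_mem_left _ (hx₀m m hm)
  constructor
  · -- case (a)
    rintro ⟨u, hu, huB⟩
    obtain ⟨t, htm, ht0, hs, hsm⟩ := key u huB
    set s : K := (t : K)⁻¹ with hsdef
    have hs0 : s ≠ 0 := inv_ne_zero ht0
    -- units
    have hunitA : IsUnit (1 + t) := by
      have := Groth.Agent.Lib.helper13.SL1.isUnit_one_add_mul t htm 1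
      rwa [one_mul] at this
    have hunitB : IsUnit (1 + (⟨s, hs⟩ : B.toSubring)) := by
      have := Groth.Agent.Lib.helper13.SL1.isUnit_one_add_mul (⟨s, hs⟩ : B.toSubring) hsm 1
      rwa [one_mul] at this
    obtain ⟨vA, hvA⟩ := hunitA.exists_right_inv
    obtain ⟨vB, hvB⟩ := hunitB.exists_right_inv
    have hvA' : (1 + (t : K)) * (vA : K) = 1 := congrArg Subtype.val hvA
    have hvB' : (1 + s) * (vB : K) = 1 := congrArg Subtype.val hvB
    have h1t : (1 + (t : K)) ≠ 0 := left_ne_zero_of_mul_eq_one hvA'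
    have h1s : (1 + s) ≠ 0 := left_ne_zero_of_mul_eq_one hvB'
    have hvAeq : (vA : K) = (1 + (t : K))⁻¹ := eq_inv_of_mul_eq_one_right hvA'
    have hvBeq : (vB : K) = (1 + s)⁻¹ := eq_inv_of_mul_eq_one_right hvB'
    set x : K := (1 + (t : K))⁻¹ with hxdef
    set y : K := (t : K) * x with hydef
    have hxA : x ∈ A := hvAeq ▸ vA.2
    have hyA : y ∈ A := A.mul_mem t.2 hxA
    have h1t' : (t : K) + 1 ≠ 0 := by rw [add_comm]; exact h1t
    have hxs : x = s * (1 + s)⁻¹ := by
      rw [hxdef, hsdef]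
      field_simp
      rw [add_comm]
    have hys : y = (1 + s)⁻¹ := by
      rw [hydef, hxdef, hsdef]
      field_simp
      rw [add_comm]
    have hxB : x ∈ B := by
      rw [hxs, ← hvBeq]; exact B.mul_mem _ _ hs vB.2
    have hyB : y ∈ B := by
      rw [hys, ← hvBeq]; exact vB.2
    have hxy : x + y = 1 := by
      rw [hydef, hxdef]
      field_simp
    have hx0 : x ≠ 0 := inv_ne_zero h1t
    have hy0 : y ≠ 0 := by rw [hys]; exact inv_ne_zero h1s
    have hxu : x⁻¹ ∈ A := by
      rw [hxdef, inv_inv]; exact (1 + t).2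
    have hyu : y⁻¹ ∈ B := by
      rw [hys, inv_inv]; exact (1 + (⟨s, hs⟩ : B.toSubring)).2
    have hA : ∀ k : K, ∃ n : ℕ, k * y ^ n ∈ A := by
      intro k
      have hym : ∀ m : Ideal A, m.IsMaximal → (⟨y, hyA⟩ : A) ∈ m := by
        intro m hm
        have : (⟨y, hyA⟩ : A) = t * ⟨x, hxA⟩ := Subtype.ext rfl
        rw [this]
        exact m.mul_mem_right _ (htm m hm)
      exact Groth.Agent.Lib.helper13.SL1.exists_pow_mul_mem A hdimA ⟨y, hyA⟩ hym k
    have hB : ∀ k : K, ∃ n : ℕ, k * x ^ n ∈ B := by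
      intro k
      have hxm : ∀ m : Ideal B.toSubring, m.IsMaximal → (⟨x, hxB⟩ : B.toSubring) ∈ m := by
        intro m hm
        have : (⟨x, hxB⟩ : B.toSubring) = ⟨s, hs⟩ * vB := Subtype.ext (by
          show x = s * (vB : K)
          rw [hvBeq, hxs])
        rw [this]
        exact m.mul_mem_right _ (hsm m hm)
      exact Groth.Agent.Lib.helper13.SL1.exists_pow_mul_mem B.toSubring hdimB ⟨x, hxB⟩ hxm k
    exact Groth.Agent.Lib.helper13.SL1.glue A B.toSubring x y hxA hxB hyA hyB hxy hx0 hy0 hxu hyu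
      hA hB
  · -- case (b)
    intro hunits
    have hAB : A ≤ B.toSubring := by
      intro a haA
      by_contra haB
      obtain ⟨t, htm, ht0, hs, hsm⟩ := key ⟨a, haA⟩ haB
      have hunitA : IsUnit (1 + t) := by
        have := Groth.Agent.Lib.helper13.SL1.isUnit_one_add_mul t htm 1
        rwa [one_mul] at this
      have h1 : ((1 + t : A) : K) ∈ B := hunits _ hunitA
      have htB : (t : K) ∈ B := by
        have : (t : K) = ((1 + t : A) : K) - 1 := by push_cast; ring
        rw [this]; exact B.sub_mem h1 B.one_mem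
      -- then t is a unit of B whose inverse lies in the maximal ideal: contradiction
      have hmax := hsm (IsLocalRing.maximalIdeal B) (IsLocalRing.maximalIdeal.isMaximal B)
      have hunit : IsUnit (⟨(t : K)⁻¹, hs⟩ : B.toSubring) :=
        IsUnit.of_mul_eq_one (⟨(t : K), htB⟩ : B.toSubring) (Subtype.ext (inv_mul_cancel₀ ht0))
      exact (IsLocalRing.mem_maximalIdeal _).mp hmax hunit
    refine ⟨⟨hAB, ?_⟩, ?_⟩
    · have hprime : (Ideal.comap (Subring.inclusion hAB) (IsLocalRing.maximalIdeal B)).IsPrime :=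
        Ideal.IsPrime.comap _
      refine hdimA _ hprime ?_
      intro hbot
      -- then `B = K`, contradicting that `B` is a DVR
      apply IsDiscreteValuationRing.not_isField B
      have hall : ∀ k : K, k ∈ B := by
        intro k
        obtain ⟨p, q, hq, hpq⟩ := IsFractionRing.div_surjective (A := A) k
        have hq0 : q ≠ 0 := nonZeroDivisors.ne_zero hq
        have hqB : (q : K) ∈ B := hAB q.2
        have hqunit : IsUnit (⟨(q : K), hqB⟩ : B) := by
          by_contra hnu
          have hmem : (⟨(q : K), hqB⟩ : B) ∈ IsLocalRing.maximalIdeal B :=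
            (IsLocalRing.mem_maximalIdeal _).mpr hnu
          have : q ∈ Ideal.comap (Subring.inclusion hAB) (IsLocalRing.maximalIdeal B) := hmem
          rw [hbot] at this
          exact hq0 this
        obtain ⟨v, hv⟩ := hqunit.exists_right_inv
        have hv' : (q : K) * (v : K) = 1 := congrArg Subtype.val hv
        have : k = (p : K) * (v : K) := by
          rw [← hpq, eq_inv_of_mul_eq_one_right hv', div_eq_mul_inv]
          rfl
        rw [this]
        exact B.mul_mem _ _ (hAB p.2) v.2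
      refine ⟨⟨0, 1, zero_ne_one⟩, mul_comm, ?_⟩
      intro b hb
      have hb0 : (b : K) ≠ 0 := fun h => hb (Subtype.ext h)
      exact ⟨⟨(b : K)⁻¹, hall _⟩, Subtype.ext (mul_inv_cancel₀ hb0)⟩
    · rw [sup_eq_right.mpr hAB]
      intro htop
      apply IsDiscreteValuationRing.not_isField B
      refine ⟨⟨0, 1, zero_ne_one⟩, mul_comm, ?_⟩
      intro b hb
      have hb0 : (b : K) ≠ 0 := fun h => hb (Subtype.ext h)
      have : (b : K)⁻¹ ∈ B.toSubring := by rw [htop]; trivial
      exact ⟨⟨(b : K)⁻¹, this⟩, Subtype.ext (mul_inv_cancel₀ hb0)⟩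

end Groth.Agent.S7664
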