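import Groth.Statements.S7665
import Mathlib
import Groth.Agent.Lib.Helper13.SL6
-- import your own Groth.Agent.* helpers here

set_option autoImplicit false
universe u
open CategoryTheory CategoryTheory.Limits AlgebraicGeometry
open Variety

namespace Groth.Agent.S7665

/-- Let K be a field and A_1, …, A_r ⊆ K (r ≥ 1) Noetherian semi-local rings of dimension one with
fraction field K, and assume A_i and A_j generate K as a ring whenever i ≠ j. Then A = A_1 ∩ … ∩ A_r
is a Noetherian semi-local domain of dimension one with fraction field K contained in every A_i,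
each Spec A_i → Spec A is an open immersion, Spec A is the union of their images, and every closed
point of Spec A belongs to the image of exactly one Spec A_i. (The published statement asserts only
that some such subring A exists; this row takes A to be the intersection A_1 ∩ … ∩ A_r.) -/
theorem result (K : Type u) [Field K] (r : ℕ) (hr : 1 ≤ r)
    (A : Fin r → Subring K) [∀ i, IsNoetherianRing (A i)] [∀ i, IsFractionRing (A i) K]
    (hdim : ∀ i, ringKrullDim (A i) = 1) (hsl : ∀ i, Finite (MaximalSpectrum (A i)))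
    (hgen : ∀ i j, i ≠ j → A i ⊔ A j = ⊤) :
    IsNoetherianRing ↥(⨅ i, A i) ∧ ringKrullDim ↥(⨅ i, A i) = 1 ∧ Finite (MaximalSpectrum ↥(⨅ i, A i)) ∧
      IsFractionRing ↥(⨅ i, A i) K ∧
      (∀ i, IsOpenImmersion (Spec.map (CommRingCat.ofHom (Subring.inclusion (iInf_le A i))))) ∧
      (⋃ i, Set.range (Spec.map (CommRingCat.ofHom (Subring.inclusion (iInf_le A i)))).base) = Set.univ ∧
      (∀ m : PrimeSpectrum ↥(⨅ i, A i), m.asIdeal.IsMaximal →
        ∃! i, m ∈ Set.range (Spec.map (CommRingCat.ofHom (Subring.inclusion (iInf_le A i)))).base) := by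
  classical
  haveI : NeZero r := ⟨by omega⟩
  have hSne : (Finset.univ : Finset (Fin r)).Nonempty := Finset.univ_nonempty
  have hpkg := Groth.Agent.Lib.helper13.SL1.pkg_inf hdim hsl hgen hSne
  rw [Finset.inf_univ_eq_iInf] at hpkg
  obtain ⟨e, c, hE', hc', hsum⟩ := hpkg
  have hE : ∀ i, Groth.Agent.Lib.helper13.SL1.IsAwayOf (⨅ i, A i) (A i) (e i) :=
    fun i => hE' i (Finset.mem_univ i)
  have hc : ∀ i, c i ∈ ⨅ i, A i := fun i => hc' i (Finset.mem_univ i)
  have hA1 : ∀ i ∈ (Finset.univ : Finset (Fin r)), ∀ P' : Ideal (A i), P'.IsPrime → P' ≠ ⊥ →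
      P'.IsMaximal := fun i _ => Groth.Agent.Lib.helper13.SL1.isMaximal_of_dim_one (hdim i)
  have hRnf : ¬ IsField ↥(⨅ i, A i) :=
    (hE 0).not_isField (Groth.Agent.Lib.helper13.SL1.not_isField_of_dim_one (hdim 0))
  have hR1 : ∀ P : Ideal ↥(⨅ i, A i), P.IsPrime → P ≠ ⊥ → P.IsMaximal :=
    Groth.Agent.Lib.helper13.SL1.isMaximal_of_pkg hE' hc' hsum hA1
  -- ranges are the basic opens
  have hrange : ∀ i, Set.range (Spec.map (CommRingCat.ofHom
      (Subring.inclusion (iInf_le A i)))).base =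
      (PrimeSpectrum.basicOpen (⟨e i, (hE i).mem⟩ : ↥(⨅ i, A i)) :
        Set (PrimeSpectrum ↥(⨅ i, A i))) := by
    intro i
    letI := (Subring.inclusion (hE i).le).toAlgebra
    haveI := (hE i).isLocalization
    exact PrimeSpectrum.localization_away_comap_range (A i) (⟨e i, (hE i).mem⟩ : ↥(⨅ i, A i))
  -- every prime misses some `e i`
  have hmiss : ∀ P : PrimeSpectrum ↥(⨅ i, A i), ∃ i,
      (⟨e i, (hE i).mem⟩ : ↥(⨅ i, A i)) ∉ P.asIdeal := by
    intro P
    by_contra hcon
    push Not at hcon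
    exact P.isPrime.ne_top ((Ideal.eq_top_iff_one _).mpr
      (Groth.Agent.Lib.helper13.SL1.one_mem_of_forall_mem (fun i _ => (hE i).mem) hc' hsum
        P.asIdeal (fun i _ => hcon i)))
  refine ⟨?_, ?_, ?_, ?_, ?_, ?_, ?_⟩
  · exact Groth.Agent.Lib.helper13.SL1.isNoetherianRing_of_pkg hE' hc' hsum
      (fun i _ => inferInstance)
  · exact Groth.Agent.Lib.helper13.SL1.ringKrullDim_eq_one_of hR1 hRnf
  · exact Groth.Agent.Lib.helper13.SL1.finite_maximalSpectrum_of_pkg hE' hc' hsum hRnf hA1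
      (fun i _ => hsl i)
  · exact (hE 0).isFractionRing
  · intro i
    letI := (Subring.inclusion (hE i).le).toAlgebra
    haveI := (hE i).isLocalization
    exact IsOpenImmersion.of_isLocalization (⟨e i, (hE i).mem⟩ : ↥(⨅ i, A i))
  · rw [Set.eq_univ_iff_forall]
    intro P
    obtain ⟨i, hi⟩ := hmiss P
    exact Set.mem_iUnion.mpr ⟨i, by rw [hrange i]; exact hi⟩
  · intro m hm
    obtain ⟨i, hi⟩ := hmiss m
    refine ⟨i, ?_, ?_⟩
    · beta_reduce
      rw [hrange i]; exact hi
    intro j hj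
    beta_reduce at hj
    rw [hrange j] at hj
    by_contra hji
    have hj' : (⟨e j, (hE j).mem⟩ : ↥(⨅ i, A i)) ∉ m.asIdeal := hj
    -- a nonzero element of `m`
    have hm0 : m.asIdeal ≠ ⊥ := fun h0 =>
      hRnf (Ring.isField_iff_maximal_bot.mpr (h0 ▸ hm))
    obtain ⟨s, hs, hs0⟩ := Submodule.exists_mem_ne_zero_of_ne_bot hm0
    have hs0' : (s : K) ≠ 0 := fun h0 => hs0 (Subtype.ext h0)
    have hmem : (s : K)⁻¹ ∈ A j ⊔ A i := by
      rw [hgen j i hji]; trivial
    obtain ⟨n, hn⟩ := Groth.Agent.Lib.helper13.SL1.exists_pow_mul_mem_of_mem_sup (hE j) (hE i) hmem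
    have hprod : ((⟨e j, (hE j).mem⟩ : ↥(⨅ i, A i)) * ⟨e i, (hE i).mem⟩) ^ n ∈ m.asIdeal := by
      have : ((⟨e j, (hE j).mem⟩ : ↥(⨅ i, A i)) * ⟨e i, (hE i).mem⟩) ^ n =
          s * ⟨(s : K)⁻¹ * (e j * e i) ^ n, hn⟩ := by
        apply Subtype.ext
        push_cast
        field_simp
      rw [this]
      exact m.asIdeal.mul_mem_right _ hs
    rcases hm.isPrime.mem_or_mem (hm.isPrime.mem_of_pow_mem n hprod) with h | h
    · exact hj' h
    · exact hi h

end Groth.Agent.S7665
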