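import Groth.Statements.S7666
import Mathlib

set_option autoImplicit false
universe u
open CategoryTheory CategoryTheory.Limits AlgebraicGeometry
open Variety

namespace Groth.Agent.S7666

/-- Let A be a one-dimensional Noetherian local ring and L = ∏ A_p, the product over the minimal primes
of A. If a_1, a_2 ∈ m_A have the same image in L, then a_1 and a_2 have equal n-th powers for some
positive integer n. -/
theorem result (A : Type u) [CommRing A]
    [IsLocalRing A] [IsNoetherianRing A] (hdim : ringKrullDim A = 1)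
    (a₁ a₂ : A) (h₁ : a₁ ∈ IsLocalRing.maximalIdeal A) (h₂ : a₂ ∈ IsLocalRing.maximalIdeal A)
    (heq : ∀ p : {p : PrimeSpectrum A // p.asIdeal ∈ minimalPrimes A},
      algebraMap A (Localization.AtPrime p.1.asIdeal) a₁ = algebraMap A (Localization.AtPrime p.1.asIdeal) a₂) :
    ∃ n : ℕ, 0 < n ∧ a₁ ^ n = a₂ ^ n := by
  classical
  set c := a₁ - a₂ with hc
  set I : Ideal A := (Ideal.span {c}).annihilator with hI
  have hdim1 : Ring.KrullDimLE 1 A := Ring.krullDimLE_iff.2 (by rw [hdim]; rfl)
  -- `I` is not contained in any minimal prime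
  have hnot : ∀ q : Ideal A, q ∈ minimalPrimes A → ¬ I ≤ q := by
    intro q hq hle
    have : q.IsPrime := hq.1.1
    have h := heq ⟨⟨q, hq.1.1⟩, hq⟩
    obtain ⟨t, ht⟩ := (IsLocalization.eq_iff_exists q.primeCompl (Localization.AtPrime q)).1 h
    have htI : (t : A) ∈ I := by
      rw [hI, Submodule.mem_annihilator_span_singleton, smul_eq_mul, hc, mul_sub, ht, sub_self]
    exact t.2 (hle htI)
  -- hence the radical of `I` contains the maximal ideal
  have hrad : IsLocalRing.maximalIdeal A ≤ I.radical := by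
    rw [Ideal.radical_eq_sInf]
    refine le_sInf ?_
    rintro q ⟨hIq, hqprime⟩
    rcases Ring.krullDimLE_one_iff.1 hdim1 q hqprime with hmin | hmax
    · exact absurd hIq (hnot q hmin)
    · rw [IsLocalRing.eq_maximalIdeal hmax]
  obtain ⟨k, hk⟩ := Ideal.exists_radical_pow_le_of_fg I (IsNoetherian.noetherian _)
  have hmk : IsLocalRing.maximalIdeal A ^ k ≤ I := (Ideal.pow_right_mono hrad k).trans hk
  refine ⟨k + 1, Nat.succ_pos k, ?_⟩
  have hsum : (∑ i ∈ Finset.range (k + 1), a₁ ^ i * a₂ ^ (k + 1 - 1 - i)) ∈ I := by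
    apply hmk
    refine Ideal.sum_mem _ fun i hi => ?_
    have hik : i ≤ k := Nat.lt_succ_iff.1 (Finset.mem_range.1 hi)
    have : IsLocalRing.maximalIdeal A ^ k = IsLocalRing.maximalIdeal A ^ i *
        IsLocalRing.maximalIdeal A ^ (k + 1 - 1 - i) := by
      rw [← pow_add]; congr 1; omega
    rw [this]
    exact Ideal.mul_mem_mul (Ideal.pow_mem_pow h₁ i) (Ideal.pow_mem_pow h₂ _)
  rw [hI, Submodule.mem_annihilator_span_singleton, smul_eq_mul, hc, geom_sum₂_mul] at hsum
  exact sub_eq_zero.1 hsum

end Groth.Agent.S7666
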