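import Groth.Statements.S7667
import Mathlib

set_option autoImplicit false
universe u
open CategoryTheory CategoryTheory.Limits AlgebraicGeometry
open Variety

namespace Groth.Agent.S7667

section

variable {A : Type u} [CommRing A]

/-- the index type of minimal primes -/
abbrev MinP (A : Type u) [CommRing A] : Type u :=
  {p : PrimeSpectrum A // p.asIdeal ∈ minimalPrimes A}

instance [IsNoetherianRing A] : Finite (MinP A) := by
  have hfin : (minimalPrimes A).Finite := minimalPrimes.finite_of_isNoetherianRing A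
  have : Finite (minimalPrimes A) := hfin.to_subtype
  refine Finite.of_injective (fun p : MinP A => (⟨p.1.asIdeal, p.2⟩ : minimalPrimes A)) ?_
  intro p q hpq
  apply Subtype.ext
  apply PrimeSpectrum.ext
  exact congrArg Subtype.val hpq

/-- elements of a minimal prime become nilpotent in the localization -/
theorem isNilpotent_algebraMap (q : MinP A) (x : A) (hx : x ∈ q.1.asIdeal) :
    ∃ n : ℕ, (algebraMap A (Localization.AtPrime q.1.asIdeal) x) ^ n = 0 := by
  have h := IsLocalization.AtPrime.radical_map_of_mem_minimalPrimes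
    (A := Localization.AtPrime q.1.asIdeal) q.1.asIdeal ⊥ q.2
  rw [Ideal.map_bot] at h
  have h1 : algebraMap A (Localization.AtPrime q.1.asIdeal) x ∈
      (⊥ : Ideal (Localization.AtPrime q.1.asIdeal)).radical := by
    rw [h]
    exact Ideal.mem_map_of_mem _ hx
  obtain ⟨n, hn⟩ := h1
  exact ⟨n, by simpa using hn⟩

/-- Step A: "orthogonal" elements. -/
theorem exists_orth [IsNoetherianRing A] (p : MinP A) :
    ∃ u : A, u ∉ p.1.asIdeal ∧
      ∀ q : MinP A, q ≠ p → algebraMap A (Localization.AtPrime q.1.asIdeal) u = 0 := by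
  classical
  have := Fintype.ofFinite (MinP A)
  have hx : ∀ q : MinP A, q ≠ p → ∃ x : A, x ∈ q.1.asIdeal ∧ x ∉ p.1.asIdeal := by
    intro q hq
    by_contra hcon
    push Not at hcon
    have hle : q.1.asIdeal ≤ p.1.asIdeal := hcon
    have hle' : p.1.asIdeal ≤ q.1.asIdeal := p.2.2 ⟨q.1.isPrime, bot_le⟩ hle
    apply hq
    apply Subtype.ext
    apply PrimeSpectrum.ext
    exact le_antisymm hle hle'
  choose! x hxq hxp using hx
  have hn : ∀ q : MinP A, q ≠ p →
      ∃ n : ℕ, (algebraMap A (Localization.AtPrime q.1.asIdeal) (x q)) ^ n = 0 :=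
    fun q hq => isNilpotent_algebraMap q (x q) (hxq q hq)
  choose! n hn using hn
  refine ⟨∏ q ∈ Finset.univ.erase p, x q ^ n q, ?_, ?_⟩
  · intro hmem
    rw [Ideal.IsPrime.prod_mem_iff] at hmem
    obtain ⟨q, hq, hq'⟩ := hmem
    exact hxp q (Finset.ne_of_mem_erase hq) (p.1.isPrime.mem_of_pow_mem _ hq')
  · intro q hq
    rw [map_prod]
    apply Finset.prod_eq_zero (Finset.mem_erase.mpr ⟨hq, Finset.mem_univ q⟩)
    rw [map_pow]
    exact hn q hq

/-- Step B: every element of the product of localizations has a common denominator. -/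
theorem exists_common_denom [IsNoetherianRing A]
    (l : ∀ p : MinP A, Localization.AtPrime p.1.asIdeal) :
    ∃ t b : A, (∀ p : MinP A, t ∉ p.1.asIdeal) ∧
      ∀ p : MinP A, algebraMap A (Localization.AtPrime p.1.asIdeal) t * l p =
        algebraMap A (Localization.AtPrime p.1.asIdeal) b := by
  classical
  have := Fintype.ofFinite (MinP A)
  choose u hup huq using fun p : MinP A => exists_orth p
  have hrep : ∀ p : MinP A, ∃ (b : A) (s : p.1.asIdeal.primeCompl),
      l p = IsLocalization.mk' (Localization.AtPrime p.1.asIdeal) b s := by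
    intro p
    obtain ⟨b, s, h⟩ := IsLocalization.exists_mk'_eq p.1.asIdeal.primeCompl (l p)
    exact ⟨b, s, h.symm⟩
  choose b s hl using hrep
  have hcomp : ∀ (p : MinP A) (c : MinP A → A),
      algebraMap A (Localization.AtPrime p.1.asIdeal) (∑ q, u q * c q) =
      algebraMap A (Localization.AtPrime p.1.asIdeal) (u p * c p) := by
    intro p c
    rw [map_sum]
    apply Finset.sum_eq_single p
    · intro q _ hq
      rw [map_mul, huq q p (Ne.symm hq), zero_mul]
    · intro h
      exact absurd (Finset.mem_univ p) h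
  refine ⟨∑ q, u q * (s q : A), ∑ q, u q * b q, ?_, ?_⟩
  · intro p hmem
    have h1 := hcomp p (fun q => (s q : A))
    have h2 : algebraMap A (Localization.AtPrime p.1.asIdeal) (∑ q, u q * (s q : A)) ∈
        IsLocalRing.maximalIdeal (Localization.AtPrime p.1.asIdeal) := by
      rw [← IsLocalization.AtPrime.map_eq_maximalIdeal p.1.asIdeal]
      exact Ideal.mem_map_of_mem _ hmem
    rw [h1] at h2
    have h3 : IsUnit (algebraMap A (Localization.AtPrime p.1.asIdeal) (u p * (s p : A))) :=
      IsLocalization.map_units _ (⟨u p * (s p : A),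
        p.1.asIdeal.primeCompl.mul_mem (hup p) (s p).2⟩ : p.1.asIdeal.primeCompl)
    exact (IsLocalRing.mem_maximalIdeal _).mp h2 h3
  · intro p
    rw [hcomp p (fun q => (s q : A)), hcomp p b, hl p, map_mul, map_mul, mul_assoc,
      IsLocalization.mk'_spec']

/-- Step C: elements of `I·L` can be written `ν / t` with `ν` nilpotent. -/
theorem exists_nilpotent_num [IsNoetherianRing A]
    (i : ∀ p : MinP A, Localization.AtPrime p.1.asIdeal)
    (hi : i ∈ (nilradical A).map
      (algebraMap A (∀ p : MinP A, Localization.AtPrime p.1.asIdeal))) :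
    ∃ t ν : A, (∀ p : MinP A, t ∉ p.1.asIdeal) ∧ ν ∈ nilradical A ∧
      ∀ p : MinP A, algebraMap A (Localization.AtPrime p.1.asIdeal) t * i p =
        algebraMap A (Localization.AtPrime p.1.asIdeal) ν := by
  unfold Ideal.map at hi
  induction hi using Submodule.span_induction with
  | mem x hx =>
    obtain ⟨ν, hν, rfl⟩ := hx
    refine ⟨1, ν, fun p => ?_, hν, fun p => ?_⟩
    · exact fun h => p.1.isPrime.ne_top ((Ideal.eq_top_iff_one _).mpr h)
    · rw [map_one, one_mul]; rfl
  | zero =>
    refine ⟨1, 0, fun p => ?_, Ideal.zero_mem _, fun p => ?_⟩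
    · exact fun h => p.1.isPrime.ne_top ((Ideal.eq_top_iff_one _).mpr h)
    · simp
  | add x y _ _ hx hy =>
    obtain ⟨t₁, ν₁, ht₁, hν₁, h₁⟩ := hx
    obtain ⟨t₂, ν₂, ht₂, hν₂, h₂⟩ := hy
    refine ⟨t₁ * t₂, t₂ * ν₁ + t₁ * ν₂, fun p h => ?_, ?_, fun p => ?_⟩
    · rcases p.1.isPrime.mem_or_mem h with h | h
      · exact ht₁ p h
      · exact ht₂ p h
    · exact Ideal.add_mem _ (Ideal.mul_mem_left _ _ hν₁) (Ideal.mul_mem_left _ _ hν₂)
    · rw [Pi.add_apply, map_mul, map_add, map_mul, map_mul, ← h₁ p, ← h₂ p]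
      ring
  | smul l x _ hx =>
    obtain ⟨t, ν, ht, hν, h⟩ := hx
    obtain ⟨t', b, ht', hb⟩ := exists_common_denom l
    refine ⟨t' * t, b * ν, fun p h => ?_, Ideal.mul_mem_left _ _ hν, fun p => ?_⟩
    · rcases p.1.isPrime.mem_or_mem h with h | h
      · exact ht' p h
      · exact ht p h
    · have e : (l • x) p = l p * x p := rfl
      rw [e, map_mul, map_mul, ← h p, ← hb p]
      ring

/-- Step D: a power of `a ∈ m` is divisible by any `t` outside all minimal primes. -/
theorem exists_pow_eq_mul [IsLocalRing A] (hdim : ringKrullDim A = 1)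
    (a : A) (ha : a ∈ IsLocalRing.maximalIdeal A) (t : A) (ht : ∀ p : MinP A, t ∉ p.1.asIdeal) :
    ∃ (e : ℕ) (b : A), a ^ e = t * b := by
  have hdim1 : Ring.KrullDimLE 1 A := Ring.krullDimLE_iff.2 (by rw [hdim]; rfl)
  have hrad : a ∈ (Ideal.span {t}).radical := by
    rw [Ideal.radical_eq_sInf, Ideal.mem_sInf]
    rintro q ⟨htq, hqprime⟩
    rcases Ring.krullDimLE_one_iff.1 hdim1 q hqprime with hmin | hmax
    · exfalso
      exact ht ⟨⟨q, hqprime⟩, hmin⟩ (htq (Ideal.subset_span rfl))
    · rw [IsLocalRing.eq_maximalIdeal hmax]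
      exact ha
  obtain ⟨e, he⟩ := hrad
  rw [Ideal.mem_span_singleton'] at he
  obtain ⟨b, hb⟩ := he
  exact ⟨e, b, by rw [← hb, mul_comm]⟩

end


/-- Let A be a one-dimensional Noetherian local ring, L the product of the localizations A_p over its
minimal primes p, and I the intersection of those primes (the nilradical of A). If f ∈ L equals i +
a with a in the maximal ideal of A and i ∈ I·L, then for some positive integer n, f^n belongs to the
subring of L obtained as the image of the structure map from A. -/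
theorem result (A : Type u) [CommRing A]
    [IsLocalRing A] [IsNoetherianRing A] (hdim : ringKrullDim A = 1)
    (a : A) (ha : a ∈ IsLocalRing.maximalIdeal A)
    (i : ∀ p : {p : PrimeSpectrum A // p.asIdeal ∈ minimalPrimes A}, Localization.AtPrime p.1.asIdeal)
    (hi : i ∈ (nilradical A).map (algebraMap A (∀ p : {p : PrimeSpectrum A // p.asIdeal ∈ minimalPrimes A}, Localization.AtPrime p.1.asIdeal))) :
    ∃ n : ℕ, 0 < n ∧ (i + algebraMap A (∀ p : {p : PrimeSpectrum A // p.asIdeal ∈ minimalPrimes A}, Localization.AtPrime p.1.asIdeal) a) ^ n ∈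
      (algebraMap A (∀ p : {p : PrimeSpectrum A // p.asIdeal ∈ minimalPrimes A}, Localization.AtPrime p.1.asIdeal)).range := by
  classical
  obtain ⟨t, ν, ht, hν, h⟩ := exists_nilpotent_num i hi
  obtain ⟨N, hN⟩ := hν
  obtain ⟨e, b, heb⟩ := exists_pow_eq_mul hdim a ha t ht
  set φ := algebraMap A (∀ p : {p : PrimeSpectrum A // p.asIdeal ∈ minimalPrimes A},
    Localization.AtPrime p.1.asIdeal) with hφ
  have hTi : φ t * i = φ ν := by
    funext p
    exact h p
  refine ⟨N + e * N + 1, Nat.succ_pos _, ?_⟩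
  rw [add_pow]
  refine Subring.sum_mem _ fun m hm => ?_
  refine Subring.mul_mem _ ?_ (natCast_mem _ _)
  by_cases hmN : N ≤ m
  · -- `i ^ m = 0`
    have hzero : i ^ m = 0 := by
      funext p
      have h1 : (algebraMap A (Localization.AtPrime p.1.asIdeal) t) ^ m * (i p) ^ m = 0 := by
        rw [← mul_pow, h p, ← map_pow, ← Nat.sub_add_cancel hmN, pow_add, hN, mul_zero, map_zero]
      have hu : IsUnit ((algebraMap A (Localization.AtPrime p.1.asIdeal) t) ^ m) :=
        (IsLocalization.map_units _ (⟨t, ht p⟩ : p.1.asIdeal.primeCompl)).pow m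
      exact (hu.mul_right_eq_zero).mp h1
    rw [hzero, zero_mul]
    exact Subring.zero_mem _
  · rw [not_le] at hmN
    have hmn : m ≤ N + e * N + 1 := by
      have := Finset.mem_range.mp hm
      omega
    have hem : e * m ≤ e * N := Nat.mul_le_mul_left e hmN.le
    obtain ⟨r, hr⟩ : ∃ r, N + e * N + 1 - m = e * m + r := ⟨N + e * N + 1 - m - e * m, by omega⟩
    rw [hr, pow_add, pow_mul, ← map_pow, heb, map_mul, mul_pow, ← mul_assoc, ← mul_assoc,
      ← mul_pow, mul_comm i, hTi, ← map_pow, ← map_pow, ← map_pow, ← map_mul, ← map_mul]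
    exact ⟨_, rfl⟩

end Groth.Agent.S7667
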