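import Groth.Statements.S7668
import Mathlib

set_option autoImplicit false
universe u
open CategoryTheory CategoryTheory.Limits AlgebraicGeometry
open Variety

namespace Groth.Agent.S7668

section Helpers

variable {A : Type u} [CommRing A] {r : ℕ} (p : Fin r → PrimeSpectrum A)

/-- the multiplicative set: complement of the union of the `p i` -/
abbrev S : Submonoid A := ⨅ i, (p i).asIdeal.primeCompl

lemma mem_S_iff (a : A) : a ∈ S p ↔ ∀ i, a ∉ (p i).asIdeal := by
  simp [S, Submonoid.mem_iInf, Ideal.primeCompl]

lemma disjoint_p (i : Fin r) : Disjoint ((S p : Submonoid A) : Set A) ((p i).asIdeal : Set A) := by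
  rw [Set.disjoint_left]
  intro a ha hai
  exact (mem_S_iff p a).1 ha i hai

lemma exists_le_of_disjoint (q : Ideal A) [q.IsPrime]
    (hq : Disjoint ((S p : Submonoid A) : Set A) (q : Set A)) : ∃ i, q ≤ (p i).asIdeal := by
  have hsub : (q : Set A) ⊆ ⋃ i ∈ ((Finset.univ : Finset (Fin r)) : Set (Fin r)), ((p i).asIdeal : Set A) := by
    intro a ha
    by_contra hna
    simp only [Finset.coe_univ, Set.mem_univ, Set.iUnion_true, Set.mem_iUnion, not_exists] at hna
    exact Set.disjoint_left.1 hq ((mem_S_iff p a).2 hna) ha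
  by_cases hr : r = 0
  · subst hr
    exfalso
    have h1 : (1 : A) ∈ (q : Set A) := by
      have := hsub (q.zero_mem)
      simp at this
    exact (inferInstance : q.IsPrime).ne_top ((Ideal.eq_top_iff_one q).2 h1)
  · have i0 : Fin r := ⟨0, Nat.pos_of_ne_zero hr⟩
    obtain ⟨i, -, hi⟩ := (Ideal.subset_union_prime (R := A) (s := Finset.univ)
      (f := fun i => (p i).asIdeal) i0 i0 (fun i _ _ _ => (p i).isPrime)).1 hsub
    exact ⟨i, hi⟩

variable (L : Type u) [CommRing L] [Algebra A L] [IsLocalization (S p) L]

lemma comap_maximal (m : Ideal L) (hm : m.IsMaximal) :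
    ∃ i, m.comap (algebraMap A L) = (p i).asIdeal ∧
      ∀ j, m.comap (algebraMap A L) ≤ (p j).asIdeal → m.comap (algebraMap A L) = (p j).asIdeal := by
  have hprime := (IsLocalization.isPrime_iff_isPrime_disjoint (S p) L m).1 hm.isPrime
  have := hprime.1
  have key : ∀ j, m.comap (algebraMap A L) ≤ (p j).asIdeal →
      m.comap (algebraMap A L) = (p j).asIdeal := by
    intro j hj
    have h1 : m ≤ (p j).asIdeal.map (algebraMap A L) := by
      rw [← IsLocalization.map_under (S p) L m]
      exact Ideal.map_mono hj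
    have h2 : ((p j).asIdeal.map (algebraMap A L)).IsPrime :=
      IsLocalization.isPrime_of_isPrime_disjoint (S p) L _ (p j).isPrime (disjoint_p p j)
    have h3 : m = (p j).asIdeal.map (algebraMap A L) := hm.eq_of_le h2.ne_top h1
    rw [h3]
    exact IsLocalization.under_map_of_isPrime_disjoint (S p) L (p j).isPrime (disjoint_p p j)
  obtain ⟨i, hi⟩ := exists_le_of_disjoint p _ hprime.2
  exact ⟨i, key i hi, key⟩

end Helpers

/-- Let A be a ring, p_1, …, p_r primes of A and S = A ∖ ⋃ p_i. Then S is a multiplicative subset, S⁻¹A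
is semi-local, and contraction to A is a bijection from the maximal ideals of S⁻¹A onto the maximal
elements of {p_1, …, p_r}. -/
theorem result (A : Type u) [CommRing A]
    (r : ℕ) (p : Fin r → PrimeSpectrum A) :
    Finite (MaximalSpectrum (Localization (⨅ i, (p i).asIdeal.primeCompl))) ∧
      Set.BijOn (fun m : Ideal (Localization (⨅ i, (p i).asIdeal.primeCompl)) =>
          m.comap (algebraMap A (Localization (⨅ i, (p i).asIdeal.primeCompl))))
        {m | m.IsMaximal}
        {q | q ∈ Set.range (fun i => (p i).asIdeal) ∧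
          ∀ j, q ≤ (p j).asIdeal → q = (p j).asIdeal} := by
  set L := Localization (⨅ i, (p i).asIdeal.primeCompl) with hL
  have : IsLocalization (S p) L := (inferInstance : IsLocalization (⨅ i, (p i).asIdeal.primeCompl) (Localization (⨅ i, (p i).asIdeal.primeCompl)))
  have hinj : Function.Injective (fun m : Ideal L => m.comap (algebraMap A L)) := by
    intro m₁ m₂ h
    have h' : m₁.comap (algebraMap A L) = m₂.comap (algebraMap A L) := h
    rw [← IsLocalization.map_under (S p) L m₁, ← IsLocalization.map_under (S p) L m₂]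
    exact congrArg (Ideal.map (algebraMap A L)) h'
  refine ⟨?_, ?_, ?_, ?_⟩
  · -- finiteness
    choose φ hφ using fun m : MaximalSpectrum L => comap_maximal p L m.asIdeal m.isMaximal
    refine Finite.of_injective φ ?_
    intro m₁ m₂ h
    have h1 := (hφ m₁).1
    have h2 := (hφ m₂).1
    rw [h] at h1
    have : m₁.asIdeal = m₂.asIdeal := hinj (h1.trans h2.symm)
    exact MaximalSpectrum.ext this
  · intro m hm
    obtain ⟨i, hi, hmax⟩ := comap_maximal p L m hm
    exact ⟨⟨i, hi.symm⟩, hmax⟩
  · exact fun m₁ _ m₂ _ h => hinj h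
  · rintro q ⟨⟨i, rfl⟩, hqmax⟩
    have hpr : ((p i).asIdeal.map (algebraMap A L)).IsPrime :=
      IsLocalization.isPrime_of_isPrime_disjoint (S p) L _ (p i).isPrime (disjoint_p p i)
    have hcm : ((p i).asIdeal.map (algebraMap A L)).comap (algebraMap A L) = (p i).asIdeal :=
      IsLocalization.under_map_of_isPrime_disjoint (S p) L (p i).isPrime (disjoint_p p i)
    obtain ⟨M, hM, hle⟩ := Ideal.exists_le_maximal _ hpr.ne_top
    obtain ⟨j, hj, -⟩ := comap_maximal p L M hM
    have h1 : (p i).asIdeal ≤ M.comap (algebraMap A L) := by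
      rw [← hcm]; exact Ideal.comap_mono hle
    have h2 : (p i).asIdeal = (p j).asIdeal := hqmax j (h1.trans hj.le)
    have h3 : M = (p i).asIdeal.map (algebraMap A L) := by
      rw [← IsLocalization.map_under (S p) L M]
      show Ideal.map (algebraMap A L) (M.comap (algebraMap A L)) = _
      rw [hj, h2]
    refine ⟨(p i).asIdeal.map (algebraMap A L), ?_, hcm⟩
    show ((p i).asIdeal.map (algebraMap A L)).IsMaximal
    rw [← h3]; exact hM

end Groth.Agent.S7668
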