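import Groth.Statements.S7670
import Mathlib
import Groth.Agent.S1552
import Groth.Agent.Lib.Helper18.SigmaMod
import Groth.Agent.Lib.Helper18.SigmaIso
import Groth.Agent.Lib.Helper2.SigmaFin

set_option autoImplicit false
universe u
open CategoryTheory CategoryTheory.Limits AlgebraicGeometry
open Variety

namespace Groth.Agent.S7670

open Groth.Agent.Lib.Helper18.SigmaMod Groth.Agent.Lib.Helper18.SigmaIso

/-- Let X be a reduced scheme and Z_1, …, Z_n ⊆ X closed subschemes with X = ⋃ Z_i set-theoretically and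
Z_i ∩ Z_j discrete for i ≠ j, and let L_i be an invertible module on Z_i. Then there is an
invertible module L on X whose restriction to each Z_i is isomorphic to L_i. (The published
statement also gives, for sections s_i of L_i that do not vanish at the points of Z_i ∩ Z_j, a
choice of L with a global section restricting to each s_i; this row states only the existence of L.) -/
theorem result (X : Scheme.{u}) [IsReduced X]
    (n : ℕ) (Z : Fin n → X.IdealSheafData)
    (hcov : ⋃ i, ((Z i).support : Set X) = Set.univ)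
    (hdisc : ∀ i j, i ≠ j → DiscreteTopology ↥(((Z i).support : Set X) ∩ ((Z j).support : Set X)))
    (L : ∀ i, (Z i).subscheme.Modules) (hL : ∀ i, PicF.IsInvertible (L i)) :
    ∃ M : X.Modules, PicF.IsInvertible M ∧
      ∀ i, Nonempty ((Scheme.Modules.pullback (Z i).subschemeι).obj M ≅ L i) := by
  classical
  let κ := ULift.{u} (Fin n)
  let Zs : κ → Scheme.{u} := fun k => (Z k.down).subscheme
  let g : ∀ k, Zs k ⟶ X := fun k => (Z k.down).subschemeι
  haveI hci : ∀ k, IsClosedImmersion (g k) := fun k => inferInstanceAs (IsClosedImmersion (Z k.down).subschemeι)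
  have hrange : ∀ k, Set.range (g k) = ((Z k.down).support : Set X) := fun k =>
    (Z k.down).range_subschemeι
  -- the overlap locus
  let D : Set X := ⋃ p : {p : κ × κ // p.1 ≠ p.2}, (Set.range (g p.1.1) ∩ Set.range (g p.1.2))
  have hDclosed : IsClosed D :=
    isClosed_iUnion_of_finite (fun p => (g p.1.1).isClosedEmbedding.isClosed_range.inter
      (g p.1.2).isClosedEmbedding.isClosed_range)
  have hDdisc : _root_.IsDiscrete D := by
    apply _root_.IsDiscrete.iUnion
    · intro p
      rw [hrange, hrange]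
      exact isDiscrete_iff_discreteTopology.2 (hdisc p.1.1.down p.1.2.down
        (fun h => p.2 (ULift.ext _ _ h)))
    · intro p
      exact (g p.1.1).isClosedEmbedding.isClosed_range.inter (g p.1.2).isClosedEmbedding.isClosed_range
  let V : X.Opens := ⟨Dᶜ, hDclosed.isOpen_compl⟩
  have hV : IsIso (Sigma.desc g ∣_ V) := by
    apply isIso_morphismRestrict_sigmaDesc Zs g V
    · intro x _
      have hx : x ∈ ⋃ i, ((Z i).support : Set X) := by rw [hcov]; trivial
      obtain ⟨i, hi⟩ := Set.mem_iUnion.1 hx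
      exact ⟨⟨i⟩, by rw [hrange]; exact hi⟩
    · intro k l hkl x hxV hxk hxl
      exact hxV (Set.mem_iUnion.2 ⟨⟨(k, l), hkl⟩, hxk, hxl⟩)
  have hVc : DiscreteTopology ((V : Set X)ᶜ : Set X) := by
    have : ((V : Set X)ᶜ : Set X) = D := compl_compl D
    rw [this]
    exact isDiscrete_iff_discreteTopology.1 hDdisc
  haveI : IsFinite (Sigma.desc g) :=
    Groth.Agent.Lib.helper2.QuotLib.isFinite_sigmaDesc κ Zs g (fun k => inferInstance)
  obtain ⟨N, hN, ⟨e⟩⟩ := Groth.Agent.S1552.result (Sigma.desc g) V hV hVc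
    (sigmaMod Zs (fun k => L k.down)) (isInvertible_sigmaMod Zs _ (fun k => hL k.down))
  refine ⟨N, hN, fun i => ⟨?_⟩⟩
  have h1 : Sigma.ι Zs ⟨i⟩ ≫ Sigma.desc g = (Z i).subschemeι := Sigma.ι_desc g ⟨i⟩
  exact (Scheme.Modules.pullbackCongr h1).symm.app N ≪≫
    ((Scheme.Modules.pullbackComp (Sigma.ι Zs ⟨i⟩) (Sigma.desc g)).symm.app N) ≪≫
    (Scheme.Modules.pullback (Sigma.ι Zs ⟨i⟩)).mapIso e ≪≫
    pullbackSigmaModIso Zs (fun k => L k.down) ⟨i⟩

end Groth.Agent.S7670
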