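import Groth.Statements.S7671
import Groth.Agent.Lib.Helper12.TrivDescent3

set_option autoImplicit false
set_option linter.style.haveILetI false
universe u
open CategoryTheory CategoryTheory.Limits AlgebraicGeometry
open Variety

namespace Groth.Agent.S7671


/-- finiteness of the maximal spectrum transfers along a ring isomorphism -/
theorem finite_maximalSpectrum_of_ringEquiv {S R : Type u} [CommRing S] [CommRing R] (e : S ≃+* R)
    [Finite (MaximalSpectrum R)] : Finite (MaximalSpectrum S) := by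
  let F : MaximalSpectrum S → MaximalSpectrum R := fun P =>
    ⟨P.asIdeal.comap (e.symm : R →+* S), Ideal.comap_isMaximal_of_surjective _ e.symm.surjective⟩
  refine Finite.of_injective F ?_
  intro P Q hPQ
  have h1 : P.asIdeal.comap (e.symm : R →+* S) = Q.asIdeal.comap (e.symm : R →+* S) :=
    congrArg MaximalSpectrum.asIdeal hPQ
  apply MaximalSpectrum.ext
  have h2 := congrArg (Ideal.comap (e : S →+* R)) h1
  rw [Ideal.comap_comap, Ideal.comap_comap] at h2
  have h3 : ((e.symm : R →+* S).comp (e : S →+* R)) = RingHom.id S := by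
    ext x; simp
  rw [h3, Ideal.comap_id, Ideal.comap_id] at h2
  exact h2

/-- Let A → B be faithfully flat and X a quasi-compact and quasi-separated scheme over A such that
H^0(X, O_X) is a semi-local ring. Then Pic(X) → Pic(X_B) is injective: an invertible module on X
which becomes trivial on X_B is trivial. -/
theorem result (A B : Type u) [CommRing A]
    [CommRing B] [Algebra A B] [Module.FaithfullyFlat A B]
    (X : Scheme.{u}) (f : X ⟶ Spec (CommRingCat.of A)) [CompactSpace X] [QuasiSeparatedSpace X]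
    (hsl : Finite (MaximalSpectrum Γ(X, ⊤))) (L : X.Modules) (hL : PicF.IsInvertible L)
    (htriv : Nonempty ((Scheme.Modules.pullback
        (pullback.fst f (Spec.map (CommRingCat.ofHom (algebraMap A B))))).obj L ≅
      Coh.structureModule (pullback f (Spec.map (CommRingCat.ofHom (algebraMap A B)))))) :
    Nonempty (L ≅ Coh.structureModule X) := by
  obtain ⟨ε⟩ := htriv
  let gA : Spec (CommRingCat.of B) ⟶ Spec (CommRingCat.of A) :=
    Spec.map (CommRingCat.ofHom (algebraMap A B))
  let φ : CommRingCat.of A ⟶ Γ(X, ⊤) := (Scheme.ΓSpecIso (CommRingCat.of A)).inv ≫ f.appTop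
  have hfφ : f = X.toSpecΓ ≫ Spec.map φ := by
    rw [Spec.map_comp, ← Scheme.toSpecΓ_naturality_assoc, toSpecΓ_SpecMap_ΓSpecIso_inv,
      Category.comp_id]
  letI : Algebra A Γ(X, ⊤) := φ.hom.toAlgebra
  let ψR : Γ(X, ⊤) ⟶ CommRingCat.of (TensorProduct A Γ(X, ⊤) B) :=
    CommRingCat.ofHom (algebraMap Γ(X, ⊤) (TensorProduct A Γ(X, ⊤) B))
  let ψB : CommRingCat.of B ⟶ CommRingCat.of (TensorProduct A Γ(X, ⊤) B) :=
    CommRingCat.ofHom (Algebra.TensorProduct.includeRight (R := A) (A := Γ(X, ⊤)) (B := B)).toRingHom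
  have hsq : φ ≫ ψR = CommRingCat.ofHom (algebraMap A B) ≫ ψB := by
    ext a
    change algebraMap Γ(X, ⊤) (TensorProduct A Γ(X, ⊤) B) (algebraMap A Γ(X, ⊤) a) =
      Algebra.TensorProduct.includeRight (R := A) (A := Γ(X, ⊤)) (B := B) (algebraMap A B a)
    rw [Algebra.TensorProduct.algebraMap_apply, Algebra.TensorProduct.includeRight_apply,
      Algebra.algebraMap_self_apply]
    exact Algebra.TensorProduct.tmul_one_eq_one_tmul a
  let g' : Spec (CommRingCat.of (TensorProduct A Γ(X, ⊤) B)) ⟶ Spec Γ(X, ⊤) := Spec.map ψR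
  have hFF : ψR.hom.FaithfullyFlat := (RingHom.faithfullyFlat_algebraMap_iff).mpr inferInstance
  obtain ⟨hflat, hsurj⟩ := (flat_and_surjective_SpecMap_iff ψR).mpr hFF
  haveI : Flat g' := hflat
  haveI : Surjective g' := hsurj
  let f' : X ⟶ Spec Γ(X, ⊤) := X.toSpecΓ
  haveI : QuasiCompact f' := inferInstance
  haveI : QuasiSeparated f' := inferInstanceAs (QuasiSeparated X.toSpecΓ)
  let pr₁ := pullback.fst f' g'
  let pr₂ := pullback.snd f' g'
  have hcond : pr₁ ≫ f = (pr₂ ≫ Spec.map ψB) ≫ gA := by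
    rw [hfφ, ← Category.assoc, pullback.condition, Category.assoc, Category.assoc,
      ← Spec.map_comp, ← Spec.map_comp, hsq]
  let h : pullback f' g' ⟶ pullback f gA := pullback.lift pr₁ (pr₂ ≫ Spec.map ψB) hcond
  have hh : h ≫ pullback.fst f gA = pr₁ := pullback.lift_fst _ _ _
  let ε'' : (Scheme.Modules.pullback pr₁).obj L ≅ Coh.structureModule (pullback f' g') :=
    (Scheme.Modules.pullbackCongr hh.symm).app L ≪≫
      ((Scheme.Modules.pullbackComp h (pullback.fst f gA)).app L).symm ≪≫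
      (Scheme.Modules.pullback h).mapIso ε ≪≫ Groth.Agent.Lib.helper11.InvMod.pullbackUnitIso h
  have hW : (⊤ : X.Opens) ≤ f' ⁻¹ᵁ ⊤ := le_top
  have hf' : Function.Bijective (f'.appLE ⊤ ⊤ hW).hom := by
    rw [Groth.Agent.Lib.helper12.QAffDescent.appLE_top_top f' hW, Scheme.toSpecΓ_appTop]
    exact ConcreteCategory.bijective_of_isIso (Scheme.ΓSpecIso Γ(X, ⊤)).hom
  haveI : Finite (MaximalSpectrum Γ(X, ⊤)) := hsl
  haveI : Finite (MaximalSpectrum Γ(Spec Γ(X, ⊤), ⊤)) :=
    finite_maximalSpectrum_of_ringEquiv (Scheme.ΓSpecIso Γ(X, ⊤)).commRingCatIsoToRingEquiv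
  obtain ⟨t, ht⟩ := Groth.Agent.Lib.helper12.TrivDescent.exists_isIso_section_of_semilocal
    (IsPullback.of_hasPullback f' g') hW hf' hL ε''
  exact ⟨(asIso t).symm⟩

end Groth.Agent.S7671
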