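import Groth.Statements.S7678
import Mathlib
import Groth.Agent.Lib.Helper3.FrobRed

set_option autoImplicit false
universe u
open CategoryTheory CategoryTheory.Limits AlgebraicGeometry
open Variety

namespace Groth.Agent.S7678


open Groth.Agent.Lib.helper3

/-- `k` as an algebra over itself through Frobenius -/
def Fk (k : Type u) (_p : ℕ) : Type u := k

noncomputable instance (k : Type u) [Field k] (p : ℕ) : Field (Fk k p) := inferInstanceAs (Field k)

noncomputable instance (k : Type u) [Field k] (p : ℕ) [Fact p.Prime] [CharP k p] :
    Algebra k (Fk k p) := (frobenius k p).toAlgebra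

/-- For a field k of positive characteristic p and a k-scheme X, the base change of X along the p-th
power map of k is a reduced scheme exactly when X is geometrically reduced over k. -/
theorem result (k : Type u) [Field k] (X : Scheme.{u}) [X.Over (Spec (CommRingCat.of k))]
    (p : ℕ) [Fact p.Prime] [CharP k p] :
    GeometricallyReduced (X ↘ (Spec (CommRingCat.of k))) ↔
      IsReduced ↑(pullback (X ↘ (Spec (CommRingCat.of k))) (Spec.map (CommRingCat.ofHom (frobenius k p)))) := by
  constructor
  · intro h
    exact pullback_of_geometrically h.geometrically_isReduced k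
      (Spec.map (CommRingCat.ofHom (frobenius k p)))
  · intro h
    have h' : AlgebraicGeometry.IsReduced (pullback (X ↘ (Spec (CommRingCat.of k)))
        (Spec.map (CommRingCat.ofHom (algebraMap k (Fk k p))))) := h
    apply GeomRed.geometricallyReduced_of_forall
    intro A _ _ j _ hj
    have h1 := GeomRed.isReduced_tensor_of_isReduced_pullback _ (Fk k p) h' A j hj
    have hk' : ∀ a : k, ∃ b : Fk k p, b ^ p = algebraMap k (Fk k p) a := fun a => ⟨a, rfl⟩
    exact FrobRed.isGeometricallyReduced p (Fk k p) hk' A (GeomRed.isReduced_comm A (Fk k p) h1)

end Groth.Agent.S7678
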