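import Groth.Statements.S7679
import Mathlib
import Groth.Agent.Lib.Helper21.NegTwist2
import Groth.Agent.Lib.Helper16.CohStalk
import Groth.Agent.Lib.Helper26.DepthCR
-- import your own Groth.Agent.* helpers here

set_option autoImplicit false
universe u
open CategoryTheory CategoryTheory.Limits AlgebraicGeometry
open Variety

namespace Groth.Agent.S7679

/-- Let X be proper over a field k, L an ample invertible module and F a coherent module such that
Ass(F) contains no closed point. Then Γ(X, F ⊗ L^{⊗n}) = 0 for n ≪ 0; here negative powers of L are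
written as positive powers of an inverse M of L. -/
theorem result (k : Type u) [Field k] (X : Scheme.{u}) [X.Over (Spec (CommRingCat.of k))] [IsProper (X ↘ (Spec (CommRingCat.of k)))]
    (L : X.Modules) (hL : CohB1.IsAmple L) (M : X.Modules) (hM : ClSub.IsInverseOf L M)
    (F : X.Modules) (hF : Coh.IsCoh F) (hass : ∀ x : X, IsClosed ({x} : Set X) → ¬ Curv2.IsAssPoint F x) :
    ∃ n₀ : ℕ, ∀ n : ℕ, n₀ ≤ n →
      Subsingleton (Coh.HH X (CohB1.tensorMod F (CohB1.tensorPow M n)) 0) := by
  haveI : IsLocallyNoetherian (Spec (CommRingCat.of k)) := inferInstance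
  haveI : IsLocallyNoetherian X :=
    LocallyOfFiniteType.isLocallyNoetherian (X ↘ (Spec (CommRingCat.of k)))
  obtain ⟨n₀, hn₀⟩ := Groth.Agent.Lib.helper21.NegTwist.exists_forall_subsingleton_HH_negTwist
    (X ↘ (Spec (CommRingCat.of k))) hL hM F hF 0 (fun x hx => by
      rw [Nat.cast_zero, pos_iff_ne_zero]
      intro h0
      haveI : Module.Finite (X.presheaf.stalk x) (F.presheaf.stalk x) :=
        Groth.Agent.Lib.helper16.CohStalk.finite_stalk_of_isCoh F hF x
      obtain ⟨m, hm, hkill⟩ :=
        Groth.Agent.Lib.helper26.Depth.exists_ne_zero_annihilated_of_idealDepth_eq_zero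
          (IsLocalRing.maximalIdeal (X.presheaf.stalk x)) (F.presheaf.stalk x) h0
      refine hass x hx ?_
      change IsAssociatedPrime _ _
      rw [isAssociatedPrime_iff]
      refine ⟨inferInstance, m, ?_⟩
      have hle : IsLocalRing.maximalIdeal (X.presheaf.stalk x) ≤
          Submodule.colon (⊥ : Submodule (X.presheaf.stalk x) (F.presheaf.stalk x)) {m} := by
        intro r hr
        rw [Submodule.mem_colon_singleton, Submodule.mem_bot]
        exact hkill r hr
      have hne : Submodule.colon (⊥ : Submodule (X.presheaf.stalk x) (F.presheaf.stalk x)) {m} ≠ ⊤ := by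
        intro htop
        have h1 : (1 : X.presheaf.stalk x) ∈
            Submodule.colon (⊥ : Submodule (X.presheaf.stalk x) (F.presheaf.stalk x)) {m} := by
          rw [htop]; exact Submodule.mem_top
        rw [Submodule.mem_colon_singleton, Submodule.mem_bot, one_smul] at h1
        exact hm h1
      exact ((IsLocalRing.maximalIdeal.isMaximal _).eq_of_le hne hle))
  exact ⟨n₀, fun m hm => hn₀ m hm 0 le_rfl⟩

end Groth.Agent.S7679
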