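import Groth.Statements.S7680
import Mathlib
import Groth.Agent.Lib.Helper21.NegTwist2
-- import your own Groth.Agent.* helpers here

set_option autoImplicit false
universe u
open CategoryTheory CategoryTheory.Limits AlgebraicGeometry
open Variety

namespace Groth.Agent.S7680

/-- Let X be proper over a field k, L an ample invertible module and F a coherent module with depth(F_x)
≥ 2 for every closed point x. Then H^1(X, F ⊗ L^{⊗m}) = 0 for m ≪ 0; negative powers of L are
written as powers of an inverse M of L. -/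
theorem result (k : Type u) [Field k] (X : Scheme.{u}) [X.Over (Spec (CommRingCat.of k))] [IsProper (X ↘ (Spec (CommRingCat.of k)))]
    (L : X.Modules) (hL : CohB1.IsAmple L) (M : X.Modules) (hM : ClSub.IsInverseOf L M)
    (F : X.Modules) (hF : Coh.IsCoh F)
    (hdepth : ∀ x : X, IsClosed ({x} : Set X) → 2 ≤ LocCoh.depth (X.presheaf.stalk x) (F.presheaf.stalk x)) :
    ∃ m₀ : ℕ, ∀ m : ℕ, m₀ ≤ m →
      Subsingleton (Coh.HH X (CohB1.tensorMod F (CohB1.tensorPow M m)) 1) := by
  obtain ⟨n₀, hn₀⟩ := Groth.Agent.Lib.helper21.NegTwist.exists_forall_subsingleton_HH_negTwist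
    (X ↘ (Spec (CommRingCat.of k))) hL hM F hF 1 (fun x hx => by
      have h2 := hdepth x hx
      have h12 : ((1 : ℕ) : ℕ∞) < 2 := by norm_num
      exact lt_of_lt_of_le h12 h2)
  exact ⟨n₀, fun m hm => hn₀ m hm 1 le_rfl⟩

end Groth.Agent.S7680
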