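import Groth.Statements.S7684
import Mathlib
import Groth.Agent.Lib.Helper13.KrAk4
import Groth.Agent.S2351
import Groth.Agent.S7830
import Groth.Agent.S9821
-- import your own Groth.Agent.* helpers here

set_option autoImplicit false
universe u
open CategoryTheory CategoryTheory.Limits AlgebraicGeometry
open Variety

namespace Groth.Agent.S7684

noncomputable section

open AlgebraicGeometry CategoryTheory Limits Groth.Agent.Lib.helper13.UCA Groth.Agent.Lib.helper13.Normal Groth.Agent.Lib.helper13.KrAk in
theorem main (X : Scheme.{u}) [IsIntegral X] [IsLocallyNoetherian X]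
    [QuasiCompact (X.fromSpecStalk (genericPoint X))]
    [QuasiSeparated (X.fromSpecStalk (genericPoint X))]
    (hdim : topologicalKrullDim X = 1)
    (hint : IsIntegral (X.fromSpecStalk (genericPoint X)).normalization)
    (hnorm : Pi1.IsNormalScheme (X.fromSpecStalk (genericPoint X)).normalization)
    (hgen : (X.fromSpecStalk (genericPoint X)).fromNormalization
      (genericPoint (X.fromSpecStalk (genericPoint X)).normalization) = genericPoint X)
    (hbij : Function.Bijective ((X.fromSpecStalk (genericPoint X)).fromNormalization.residueFieldMap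
      (genericPoint (X.fromSpecStalk (genericPoint X)).normalization)).hom) :
    (∀ x : X, Finite {x' : ↥(X.fromSpecStalk (genericPoint X)).normalization //
        (X.fromSpecStalk (genericPoint X)).fromNormalization x' = x}) ∧
      (∀ x' : ↥(X.fromSpecStalk (genericPoint X)).normalization,
        ((X.fromSpecStalk (genericPoint X)).fromNormalization.residueFieldMap x').hom.Finite) ∧
      IsLocallyNoetherian (X.fromSpecStalk (genericPoint X)).normalization ∧
      (∀ U : (X.fromSpecStalk (genericPoint X)).normalization.affineOpens,
        ((U : (X.fromSpecStalk (genericPoint X)).normalization.Opens) :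
          Set ↥(X.fromSpecStalk (genericPoint X)).normalization).Nonempty →
        IsDedekindDomain Γ((X.fromSpecStalk (genericPoint X)).normalization,
          (U : (X.fromSpecStalk (genericPoint X)).normalization.Opens))) := by
  set g := X.fromSpecStalk (genericPoint X) with hg
  set ν := g.fromNormalization with hν
  have hclX : ∀ x : X, x ≠ genericPoint X → IsClosed ({x} : Set X) := fun x hx =>
    Groth.Agent.S7830.isClosed_singleton_of_ne_genericPoint hdim x hx
  have hclX' : ∀ x' : g.normalization, x' ≠ genericPoint g.normalization →
      IsClosed ({x'} : Set g.normalization) :=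
    isClosed_singleton_of_isIntegralHom ν hgen hclX
  -- points over the generic point
  have hgenuniq : ∀ x' : g.normalization, ν x' = genericPoint X →
      x' = genericPoint g.normalization := by
    intro x' hx'
    have hsp : genericPoint g.normalization ⤳ x' := (genericPoint_spec _).specializes trivial
    exact (eq_of_specializes_of_isIntegralHom ν hsp (by rw [hgen, hx'])).symm
  -- Noetherianity of the affine pieces
  have hNoeth : ∀ (V : X.Opens) (hV : IsAffineOpen V), Nonempty V →
      IsNoetherianRing Γ(g.normalization, ν ⁻¹ᵁ V) := by
    intro V hV hne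
    haveI := hne
    haveI : IsNoetherianRing Γ(X, V) := IsLocallyNoetherian.component_noetherian ⟨V, hV⟩
    exact isNoetherianRing_normalization_preimage X V hV
      (fun p hp hp0 => isMaximal_of_ne_bot hclX hV p hp hp0)
  have hLN : IsLocallyNoetherian g.normalization := by
    refine isLocallyNoetherian_of_affine_cover
      (ι := {V : X.affineOpens // Nonempty V.1})
      (S := fun V => ⟨ν ⁻¹ᵁ V.1.1, V.1.2.preimage ν⟩) ?_ ?_
    · rw [eq_top_iff]
      intro x' _
      obtain ⟨V, hV, hxV, -⟩ :=
        exists_isAffineOpen_mem_and_subset (X := X) (x := ν x') (U := ⊤) trivial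
      exact TopologicalSpace.Opens.mem_iSup.mpr ⟨⟨⟨V, hV⟩, ⟨⟨ν x', hxV⟩⟩⟩, hxV⟩
    · intro V
      exact hNoeth V.1.1 V.1.2 V.2
  refine ⟨?_, ?_, hLN, ?_⟩
  · -- finite fibres
    intro x
    by_cases hx : x = genericPoint X
    · haveI : Subsingleton {x' : ↥g.normalization // ν x' = x} :=
        ⟨fun a b => Subtype.ext ((hgenuniq a.1 (a.2.trans hx)).trans
          (hgenuniq b.1 (b.2.trans hx)).symm)⟩
      infer_instance
    · obtain ⟨V, hV, hxV, -⟩ :=
        exists_isAffineOpen_mem_and_subset (X := X) (x := x) (U := ⊤) trivial
      haveI : Nonempty V := ⟨⟨x, hxV⟩⟩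
      have hW : IsAffineOpen (ν ⁻¹ᵁ V) := hV.preimage ν
      haveI : IsNoetherianRing Γ(g.normalization, ν ⁻¹ᵁ V) := hNoeth V hV inferInstance
      obtain ⟨a, haP, ha0⟩ := Submodule.exists_mem_ne_zero_of_ne_bot
        (primeAt_ne_bot hV x hxV hx)
      have hφa : (ν.app V).hom a ≠ 0 := by
        intro h
        apply ha0
        apply injective_fromNormalization_app X V hV
        rw [h, map_zero]
      have hmemW : ∀ x' : {x' : ↥g.normalization // ν x' = x}, x'.1 ∈ ν ⁻¹ᵁ V := fun x' => by
        show ν x'.1 ∈ V
        rw [x'.2]; exact hxV
      have hmin : ∀ x' : {x' : ↥g.normalization // ν x' = x},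
          primeAt (ν ⁻¹ᵁ V) x'.1 (hmemW x') ∈
            (Ideal.span {(ν.app V).hom a}).minimalPrimes := by
        intro x'
        have hφP : (ν.app V).hom a ∈ primeAt (ν ⁻¹ᵁ V) x'.1 (hmemW x') := by
          have hc := comap_primeAt ν V (ν ⁻¹ᵁ V) le_rfl x'.1 (hmemW x')
          rw [Scheme.Hom.appLE_eq_app] at hc
          have : a ∈ (primeAt (ν ⁻¹ᵁ V) x'.1 (hmemW x')).comap (ν.app V).hom := by
            rw [hc]
            exact (primeAt_congr x'.2.symm hxV _) ▸ haP
          exact this
        refine ⟨⟨inferInstance, (Ideal.span_singleton_le_iff_mem _).mpr hφP⟩, ?_⟩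
        rintro Q ⟨hQ, hQa⟩ hQP
        have hQ0 : Q ≠ ⊥ := by
          rintro rfl
          exact hφa ((Ideal.mem_bot).mp ((Ideal.span_singleton_le_iff_mem _).mp hQa))
        have hQmax : Q.IsMaximal := isMaximal_of_ne_bot hclX' hW Q hQ hQ0
        exact (hQmax.eq_of_le (Ideal.IsPrime.ne_top inferInstance) hQP).ge
      haveI : Finite ↥(Ideal.span {(ν.app V).hom a}).minimalPrimes :=
        (Ideal.finite_minimalPrimes_of_isNoetherianRing _ _).to_subtype
      refine Finite.of_injective
        (fun x' : {x' : ↥g.normalization // ν x' = x} =>
          (⟨primeAt (ν ⁻¹ᵁ V) x'.1 (hmemW x'), hmin x'⟩ :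
            ↥(Ideal.span {(ν.app V).hom a}).minimalPrimes)) ?_
      intro x' y' hxy
      have := congrArg Subtype.val hxy
      exact Subtype.ext (eq_of_primeAt_eq' hW x'.1 y'.1 (hmemW x') (hmemW y') this)
  · -- residue fields
    intro x'
    by_cases hx' : x' = genericPoint g.normalization
    · subst hx'
      exact RingHom.Finite.of_surjective _ hbij.2
    · have hx : ν x' ≠ genericPoint X := fun h => hx' (hgenuniq x' h)
      obtain ⟨V, hV, hxV, -⟩ :=
        exists_isAffineOpen_mem_and_subset (X := X) (x := ν x') (U := ⊤) trivial
      haveI : Nonempty V := ⟨⟨ν x', hxV⟩⟩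
      have hW : IsAffineOpen (ν ⁻¹ᵁ V) := hV.preimage ν
      have hx'W : x' ∈ ν ⁻¹ᵁ V := hxV
      haveI : IsNoetherianRing Γ(X, V) := IsLocallyNoetherian.component_noetherian ⟨V, hV⟩
      obtain ⟨a, haP, ha0⟩ := Submodule.exists_mem_ne_zero_of_ne_bot
        (primeAt_ne_bot hV (ν x') hxV hx)
      have hmax : (primeAt (ν ⁻¹ᵁ V) x' hx'W).IsMaximal :=
        primeAt_isMaximal_of_isClosed hW x' hx'W (hclX' x' hx')
      have hsurj := evaluation_surjective hW x' hx'W hmax
      have hnat := Scheme.evaluation_naturality_apply ν x' hxV
      have heva : (X.evaluation V (ν x') hxV).hom a = 0 := by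
        rw [Scheme.evaluation_eq_zero_iff_notMem_basicOpen]
        exact (mem_primeAt a).mp haP
      have hψa : (g.normalization.evaluation (ν ⁻¹ᵁ V) x' hx'W).hom ((ν.app V).hom a) = 0 := by
        have := hnat a
        rw [heva, map_zero] at this
        exact this.symm
      have hfin := finite_comp_fromNormalization_app X V hV
        (fun p hp hp0 => isMaximal_of_ne_bot hclX hV p hp hp0) ha0
        (g.normalization.evaluation (ν ⁻¹ᵁ V) x' hx'W).hom hsurj hψa
      have heq : (g.normalization.evaluation (ν ⁻¹ᵁ V) x' hx'W).hom.comp (ν.app V).hom =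
          (ν.residueFieldMap x').hom.comp (X.evaluation V (ν x') hxV).hom := by
        ext s
        exact (hnat s).symm
      rw [heq] at hfin
      exact RingHom.Finite.of_comp_finite hfin
  · -- Dedekind
    intro U hUne
    haveI : Nonempty (U : g.normalization.Opens) := by
      obtain ⟨p, hp⟩ := hUne
      exact ⟨⟨p, hp⟩⟩
    haveI : IsDomain Γ(g.normalization, (U : g.normalization.Opens)) := inferInstance
    haveI : IsNoetherianRing Γ(g.normalization, (U : g.normalization.Opens)) :=
      IsLocallyNoetherian.component_noetherian U
    haveI : IsIntegrallyClosed Γ(g.normalization, (U : g.normalization.Opens)) :=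
      (Groth.Agent.S9821.result g.normalization).mp hnorm U.1 U.2
    exact
      { toIsDomain := inferInstance
        toIsDedekindRing :=
          { toIsNoetherian := inferInstance
            toDimensionLEOne := ⟨fun {p} hp0 hp => isMaximal_of_ne_bot hclX' U.2 p hp hp0⟩
            toIsIntegralClosure := inferInstanceAs
              (IsIntegrallyClosed Γ(g.normalization, (U : g.normalization.Opens))) } }

end


/-- For an integral scheme: let X be an integral locally Noetherian scheme of dimension one and ν : X^ν
→ X its normalization. Then ν has finite fibres and finite residue field extensions, and X^ν is a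
locally Noetherian scheme whose nonempty affine opens are spectra of Dedekind domains. (The
published statement is for any locally Noetherian X of dimension one, with X^ν → X_red, and also
says that ν is integral, surjective and birational, that X^ν is normal and that its stalks are the
integral closures of those of X; here X is integral, and those clauses, which hold for the
normalization of every integral scheme, are not restated.) -/
theorem result (X : Scheme.{u}) [IsIntegral X] [IsLocallyNoetherian X]
    [QuasiCompact (X.fromSpecStalk (genericPoint X))] [QuasiSeparated (X.fromSpecStalk (genericPoint X))]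
    (hdim : topologicalKrullDim X = 1) :
    (∀ x : X, Finite {x' : ↥(Curv2.normalization X) // (Curv2.normalizationι X).base x' = x}) ∧
      (∀ x' : ↥(Curv2.normalization X),
        letI := ((Curv2.normalizationι X).residueFieldMap x').hom.toAlgebra
        Module.Finite (X.residueField ((Curv2.normalizationι X).base x')) ((Curv2.normalization X).residueField x')) ∧
      IsLocallyNoetherian (Curv2.normalization X) ∧
      (∀ U : (Curv2.normalization X).affineOpens, ((U : (Curv2.normalization X).Opens) : Set ↥(Curv2.normalization X)).Nonempty →
        IsDedekindDomain Γ(Curv2.normalization X, (U : (Curv2.normalization X).Opens))) := by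
  obtain ⟨hint, hnorm, -, hgen, hbij⟩ := Groth.Agent.S2351.result X
  exact main X hdim hint hnorm hgen hbij

end Groth.Agent.S7684
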