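import Groth.Statements.S7686
import Groth.Agent.Lib.Helper7.SnapperRefined
open Groth.Agent.Lib.helper7.SnapperRefined Groth.Agent.Lib.helper7.SnapperMult Groth.Agent.Lib.helper7.SnapperMain Groth.Agent.Lib.helper7.SnapperDiff Groth.Agent.Lib.helper7.SnapperQuot

set_option autoImplicit false
universe u
open CategoryTheory CategoryTheory.Limits AlgebraicGeometry
open Variety

namespace Groth.Agent.S7686

/-- Let X be proper over a field k, Z ⊆ X a closed subscheme of dimension d with irreducible components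
Z_i of dimension d (reduced induced structure, generic points ξ_i, multiplicities m_i = length of
O_{Z,ξ_i} over O_{X,ξ_i}) and L_1, …, L_d invertible modules. Then (L_1 ⋯ L_d · Z) = Σ m_i (L_1 ⋯
L_d · Z_i). Intersection numbers are the n_1⋯n_d-coefficients of the polynomials computing the Euler
characteristics; the sum is written over all points ξ whose closure has dimension d (other terms
vanish). -/
theorem result (k : Type u) [Field k] (X : Scheme.{u}) [X.Over (Spec (CommRingCat.of k))] [IsProper (X ↘ (Spec (CommRingCat.of k)))]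
    (D : X.IdealSheafData) (d : ℕ) (hD : topologicalKrullDim (D.support : Set X) = d)
    (L : Fin d → X.Modules) (hL : ∀ i, PicF.IsInvertible (L i)) (P : MvPolynomial (Fin d) ℚ)
    (hP : ∀ n : Fin d → ℕ, (Curv2.euler k X (Curv2.tensorPows (ClSub.quotMod D) d L n) : ℚ) = MvPolynomial.eval (fun i => (n i : ℚ)) P)
    (Q : X → MvPolynomial (Fin d) ℚ)
    (hQ : ∀ ξ : X, topologicalKrullDim (closure ({ξ} : Set X)) = (d : WithBot ℕ∞) →
      ∀ n : Fin d → ℕ, (Curv2.euler k X (Curv2.tensorPows (ClSub.quotMod (Scheme.IdealSheafData.vanishingIdeal (⟨closure ({ξ} : Set X), isClosed_closure⟩ : TopologicalSpace.Closeds X))) d L n) : ℚ) = MvPolynomial.eval (fun i => (n i : ℚ)) (Q ξ)) :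
    MvPolynomial.coeff (Finsupp.equivFunOnFinite.symm fun _ : Fin d => 1) P =
      ∑ᶠ ξ : X, (if topologicalKrullDim (closure ({ξ} : Set X)) = (d : WithBot ℕ∞) then
        ((Module.length (X.presheaf.stalk ξ) ((ClSub.quotMod D).presheaf.stalk ξ)).toNat : ℚ) *
          MvPolynomial.coeff (Finsupp.equivFunOnFinite.symm fun _ : Fin d => 1) (Q ξ) else 0) := by
  classical
  haveI := Groth.Agent.Lib.Lead.CurveEuler.isNoetherian k X
  have hF : Coh.IsCoh (ClSub.quotMod D) := isCoh_quotMod D
  have hd' : topologicalKrullDim (CohB1.support (ClSub.quotMod D)) ≤ ((d : ℕ) : WithBot ℕ∞) :=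
    (dim_support_quotMod_le D).trans hD.le
  let T : Finset X := (finite_top_points (ClSub.quotMod D) hF hd').toFinset
  have hT : ∀ ξ, ξ ∈ T ↔ (ξ ∈ CohB1.support (ClSub.quotMod D) ∧
      topologicalKrullDim (closure ({ξ} : Set X)) = ((d : ℕ) : WithBot ℕ∞)) :=
    fun ξ => Set.Finite.mem_toFinset _
  have hpsi : ∀ n, psi k X d (ClSub.quotMod D) d L n =
      ∑ ξ ∈ T, (mult (ClSub.quotMod D) ξ : ℤ) * chi k X (Gx ξ) d L n := by
    intro n
    unfold psi
    rw [finsum_eq_sum_of_support_subset (s := T)]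
    · apply Finset.sum_congr rfl
      intro ξ hξ
      unfold psiTerm
      rw [if_pos ((hT ξ).mp hξ).2]
    · intro ξ hξ
      have := support_psiTerm_subset k d (ClSub.quotMod D) d L n hξ
      exact Finset.mem_coe.mpr ((hT ξ).mpr this)
  have hrhs : (∑ᶠ ξ : X, (if topologicalKrullDim (closure ({ξ} : Set X)) = (d : WithBot ℕ∞) then
        ((Module.length (X.presheaf.stalk ξ) ((ClSub.quotMod D).presheaf.stalk ξ)).toNat : ℚ) *
          MvPolynomial.coeff (Finsupp.equivFunOnFinite.symm fun _ : Fin d => 1) (Q ξ) else 0)) =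
      ∑ ξ ∈ T, ((mult (ClSub.quotMod D) ξ : ℕ) : ℚ) * MvPolynomial.coeff (ones d) (Q ξ) := by
    rw [finsum_eq_sum_of_support_subset (s := T)]
    · apply Finset.sum_congr rfl
      intro ξ hξ
      rw [if_pos ((hT ξ).mp hξ).2]
      rfl
    · intro ξ hξ
      rw [Function.mem_support] at hξ
      by_cases hdim : topologicalKrullDim (closure ({ξ} : Set X)) = (d : WithBot ℕ∞)
      · rw [if_pos hdim] at hξ
        refine Finset.mem_coe.mpr ((hT ξ).mpr ⟨?_, hdim⟩)
        by_contra hmem
        apply hξ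
        have h0 : mult (ClSub.quotMod D) ξ = 0 := mult_eq_zero_of_notMem hmem
        unfold mult at h0
        rw [h0]
        simp
      · rw [if_neg hdim] at hξ
        exact absurd rfl hξ
  have h1 := coeff_ones_of_degLT (chi k X (ClSub.quotMod D) d L)
    (degLT_quotMod k X D d hD.le d L hL) P hP
  have h2 : ∀ ξ ∈ T, MvPolynomial.coeff (ones d) (Q ξ) =
      ((∑ I ∈ (Finset.univ : Finset (Fin d)).powerset,
        (-1 : ℤ) ^ (d - I.card) * chi k X (Gx ξ) d L (ind I) : ℤ) : ℚ) := by
    intro ξ hξ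
    have hdim := ((hT ξ).mp hξ).2
    refine coeff_ones_of_degLT (chi k X (Gx ξ) d L)
      (degLT_of_dim_le k X (Gx ξ) (isCoh_quotMod _) d ?_ d L hL) (Q ξ) (hQ ξ hdim)
    exact (Groth.Agent.Lib.helper8.DimLt.topologicalKrullDim_le_of_subset
      (support_Gx_subset ξ)).trans hdim.le
  have h3 : ∑ I ∈ (Finset.univ : Finset (Fin d)).powerset,
        (-1 : ℤ) ^ (d - I.card) * chi k X (ClSub.quotMod D) d L (ind I) =
      ∑ I ∈ (Finset.univ : Finset (Fin d)).powerset,
        (-1 : ℤ) ^ (d - I.card) * psi k X d (ClSub.quotMod D) d L (ind I) := by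
    have hsn := snapper_refined k (ClSub.quotMod D) hF d hd' d L hL
    have hcard : (Finset.univ : Finset (Fin d)).card = d := Finset.card_fin d
    have hsn' : DegLT (Finset.univ : Finset (Fin d)).card
        (fun n => chi k X (ClSub.quotMod D) d L n - psi k X d (ClSub.quotMod D) d L n) := by
      rw [hcard]; exact hsn
    have h0 := sum_powerset_eq_zero (Finset.univ : Finset (Fin d)) _ hsn' 0
    have hsign : ∀ I : Finset (Fin d), (-1 : ℤ) ^ (d - I.card) = (-1) ^ d * (-1) ^ I.card := by
      intro I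
      have hle : I.card ≤ d := by simpa using Finset.card_le_univ I
      have h2 : (-1 : ℤ) ^ I.card * (-1) ^ I.card = 1 := by
        rw [← pow_add, ← two_mul, pow_mul]; simp
      calc (-1 : ℤ) ^ (d - I.card) = (-1) ^ (d - I.card) * ((-1) ^ I.card * (-1) ^ I.card) := by
            rw [h2, mul_one]
        _ = (-1) ^ (d - I.card + I.card) * (-1) ^ I.card := by rw [pow_add, mul_assoc]
        _ = (-1) ^ d * (-1) ^ I.card := by rw [Nat.sub_add_cancel hle]
    rw [← sub_eq_zero, ← Finset.sum_sub_distrib]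
    calc ∑ I ∈ (Finset.univ : Finset (Fin d)).powerset,
          ((-1 : ℤ) ^ (d - I.card) * chi k X (ClSub.quotMod D) d L (ind I) -
            (-1 : ℤ) ^ (d - I.card) * psi k X d (ClSub.quotMod D) d L (ind I))
        = (-1) ^ d * ∑ I ∈ (Finset.univ : Finset (Fin d)).powerset, (-1 : ℤ) ^ I.card *
            (chi k X (ClSub.quotMod D) d L (0 + ind I) -
              psi k X d (ClSub.quotMod D) d L (0 + ind I)) := by
          rw [Finset.mul_sum]
          apply Finset.sum_congr rfl
          intro I _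
          rw [hsign I, zero_add]
          ring
      _ = 0 := by rw [h0, mul_zero]
  have h4 : ∑ I ∈ (Finset.univ : Finset (Fin d)).powerset,
        (-1 : ℤ) ^ (d - I.card) * psi k X d (ClSub.quotMod D) d L (ind I) =
      ∑ ξ ∈ T, (mult (ClSub.quotMod D) ξ : ℤ) * ∑ I ∈ (Finset.univ : Finset (Fin d)).powerset,
        (-1 : ℤ) ^ (d - I.card) * chi k X (Gx ξ) d L (ind I) := by
    simp_rw [hpsi, Finset.mul_sum]
    rw [Finset.sum_comm]
    apply Finset.sum_congr rfl
    intro ξ _
    apply Finset.sum_congr rfl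
    intro I _
    ring
  rw [hrhs]
  change MvPolynomial.coeff (ones d) P = _
  rw [h1, h3, h4]
  push_cast
  apply Finset.sum_congr rfl
  intro ξ hξ
  rw [h2 ξ hξ]
  push_cast
  rfl

end Groth.Agent.S7686
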