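import Groth.Statements.S7687
import Mathlib
import Groth.Agent.Lib.Helper13.SL4
-- import your own Groth.Agent.* helpers here

set_option autoImplicit false
universe u
open CategoryTheory CategoryTheory.Limits AlgebraicGeometry
open Variety

namespace Groth.Agent.S7687

/-- Let K be a field and A, B ⊆ K Noetherian semi-local domains of dimension one with fraction field K
such that A ⊗ B → K is surjective, and R = A ∩ B. Then Spec A and Spec B each map to Spec R by an
open immersion, Spec R is the union of the two images, and the natural map A ⊗_R B → K is an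
isomorphism. -/
theorem result (K : Type u) [Field K]
    (A : Subring K) [IsFractionRing A K] (B : Subring K) [IsFractionRing B K] [IsNoetherianRing A] [IsNoetherianRing B]
    (hdimA : ringKrullDim A = 1) (hdimB : ringKrullDim B = 1)
    (hslA : Finite (MaximalSpectrum A)) (hslB : Finite (MaximalSpectrum B)) (hgen : A ⊔ B = ⊤) :
    IsOpenImmersion (Spec.map (CommRingCat.ofHom (Subring.inclusion (inf_le_left : A ⊓ B ≤ A)))) ∧
      IsOpenImmersion (Spec.map (CommRingCat.ofHom (Subring.inclusion (inf_le_right : A ⊓ B ≤ B)))) ∧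
      Set.range (Spec.map (CommRingCat.ofHom (Subring.inclusion (inf_le_left : A ⊓ B ≤ A)))).base ∪
        Set.range (Spec.map (CommRingCat.ofHom (Subring.inclusion (inf_le_right : A ⊓ B ≤ B)))).base = Set.univ ∧
      IsPushout (CommRingCat.ofHom (Subring.inclusion (inf_le_left : A ⊓ B ≤ A)))
        (CommRingCat.ofHom (Subring.inclusion (inf_le_right : A ⊓ B ≤ B)))
        (CommRingCat.ofHom A.subtype) (CommRingCat.ofHom B.subtype) := by
  classical
  have hA1 := Groth.Agent.Lib.helper13.SL1.isMaximal_of_dim_one hdimA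
  have hB1 := Groth.Agent.Lib.helper13.SL1.isMaximal_of_dim_one hdimB
  obtain ⟨y, x, hxy, hyrad, hxrad⟩ :=
    Groth.Agent.Lib.helper13.SL1.exists_partition A B hdimA hdimB hslA hslB hgen
  -- `x = 1 - y` is a unit of `A`, `y = 1 - x` is a unit of `B`
  have hunitA : IsUnit (1 + (-1) * y) :=
    Groth.Agent.Lib.helper13.SL1.isUnit_one_add_mul y hyrad (-1)
  have hunitB : IsUnit (1 + (-1) * x) :=
    Groth.Agent.Lib.helper13.SL1.isUnit_one_add_mul x hxrad (-1)
  have hxK : (x : K) = ((1 + (-1) * y : A) : K) := by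
    push_cast; linear_combination hxy
  have hyK : (y : K) = ((1 + (-1) * x : B) : K) := by
    push_cast; linear_combination hxy
  obtain ⟨vA, hvA⟩ := hunitA.exists_right_inv
  obtain ⟨vB, hvB⟩ := hunitB.exists_right_inv
  have hvA' : (x : K) * (vA : K) = 1 := by
    rw [hxK]; exact congrArg Subtype.val hvA
  have hvB' : (y : K) * (vB : K) = 1 := by
    rw [hyK]; exact congrArg Subtype.val hvB
  have hx0 : (x : K) ≠ 0 := left_ne_zero_of_mul_eq_one hvA'
  have hy0 : (y : K) ≠ 0 := left_ne_zero_of_mul_eq_one hvB'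
  have hxA : (x : K) ∈ A := hxK ▸ (1 + (-1) * y : A).2
  have hyB : (y : K) ∈ B := hyK ▸ (1 + (-1) * x : B).2
  have hxu : (x : K)⁻¹ ∈ A := by
    rw [← eq_inv_of_mul_eq_one_right hvA']; exact vA.2
  have hyu : (y : K)⁻¹ ∈ B := by
    rw [← eq_inv_of_mul_eq_one_right hvB']; exact vB.2
  have hA : ∀ k : K, ∃ n : ℕ, k * (y : K) ^ n ∈ A := fun k =>
    Groth.Agent.Lib.helper13.SL1.exists_pow_mul_mem A (fun p hp hp0 => hA1 p hp hp0) y hyrad k
  have hB : ∀ k : K, ∃ n : ℕ, k * (x : K) ^ n ∈ B := fun k =>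
    Groth.Agent.Lib.helper13.SL1.exists_pow_mul_mem B (fun p hp hp0 => hB1 p hp hp0) x hxrad k
  exact Groth.Agent.Lib.helper13.SL1.glue A B (x : K) (y : K) hxA x.2 y.2 hyB
    (by rw [add_comm]; exact hxy) hx0 hy0 hxu hyu hA hB

end Groth.Agent.S7687
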