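import Groth.Statements.S7688
import Mathlib
import Groth.Agent.S1552
import Groth.Agent.S1644
import Groth.Agent.Lib.Helper18.ImageIso

set_option autoImplicit false
universe u
open CategoryTheory CategoryTheory.Limits AlgebraicGeometry
open Variety

namespace Groth.Agent.S7688

open Groth.Agent.Lib.Helper18.ImageIso

/-- Let f : X → Y be finite with Y Noetherian of dimension at most one, and suppose that over some dense
open V ⊆ Y the restriction f⁻¹(V) → V is a closed immersion. Then each invertible O_X-module arises,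
up to isomorphism, by pulling back an invertible O_Y-module along f. -/
theorem result {X Y : Scheme.{u}} (f : X ⟶ Y)
    [IsFinite f] [IsNoetherian Y] (hdim : topologicalKrullDim Y ≤ 1)
    (V : Y.Opens) (hV : Dense (V : Set Y)) (hfV : IsClosedImmersion (f ∣_ V))
    (L : X.Modules) (hL : PicF.IsInvertible L) :
    ∃ N : Y.Modules, PicF.IsInvertible N ∧ Nonempty ((Scheme.Modules.pullback f).obj N ≅ L) := by
  have hiso : IsIso (f.toImage ∣_ (f.imageι ⁻¹ᵁ V)) := isIso_toImage_morphismRestrict f V hfV
  haveI : IsFinite (f.toImage ≫ f.imageι) := by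
    rw [f.toImage_imageι]
    infer_instance
  haveI : IsFinite f.toImage := IsFinite.of_comp f.toImage f.imageι
  have hdisc : DiscreteTopology ((f.imageι ⁻¹ᵁ V : Set f.image)ᶜ : Set f.image) := by
    have h1 : _root_.IsDiscrete ((V : Set Y)ᶜ) :=
      isDiscrete_iff_discreteTopology.2 (discreteTopology_compl_of_dense hdim V hV)
    have h2 := h1.preimage (f := f.imageι) f.imageι.continuous.continuousOn
      f.imageι.isClosedEmbedding.injective
    exact isDiscrete_iff_discreteTopology.1 h2
  obtain ⟨N', hN', ⟨e'⟩⟩ := Groth.Agent.S1552.result f.toImage (f.imageι ⁻¹ᵁ V) hiso hdisc L hL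
  obtain ⟨N, hN, ⟨e⟩⟩ := Groth.Agent.S1644.result f.imageι hdim N' hN'
  refine ⟨N, hN, ⟨?_⟩⟩
  exact (Scheme.Modules.pullbackCongr f.toImage_imageι).symm.app N ≪≫
    ((Scheme.Modules.pullbackComp f.toImage f.imageι).symm.app N) ≪≫
    (Scheme.Modules.pullback f.toImage).mapIso e ≪≫ e'

end Groth.Agent.S7688
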