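import Groth.Statements.S7689
import Mathlib
import Groth.Agent.S9674
import Groth.Agent.Lib.Helper13.PIns3
import Groth.Agent.Lib.Helper16.CohStalk
import Groth.Agent.Lib.Helper7.QCohPushQC
import Groth.Agent.Lib.Helper7.CohKer
import Groth.Agent.Lib.Helper7.IdealMod
import Groth.Agent.Lib.Helper8.StalkExact
import Groth.Agent.Lib.Helper8.DeltaAlg
-- import your own Groth.Agent.* helpers here

set_option autoImplicit false
universe u
open CategoryTheory CategoryTheory.Limits AlgebraicGeometry
open Variety

namespace Groth.Agent.S7689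

open Groth.Agent.Lib.helper8 Groth.Agent.Lib.helper16.CohStalk Groth.Agent.Lib.helper17.FlatOver7
  Groth.Agent.Lib.helper16.QCohAss Groth.Agent.Lib.helper8.StalkLen

section General

variable {X' X : Scheme.{u}} (ν : X' ⟶ X)

/-- `ν_* O_{X'}` -/
noncomputable abbrev pushO : X.Modules :=
  (Scheme.Modules.pushforward ν).obj (Coh.structureModule X')

/-- sections of `ν_* O_{X'}` as elements of the ring `Γ(X', ν⁻¹U)` -/
def toRing (U : X.Opens) (s : Γ(pushO ν, U)) : Γ(X', ν ⁻¹ᵁ U) := s

/-- elements of the ring `Γ(X', ν⁻¹U)` as sections of `ν_* O_{X'}` -/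
def ofRing (U : X.Opens) (s : Γ(X', ν ⁻¹ᵁ U)) : Γ(pushO ν, U) := s

theorem toRing_smul (U : X.Opens) (a : Γ(X, U)) (s : Γ(pushO ν, U)) :
    toRing ν U (a • s) = (ν.app U).hom a * toRing ν U s := rfl

theorem unitToPush_app (U : X.Opens) (a : Γ(X, U)) :
    ((ClSub.unitToPush ν).app U).hom a = ofRing ν U ((ν.app U).hom a) := rfl

theorem smul_ofRing_one (U : X.Opens) (a : Γ(X, U)) :
    a • ofRing ν U 1 = ofRing ν U ((ν.app U).hom a) := by
  change ofRing ν U ((ν.app U).hom a * 1) = _
  rw [mul_one]

theorem map_ofRing_one {U V : X.Opens} (h : V ≤ U) :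
    (pushO ν).presheaf.map (homOfLE h).op (ofRing ν U 1) = ofRing ν V 1 := by
  change (X'.presheaf.map (homOfLE (show ν ⁻¹ᵁ V ≤ ν ⁻¹ᵁ U from
    fun _ hx => h hx)).op).hom (1 : Γ(X', ν ⁻¹ᵁ U)) = 1
  exact map_one _

/-- a linear equivalence from a ring isomorphism compatible with `ν^♯` -/
noncomputable def linEquivOfRingEquiv (U : X.Opens) {T : Type u} [CommRing T] [Algebra Γ(X, U) T]
    (e : Γ(X', ν ⁻¹ᵁ U) ≃+* T) (he : ∀ a, e ((ν.app U).hom a) = algebraMap Γ(X, U) T a) :
    Γ(pushO ν, U) ≃ₗ[Γ(X, U)] T where
  toFun s := e (toRing ν U s)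
  map_add' s t := map_add e (toRing ν U s) (toRing ν U t)
  map_smul' a s := by
    change e (toRing ν U (a • s)) = a • e (toRing ν U s)
    rw [toRing_smul, map_mul, he, Algebra.smul_def]
  invFun t := ofRing ν U (e.symm t)
  left_inv s := e.symm_apply_apply (toRing ν U s)
  right_inv t := e.apply_symm_apply t

theorem linEquivOfRingEquiv_one (U : X.Opens) {T : Type u} [CommRing T] [Algebra Γ(X, U) T]
    (e : Γ(X', ν ⁻¹ᵁ U) ≃+* T) (he : ∀ a, e ((ν.app U).hom a) = algebraMap Γ(X, U) T a) :
    linEquivOfRingEquiv ν U e he (ofRing ν U 1) = 1 := map_one e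

variable [QuasiCompact ν] [QuasiSeparated ν]

instance : (pushO ν).IsQuasicoherent :=
  Groth.Agent.Lib.helper7.QCohPushQC.isQuasicoherent_pushforward ν (Coh.structureModule X')

instance : (cokernel (ClSub.unitToPush ν)).IsQuasicoherent :=
  Groth.Agent.Lib.helper7.CohKer.isQuasicoherent_cokernel (ClSub.unitToPush ν)

omit [QuasiCompact ν] [QuasiSeparated ν] in
/-- the range of the stalk map of `O_X → ν_* O_{X'}` is generated by the germ of `1` -/
theorem range_stalkLin_unitToPush (x : X) (U : X.Opens) (hx : x ∈ U) :
    LinearMap.range (stalkLin (ClSub.unitToPush ν) x) =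
      Submodule.span (X.presheaf.stalk x)
        {((pushO ν).presheaf.germ U x hx).hom (ofRing ν U 1)} := by
  apply le_antisymm
  · rintro _ ⟨m, rfl⟩
    obtain ⟨V, hxV, s, rfl⟩ := (Coh.structureModule X).presheaf.exists_germ_eq m
    change stalkAdd (ClSub.unitToPush ν) x _ ∈ _
    rw [stalkAdd_germ, unitToPush_app, ← smul_ofRing_one, germ_smul']
    apply Submodule.smul_mem
    have hxW : x ∈ U ⊓ V := ⟨hx, hxV⟩
    have e1 := TopCat.Presheaf.germ_res_apply (pushO ν).presheaf
      (homOfLE (inf_le_right : U ⊓ V ≤ V)) x hxW (ofRing ν V 1)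
    have e2 := TopCat.Presheaf.germ_res_apply (pushO ν).presheaf
      (homOfLE (inf_le_left : U ⊓ V ≤ U)) x hxW (ofRing ν U 1)
    rw [map_ofRing_one] at e1 e2
    rw [← e1, e2]
    exact Submodule.subset_span rfl
  · rw [Submodule.span_le, Set.singleton_subset_iff]
    refine ⟨((Coh.structureModule X).presheaf.germ U x hx).hom (1 : Γ(X, U)), ?_⟩
    change stalkAdd (ClSub.unitToPush ν) x _ = _
    rw [stalkAdd_germ, unitToPush_app, map_one]

/-- the stalk of the cokernel of `O_X → ν_* O_{X'}` has the length of `(ν_* O_{X'})_x / O_{X,x}·1` -/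
theorem length_stalk_cokernel [Mono (ClSub.unitToPush ν)] (x : X) (U : X.Opens) (hx : x ∈ U) :
    Module.length (X.presheaf.stalk x)
        ((cokernel (ClSub.unitToPush ν)).presheaf.stalk x) =
      Module.length (X.presheaf.stalk x)
        ((pushO ν).presheaf.stalk x ⧸ Submodule.span (X.presheaf.stalk x)
          {((pushO ν).presheaf.germ U x hx).hom (ofRing ν U 1)}) := by
  set φ := ClSub.unitToPush ν with hφ
  have hex : (ShortComplex.mk φ (cokernel.π φ) (cokernel.condition φ)).Exact :=
    ShortComplex.exact_cokernel φ
  have h1 : Function.Exact (stalkLin φ x) (stalkLin (cokernel.π φ) x) :=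
    stalkAdd_exact φ (cokernel.π φ) (cokernel.condition φ) hex x
  have h2 : Function.Surjective (stalkLin (cokernel.π φ) x) :=
    stalkAdd_surjective_of_epi (cokernel.π φ) x
  have h3 : LinearMap.ker (stalkLin (cokernel.π φ) x) = LinearMap.range (stalkLin φ x) :=
    LinearMap.exact_iff.mp h1
  rw [← range_stalkLin_unitToPush ν x U hx, ← h3]
  exact ((stalkLin (cokernel.π φ) x).quotKerEquivOfSurjective h2).symm.length_eq

end General

section Integral

variable (X : Scheme.{u}) [IsIntegral X]
  [QuasiCompact (X.fromSpecStalk (genericPoint X))] [QuasiSeparated (X.fromSpecStalk (genericPoint X))]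

open Groth.Agent.Lib.helper13.KrAk

/-- the ring isomorphism of the sections of the normalization with the integral closure in the
function field -/
theorem exists_ringEquiv_integralClosure (U : X.Opens) (hU : IsAffineOpen U) [Nonempty U] :
    ∃ e : Γ(Curv2.normalization X, Curv2.normalizationι X ⁻¹ᵁ U) ≃+*
        integralClosure Γ(X, U) X.functionField,
      ∀ a, e (((Curv2.normalizationι X).app U).hom a) =
        algebraMap Γ(X, U) (integralClosure Γ(X, U) X.functionField) a := by
  letI algKU : Algebra Γ(X, U)
      Γ(Spec X.functionField, X.fromSpecStalk (genericPoint X) ⁻¹ᵁ U) :=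
    ((X.fromSpecStalk (genericPoint X)).app U).hom.toAlgebra
  obtain ⟨e, he⟩ := exists_ringEquiv_functionField X U
  obtain ⟨ι, hι⟩ := exists_ringEquiv_normalization X U hU
  let eK : X.functionField ≃ₐ[Γ(X, U)]
      Γ(Spec X.functionField, X.fromSpecStalk (genericPoint X) ⁻¹ᵁ U) :=
    AlgEquiv.ofRingEquiv (f := e) he
  let E : integralClosure Γ(X, U)
      Γ(Spec X.functionField, X.fromSpecStalk (genericPoint X) ⁻¹ᵁ U) ≃ₐ[Γ(X, U)]
      integralClosure Γ(X, U) X.functionField := eK.symm.mapIntegralClosure
  refine ⟨ι.trans E.toRingEquiv, fun a => ?_⟩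
  exact (congrArg E (hι a)).trans (E.commutes a)

/-- finiteness of the normalization gives N-1 for the coordinate rings -/
theorem isN1_of_isFinite (hfin : IsFinite (Curv2.normalizationι X)) (U : X.Opens)
    (hU : IsAffineOpen U) (hne : Nonempty U) :
    @CAlg.IsN1 Γ(X, U) _ (@IsIntegral.component_integral X _ U hne) := by
  haveI := hne
  haveI hdom : IsDomain Γ(X, U) := @IsIntegral.component_integral X _ U hne
  haveI := functionField_isFractionRing_of_isAffineOpen X U hU
  obtain ⟨e, he⟩ := exists_ringEquiv_integralClosure X U hU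
  have h0 : ((Curv2.normalizationι X).app U).hom.Finite :=
    IsFinite.finite_app (Curv2.normalizationι X) U hU
  have h1 : (algebraMap Γ(X, U) (integralClosure Γ(X, U) X.functionField)).Finite := by
    have : algebraMap Γ(X, U) (integralClosure Γ(X, U) X.functionField) =
        e.toRingHom.comp ((Curv2.normalizationι X).app U).hom := by
      ext a
      exact congrArg Subtype.val (he a).symm
    rw [this]
    exact RingHom.Finite.comp (RingHom.Finite.of_surjective _ e.surjective) h0
  haveI h2 : Module.Finite Γ(X, U) (integralClosure Γ(X, U) X.functionField) :=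
    RingHom.finite_algebraMap.mp h1
  let eF : X.functionField ≃ₐ[Γ(X, U)] FractionRing Γ(X, U) :=
    (FractionRing.algEquiv Γ(X, U) X.functionField).symm
  exact Module.Finite.equiv eF.mapIntegralClosure.toLinearEquiv

/-- `O_X → ν_* O_{X^ν}` is a monomorphism -/
theorem mono_unitToPush : Mono (ClSub.unitToPush (Curv2.normalizationι X)) := by
  refine Groth.Agent.Lib.helper16.QCohEpi.mono_of_injective_on_basis _ X.affineOpens
    X.isBasis_affineOpens (fun D hD => ?_)
  by_cases hne : Nonempty D
  · haveI := hne
    exact injective_fromNormalization_app X D hD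
  · intro a b _
    have hD0 : D = ⊥ := by
      ext x
      simp only [TopologicalSpace.Opens.coe_bot, Set.mem_empty_iff_false, iff_false]
      intro hx
      exact hne ⟨⟨x, hx⟩⟩
    subst hD0
    exact Subsingleton.elim (α := Γ(X, ⊥)) a b

/-- the main computation: the stalk of the cokernel has length the δ-invariant -/
theorem length_stalk_cokernel_eq_deltaInv (x : X) :
    Module.length (X.presheaf.stalk x)
        ((cokernel (ClSub.unitToPush (Curv2.normalizationι X))).presheaf.stalk x) =
      Curv2.deltaInv (X.presheaf.stalk x) := by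
  haveI : QuasiCompact (Curv2.normalizationι X) :=
    inferInstanceAs (QuasiCompact (X.fromSpecStalk (genericPoint X)).fromNormalization)
  haveI : QuasiSeparated (Curv2.normalizationι X) :=
    inferInstanceAs (QuasiSeparated (X.fromSpecStalk (genericPoint X)).fromNormalization)
  haveI := mono_unitToPush X
  obtain ⟨U, hU, hxU, -⟩ := TopologicalSpace.Opens.isBasis_iff_nbhd.mp X.isBasis_affineOpens
    (show x ∈ (⊤ : X.Opens) from trivial)
  have hUaff : IsAffineOpen U := hU
  haveI hne : Nonempty U := ⟨⟨x, hxU⟩⟩
  rw [length_stalk_cokernel (Curv2.normalizationι X) x U hxU]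
  haveI hdom : IsDomain Γ(X, U) := @IsIntegral.component_integral X _ U hne
  haveI := functionField_isFractionRing_of_isAffineOpen X U hUaff
  obtain ⟨e, he⟩ := exists_ringEquiv_integralClosure X U hUaff
  letI := TopCat.Presheaf.algebra_section_stalk X.presheaf (⟨x, hxU⟩ : U)
  letI := modStalk (pushO (Curv2.normalizationι X)) x hxU
  haveI := isScalarTower_stalk (pushO (Curv2.normalizationι X)) x hxU
  haveI : IsLocalization.AtPrime (X.presheaf.stalk x) (hUaff.primeIdealOf ⟨x, hxU⟩).asIdeal :=
    hUaff.isLocalization_stalk ⟨x, hxU⟩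
  haveI := isLocalizedModule_stalk (pushO (Curv2.normalizationι X)) hUaff x hxU
  haveI := functionField_isScalarTower X U (⟨x, hxU⟩ : U)
  exact DeltaAlg.length_quot_eq_deltaInv (A := Γ(X, U)) (K := X.functionField)
    (hUaff.primeIdealOf ⟨x, hxU⟩).asIdeal (R := X.presheaf.stalk x)
    (linEquivOfRingEquiv (Curv2.normalizationι X) U e he)
    (ofRing (Curv2.normalizationι X) U 1)
    (linEquivOfRingEquiv_one (Curv2.normalizationι X) U e he)
    (germLin (pushO (Curv2.normalizationι X)) x hxU)


/-- finiteness of the normalization of an integral scheme with Nagata coordinate rings -/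
theorem isFinite_normalizationι
    (hN : ∀ U : X.affineOpens, CAlg.IsNagata Γ(X, (U : X.Opens))) :
    IsFinite (Curv2.normalizationι X) := by
  haveI : Finite ↥(Spec X.functionField) :=
    inferInstanceAs (Finite (PrimeSpectrum X.functionField))
  haveI : Finite ↥(irreducibleComponents ↥(Spec X.functionField)) := inferInstance
  refine Groth.Agent.S9674.result (X.fromSpecStalk (genericPoint X)) hN
    (locallyFinite_of_finite _) (fun y _ => ?_)
  set g := X.fromSpecStalk (genericPoint X) with hg
  have h1 : Function.Surjective (g.stalkMap y).hom := g.stalkMap_surjective y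
  have h2 : Function.Surjective ((Spec X.functionField).residue y).hom :=
    (Spec X.functionField).residue_surjective y
  have h3 : Function.Surjective (X.residue (g y) ≫ g.residueFieldMap y).hom := by
    rw [Scheme.residue_residueFieldMap]
    exact h2.comp h1
  have h4 : Function.Surjective (g.residueFieldMap y).hom := by
    intro z
    obtain ⟨w, hw⟩ := h3 z
    exact ⟨(X.residue (g y)).hom w, hw⟩
  exact RingHom.FiniteType.essFiniteType (RingHom.FiniteType.of_surjective _ h4)

omit [QuasiCompact (X.fromSpecStalk (genericPoint X))]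
  [QuasiSeparated (X.fromSpecStalk (genericPoint X))] in
/-- a non-closed point of an integral scheme of dimension one is the generic point -/
theorem eq_genericPoint_of_not_isClosed (hdim : topologicalKrullDim X = 1) (x : X)
    (hx : ¬ IsClosed ({x} : Set X)) : x = genericPoint X := by
  by_contra hne
  -- a point `y ≠ x` in the closure of `x`
  obtain ⟨y, hy, hyx⟩ : ∃ y ∈ closure ({x} : Set X), y ≠ x := by
    by_contra hcon
    push Not at hcon
    apply hx
    have : closure ({x} : Set X) = {x} :=
      Set.Subset.antisymm (fun y hy => hcon y hy) subset_closure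
    rw [← this]
    exact isClosed_closure
  have hxy : x ⤳ y := specializes_iff_mem_closure.mpr hy
  have hηx : genericPoint X ⤳ x := genericPoint_specializes x
  let Z0 : TopologicalSpace.IrreducibleCloseds X :=
    ⟨closure {y}, isIrreducible_singleton.closure, isClosed_closure⟩
  let Z1 : TopologicalSpace.IrreducibleCloseds X :=
    ⟨closure {x}, isIrreducible_singleton.closure, isClosed_closure⟩
  let Z2 : TopologicalSpace.IrreducibleCloseds X :=
    ⟨closure {genericPoint X}, isIrreducible_singleton.closure, isClosed_closure⟩
  have h01 : Z0 < Z1 := by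
    refine lt_of_le_of_ne (show closure {y} ⊆ closure {x} from
      (isClosed_closure.closure_subset_iff).mpr (Set.singleton_subset_iff.mpr hy)) ?_
    intro h
    have h' : closure ({y} : Set X) = closure {x} :=
      congrArg (fun Z : TopologicalSpace.IrreducibleCloseds X => (Z : Set X)) h
    have hyx' : y ⤳ x := by
      rw [specializes_iff_mem_closure, h']
      exact subset_closure rfl
    exact hyx ((hyx'.antisymm hxy).eq)
  have h12 : Z1 < Z2 := by
    refine lt_of_le_of_ne (show closure {x} ⊆ closure {genericPoint X} from
      (isClosed_closure.closure_subset_iff).mpr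
        (Set.singleton_subset_iff.mpr (specializes_iff_mem_closure.mp hηx))) ?_
    intro h
    have h' : closure ({x} : Set X) = closure {genericPoint X} :=
      congrArg (fun Z : TopologicalSpace.IrreducibleCloseds X => (Z : Set X)) h
    have hxη : x ⤳ genericPoint X := by
      rw [specializes_iff_mem_closure, h']
      exact subset_closure rfl
    exact hne ((hxη.antisymm hηx).eq)
  have hle : Order.krullDim (TopologicalSpace.IrreducibleCloseds X) ≤ 1 := by
    have : topologicalKrullDim X ≤ 1 := hdim.le
    exact this
  rcases Order.krullDim_le_one_iff.mp hle Z1 with hmin | hmax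
  · exact (hmin.not_lt h01)
  · exact (hmax.not_lt h12)

end Integral

theorem main (X : Scheme.{u}) [IsIntegral X]
    [QuasiCompact (X.fromSpecStalk (genericPoint X))] [QuasiSeparated (X.fromSpecStalk (genericPoint X))]
    (hN : ∀ U : X.affineOpens, CAlg.IsNagata Γ(X, (U : X.Opens))) (hdim : topologicalKrullDim X = 1) :
    IsFinite (Curv2.normalizationι X) ∧
      (∃ U : X.Opens, Dense ((U : Set X)) ∧ IsIso (Curv2.normalizationι X ∣_ U)) ∧
      Mono (ClSub.unitToPush (Curv2.normalizationι X)) ∧
      (∀ x : X, IsClosed ({x} : Set X) →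
        Module.length (X.presheaf.stalk x) ((cokernel (ClSub.unitToPush (Curv2.normalizationι X))).presheaf.stalk x) =
          Curv2.deltaInv (X.presheaf.stalk x)) ∧
      (∀ x : X, ¬ IsClosed ({x} : Set X) →
        Subsingleton ((cokernel (ClSub.unitToPush (Curv2.normalizationι X))).presheaf.stalk x)) := by
  have hfin := isFinite_normalizationι X hN
  refine ⟨hfin, ?_, mono_unitToPush X, fun x _ => length_stalk_cokernel_eq_deltaInv X x, ?_⟩
  · obtain ⟨V, hVne, hV⟩ :=
      Groth.Agent.Lib.helper13.PIns.exists_isIso_normalizationι_restrict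
        (fun U hU hne => isN1_of_isFinite X hfin U hU hne)
    exact ⟨V, V.isOpen.dense hVne, hV⟩
  · intro x hx
    obtain rfl := eq_genericPoint_of_not_isClosed X hdim x hx
    rw [← Module.length_eq_zero_iff (R := X.presheaf.stalk (genericPoint X)),
      length_stalk_cokernel_eq_deltaInv]
    exact DeltaAlg.deltaInv_eq_zero_of_isField (Field.toIsField X.functionField)


/-- For an integral X: let X be an integral Nagata scheme of dimension one (every affine open has a
Nagata coordinate ring) with normalization ν : X^ν → X. Then ν is finite and birational (an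
isomorphism over a dense open), O_X ⊆ ν_*O_{X^ν}, and the quotient ν_*O_{X^ν}/O_X is supported at
closed points, its stalk at a closed point x having length equal to the δ-invariant of O_{X,x}. (The
published statement is for reduced Nagata schemes of dimension one; it also says that ν is
surjective and that the quotient is nonzero exactly at the singular points, and it describes the
stalk A' of ν_*O_{X^ν} at x, namely the integral closure of O_{X,x} in its total fraction ring, a
semi-local ring that is a finite product of Dedekind domains, together with the completions of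
O_{X,x} and A'. This row takes X integral, does not restate surjectivity, which holds for the
normalization of every integral scheme, and keeps the finiteness, birationality, injectivity and
length clauses.) -/
theorem result (X : Scheme.{u}) [IsIntegral X]
    [QuasiCompact (X.fromSpecStalk (genericPoint X))] [QuasiSeparated (X.fromSpecStalk (genericPoint X))]
    (hN : ∀ U : X.affineOpens, CAlg.IsNagata Γ(X, (U : X.Opens))) (hdim : topologicalKrullDim X = 1) :
    IsFinite (Curv2.normalizationι X) ∧
      (∃ U : X.Opens, Dense ((U : Set X)) ∧ IsIso (Curv2.normalizationι X ∣_ U)) ∧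
      Mono (ClSub.unitToPush (Curv2.normalizationι X)) ∧
      (∀ x : X, IsClosed ({x} : Set X) →
        Module.length (X.presheaf.stalk x) ((cokernel (ClSub.unitToPush (Curv2.normalizationι X))).presheaf.stalk x) =
          Curv2.deltaInv (X.presheaf.stalk x)) ∧
      (∀ x : X, ¬ IsClosed ({x} : Set X) →
        Subsingleton ((cokernel (ClSub.unitToPush (Curv2.normalizationι X))).presheaf.stalk x)) := by
  exact main X hN hdim

end Groth.Agent.S7689
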