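import Groth.Statements.S8257
import Groth.Agent.Lib.Helper8.Chevalley

set_option autoImplicit false
universe u
open CategoryTheory CategoryTheory.Limits AlgebraicGeometry Opposite TopologicalSpace
open EGA2

namespace Groth.Agent.S8257

/-- Let Y be a locally Noetherian scheme and f : X → Y a morphism of finite type; let j : X₀ → X be a
surjective closed immersion with X₀ reduced (the reduced subscheme underlying X). If X₀ → X → Y is
affine, then f is affine. (So f is affine if and only if f_red is.) -/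
theorem result {X X₀ Y : Scheme.{u}}
    [IsLocallyNoetherian Y] (f : X ⟶ Y) [LocallyOfFiniteType f] [QuasiCompact f]
    (j : X₀ ⟶ X) [IsClosedImmersion j] [Surjective j] [IsReduced X₀] [IsAffineHom (j ≫ f)] :
    IsAffineHom f := by
  refine ⟨fun U hU => ?_⟩
  -- the restricted morphisms
  have hfin : IsAffineOpen ((j ≫ f) ⁻¹ᵁ U) := IsAffineHom.isAffine_preimage U hU
  haveI : IsAffine ((j ⁻¹ᵁ (f ⁻¹ᵁ U) : X₀.Opens) : Scheme.{u}) := hfin
  haveI : IsAffine (U : Scheme.{u}) := hU
  haveI : IsNoetherian (U : Scheme.{u}) := by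
    haveI : IsLocallyNoetherian (U : Scheme.{u}) := isLocallyNoetherian_of_isOpenImmersion U.ι
    exact {}
  haveI : LocallyOfFiniteType (f ∣_ U) := MorphismProperty.of_isPullback
    (isPullback_morphismRestrict f U).flip inferInstance
  haveI : QuasiCompact (f ∣_ U) := MorphismProperty.of_isPullback
    (isPullback_morphismRestrict f U).flip inferInstance
  haveI : IsNoetherian ((f ⁻¹ᵁ U : X.Opens) : Scheme.{u}) := by
    haveI : IsLocallyNoetherian ((f ⁻¹ᵁ U : X.Opens) : Scheme.{u}) :=
      LocallyOfFiniteType.isLocallyNoetherian (f ∣_ U)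
    haveI : CompactSpace ((f ⁻¹ᵁ U : X.Opens) : Scheme.{u}) :=
      QuasiCompact.compactSpace_of_compactSpace (f ∣_ U)
    exact {}
  haveI : IsClosedImmersion (j ∣_ (f ⁻¹ᵁ U)) := MorphismProperty.of_isPullback
    (isPullback_morphismRestrict j (f ⁻¹ᵁ U)).flip inferInstance
  haveI : Surjective (j ∣_ (f ⁻¹ᵁ U)) := MorphismProperty.of_isPullback
    (isPullback_morphismRestrict j (f ⁻¹ᵁ U)).flip inferInstance
  exact Groth.Agent.Lib.helper8.Dev.isAffine_of_finite_surjective (j ∣_ (f ⁻¹ᵁ U))

end Groth.Agent.S8257
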