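import Groth.Statements.S8260
import Mathlib
-- import your own Groth.Agent.* helpers here

set_option autoImplicit false
universe u
open CategoryTheory CategoryTheory.Limits AlgebraicGeometry Opposite TopologicalSpace
open scoped HomogeneousIdeal
open EGA2

namespace Groth.Agent.S8260

/-- Over an affine open, the restriction of `p` is the chart followed by the structure morphisms. -/
theorem restrict_eq {Y P : Scheme.{u}} (𝒮 : RelProj.QCGrAlg Y) (p : P ⟶ Y)
    (chart : ∀ (U : Y.Opens) (hU : IsAffineOpen U), (((p ⁻¹ᵁ U : P.Opens) : Scheme.{u}) ≅ Proj (𝒮.deg U hU)))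
    (hP : RelProj.IsRelProj 𝒮 p chart) (U : Y.Opens) (hU : IsAffineOpen U) :
    p ∣_ U = (chart U hU).hom ≫ Proj.toSpecZero (𝒮.deg U hU) ≫ Spec.map (𝒮.strZero U hU) ≫
      hU.isoSpec.inv := by
  rw [← cancel_mono U.ι]
  simp only [Category.assoc, IsAffineOpen.isoSpec_inv_ι, morphismRestrict_ι]
  exact (hP.chart_over U hU).symm

/-- Finite type over the base implies finite type over the degree-zero part and of the degree-zero
part over the base. -/
theorem finiteType_aux {Y : Scheme.{u}} (𝒮 : RelProj.QCGrAlg Y) (U : Y.Opens) (hU : IsAffineOpen U)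
    (hft : (𝒮.str.app (op U)).hom.FiniteType) :
    Algebra.FiniteType (𝒮.deg U hU 0) (𝒮.presheaf.obj (op U)) ∧ (𝒮.strZero U hU).hom.FiniteType := by
  constructor
  · have h1 : ((algebraMap (𝒮.deg U hU 0) (𝒮.presheaf.obj (op U))).comp
        (𝒮.strZero U hU).hom).FiniteType := by
      have : (algebraMap (𝒮.deg U hU 0) (𝒮.presheaf.obj (op U))).comp (𝒮.strZero U hU).hom =
          (𝒮.str.app (op U)).hom := by
        ext r
        rfl
      rw [this]
      exact hft
    have h2 := RingHom.FiniteType.of_comp_finiteType h1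
    rw [RingHom.finiteType_algebraMap] at h2
    exact h2
  · have h1 : (𝒮.strZero U hU).hom =
        (GradedRing.projZeroRingHom' (𝒮.deg U hU)).comp (𝒮.str.app (op U)).hom := by
      ext r
      simp only [RingHom.coe_comp, Function.comp_apply, GradedRing.coe_projZeroRingHom'_apply,
        GradedRing.projZeroRingHom_apply]
      rw [DirectSum.decompose_of_mem_same _ (𝒮.str_mem U hU r)]
      rfl
    rw [h1]
    exact RingHom.FiniteType.comp_surjective hft (GradedRing.projZeroRingHom'_surjective _)


/-- If the quasi-coherent positively graded O_Y-algebra 𝒮 is of finite type (over every affine open U of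
Y the ring 𝒮(U) is a finitely generated O_Y(U)-algebra), then its relative homogeneous spectrum
Proj(𝒮) is of finite type over Y. -/
theorem result {Y P : Scheme.{u}} (𝒮 : RelProj.QCGrAlg Y)
    (hft : ∀ (U : Y.Opens) (hU : IsAffineOpen U), (𝒮.str.app (op U)).hom.FiniteType)
    (p : P ⟶ Y)
    (chart : ∀ (U : Y.Opens) (hU : IsAffineOpen U), (((p ⁻¹ᵁ U : P.Opens) : Scheme.{u}) ≅ Proj (𝒮.deg U hU)))
    (hP : RelProj.IsRelProj 𝒮 p chart) : LocallyOfFiniteType p ∧ QuasiCompact p := by
  have key : ∀ U : Y.affineOpens, LocallyOfFiniteType (p ∣_ (U : Y.Opens)) ∧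
      QuasiCompact (p ∣_ (U : Y.Opens)) := by
    rintro ⟨U, hU⟩
    obtain ⟨h1, h2⟩ := finiteType_aux 𝒮 U hU (hft U hU)
    have h3 : LocallyOfFiniteType (Spec.map (𝒮.strZero U hU)) := by
      rw [HasRingHomProperty.Spec_iff (P := @LocallyOfFiniteType)]
      exact h2
    change LocallyOfFiniteType (p ∣_ U) ∧ QuasiCompact (p ∣_ U)
    rw [restrict_eq 𝒮 p chart hP U hU]
    constructor <;> infer_instance
  constructor
  · exact IsZariskiLocalAtTarget.of_iSup_eq_top (P := @LocallyOfFiniteType)
      (fun U : Y.affineOpens => (U : Y.Opens)) (iSup_affineOpens_eq_top Y) (fun U => (key U).1)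
  · exact IsZariskiLocalAtTarget.of_iSup_eq_top (P := @QuasiCompact)
      (fun U : Y.affineOpens => (U : Y.Opens)) (iSup_affineOpens_eq_top Y) (fun U => (key U).2)

end Groth.Agent.S8260
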