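import Groth.Statements.S8264
import Mathlib
import Groth.Agent.Lib.Lead.ProjIntegralG
-- import your own Groth.Agent.* helpers here

set_option autoImplicit false
set_option backward.isDefEq.respectTransparency false
set_option backward.isDefEq.respectTransparency.types false
universe u
open CategoryTheory CategoryTheory.Limits AlgebraicGeometry Opposite TopologicalSpace
open scoped HomogeneousIdeal
open EGA2

namespace Groth.Agent.S8264

/-- Let Y be an integral scheme and 𝒮 a quasi-coherent positively graded O_Y-algebra with 𝒮_0 = O_Y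
which is integral, stated here affine-locally: over every nonempty affine open U the ring 𝒮(U) is an
integral domain whose irrelevant ideal is nonzero (for Y integral this is equivalent to the
stalkwise condition of the published text: every stalk 𝒮_y an integral domain with (𝒮_y)_+ ≠ 0).
Then Proj(𝒮) is integral and its structure morphism to Y is dominant. -/
theorem result {Y P : Scheme.{u}} [IsIntegral Y] (𝒮 : RelProj.QCGrAlg Y)
    (h0 : ∀ (U : Y.Opens) (hU : IsAffineOpen U), Function.Bijective (𝒮.strZero U hU).hom)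
    (hint : ∀ (U : Y.Opens) (hU : IsAffineOpen U), (U : Set Y).Nonempty →
      IsDomain (𝒮.presheaf.obj (op U)) ∧ ((𝒮.deg U hU)₊).toIdeal ≠ ⊥)
    (p : P ⟶ Y)
    (chart : ∀ (U : Y.Opens) (hU : IsAffineOpen U), (((p ⁻¹ᵁ U : P.Opens) : Scheme.{u}) ≅ Proj (𝒮.deg U hU)))
    (hP : RelProj.IsRelProj 𝒮 p chart) : IsIntegral P ∧ DenseRange p.base := by
  -- Step 1: over a nonempty affine open, the chart domain is an integral scheme
  have hProj : ∀ (U : Y.Opens) (hU : IsAffineOpen U), (U : Set Y).Nonempty →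
      IsIntegral (Proj (𝒮.deg U hU)) := by
    intro U hU hne
    obtain ⟨hdomain, hirr⟩ := hint U hU hne
    refine (Groth.Agent.Lib.Lead.ProjIntegralG.isIntegral_proj_iff (𝒮.deg U hU) ?_).mpr ⟨?_, ?_⟩
    · intro f _ hf
      exact hf.eq_zero
    · obtain ⟨f, hf, hf0⟩ := Submodule.exists_mem_ne_zero_of_ne_bot hirr
      exact ⟨f, hf, hf0⟩
    · intro f _ g _ hfg
      exact mul_eq_zero.mp hfg
  have hInt : ∀ (U : Y.Opens) (hU : IsAffineOpen U), (U : Set Y).Nonempty →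
      IsIntegral ((p ⁻¹ᵁ U : P.Opens) : Scheme.{u}) := by
    intro U hU hne
    haveI := hProj U hU hne
    haveI : Nonempty ((p ⁻¹ᵁ U : P.Opens) : Scheme.{u}) := by
      obtain ⟨x⟩ : Nonempty (Proj (𝒮.deg U hU)) := inferInstance
      exact ⟨(chart U hU).inv.base x⟩
    exact isIntegral_of_isOpenImmersion (chart U hU).hom
  have hIrr : ∀ (U : Y.Opens) (hU : IsAffineOpen U), (U : Set Y).Nonempty →
      IsIrreducible ((p ⁻¹ᵁ U : P.Opens) : Set P) := by
    intro U hU hne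
    haveI := hInt U hU hne
    haveI : IrreducibleSpace ((p ⁻¹ᵁ U : P.Opens) : Set P) :=
      (inferInstance : IrreducibleSpace ((p ⁻¹ᵁ U : P.Opens) : Scheme.{u}))
    exact IsIrreducible.of_subtype
  -- every point of `Y` has a nonempty affine neighbourhood inside any given open
  have hnb : ∀ (V : Set Y), IsOpen V → ∀ y ∈ V, ∃ (W : Y.Opens) (hW : IsAffineOpen W),
      y ∈ W ∧ (W : Set Y) ⊆ V := by
    intro V hV y hy
    obtain ⟨_, ⟨W, hW, rfl⟩, hyW, hWV⟩ := Y.isBasis_affineOpens.exists_subset_of_mem_open hy hV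
    exact ⟨W, hW, hyW, hWV⟩
  have hYne : Nonempty Y := inferInstance
  -- `P` is nonempty
  have hPne : Nonempty P := by
    obtain ⟨y⟩ := hYne
    obtain ⟨W, hW, hyW, -⟩ := hnb Set.univ isOpen_univ y (Set.mem_univ y)
    obtain ⟨⟨c, hc⟩⟩ := (hIrr W hW ⟨y, hyW⟩).nonempty.to_subtype
    exact ⟨c⟩
  -- `P` is preirreducible
  have hpre : PreirreducibleSpace P := by
    constructor
    intro A B hA hB ⟨a, _, haA⟩ ⟨b, _, hbB⟩
    obtain ⟨U, hU, haU, -⟩ := hnb Set.univ isOpen_univ (p.base a) (Set.mem_univ _)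
    obtain ⟨V, hV, hbV, -⟩ := hnb Set.univ isOpen_univ (p.base b) (Set.mem_univ _)
    obtain ⟨y, hyU, hyV⟩ := nonempty_preirreducible_inter U.2 V.2 ⟨_, haU⟩ ⟨_, hbV⟩
    obtain ⟨W, hW, hyW, hWUV⟩ := hnb (U ∩ V) (U.2.inter V.2) y ⟨hyU, hyV⟩
    obtain ⟨c, hc⟩ := (hIrr W hW ⟨y, hyW⟩).nonempty
    have hcU : c ∈ ((p ⁻¹ᵁ U : P.Opens) : Set P) := (hWUV hc).1
    have hcV : c ∈ ((p ⁻¹ᵁ V : P.Opens) : Set P) := (hWUV hc).2
    -- first move into `A ∩ p⁻¹ W`
    obtain ⟨a', -, ha'A, ha'W⟩ := (hIrr U hU ⟨_, haU⟩).isPreirreducible A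
      ((p ⁻¹ᵁ W : P.Opens) : Set P) hA (p ⁻¹ᵁ W).2 ⟨a, haU, haA⟩ ⟨c, hcU, hc⟩
    have ha'V : a' ∈ ((p ⁻¹ᵁ V : P.Opens) : Set P) := (hWUV ha'W).2
    obtain ⟨z, -, hzA, hzB⟩ := (hIrr V hV ⟨_, hbV⟩).isPreirreducible A B hA hB
      ⟨a', ha'V, ha'A⟩ ⟨b, hbV, hbB⟩
    exact ⟨z, Set.mem_univ _, hzA, hzB⟩
  haveI : IrreducibleSpace P := { hpre with toNonempty := hPne }
  -- `P` is reduced
  haveI : IsReduced P := by
    have hcov : TopologicalSpace.IsOpenCover
        (fun V : {V : Y.affineOpens // ((V : Y.Opens) : Set Y).Nonempty} =>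
          p ⁻¹ᵁ ((V : Y.affineOpens) : Y.Opens)) := by
      change (⨆ V : {V : Y.affineOpens // ((V : Y.Opens) : Set Y).Nonempty},
        p ⁻¹ᵁ ((V : Y.affineOpens) : Y.Opens)) = ⊤
      rw [eq_top_iff]
      intro x _
      obtain ⟨W, hW, hxW, -⟩ := hnb Set.univ isOpen_univ (p.base x) (Set.mem_univ _)
      rw [TopologicalSpace.Opens.mem_iSup]
      exact ⟨⟨⟨W, hW⟩, ⟨_, hxW⟩⟩, hxW⟩
    have : ∀ V, IsReduced ((P.openCoverOfIsOpenCover _ hcov).X V) := by
      rintro ⟨⟨V, hV⟩, hne⟩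
      haveI := hInt V hV hne
      change IsReduced ((p ⁻¹ᵁ V : P.Opens) : Scheme.{u})
      infer_instance
    exact IsReduced.of_openCover _ (P.openCoverOfIsOpenCover _ hcov)
  refine ⟨isIntegral_of_irreducibleSpace_of_isReduced P, ?_⟩
  -- density of the image
  rw [DenseRange, dense_iff_inter_open]
  intro V hV ⟨y, hy⟩
  obtain ⟨W, hW, hyW, hWV⟩ := hnb V hV y hy
  obtain ⟨c, hc⟩ := (hIrr W hW ⟨y, hyW⟩).nonempty
  exact ⟨p.base c, hWV hc, ⟨c, rfl⟩⟩

end Groth.Agent.S8264
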