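import Groth.Statements.S8265
import Mathlib
import Groth.Agent.Lib.Lead.ProjIntegralG
-- import your own Groth.Agent.* helpers here

set_option autoImplicit false
set_option backward.isDefEq.respectTransparency false
set_option backward.isDefEq.respectTransparency.types false
universe u
open CategoryTheory CategoryTheory.Limits AlgebraicGeometry Opposite TopologicalSpace
open scoped HomogeneousIdeal
open EGA2

namespace Groth.Agent.S8265

/-- Let Y be an integral scheme and 𝒮 a quasi-coherent positively graded O_Y-algebra with 𝒮_0 = O_Y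
which is essentially reduced (affine-locally, every nilpotent element of the irrelevant ideal of
𝒮(U) vanishes). If Proj(𝒮) is integral and dominant over Y, then 𝒮 is integral: over every nonempty
affine open U, 𝒮(U) is an integral domain with nonzero irrelevant ideal (for Y integral, the
affine-local form of the stalkwise condition of the text). -/
theorem result {Y P : Scheme.{u}} [IsIntegral Y] (𝒮 : RelProj.QCGrAlg Y)
    (h0 : ∀ (U : Y.Opens) (hU : IsAffineOpen U), Function.Bijective (𝒮.strZero U hU).hom)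
    (hred : ∀ (U : Y.Opens) (hU : IsAffineOpen U) (x : 𝒮.presheaf.obj (op U)),
      x ∈ (𝒮.deg U hU)₊ → IsNilpotent x → x = 0)
    (p : P ⟶ Y)
    (chart : ∀ (U : Y.Opens) (hU : IsAffineOpen U), (((p ⁻¹ᵁ U : P.Opens) : Scheme.{u}) ≅ Proj (𝒮.deg U hU)))
    (hP : RelProj.IsRelProj 𝒮 p chart) [IsIntegral P] (hdom : DenseRange p.base)
    (U : Y.Opens) (hU : IsAffineOpen U) (hne : (U : Set Y).Nonempty) :
    IsDomain (𝒮.presheaf.obj (op U)) ∧ ((𝒮.deg U hU)₊).toIdeal ≠ ⊥ := by
  classical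
  open HomogeneousLocalization in
  haveI hirrP : IrreducibleSpace P := inferInstance
  -- the preimage of `U` is nonempty
  obtain ⟨c0, hc0⟩ : ∃ c0 : P, p.base c0 ∈ U := by
    obtain ⟨y, hyU, ⟨c0, rfl⟩⟩ := hdom.inter_open_nonempty U U.2 hne
    exact ⟨c0, hyU⟩
  haveI : Nonempty ((p ⁻¹ᵁ U : P.Opens) : Scheme.{u}) := ⟨⟨c0, hc0⟩⟩
  haveI : IsIntegral ((p ⁻¹ᵁ U : P.Opens) : Scheme.{u}) :=
    isIntegral_of_isOpenImmersion (p ⁻¹ᵁ U).ι
  haveI : Nonempty (Proj (𝒮.deg U hU)) := ⟨(chart U hU).hom.base ⟨c0, hc0⟩⟩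
  haveI : IsIntegral (Proj (𝒮.deg U hU)) := isIntegral_of_isOpenImmersion (chart U hU).inv
  obtain ⟨⟨f, hf, hf0⟩, hnzd⟩ :=
    (Groth.Agent.Lib.Lead.ProjIntegralG.isIntegral_proj_iff (𝒮.deg U hU)
      (fun x hx hn => hred U hU x hx hn)).mp inferInstance
  refine ⟨?_, fun hbot => hf0 (by rw [hbot] at hf; exact (Submodule.mem_bot _).mp hf)⟩
  haveI : IsDomain Γ(Y, U) := by
    haveI : Nonempty U := ⟨⟨_, hne.some_mem⟩⟩
    infer_instance
  -- products of a nonzero element of degree zero with a nonzero element of positive degree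
  have key2 : ∀ (c : 𝒮.presheaf.obj (op U)) (hc : c ∈ 𝒮.deg U hU 0) (n : ℕ) (hn : 0 < n)
      (s : 𝒮.presheaf.obj (op U)) (hs : s ∈ 𝒮.deg U hU n), c ≠ 0 → s ≠ 0 → c * s ≠ 0 := by
    intro c hc n hn s hs hc0 hs0 hcs
    obtain ⟨r, hr⟩ := (h0 U hU).2 ⟨c, hc⟩
    have hr0 : r ≠ 0 := by
      rintro rfl
      apply hc0
      have := congrArg Subtype.val hr
      rw [map_zero] at this
      exact this.symm
    have hbo : ((Y.basicOpen r : Y.Opens) : Set Y).Nonempty := by
      by_contra hempty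
      apply hr0
      apply (basicOpen_eq_bot_iff r).mp
      ext y
      simp only [TopologicalSpace.Opens.coe_bot, Set.mem_empty_iff_false, iff_false]
      exact fun hy => hempty ⟨y, hy⟩
    obtain ⟨y, hy, ⟨x2, rfl⟩⟩ := hdom.inter_open_nonempty _ (Y.basicOpen r).2 hbo
    have hsnn : ¬ IsNilpotent s := fun h =>
      hs0 (hred U hU s (HomogeneousIdeal.mem_irrelevant_of_mem _ hn hs) h)
    obtain ⟨q, hq⟩ := Groth.Agent.Lib.Lead.ProjIntegralG.exists_notMem_of_not_isNilpotent
      (𝒮.deg U hU) hn s hs hsnn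
    have hq' : q ∈ (Proj.awayι (𝒮.deg U hU) s hs hn).opensRange := by
      rw [Proj.opensRange_awayι]
      exact hq
    obtain ⟨x0, hx0⟩ := hq'
    let j : Spec (.of (Away (𝒮.deg U hU) s)) ⟶ P :=
      Proj.awayι (𝒮.deg U hU) s hs hn ≫ (chart U hU).inv ≫ (p ⁻¹ᵁ U).ι
    have hj1 : ((j.opensRange : P.Opens) : Set P).Nonempty := ⟨j.base x0, x0, rfl⟩
    obtain ⟨x, hx1, hx2⟩ := nonempty_preirreducible_inter j.opensRange.2
      (p ⁻¹ᵁ Y.basicOpen r).2 hj1 ⟨x2, hy⟩
    obtain ⟨x', rfl⟩ := hx1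
    have hjp : j ≫ p = Spec.map (CommRingCat.ofHom (fromZeroRingHom (𝒮.deg U hU) _)) ≫
        Spec.map (𝒮.strZero U hU) ≫ hU.fromSpec := by
      simp only [j, Category.assoc]
      rw [← hP.chart_over U hU, Iso.inv_hom_id_assoc, Proj.awayι_toSpecZero_assoc]
    have hmem : (j ≫ p).base x' ∈ Y.basicOpen r := hx2
    rw [hjp] at hmem
    have hmem' : (Spec.map (𝒮.strZero U hU ≫
        CommRingCat.ofHom (fromZeroRingHom (𝒮.deg U hU) (Submonoid.powers s)))).base x' ∈
        hU.fromSpec ⁻¹ᵁ Y.basicOpen r := by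
      rw [Spec.map_comp]
      exact hmem
    rw [hU.fromSpec_preimage_basicOpen] at hmem'
    apply hmem'
    change (fromZeroRingHom (𝒮.deg U hU) (Submonoid.powers s)) ((𝒮.strZero U hU).hom r) ∈ x'.asIdeal
    rw [hr]
    have hz : fromZeroRingHom (𝒮.deg U hU) (Submonoid.powers s) ⟨c, hc⟩ = 0 := by
      rw [HomogeneousLocalization.ext_iff_val, val_zero]
      change Localization.mk c 1 = 0
      rw [Localization.mk_eq_mk', IsLocalization.mk'_eq_zero_iff]
      exact ⟨⟨s, 1, pow_one s⟩, by rw [mul_comm]; exact hcs⟩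
    rw [hz]
    exact zero_mem _
  -- homogeneous elements are not zero divisors
  have hhom : ∀ {x y : 𝒮.presheaf.obj (op U)}, SetLike.IsHomogeneousElem (𝒮.deg U hU) x →
      SetLike.IsHomogeneousElem (𝒮.deg U hU) y → x * y = 0 → x = 0 ∨ y = 0 := by
    rintro x y ⟨i, hx⟩ ⟨k, hy⟩ hxy
    by_contra hcon
    push_neg at hcon
    obtain ⟨hx0, hy0⟩ := hcon
    rcases Nat.eq_zero_or_pos i with rfl | hi <;> rcases Nat.eq_zero_or_pos k with rfl | hk
    · obtain ⟨r, hr⟩ := (h0 U hU).2 ⟨x, hx⟩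
      obtain ⟨r', hr'⟩ := (h0 U hU).2 ⟨y, hy⟩
      have h1 : (𝒮.strZero U hU).hom (r * r') = (𝒮.strZero U hU).hom 0 := by
        rw [map_mul, hr, hr', map_zero]
        exact Subtype.ext hxy
      rcases mul_eq_zero.mp ((h0 U hU).1 h1) with h | h
      · apply hx0
        have := congrArg Subtype.val hr
        rw [h, map_zero] at this
        exact this.symm
      · apply hy0
        have := congrArg Subtype.val hr'
        rw [h, map_zero] at this
        exact this.symm
    · exact key2 x hx k hk y hy hx0 hy0 hxy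
    · exact key2 y hy i hi x hx hy0 hx0 (by rw [mul_comm]; exact hxy)
    · rcases hnzd x (HomogeneousIdeal.mem_irrelevant_of_mem _ hi hx) y
        (HomogeneousIdeal.mem_irrelevant_of_mem _ hk hy) hxy with h | h
      · exact hx0 h
      · exact hy0 h
  haveI : Nontrivial (𝒮.presheaf.obj (op U)) := ⟨⟨f, 0, hf0⟩⟩
  haveI : (⊥ : Ideal (𝒮.presheaf.obj (op U))).IsPrime :=
    Ideal.IsHomogeneous.isPrime_of_homogeneous_mem_or_mem (𝒜 := 𝒮.deg U hU)
      (Ideal.IsHomogeneous.bot _) bot_ne_top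
      (fun hx hy hxy => by
        rw [Ideal.mem_bot] at hxy ⊢
        rw [Ideal.mem_bot]
        exact hhom hx hy hxy)
  exact IsDomain.of_bot_isPrime _

end Groth.Agent.S8265
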