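import Groth.Statements.S8273
import Groth.Agent.Lib.Lead.RelProjGlue
-- import your own Groth.Agent.* helpers here

set_option autoImplicit false
set_option backward.isDefEq.respectTransparency false
universe u
open CategoryTheory CategoryTheory.Limits AlgebraicGeometry Opposite TopologicalSpace
open scoped HomogeneousIdeal
open EGA2

namespace Groth.Agent.S8273


theorem hφ {Y : Scheme.{u}} (𝒮 : RelProj.QCGrAlg Y) : RelProj.IsGradedHom (𝟙 𝒮.toQCAlg) :=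
  fun _ _ _ _ hx => hx

theorem gradedHomAt_id {Y : Scheme.{u}} (𝒮 : RelProj.QCGrAlg Y) (U : Y.Opens) (hU : IsAffineOpen U) :
    RelProj.gradedHomAt (𝟙 𝒮.toQCAlg) (hφ 𝒮) U hU = GradedRingHom.id (𝒮.deg U hU) :=
  DFunLike.ext _ _ fun _ => rfl

theorem hirr {Y : Scheme.{u}} (𝒮 : RelProj.QCGrAlg Y) (U : Y.Opens) (hU : IsAffineOpen U) :
    (𝒮.deg U hU)₊ ≤ ((𝒮.deg U hU)₊).map (RelProj.gradedHomAt (𝟙 𝒮.toQCAlg) (hφ 𝒮) U hU) := by
  rw [gradedHomAt_id]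
  simp

theorem proj_map_id {Y : Scheme.{u}} (𝒮 : RelProj.QCGrAlg Y) (U : Y.Opens) (hU : IsAffineOpen U) :
    Proj.map (RelProj.gradedHomAt (𝟙 𝒮.toQCAlg) (hφ 𝒮) U hU) (hirr 𝒮 U hU) = 𝟙 _ := by
  rw [Groth.Agent.Lib.Lead.RelProjGlue.proj_map_congr (gradedHomAt_id 𝒮 U hU) (hirr 𝒮 U hU) (by simp),
    Proj.map_id]


/-- Uniqueness of the relative homogeneous spectrum: two schemes over Y equipped with the chart data of
Proj(𝒮) are related by a unique morphism compatible with the charts (chartwise the identity of Proj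
𝒮(U)), and that morphism is a Y-isomorphism. -/
theorem result {Y P P' : Scheme.{u}} (𝒮 : RelProj.QCGrAlg Y) (p : P ⟶ Y)
    (chart : ∀ (U : Y.Opens) (hU : IsAffineOpen U), (((p ⁻¹ᵁ U : P.Opens) : Scheme.{u}) ≅ Proj (𝒮.deg U hU)))
    (hP : RelProj.IsRelProj 𝒮 p chart) (p' : P' ⟶ Y)
    (chart' : ∀ (U : Y.Opens) (hU : IsAffineOpen U), (((p' ⁻¹ᵁ U : P'.Opens) : Scheme.{u}) ≅ Proj (𝒮.deg U hU)))
    (hP' : RelProj.IsRelProj 𝒮 p' chart') :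
    (∃! e : P ⟶ P', ∀ (U : Y.Opens) (hU : IsAffineOpen U),
        (p ⁻¹ᵁ U).ι ≫ e = (chart U hU).hom ≫ (chart' U hU).inv ≫ (p' ⁻¹ᵁ U).ι) ∧
      ∀ e : P ⟶ P', (∀ (U : Y.Opens) (hU : IsAffineOpen U),
        (p ⁻¹ᵁ U).ι ≫ e = (chart U hU).hom ≫ (chart' U hU).inv ≫ (p' ⁻¹ᵁ U).ι) → IsIso e ∧ e ≫ p' = p := by
  have key : ∀ e : P ⟶ P', (∀ (U : Y.Opens) (hU : IsAffineOpen U),
        (p ⁻¹ᵁ U).ι ≫ e = (chart U hU).hom ≫ (chart' U hU).inv ≫ (p' ⁻¹ᵁ U).ι) ↔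
      RelProj.IsRelProjMap (𝟙 𝒮.toQCAlg) (hφ 𝒮) (hirr 𝒮) chart' chart e := by
    intro e
    refine forall_congr' fun U => forall_congr' fun hU => ?_
    rw [proj_map_id, Category.id_comp]
  refine ⟨?_, ?_⟩
  · obtain ⟨h, hh⟩ := Groth.Agent.Lib.Lead.RelProjGlue.exists_isRelProjMap (𝟙 𝒮.toQCAlg) (hφ 𝒮)
      (hirr 𝒮) chart' chart hP' hP
    refine ⟨h, (key h).mpr hh, fun h' hh' => ?_⟩
    refine (P.openCoverOfIsOpenCover _
      (Groth.Agent.Lib.Lead.RelProjLocal.isOpenCover_preimage p)).hom_ext _ _ fun U => ?_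
    obtain ⟨U, hU⟩ := U
    change (p ⁻¹ᵁ U).ι ≫ h' = (p ⁻¹ᵁ U).ι ≫ h
    rw [hh' U hU, (key h).mpr hh U hU]
  · intro e he
    have hh := (key e).mp he
    refine ⟨?_, Groth.Agent.Lib.Lead.RelProjLocal.comp_eq (𝟙 𝒮.toQCAlg) (hφ 𝒮) (hirr 𝒮) hP' hP e hh⟩
    refine Groth.Agent.Lib.Lead.RelProjLocal.of_forall_affine (𝟙 𝒮.toQCAlg) (hφ 𝒮) (hirr 𝒮)
      (MorphismProperty.isomorphisms Scheme) hP' hP e hh ?_
    intro U hU
    rw [proj_map_id]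
    exact (inferInstance : IsIso (𝟙 (Proj (𝒮.deg U hU))))


end Groth.Agent.S8273
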