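import Groth.Statements.S8275
import Mathlib
import Groth.Agent.Lib.Helper6.SNat2

set_option autoImplicit false
universe u
open EGA2
open Groth.Agent.Lib.Helper6

namespace Groth.Agent.S8275

/-- For a positively graded ring S and the graded ring S♮ with S♮_n = S_{≥ n} = ⊕_{m ≥ n} S_m (presented
here as a graded ring S' with an injective algebra homomorphism φ : S' → S[X] carrying S'_n onto
S_{≥ n}·X^n for every n, so that S'_0 is identified with S): S♮ is of finite type over S♮_0 = S if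
and only if S is of finite type over S_0. -/
theorem result {R A B : Type u} [CommRing R] [CommRing A] [Algebra R A]
    (𝒜 : ℕ → Submodule R A) [GradedAlgebra 𝒜] [CommRing B] [Algebra R B] (ℬ : ℕ → Submodule R B) [GradedAlgebra ℬ]
    (φ : B →ₐ[R] Polynomial A) (hφ : Function.Injective φ)
    (hdeg : ∀ n : ℕ, Submodule.map φ.toLinearMap (ℬ n) =
      Submodule.map ((Polynomial.monomial n : A →ₗ[A] Polynomial A).restrictScalars R) (⨆ (m : ℕ) (_ : n ≤ m), 𝒜 m)) :
    Algebra.FiniteType (ℬ 0) B ↔ Algebra.FiniteType (𝒜 0) A := by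
  classical
  constructor
  · intro hB
    have := hB
    obtain ⟨s, hs, hsdeg⟩ := GradedAlgebra.exists_finset_adjoin_eq_top_and_homogeneous_ne_zero ℬ
    choose! e he0 heG using hsdeg
    have he1 : ∀ g ∈ s, 1 ≤ e g := fun g hg => Nat.one_le_iff_ne_zero.mpr (he0 g hg)
    have hgenB := SNat.mem_span_of_adjoin_eq_top ℬ s e heG hs
    let G₀ : Finset A := (s.filter (fun g => e g = 1)).image (fun g => (φ g).coeff 1)
    have hG₀1 : ∀ a ∈ G₀, (DirectSum.decompose 𝒜 a 0 : A) = 0 := by
      intro a ha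
      obtain ⟨g, hg, rfl⟩ := Finset.mem_image.mp ha
      rw [Finset.mem_filter] at hg
      have h : φ g ∈ Submodule.map φ.toLinearMap (ℬ 1) :=
        ⟨g, by rw [← hg.2]; exact heG g hg.1, rfl⟩
      rw [hdeg 1] at h
      obtain ⟨a', ha', hag⟩ := h
      have h3 : (φ g).coeff 1 = a' := by
        rw [← hag]
        simp
      rw [h3]
      exact SNat.decompose_zero_of_mem_iSup 𝒜 ha'
    have hG₀2 : ∀ m, 1 ≤ m → ∀ a ∈ 𝒜 m, a ∈ Ideal.span (G₀ : Set A) := by
      intro m hm a ha
      have ha1 : a ∈ ⨆ (m : ℕ) (_ : 1 ≤ m), 𝒜 m :=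
        Submodule.mem_iSup_of_mem m (Submodule.mem_iSup_of_mem hm ha)
      have h : (Polynomial.monomial 1 a : Polynomial A) ∈
          Submodule.map ((Polynomial.monomial 1 : A →ₗ[A] Polynomial A).restrictScalars R)
            (⨆ (m : ℕ) (_ : 1 ≤ m), 𝒜 m) := ⟨a, ha1, rfl⟩
      rw [← hdeg 1] at h
      obtain ⟨b, hb, hba⟩ := h
      have hba' : φ b = Polynomial.monomial 1 a := hba
      obtain ⟨y, hy, hy0, hby⟩ := SNat.exists_homogeneous_coeffs ℬ s e heG hb (hgenB 1 le_rfl b hb)
      have hcoef : a = ∑ g ∈ s, (φ (y g) * φ g).coeff 1 := by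
        have h4 : (φ b).coeff 1 = a := by
          rw [hba']
          simp
        rw [← h4, hby, map_sum, Polynomial.finsetSum_coeff]
        simp only [map_mul]
      rw [hcoef]
      refine Ideal.sum_mem _ fun g hg => ?_
      by_cases h1 : e g = 1
      · have hy' : y g ∈ ℬ 0 := by
          have h5 := hy g hg
          rwa [h1, Nat.sub_self] at h5
        have h' : φ (y g) ∈ Submodule.map φ.toLinearMap (ℬ 0) := ⟨_, hy', rfl⟩
        rw [hdeg 0] at h'
        obtain ⟨α, -, hα⟩ := h'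
        have h6 : φ (y g) = Polynomial.C α := by
          rw [← hα]
          exact Polynomial.monomial_zero_left (a := α)
        rw [h6, Polynomial.coeff_C_mul]
        exact Ideal.mul_mem_left _ _ (Ideal.subset_span (Finset.mem_coe.mpr
          (Finset.mem_image.mpr ⟨g, Finset.mem_filter.mpr ⟨hg, h1⟩, rfl⟩)))
      · have h7 : y g = 0 := hy0 g hg (by have := he1 g hg; omega)
        rw [h7, map_zero, zero_mul, Polynomial.coeff_zero]
        exact zero_mem _
    obtain ⟨G, d, hG, hd, hgen⟩ := SNat.homogenize 𝒜 G₀ hG₀1 hG₀2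
    exact SNat.finiteType_of_generators 𝒜 G d hG hd hgen
  · intro hA
    have := hA
    obtain ⟨s, hs, hsdeg⟩ := GradedAlgebra.exists_finset_adjoin_eq_top_and_homogeneous_ne_zero 𝒜
    choose! d hd0 hdG using hsdeg
    have hd : ∀ f ∈ s, 1 ≤ d f := fun f hf => Nat.one_le_iff_ne_zero.mpr (hd0 f hf)
    have hgen := SNat.mem_span_of_adjoin_eq_top 𝒜 s d hdG hs
    obtain ⟨ee, hee⟩ := SNat.exists_ringEquiv 𝒜 ℬ φ hφ hdeg s d hdG hd hgen
    exact SNat.finiteType_of_ringEquiv ℬ φ (SNat.genSet s d) ee hee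
      (fun a => SNat.exists_preimage_C 𝒜 ℬ φ hdeg a)

end Groth.Agent.S8275
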