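import Groth.Statements.S8280
-- import your own Groth.Agent.* helpers here

set_option autoImplicit false
set_option backward.isDefEq.respectTransparency false
universe u
open CategoryTheory CategoryTheory.Limits AlgebraicGeometry Opposite TopologicalSpace
open scoped HomogeneousIdeal
open EGA2

namespace Groth.Agent.S8280


theorem aux {A σ : Type*} [CommRing A] [SetLike σ A] [AddSubgroupClass σ A] (𝒜 : ℕ → σ) [GradedRing 𝒜]
    (y : Proj 𝒜) (I : Ideal A) (n₀ : ℕ) (h : ∀ n, n₀ ≤ n → (𝒜 n : Set A) ⊆ I)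
    (hI : I ≤ y.asHomogeneousIdeal.toIdeal) : False := by
  apply y.not_irrelevant_le
  rw [HomogeneousIdeal.irrelevant_le]
  intro i hi x hx
  have hx' : x ∈ 𝒜 i := hx
  have h1 : x ^ (n₀ + 1) ∈ y.asHomogeneousIdeal.toIdeal := by
    apply hI
    apply h ((n₀ + 1) • i)
    · simp only [smul_eq_mul]; nlinarith
    · exact SetLike.pow_mem_graded (n₀+1) hx'
  exact (y.isPrime.mem_of_pow_mem _ h1)


/-- Let (f_α) be global sections of the quasi-coherent positively graded O_Y-algebra 𝒮, homogeneous of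
positive degrees, such that the ideal they generate contains all 𝒮_n from some degree on
(affine-locally). Then the opens X_{f_α} of Proj(𝒮) (characterised chartwise by the basic opens
D_+(f_α|U)) cover Proj(𝒮). (The published hypothesis fixes one degree, valid over all of Y, from
which on the f_α generate; this row asks for such a degree over each affine open separately, which
is all the proof, carried out one affine open at a time, uses.) -/
theorem result {Y P : Scheme.{u}} (𝒮 : RelProj.QCGrAlg Y) (p : P ⟶ Y)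
    (chart : ∀ (U : Y.Opens) (hU : IsAffineOpen U), (((p ⁻¹ᵁ U : P.Opens) : Scheme.{u}) ≅ Proj (𝒮.deg U hU)))
    (hP : RelProj.IsRelProj 𝒮 p chart) {ι : Type u} (d : ι → ℕ) (hd : ∀ a, 0 < d a)
    (f : ι → 𝒮.presheaf.obj (op ⊤))
    (hf : ∀ (a : ι) (U : Y.Opens) (hU : IsAffineOpen U), (𝒮.presheaf.map (homOfLE le_top).op).hom (f a) ∈ 𝒮.deg U hU (d a))
    (hgen : ∀ (U : Y.Opens) (hU : IsAffineOpen U), ∃ n₀ : ℕ, ∀ n, n₀ ≤ n →
      (𝒮.deg U hU n : Set (𝒮.presheaf.obj (op U))) ⊆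
        (Ideal.span (Set.range fun a => (𝒮.presheaf.map (homOfLE (le_top : U ≤ ⊤)).op).hom (f a)) :
          Set (𝒮.presheaf.obj (op U))))
    (X : ι → P.Opens)
    (hX : ∀ (a : ι) (U : Y.Opens) (hU : IsAffineOpen U),
      X a ⊓ p ⁻¹ᵁ U =
        (p ⁻¹ᵁ U).ι ''ᵁ ((chart U hU).hom ⁻¹ᵁ
          Proj.basicOpen (𝒮.deg U hU) ((𝒮.presheaf.map (homOfLE le_top).op).hom (f a)))) :
    ⨆ a, X a = ⊤ := by
  classical
  refine top_le_iff.mp fun x _ => ?_
  obtain ⟨U, hxU⟩ := TopologicalSpace.Opens.mem_iSup.mp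
    (show p.base x ∈ ⨆ U : Y.affineOpens, (U : Y.Opens) by
      rw [iSup_affineOpens_eq_top Y]; trivial)
  obtain ⟨U, hU⟩ := U
  change p.base x ∈ U at hxU
  have hxU' : x ∈ p ⁻¹ᵁ U := hxU
  set x' : ↥(p ⁻¹ᵁ U) := ⟨x, hxU'⟩ with hx'
  set y := (chart U hU).hom.base x' with hy
  obtain ⟨n₀, hn₀⟩ := hgen U hU
  by_contra hcon
  rw [TopologicalSpace.Opens.mem_iSup] at hcon
  push Not at hcon
  refine aux (𝒮.deg U hU) y _ n₀ hn₀ ?_
  rw [Ideal.span_le]
  rintro _ ⟨a, rfl⟩
  by_contra hmem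
  apply hcon a
  have : x ∈ X a ⊓ p ⁻¹ᵁ U := by
    rw [hX a U hU]
    refine ⟨x', ?_, rfl⟩
    exact hmem
  exact this.1


end Groth.Agent.S8280
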