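import Groth.Statements.S8282
import Groth.Agent.S3596
import Groth.Agent.Lib.Helper28.GrTNSurj
import Groth.Agent.Lib.Helper28.GrFrac
-- import your own Groth.Agent.* helpers here

set_option autoImplicit false
universe u
open CategoryTheory CategoryTheory.Limits AlgebraicGeometry
open EGA2

namespace Groth.Agent.S8282

section
variable {R A B : Type u} [CommRing R] [CommRing A] [Algebra R A]
    (𝒜 : ℕ → Submodule R A) [GradedAlgebra 𝒜] [CommRing B] [Algebra R B] (ℬ : ℕ → Submodule R B)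
    [GradedAlgebra ℬ] (φ : 𝒜 →+*ᵍ ℬ)

theorem bijective_awayMap (p : (PCone.dom φ : Scheme.{u}) ⟶ Proj 𝒜)
    (hp : ∀ (d : ℕ) (f : A) (hd : 0 < d) (hf : f ∈ 𝒜 d),
      PCone.chart φ hf hd ≫ p =
        Spec.map (CommRingCat.ofHom (HomogeneousLocalization.Away.map φ f)) ≫ Proj.awayι 𝒜 f hf hd)
    [IsIso p] {d : ℕ} {f : A} (hf : f ∈ 𝒜 d) (hd : 0 < d) :
    Function.Bijective (HomogeneousLocalization.Away.map φ f) := by
  have hIso : IsIso (Spec.map (CommRingCat.ofHom (HomogeneousLocalization.Away.map φ f))) := by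
    rw [isIso_iff_isOpenImmersion_and_surjective]
    have hoi : IsOpenImmersion
        (Spec.map (CommRingCat.ofHom (HomogeneousLocalization.Away.map φ f)) ≫
          Proj.awayι 𝒜 f hf hd) := by
      rw [← hp d f hd hf]
      infer_instance
    refine ⟨IsOpenImmersion.of_comp _ (Proj.awayι 𝒜 f hf hd), ⟨fun y => ?_⟩⟩
    have hy : (Proj.awayι 𝒜 f hf hd).base y ∈ Proj.basicOpen 𝒜 f := by
      rw [← Proj.opensRange_awayι 𝒜 f hf hd]
      exact ⟨y, rfl⟩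
    obtain ⟨x, hx⟩ : ∃ x, p.base x = (Proj.awayι 𝒜 f hf hd).base y :=
      ⟨(inv p).base ((Proj.awayι 𝒜 f hf hd).base y), by
        rw [← Scheme.Hom.comp_apply, IsIso.inv_hom_id]; rfl⟩
    have hx' : x ∈ p ⁻¹ᵁ Proj.basicOpen 𝒜 f := by
      change p.base x ∈ Proj.basicOpen 𝒜 f
      rw [hx]; exact hy
    rw [Groth.Agent.S3596.preimage_eq 𝒜 ℬ φ p hp hf hd] at hx'
    obtain ⟨z, rfl⟩ := hx'
    refine ⟨z, ?_⟩
    apply (Proj.awayι 𝒜 f hf hd).isOpenEmbedding.injective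
    rw [← hx]
    exact (congrArg (fun q => q.base z) (hp d f hd hf)).symm
  exact isIso_SpecMap_iff.mp hIso

theorem exists_pow_mul_eq {f : A} (hf : f ∈ 𝒜 1)
    (hsurj : Function.Surjective (HomogeneousLocalization.Away.map φ f)) (n : ℕ) (b : B)
    (hb : b ∈ ℬ n) : ∃ (N : ℕ) (a : A), φ a = φ f ^ N * b := by
  have hb' : b ∈ ℬ (n • 1) := by rwa [smul_eq_mul, mul_one]
  obtain ⟨w, hw⟩ := hsurj (HomogeneousLocalization.Away.mk ℬ (φ.map_mem hf) n b hb')
  obtain ⟨m, a, ha, rfl⟩ := HomogeneousLocalization.Away.mk_surjective 𝒜 hf w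
  rw [HomogeneousLocalization.Away.map_mk] at hw
  have hv := congrArg HomogeneousLocalization.val hw
  rw [HomogeneousLocalization.Away.val_mk, HomogeneousLocalization.Away.val_mk,
    Localization.mk_eq_mk_iff, Localization.r_iff_exists] at hv
  obtain ⟨⟨c, k, rfl⟩, hc⟩ := hv
  simp only at hc
  refine ⟨k + m, f ^ (k + n) * a, ?_⟩
  rw [map_mul, map_pow, pow_add, pow_add, mul_assoc, mul_assoc]
  exact hc

omit [GradedAlgebra 𝒜] in
theorem exists_pow_mem_span (hgen : ∀ n : ℕ, 1 ≤ n → 𝒜 n = 𝒜 1 ^ n) (hdom : PCone.dom φ = ⊤)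
    (k : ℕ) (hk : 0 < k) (t : B) (ht : t ∈ ℬ k) :
    ∃ e : ℕ, t ^ e ∈ Ideal.span (φ '' (𝒜 1 : Set A)) := by
  have hr : Set.range (fun a : 𝒜 1 => φ (a : A)) = φ '' (𝒜 1 : Set A) := by
    ext x
    constructor
    · rintro ⟨a, rfl⟩; exact ⟨a.1, a.2, rfl⟩
    · rintro ⟨a, ha, rfl⟩; exact ⟨⟨a, ha⟩, rfl⟩
  rw [← hr]
  refine Groth.Agent.Lib.helper28.GrFrac.exists_pow_mem_span ℬ hk ht
    (fun a : 𝒜 1 => φ (a : A)) (fun a => ⟨1, φ.map_mem a.2⟩) ?_
  intro y _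
  by_contra hcon
  have hall : ∀ a ∈ 𝒜 1, φ a ∈ y.asHomogeneousIdeal := by
    intro a ha
    by_contra h
    exact hcon ⟨⟨a, ha⟩, h⟩
  have hy : y ∈ PCone.dom φ := by rw [hdom]; trivial
  obtain ⟨⟨g, j, hj, hg⟩, hyg⟩ := TopologicalSpace.Opens.mem_iSup.mp hy
  have hyg' : φ g ∉ y.asHomogeneousIdeal := (ProjectiveSpectrum.mem_basicOpen ℬ (φ g) y).mp hyg
  apply hyg'
  let J : Ideal A := Ideal.comap φ.toRingHom y.asHomogeneousIdeal.toIdeal
  have hJ : 𝒜 j ≤ J.restrictScalars R := by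
    rw [hgen j hj]
    obtain ⟨i, rfl⟩ : ∃ i, j = i + 1 := ⟨j - 1, by omega⟩
    rw [pow_succ, Submodule.mul_le]
    intro m _ m' hm'
    change m * m' ∈ J
    exact J.mul_mem_left m (hall m' hm')
  exact hJ hg

omit [GradedAlgebra 𝒜] in
theorem map_mem_pow (n : ℕ) (a : A) (ha : a ∈ 𝒜 1 ^ (n + 1)) : φ a ∈ ℬ 1 ^ (n + 1) := by
  induction n generalizing a with
  | zero =>
    rw [zero_add, pow_one] at ha ⊢
    exact φ.map_mem ha
  | succ n ih =>
    rw [pow_succ] at ha ⊢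
    refine Submodule.mul_induction_on (C := fun a => φ a ∈ ℬ 1 ^ (n + 1) * ℬ 1) ha ?_ ?_
    · intro m hm m' hm'
      change φ (m * m') ∈ _
      rw [map_mul]
      exact Submodule.mul_mem_mul (ih m hm) (φ.map_mem hm')
    · intro x y hx hy
      change φ (x + y) ∈ _
      rw [map_add]
      exact add_mem hx hy

omit [CommRing A] [Algebra R A] in
theorem pow_le (n : ℕ) : ℬ 1 ^ n ≤ ℬ n := by
  induction n with
  | zero =>
    rw [pow_zero, Submodule.one_le]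
    exact SetLike.GradedOne.one_mem
  | succ n ih =>
    rw [pow_succ, Submodule.mul_le]
    intro m hm m' hm'
    exact SetLike.mul_mem_graded (ih hm) hm'

end


/-- Let T be a positively graded ring which is a T_0-algebra of finite type, and T' = ⊕_n T_1^n → T the
injective graded homomorphism from the subalgebra generated by T_1 (T' presented as a graded ring
with φ : T' → T injective, bijective in degrees 0 and 1, and T'_n = (T'_1)^n for n ≥ 1). If the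
morphism of homogeneous spectra induced by φ is everywhere defined (its domain G(φ) is the whole of
Proj T) and is an isomorphism onto Proj T', then there is n₀ with T_n = T_1^n for all n ≥ n₀. -/
theorem result {R A B : Type u} [CommRing R] [CommRing A] [Algebra R A]
    (𝒜 : ℕ → Submodule R A) [GradedAlgebra 𝒜] [CommRing B] [Algebra R B] (ℬ : ℕ → Submodule R B) [GradedAlgebra ℬ]
    [Algebra.FiniteType (ℬ 0) B] (φ : 𝒜 →+*ᵍ ℬ) (hφ : Function.Injective φ)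
    (h0 : Set.BijOn φ (𝒜 0) (ℬ 0)) (h1 : Set.BijOn φ (𝒜 1) (ℬ 1))
    (hgen : ∀ n : ℕ, 1 ≤ n → 𝒜 n = 𝒜 1 ^ n)
    (hdom : PCone.dom φ = ⊤)
    (p : (PCone.dom φ : Scheme.{u}) ⟶ Proj 𝒜)
    (hp : ∀ (d : ℕ) (f : A) (hd : 0 < d) (hf : f ∈ 𝒜 d),
      PCone.chart φ hf hd ≫ p =
        Spec.map (CommRingCat.ofHom (HomogeneousLocalization.Away.map φ f)) ≫ Proj.awayι 𝒜 f hf hd)
    [IsIso p] :
    ∃ n₀ : ℕ, ∀ n : ℕ, n₀ ≤ n → ℬ n = ℬ 1 ^ n := by
  obtain ⟨n₀, hn₀⟩ := Groth.Agent.Lib.helper28.GrTNSurj.exists_forall_mem_range 𝒜 ℬ φ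
    (fun b hb => h0.surjOn hb)
    (fun f hf n b hb => exists_pow_mul_eq 𝒜 ℬ φ hf
      (bijective_awayMap 𝒜 ℬ φ p hp hf Nat.one_pos).2 n b hb)
    (fun k hk t ht => exists_pow_mem_span 𝒜 ℬ φ hgen hdom k hk t ht)
  refine ⟨n₀ + 1, fun n hn => le_antisymm ?_ (pow_le ℬ n)⟩
  intro b hb
  obtain ⟨a, ha, rfl⟩ := hn₀ n (by omega) b hb
  obtain ⟨m, rfl⟩ : ∃ m, n = m + 1 := ⟨n - 1, by omega⟩
  rw [hgen (m + 1) (by omega)] at ha
  exact map_mem_pow 𝒜 ℬ φ m a ha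

end Groth.Agent.S8282
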