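import Groth.Statements.S8283
import Groth.Agent.LibSectionDVR29
import Groth.Agent.Lib.Helper17.FibreStalk
import Groth.Agent.Lib.Helper17.RegNear
import Groth.Agent.Lib.Helper16.EffCartier
-- import your own Groth.Agent.* helpers here

set_option autoImplicit false
universe u
open CategoryTheory CategoryTheory.Limits AlgebraicGeometry Opposite TopologicalSpace
open EGA2

namespace Groth.Agent.S8283

/-- Let π : V → X be locally of finite type and j : X → V a section of π that is a closed immersion with
invertible ideal sheaf. Then for every x ∈ X the local ring at j(x) of the fibre π⁻¹(π(j(x))) =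
π⁻¹(x) is a regular local ring of dimension one, i.e. a discrete valuation ring (so j(x) lies on a
single irreducible component of the fibre; the completion of that local ring is then a power-series
ring in one variable over the residue field of x). (The published statement assumes π of finite
type; this row assumes only that π is locally of finite type, which is all the proof uses: it needs
no more than the Noetherian property of the local rings of the fibre.) -/
theorem result {X V : Scheme.{u}} (π : V ⟶ X) [LocallyOfFiniteType π]
    (j : X ⟶ V) [IsClosedImmersion j] (hj : j ≫ π = 𝟙 X) (hJ : BlowUp.IsEffCartierIdeal j.ker) (x : X) :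
    ∃ _ : IsDomain ((π.fiber (π.base (j.base x))).presheaf.stalk (π.asFiber (j.base x))),
      IsDiscreteValuationRing ((π.fiber (π.base (j.base x))).presheaf.stalk (π.asFiber (j.base x))) := by
  classical
  set v : V := j.base x with hv
  -- the fibre is locally Noetherian
  haveI hlft : LocallyOfFiniteType (π.fiberToSpecResidueField (π.base v)) :=
    MorphismProperty.pullback_snd _ _ inferInstance
  haveI : IsLocallyNoetherian (π.fiber (π.base v)) :=
    LocallyOfFiniteType.isLocallyNoetherian (π.fiberToSpecResidueField (π.base v))
  -- the equivalence with the fibre ring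
  obtain ⟨e⟩ := Groth.Agent.Lib.helper17.FibreStalk.nonempty_asFiber_stalk_equiv π v
  -- local generator of the ideal of the section
  obtain ⟨U, hvU, f, hf, hJU⟩ := hJ v
  letI := V.presheaf.algebra_section_stalk (⟨v, hvU⟩ : U.1)
  have hkerU : j.ker.ideal U = RingHom.ker (j.app U.1).hom := Scheme.Hom.ker_apply j U
  have hker : RingHom.ker (j.stalkMap x).hom =
      Ideal.span {algebraMap Γ(V, U.1) (V.presheaf.stalk v) f} := by
    rw [← Groth.Agent.Lib.helper17.RegNear.ker_stalkMap_eq_map j x U.1 U.2 hvU, ← hkerU, hJU,
      Ideal.map_span, Set.image_singleton]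
  have hflat : Module.Flat Γ(V, U.1) (V.presheaf.stalk v) := by
    haveI := U.2.isLocalization_stalk ⟨v, hvU⟩
    exact IsLocalization.flat (V.presheaf.stalk v) (U.2.primeIdealOf ⟨v, hvU⟩).asIdeal.primeCompl
  have ht : algebraMap Γ(V, U.1) (V.presheaf.stalk v) f ∈ nonZeroDivisors (V.presheaf.stalk v) :=
    Groth.Agent.Lib.helper16.EffCartier.map_mem_nonZeroDivisors_of_flat
      (algebraMap Γ(V, U.1) (V.presheaf.stalk v)) ((RingHom.flat_algebraMap_iff).2 hflat) hf
  -- the section splits the structure map on stalks
  have hbij : Function.Bijective ((j.stalkMap x).hom.comp (π.stalkMap v).hom) := by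
    haveI : IsIso (j ≫ π) := by rw [hj]; infer_instance
    have h1 : (j ≫ π).stalkMap x = π.stalkMap (j.base x) ≫ j.stalkMap x :=
      Scheme.Hom.stalkMap_comp j π x
    have h2 : Function.Bijective ((j ≫ π).stalkMap x).hom :=
      ConcreteCategory.bijective_of_isIso ((j ≫ π).stalkMap x)
    rw [h1] at h2
    exact h2
  exact Groth.Agent.LibSectionDVR29.isDVR_of_equiv (π.stalkMap v).hom (j.stalkMap x).hom _ hker hbij ht e

end Groth.Agent.S8283
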