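import Groth.Statements.S8290
import Groth.Agent.Lib.Helper28.RestrictCover
import Groth.Agent.Lib.Helper28.RelTwistChart
import Groth.Agent.Lib.Helper28.GTwistInv
-- import your own Groth.Agent.* helpers here

set_option autoImplicit false
universe u
open CategoryTheory CategoryTheory.Limits AlgebraicGeometry Opposite TopologicalSpace
open scoped HomogeneousIdeal
noncomputable section
open EGA2

namespace Groth.Agent.S8290

/-- Let 𝒮 be a quasi-coherent positively graded O_Y-algebra, X = Proj(𝒮), and U a quasi-compact open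
subset of X. There is an integer d > 0 such that for every n divisible by d the twisting sheaf
O_X(n) restricted to U is invertible. (The published statement adds that its inverse is O_X(-n)|U.) -/
theorem result {Y X : Scheme.{u}} (𝒮 : RelProj.QCGrAlg Y) (q : X ⟶ Y)
    (chart : ∀ (U : Y.Opens) (hU : IsAffineOpen U), (((q ⁻¹ᵁ U : X.Opens) : Scheme.{u}) ≅ Proj (𝒮.deg U hU)))
    (hX : RelProj.IsRelProj 𝒮 q chart) (U : X.Opens) (hU : IsCompact (U : Set X)) :
    ∃ d : ℕ, 0 < d ∧ ∀ (n : ℤ), (d : ℤ) ∣ n →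
      ∀ (L : X.Modules)
        (lam : ∀ (V : Y.Opens) (hV : IsAffineOpen V),
          L ⟶ (Scheme.Modules.pushforward (RelProj.emb q chart V hV)).obj (GrTwist.twist (𝒮.deg V hV) n)),
        RelProj.IsRelTwist 𝒮 q chart n L lam → PicF.IsInvertible (L.restrict U.ι) := by
  classical
  have key : ∀ y : X, ∃ (W : X.Opens) (e : ℕ), 0 < e ∧ y ∈ W ∧ ∀ (n : ℤ), (e : ℤ) ∣ n →
      ∀ (L : X.Modules)
        (lam : ∀ (V : Y.Opens) (hV : IsAffineOpen V),
          L ⟶ (Scheme.Modules.pushforward (RelProj.emb q chart V hV)).obj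
            (GrTwist.twist (𝒮.deg V hV) n)),
        RelProj.IsRelTwist 𝒮 q chart n L lam →
          Groth.Agent.Lib.helper11.InvMod.IsTrivOn L W := by
    intro y
    obtain ⟨⟨V, hV⟩, z, rfl⟩ := Groth.Agent.Lib.helper28.RelTwistChart.exists_mem_range_emb q chart y
    have hz : z ∈ (⊤ : (Proj (𝒮.deg V hV)).Opens) := trivial
    rw [← Groth.Agent.Lib.helper28.GTwistQCoh.iSup_basicOpen_eq_top (𝒮.deg V hV),
      Opens.mem_iSup] at hz
    obtain ⟨⟨e, g⟩, hzg⟩ := hz
    refine ⟨(RelProj.emb q chart V hV) ''ᵁ (Proj.basicOpen (𝒮.deg V hV) (g : _)), e, e.2,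
      ⟨z, hzg, rfl⟩, ?_⟩
    rintro n ⟨k, rfl⟩ L lam hL
    have h1 := Groth.Agent.Lib.helper28.GTwistInv.isTrivOn_twist_mul (𝒮.deg V hV) e.2 g.2 k
    rw [mul_comm] at h1
    exact Groth.Agent.Lib.helper28.RestrictCover.isTrivOn_image (RelProj.emb q chart V hV)
      (Groth.Agent.Lib.helper11.InvMod.IsTrivOn.of_iso
        (Groth.Agent.Lib.helper28.RelTwistChart.chartIso lam hL V hV).symm h1)
  choose W e he hyW htriv using key
  obtain ⟨t, ht⟩ := hU.elim_finite_subcover (fun y => (W y : Set X)) (fun y => (W y).2)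
    (fun y _ => Set.mem_iUnion.mpr ⟨y, hyW y⟩)
  refine ⟨∏ y ∈ t, e y, Finset.prod_pos (fun y _ => he y), ?_⟩
  intro n hn L lam hL x
  obtain ⟨y, hyt, hxy⟩ : ∃ y ∈ t, x.1 ∈ W y := by
    have := ht x.2
    simpa using this
  have hdiv : (e y : ℤ) ∣ n :=
    (Int.natCast_dvd_natCast.mpr (Finset.dvd_prod_of_mem e hyt)).trans hn
  exact ⟨U.ι ⁻¹ᵁ W y, hxy,
    Groth.Agent.Lib.helper11.InvMod.IsTrivOn.restrict U.ι (htriv y n hdiv L lam hL)⟩

end Groth.Agent.S8290
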