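import Groth.Statements.S8305
import Groth.Agent.Lib.Helper28.QCohIso
import Groth.Agent.Lib.Helper7.QCohPushQC
import Mathlib.AlgebraicGeometry.Morphisms.IsIso

set_option autoImplicit false
universe u
open CategoryTheory CategoryTheory.Limits AlgebraicGeometry Opposite TopologicalSpace
noncomputable section
open EGA2

namespace Groth.Agent.S8305

set_option backward.isDefEq.respectTransparency false in
/-- a morphism which is affine with iso on sections over an affine open cover of the target is an
isomorphism -/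
theorem isIso_of_affine_cover {X Y : Scheme.{u}} (h : Y ⟶ X) {ι : Type*} (W : ι → X.affineOpens)
    (hW : ⨆ i, (W i : X.Opens) = ⊤)
    (H : ∀ i, IsAffineOpen (h ⁻¹ᵁ (W i).1) ∧ IsIso (h.app (W i).1)) : IsIso h := by
  change MorphismProperty.isomorphisms Scheme h
  rw [HasAffineProperty.iff_of_iSup_eq_top (P := MorphismProperty.isomorphisms Scheme.{u}) W hW]
  intro i
  refine ⟨(H i).1, ?_⟩
  rw [morphismRestrict_appTop]
  have e : (W i).1.ι ''ᵁ ⊤ = (W i).1 := Scheme.Opens.ι_image_top _
  have : IsIso (h.app ((W i).1.ι ''ᵁ ⊤)) := by rw [e]; exact (H i).2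
  infer_instance

/-- Let X and Y be schemes affine over S with structure morphisms gX and gY, h : Y → X a morphism over
S, F a quasi-coherent O_X-module, G a quasi-coherent O_Y-module and v : F → h_*G a homomorphism of
O_X-modules, so that (h, v) is a morphism of pairs (Y, G) → (X, F). Then h and v are isomorphisms if
and only if the direct-image algebra homomorphism A(h) : gX_*O_X → gY_*O_Y and the direct image A(v)
= gX_*(v) : gX_*F → gX_*h_*G are isomorphisms (the pair (A(h), A(v)) is a di-isomorphism). -/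
theorem result {X Y S : Scheme.{u}} (gX : X ⟶ S) [IsAffineHom gX]
    (gY : Y ⟶ S) [IsAffineHom gY] (h : Y ⟶ X) (hh : h ≫ gX = gY)
    (F : X.Modules) (G : Y.Modules) (hF : Coh.IsQCoh F) (hG : Coh.IsQCoh G)
    (v : F ⟶ (Scheme.Modules.pushforward h).obj G) :
    (IsIso h ∧ IsIso v) ↔
      (IsIso (AffAlg.algHom gX gY h hh) ∧ IsIso ((Scheme.Modules.pushforward gX).map v)) := by
  subst hh
  have hF' : F.IsQuasicoherent := hF
  have hG' : G.IsQuasicoherent := hG
  have happ : ∀ U : S.Opens,
      (AffAlg.algHom gX (h ≫ gX) h rfl).app (op U) = h.app (gX ⁻¹ᵁ U) := by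
    intro U
    simp [AffAlg.algHom]
    rfl
  have hcovS : ∀ x : X, ∃ U : S.affineOpens, x ∈ gX ⁻¹ᵁ U.1 := by
    intro x
    obtain ⟨U, hU, hx, -⟩ := Opens.isBasis_iff_nbhd.mp S.isBasis_affineOpens
      (U := ⊤) (x := gX.base x) trivial
    exact ⟨⟨U, hU⟩, hx⟩
  constructor
  · rintro ⟨h1, h2⟩
    refine ⟨?_, inferInstance⟩
    have : ∀ U, IsIso ((AffAlg.algHom gX (h ≫ gX) h rfl).app U) := by
      intro U
      rw [show U = op U.unop from rfl, happ]
      have h3 : IsIso (h.app (gX ⁻¹ᵁ U.unop)) := inferInstance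
      exact h3
    exact NatIso.isIso_of_isIso_app _
  · rintro ⟨h1, h2⟩
    have hiso : IsIso h := by
      refine isIso_of_affine_cover h
        (fun U : S.affineOpens => (⟨gX ⁻¹ᵁ U.1, IsAffineOpen.preimage U.2 gX⟩ : X.affineOpens))
        ?_ ?_
      · refine top_le_iff.mp fun x _ => ?_
        obtain ⟨U, hU⟩ := hcovS x
        exact Opens.mem_iSup.mpr ⟨U, hU⟩
      · intro U
        refine ⟨IsAffineOpen.preimage U.2 (h ≫ gX), ?_⟩
        have h3 : IsIso ((AffAlg.algHom gX (h ≫ gX) h rfl).app (op U.1)) := inferInstance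
        rw [happ] at h3
        exact h3
    refine ⟨hiso, ?_⟩
    have hpush : ((Scheme.Modules.pushforward h).obj G).IsQuasicoherent :=
      Groth.Agent.Lib.helper7.QCohPushQC.isQuasicoherent_pushforward h G
    refine Groth.Agent.Lib.helper28.QCohIso.isIso_of_bijective_on_affine_cover v
      (fun U : S.affineOpens => gX ⁻¹ᵁ U.1) (fun U => IsAffineOpen.preimage U.2 gX) hcovS ?_
    intro U
    have h3 : IsIso (((Scheme.Modules.pushforward gX).map v).app U.1) := inferInstance
    have h4 := (ConcreteCategory.isIso_iff_bijective _).mp h3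
    exact h4

end Groth.Agent.S8305
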