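import Groth.Statements.S8310
import Mathlib
import Groth.Agent.Lib.Helper6.SNat3

set_option autoImplicit false
universe u
open CategoryTheory AlgebraicGeometry
open scoped HomogeneousIdeal
open EGA2

namespace Groth.Agent.S8310



/-- Let S be a positively graded ring (an ℕ-graded R-algebra), S♮ the graded ring with S♮_n = S_[n] =
⊕_{m ≥ n} S_m (presented as a graded ring S' with an injective algebra homomorphism φ : S' → S[X]
carrying S'_n onto S_[n]·X^n), and T = S♮ ⊗_S S_0 = ⊕_n S_[n]/S_+S_[n] (presented as a graded ring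
with a surjective graded homomorphism π : S' → T whose kernel is the ideal generated by the elements
of S' corresponding to the constants in S_+); let ρ : T → S be the surjective graded homomorphism
sending the class of a ∈ S_[n] (in degree n) to the degree-n component of a, and Proj S → Proj T the
morphism it induces (a closed immersion, ρ being surjective). Then this morphism Proj S → Proj T is
bijective. -/
theorem result {R A B C : Type u} [CommRing R] [CommRing A] [Algebra R A]
    (𝒜 : ℕ → Submodule R A) [GradedAlgebra 𝒜] [CommRing B] [Algebra R B] (ℬ : ℕ → Submodule R B) [GradedAlgebra ℬ]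
    (φ : B →ₐ[R] Polynomial A) (hφ : Function.Injective φ)
    (hdeg : ∀ n : ℕ, Submodule.map φ.toLinearMap (ℬ n) =
      Submodule.map ((Polynomial.monomial n : A →ₗ[A] Polynomial A).restrictScalars R) (⨆ (m : ℕ) (_ : n ≤ m), 𝒜 m))
    [CommRing C] [Algebra R C] (𝒞 : ℕ → Submodule R C) [GradedAlgebra 𝒞]
    (π : ℬ →+*ᵍ 𝒞) (hπ : Function.Surjective π)
    (hker : RingHom.ker π.toRingHom =
      Ideal.span (⇑φ ⁻¹' (⇑(Polynomial.C : A →+* Polynomial A) '' ((HomogeneousIdeal.irrelevant 𝒜).toIdeal : Set A))))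
    (ρ : 𝒞 →+*ᵍ 𝒜) (hρ : ∀ (n : ℕ) (b : B), b ∈ ℬ n → ρ (π b) = GradedRing.proj 𝒜 n ((φ b).coeff n))
    (hirr : HomogeneousIdeal.irrelevant 𝒜 ≤ (HomogeneousIdeal.irrelevant 𝒞).map ρ) :
    Function.Bijective (Proj.map ρ hirr).base := by
  have hsurj : Function.Surjective ρ :=
    Groth.Agent.Lib.Helper6.SNat.rho_surjective 𝒜 ℬ φ hdeg 𝒞 π ρ hρ
  have hkerq : ∀ (q : Ideal C) [q.IsPrime] (c : C), ρ c = 0 → c ∈ q := fun q _ c hc =>
    Groth.Agent.Lib.Helper6.SNat.mem_prime_of_rho_eq_zero 𝒜 ℬ φ hdeg 𝒞 π ρ hker hφ hπ hρ q c hc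
  constructor
  · intro p p' h
    have h' : ProjectiveSpectrum.comapFun ρ hirr p = ProjectiveSpectrum.comapFun ρ hirr p' := h
    have h2 : (p.asHomogeneousIdeal.toIdeal).comap ρ = (p'.asHomogeneousIdeal.toIdeal).comap ρ :=
      congrArg (fun x => x.asHomogeneousIdeal.toIdeal) h'
    have h3 := Ideal.comap_injective_of_surjective ρ hsurj h2
    exact ProjectiveSpectrum.ext (HomogeneousIdeal.ext h3)
  · intro q
    have hkq : RingHom.ker ρ ≤ q.asHomogeneousIdeal.toIdeal := fun c hc =>
      hkerq q.asHomogeneousIdeal.toIdeal c hc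
    have hcm : (q.asHomogeneousIdeal.toIdeal.map ρ).comap ρ = q.asHomogeneousIdeal.toIdeal := by
      rw [Ideal.comap_map_of_surjective ρ hsurj]
      exact sup_eq_left.mpr hkq
    have hprime : (q.asHomogeneousIdeal.map ρ).toIdeal.IsPrime :=
      Ideal.map_isPrime_of_surjective hsurj hkq
    refine ⟨⟨q.asHomogeneousIdeal.map ρ, hprime, ?_⟩, ?_⟩
    · intro hle
      apply q.not_irrelevant_le
      intro c hc
      have h1 : ρ c ∈ HomogeneousIdeal.irrelevant 𝒜 := by
        rw [HomogeneousIdeal.mem_irrelevant_iff, GradedRing.proj_apply,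
          ← GradedRingHom.map_directSumDecompose 𝒞 𝒜 ρ]
        rw [HomogeneousIdeal.mem_irrelevant_iff, GradedRing.proj_apply] at hc
        rw [hc, map_zero]
      have h2 : ρ c ∈ (q.asHomogeneousIdeal.map ρ) := hle h1
      have h3 : c ∈ (q.asHomogeneousIdeal.toIdeal.map ρ).comap ρ := h2
      rw [hcm] at h3
      exact h3
    · apply ProjectiveSpectrum.ext
      apply HomogeneousIdeal.ext
      exact hcm


end Groth.Agent.S8310
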