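import Groth.Statements.S8311
import Mathlib
import Groth.Agent.Lib.Helper6.SNat3

set_option autoImplicit false
universe u
open CategoryTheory AlgebraicGeometry
open scoped HomogeneousIdeal
open EGA2

namespace Groth.Agent.S8311

open Polynomial in
theorem away_map_bijective {R A B C : Type u} [CommRing R] [CommRing A] [Algebra R A]
    (𝒜 : ℕ → Submodule R A) [GradedAlgebra 𝒜] [CommRing B] [Algebra R B] (ℬ : ℕ → Submodule R B) [GradedAlgebra ℬ]
    (φ : B →ₐ[R] Polynomial A) (hφ : Function.Injective φ)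
    (hdeg : ∀ n : ℕ, Submodule.map φ.toLinearMap (ℬ n) =
      Submodule.map ((Polynomial.monomial n : A →ₗ[A] Polynomial A).restrictScalars R) (⨆ (m : ℕ) (_ : n ≤ m), 𝒜 m))
    [CommRing C] [Algebra R C] (𝒞 : ℕ → Submodule R C) [GradedAlgebra 𝒞]
    (π : ℬ →+*ᵍ 𝒞) (hπ : Function.Surjective π)
    (hker : RingHom.ker π.toRingHom =
      Ideal.span (⇑φ ⁻¹' (⇑(Polynomial.C : A →+* Polynomial A) '' ((HomogeneousIdeal.irrelevant 𝒜).toIdeal : Set A))))
    (ρ : 𝒞 →+*ᵍ 𝒜) (hρ : ∀ (n : ℕ) (b : B), b ∈ ℬ n → ρ (π b) = GradedRing.proj 𝒜 n ((φ b).coeff n))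
    (hgen : ∃ n₀ : ℕ, ∀ n : ℕ, n₀ ≤ n → 𝒜 (n + 1) = 𝒜 1 * 𝒜 n)
    {i : ℕ} (hi : 0 < i) (s : C) (hs : s ∈ 𝒞 i) :
    Function.Bijective (HomogeneousLocalization.Away.map ρ s) := by
  obtain ⟨n₀, hgen⟩ := hgen
  constructor
  · rw [injective_iff_map_eq_zero]
    intro x hx
    obtain ⟨k, c, hc, rfl⟩ := HomogeneousLocalization.Away.mk_surjective 𝒞 hs x
    rw [HomogeneousLocalization.Away.map_mk ρ s hs k c hc] at hx
    have hv := congrArg HomogeneousLocalization.val hx
    rw [HomogeneousLocalization.Away.val_mk, HomogeneousLocalization.val_zero,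
      Localization.mk_eq_mk', IsLocalization.mk'_eq_zero_iff] at hv
    obtain ⟨⟨t, j, rfl⟩, ht⟩ := hv
    simp only at ht
    -- ht : (ρ s)^j * ρ c = 0
    have hmem : s ^ (j + n₀) * c ∈ 𝒞 ((j + n₀) • i + k • i) :=
      SetLike.mul_mem_graded (SetLike.pow_mem_graded (j + n₀) hs) hc
    have hzero : ρ (s ^ (j + n₀) * c) = 0 := by
      rw [map_mul, map_pow, pow_add, mul_right_comm, ht, zero_mul]
    have hle : n₀ ≤ (j + n₀) • i + k • i := by
      simp only [smul_eq_mul]
      nlinarith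
    have h0 : s ^ (j + n₀) * c = 0 :=
      Groth.Agent.Lib.Helper6.SNat.rho_inj_deg 𝒜 ℬ φ hdeg 𝒞 π ρ hker hφ hπ hρ hgen hle _ hmem hzero
    apply HomogeneousLocalization.val_injective
    rw [HomogeneousLocalization.Away.val_mk, HomogeneousLocalization.val_zero,
      Localization.mk_eq_mk', IsLocalization.mk'_eq_zero_iff]
    exact ⟨⟨s ^ (j + n₀), j + n₀, rfl⟩, h0⟩
  · intro y
    obtain ⟨k, a, ha, rfl⟩ := HomogeneousLocalization.Away.mk_surjective 𝒜 (Graded.map_mem ρ hs) y
    obtain ⟨c, hc, rfl⟩ :=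
      Groth.Agent.Lib.Helper6.SNat.rho_surj_deg 𝒜 ℬ φ hdeg 𝒞 π ρ hρ (k • i) a ha
    exact ⟨HomogeneousLocalization.Away.mk 𝒞 hs k c hc,
      HomogeneousLocalization.Away.map_mk ρ s hs k c hc⟩



/-- Let S be a positively graded ring (an ℕ-graded R-algebra), S♮ the graded ring with S♮_n = S_[n] =
⊕_{m ≥ n} S_m (presented as a graded ring S' with an injective algebra homomorphism φ : S' → S[X]
carrying S'_n onto S_[n]·X^n), and T = S♮ ⊗_S S_0 = ⊕_n S_[n]/S_+S_[n] (presented as a graded ring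
with a surjective graded homomorphism π : S' → T whose kernel is the ideal generated by the elements
of S' corresponding to the constants in S_+); let ρ : T → S be the surjective graded homomorphism
sending the class of a ∈ S_[n] (in degree n) to the degree-n component of a, and Proj S → Proj T the
morphism it induces (a closed immersion, ρ being surjective). If there is n₀ such that S_{n+1} = S_1
S_n for every n ≥ n₀ (products of graded pieces as submodules), then the morphism Proj S → Proj T is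
an isomorphism. (The published statement also asserts the converse when S is Noetherian; that
converse is not correct as published: for S = k[y] with y of degree 2 the morphism is an isomorphism
of one-point schemes Spec k while S_{2m} ≠ S_1 S_{2m−1} = 0 for all m, so only the direct
implication is stated here.) -/
theorem result {R A B C : Type u} [CommRing R] [CommRing A] [Algebra R A]
    (𝒜 : ℕ → Submodule R A) [GradedAlgebra 𝒜] [CommRing B] [Algebra R B] (ℬ : ℕ → Submodule R B) [GradedAlgebra ℬ]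
    (φ : B →ₐ[R] Polynomial A) (hφ : Function.Injective φ)
    (hdeg : ∀ n : ℕ, Submodule.map φ.toLinearMap (ℬ n) =
      Submodule.map ((Polynomial.monomial n : A →ₗ[A] Polynomial A).restrictScalars R) (⨆ (m : ℕ) (_ : n ≤ m), 𝒜 m))
    [CommRing C] [Algebra R C] (𝒞 : ℕ → Submodule R C) [GradedAlgebra 𝒞]
    (π : ℬ →+*ᵍ 𝒞) (hπ : Function.Surjective π)
    (hker : RingHom.ker π.toRingHom =
      Ideal.span (⇑φ ⁻¹' (⇑(Polynomial.C : A →+* Polynomial A) '' ((HomogeneousIdeal.irrelevant 𝒜).toIdeal : Set A))))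
    (ρ : 𝒞 →+*ᵍ 𝒜) (hρ : ∀ (n : ℕ) (b : B), b ∈ ℬ n → ρ (π b) = GradedRing.proj 𝒜 n ((φ b).coeff n))
    (hirr : HomogeneousIdeal.irrelevant 𝒜 ≤ (HomogeneousIdeal.irrelevant 𝒞).map ρ)
    (hgen : ∃ n₀ : ℕ, ∀ n : ℕ, n₀ ≤ n → 𝒜 (n + 1) = 𝒜 1 * 𝒜 n) :
    IsIso (Proj.map ρ hirr) := by
  have hbij : ∀ (i : ℕ) (_ : 0 < i) (s : C) (_ : s ∈ 𝒞 i),
      Function.Bijective (HomogeneousLocalization.Away.map ρ s) := fun i hi s hs =>
    away_map_bijective 𝒜 ℬ φ hφ hdeg 𝒞 π hπ hker ρ hρ hgen hi s hs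
  change MorphismProperty.isomorphisms Scheme (Proj.map ρ hirr)
  refine IsZariskiLocalAtTarget.of_openCover (P := MorphismProperty.isomorphisms Scheme)
    (Proj.affineOpenCover 𝒞).openCover ?_
  intro s
  have hg : IsIso (Spec.map (CommRingCat.ofHom (HomogeneousLocalization.Away.map ρ (s.2 : C)))) :=
    isIso_SpecMap_iff.mpr (hbij s.1 s.1.2 (s.2 : C) s.2.2)
  have sq := (IsOpenImmersion.isPullback
    (Spec.map (CommRingCat.ofHom (HomogeneousLocalization.Away.map ρ (s.2 : C))))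
    (Proj.awayι 𝒜 (ρ (s.2 : C)) (ρ.2 s.2.2) s.1.2) (Proj.awayι 𝒞 (s.2 : C) s.2.2 s.1.2)
    (Proj.map ρ hirr)
    (Proj.awayι_comp_map ρ hirr s.1.2 (s.2 : C) s.2.2)
    (by rw [Proj.opensRange_awayι, Proj.opensRange_awayι, Proj.map_preimage_basicOpen])).flip
  have heq : Limits.pullback.snd (Proj.map ρ hirr) (Proj.awayι 𝒞 (s.2 : C) s.2.2 s.1.2) =
      sq.isoPullback.inv ≫
        Spec.map (CommRingCat.ofHom (HomogeneousLocalization.Away.map ρ (s.2 : C))) := by
    rw [Iso.eq_inv_comp]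
    exact sq.isoPullback_hom_snd
  have hiso : IsIso (Limits.pullback.snd (Proj.map ρ hirr)
      (Proj.awayι 𝒞 (s.2 : C) s.2.2 s.1.2)) := by
    rw [heq]
    infer_instance
  exact (MorphismProperty.isomorphisms.iff _).mpr hiso


end Groth.Agent.S8311
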