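import Groth.Statements.S8312
import Mathlib

set_option autoImplicit false
universe u
open scoped HomogeneousIdeal
open EGA2

namespace Groth.Agent.S8312


open DirectSum Polynomial

section
variable {R A B : Type u} [CommRing R] [CommRing A] [Algebra R A]
    (𝒜 : ℕ → Submodule R A) [GradedAlgebra 𝒜] [CommRing B] [Algebra R B] (ℬ : ℕ → Submodule R B) [GradedAlgebra ℬ]
    (φ : B →ₐ[R] Polynomial A) (hφ : Function.Injective φ)
    (hdeg : ∀ n : ℕ, Submodule.map φ.toLinearMap (ℬ n) =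
      Submodule.map ((Polynomial.monomial n : A →ₗ[A] Polynomial A).restrictScalars R) (⨆ (m : ℕ) (_ : n ≤ m), 𝒜 m))
    {ι : Type u} (d : ι → ℕ) (hd : ∀ a, 0 < d a) (f : ι → A) (hf : ∀ a, f a ∈ 𝒜 (d a))
    (hrad : ∀ g ∈ (HomogeneousIdeal.irrelevant 𝒜).toIdeal, ∃ n : ℕ, 0 < n ∧ g ^ n ∈ Ideal.span (Set.range f))
    (fn : ι → B) (hfn : ∀ a, φ (fn a) = Polynomial.monomial (d a) (f a))

include hdeg in
theorem lift_exists (i j : ℕ) (hij : i ≤ j) (e : A) (he : e ∈ 𝒜 j) :
    ∃ b : B, φ b = Polynomial.monomial i e := by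
  have : Polynomial.monomial i e ∈ Submodule.map φ.toLinearMap (ℬ i) := by
    rw [hdeg i]
    exact ⟨e, Submodule.mem_iSup_of_mem j (Submodule.mem_iSup_of_mem hij he), rfl⟩
  obtain ⟨b, -, hb⟩ := this
  exact ⟨b, hb⟩

include hφ hdeg hf hrad hfn in
theorem base (n m : ℕ) (hn : 0 < n) (hnm : n ≤ m) (s : A) (hs : s ∈ 𝒜 m) (h : B)
    (hφh : φ h = Polynomial.monomial n s) :
    ∃ E : ℕ, 0 < E ∧ h ^ E ∈ Ideal.span (Set.range fn) := by
  classical
  have hm : m ≠ 0 := by omega
  have hs_irr : s ∈ (HomogeneousIdeal.irrelevant 𝒜).toIdeal := by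
    rw [HomogeneousIdeal.mem_iff, HomogeneousIdeal.mem_irrelevant_iff]
    rw [GradedRing.proj_apply, DirectSum.decompose_of_mem_ne 𝒜 hs hm]
  obtain ⟨N, hN, hsN⟩ := hrad s hs_irr
  obtain ⟨c, hc⟩ := (Finsupp.mem_span_range_iff_exists_finsupp (R := A)).mp hsN
  -- exponent
  set D := c.support.sup d with hD
  set E := N + D with hE
  have hEpos : 0 < E := by omega
  refine ⟨E, hEpos, ?_⟩
  -- s^E = Σ (s^D * c a) * f a
  have hsE : s ^ E = ∑ a ∈ c.support, (s ^ D * c a) * f a := by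
    rw [hE, pow_add, ← hc, Finsupp.sum, Finset.sum_mul]
    refine Finset.sum_congr rfl fun a _ => ?_
    simp only [smul_eq_mul]; ring
  have hsE_mem : s ^ E ∈ 𝒜 (E • m) := SetLike.pow_mem_graded E hs
  -- homogeneous component
  have hda : ∀ a ∈ c.support, d a ≤ E • m := by
    intro a ha
    have h1 : d a ≤ D := Finset.le_sup (f := d) ha
    have h2 : E ≤ E • m := by
      rw [smul_eq_mul]; exact Nat.le_mul_of_pos_right E (by omega)
    omega
  have hsE' : s ^ E = ∑ a ∈ c.support,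
      ((DirectSum.decompose 𝒜 (s ^ D * c a) (E • m - d a) : A)) * f a := by
    conv_lhs => rw [← DirectSum.decompose_of_mem_same 𝒜 hsE_mem]
    rw [hsE, DirectSum.decompose_sum, DFinsupp.finsetSum_apply, AddSubmonoidClass.coe_finsetSum]
    refine Finset.sum_congr rfl fun a ha => ?_
    rw [DirectSum.coe_decompose_mul_of_right_mem_of_le 𝒜 (hf a) (hda a ha)]
  -- lift coefficients
  have hdn : ∀ a ∈ c.support, d a ≤ E * n := by
    intro a ha
    have h1 : d a ≤ D := Finset.le_sup (f := d) ha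
    have h2 : E ≤ E * n := Nat.le_mul_of_pos_right E hn
    omega
  have hlift : ∀ a : ι, ∃ b : B, a ∈ c.support →
      φ b = Polynomial.monomial (E * n - d a) ((DirectSum.decompose 𝒜 (s ^ D * c a) (E • m - d a) : A)) := by
    intro a
    by_cases ha : a ∈ c.support
    · obtain ⟨b, hb⟩ := lift_exists 𝒜 ℬ φ hdeg (E * n - d a) (E • m - d a) (by
        rw [smul_eq_mul]
        have : E * n ≤ E * m := Nat.mul_le_mul_left E hnm
        omega) _ (SetLike.coe_mem (DirectSum.decompose 𝒜 (s ^ D * c a) (E • m - d a)))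
      exact ⟨b, fun _ => hb⟩
    · exact ⟨0, fun h => absurd h ha⟩
  choose b hb using hlift
  have hfinal : h ^ E = ∑ a ∈ c.support, b a * fn a := by
    apply hφ
    rw [map_pow, hφh, Polynomial.monomial_pow, map_sum]
    rw [hsE', map_sum]
    refine Finset.sum_congr rfl fun a ha => ?_
    rw [show φ (b a * fn a) = φ (b a) * φ (fn a) from map_mul φ _ _, hb a ha, hfn a,
      Polynomial.monomial_mul_monomial]
    have := hdn a ha
    have e : n * E = E * n - d a + d a := by rw [mul_comm n E]; omega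
    rw [e]
  rw [hfinal]
  exact Ideal.sum_mem _ fun a _ => Ideal.mul_mem_left _ _ (Ideal.subset_span ⟨a, rfl⟩)

include hφ hdeg hf hrad hfn in
theorem main : ∀ g ∈ (HomogeneousIdeal.irrelevant ℬ).toIdeal,
    ∃ n : ℕ, 0 < n ∧ g ^ n ∈ Ideal.span (Set.range fn) := by
  classical
  set I := Ideal.span (Set.range fn) with hI
  have rad_iff : ∀ g : B, g ∈ I.radical → ∃ n : ℕ, 0 < n ∧ g ^ n ∈ I := by
    rintro g ⟨n, hn⟩
    rcases Nat.eq_zero_or_pos n with rfl | hpos
    · refine ⟨1, one_pos, ?_⟩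
      rw [pow_zero] at hn
      rw [(Ideal.eq_top_iff_one I).mpr hn]; trivial
    · exact ⟨n, hpos, hn⟩
  have key : ∀ n : ℕ, 0 < n → ∀ h ∈ ℬ n, h ∈ I.radical := by
    intro n hn h hh
    have h1 : φ h ∈ Submodule.map φ.toLinearMap (ℬ n) := ⟨h, hh, rfl⟩
    rw [hdeg n] at h1
    obtain ⟨s, hs, hsφ⟩ := h1
    have liftS : ∀ e ∈ (⨆ (m : ℕ) (_ : n ≤ m), 𝒜 m), ∃ b : B, φ b = Polynomial.monomial n e := by
      intro e he
      have : Polynomial.monomial n e ∈ Submodule.map φ.toLinearMap (ℬ n) := by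
        rw [hdeg n]; exact ⟨e, he, rfl⟩
      obtain ⟨b, -, hb⟩ := this
      exact ⟨b, hb⟩
    have hsφ' : φ h = Polynomial.monomial n s := hsφ.symm
    clear hsφ hh
    revert h
    have hs' : s ∈ ⨆ m : {m : ℕ // n ≤ m}, 𝒜 m.1 := by rwa [iSup_subtype'] at hs
    have hle : (⨆ m : {m : ℕ // n ≤ m}, 𝒜 m.1) ≤ ⨆ (m : ℕ) (_ : n ≤ m), 𝒜 m := by
      rw [iSup_subtype']
    refine Submodule.iSup_induction' (p := fun m : {m : ℕ // n ≤ m} => 𝒜 m.1)
      (motive := fun s _ => ∀ h : B, φ h = Polynomial.monomial n s → h ∈ I.radical) ?_ ?_ ?_ hs'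
    · intro m x hx h hφh
      obtain ⟨E, -, hE⟩ := base 𝒜 ℬ φ hφ hdeg d f hf hrad fn hfn n m.1 hn m.2 x hx h hφh
      exact ⟨E, hE⟩
    · intro h hφh
      have : h = 0 := hφ (by rw [hφh, map_zero, map_zero])
      rw [this]; exact zero_mem _
    · intro x y hx hy Cx Cy h hφh
      obtain ⟨bx, hbx⟩ := liftS x (hle hx)
      obtain ⟨by', hby⟩ := liftS y (hle hy)
      have : h = bx + by' := hφ (by rw [hφh, map_add, map_add, hbx, hby])
      rw [this]
      exact add_mem (Cx bx hbx) (Cy by' hby)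
  intro g hg
  apply rad_iff
  rw [← DirectSum.sum_support_decompose ℬ g]
  refine Ideal.sum_mem _ fun i _ => ?_
  rcases Nat.eq_zero_or_pos i with rfl | hi
  · have : (DirectSum.decompose ℬ g 0 : B) = 0 := by
      rw [HomogeneousIdeal.mem_iff, HomogeneousIdeal.mem_irrelevant_iff, GradedRing.proj_apply] at hg
      exact hg
    rw [this]; exact zero_mem _
  · exact key i hi _ (SetLike.coe_mem _)

end


/-- Let S be a positively graded ring (an ℕ-graded R-algebra) and S♮ the graded ring with S♮_n = S_[n] =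
⊕_{m ≥ n} S_m, presented as a graded ring S' with an injective algebra homomorphism φ : S' → S[X]
carrying S'_n onto S_[n]·X^n; for a homogeneous f ∈ S_d write f♮ for the element of S' with φ(f♮) =
f·X^d (f placed in degree d of S♮). If (f_α) is a family of homogeneous elements of S of positive
degrees such that every element of the irrelevant ideal S_+ has a positive power in the ideal
generated by the f_α (that is, S_+ is the radical in S_+ of that ideal), then every element of the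
irrelevant ideal S'_+ has a positive power in the ideal of S' generated by the f_α♮. -/
theorem result {R A B : Type u} [CommRing R] [CommRing A] [Algebra R A]
    (𝒜 : ℕ → Submodule R A) [GradedAlgebra 𝒜] [CommRing B] [Algebra R B] (ℬ : ℕ → Submodule R B) [GradedAlgebra ℬ]
    (φ : B →ₐ[R] Polynomial A) (hφ : Function.Injective φ)
    (hdeg : ∀ n : ℕ, Submodule.map φ.toLinearMap (ℬ n) =
      Submodule.map ((Polynomial.monomial n : A →ₗ[A] Polynomial A).restrictScalars R) (⨆ (m : ℕ) (_ : n ≤ m), 𝒜 m))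
    {ι : Type u} (d : ι → ℕ) (hd : ∀ a, 0 < d a) (f : ι → A) (hf : ∀ a, f a ∈ 𝒜 (d a))
    (hrad : ∀ g ∈ (HomogeneousIdeal.irrelevant 𝒜).toIdeal, ∃ n : ℕ, 0 < n ∧ g ^ n ∈ Ideal.span (Set.range f))
    (fn : ι → B) (hfn : ∀ a, φ (fn a) = Polynomial.monomial (d a) (f a)) :
    ∀ g ∈ (HomogeneousIdeal.irrelevant ℬ).toIdeal, ∃ n : ℕ, 0 < n ∧ g ^ n ∈ Ideal.span (Set.range fn) := by
  exact main 𝒜 ℬ φ hφ hdeg d f hf hrad fn hfn

end Groth.Agent.S8312
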