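import Groth.Statements.S8324
import Groth.Agent.Lib.Helper28.GMTildeTN
-- import your own Groth.Agent.* helpers here

set_option autoImplicit false
universe u
open CategoryTheory CategoryTheory.Limits AlgebraicGeometry Opposite TopologicalSpace
open scoped HomogeneousIdeal
noncomputable section
open EGA2

namespace Groth.Agent.S8324

/-- If the quasi-coherent graded 𝒮-module ℳ satisfies (TN) — its pieces of all large degrees vanish —
then the module (ℳ(n))~ on P = Proj(𝒮) (given through its chartwise identifications) is zero, for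
every integer n. -/
theorem result {Y P : Scheme.{u}} (𝒮 : RelProj.QCGrAlg Y) (p : P ⟶ Y)
    (chart : ∀ (U : Y.Opens) (hU : IsAffineOpen U), (((p ⁻¹ᵁ U : P.Opens) : Scheme.{u}) ≅ Proj (𝒮.deg U hU)))
    (hP : RelProj.IsRelProj 𝒮 p chart) (ℳ : RelProj.GrModule 𝒮)
    (hℳ : Coh.IsQCoh ((AMod.toOS 𝒮.toQCAlg).obj ℳ.mod)) (hTN : ℳ.IsTN) (n : ℤ) (F : P.Modules)
    (lam : ∀ (U : Y.Opens) (hU : IsAffineOpen U),
      F ⟶ (Scheme.Modules.pushforward (RelProj.emb p chart U hU)).obj (GrMod.tilde (𝒮.deg U hU) (ℳ.deg U hU) n))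
    (hF : RelProj.IsRelTilde 𝒮 p chart ℳ n F lam) : IsZero F := by
  obtain ⟨n₀, hn₀⟩ := hTN
  have hzero : ∀ (U : Y.Opens) (hU : IsAffineOpen U) (W : P.Opens) (_ : W ≤ p ⁻¹ᵁ U) (s : Γ(F, W)),
      s = 0 := by
    intro U hU W hW s
    apply (hF.bijective U hU W hW).1
    exact Groth.Agent.Lib.helper28.GMTildeTN.section_eq_zero (𝒮.deg U hU) (ℳ.deg U hU)
      ⟨n₀, hn₀ U hU⟩ n _ _
  have key : ∀ (W : P.Opens) (s : Γ(F, W)), s = 0 := by
    intro W s
    refine TopCat.Presheaf.IsSheaf.section_ext F.isSheaf (U := op W) (fun x hx => ?_)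
    obtain ⟨U, hU, hxU, -⟩ := (Opens.isBasis_iff_nbhd.mp Y.isBasis_affineOpens)
      (show p.base x ∈ (⊤ : Y.Opens) from trivial)
    refine ⟨W ⊓ p ⁻¹ᵁ U, inf_le_left, ⟨hx, hxU⟩, ?_⟩
    exact (hzero U hU _ inf_le_right _).trans (hzero U hU _ inf_le_right _).symm
  rw [IsZero.iff_id_eq_zero]
  refine Scheme.Modules.hom_ext _ _ (fun W => ?_)
  ext s
  rw [key W ((ConcreteCategory.hom ((𝟙 F : F ⟶ F).app W)) s),
    key W ((ConcreteCategory.hom ((0 : F ⟶ F).app W)) s)]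

end Groth.Agent.S8324
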