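import Groth.Statements.S8325
import Groth.Agent.S8322
import Groth.Agent.Lib.Helper28.GMTildeFT
import Groth.Agent.Lib.Helper28.GTwistAll
import Groth.Agent.Lib.Helper16.Satur2
-- import your own Groth.Agent.* helpers here

set_option autoImplicit false
universe u
open CategoryTheory CategoryTheory.Limits AlgebraicGeometry Opposite TopologicalSpace
open scoped HomogeneousIdeal
noncomputable section
open EGA2

namespace Groth.Agent.S8325

/-- Let 𝒮 be a quasi-coherent positively graded O_Y-algebra generated by 𝒮_1, with 𝒮_1 of finite type,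
and ℳ a quasi-coherent graded 𝒮-module satisfying (TF). Then the module ℳ~ on P = Proj(𝒮) (given
through its chartwise identifications) is of finite type. -/
theorem result {Y P : Scheme.{u}} (𝒮 : RelProj.QCGrAlg Y) (p : P ⟶ Y)
    (chart : ∀ (U : Y.Opens) (hU : IsAffineOpen U), (((p ⁻¹ᵁ U : P.Opens) : Scheme.{u}) ≅ Proj (𝒮.deg U hU)))
    (hP : RelProj.IsRelProj 𝒮 p chart) (hgen : 𝒮.IsGenDegOne) (hft : 𝒮.IsFTDeg 1)
    (ℳ : RelProj.GrModule 𝒮) (hℳ : Coh.IsQCoh ((AMod.toOS 𝒮.toQCAlg).obj ℳ.mod)) (hTF : ℳ.IsTF) (F : P.Modules)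
    (lam : ∀ (U : Y.Opens) (hU : IsAffineOpen U),
      F ⟶ (Scheme.Modules.pushforward (RelProj.emb p chart U hU)).obj (GrMod.tilde (𝒮.deg U hU) (ℳ.deg U hU) 0))
    (hF : RelProj.IsRelTilde 𝒮 p chart ℳ 0 F lam) : CohB1.IsFT F := by
  have hq : F.IsQuasicoherent := Groth.Agent.S8322.result 𝒮 p chart hP ℳ hℳ 0 F lam hF
  obtain ⟨n₀, hn₀⟩ := hTF
  refine Groth.Agent.Lib.helper16.CohFinite.isFiniteType_of_finite_sections F
    (ι := Σ i : {U : Y.Opens // IsAffineOpen U},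
      {g : 𝒮.presheaf.obj (op i.1) // g ∈ 𝒮.deg i.1 i.2 1})
    (fun k => (RelProj.emb p chart k.1.1 k.1.2) ''ᵁ
      (Proj.basicOpen (𝒮.deg k.1.1 k.1.2) k.2.1)) ?_ ?_ ?_
  · intro k
    exact (Proj.isAffineOpen_basicOpen (𝒮.deg k.1.1 k.1.2) k.2.1 k.2.2
      Nat.one_pos).image_of_isOpenImmersion _
  · rw [eq_top_iff]
    intro x _
    obtain ⟨i, z, rfl⟩ := Groth.Agent.Lib.helper28.RelTwistChart.exists_mem_range_emb p chart x
    obtain ⟨g, hg, hgz⟩ := Groth.Agent.Lib.helper28.GTwistAll.hcov_of_closure (𝒮.deg i.1 i.2)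
      (hgen i.1 i.2) z
    exact Opens.mem_iSup.mpr ⟨⟨i, ⟨g, hg⟩⟩,
      ⟨z, (ProjectiveSpectrum.mem_basicOpen (𝒮.deg i.1 i.2) g z).mpr hgz, rfl⟩⟩
  · intro k
    refine Groth.Agent.Lib.helper16.Satur.finite_of_finite_restrict
      (RelProj.emb p chart k.1.1 k.1.2) F _ ?_
    have hfin := Groth.Agent.Lib.helper28.GMTildeFT.finite_sections_basicOpen
      (𝒮.deg k.1.1 k.1.2) (ℳ.deg k.1.1 k.1.2) ⟨n₀, hn₀ k.1.1 k.1.2⟩ k.2.2
    let e := Groth.Agent.Lib.helper28.RelTwistChart.adjIso (RelProj.emb p chart k.1.1 k.1.2)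
      (lam k.1.1 k.1.2) (fun V => hF.bijective k.1.1 k.1.2 _
        (Groth.Agent.Lib.helper28.RelTwistChart.image_emb_le p chart k.1.1 k.1.2 V))
    refine Module.Finite.of_surjective
      (Groth.Agent.Lib.helper16.Satur.secLin e.inv (Proj.basicOpen (𝒮.deg k.1.1 k.1.2) k.2.1)) ?_
    intro y
    refine ⟨e.hom.app _ y, ?_⟩
    change (e.hom ≫ e.inv).app _ y = y
    rw [e.hom_inv_id]
    rfl

end Groth.Agent.S8325
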