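import Groth.Statements.S8342
import Groth.Agent.Lib.Helper28.RelTwistGen
import Groth.Agent.S8285
-- import your own Groth.Agent.* helpers here

set_option autoImplicit false
universe u
open CategoryTheory CategoryTheory.Limits AlgebraicGeometry Opposite TopologicalSpace
open scoped HomogeneousIdeal
noncomputable section
open EGA2

namespace Groth.Agent.S8342

/-- Let 𝒮 be a quasi-coherent positively graded O_Y-algebra generated by 𝒮_1, P = Proj(𝒮), and f a
global section of 𝒮 of degree d > 0. Then the open X_f (chartwise D_+(f|U)) is the set of points of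
P where the global section α_d(f) of the invertible module O_P(d) does not vanish — here: X_f equals
the largest open over which the module map O_P → O_P(d) defined by α_d(f) is an isomorphism; O_P(d)
is given through its chartwise identifications and α_d(f) is pinned as the section reading f|U / 1
on every chart. -/
theorem result {Y P : Scheme.{u}} (𝒮 : RelProj.QCGrAlg Y) (p : P ⟶ Y)
    (chart : ∀ (U : Y.Opens) (hU : IsAffineOpen U), (((p ⁻¹ᵁ U : P.Opens) : Scheme.{u}) ≅ Proj (𝒮.deg U hU)))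
    (hP : RelProj.IsRelProj 𝒮 p chart) (hgen : 𝒮.IsGenDegOne) {d : ℕ} (hd : 0 < d)
    (f : 𝒮.presheaf.obj (op ⊤))
    (hf : ∀ (U : Y.Opens) (hU : IsAffineOpen U), (𝒮.presheaf.map (homOfLE le_top).op).hom f ∈ 𝒮.deg U hU d)
    (Xf : P.Opens)
    (hXf : ∀ (U : Y.Opens) (hU : IsAffineOpen U),
      Xf ⊓ p ⁻¹ᵁ U =
        (p ⁻¹ᵁ U).ι ''ᵁ ((chart U hU).hom ⁻¹ᵁ
          Proj.basicOpen (𝒮.deg U hU) ((𝒮.presheaf.map (homOfLE le_top).op).hom f)))
    (L : P.Modules)
    (lam : ∀ (U : Y.Opens) (hU : IsAffineOpen U),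
      L ⟶ (Scheme.Modules.pushforward (RelProj.emb p chart U hU)).obj (GrTwist.twist (𝒮.deg U hU) (d : ℤ)))
    (hL : RelProj.IsRelTwist 𝒮 p chart (d : ℤ) L lam) (s : Coh.structureModule P ⟶ L)
    (hs : ∀ (U : Y.Opens) (hU : IsAffineOpen U) (y : Proj (𝒮.deg U hU)),
      GrTwist.val (V := RelProj.emb p chart U hU ⁻¹ᵁ ⊤)
        ((lam U hU).app ⊤ (s.app ⊤ (show Γ(Coh.structureModule P, ⊤) from (1 : Γ(P, ⊤))))) ⟨y, Set.mem_univ _⟩ =
        Localization.mk ((𝒮.presheaf.map (homOfLE le_top).op).hom f) 1) :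
    Xf = CohB1.genLocus L s := by
  have hq : L.IsQuasicoherent :=
    Groth.Agent.S8285.result 𝒮 p chart hP (d : ℤ) L lam hL
  have hσ : ∀ (U : Y.Opens) (hU : IsAffineOpen U),
      Groth.Agent.Lib.helper28.RelTwistSec.IsF lam f 1 0 U hU ⊤
        (Groth.Agent.Lib.helper28.LocalGen.secOf L s) := by
    intro U hU z hz
    rw [pow_zero, pow_one, map_one, mul_one]
    exact (hs U hU z).trans (Localization.mk_one_eq_algebraMap _)
  have hdeg : ((1 * d : ℕ) : ℤ) = ((0 * d : ℕ) : ℤ) + (d : ℤ) := by simp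
  apply le_antisymm
  · refine (Groth.Agent.Lib.helper28.RelTwistSec.le_iSup_inf p Xf).trans (iSup_le fun i => ?_)
    refine Groth.Agent.Lib.helper28.LocalGen.le_genLocus_of_bijective L s _
      (Groth.Agent.Lib.helper28.RelTwistSec.isAffineOpen_inf f hd i.1 i.2 (hf i.1 i.2) Xf
        (hXf i.1 i.2)) ?_
    exact Groth.Agent.Lib.helper28.RelTwistSec.bijective_smul_of_isF lam hL f hd 1 0 hdeg
      i.1 i.2 (hf i.1 i.2) Xf (hXf i.1 i.2) _ rfl _
      (Groth.Agent.Lib.helper28.RelTwistSec.isF_res lam f 1 0 i.1 i.2 le_top _ (hσ i.1 i.2))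
  · intro x hx
    obtain ⟨i, z, rfl⟩ := Groth.Agent.Lib.helper28.RelTwistChart.exists_mem_range_emb p chart x
    exact (Groth.Agent.Lib.helper28.RelTwistSec.emb_mem_iff f Xf i.1 i.2 (hXf i.1 i.2) z).mpr
      (Groth.Agent.Lib.helper28.RelTwistGen.not_mem_of_mem_genLocus lam hL f i.1 i.2
        (hgen i.1 i.2) s (hσ i.1 i.2) z hx)

end Groth.Agent.S8342
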