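import Groth.Statements.S8345
import Mathlib
-- import your own Groth.Agent.* helpers here

set_option autoImplicit false
universe u
open ConstrTop

namespace Groth.Agent.S8345


open Topology TopologicalSpace in
theorem isConstructible_of_isOpen {X : Type u} [TopologicalSpace X] [NoetherianSpace X]
    {U : Set X} (hU : IsOpen U) : Topology.IsConstructible U :=
  IsRetrocompact.isConstructible hU (fun _ _ _ => NoetherianSpace.isCompact _)

open Topology TopologicalSpace in
theorem main {X : Type u} [TopologicalSpace X]
    [NoetherianSpace X] (s : Set X) :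
    Topology.IsConstructible s ↔
      ∃ (n : ℕ) (Z : Fin n → Set X), (∀ i, IsLocallyClosed (Z i)) ∧ s = ⋃ i, Z i := by
  constructor
  · intro hs
    suffices h : ∃ S : Set (Set X), S.Finite ∧ (∀ z ∈ S, IsLocallyClosed z) ∧ s = ⋃₀ S by
      obtain ⟨S, hSf, hSl, rfl⟩ := h
      obtain ⟨n, f, hf⟩ := hSf.fin_embedding
      refine ⟨n, f, fun i => hSl _ (hf ▸ Set.mem_range_self i), ?_⟩
      rw [← hf, Set.sUnion_range]
    induction s, hs using BooleanSubalgebra.closure_sdiff_sup_induction with
    | isSublattice =>
      exact ⟨fun s hs t ht ↦ ⟨hs.1.union ht.1, hs.2.union ht.2⟩,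
        fun s hs t ht ↦ ⟨hs.1.inter ht.1, hs.2.inter_isOpen ht.2 ht.1⟩⟩
    | bot_mem => exact ⟨isOpen_empty, .empty⟩
    | top_mem => exact ⟨isOpen_univ, .univ⟩
    | sdiff U hU V hV =>
      refine ⟨{U \ V}, Set.finite_singleton _, ?_, by simp⟩
      intro z hz
      rw [Set.mem_singleton_iff.1 hz, Set.sdiff_eq]
      exact hU.1.isLocallyClosed.inter hV.1.isClosed_compl.isLocallyClosed
    | sup s _ t _ hs' ht' =>
      obtain ⟨S, hSf, hSl, rfl⟩ := hs'
      obtain ⟨T, hTf, hTl, rfl⟩ := ht'
      refine ⟨S ∪ T, hSf.union hTf, ?_, ?_⟩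
      · intro z hz
        rcases hz with hz | hz
        · exact hSl z hz
        · exact hTl z hz
      · rw [Set.sUnion_union]
        rfl
  · rintro ⟨n, Z, hZ, rfl⟩
    apply Topology.IsConstructible.iUnion
    intro i
    obtain ⟨U, C, hU, hC, h⟩ := hZ i
    rw [h]
    refine (isConstructible_of_isOpen hU).inter ?_
    rw [← Topology.isConstructible_compl]
    exact isConstructible_of_isOpen hC.isOpen_compl


open TopologicalSpace in
/-- Suppose X is a topological space that is Noetherian. Then a subset s of X is constructible exactly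
when s can be written as the union of finitely many locally closed subsets of X. -/
theorem result {X : Type u} [TopologicalSpace X]
    [NoetherianSpace X] (s : Set X) :
    Topology.IsConstructible s ↔
      ∃ (n : ℕ) (Z : Fin n → Set X), (∀ i, IsLocallyClosed (Z i)) ∧ s = ⋃ i, Z i := by
  exact main s

end Groth.Agent.S8345
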