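import Groth.Statements.S8346
import Mathlib
import Groth.Agent.S8344
-- import your own Groth.Agent.* helpers here

set_option autoImplicit false
universe u
open ConstrTop

namespace Groth.Agent.S8346


open Topology TopologicalSpace Set in
theorem main {X : Type u} [TopologicalSpace X]
    {B : Set (Set X)} (hB : IsTopologicalBasis B) (hBr : ∀ U ∈ B, IsRetrocompact U) {T : Set X}
    (hT : Topology.IsLocallyConstructible T) : IsRetrocompact T := by
  intro W hWc hWo
  have key : ∀ x ∈ W, ∃ V, IsOpen V ∧ x ∈ V ∧ V ⊆ W ∧ IsCompact (V ∩ T) := by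
    intro x hxW
    obtain ⟨U, hxU, hU, hUs⟩ := hT x
    have hUW : U ∩ W ∈ nhds x := Filter.inter_mem hxU (hWo.mem_nhds hxW)
    obtain ⟨V, hVB, hxV, hVUW⟩ := hB.mem_nhds_iff.1 hUW
    have hV₁ : IsOpen V := hB.isOpen hVB
    have hVU : V ⊆ U := hVUW.trans inter_subset_left
    have hVW : V ⊆ W := hVUW.trans inter_subset_right
    have h1 : IsConstructible ((Subtype.val : V → X) ⁻¹' T) :=
      (hUs.preimage_of_isOpenEmbedding (IsOpenEmbedding.id.restrict hVU hV₁) :)
    have h2 : IsConstructible (V ∩ T) := by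
      have := h1.image_of_isOpenEmbedding hV₁.isOpenEmbedding_subtypeVal
        (by simpa using hBr V hVB)
      rwa [Subtype.image_preimage_coe] at this
    have h3 : IsRetrocompact (V ∩ T) := Groth.Agent.S8344.result h2
    have h4 := h3 hWc hWo
    have h5 : V ∩ T ∩ W = V ∩ T := by
      rw [inter_eq_left]
      exact inter_subset_left.trans hVW
    rw [h5] at h4
    exact ⟨V, hV₁, hxV, hVW, h4⟩
  choose! V hVo hxV hVW hVc using key
  obtain ⟨σ, hσ⟩ := hWc.elim_nhds_subcover' (fun x hx => V x)
    (fun x hx => (hVo x hx).mem_nhds (hxV x hx))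
  have hEq : T ∩ W = ⋃ x ∈ σ, (V (x : X) ∩ T) := by
    apply subset_antisymm
    · rintro y ⟨hyT, hyW⟩
      obtain ⟨x, hxσ, hyx⟩ := mem_iUnion₂.1 (hσ hyW)
      exact mem_iUnion₂.2 ⟨x, hxσ, hyx, hyT⟩
    · refine iUnion₂_subset fun x _ => ?_
      rintro y ⟨hyV, hyT⟩
      exact ⟨hyT, hVW x x.2 hyV⟩
  rw [hEq]
  exact σ.finite_toSet.isCompact_biUnion fun x _ => hVc x x.2


open TopologicalSpace in
/-- Let X be a topological space admitting a basis of open subsets which are retrocompact in X. Then
every locally constructible subset T of X is retrocompact in X. -/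
theorem result {X : Type u} [TopologicalSpace X]
    {B : Set (Set X)} (hB : IsTopologicalBasis B) (hBr : ∀ U ∈ B, IsRetrocompact U) {T : Set X}
    (hT : Topology.IsLocallyConstructible T) : IsRetrocompact T := by
  exact main hB hBr hT

end Groth.Agent.S8346
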