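import Groth.Statements.S8347
import Mathlib
import Groth.Prelude.Def_W4c1gvcharpAbut
import Groth.Agent.S8355

set_option autoImplicit false
universe v u
open CategoryTheory CategoryTheory.Limits
open SpSeq

namespace Groth.Agent.S8347

set_option linter.style.haveILetI false

variable {C : Type u} [Category.{v} C] [Abelian C]

lemma fil_succ_eq (K : SpSeq.FilObj C) (p : ℤ) (h : IsZero (K.gr p)) :
    K.fil (p + 1) = K.fil p := by
  apply le_antisymm (K.anti (Int.le_add_one le_rfl))
  have he : Epi (K.stepLE (Int.le_add_one (le_refl p))) :=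
    Preadditive.epi_of_isZero_cokernel _ h
  have hi : IsIso (K.stepLE (Int.le_add_one (le_refl p))) := isIso_of_mono_of_epi _
  refine Subobject.le_of_comm (inv (K.stepLE (Int.le_add_one (le_refl p)))) ?_
  rw [IsIso.inv_comp_eq]
  exact (Subobject.ofLE_arrow _).symm

lemma arrow_eq_zero {X : C} (S : Subobject X) (h : S = ⊥) : S.arrow = 0 := by
  subst h; exact Subobject.bot_arrow

omit [Abelian C] in
lemma arrow_isIso {X : C} (S : Subobject X) (h : S = ⊤) : IsIso S.arrow := by
  subst h; infer_instance

/-- page iso between two stationary pages -/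
lemma page_iso {r₀ : ℤ} (E : CohomologicalSpectralSequence C r₀) (pq : ℤ × ℤ) (r s : ℤ)
    (hr : SpSeq.StationaryAt E pq r) (hs : SpSeq.StationaryAt E pq s) :
    Nonempty ((E.page s hs.1).X pq ≅ (E.page r hr.1).X pq) := by
  rcases le_total r s with h | h
  · have e := SpSeqMor.statXIso E pq r hr (s - r).toNat
    have h1 : s = r + ((s - r).toNat : ℤ) := by rw [Int.toNat_of_nonneg (by omega)]; ring
    exact ⟨E.pageXIsoOfEq pq s _ h1 hs.1 ≪≫ e⟩
  · have e := SpSeqMor.statXIso E pq s hs (r - s).toNat
    have h1 : r = s + ((r - s).toNat : ℤ) := by rw [Int.toNat_of_nonneg (by omega)]; ring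
    exact ⟨(E.pageXIsoOfEq pq r _ h1 hr.1 ≪≫ e).symm⟩

theorem main {r₀ : ℤ}
    (E : CohomologicalSpectralSequence C r₀) {H : ℤ → C} (a : SpSeq.Abutment E H)
    (r : ℤ) (hr : r₀ ≤ r) (q : ℤ → ℤ)
    (hdeg : ∀ m q' : ℤ, q' ≠ q m → IsZero ((E.page r hr).X (m - q', q')))
    (n : ℤ) (hdisc : (a.filObj n).IsDiscrete) (hexh : a.IsExhaustive n)
    (hst : SpSeq.StationaryAt E (n - q n, q n) r) :
    Nonempty (H n ≅ (E.page r hr).X (n - q n, q n)) := by
  set p₀ : ℤ := n - q n with hp₀
  have g1 : ∀ p, p ≠ p₀ → IsZero ((a.filObj n).gr p) := by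
    intro p hp
    have aux : ∀ (m : ℤ) (hm : m = n), IsZero (SpSeq.grPiece (a.fil m) (a.anti m) p) →
        IsZero (SpSeq.grPiece (a.fil n) (a.anti n) p) := by
      intro m hm h; subst hm; exact h
    have hz : IsZero ((E.page r hr).X (p, n - p)) := by
      have := hdeg n (n - p) (by omega)
      rwa [sub_sub_cancel] at this
    exact aux _ (by show p + (n - p) = n; ring)
      ((Groth.Agent.S8355.main E r hr (p, n - p) hz).2 H a)
  have hsucc : ∀ p, p ≠ p₀ → (a.filObj n).fil (p + 1) = (a.filObj n).fil p :=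
    fun p hp => fil_succ_eq _ p (g1 p hp)
  -- constant above p₀+1
  have hup : ∀ k : ℕ, (a.filObj n).fil (p₀ + 1 + k) = (a.filObj n).fil (p₀ + 1) := by
    intro k
    induction k with
    | zero => simp
    | succ k ih =>
      have h3 : p₀ + 1 + ((k + 1 : ℕ) : ℤ) = (p₀ + 1 + k) + 1 := by push_cast; ring
      rw [h3, hsucc _ (by omega), ih]
  have hdown : ∀ k : ℕ, (a.filObj n).fil (p₀ - k) = (a.filObj n).fil p₀ := by
    intro k
    induction k with
    | zero => simp
    | succ k ih =>
      have h3 : p₀ - (k : ℤ) = (p₀ - ((k + 1 : ℕ) : ℤ)) + 1 := by push_cast; ring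
      rw [← ih, h3, hsucc _ (by omega)]
  have t2 : (a.filObj n).fil (p₀ + 1) = ⊥ := by
    obtain ⟨b, hb⟩ := hdisc
    rcases le_total (p₀ + 1) b with hab | hab
    · have := hup (b - (p₀ + 1)).toNat
      rw [Int.toNat_of_nonneg (by omega), add_sub_cancel] at this
      rw [← this, hb]
    · exact le_bot_iff.1 (hb ▸ (a.filObj n).anti hab)
  have t1 : (a.filObj n).fil p₀ = ⊤ := by
    apply top_le_iff.1
    apply hexh.2
    rintro _ ⟨p, rfl⟩
    rcases le_total p₀ p with hp | hp
    · exact (a.filObj n).anti hp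
    · have := hdown (p₀ - p).toNat
      rw [Int.toNat_of_nonneg (by omega), sub_sub_cancel] at this
      exact this.le
  -- the isomorphisms
  haveI := arrow_isIso _ t1
  have e1 : H n ≅ (a.filObj n).step p₀ := (asIso ((a.filObj n).fil p₀).arrow).symm
  have hz : IsZero ((a.filObj n).step (p₀ + 1)) :=
    IsZero.of_mono_eq_zero _ (arrow_eq_zero _ t2)
  have hex := ShortComplex.exact_cokernel ((a.filObj n).stepLE (Int.le_add_one (le_refl p₀)))
  haveI : Mono (cokernel.π ((a.filObj n).stepLE (Int.le_add_one (le_refl p₀)))) :=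
    hex.mono_g (hz.eq_of_src _ _)
  haveI : IsIso (cokernel.π ((a.filObj n).stepLE (Int.le_add_one (le_refl p₀)))) :=
    isIso_of_mono_of_epi _
  have e2 : (a.filObj n).step p₀ ≅ (a.filObj n).gr p₀ :=
    @asIso _ _ _ _ (cokernel.π ((a.filObj n).stepLE (Int.le_add_one (le_refl p₀)))) this
  have aux : ∀ (m : ℤ) (hm : m = n), Nonempty (SpSeq.grPiece (a.fil m) (a.anti m) p₀ ≅
      SpSeq.grPiece (a.fil n) (a.anti n) p₀) := by
    intro m hm; subst hm; exact ⟨Iso.refl _⟩
  obtain ⟨e3⟩ := aux ((p₀, q n).1 + (p₀, q n).2) (by show p₀ + q n = n; omega)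
  have e4 := a.β (p₀, q n)
  obtain ⟨e5⟩ := page_iso E (p₀, q n) r (a.rk (p₀, q n)) hst (a.stat _)
  exact ⟨e1 ≪≫ e2 ≪≫ e3.symm ≪≫ e4.symm ≪≫ e5⟩



/-- Let E be a spectral sequence in an abelian category with abutment data (H^m), and suppose that for
some page r and every total degree m there is an integer q(m) such that E_r^{m-q,q} = 0 for every q
other than q(m). Let n be a total degree such that the filtration of H^n is discrete (some step is
zero) and exhaustive (H^n is the supremum of the steps), and such that the position (n - q(n), q(n))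
is stationary from page r on. Then H^n is isomorphic to E_r^{n-q(n), q(n)}. (The published statement
asserts this without any condition on the differentials at the surviving positions; that version
fails when a differential d_r links the surviving terms of two consecutive total degrees, for
instance a spectral sequence whose only nonzero page-2 terms are E_2^{0,1} and E_2^{2,0} with d_2 an
isomorphism between them and zero abutment. The stationarity assumed here is automatic when q(m)
does not depend on m and r ≥ 2.) -/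
theorem result {C : Type u} [Category.{v} C] [Abelian C] {r₀ : ℤ}
    (E : CohomologicalSpectralSequence C r₀) {H : ℤ → C} (a : SpSeq.Abutment E H)
    (r : ℤ) (hr : r₀ ≤ r) (q : ℤ → ℤ)
    (hdeg : ∀ m q' : ℤ, q' ≠ q m → IsZero ((E.page r hr).X (m - q', q')))
    (n : ℤ) (hdisc : (a.filObj n).IsDiscrete) (hexh : a.IsExhaustive n)
    (hst : SpSeq.StationaryAt E (n - q n, q n) r) :
    Nonempty (H n ≅ (E.page r hr).X (n - q n, q n)) := by
  exact main E a r hr q hdeg n hdisc hexh hst

end Groth.Agent.S8347
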