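import Groth.Statements.S8348
import Mathlib


set_option autoImplicit false
universe v u
open CategoryTheory CategoryTheory.Limits
open HomAlg3

namespace Groth.Agent.S8348

set_option linter.style.haveILetI false

open CategoryTheory CategoryTheory.Limits

variable {C : Type u} [Category.{v} C] [Abelian C]

/-- data of a degreewise splitting of `Q` into cycles -/
structure SplitData (Q : CochainComplex C ℕ) where
  Z : ℕ → C
  z : ∀ i, Z i ⟶ Q.X i
  r : ∀ i, Q.X i ⟶ Z i
  t : ∀ i, Q.X i ⟶ Z (i + 1)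
  s : ∀ i, Z (i + 1) ⟶ Q.X i
  z_r : ∀ i, z i ≫ r i = 𝟙 (Z i)
  t_z : ∀ i, t i ≫ z (i + 1) = Q.d i (i + 1)
  z_t : ∀ i, z i ≫ t i = 0
  s_t : ∀ i, s i ≫ t i = 𝟙 (Z (i + 1))
  id : ∀ i, r i ≫ z i + t i ≫ s i = 𝟙 (Q.X i)
  inj : ∀ i, Injective (Z i)

theorem exists_splitData (Q : CochainComplex C ℕ) (hinj : ∀ i : ℕ, Injective (Q.X i))
    (hac : ∀ i : ℕ, IsZero (Q.homology (i + 1)))
    (hsplit : ∀ i : ℕ, IsSplitMono (Q.iCycles i)) : Nonempty (SplitData Q) := by
  have hrel : ∀ i : ℕ, (ComplexShape.up ℕ).Rel i (i + 1) := fun i => rfl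
  have hnext : ∀ i : ℕ, (ComplexShape.up ℕ).next i = i + 1 := fun i => CochainComplex.next ℕ i
  -- epi of toCycles
  have hepi : ∀ i, Epi (Q.toCycles i (i + 1)) := by
    intro i
    have h1 : Q.ExactAt (i + 1) := (HomologicalComplex.exactAt_iff_isZero_homology _ _).2 (hac i)
    rw [HomologicalComplex.exactAt_iff' _ i (i + 1) (i + 1 + 1) (by simp) (by simp)] at h1
    rw [ShortComplex.exact_iff_epi_toCycles] at h1
    obtain ⟨e, h2⟩ : ∃ e : Q.cycles (i + 1) ≅ (Q.sc' i (i + 1) (i + 1 + 1)).cycles,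
        Q.toCycles i (i + 1) ≫ e.hom = (Q.sc' i (i + 1) (i + 1 + 1)).toCycles :=
      ⟨Q.cyclesIsoSc' i (i + 1) (i + 1 + 1) (by simp) (by simp),
        Q.toCycles_cyclesIsoSc'_hom i (i + 1) (i + 1 + 1) (by simp) (by simp)⟩
    rw [← h2] at h1
    haveI := h1
    have h3 : Q.toCycles i (i + 1) = (Q.toCycles i (i + 1) ≫ e.hom) ≫ e.inv := by
      rw [Category.assoc, Iso.hom_inv_id, Category.comp_id]
    rw [h3]
    exact epi_comp' h1 inferInstance
  -- z_i is a kernel of t_i
  have hker : ∀ i, IsLimit (KernelFork.ofι (Q.iCycles i)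
      (show Q.iCycles i ≫ Q.toCycles i (i + 1) = 0 by
        rw [← cancel_mono (Q.iCycles (i + 1)), Category.assoc, Q.toCycles_i, Q.iCycles_d,
          zero_comp])) := by
    intro i
    exact isKernelOfComp (Q.iCycles (i + 1)) (Q.d i (i + 1)) (Q.cyclesIsKernel i (i + 1) (hnext i))
      _ (Q.toCycles_i i (i + 1))
  have hz_t : ∀ i, Q.iCycles i ≫ Q.toCycles i (i + 1) = 0 := by
    intro i
    rw [← cancel_mono (Q.iCycles (i + 1)), Category.assoc, Q.toCycles_i, Q.iCycles_d,
      zero_comp]
  -- splittings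
  have hsp : ∀ i, Nonempty (ShortComplex.mk (Q.iCycles i) (Q.toCycles i (i + 1))
      (hz_t i)).Splitting := by
    intro i
    obtain ⟨⟨r, hr⟩⟩ := hsplit i
    have hex : (ShortComplex.mk (Q.iCycles i) (Q.toCycles i (i + 1)) (hz_t i)).Exact :=
      ShortComplex.exact_of_f_is_kernel _ (hker i)
    exact ⟨ShortComplex.Splitting.ofExactOfRetraction _ hex r hr (hepi i)⟩
  let σ := fun i => (hsp i).some
  refine ⟨{ Z := fun i => Q.cycles i
            z := fun i => Q.iCycles i
            r := fun i => (σ i).r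
            t := fun i => Q.toCycles i (i + 1)
            s := fun i => (σ i).s
            z_r := fun i => (σ i).f_r
            t_z := fun i => Q.toCycles_i i (i + 1)
            z_t := hz_t
            s_t := fun i => (σ i).s_g
            id := fun i => (σ i).id
            inj := fun i => ?_ }⟩
  haveI := hinj i
  exact Retract.injective (Y := Q.X i) ⟨Q.iCycles i, (σ i).r, (σ i).f_r⟩

theorem main (Q : CochainComplex C ℕ) (hinj : ∀ i : ℕ, Injective (Q.X i))
    (hac : ∀ i : ℕ, IsZero (Q.homology (i + 1)))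
    (hsplit : ∀ i : ℕ, IsSplitMono (Q.iCycles i)) : Injective Q := by
  obtain ⟨D⟩ := exists_splitData Q hinj hac hsplit
  haveI : ∀ i, Injective (D.Z i) := D.inj
  constructor
  intro A B g f _
  let u : ∀ i, A.X i ⟶ D.Z i := fun i => g.f i ≫ D.r i
  let v : ∀ i, B.X i ⟶ D.Z i := fun i => Injective.factorThru (u i) (f.f i)
  have hv : ∀ i, f.f i ≫ v i = u i := fun i => Injective.comp_factorThru (u i) (f.f i)
  let hf : ∀ i, B.X i ⟶ Q.X i := fun i => v i ≫ D.z i + B.d i (i + 1) ≫ v (i + 1) ≫ D.s i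
  have hcomm : ∀ i, hf i ≫ Q.d i (i + 1) = B.d i (i + 1) ≫ hf (i + 1) := by
    intro i
    change (v i ≫ D.z i + B.d i (i + 1) ≫ v (i + 1) ≫ D.s i) ≫ Q.d i (i + 1) =
      B.d i (i + 1) ≫ (v (i + 1) ≫ D.z (i + 1) +
        B.d (i + 1) (i + 1 + 1) ≫ v (i + 1 + 1) ≫ D.s (i + 1))
    rw [← D.t_z i, Preadditive.add_comp, Preadditive.comp_add]
    simp only [Category.assoc]
    rw [reassoc_of% (D.z_t i), zero_comp, comp_zero, zero_add, reassoc_of% (D.s_t i),
      HomologicalComplex.d_comp_d_assoc, zero_comp, add_zero]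
  let h : B ⟶ Q :=
    { f := hf
      comm' := by
        intro i j hij
        obtain rfl : j = i + 1 := hij.symm
        exact hcomm i }
  refine ⟨h, ?_⟩
  ext i
  change f.f i ≫ (v i ≫ D.z i + B.d i (i + 1) ≫ v (i + 1) ≫ D.s i) = g.f i
  have h1 : g.f i ≫ D.t i = A.d i (i + 1) ≫ g.f (i + 1) ≫ D.r (i + 1) := by
    have := g.comm i (i + 1)
    rw [← D.t_z i] at this
    have h2 := congrArg (fun x => x ≫ D.r (i + 1)) this
    simp only [Category.assoc] at h2
    rw [D.z_r (i + 1), Category.comp_id] at h2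
    exact h2
  rw [Preadditive.comp_add]
  have e1 : f.f i ≫ v i ≫ D.z i = g.f i ≫ D.r i ≫ D.z i := by
    rw [← Category.assoc, hv i]
    exact Category.assoc _ _ _
  have e2 : f.f i ≫ B.d i (i + 1) ≫ v (i + 1) ≫ D.s i =
      A.d i (i + 1) ≫ g.f (i + 1) ≫ D.r (i + 1) ≫ D.s i := by
    rw [← Category.assoc, f.comm i (i + 1), Category.assoc, ← Category.assoc (f.f (i + 1)),
      hv (i + 1)]
    change A.d i (i + 1) ≫ (g.f (i + 1) ≫ D.r (i + 1)) ≫ D.s i = _
    rw [Category.assoc]
  rw [e1, e2]
  have h3 : g.f i = g.f i ≫ (D.r i ≫ D.z i + D.t i ≫ D.s i) := by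
    rw [D.id i, Category.comp_id]
  conv_rhs => rw [h3]
  rw [Preadditive.comp_add, ← Category.assoc (g.f i) (D.t i), h1]
  simp only [Category.assoc]



/-- Let C be an abelian category and Q a cochain complex of objects of C in degrees 0, 1, 2, ... such
that every Q^i is injective, every homology object H^i(Q) with i ≥ 1 is zero, and every inclusion of
the cycles Z^i(Q) into Q^i (i ≥ 0) is a split monomorphism. Then Q is an injective object of the
category of cochain complexes of C indexed by the natural numbers. (The published statement is for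
the narrower class of complexes with Z^i(Q) = B^i(Q) for every i ≥ 0, which in degree 0, where there
is no incoming differential, forces Z^0(Q) = 0; this row allows a nonzero Z^0(Q), so that it pairs
with the embedding of an arbitrary complex into such a Q. Such a Q is the direct sum of Z^0(Q)
placed in degree 0 and of the two-term complexes with Z^{i+1}(Q) in degrees i and i+1 and the
identity as differential, and the published argument carries over with Z^i(Q) in place of B^i(Q) as
the first summand of Q^i.) -/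
theorem result {C : Type u} [Category.{v} C] [Abelian C]
    (Q : CochainComplex C ℕ) (hinj : ∀ i : ℕ, Injective (Q.X i)) (hac : ∀ i : ℕ, IsZero (Q.homology (i + 1)))
    (hsplit : ∀ i : ℕ, IsSplitMono (Q.iCycles i)) : Injective Q := by
  exact main Q hinj hac hsplit

end Groth.Agent.S8348
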