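import Groth.Statements.S8349
import Mathlib


set_option autoImplicit false
universe v u
open CategoryTheory CategoryTheory.Limits
open HomAlg3

namespace Groth.Agent.S8349

set_option linter.style.haveILetI false

open CategoryTheory CategoryTheory.Limits

variable {C : Type u} [Category.{v} C] [Abelian C]

section constr

variable (I : ℕ → C)

/-- the differential -/
noncomputable def dQ (i : ℕ) : (I i ⊞ I (i + 1)) ⟶ (I (i + 1) ⊞ I (i + 1 + 1)) :=
  biprod.snd ≫ biprod.inl

theorem dQ_comp (i : ℕ) : dQ I i ≫ dQ I (i + 1) = 0 := by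
  unfold dQ
  rw [Category.assoc, biprod.inl_snd_assoc, zero_comp, comp_zero]

/-- the complex `Q` -/
noncomputable def Qcx : CochainComplex C ℕ :=
  CochainComplex.of (fun i => I i ⊞ I (i + 1)) (dQ I) (dQ_comp I)

theorem Qcx_d (i : ℕ) : (Qcx I).d i (i + 1) = dQ I i := by
  unfold Qcx
  exact CochainComplex.of_d (fun i => I i ⊞ I (i + 1)) (dQ I) i

theorem exact_dQ (i : ℕ) : (ShortComplex.mk (dQ I i) (dQ I (i + 1)) (dQ_comp I i)).Exact := by
  -- S'' = (inl, snd)
  have h0 : (ShortComplex.mk (biprod.inl : I (i + 1) ⟶ I (i + 1) ⊞ I (i + 1 + 1)) biprod.snd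
      biprod.inl_snd).Exact :=
    (ShortComplex.Splitting.ofHasBinaryBiproduct (I (i + 1)) (I (i + 1 + 1))).shortExact.exact
  -- S' = (snd ≫ inl, snd)
  have w1 : (dQ I i) ≫ (biprod.snd : I (i + 1) ⊞ I (i + 1 + 1) ⟶ I (i + 1 + 1)) = 0 := by
    unfold dQ
    rw [Category.assoc, biprod.inl_snd, comp_zero]
  have h1 : (ShortComplex.mk (dQ I i) biprod.snd w1).Exact := by
    let φ : ShortComplex.mk (dQ I i) biprod.snd w1 ⟶
        ShortComplex.mk (biprod.inl : I (i + 1) ⟶ I (i + 1) ⊞ I (i + 1 + 1)) biprod.snd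
          biprod.inl_snd :=
      { τ₁ := biprod.snd
        τ₂ := 𝟙 _
        τ₃ := 𝟙 _
        comm₁₂ := by
          dsimp [dQ]
          rw [Category.comp_id]
        comm₂₃ := by
          dsimp
          rw [Category.comp_id, Category.id_comp] }
    haveI : Epi φ.τ₁ := inferInstanceAs (Epi (biprod.snd : I i ⊞ I (i + 1) ⟶ I (i + 1)))
    haveI : IsIso φ.τ₂ := inferInstanceAs (IsIso (𝟙 _))
    haveI : Mono φ.τ₃ := inferInstanceAs (Mono (𝟙 _))
    exact (ShortComplex.exact_iff_of_epi_of_isIso_of_mono φ).2 h0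
  let ψ : ShortComplex.mk (dQ I i) biprod.snd w1 ⟶
      ShortComplex.mk (dQ I i) (dQ I (i + 1)) (dQ_comp I i) :=
    { τ₁ := 𝟙 _
      τ₂ := 𝟙 _
      τ₃ := biprod.inl
      comm₁₂ := by
        dsimp
        rw [Category.comp_id, Category.id_comp]
      comm₂₃ := by
        dsimp [dQ]
        rw [Category.id_comp] }
  haveI : Epi ψ.τ₁ := inferInstanceAs (Epi (𝟙 _))
  haveI : IsIso ψ.τ₂ := inferInstanceAs (IsIso (𝟙 _))
  haveI : Mono ψ.τ₃ :=
    inferInstanceAs (Mono (biprod.inl : I (i + 1 + 1) ⟶ I (i + 1 + 1) ⊞ I (i + 1 + 1 + 1)))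
  exact (ShortComplex.exact_iff_of_epi_of_isIso_of_mono ψ).1 h1

theorem Qcx_exactAt (i : ℕ) : (Qcx I).ExactAt (i + 1) := by
  rw [HomologicalComplex.exactAt_iff' _ i (i + 1) (i + 1 + 1) (by simp) (by simp)]
  let e : (Qcx I).sc' i (i + 1) (i + 1 + 1) ≅
      ShortComplex.mk (dQ I i) (dQ I (i + 1)) (dQ_comp I i) :=
    ShortComplex.isoMk (Iso.refl _) (Iso.refl _) (Iso.refl _)
      (by
        have h1 : (Qcx I).d i (i + 1) ≫ 𝟙 ((Qcx I).X (i + 1)) = dQ I i := by
          rw [Category.comp_id, Qcx_d]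
        exact (Category.id_comp _).trans h1.symm)
      (by
        have h1 : (Qcx I).d (i + 1) (i + 1 + 1) ≫ 𝟙 ((Qcx I).X (i + 1 + 1)) = dQ I (i + 1) := by
          rw [Category.comp_id, Qcx_d]
        exact (Category.id_comp _).trans h1.symm)
  exact (ShortComplex.exact_iff_of_iso e).2 (exact_dQ I i)

theorem Qcx_splitMono (i : ℕ) : IsSplitMono ((Qcx I).iCycles i) := by
  have h0 : (Qcx I).iCycles i ≫ (Qcx I).d i (i + 1) = 0 := (Qcx I).iCycles_d i (i + 1)
  -- work with explicitly typed versions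
  let ic : (Qcx I).cycles i ⟶ I i ⊞ I (i + 1) := (Qcx I).iCycles i
  have h1 : ic ≫ dQ I i = 0 := by
    rw [← Qcx_d]
    exact h0
  have h2 : ic ≫ biprod.snd = 0 := by
    have : (ic ≫ biprod.snd) ≫ (biprod.inl : I (i + 1) ⟶ I (i + 1) ⊞ I (i + 1 + 1)) = 0 := by
      rw [Category.assoc]
      exact h1
    rw [← cancel_mono (biprod.inl : I (i + 1) ⟶ I (i + 1) ⊞ I (i + 1 + 1)), this, zero_comp]
  have h3 : ic ≫ biprod.fst ≫ biprod.inl = ic := by
    have : ic = ic ≫ (biprod.fst ≫ biprod.inl + biprod.snd ≫ biprod.inr) := by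
      rw [biprod.total, Category.comp_id]
    conv_rhs => rw [this]
    rw [Preadditive.comp_add, ← Category.assoc ic biprod.snd, h2, zero_comp, add_zero]
  let p : I i ⊞ I (i + 1) ⟶ (Qcx I).X i := biprod.fst ≫ biprod.inl
  have hp : p ≫ (Qcx I).d i (i + 1) = 0 := by
    rw [Qcx_d]
    change (biprod.fst ≫ biprod.inl) ≫ biprod.snd ≫ biprod.inl = 0
    rw [Category.assoc, biprod.inl_snd_assoc, zero_comp]
    exact comp_zero
  let r : (Qcx I).X i ⟶ (Qcx I).cycles i := (Qcx I).liftCycles p (i + 1) (by simp) hp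
  refine ⟨⟨r, ?_⟩⟩
  rw [← cancel_mono ((Qcx I).iCycles i), Category.assoc, Category.id_comp]
  have : r ≫ (Qcx I).iCycles i = p := (Qcx I).liftCycles_i p (i + 1) (by simp) hp
  rw [this]
  exact h3

end constr

theorem main [EnoughInjectives C] (A : CochainComplex C ℕ) :
    ∃ (Q : CochainComplex C ℕ) (f : A ⟶ Q), Mono f ∧ (∀ i : ℕ, Injective (Q.X i)) ∧
      (∀ i : ℕ, IsZero (Q.homology (i + 1))) ∧ ∀ i : ℕ, IsSplitMono (Q.iCycles i) := by
  let I : ℕ → C := fun i => Injective.under (A.X i)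
  let ι : ∀ i, A.X i ⟶ I i := fun i => Injective.ι (A.X i)
  let fi : ∀ i, A.X i ⟶ (Qcx I).X i := fun i => biprod.lift (ι i) (A.d i (i + 1) ≫ ι (i + 1))
  have hcomm : ∀ i, fi i ≫ (Qcx I).d i (i + 1) = A.d i (i + 1) ≫ fi (i + 1) := by
    intro i
    rw [Qcx_d]
    change biprod.lift (ι i) (A.d i (i + 1) ≫ ι (i + 1)) ≫ biprod.snd ≫ biprod.inl =
      A.d i (i + 1) ≫ biprod.lift (ι (i + 1)) (A.d (i + 1) (i + 1 + 1) ≫ ι (i + 1 + 1))
    rw [biprod.lift_snd_assoc]
    apply biprod.hom_ext
    · simp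
    · simp
  let f : A ⟶ Qcx I :=
    { f := fi
      comm' := by
        intro i j hij
        obtain rfl : j = i + 1 := hij.symm
        exact hcomm i }
  refine ⟨Qcx I, f, ?_, ?_, ?_, ?_⟩
  · haveI : ∀ i, Mono (f.f i) := by
      intro i
      have : Mono (fi i ≫ biprod.fst) := by
        change Mono (biprod.lift (ι i) (A.d i (i + 1) ≫ ι (i + 1)) ≫ biprod.fst)
        rw [biprod.lift_fst]
        infer_instance
      exact mono_of_mono (fi i) biprod.fst
    exact HomologicalComplex.mono_of_mono_f f inferInstance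
  · intro i
    change Injective (I i ⊞ I (i + 1))
    infer_instance
  · intro i
    exact (HomologicalComplex.exactAt_iff_isZero_homology _ _).1 (Qcx_exactAt I i)
  · exact Qcx_splitMono I



/-- Let C be an abelian category in which every object embeds in an injective object, and let A be a
cochain complex of objects of C in degrees 0, 1, 2, .... Then there are a cochain complex Q, with
every Q^i injective, H^i(Q) = 0 for every i ≥ 1 and every cycle inclusion Z^i(Q) ⟶ Q^i (i ≥ 0) a
split monomorphism, and a monomorphism of complexes A ⟶ Q. (The published statement asks Z^i(Q) =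
B^i(Q) for every i ≥ 0; in degree 0, where there is no incoming differential, this makes Z^0(Q) = 0,
and then no complex with nonzero degree-0 cycles, for instance a nonzero object placed in degree 0,
embeds in such a Q, because the degree-0 component of a chain map into Q factors through Z^0(Q).
This row asks vanishing homology in positive degrees only; the published construction, which embeds
each A^i in an injective I^i and takes Q^i = I^i ⊕ I^{i+1}, proves that version once an injective
I^0 containing A^0 is used in degree 0 as well.) -/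
theorem result {C : Type u} [Category.{v} C] [Abelian C]
    [EnoughInjectives C] (A : CochainComplex C ℕ) :
    ∃ (Q : CochainComplex C ℕ) (f : A ⟶ Q), Mono f ∧ (∀ i : ℕ, Injective (Q.X i)) ∧
      (∀ i : ℕ, IsZero (Q.homology (i + 1))) ∧ ∀ i : ℕ, IsSplitMono (Q.iCycles i) := by
  exact main A

end Groth.Agent.S8349
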