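import Groth.Statements.S8352
import Mathlib
import Groth.Agent.S15235
-- import your own Groth.Agent.* helpers here

set_option autoImplicit false
universe u
open CategoryTheory CategoryTheory.Limits Opposite
open HomAlg3

namespace Groth.Agent.S8352

section helpers
theorem mem_range_π_iff (F : ℕᵒᵖ ⥤ AddCommGrpCat.{u})
    (hF : (F ⋙ forget AddCommGrpCat).IsMittagLeffler) (n : ℕ) (x : F.obj (op n)) :
    x ∈ (limit.π F (op n)).hom.range ↔
      ∀ (k : ℕ) (hk : n ≤ k), x ∈ (F.map (homOfLE hk).op).hom.range := by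
  constructor
  · rintro ⟨y, rfl⟩ k hk
    refine ⟨(limit.π F (op k)).hom y, ?_⟩
    rw [← limit.w F (homOfLE hk).op]
    rfl
  · intro hx
    set G := F ⋙ forget AddCommGrpCat with hG
    have hxe : x ∈ G.eventualRange (op n) := by
      rw [Functor.mem_eventualRange_iff]
      rintro ⟨k⟩ f
      have hk : n ≤ k := leOfHom f.unop
      have hf : f = (homOfLE hk).op := Subsingleton.elim _ _
      obtain ⟨y, hy⟩ := hx k hk
      exact ⟨y, by rw [hf]; exact hy⟩
    have hsurj : ∀ j, n ≤ j → Function.Surjective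
        (Groth.Agent.S15235.T G.toEventualRanges j (j + 1) (Nat.le_succ j)) := fun j _ =>
      Functor.surjective_toEventualRanges G hF _
    obtain ⟨s, hs⟩ := Groth.Agent.S15235.sections_surj G.toEventualRanges n hsurj ⟨x, hxe⟩
    let s' : G.sections := G.toEventualRangesSectionsEquiv s
    let hc := isLimitOfPreserves (forget AddCommGrpCat) (limit.isLimit F)
    let y := (Types.isLimitEquivSections hc).symm s'
    refine ⟨y, ?_⟩
    have := Types.isLimitEquivSections_symm_apply hc s' (op n)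
    have h2 : (s'.1 (op n)) = x := by
      change ((s.1 (op n)).1) = x
      have := congrArg Subtype.val hs
      exact this
    rw [h2] at this
    exact this

theorem main (F : ℕᵒᵖ ⥤ AddCommGrpCat.{u})
    (hF : (F ⋙ forget AddCommGrpCat).IsMittagLeffler) :
    (limit.π F (op 0)).hom.range = ⨅ k : ℕ, (F.map (homOfLE (Nat.zero_le k)).op).hom.range ∧
      ∀ p : ℕ, (limit.π F (op (p + 1))).hom.range ⊓ (F.map (homOfLE (Nat.le_succ p)).op).hom.ker =
        ⨅ (k : ℕ) (hk : p + 1 ≤ k),
          (F.map (homOfLE hk).op).hom.range ⊓ (F.map (homOfLE (Nat.le_succ p)).op).hom.ker := by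
  constructor
  · ext x
    rw [mem_range_π_iff F hF, AddSubgroup.mem_iInf]
    exact ⟨fun h k => h k (Nat.zero_le k), fun h k _ => h k⟩
  · intro p
    ext x
    rw [AddSubgroup.mem_inf, mem_range_π_iff F hF]
    simp only [AddSubgroup.mem_iInf, AddSubgroup.mem_inf]
    constructor
    · rintro ⟨h1, h2⟩ k hk
      exact ⟨h1 k hk, h2⟩
    · intro h
      exact ⟨fun k hk => (h k hk).1, (h (p + 1) le_rfl).2⟩
end helpers

/-- Category of abelian groups, system indexed by the natural numbers: Let (A_k) be an inverse system of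
abelian groups satisfying the Mittag-Leffler condition, A = lim A_k with projections π_p : A ⟶ A_p.
Filter A and each A_k by the kernels of the maps to A_{p-1} (with A_{-1} = 0); the graded piece
gr^p(A) is identified with Im(π_p) ∩ Ker(A_p ⟶ A_{p-1}) and gr^p(A_k), k ≥ p, with Im(A_k ⟶ A_p) ∩
Ker(A_p ⟶ A_{p-1}), a decreasing family of subgroups of A_p. The statement gr^p(A) ≅ lim_k gr^p(A_k)
then reads: Im(π_0) = ⋂_k Im(A_k ⟶ A_0), and for every p, Im(π_{p+1}) ∩ Ker(A_{p+1} ⟶ A_p) = ⋂_{k ≥
p+1} (Im(A_k ⟶ A_{p+1}) ∩ Ker(A_{p+1} ⟶ A_p)). -/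
theorem result (F : ℕᵒᵖ ⥤ AddCommGrpCat.{u})
    (hF : (F ⋙ forget AddCommGrpCat).IsMittagLeffler) :
    (limit.π F (op 0)).hom.range = ⨅ k : ℕ, (F.map (homOfLE (Nat.zero_le k)).op).hom.range ∧
      ∀ p : ℕ, (limit.π F (op (p + 1))).hom.range ⊓ (F.map (homOfLE (Nat.le_succ p)).op).hom.ker =
        ⨅ (k : ℕ) (hk : p + 1 ≤ k),
          (F.map (homOfLE hk).op).hom.range ⊓ (F.map (homOfLE (Nat.le_succ p)).op).hom.ker := by
  exact main F hF

end Groth.Agent.S8352
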