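import Groth.Statements.S8353
import Mathlib

set_option autoImplicit false
universe u
open HomAlg3

namespace Groth.Agent.S8353

section aux
variable {S : Type u} [CommRing S] (J : Ideal S) {M : Type u} [AddCommGroup M] [Module S M]
  (G : ℕ → Submodule S M)

lemma stepA (hJ : ∀ k, J • G k ≤ G (k + 1)) (hq : ∀ k, G (k + 1) = J • G k ⊔ G (k + 2))
    {s : ℕ} (g : Fin s → M) (hgen : G 0 ≤ Submodule.span S (Set.range g) ⊔ G 1) :
    ∀ k : ℕ, ∀ y ∈ G k, ∃ a : Fin s → S, (∀ i, a i ∈ J ^ k) ∧ y - ∑ i, a i • g i ∈ G (k + 1) := by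
  intro k
  induction k with
  | zero =>
    intro y hy
    obtain ⟨u, hu, w, hw, rfl⟩ := Submodule.mem_sup.1 (hgen hy)
    obtain ⟨c, rfl⟩ := (Submodule.mem_span_range_iff_exists_fun S).1 hu
    refine ⟨c, fun i => by simp, ?_⟩
    simpa using hw
  | succ k ih =>
    intro y hy
    rw [hq k] at hy
    obtain ⟨u, hu, w, hw, rfl⟩ := Submodule.mem_sup.1 hy
    have key : ∃ a : Fin s → S, (∀ i, a i ∈ J ^ (k + 1)) ∧ u - ∑ i, a i • g i ∈ G (k + 2) := by
      refine Submodule.smul_induction_on hu ?_ ?_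
      · intro c hc z hz
        obtain ⟨a', ha', hz'⟩ := ih z hz
        refine ⟨fun i => c * a' i, fun i => ?_, ?_⟩
        · rw [pow_succ']
          exact Ideal.mul_mem_mul hc (ha' i)
        · have : c • z - ∑ i, (c * a' i) • g i = c • (z - ∑ i, a' i • g i) := by
            rw [smul_sub, Finset.smul_sum]
            simp only [mul_smul]
          rw [this]
          exact hJ (k + 1) (Submodule.smul_mem_smul hc hz')
      · rintro x₁ x₂ ⟨a₁, ha₁, h₁⟩ ⟨a₂, ha₂, h₂⟩
        refine ⟨fun i => a₁ i + a₂ i, fun i => Ideal.add_mem _ (ha₁ i) (ha₂ i), ?_⟩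
        have : x₁ + x₂ - ∑ i, (a₁ i + a₂ i) • g i =
            (x₁ - ∑ i, a₁ i • g i) + (x₂ - ∑ i, a₂ i • g i) := by
          simp only [add_smul, Finset.sum_add_distrib]
          abel
        rw [this]
        exact Submodule.add_mem _ h₁ h₂
    obtain ⟨a, ha, hua⟩ := key
    refine ⟨a, ha, ?_⟩
    have : u + w - ∑ i, a i • g i = (u - ∑ i, a i • g i) + w := by abel
    rw [this]
    exact Submodule.add_mem _ hua hw

lemma pow_smul_le (hJ : ∀ k, J • G k ≤ G (k + 1)) (n : ℕ) : J ^ n • G 0 ≤ G n := by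
  induction n with
  | zero => simp
  | succ n ih =>
    rw [pow_succ', mul_smul]
    exact (Submodule.smul_mono le_rfl ih).trans (hJ n)

lemma stepB [IsAdicComplete J S] (hG : Antitone G) (hJ : ∀ k, J • G k ≤ G (k + 1))
    (hq : ∀ k, G (k + 1) = J • G k ⊔ G (k + 2)) (hsep : ⨅ k, G k = ⊥)
    {s : ℕ} (g : Fin s → M) (hg : ∀ i, g i ∈ G 0)
    (hgen : G 0 ≤ Submodule.span S (Set.range g) ⊔ G 1) (k₀ : ℕ) (y : M) (hy : y ∈ G k₀) :
    ∃ a : Fin s → S, (∀ i, a i ∈ J ^ k₀) ∧ y = ∑ i, a i • g i := by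
  classical
  have step : ∀ n (b : {b : Fin s → S // (∀ i, b i ∈ J ^ k₀) ∧ y - ∑ i, b i • g i ∈ G (k₀ + n)}),
      ∃ b' : {b : Fin s → S // (∀ i, b i ∈ J ^ k₀) ∧ y - ∑ i, b i • g i ∈ G (k₀ + (n + 1))},
        ∀ i, b'.1 i - b.1 i ∈ J ^ (k₀ + n) := by
    rintro n ⟨b, hb, hyb⟩
    obtain ⟨a, ha, hya⟩ := stepA J G hJ hq g hgen (k₀ + n) _ hyb
    refine ⟨⟨fun i => b i + a i, fun i => Ideal.add_mem _ (hb i)
      (Ideal.pow_le_pow_right (Nat.le_add_right _ _) (ha i)), ?_⟩, fun i => by simpa using ha i⟩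
    have : y - ∑ i, (b i + a i) • g i = y - ∑ i, b i • g i - ∑ i, a i • g i := by
      simp only [add_smul, Finset.sum_add_distrib]
      abel
    rw [this]
    exact hya
  choose next hnext using step
  let b0 : {b : Fin s → S // (∀ i, b i ∈ J ^ k₀) ∧ y - ∑ i, b i • g i ∈ G (k₀ + 0)} :=
    ⟨0, fun i => by simp, by simpa using hy⟩
  let seq : ∀ n, {b : Fin s → S // (∀ i, b i ∈ J ^ k₀) ∧ y - ∑ i, b i • g i ∈ G (k₀ + n)} :=
    fun n => Nat.rec (motive := fun n =>
      {b : Fin s → S // (∀ i, b i ∈ J ^ k₀) ∧ y - ∑ i, b i • g i ∈ G (k₀ + n)}) b0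
        (fun n b => next n b) n
  have hseq : ∀ n i, (seq (n + 1)).1 i - (seq n).1 i ∈ J ^ (k₀ + n) := fun n i => hnext n (seq n) i
  have hcauchy : ∀ i m n, m ≤ n → (seq n).1 i - (seq m).1 i ∈ J ^ m := by
    intro i m n hmn
    induction n, hmn using Nat.le_induction with
    | base => simp
    | succ n hmn ih =>
      have h1 : (seq (n + 1)).1 i - (seq n).1 i ∈ J ^ m :=
        Ideal.pow_le_pow_right (by omega) (hseq n i)
      have : (seq (n + 1)).1 i - (seq m).1 i =
          ((seq (n + 1)).1 i - (seq n).1 i) + ((seq n).1 i - (seq m).1 i) := by ring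
      rw [this]
      exact Ideal.add_mem _ h1 ih
  have hlim : ∀ i, ∃ L : S, ∀ n, (seq n).1 i - L ∈ J ^ n := by
    intro i
    obtain ⟨L, hL⟩ := IsPrecomplete.prec (inferInstance : IsPrecomplete J S)
      (f := fun n => (seq n).1 i) (by
        intro m n hmn
        rw [SModEq.sub_mem, smul_eq_mul, Ideal.mul_top]
        have := hcauchy i m n hmn
        rw [← neg_sub] at this
        exact (Ideal.neg_mem_iff _).1 this)
    refine ⟨L, fun n => ?_⟩
    have := hL n
    rwa [SModEq.sub_mem, smul_eq_mul, Ideal.mul_top] at this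
  choose L hL using hlim
  refine ⟨L, fun i => ?_, ?_⟩
  · have h1 := hL i k₀
    have h2 := (seq k₀).2.1 i
    have : L i = (seq k₀).1 i - ((seq k₀).1 i - L i) := by ring
    rw [this]
    exact Ideal.sub_mem _ h2 h1
  · rw [← sub_eq_zero, ← Submodule.mem_bot S, ← hsep, Submodule.mem_iInf]
    intro n
    have h1 : y - ∑ i, (seq n).1 i • g i ∈ G n := hG (Nat.le_add_left _ _) (seq n).2.2
    have h2 : ∑ i, ((seq n).1 i - L i) • g i ∈ G n := by
      refine Submodule.sum_mem _ fun i _ => ?_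
      exact pow_smul_le J G hJ n (Submodule.smul_mem_smul (hL i n) (hg i))
    have : y - ∑ i, L i • g i = (y - ∑ i, (seq n).1 i • g i) + ∑ i, ((seq n).1 i - L i) • g i := by
      simp only [sub_smul, Finset.sum_sub_distrib]
      abel
    rw [this]
    exact Submodule.add_mem _ h1 h2

end aux


/-- Let S be a Noetherian ring which is separated and complete for the adic topology of an ideal J, and
let M be an S-module with a decreasing filtration (F^p M)_{p ∈ ℤ} by submodules such that F^p M = M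
for some p, J·F^p M ⊆ F^{p+1} M for all p, and ⋂_p F^p M = 0. Then the following are equivalent: (a)
M is a finitely generated S-module and J·F^p M = F^{p+1} M for all large p; (c) every F^p M /
F^{p+1} M is a finitely generated S-module and, for all large p, the map J ⊗ (F^p M/F^{p+1} M) ⟶
F^{p+1} M/F^{p+2} M is surjective, that is F^{p+1} M = J·F^p M + F^{p+2} M. (The published statement
also lists a third equivalent condition, finite generation of the associated graded module over the
associated graded ring; this row states the equivalence of the other two.) -/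
theorem result {S : Type u} [CommRing S] [IsNoetherianRing S]
    (J : Ideal S) [IsAdicComplete J S] {M : Type u} [AddCommGroup M] [Module S M]
    (F : ℤ → Submodule S M) (hF : Antitone F) (hcod : ∃ p₀ : ℤ, F p₀ = ⊤)
    (hJ : ∀ p : ℤ, J • F p ≤ F (p + 1)) (hsep : ⨅ p : ℤ, F p = ⊥) :
    (Module.Finite S M ∧ ∃ p₁ : ℤ, ∀ p : ℤ, p₁ ≤ p → J • F p = F (p + 1)) ↔
      ((∀ p : ℤ, (Submodule.map (F (p + 1)).mkQ (F p)).FG) ∧
        ∃ p₁ : ℤ, ∀ p : ℤ, p₁ ≤ p → F (p + 1) = J • F p ⊔ F (p + 2)) := by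
  constructor
  · rintro ⟨hfin, p₁, hp₁⟩
    have := hfin
    refine ⟨fun p => ?_, p₁, fun p hp => ?_⟩
    · have : (F p).FG := IsNoetherian.noetherian (F p)
      exact this.map _
    · rw [hp₁ p hp]
      exact (sup_eq_left.2 (hF (by omega))).symm
  · rintro ⟨hfg, p₁, hp₁⟩
    obtain ⟨p₀, hp₀⟩ := hcod
    have key : ∀ p, p₁ ≤ p → ∃ (s : ℕ) (g : Fin s → M), (∀ i, g i ∈ F p) ∧
        (∀ k₀ : ℕ, ∀ y ∈ F (p + k₀), ∃ a : Fin s → S, (∀ i, a i ∈ J ^ k₀) ∧
          y = ∑ i, a i • g i) := by
      intro p hp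
      obtain ⟨s, t, ht⟩ := Submodule.fg_iff_exists_fin_generating_family.1 (hfg p)
      have hex : ∀ i, ∃ x ∈ F p, (F (p + 1)).mkQ x = t i := fun i => by
        have : t i ∈ Submodule.map (F (p + 1)).mkQ (F p) :=
          ht ▸ Submodule.subset_span (Set.mem_range_self i)
        simpa using this
      choose g hg hgt using hex
      refine ⟨s, g, hg, ?_⟩
      have hG : Antitone (fun k : ℕ => F (p + k)) := fun a b hab => hF (by omega)
      have hJ' : ∀ k : ℕ, J • F (p + k) ≤ F (p + ((k + 1 : ℕ) : ℤ)) := by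
        intro k
        have : p + ((k + 1 : ℕ) : ℤ) = p + k + 1 := by push_cast; ring
        rw [this]
        exact hJ _
      have hq' : ∀ k : ℕ, F (p + ((k + 1 : ℕ) : ℤ)) =
          J • F (p + k) ⊔ F (p + ((k + 2 : ℕ) : ℤ)) := by
        intro k
        have e1 : p + ((k + 1 : ℕ) : ℤ) = p + k + 1 := by push_cast; ring
        have e2 : p + ((k + 2 : ℕ) : ℤ) = p + k + 2 := by push_cast; ring
        rw [e1, e2]
        exact hp₁ _ (by omega)
      have hsep' : ⨅ k : ℕ, F (p + k) = ⊥ := by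
        rw [eq_bot_iff, ← hsep]
        refine le_iInf fun q => (iInf_le _ (q - p).toNat).trans (hF ?_)
        omega
      have hg' : ∀ i, g i ∈ F (p + ((0 : ℕ) : ℤ)) := fun i => by simpa using hg i
      have hgen : F (p + ((0 : ℕ) : ℤ)) ≤ Submodule.span S (Set.range g) ⊔
          F (p + ((1 : ℕ) : ℤ)) := by
        intro x hx
        have hx0 : x ∈ F p := by simpa using hx
        have hx' : (F (p + 1)).mkQ x ∈
            Submodule.map (F (p + 1)).mkQ (Submodule.span S (Set.range g)) := by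
          rw [Submodule.map_span, ← Set.range_comp]
          have : (F (p + 1)).mkQ ∘ g = t := funext hgt
          rw [this, ht]
          exact Submodule.mem_map_of_mem hx0
        obtain ⟨u, hu, hux⟩ := hx'
        refine Submodule.mem_sup.2 ⟨u, hu, x - u, ?_, by abel⟩
        have h0 : (F (p + 1)).mkQ (x - u) = 0 := by rw [map_sub, hux, sub_self]
        rwa [Submodule.mkQ_apply, Submodule.Quotient.mk_eq_zero] at h0
      intro k₀ y hy
      exact stepB J (fun k : ℕ => F (p + k)) hG hJ' hq' hsep' g hg' hgen k₀ y hy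
    have hFG : ∀ p, p₁ ≤ p → (F p).FG := by
      intro p hp
      obtain ⟨s, g, hg, h⟩ := key p hp
      have : F p = Submodule.span S (Set.range g) := by
        refine le_antisymm (fun y hy => ?_) (Submodule.span_le.2 ?_)
        · obtain ⟨a, -, rfl⟩ := h 0 y (by simpa using hy)
          exact Submodule.sum_mem _ fun i _ =>
            Submodule.smul_mem _ _ (Submodule.subset_span (Set.mem_range_self i))
        · rintro _ ⟨i, rfl⟩
          exact hg i
      rw [this]
      exact Submodule.fg_span (Set.finite_range g)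
    have hdown : ∀ n : ℕ, (F (max p₀ p₁ - n)).FG := by
      intro n
      induction n with
      | zero => simpa using hFG _ (le_max_right _ _)
      | succ n ih =>
        have e : max p₀ p₁ - ((n + 1 : ℕ) : ℤ) + 1 = max p₀ p₁ - n := by push_cast; ring
        refine Submodule.fg_of_fg_map_of_fg_inf_ker
          (F (max p₀ p₁ - ((n + 1 : ℕ) : ℤ) + 1)).mkQ (hfg _) ?_
        rw [Submodule.ker_mkQ, inf_eq_right.2 (hF (by omega)), e]
        exact ih
    refine ⟨?_, p₁, fun p hp => le_antisymm (hJ p) ?_⟩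
    · rw [Module.finite_def, ← hp₀]
      have e : max p₀ p₁ - (((max p₀ p₁ - p₀).toNat : ℕ) : ℤ) = p₀ := by omega
      have := hdown (max p₀ p₁ - p₀).toNat
      rwa [e] at this
    · intro y hy
      obtain ⟨s, g, hg, h⟩ := key p hp
      obtain ⟨a, ha, rfl⟩ := h 1 y (by simpa using hy)
      exact Submodule.sum_mem _ fun i _ => Submodule.smul_mem_smul (by simpa using ha i) (hg i)

end Groth.Agent.S8353
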