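import Groth.Statements.S8357
import Mathlib
import Groth.Agent.Lib.Helper12.LieE

set_option autoImplicit false
universe u
open CategoryTheory MonObj AlgebraicGeometry
open LieS

namespace Groth.Agent.S8357

open Groth.Agent.Lib.Helper12 in
theorem add_smul' {S : Scheme.{u}} (G : Over S) [GrpObj G] (B : Type u) [CommRing B]
    (f : Spec (CommRingCat.of B) ⟶ S) (v : LieS.Lie G B f) (b c : B) :
    ((b + c) • v : LieS.Lie G B f) = (b • v) * (c • v) :=
  Subtype.ext (LieE.key f G v.1 v.2 b c).symm

open Groth.Agent.Lib.Helper12 in
theorem one_smul' {S : Scheme.{u}} (G : Over S) [GrpObj G] (B : Type u) [CommRing B]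
    (f : Spec (CommRingCat.of B) ⟶ S) (v : LieS.Lie G B f) :
    ((1 : B) • v : LieS.Lie G B f) = v := by
  apply Subtype.ext
  rw [LieS.smul_val, LieE.scale_one, Category.id_comp]

theorem zero_smul' {S : Scheme.{u}} (G : Over S) [GrpObj G] (B : Type u) [CommRing B]
    (f : Spec (CommRingCat.of B) ⟶ S) (v : LieS.Lie G B f) :
    ((0 : B) • v : LieS.Lie G B f) = 1 := by
  have h := add_smul' G B f v 0 0
  rw [add_zero] at h
  exact (mul_eq_left.mp h.symm)


/-- For a group scheme G over a scheme S and an affine S-scheme T = Spec B, the map induced on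
Lie(G/S)(T) by the n-th power map of G is multiplication by n; that is, for v in Lie(G/S)(T) and an
integer n, the n-th power of v in the group law inherited from G is the rescaling of v by the image
of n in B. -/
theorem result (S : Scheme.{u}) (G : Over S) [GrpObj G] (B : Type u) [CommRing B]
    (f : Spec (CommRingCat.of B) ⟶ S) (v : LieS.Lie G B f) (n : ℤ) :
    v ^ n = ((n : B) • v : LieS.Lie G B f) := by
  induction n using Int.induction_on with
  | zero => rw [zpow_zero, Int.cast_zero, zero_smul']
  | succ n ih =>
    rw [zpow_add_one, ih, Int.cast_add, Int.cast_one, add_smul', one_smul']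
  | pred n ih =>
    rw [zpow_sub_one, ih, Int.cast_sub, Int.cast_one]
    have h := add_smul' G B f v ((-(n : ℤ) : ℤ) - 1 : B) 1
    rw [sub_add_cancel, one_smul'] at h
    rw [h, mul_inv_cancel_right]

end Groth.Agent.S8357
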