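import Groth.Statements.S8358
import Mathlib

set_option autoImplicit false
universe u
open CategoryTheory MonObj AlgebraicGeometry
open LieS

namespace Groth.Agent.S8358

section Helpers

variable {R : Type u} [CommRing R] {A : Type u} [CommRing A] [Bialgebra R A]

/-- Lemma L -/
theorem symm_comp {T T' : Type u} [CommRing T] [CommRing T'] [Algebra R T] [Algebra R T']
    (g : T →ₐ[R] T')
    (x : (Spec (CommRingCat.of T)).asOver (Spec (CommRingCat.of R)) ⟶
      (Spec (CommRingCat.of A)).asOver (Spec (CommRingCat.of R))) :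
    Spec.mapMulEquiv.symm ((Spec.map (CommRingCat.ofHom g.toRingHom)).asOver _ ≫ x) =
      WithConv.toConv (g.comp (Spec.mapMulEquiv.symm x).ofConv) := by
  apply Spec.mapMulEquiv.injective
  rw [MulEquiv.apply_symm_apply]
  have hx : x = Spec.mapMulEquiv (Spec.mapMulEquiv.symm x) := (MulEquiv.apply_symm_apply _ _).symm
  conv_lhs => rw [hx]
  ext1
  simp [Spec.mapMulEquiv, AlgHom.comp_toRingHom]
  rfl

variable (R : Type u) [CommRing R] (M : Type) [AddCommGroup M] (B : Type u) [CommRing B] [Algebra R B]

/-- Φ -/
noncomputable def Phi (x : dpt B (Spec.map (CommRingCat.ofHom (algebraMap R B))) ⟶ Red.diag R M) :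
    WithConv (MonoidAlgebra R (Multiplicative M) →ₐ[R] DualNumber B) :=
  Spec.mapMulEquiv.symm ((LieS.dptIso B).inv ≫ x)

theorem Phi_mul (x y : dpt B (Spec.map (CommRingCat.ofHom (algebraMap R B))) ⟶ Red.diag R M) :
    Phi R M B (x * y) = Phi R M B x * Phi R M B y := by
  unfold Phi
  rw [MonObj.comp_mul, map_mul]

theorem Phi_injective : Function.Injective (Phi R M B) := by
  intro x y h
  unfold Phi at h
  have := Spec.mapMulEquiv.symm.injective h
  exact (cancel_epi _).1 this

theorem Phi_surjective : Function.Surjective (Phi R M B) := by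
  intro ψ
  refine ⟨(LieS.dptIso B).hom ≫ Spec.mapMulEquiv ψ, ?_⟩
  unfold Phi
  rw [Iso.inv_hom_id_assoc, MulEquiv.symm_apply_apply]

noncomputable def fstAlg : DualNumber B →ₐ[R] B := TrivSqZeroExt.fstHom R B B

/-- `pt` as `asOver` -/
noncomputable def ptIso : (Spec (CommRingCat.of B)).asOver (Spec (CommRingCat.of R)) ≅
    pt B (Spec.map (CommRingCat.ofHom (algebraMap R B))) :=
  Over.isoMk (Iso.refl _) (by
    change 𝟙 _ ≫ Spec.map _ = Spec.map _
    rw [Category.id_comp])

theorem zeroSec_comp (x : dpt B (Spec.map (CommRingCat.ofHom (algebraMap R B))) ⟶ Red.diag R M) :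
    (ptIso R B).hom ≫ zeroSec B (Spec.map (CommRingCat.ofHom (algebraMap R B))) ≫ x =
    (Spec.map (CommRingCat.ofHom (fstAlg R B).toRingHom)).asOver (Spec (CommRingCat.of R)) ≫
      (LieS.dptIso B).inv ≫ x := by
  ext1
  simp [zeroSec, dptIso, fstAlg, ptIso]
  rfl

/-- restriction to the zero section, in conv terms -/
theorem symm_zeroSec_comp (x : dpt B (Spec.map (CommRingCat.ofHom (algebraMap R B))) ⟶ Red.diag R M) :
    (Spec.mapMulEquiv.symm
      ((ptIso R B).hom ≫ zeroSec B (Spec.map (CommRingCat.ofHom (algebraMap R B))) ≫ x) :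
      WithConv (MonoidAlgebra R (Multiplicative M) →ₐ[R] B)) =
    WithConv.toConv ((fstAlg R B).comp (Phi R M B x).ofConv) := by
  rw [zeroSec_comp, symm_comp]
  rfl

theorem mem_iff (x : dpt B (Spec.map (CommRingCat.ofHom (algebraMap R B))) ⟶ Red.diag R M) :
    x ∈ LieS.LieR (Red.diag R M) B ↔
      ∀ m : Multiplicative M, TrivSqZeroExt.fst ((Phi R M B x).ofConv (MonoidAlgebra.single m 1)) = 1 := by
  rw [LieS.mem_Lie_iff]
  have h1 := symm_zeroSec_comp R M B x
  constructor
  · intro h m
    rw [h, MonObj.comp_one, map_one] at h1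
    have h3 := congrArg (fun ψ => ψ.ofConv (MonoidAlgebra.single m 1)) h1
    simp only [AlgHom.convOne_apply] at h3
    rw [MonoidAlgebra.counit_single] at h3
    simpa [fstAlg] using h3.symm
  · intro h
    rw [← cancel_epi (ptIso R B).hom, MonObj.comp_one]
    apply Spec.mapMulEquiv.symm.injective
    rw [h1, map_one, AlgHom.convOne_def]
    congr 1
    refine MonoidAlgebra.algHom_ext (fun m => ?_) (Subsingleton.elim _ _)
    simp [fstAlg, h m]

/-- the rescaling as an `R`-algebra hom -/
noncomputable def scaleAlg (b : B) : DualNumber B →ₐ[R] DualNumber B :=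
  { LieS.scaleHom b with
    commutes' := fun r => by
      have h := congrArg (fun φ : B →+* DualNumber B => φ (algebraMap R B r))
        (LieS.scaleHom_comp_algebraMap b)
      have h2 : algebraMap R (DualNumber B) r = algebraMap B (DualNumber B) (algebraMap R B r) := by
        rw [← LieS.algebraMap_comp_eq (R := R) B]; rfl
      change LieS.scaleHom b (algebraMap R (DualNumber B) r) = algebraMap R (DualNumber B) r
      rw [h2]
      exact h }

theorem scale_comp (b : B) (x : dpt B (Spec.map (CommRingCat.ofHom (algebraMap R B))) ⟶ Red.diag R M) :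
    (LieS.dptIso B).inv ≫ scale B (Spec.map (CommRingCat.ofHom (algebraMap R B))) b ≫ x =
    (Spec.map (CommRingCat.ofHom (scaleAlg R B b).toRingHom)).asOver (Spec (CommRingCat.of R)) ≫
      (LieS.dptIso B).inv ≫ x := by
  ext1
  simp [scale, dptIso, scaleAlg]
  rfl

theorem Phi_scale (b : B) (x : dpt B (Spec.map (CommRingCat.ofHom (algebraMap R B))) ⟶ Red.diag R M) :
    Phi R M B (scale B (Spec.map (CommRingCat.ofHom (algebraMap R B))) b ≫ x) =
      WithConv.toConv ((scaleAlg R B b).comp (Phi R M B x).ofConv) := by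
  unfold Phi
  rw [scale_comp, symm_comp]

theorem snd_scaleAlg (b : B) (y : DualNumber B) :
    TrivSqZeroExt.snd (scaleAlg R B b y) = b * TrivSqZeroExt.snd y := by
  change TrivSqZeroExt.snd (LieS.scaleHom b y) = _
  simp [LieS.scaleHom, TrivSqZeroExt.algebraMap_eq_inl']
  ring

/-- the additive character of a Lie element -/
noncomputable def lam (v : LieS.LieR (Red.diag R M) B) : M →+ B where
  toFun m := TrivSqZeroExt.snd
    ((Phi R M B v.1).ofConv (MonoidAlgebra.single (Multiplicative.ofAdd m) 1))
  map_zero' := by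
    rw [ofAdd_zero, ← MonoidAlgebra.one_def, map_one, TrivSqZeroExt.snd_one]
  map_add' m n := by
    have hm := (mem_iff R M B v.1).1 v.2 (Multiplicative.ofAdd m)
    have hn := (mem_iff R M B v.1).1 v.2 (Multiplicative.ofAdd n)
    rw [ofAdd_add, ← _root_.mul_one (1 : R), ← MonoidAlgebra.single_mul_single, map_mul,
      TrivSqZeroExt.snd_mul, hm, hn]
    simp [add_comm]

theorem lam_apply (v : LieS.LieR (Red.diag R M) B) (m : M) :
    lam R M B v m = TrivSqZeroExt.snd
      ((Phi R M B v.1).ofConv (MonoidAlgebra.single (Multiplicative.ofAdd m) 1)) := rfl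

theorem lam_mul (v w : LieS.LieR (Red.diag R M) B) : lam R M B (v * w) = lam R M B v + lam R M B w := by
  ext m
  have hv := (mem_iff R M B v.1).1 v.2 (Multiplicative.ofAdd m)
  have hw := (mem_iff R M B w.1).1 w.2 (Multiplicative.ofAdd m)
  rw [AddMonoidHom.add_apply, lam_apply, lam_apply, lam_apply, Subgroup.coe_mul, Phi_mul,
    AlgHom.convMul_apply, MonoidAlgebra.comul_single]
  simp [TrivSqZeroExt.snd_mul, hv, hw, add_comm]

theorem lam_injective : Function.Injective (lam R M B) := by
  intro v w h
  apply Subtype.ext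
  apply Phi_injective R M B
  apply WithConv.ofConv_injective
  refine MonoidAlgebra.algHom_ext (fun m => ?_) (Subsingleton.elim _ _)
  have hv := (mem_iff R M B v.1).1 v.2 m
  have hw := (mem_iff R M B w.1).1 w.2 m
  have h1 := congrArg (fun l : M →+ B => l (Multiplicative.toAdd m)) h
  simp only [lam_apply, ofAdd_toAdd] at h1
  exact TrivSqZeroExt.ext (hv.trans hw.symm) h1

/-- the character `m ↦ 1 + ε l(m)` -/
noncomputable def chi (l : M →+ B) : Multiplicative M →* DualNumber B where
  toFun m := TrivSqZeroExt.inl 1 + TrivSqZeroExt.inr (l (Multiplicative.toAdd m))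
  map_one' := by simp
  map_mul' m n := by
    apply TrivSqZeroExt.ext <;> simp [TrivSqZeroExt.snd_mul, add_comm]

theorem lam_surjective : Function.Surjective (lam R M B) := by
  intro l
  obtain ⟨x, hx⟩ := Phi_surjective R M B
    (WithConv.toConv (MonoidAlgebra.lift R (DualNumber B) (Multiplicative M) (chi M B l)))
  have hmem : x ∈ LieS.LieR (Red.diag R M) B := by
    rw [mem_iff, hx]
    intro m
    simp [chi]
  refine ⟨⟨x, hmem⟩, ?_⟩
  ext m
  rw [lam_apply]
  simp only [hx]
  simp [chi]

theorem lam_smul (b : B) (v : LieS.LieR (Red.diag R M) B) : lam R M B (b • v) = b • lam R M B v := by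
  ext m
  rw [lam_apply, LieS.smul_val, Phi_scale]
  simp only [AlgHom.comp_apply, snd_scaleAlg]
  rfl


end Helpers

/-- First isomorphism: over an affine base: for a commutative ring R, a commutative group M, the
diagonalisable group D(M) = Spec R[M] over Spec R and a commutative R-algebra B, the group
Lie(D(M))(Spec B) is identified with the additive group Hom(M, B) of group homomorphisms: there is a
multiplicative isomorphism which sends a point v of D(M) with values in B[ε], read as an R-algebra
homomorphism from R[M] to B[ε], to the homomorphism m ↦ (ε-coefficient of the image of m), and which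
carries the rescaling action of b in B to multiplication of homomorphisms by b. -/
theorem result (R : Type u) [CommRing R] (M : Type) [AddCommGroup M]
    (B : Type u) [CommRing B] [Algebra R B] :
    ∃ e : LieS.LieR (Red.diag R M) B ≃* Multiplicative (M →+ B),
      (∀ (v : LieS.LieR (Red.diag R M) B) (m : M),
        Multiplicative.toAdd (e v) m =
          TrivSqZeroExt.snd (((Spec.mapMulEquiv.symm ((LieS.dptIso B).inv ≫ v.1)).ofConv :
            MonoidAlgebra R (Multiplicative M) →ₐ[R] DualNumber B)
            (MonoidAlgebra.single (Multiplicative.ofAdd m) 1))) ∧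
      ∀ (b : B) (v : LieS.LieR (Red.diag R M) B),
        e (b • v) = Multiplicative.ofAdd (b • Multiplicative.toAdd (e v)) := by
  refine ⟨MulEquiv.ofBijective (MonoidHom.mk' (fun v => Multiplicative.ofAdd (lam R M B v))
    (fun v w => by rw [lam_mul]; rfl)) ⟨?_, ?_⟩, ?_, ?_⟩
  · intro v w h
    exact lam_injective R M B (Multiplicative.ofAdd.injective h)
  · intro l
    obtain ⟨v, hv⟩ := lam_surjective R M B (Multiplicative.toAdd l)
    exact ⟨v, by change Multiplicative.ofAdd (lam R M B v) = l; rw [hv]; rfl⟩
  · intro v m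
    rfl
  · intro b v
    change Multiplicative.ofAdd (lam R M B (b • v)) = Multiplicative.ofAdd (b • lam R M B v)
    rw [lam_smul]

end Groth.Agent.S8358
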