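import Groth.Statements.S8361
import Mathlib
import Groth.Agent.Lib.Helper12.QuotDesc

set_option autoImplicit false
universe u
open CategoryTheory MonObj AlgebraicGeometry
open LieS

namespace Groth.Agent.S8361

open Groth.Agent.Lib.Helper12 in
theorem epi_specMap {R A C : CommRingCat.{u}} (φ : R ⟶ A)
    (hφ : Function.Injective φ.hom) (σ : A ⟶ C)
    (hs : Function.Surjective (φ ≫ σ).hom) (hk : RingHom.ker (φ ≫ σ).hom ≤ nilradical R)
    {Z : Scheme.{u}} (k₁ k₂ : Spec R ⟶ Z)
    (hk12 : Spec.map φ ≫ k₁ = Spec.map φ ≫ k₂) :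
    k₁ = k₂ := by
  have hhomeo : IsHomeomorph (PrimeSpectrum.comap (φ ≫ σ).hom) :=
    PrimeSpectrum.isHomeomorph_comap _ (fun x => ⟨1, Nat.one_pos, by
      obtain ⟨y, hy⟩ := hs x
      exact ⟨y, by rw [pow_one]; exact hy⟩⟩) hk
  have h1 : Topology.IsQuotientMap (Spec.map φ).base := by
    refine Topology.IsQuotientMap.of_comp (f := PrimeSpectrum.comap σ.hom)
      (PrimeSpectrum.continuous_comap σ.hom) (PrimeSpectrum.continuous_comap φ.hom) ?_
    exact hhomeo.isQuotientMap
  have hdom : IsSchemeTheoreticallyDominant (Spec.map φ) := by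
    rw [isSchemeTheoreticallyDominant_iff, Scheme.ker_of_isAffine]
    have : RingHom.ker (Spec.map φ).appTop.hom = ⊥ := by
      rw [← RingHom.injective_iff_ker_eq_bot]
      intro a b hab
      have nat := fun c => congrArg (fun k => k.hom c)
        (Scheme.ΓSpecIso_naturality φ)
      have e1 : φ.hom ((Scheme.ΓSpecIso R).hom a) =
          φ.hom ((Scheme.ΓSpecIso R).hom b) := by
        have ha := nat a
        have hb := nat b
        simp only [CommRingCat.hom_comp, RingHom.coe_comp, Function.comp_apply] at ha hb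
        rw [← ha, ← hb]
        exact congrArg _ hab
      have e2 := hφ e1
      exact (ConcreteCategory.bijective_of_isIso (Scheme.ΓSpecIso R).hom).1 e2
    rw [this]
    exact map_bot (Scheme.IdealSheafData.equivOfIsAffine (X := Spec R)).symm
  exact QuotDesc.Sch.uniq _ h1 (fun V => Scheme.Hom.app_injective _ V) k₁ k₂ hk12

/-- Uniqueness of the bracket: for a group scheme G over a scheme S and an affine S-scheme T = Spec B:
an element of Lie(G/S)(T) is determined by its pull-back along the coordinate-multiplying map from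
the iterated dual numbers over T to the dual numbers over T; in particular the bracket of x and y,
the element whose pull-back is the commutator of x read in the second dual coordinate with y read in
the first, is unique when it exists. -/
theorem result (S : Scheme.{u}) (G : Over S) [GrpObj G] (B : Type u) [CommRing B]
    (f : Spec (CommRingCat.of B) ⟶ S) (x y z z' : LieS.Lie G B f)
    (h : LieS.IsBracket G B f x y z) (h' : LieS.IsBracket G B f x y z') : z = z' := by
  apply Subtype.ext
  apply Over.OverMorphism.ext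
  have e : (mulMap B f ≫ z.1).left = (mulMap B f ≫ z'.1).left :=
    congrArg (fun k => k.left) (h.trans h'.symm)
  let σ : D2 B →+* B := (TrivSqZeroExt.fstHom B B B).toRingHom.comp
    (TrivSqZeroExt.fstHom (DualNumber B) (DualNumber B) (DualNumber B)).toRingHom
  have hσ : σ.comp (mulHom B) = (TrivSqZeroExt.fstHom B B B).toRingHom := by
    refine RingHom.ext fun x => ?_
    simp [σ, mulHom, TrivSqZeroExt.algebraMap_eq_inl']
  let k₁ : Spec (CommRingCat.of (DualNumber B)) ⟶ G.left := z.1.left
  let k₂ : Spec (CommRingCat.of (DualNumber B)) ⟶ G.left := z'.1.left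
  let m : CommRingCat.of (DualNumber B) ⟶ CommRingCat.of (D2 B) := CommRingCat.ofHom (mulHom B)
  have e' : Spec.map m ≫ k₁ = Spec.map m ≫ k₂ := e
  change k₁ = k₂
  have hσ' : (m ≫ CommRingCat.ofHom σ).hom = (TrivSqZeroExt.fstHom B B B).toRingHom := hσ
  refine epi_specMap m ?_ (CommRingCat.ofHom σ) ?_ ?_ k₁ k₂ e'
  · intro a b hab
    have hab' : mulHom B a = mulHom B b := hab
    have h1 := congrArg (fun t : D2 B => t.fst.fst) hab'
    have h2 := congrArg (fun t : D2 B => t.snd.snd) hab'
    simp [mulHom, TrivSqZeroExt.algebraMap_eq_inl'] at h1 h2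
    exact TrivSqZeroExt.ext h1 h2
  · rw [hσ']
    intro b
    exact ⟨TrivSqZeroExt.inl b, by simp⟩
  · rw [hσ']
    intro x hx
    rw [RingHom.mem_ker] at hx
    rw [mem_nilradical]
    refine ⟨2, ?_⟩
    have hx' : x.fst = 0 := hx
    rw [pow_two]
    apply TrivSqZeroExt.ext
    · simp [hx']
    · simp [hx']

end Groth.Agent.S8361
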