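import Groth.Statements.S8362
import Mathlib
-- import your own Groth.Agent.* helpers here

set_option autoImplicit false
universe u
open CategoryTheory AlgebraicGeometry
open SGA3

namespace Groth.Agent.S8362

open CategoryTheory.Limits

/-- algebra: an `R`-linear ring endomorphism congruent to the identity modulo a square-zero ideal
is bijective. -/
lemma bijective_of_congr {R B : Type u} [CommRing R] [CommRing B] (J : Ideal R) (hJ : J * J = ⊥)
    (α : R →+* B) (φ : B →+* B) (hα : ∀ r, φ (α r) = α r) (hφ : ∀ b, φ b - b ∈ J.map α) :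
    Function.Bijective φ := by
  have hsq : J.map α * J.map α = ⊥ := by rw [← Ideal.map_mul, hJ, Ideal.map_bot]
  have hfix : ∀ x ∈ J.map α, φ x = x := by
    intro x hx
    refine Submodule.span_induction (p := fun x _ => φ x = x) ?_ ?_ ?_ ?_ hx
    · rintro _ ⟨j, -, rfl⟩; exact hα j
    · simp
    · intro x y _ _ hx hy; rw [map_add, hx, hy]
    · intro b x hx' hx
      rw [smul_eq_mul, map_mul, hx]
      have h0 : (φ b - b) * x ∈ J.map α * J.map α := Ideal.mul_mem_mul (hφ b) hx'
      rw [hsq, Ideal.mem_bot] at h0
      linear_combination h0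
  constructor
  · rw [injective_iff_map_eq_zero]
    intro b hb
    have hb' : b ∈ J.map α := by
      have := hφ b
      rw [hb, zero_sub] at this
      simpa using (J.map α).neg_mem this
    rw [← hfix b hb', hb]
  · intro b
    refine ⟨b - (φ b - b), ?_⟩
    rw [map_sub, hfix _ (hφ b)]
    ring

lemma mem_range_comap_mk {R : Type u} [CommRing R] (J : Ideal R) (hJ : J * J = ⊥)
    (x : PrimeSpectrum R) : x ∈ Set.range (PrimeSpectrum.comap (Ideal.Quotient.mk J)) := by
  have hx : J ≤ x.asIdeal := by
    intro j hj
    have : j * j ∈ J * J := Ideal.mul_mem_mul hj hj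
    rw [hJ, Ideal.mem_bot] at this
    have h0 : j * j ∈ x.asIdeal := by rw [this]; exact x.asIdeal.zero_mem
    exact (x.isPrime.mem_or_mem h0).elim id id
  rw [range_comap_of_surjective _ _ Ideal.Quotient.mk_surjective,
    PrimeSpectrum.mem_zeroLocus, Ideal.mk_ker]
  exact hx

lemma surj_spec_mk {R : Type u} [CommRing R] (J : Ideal R) (hJ : J * J = ⊥) :
    Function.Surjective (Spec.map (CommRingCat.ofHom (Ideal.Quotient.mk J))) := by
  intro x
  obtain ⟨y, hy⟩ := mem_range_comap_mk J hJ x
  exact ⟨y, hy⟩

/-- Over an affine base S = Spec R with S₀ = Spec (R/J) for an ideal J of square zero: for an arbitrary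
S-scheme X, every S-endomorphism of X inducing the identity on X ×_S S₀ is an automorphism. (The
published statement is over an arbitrary base scheme with a quasi-coherent ideal of square zero;
this row is its case of an affine base, to which it reduces since being an isomorphism is local on
the base.) -/
theorem result (R : Type u) [CommRing R] (J : Ideal R) (hJ : J * J = ⊥)
    (X : Over (Spec (CommRingCat.of R))) (u : X ⟶ X)
    (h : (Over.pullback (Spec.map (CommRingCat.ofHom (Ideal.Quotient.mk J)))).map u = 𝟙 _) :
    IsIso u := by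
  set ι := Spec.map (CommRingCat.ofHom (Ideal.Quotient.mk J)) with hι
  haveI hsurjι : Surjective ι := ⟨surj_spec_mk J hJ⟩
  have hfst : pullback.fst X.hom ι ≫ u.left = pullback.fst X.hom ι := by
    have h' := congrArg (fun m => m.left) h
    simp only [Over.pullback_map_left, Over.id_left] at h'
    have := congrArg (fun m => m ≫ pullback.fst X.hom ι) h'
    simp only [pullback.lift_fst] at this
    exact this
  have hsurj : Function.Surjective (pullback.fst X.hom ι) :=
    (inferInstance : Surjective (pullback.fst X.hom ι)).surj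
  have hpt : ∀ x : X.left, u.left x = x := by
    intro x
    obtain ⟨y, rfl⟩ := hsurj x
    have := congrArg (fun m => m y) hfst
    simpa using this
  have key : ∀ (B : CommRingCat.{u}) (j : Spec B ⟶ X.left) [IsOpenImmersion j],
      IsIso (pullback.snd u.left j) := by
    intro B j _
    have hrange : Set.range (j ≫ u.left) ⊆ Set.range j := by
      rintro _ ⟨y, rfl⟩
      exact ⟨y, by simp [hpt]⟩
    obtain ⟨g, hg⟩ : ∃ g : Spec B ⟶ Spec B, g ≫ j = j ≫ u.left :=
      ⟨IsOpenImmersion.lift j (j ≫ u.left) hrange, IsOpenImmersion.lift_fac _ _ _⟩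
    obtain ⟨φ, hφ⟩ := Spec.map_surjective g
    obtain ⟨α, hα⟩ := Spec.map_surjective (j ≫ X.hom)
    have h1 : Spec.map φ ≫ Spec.map α = Spec.map α := by
      rw [hφ, hα, ← Category.assoc, hg, Category.assoc, Over.w u]
    have h1' : α ≫ φ = α := Spec.map_injective (by rw [Spec.map_comp]; exact h1)
    let q : B ⟶ CommRingCat.of (B ⧸ J.map α.hom) := CommRingCat.ofHom (Ideal.Quotient.mk _)
    let ψ : CommRingCat.of (R ⧸ J) ⟶ CommRingCat.of (B ⧸ J.map α.hom) :=
      CommRingCat.ofHom (Ideal.quotientMap _ α.hom Ideal.le_comap_map)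
    have hψ : CommRingCat.ofHom (Ideal.Quotient.mk J) ≫ ψ = α ≫ q := by
      ext r
      simp [ψ, q]
    obtain ⟨z, hz⟩ : ∃ z : Spec (CommRingCat.of (B ⧸ J.map α.hom)) ⟶ X.left,
        z = Spec.map q ≫ j := ⟨_, rfl⟩
    have hzS : z ≫ X.hom = Spec.map ψ ≫ ι := by
      rw [hz, Category.assoc, ← hα, hι, ← Spec.map_comp, ← Spec.map_comp, hψ]
    have hzu : z ≫ u.left = z := by
      have hl : pullback.lift z (Spec.map ψ) hzS ≫ pullback.fst X.hom ι = z :=
        pullback.lift_fst _ _ _
      rw [← hl, Category.assoc, hfst]
    have h2 : Spec.map q ≫ Spec.map φ = Spec.map q := by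
      rw [← cancel_mono j, Category.assoc, hφ, hg, ← Category.assoc, ← hz]
      exact hzu
    have h2' : φ ≫ q = q := Spec.map_injective (by rw [Spec.map_comp]; exact h2)
    have hbij : Function.Bijective φ.hom := by
      refine bijective_of_congr J hJ α.hom φ.hom (fun r => ?_) (fun b => ?_)
      · exact congrArg (fun m => m.hom r) h1'
      · have := congrArg (fun m => m.hom b) h2'
        exact Ideal.Quotient.eq.mp this
    haveI : IsIso φ := (ConcreteCategory.isIso_iff_bijective φ).mpr hbij
    haveI : IsIso g := by rw [← hφ]; infer_instance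
    have hpb : IsPullback g j j u.left := by
      refine IsOpenImmersion.isPullback g j j u.left hg.symm ?_
      ext x
      simp [hpt]
    rw [← hpb.flip.isoPullback_inv_snd]
    infer_instance
  suffices hh : IsIso u.left by
    haveI : IsIso ((Over.forget (Spec (CommRingCat.of R))).map u) := hh
    exact isIso_of_reflects_iso u (Over.forget _)
  have := (IsZariskiLocalAtTarget.iff_of_openCover (P := MorphismProperty.isomorphisms Scheme)
    (f := u.left) X.left.affineOpenCover.openCover).mpr (fun i => by
      haveI : IsOpenImmersion (X.left.affineOpenCover.openCover.f i) :=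
        X.left.affineOpenCover.openCover.map_prop i
      have := @key (X.left.affineOpenCover.X i) (X.left.affineOpenCover.openCover.f i)
        (X.left.affineOpenCover.openCover.map_prop i)
      exact this)
  exact this

end Groth.Agent.S8362
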