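import Groth.Statements.S8363
import Mathlib
import Groth.Agent.Lib.Helper12.SpecPushout

set_option autoImplicit false
universe u
open CategoryTheory MonObj AlgebraicGeometry
open SGA3

namespace Groth.Agent.S8363

open CategoryTheory AlgebraicGeometry MonObj Limits
open Groth.Agent.Lib.Helper12.SpecPushout

section Rings
variable {C C₀ : Type u} [CommRing C] [CommRing C₀] (p : C →+* C₀)

/-- `C ×_{C₀} C` -/
abbrev P₁ : Subring (C × C) := Pr p p

/-- `(C ×_{C₀} C) ×_{C₀} C` -/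
abbrev P₂ : Subring (P₁ p × C) := Pr p (p.comp (φ₁ p p))

/-- the diagonal `C → C ×_{C₀} C` -/
def δ : C →+* P₁ p := (RingHom.prod (RingHom.id C) (RingHom.id C)).codRestrict (P₁ p) (fun _ => rfl)

@[simp] theorem φ₁_δ (c : C) : φ₁ p p (δ p c) = c := rfl
@[simp] theorem φ₂_δ (c : C) : φ₂ p p (δ p c) = c := rfl

/-- `(x,y) ↦ ((x,y),y)` -/
def ρ : P₁ p →+* P₂ p :=
  (RingHom.prod (RingHom.id (P₁ p)) (φ₂ p p)).codRestrict (P₂ p) (fun x => q_φ₁ p p x)

/-- `(x,y) ↦ ((x,x),y)` -/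
def ρ' : P₁ p →+* P₂ p :=
  (RingHom.prod ((δ p).comp (φ₁ p p)) (φ₂ p p)).codRestrict (P₂ p) (fun x => q_φ₁ p p x)

/-- first inclusion -/
def e₁ : P₂ p →+* C := (φ₁ p p).comp (φ₁ p (p.comp (φ₁ p p)))
/-- second inclusion -/
def e₂ : P₂ p →+* C := (φ₂ p p).comp (φ₁ p (p.comp (φ₁ p p)))
/-- third inclusion -/
def e₃ : P₂ p →+* C := φ₂ p (p.comp (φ₁ p p))

theorem p_e₁₂ (x : P₂ p) : p (e₁ p x) = p (e₂ p x) := q_φ₁ p p _
theorem p_e₁₃ (x : P₂ p) : p (e₁ p x) = p (e₃ p x) := q_φ₁ p (p.comp (φ₁ p p)) x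

/-- the heap map `((a,b),c) ↦ a - b + c`, a ring hom when `ker p` has square zero -/
def hh (hsq : ∀ x y : C, p x = 0 → p y = 0 → x * y = 0) : P₂ p →+* C where
  toFun x := e₁ p x - e₂ p x + e₃ p x
  map_one' := by simp
  map_zero' := by simp
  map_add' x y := by simp only [map_add]; ring
  map_mul' x y := by
    simp only [map_mul]
    have h1 : p (e₁ p x - e₂ p x) = 0 := by rw [map_sub, p_e₁₂, sub_self]
    have h2 : p (e₁ p y - e₂ p y) = 0 := by rw [map_sub, p_e₁₂, sub_self]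
    have h3 : p (e₃ p x - e₂ p x) = 0 := by rw [map_sub, ← p_e₁₃, p_e₁₂, sub_self]
    have h4 : p (e₃ p y - e₂ p y) = 0 := by rw [map_sub, ← p_e₁₃, p_e₁₂, sub_self]
    have k2 := hsq _ _ h1 h4
    have k3 := hsq _ _ h3 h2
    linear_combination (-1 : C) * k2 - k3

theorem e₁_ρ : (e₁ p).comp (ρ p) = φ₁ p p := rfl
theorem e₂_ρ : (e₂ p).comp (ρ p) = φ₂ p p := rfl
theorem e₃_ρ : (e₃ p).comp (ρ p) = φ₂ p p := rfl
theorem e₁_ρ' : (e₁ p).comp (ρ' p) = φ₁ p p := rfl
theorem e₂_ρ' : (e₂ p).comp (ρ' p) = φ₁ p p := rfl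
theorem e₃_ρ' : (e₃ p).comp (ρ' p) = φ₂ p p := rfl

theorem hh_ρ (hsq : ∀ x y : C, p x = 0 → p y = 0 → x * y = 0) : (hh p hsq).comp (ρ p) = φ₁ p p := by
  ext x
  change e₁ p (ρ p x) - e₂ p (ρ p x) + e₃ p (ρ p x) = _
  change φ₁ p p x - φ₂ p p x + φ₂ p p x = _
  ring

theorem hh_ρ' (hsq : ∀ x y : C, p x = 0 → p y = 0 → x * y = 0) : (hh p hsq).comp (ρ' p) = φ₂ p p := by
  ext x
  change φ₁ p p x - φ₁ p p x + φ₂ p p x = _
  ring

end Rings

section Affine
variable {R : Type u} [CommRing R]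

/-- `Spec D` over `Spec R` through `s : R → D` -/
noncomputable abbrev ob {D : Type u} [CommRing D] (s : R →+* D) : Over (Spec (CommRingCat.of R)) :=
  Over.mk (Spec.map (CommRingCat.ofHom s))

/-- `Spec φ` as a morphism over `Spec R` -/
noncomputable def om {D D' : Type u} [CommRing D] [CommRing D'] (s : R →+* D) (s' : R →+* D') (φ : D →+* D')
    (h : φ.comp s = s') : ob s' ⟶ ob s :=
  Over.homMk (Spec.map (CommRingCat.ofHom φ)) (by
    change Spec.map _ ≫ Spec.map _ = Spec.map _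
    rw [← Spec.map_comp, ← CommRingCat.ofHom_comp, h])

@[simp] theorem om_left {D D' : Type u} [CommRing D] [CommRing D'] (s : R →+* D) (s' : R →+* D')
    (φ : D →+* D') (h : φ.comp s = s') : (om s s' φ h).left = Spec.map (CommRingCat.ofHom φ) := rfl

theorem om_comp {D D' D'' : Type u} [CommRing D] [CommRing D'] [CommRing D''] (s : R →+* D)
    (s' : R →+* D') (s'' : R →+* D'') (φ : D →+* D') (h : φ.comp s = s') (ψ : D' →+* D'')
    (h' : ψ.comp s' = s'') :
    om s' s'' ψ h' ≫ om s s' φ h = om s s'' (ψ.comp φ) (by rw [RingHom.comp_assoc, h, h']) := by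
  ext1
  change Spec.map _ ≫ Spec.map _ = Spec.map _
  rw [← Spec.map_comp, ← CommRingCat.ofHom_comp]

variable {C C₀ : Type u} [CommRing C] [CommRing C₀] (α : R →+* C) (p : C →+* C₀)
  (hp : Function.Surjective p)
  (X : Over (Spec (CommRingCat.of R)))

/-- the structure map of `P₁` -/
abbrev s₁ : R →+* P₁ p := (δ p).comp α

/-- the structure map of `P₂` -/
abbrev s₂ : R →+* P₂ p := (ρ p).comp ((δ p).comp α)

theorem hφ₁ : (φ₁ p p).comp (s₁ α p) = α := rfl
theorem hφ₂ : (φ₂ p p).comp (s₁ α p) = α := rfl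
theorem hρ : (ρ p).comp (s₁ α p) = s₂ α p := rfl
theorem hρ' : (ρ' p).comp (s₁ α p) = s₂ α p := rfl
theorem he₁ : (e₁ p).comp (s₂ α p) = α := rfl
theorem he₂ : (e₂ p).comp (s₂ α p) = α := rfl
theorem he₃ : (e₃ p).comp (s₂ α p) = α := rfl

theorem om_comp_eq {D D' D'' : Type u} [CommRing D] [CommRing D'] [CommRing D''] (s : R →+* D)
    (s' : R →+* D') (s'' : R →+* D'') (φ : D →+* D') (h : φ.comp s = s') (ψ : D' →+* D'')
    (h' : ψ.comp s' = s'') (χ : D →+* D'') (hχ : χ.comp s = s'') (e : ψ.comp φ = χ) :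
    om s' s'' ψ h' ≫ om s s' φ h = om s s'' χ hχ := by
  subst e
  exact om_comp s s' s'' φ h ψ h'

include hp in
theorem exists_glue₁ (a c : ob α ⟶ X)
    (hac : om α (p.comp α) p rfl ≫ a = om α (p.comp α) p rfl ≫ c) :
    ∃ v : ob (s₁ α p) ⟶ X,
      om (s₁ α p) α (φ₁ p p) (hφ₁ α p) ≫ v = a ∧ om (s₁ α p) α (φ₂ p p) (hφ₂ α p) ≫ v = c := by
  have hpo := isPushout_Pr (p := p) p hp
  have hw : Spec.map (CommRingCat.ofHom p) ≫ c.left = Spec.map (CommRingCat.ofHom p) ≫ a.left :=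
    (congrArg (fun k => k.left) hac).symm
  have hd : hpo.desc c.left a.left hw ≫ X.hom =
      Spec.map (CommRingCat.ofHom (s₁ α p)) := by
    apply hpo.hom_ext
    · rw [hpo.inl_desc_assoc, ← Spec.map_comp, ← CommRingCat.ofHom_comp]
      exact Over.w c
    · rw [hpo.inr_desc_assoc, ← Spec.map_comp, ← CommRingCat.ofHom_comp]
      exact Over.w a
  refine ⟨Over.homMk (hpo.desc c.left a.left hw) hd, ?_, ?_⟩
  · ext1
    exact hpo.inr_desc _ _ _
  · ext1
    exact hpo.inl_desc _ _ _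

include hp in
theorem hom_ext₂ (k k' : ob (s₂ α p) ⟶ X)
    (h₁ : om (s₂ α p) α (e₁ p) (he₁ α p) ≫ k = om (s₂ α p) α (e₁ p) (he₁ α p) ≫ k')
    (h₂ : om (s₂ α p) α (e₂ p) (he₂ α p) ≫ k = om (s₂ α p) α (e₂ p) (he₂ α p) ≫ k')
    (h₃ : om (s₂ α p) α (e₃ p) (he₃ α p) ≫ k = om (s₂ α p) α (e₃ p) (he₃ α p) ≫ k') :
    k = k' := by
  ext1
  apply (isPushout_Pr (p := p) (p.comp (φ₁ p p)) hp).hom_ext
  · exact congrArg (fun k => k.left) h₃
  · apply (isPushout_Pr (p := p) p hp).hom_ext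
    · have := congrArg (fun k => k.left) h₂
      simp only [Over.comp_left] at this
      rw [← Category.assoc, ← Spec.map_comp, ← CommRingCat.ofHom_comp,
        ← Category.assoc, ← Spec.map_comp, ← CommRingCat.ofHom_comp]
      exact this
    · have := congrArg (fun k => k.left) h₁
      simp only [Over.comp_left] at this
      rw [← Category.assoc, ← Spec.map_comp, ← CommRingCat.ofHom_comp,
        ← Category.assoc, ← Spec.map_comp, ← CommRingCat.ofHom_comp]
      exact this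

variable [GrpObj X]

include hp in
/-- **affine case**: points of `X` over `Spec C` that are trivial on `Spec C₀` commute, when
`ker (C → C₀)` has square zero. -/
theorem comm_of_affine (hsq : ∀ x y : C, p x = 0 → p y = 0 → x * y = 0) (a c : ob α ⟶ X)
    (ha : om α (p.comp α) p rfl ≫ a = 1) (hc : om α (p.comp α) p rfl ≫ c = 1) :
    a * c = c * a := by
  have h1 : om α (p.comp α) p rfl ≫ (1 : ob α ⟶ X) = 1 := MonObj.comp_one _
  obtain ⟨va, va₁, va₂⟩ := exists_glue₁ α p hp X a 1 (by rw [ha, h1])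
  obtain ⟨vc, vc₁, vc₂⟩ := exists_glue₁ α p hp X 1 c (by rw [hc, h1])
  -- the two points over `P₂`
  obtain ⟨wa, hwa⟩ : ∃ wa : ob (s₂ α p) ⟶ X, wa = om (s₁ α p) (s₂ α p) (ρ p) (hρ α p) ≫ va := ⟨_, rfl⟩
  obtain ⟨wc, hwc⟩ : ∃ wc : ob (s₂ α p) ⟶ X, wc = om (s₁ α p) (s₂ α p) (ρ' p) (hρ' α p) ≫ vc := ⟨_, rfl⟩
  have a₁ : om (s₂ α p) α (e₁ p) (he₁ α p) ≫ wa = a := by
    rw [hwa, ← Category.assoc, om_comp_eq _ _ _ _ _ _ _ _ (hφ₁ α p) (e₁_ρ p), va₁]
  have a₂ : om (s₂ α p) α (e₂ p) (he₂ α p) ≫ wa = 1 := by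
    rw [hwa, ← Category.assoc, om_comp_eq _ _ _ _ _ _ _ _ (hφ₂ α p) (e₂_ρ p), va₂]
  have a₃ : om (s₂ α p) α (e₃ p) (he₃ α p) ≫ wa = 1 := by
    rw [hwa, ← Category.assoc, om_comp_eq _ _ _ _ _ _ _ _ (hφ₂ α p) (e₃_ρ p), va₂]
  have c₁ : om (s₂ α p) α (e₁ p) (he₁ α p) ≫ wc = 1 := by
    rw [hwc, ← Category.assoc, om_comp_eq _ _ _ _ _ _ _ _ (hφ₁ α p) (e₁_ρ' p), vc₁]
  have c₂ : om (s₂ α p) α (e₂ p) (he₂ α p) ≫ wc = 1 := by
    rw [hwc, ← Category.assoc, om_comp_eq _ _ _ _ _ _ _ _ (hφ₁ α p) (e₂_ρ' p), vc₁]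
  have c₃ : om (s₂ α p) α (e₃ p) (he₃ α p) ≫ wc = c := by
    rw [hwc, ← Category.assoc, om_comp_eq _ _ _ _ _ _ _ _ (hφ₂ α p) (e₃_ρ' p), vc₂]
  have hcomm : wa * wc = wc * wa := by
    apply hom_ext₂ α p hp X
    · rw [MonObj.comp_mul, MonObj.comp_mul, a₁, c₁, _root_.mul_one, _root_.one_mul]
    · rw [MonObj.comp_mul, MonObj.comp_mul, a₂, c₂]
    · rw [MonObj.comp_mul, MonObj.comp_mul, a₃, c₃, _root_.mul_one, _root_.one_mul]
  -- pull back along the heap map
  have hα : (hh p hsq).comp (s₂ α p) = α := by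
    ext r
    change α r - α r + α r = α r
    ring
  have h2 := congrArg (fun k => om (s₂ α p) α (hh p hsq) hα ≫ k) hcomm
  simp only [MonObj.comp_mul] at h2
  have ea : om (s₂ α p) α (hh p hsq) hα ≫ wa = a := by
    rw [hwa, ← Category.assoc, om_comp_eq _ _ _ _ _ _ _ _ (hφ₁ α p) (hh_ρ p hsq), va₁]
  have ec : om (s₂ α p) α (hh p hsq) hα ≫ wc = c := by
    rw [hwc, ← Category.assoc, om_comp_eq _ _ _ _ _ _ _ _ (hφ₂ α p) (hh_ρ' p hsq), vc₂]
  rw [ea, ec] at h2
  exact h2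

end Affine

section BaseChange
variable {S S₀ : Scheme.{u}} (f : S₀ ⟶ S) (X : Over S) [GrpObj X] (Y : Over S) (g : Y ⟶ X)

/-- the counit `Y₀ ⟶ Y` -/
noncomputable abbrev cu : (Over.map f).obj ((Over.pullback f).obj Y) ⟶ Y :=
  (Over.mapPullbackAdj f).counit.app Y

theorem cu_comp_of_map_eq_one (hg : (Over.pullback f).map g = 1) : cu f Y ≫ g = 1 := by
  have h1 : (Over.pullback f).map g = (Over.pullback f).map (1 : Y ⟶ X) := by
    rw [hg, Functor.map_one]
  have h2 : (Over.map f).map ((Over.pullback f).map g) ≫ cu f X = cu f Y ≫ g :=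
    (Over.mapPullbackAdj f).counit.naturality g
  have h3 : (Over.map f).map ((Over.pullback f).map (1 : Y ⟶ X)) ≫ cu f X = cu f Y ≫ 1 :=
    (Over.mapPullbackAdj f).counit.naturality (1 : Y ⟶ X)
  rw [← h2, h1, h3, MonObj.comp_one]


theorem cu_comp_comp {Y' : Over S} (jj : Y' ⟶ Y) (hg : cu f Y ≫ g = 1) : cu f Y' ≫ jj ≫ g = 1 := by
  have h2 : (Over.map f).map ((Over.pullback f).map jj) ≫ cu f Y = cu f Y' ≫ jj :=
    (Over.mapPullbackAdj f).counit.naturality jj
  rw [← Category.assoc, ← h2, Category.assoc, hg, MonObj.comp_one]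

end BaseChange

section Final
variable (R : Type u) [CommRing R] (J : Ideal R) (hJ : J * J = ⊥)
    (X : Over (Spec (CommRingCat.of R))) [GrpObj X]

include hJ in
theorem comm_of_spec (C : CommRingCat.{u}) (y : Spec C ⟶ Spec (CommRingCat.of R))
    (a c : Over.mk y ⟶ X)
    (ha : cu (Spec.map (CommRingCat.ofHom (Ideal.Quotient.mk J))) (Over.mk y) ≫ a = 1)
    (hc : cu (Spec.map (CommRingCat.ofHom (Ideal.Quotient.mk J))) (Over.mk y) ≫ c = 1) :
    a * c = c * a := by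
  let α : CommRingCat.of R ⟶ C := Spec.preimage y
  have hα : Spec.map α = y := Spec.map_preimage y
  let I : Ideal C := J.map α.hom
  let p : C →+* C ⧸ I := Ideal.Quotient.mk I
  have hp : Function.Surjective p := Ideal.Quotient.mk_surjective
  have hsq : ∀ x z : C, p x = 0 → p z = 0 → x * z = 0 := by
    intro x z hx hz
    have hx' : x ∈ I := Ideal.Quotient.eq_zero_iff_mem.1 hx
    have hz' : z ∈ I := Ideal.Quotient.eq_zero_iff_mem.1 hz
    have : x * z ∈ I * I := Ideal.mul_mem_mul hx' hz'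
    rw [← Ideal.map_mul, hJ, Ideal.map_bot, Ideal.mem_bot] at this
    exact this
  let e : ob α.hom ≅ Over.mk y := Over.isoMk (Iso.refl _) (by
    change 𝟙 _ ≫ y = Spec.map (CommRingCat.ofHom α.hom)
    rw [Category.id_comp, ← hα]; rfl)
  -- the factorisation through the base change
  let ψ : R ⧸ J →+* C ⧸ I := Ideal.quotientMap I α.hom Ideal.le_comap_map
  have hψ : ψ.comp (Ideal.Quotient.mk J) = p.comp α.hom := by
    ext r; simp [ψ, p]
  have hcond : Spec.map (CommRingCat.ofHom p) ≫ y =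
      Spec.map (CommRingCat.ofHom ψ) ≫ Spec.map (CommRingCat.ofHom (Ideal.Quotient.mk J)) := by
    rw [← hα, ← Spec.map_comp, ← Spec.map_comp, ← CommRingCat.ofHom_comp, hψ]
    rfl
  let k : ob (p.comp α.hom) ⟶ (Over.map (Spec.map (CommRingCat.ofHom (Ideal.Quotient.mk J)))).obj
      ((Over.pullback (Spec.map (CommRingCat.ofHom (Ideal.Quotient.mk J)))).obj (Over.mk y)) :=
    Over.homMk (pullback.lift (Spec.map (CommRingCat.ofHom p)) (Spec.map (CommRingCat.ofHom ψ)) hcond) (by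
      change pullback.lift _ _ _ ≫ pullback.snd _ _ ≫
        Spec.map (CommRingCat.ofHom (Ideal.Quotient.mk J)) = Spec.map _
      rw [pullback.lift_snd_assoc, ← Spec.map_comp, ← CommRingCat.ofHom_comp, hψ])
  have hk : k ≫ cu (Spec.map (CommRingCat.ofHom (Ideal.Quotient.mk J))) (Over.mk y) =
      om α.hom (p.comp α.hom) p rfl ≫ e.hom := by
    ext1
    simp [k, e, cu]
    exact pullback.lift_fst _ _ _
  have key := comm_of_affine α.hom p hp X hsq (e.hom ≫ a) (e.hom ≫ c)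
    (by rw [← Category.assoc, ← hk, Category.assoc, ha, MonObj.comp_one])
    (by rw [← Category.assoc, ← hk, Category.assoc, hc, MonObj.comp_one])
  rw [← MonObj.comp_mul, ← MonObj.comp_mul] at key
  exact (cancel_epi e.hom).1 key

end Final


/-- The kernel of the reduction map is commutative: over an affine base S = Spec R with S₀ = Spec (R/J)
for an ideal J of square zero: for a group scheme X over S and an arbitrary S-scheme Y, the kernel
of the reduction map from X(Y) to X(Y ×_S S₀) = X₀(Y₀) is a commutative group: two Y-valued points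
of X whose base changes to S₀ are the unit commute. (The published statement identifies this kernel,
as a group functor, with the commutative functor of homomorphisms from the pulled-back invariant
differentials of X₀ to J·O_Y, over an arbitrary base with a quasi-coherent ideal of square zero;
this row states only the resulting commutativity, over an affine base.) -/
theorem result (R : Type u) [CommRing R] (J : Ideal R) (hJ : J * J = ⊥)
    (X : Over (Spec (CommRingCat.of R))) [GrpObj X] (Y : Over (Spec (CommRingCat.of R))) (g g' : Y ⟶ X)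
    (hg : (Over.pullback (Spec.map (CommRingCat.ofHom (Ideal.Quotient.mk J)))).map g = 1)
    (hg' : (Over.pullback (Spec.map (CommRingCat.ofHom (Ideal.Quotient.mk J)))).map g' = 1) :
    g * g' = g' * g := by
  have h1 := cu_comp_of_map_eq_one _ X Y g hg
  have h2 := cu_comp_of_map_eq_one _ X Y g' hg'
  apply Over.OverMorphism.ext
  apply Scheme.Cover.hom_ext Y.left.affineCover
  intro j
  let Uj := Y.left.affineCover.X j
  let ej : Spec Γ(Uj, ⊤) ⟶ Y.left := Uj.isoSpec.inv ≫ Y.left.affineCover.f j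
  rw [← cancel_epi Uj.isoSpec.inv]
  let Yj : Over (Spec (CommRingCat.of R)) := Over.mk (ej ≫ Y.hom)
  let ιj : Yj ⟶ Y := Over.homMk ej rfl
  have key := comm_of_spec R J hJ X Γ(Uj, ⊤) (ej ≫ Y.hom) (ιj ≫ g) (ιj ≫ g')
    (cu_comp_comp _ X Y g ιj h1) (cu_comp_comp _ X Y g' ιj h2)
  rw [← MonObj.comp_mul, ← MonObj.comp_mul] at key
  have e := congrArg (fun t => t.left) key
  have e' : ej ≫ (g * g').left = ej ≫ (g' * g).left := e
  rw [← Category.assoc, ← Category.assoc]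
  exact e'

end Groth.Agent.S8363
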