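import Groth.Statements.S8364
import Mathlib
-- import your own Groth.Agent.* helpers here

set_option autoImplicit false
universe u
open SGA3

namespace Groth.Agent.S8364

section helpers
theorem bij_of_id_mod (R A : Type u) [CommRing R] [CommRing A] [Algebra R A]
    (J : Ideal R) (hJ : J * J = ⊥) (θ : A →ₐ[R] A)
    (hθ : ∀ a, θ a - a ∈ Ideal.map (algebraMap R A) J) : Function.Bijective θ := by
  set I := Ideal.map (algebraMap R A) J with hI
  have hII : I * I = ⊥ := by
    rw [hI, ← Ideal.map_mul, hJ, Ideal.map_bot]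
  have hmul : ∀ x ∈ I, ∀ y ∈ I, x * y = 0 := by
    intro x hx y hy
    have : x * y ∈ I * I := Ideal.mul_mem_mul hx hy
    rw [hII] at this
    simpa using this
  have hfix : ∀ x ∈ I, θ x = x := by
    intro x hx
    rw [hI, Ideal.map] at hx
    induction hx using Submodule.span_induction with
    | mem x hx =>
      obtain ⟨j, _, rfl⟩ := hx
      exact θ.commutes j
    | zero => simp
    | add x y _ _ hx hy => rw [map_add, hx, hy]
    | smul a x hxm hx =>
      have hxI : x ∈ I := hxm
      rw [smul_eq_mul, map_mul, hx]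
      have : (θ a - a) * x = 0 := hmul _ (hθ a) _ hxI
      linear_combination this
  constructor
  · rw [injective_iff_map_eq_zero]
    intro a ha
    have h1 : a ∈ I := by
      have := hθ a
      rw [ha, zero_sub] at this
      simpa using I.neg_mem this
    rw [hfix a h1] at ha
    exact ha
  · intro b
    refine ⟨2 * b - θ b, ?_⟩
    have := hfix _ (hθ b)
    rw [map_sub] at this
    rw [map_sub, map_mul, map_ofNat]
    linear_combination -this

theorem main' (R A : Type u) [CommRing R] [CommRing A] [Algebra R A]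
    [Algebra.Smooth R A] (J : Ideal R) (hJ : J * J = ⊥) (I : Ideal A)
    (hI : I = Ideal.map (algebraMap R A) J)
    (φ₀ : (A ⧸ I) ≃ₐ[R] (A ⧸ I)) :
    ∃ φ : A ≃ₐ[R] A,
      (Ideal.Quotient.mkₐ R I).comp φ.toAlgHom =
        φ₀.toAlgHom.comp (Ideal.Quotient.mkₐ R I) := by
  have hII : I * I = ⊥ := by
    rw [hI, ← Ideal.map_mul, hJ, Ideal.map_bot]
  have hnil : IsNilpotent I := ⟨2, by rw [pow_two, hII]; rfl⟩
  obtain ⟨ψ, hψ⟩ := Algebra.FormallySmooth.exists_lift (R := R) (A := A) I hnil
    (φ₀.toAlgHom.comp (Ideal.Quotient.mkₐ R I))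
  obtain ⟨ψ', hψ'⟩ := Algebra.FormallySmooth.exists_lift (R := R) (A := A) I hnil
    (φ₀.symm.toAlgHom.comp (Ideal.Quotient.mkₐ R I))
  have e1 : ∀ a, Ideal.Quotient.mk I (ψ a) = φ₀ (Ideal.Quotient.mk I a) := fun a =>
    AlgHom.congr_fun hψ a
  have e2 : ∀ a, Ideal.Quotient.mk I (ψ' a) = φ₀.symm (Ideal.Quotient.mk I a) := fun a =>
    AlgHom.congr_fun hψ' a
  have b1 : Function.Bijective (ψ.comp ψ') := by
    apply bij_of_id_mod R A J hJ
    intro a
    rw [← hI, ← Ideal.Quotient.eq, AlgHom.comp_apply, e1, e2, AlgEquiv.apply_symm_apply]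
  have b2 : Function.Bijective (ψ'.comp ψ) := by
    apply bij_of_id_mod R A J hJ
    intro a
    rw [← hI, ← Ideal.Quotient.eq, AlgHom.comp_apply, e2, e1, AlgEquiv.symm_apply_apply]
  have hbij : Function.Bijective ψ := by
    constructor
    · have := b2.1
      rw [AlgHom.coe_comp] at this
      exact this.of_comp
    · have := b1.2
      rw [AlgHom.coe_comp] at this
      exact this.of_comp
  exact ⟨AlgEquiv.ofBijective ψ hbij, hψ⟩

theorem main (R A : Type u) [CommRing R] [CommRing A] [Algebra R A]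
    [Algebra.Smooth R A] (J : Ideal R) (hJ : J * J = ⊥)
    (φ₀ : (A ⧸ Ideal.map (algebraMap R A) J) ≃ₐ[R] (A ⧸ Ideal.map (algebraMap R A) J)) :
    ∃ φ : A ≃ₐ[R] A,
      (Ideal.Quotient.mkₐ R (Ideal.map (algebraMap R A) J)).comp φ.toAlgHom =
        φ₀.toAlgHom.comp (Ideal.Quotient.mkₐ R (Ideal.map (algebraMap R A) J)) :=
  main' R A J hJ _ rfl φ₀
end helpers

/-- For a commutative ring R, an ideal J of R of square zero, a smooth R-algebra A and the extended
ideal I = J·A, every R-algebra automorphism of A/I lifts to an R-algebra automorphism of A. (The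
published statement concerns the automorphism functor of a smooth affine S-scheme E and affine test
schemes Y; this row is the case Y = S = Spec R, E = Spec A, which gives the general one after
replacing R by the ring of Y.) -/
theorem result (R A : Type u) [CommRing R] [CommRing A] [Algebra R A]
    [Algebra.Smooth R A] (J : Ideal R) (hJ : J * J = ⊥)
    (φ₀ : (A ⧸ Ideal.map (algebraMap R A) J) ≃ₐ[R] (A ⧸ Ideal.map (algebraMap R A) J)) :
    ∃ φ : A ≃ₐ[R] A,
      (Ideal.Quotient.mkₐ R (Ideal.map (algebraMap R A) J)).comp φ.toAlgHom =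
        φ₀.toAlgHom.comp (Ideal.Quotient.mkₐ R (Ideal.map (algebraMap R A) J)) := by
  exact main R A J hJ φ₀

end Groth.Agent.S8364
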