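import Groth.Statements.S8365
import Mathlib
import Groth.Agent.Lib.Helper12.LieE

set_option autoImplicit false
universe u
open CategoryTheory MonObj AlgebraicGeometry
open LieS

namespace Groth.Agent.S8365

/-- For a monoid scheme X over a scheme S (an associative unital monoid object in S-schemes) and an
affine S-scheme T = Spec B, a point of X with values in the dual numbers over T is invertible if and
only if its restriction along the zero section ε = 0 is invertible in X(T); in particular every such
point restricting to the unit section is invertible. (The published statement is for monoid-valued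
functors satisfying a tangent-space exactness condition, which every representable functor
satisfies, and its special case where the restriction is the unit section allows unital composition
laws that need not be associative; this row treats monoid schemes only.) -/
theorem result (S : Scheme.{u}) (X : Over S) [MonObj X] (B : Type u) [CommRing B]
    (f : Spec (CommRingCat.of B) ⟶ S) (v : LieS.dpt B f ⟶ X) :
    IsUnit v ↔ IsUnit (LieS.zeroSec B f ≫ v) := by
  constructor
  · intro hv
    obtain ⟨u, hu1, hu2⟩ := isUnit_iff_exists.mp hv
    refine isUnit_iff_exists.mpr ⟨LieS.zeroSec B f ≫ u, ?_, ?_⟩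
    · rw [← MonObj.comp_mul, hu1, MonObj.comp_one]
    · rw [← MonObj.comp_mul, hu2, MonObj.comp_one]
  · intro hv
    obtain ⟨u₀, hu1, hu2⟩ := isUnit_iff_exists.mp hv
    set v₀ := LieS.zeroSec B f ≫ v with hv₀
    let w : LieS.dpt B f ⟶ X := v * (LieS.proj B f ≫ u₀)
    have hw : LieS.zeroSec B f ≫ w = 1 := by
      change LieS.zeroSec B f ≫ (v * (LieS.proj B f ≫ u₀)) = 1
      rw [MonObj.comp_mul, ← Category.assoc, LieS.zeroSec_proj, Category.id_comp]
      exact hu1
    obtain ⟨hw1, hw2⟩ := Groth.Agent.Lib.Helper12.LieE.isUnit_of_zeroSec f X w hw
    have hwu : IsUnit w := isUnit_iff_exists.mpr ⟨_, hw1, hw2⟩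
    have hpu : IsUnit (LieS.proj B f ≫ v₀) := by
      refine isUnit_iff_exists.mpr ⟨LieS.proj B f ≫ u₀, ?_, ?_⟩
      · rw [← MonObj.comp_mul, hu1, MonObj.comp_one]
      · rw [← MonObj.comp_mul, hu2, MonObj.comp_one]
    have hv' : v = w * (LieS.proj B f ≫ v₀) := by
      change v = v * (LieS.proj B f ≫ u₀) * (LieS.proj B f ≫ v₀)
      rw [_root_.mul_assoc, ← MonObj.comp_mul, hu2, MonObj.comp_one, _root_.mul_one]
    rw [hv']
    exact hwu.mul hpu

end Groth.Agent.S8365
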