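import Groth.Statements.S8369
import Mathlib
-- import your own Groth.Agent.* helpers here

set_option autoImplicit false
universe u v
open SGA3

namespace Groth.Agent.S8369

section helpers
open TensorProduct LinearMap
section
variable (A : Type u) [CommRing A] (J : Ideal A) (M : Type v) [AddCommGroup M] [Module A M]

/-- multiplication map `J ⊗ M → M` -/
noncomputable def mu : J ⊗[A] M →ₗ[A] M := (TensorProduct.lid A M).toLinearMap ∘ₗ rTensor M J.subtype

@[simp] theorem mu_tmul (j : J) (m : M) : mu A J M (j ⊗ₜ m) = (j : A) • m := by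
  simp [mu]

theorem exists_of_mem_smul_top {x : M} (hx : x ∈ J • (⊤ : Submodule A M)) :
    ∃ t : J ⊗[A] M, mu A J M t = x := by
  refine Submodule.smul_induction_on hx (fun r hr n _ => ⟨(⟨r, hr⟩ : J) ⊗ₜ n, by simp⟩) ?_
  rintro x y ⟨t, rfl⟩ ⟨u, rfl⟩
  exact ⟨t + u, map_add _ _ _⟩

theorem mu_injective_of_flat [Module.Flat A M] : Function.Injective (mu A J M) := by
  unfold mu
  rw [LinearMap.coe_comp]
  exact (TensorProduct.lid A M).injective.comp (Module.Flat.iff_rTensor_injective'.1 inferInstance J)

theorem mu_sub_mem (N : Submodule A M) (u : J ⊗[A] N) :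
    mu A J M (lTensor J N.subtype u) ∈ J • N := by
  induction u using TensorProduct.induction_on with
  | zero => simp
  | tmul j n =>
    simp only [lTensor_tmul, Submodule.subtype_apply, mu_tmul]
    exact Submodule.smul_mem_smul j.2 n.2
  | add a b ha hb =>
    simp only [map_add]
    exact Submodule.add_mem _ ha hb

end

theorem key (A : Type u) [CommRing A] (J : Ideal A)
    (M : Type v) [AddCommGroup M] [Module A M] (N : Submodule A M) [Module.Flat A (M ⧸ N)]
    {x : M} (hxN : x ∈ N) (hxJ : x ∈ J • (⊤ : Submodule A M)) : x ∈ J • N := by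
  obtain ⟨t, rfl⟩ := exists_of_mem_smul_top A J M hxJ
  have hnat : ∀ t : J ⊗[A] M, mu A J (M ⧸ N) (lTensor J N.mkQ t) = N.mkQ (mu A J M t) := by
    intro t
    induction t using TensorProduct.induction_on with
    | zero => simp
    | tmul j m => simp
    | add a b ha hb => simp only [map_add, ha, hb]
  have h0 : lTensor J N.mkQ t = 0 := by
    apply mu_injective_of_flat A J (M ⧸ N)
    rw [hnat, map_zero, Submodule.mkQ_apply, Submodule.Quotient.mk_eq_zero]
    exact hxN
  have hex : Function.Exact (lTensor J N.subtype) (lTensor J N.mkQ) :=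
    lTensor_exact J (LinearMap.exact_subtype_mkQ N) (Submodule.mkQ_surjective N)
  obtain ⟨u, rfl⟩ := (hex t).1 h0
  exact mu_sub_mem A J M N u

theorem main (A : Type u) [CommRing A] (J : Ideal A) (hJ : IsNilpotent J)
    (M : Type v) [AddCommGroup M] [Module A M] (N : Submodule A M) [Module.Flat A (M ⧸ N)] (s : Set M)
    (hs : s ⊆ N)
    (hgen : (Submodule.span A s).map (J • (⊤ : Submodule A M)).mkQ = N.map (J • (⊤ : Submodule A M)).mkQ) :
    Submodule.span A s = N := by
  have hle : Submodule.span A s ≤ N := Submodule.span_le.2 hs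
  refine le_antisymm hle ?_
  -- Step 2
  have step : N ≤ Submodule.span A s ⊔ J • N := by
    intro x hx
    have hx' : (J • (⊤ : Submodule A M)).mkQ x ∈ N.map (J • (⊤ : Submodule A M)).mkQ :=
      Submodule.mem_map_of_mem hx
    rw [← hgen] at hx'
    obtain ⟨y, hy, hyx⟩ := hx'
    have hd : x - y ∈ J • (⊤ : Submodule A M) := by
      have := (Submodule.Quotient.eq _).1 hyx
      have h2 : x - y = -(y - x) := by abel
      rw [h2]; exact Submodule.neg_mem _ this
    have hdN : x - y ∈ N := Submodule.sub_mem _ hx (hle hy)
    have := key A J M N hdN hd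
    have hxy : x = y + (x - y) := by abel
    rw [hxy]
    exact Submodule.add_mem_sup hy this
  have stepk : ∀ k : ℕ, N ≤ Submodule.span A s ⊔ (J ^ k) • N := by
    intro k
    induction k with
    | zero => simp
    | succ k ih =>
      calc N ≤ Submodule.span A s ⊔ (J ^ k) • N := ih
        _ ≤ Submodule.span A s ⊔ (J ^ k) • (Submodule.span A s ⊔ J • N) :=
            sup_le_sup_left (Submodule.smul_mono le_rfl step) _
        _ ≤ Submodule.span A s ⊔ (J ^ (k+1)) • N := by
            rw [Submodule.smul_sup, ← sup_assoc]
            refine sup_le (sup_le le_sup_left (le_trans Submodule.smul_le_right le_sup_left)) ?_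
            rw [← Submodule.mul_smul, ← pow_succ]
            exact le_sup_right
  obtain ⟨k, hk⟩ := hJ
  have := stepk k
  rw [hk] at this
  simpa using this
end helpers

/-- Let A be a commutative ring, J a nilpotent ideal, N ⊆ M A-modules with M/N flat over A. If elements
of N have images generating the image of N in M/JM, then they generate N. (The published statement
takes finitely many elements; this row allows an arbitrary set, which the same argument permits.) -/
theorem result (A : Type u) [CommRing A] (J : Ideal A) (hJ : IsNilpotent J)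
    (M : Type v) [AddCommGroup M] [Module A M] (N : Submodule A M) [Module.Flat A (M ⧸ N)] (s : Set M)
    (hs : s ⊆ N)
    (hgen : (Submodule.span A s).map (J • (⊤ : Submodule A M)).mkQ = N.map (J • (⊤ : Submodule A M)).mkQ) :
    Submodule.span A s = N := by
  exact main A J hJ M N s hs hgen

end Groth.Agent.S8369
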