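import Groth.Statements.S8370
import Mathlib

set_option autoImplicit false
universe u
open CategoryTheory MonObj AlgebraicGeometry
open LieS

namespace Groth.Agent.S8370

section
variable {S : Scheme.{u}}

/-- the section `ε ↦ c` of `I_{T'} → T'` -/
noncomputable def secC {C : Type u} [CommRing C] (f' : Spec (CommRingCat.of C) ⟶ S) (c : C)
    (hc : c * c = 0) : LieS.pt C f' ⟶ LieS.dpt C f' :=
  Over.homMk (Spec.map (CommRingCat.ofHom (LieS.dualHom (RingHom.id C) c hc))) (by
    change Spec.map _ ≫ Spec.map _ ≫ f' = f'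
    rw [← Category.assoc, LieS.specMap_comp, LieS.dualHom_comp_algebraMap, CommRingCat.ofHom_id]
    erw [Spec.map_id]
    exact Category.id_comp f')

theorem secC_proj {C : Type u} [CommRing C] (f' : Spec (CommRingCat.of C) ⟶ S) (c : C)
    (hc : c * c = 0) : secC f' c hc ≫ LieS.proj C f' = 𝟙 _ := by
  apply Over.OverMorphism.ext
  change Spec.map _ ≫ Spec.map _ = 𝟙 _
  rw [LieS.specMap_comp, LieS.dualHom_comp_algebraMap, CommRingCat.ofHom_id]
  erw [Spec.map_id]

/-- the point `ε ↦ c` of `I_T` with values in `T' = Spec C` -/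
noncomputable def yC {B : Type u} [CommRing B] (f : Spec (CommRingCat.of B) ⟶ S)
    {C : Type u} [CommRing C] (h : B →+* C) (c : C) (hc : c * c = 0) :
    LieS.pt C (Spec.map (CommRingCat.ofHom h) ≫ f) ⟶ LieS.dpt B f :=
  Over.homMk (Spec.map (CommRingCat.ofHom (LieS.dualHom h c hc))) (by
    change Spec.map _ ≫ Spec.map _ ≫ f = Spec.map _ ≫ f
    rw [← Category.assoc, LieS.specMap_comp, LieS.dualHom_comp_algebraMap])

theorem secC_dptMap {B : Type u} [CommRing B] (f : Spec (CommRingCat.of B) ⟶ S)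
    {C : Type u} [CommRing C] (h : B →+* C) (c : C) (hc : c * c = 0) :
    secC (Spec.map (CommRingCat.ofHom h) ≫ f) c hc ≫ LieS.dptMap f h = yC f h c hc := by
  apply Over.OverMorphism.ext
  change Spec.map _ ≫ Spec.map _ = Spec.map _
  rw [LieS.specMap_comp]
  congr 2
  refine RingHom.ext fun x => ?_
  simp [LieS.bcHom, TrivSqZeroExt.algebraMap_eq_inl']

theorem affine_case (G K : Over S) [GrpObj G] [GrpObj K] (i : K ⟶ G) (B : Type u) [CommRing B]
    (f : Spec (CommRingCat.of B) ⟶ S) (x : LieS.Lie G B f)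
    (H : ∀ (B' : Type u) [CommRing B'] (h : B →+* B')
      (k : LieS.pt B' (Spec.map (CommRingCat.ofHom h) ≫ f) ⟶ K),
      LieS.Ad G B' (Spec.map (CommRingCat.ofHom h) ≫ f) (k ≫ i) (LieS.pull G f h x) =
        LieS.pull G f h x)
    (C : Type u) [CommRing C] (h : B →+* C) (c : C) (hc : c * c = 0)
    (k : LieS.pt C (Spec.map (CommRingCat.ofHom h) ≫ f) ⟶ K) :
    (yC f h c hc ≫ x.1) * (k ≫ i) = (k ≫ i) * (yC f h c hc ≫ x.1) := by
  have hH := congrArg Subtype.val (H C h k)
  have hH' : (LieS.proj C (Spec.map (CommRingCat.ofHom h) ≫ f) ≫ k ≫ i) *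
      (LieS.dptMap f h ≫ x.1) *
      (LieS.proj C (Spec.map (CommRingCat.ofHom h) ≫ f) ≫ k ≫ i)⁻¹ = LieS.dptMap f h ≫ x.1 := hH
  have e : secC (Spec.map (CommRingCat.ofHom h) ≫ f) c hc ≫
      ((LieS.proj C (Spec.map (CommRingCat.ofHom h) ≫ f) ≫ k ≫ i) *
      (LieS.dptMap f h ≫ x.1) *
      (LieS.proj C (Spec.map (CommRingCat.ofHom h) ≫ f) ≫ k ≫ i)⁻¹) =
      secC (Spec.map (CommRingCat.ofHom h) ≫ f) c hc ≫ LieS.dptMap f h ≫ x.1 :=
    congrArg (fun t => secC (Spec.map (CommRingCat.ofHom h) ≫ f) c hc ≫ t) hH'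
  rw [MonObj.comp_mul, MonObj.comp_mul, GrpObj.comp_inv, ← Category.assoc,
    ← Category.assoc (secC _ c hc) (LieS.dptMap f h), secC_proj, secC_dptMap,
    Category.id_comp] at e
  rw [mul_inv_eq_iff_eq_mul] at e
  exact e.symm

theorem dual_decomp {B : Type u} [CommRing B] (x : DualNumber B) :
    x = algebraMap B (DualNumber B) x.fst + algebraMap B (DualNumber B) x.snd * DualNumber.eps := by
  apply TrivSqZeroExt.ext
  · simp [TrivSqZeroExt.algebraMap_eq_inl']
  · simp [TrivSqZeroExt.algebraMap_eq_inl']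

theorem lemA (G K : Over S) [GrpObj G] [GrpObj K] (i : K ⟶ G) (B : Type u) [CommRing B]
    (f : Spec (CommRingCat.of B) ⟶ S) (x : LieS.Lie G B f)
    (H : ∀ (B' : Type u) [CommRing B'] (h : B →+* B')
      (k : LieS.pt B' (Spec.map (CommRingCat.ofHom h) ≫ f) ⟶ K),
      LieS.Ad G B' (Spec.map (CommRingCat.ofHom h) ≫ f) (k ≫ i) (LieS.pull G f h x) =
        LieS.pull G f h x)
    (C : CommRingCat.{u}) (g : Spec C ⟶ S) (y : Over.mk g ⟶ LieS.dpt B f) (k : Over.mk g ⟶ K) :
    (y ≫ x.1) * (k ≫ i) = (k ≫ i) * (y ≫ x.1) := by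
  let yl : Spec C ⟶ Spec (CommRingCat.of (DualNumber B)) := y.left
  let φ : CommRingCat.of (DualNumber B) ⟶ C := Spec.preimage yl
  have hφ : Spec.map φ = yl := Spec.map_preimage yl
  let h : B →+* C := φ.hom.comp (algebraMap B (DualNumber B))
  let c : C := φ.hom DualNumber.eps
  have hc : c * c = 0 := by
    change φ.hom DualNumber.eps * φ.hom DualNumber.eps = 0
    rw [← map_mul, DualNumber.eps_mul_eps, map_zero]
  have hφ' : φ.hom = LieS.dualHom h c hc := by
    refine RingHom.ext fun z => ?_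
    conv_lhs => rw [dual_decomp z]
    rw [map_add, map_mul]
    rfl
  have hw : yl ≫ Spec.map (CommRingCat.ofHom (algebraMap B (DualNumber B))) ≫ f = g := Over.w y
  have hg : Spec.map (CommRingCat.ofHom h) ≫ f = g := by
    rw [← hw, ← hφ, ← Category.assoc, ← Spec.map_comp]
    rfl
  let e : LieS.pt C (Spec.map (CommRingCat.ofHom h) ≫ f) ≅ Over.mk g :=
    Over.isoMk (Iso.refl _) (by
      change 𝟙 _ ≫ g = Spec.map (CommRingCat.ofHom h) ≫ f
      rw [Category.id_comp, hg])
  have hey : e.hom ≫ y = yC f h c hc := by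
    apply Over.OverMorphism.ext
    change 𝟙 _ ≫ yl = Spec.map (CommRingCat.ofHom (LieS.dualHom h c hc))
    rw [Category.id_comp, ← hφ, ← hφ']
    rfl
  rw [← cancel_epi e.hom, MonObj.comp_mul, MonObj.comp_mul, ← Category.assoc, hey,
    ← Category.assoc]
  exact affine_case G K i B f x H C h c hc (e.hom ≫ k)

end


/-- For a group scheme G over a scheme S (the group law of the Lie algebra functor of a group scheme is
commutative, which the published statement assumes), a sub-group-scheme K of G given by a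
monomorphic homomorphism i, and an affine S-scheme T = Spec B: an element x of Lie(G/S)(T) belongs
to the Lie algebra of the centraliser of K, i.e. the point x of G with values in the dual numbers
I_T commutes with every point of K with values in any scheme over I_T, if and only if x is fixed by
the adjoint action of every point of K with values in an affine scheme T' = Spec B' over T (acting
on the restriction of x to T'). -/
theorem result (S : Scheme.{u}) (G K : Over S) [GrpObj G] [GrpObj K] (i : K ⟶ G)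
    [IsMonHom i] [Mono i] (B : Type u) [CommRing B] (f : Spec (CommRingCat.of B) ⟶ S) (x : LieS.Lie G B f) :
    (∀ (X' : Over S) (y : X' ⟶ LieS.dpt B f) (h : X' ⟶ K), (y ≫ x.1) * (h ≫ i) = (h ≫ i) * (y ≫ x.1)) ↔
    (∀ (B' : Type u) [CommRing B'] (h : B →+* B')
      (k : LieS.pt B' (Spec.map (CommRingCat.ofHom h) ≫ f) ⟶ K),
      LieS.Ad G B' (Spec.map (CommRingCat.ofHom h) ≫ f) (k ≫ i) (LieS.pull G f h x) = LieS.pull G f h x) := by
  constructor
  · intro H B' _ h k
    apply Subtype.ext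
    have hc := H (LieS.dpt B' (Spec.map (CommRingCat.ofHom h) ≫ f)) (LieS.dptMap f h)
      (LieS.proj B' (Spec.map (CommRingCat.ofHom h) ≫ f) ≫ k)
    change (LieS.proj B' (Spec.map (CommRingCat.ofHom h) ≫ f) ≫ k ≫ i) *
      (LieS.dptMap f h ≫ x.1) *
      (LieS.proj B' (Spec.map (CommRingCat.ofHom h) ≫ f) ≫ k ≫ i)⁻¹ = LieS.dptMap f h ≫ x.1
    rw [mul_inv_eq_iff_eq_mul]
    rw [Category.assoc] at hc
    exact hc.symm
  · intro H X' y h'
    apply Over.OverMorphism.ext
    apply Scheme.Cover.hom_ext X'.left.affineCover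
    intro j
    let Uj := X'.left.affineCover.X j
    let ej : Spec Γ(Uj, ⊤) ⟶ X'.left := Uj.isoSpec.inv ≫ X'.left.affineCover.f j
    rw [← cancel_epi Uj.isoSpec.inv]
    let X'j : Over S := Over.mk (ej ≫ X'.hom)
    let ιj : X'j ⟶ X' := Over.homMk ej rfl
    have key := lemA G K i B f x H Γ(Uj, ⊤) (ej ≫ X'.hom) (ιj ≫ y) (ιj ≫ h')
    have key' : ιj ≫ ((y ≫ x.1) * (h' ≫ i)) = ιj ≫ ((h' ≫ i) * (y ≫ x.1)) := by
      rw [MonObj.comp_mul, MonObj.comp_mul, ← Category.assoc, ← Category.assoc]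
      exact key
    have e := congrArg (fun t => t.left) key'
    have e' : ej ≫ ((y ≫ x.1) * (h' ≫ i)).left = ej ≫ ((h' ≫ i) * (y ≫ x.1)).left := e
    rw [← Category.assoc, ← Category.assoc]
    exact e'

end Groth.Agent.S8370
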