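import Groth.Statements.S8371
import Mathlib
-- import your own Groth.Agent.* helpers here

set_option autoImplicit false
universe u
open CategoryTheory MonObj AlgebraicGeometry
open LieS

namespace Groth.Agent.S8371

section helpers
open CategoryTheory MonoidalCategory CartesianMonoidalCategory MonObj GrpObj AlgebraicGeometry Opposite
theorem map_val (S : Scheme.{u}) (G H : Over S) [GrpObj G] [GrpObj H] (φ : G ⟶ H) [IsMonHom φ]
    (B : Type u) [CommRing B] (f : Spec (CommRingCat.of B) ⟶ S) (v : LieS.Lie G B f) :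
    (LieS.map B f φ v).1 = v.1 ≫ φ := rfl

theorem main (S : Scheme.{u}) (G' G G'' : Over S) [GrpObj G'] [GrpObj G] [GrpObj G'']
    (i : G' ⟶ G) [IsMonHom i] (q : G ⟶ G'') [IsMonHom q]
    (hex : ∀ T : Over S, Function.Injective (fun a : T ⟶ G' => a ≫ i) ∧
      Function.Surjective (fun b : T ⟶ G => b ≫ q) ∧ ∀ b : T ⟶ G, b ≫ q = 1 ↔ ∃ a : T ⟶ G', a ≫ i = b)
    (B : Type u) [CommRing B] (f : Spec (CommRingCat.of B) ⟶ S) :
    Function.Injective (LieS.map B f i) ∧ Function.Surjective (LieS.map B f q) ∧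
      ∀ v : LieS.Lie G B f, LieS.map B f q v = 1 ↔ ∃ w : LieS.Lie G' B f, LieS.map B f i w = v := by
  refine ⟨?_, ?_, ?_⟩
  · intro w w' h
    apply Subtype.ext
    have := congrArg Subtype.val h
    rw [map_val, map_val] at this
    exact (hex _).1 this
  · intro v''
    obtain ⟨b, hb⟩ := (hex (LieS.dpt B f)).2.1 v''.1
    have hb : b ≫ q = v''.1 := hb
    have hv'' : LieS.zeroSec B f ≫ v''.1 = 1 := v''.2
    have h1 : (LieS.zeroSec B f ≫ b) ≫ q = 1 := by rw [Category.assoc, hb]; exact hv''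
    obtain ⟨a, ha⟩ := ((hex (LieS.pt B f)).2.2 _).1 h1
    have haq : (a ≫ i) ≫ q = 1 := by rw [ha]; exact h1
    have hb' : LieS.zeroSec B f ≫ (b * (LieS.proj B f ≫ a ≫ i)⁻¹) = 1 := by
      rw [MonObj.comp_mul, GrpObj.comp_inv, ← Category.assoc (LieS.zeroSec B f),
        LieS.zeroSec_proj, Category.id_comp, ha, mul_inv_cancel]
    refine ⟨⟨b * (LieS.proj B f ≫ a ≫ i)⁻¹, hb'⟩, Subtype.ext ?_⟩
    rw [map_val]
    change (b * (LieS.proj B f ≫ a ≫ i)⁻¹) ≫ q = v''.1
    rw [MonObj.mul_comp, GrpObj.inv_comp, Category.assoc, haq, MonObj.comp_one, inv_one, _root_.mul_one, hb]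
  · intro v
    constructor
    · intro h
      have h' : v.1 ≫ q = 1 := by
        have := congrArg Subtype.val h
        rw [map_val] at this
        exact this
      obtain ⟨a, ha⟩ := ((hex (LieS.dpt B f)).2.2 _).1 h'
      have hv : LieS.zeroSec B f ≫ v.1 = 1 := v.2
      have ha' : LieS.zeroSec B f ≫ a = 1 := by
        apply (hex _).1
        change (LieS.zeroSec B f ≫ a) ≫ i = 1 ≫ i
        rw [Category.assoc, ha, hv, MonObj.one_comp]
      exact ⟨⟨a, ha'⟩, Subtype.ext (by rw [map_val]; exact ha)⟩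
    · rintro ⟨w, rfl⟩
      apply Subtype.ext
      rw [map_val, map_val]
      change (w.1 ≫ i) ≫ q = 1
      exact ((hex _).2.2 _).2 ⟨w.1, rfl⟩
end helpers

/-- The sequence of Lie algebras, with M = O_S: if 1 → G' → G → G'' → 1 is a sequence of homomorphisms
of group schemes over a scheme S which is exact on points with values in every S-scheme, then for
every affine S-scheme T = Spec B the derived morphisms give an exact sequence 1 → Lie(G'/S)(T) →
Lie(G/S)(T) → Lie(G''/S)(T) → 1: the first is injective, the second surjective, and the kernel of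
the second is the image of the first. -/
theorem result (S : Scheme.{u}) (G' G G'' : Over S) [GrpObj G'] [GrpObj G] [GrpObj G'']
    (i : G' ⟶ G) [IsMonHom i] (q : G ⟶ G'') [IsMonHom q]
    (hex : ∀ T : Over S, Function.Injective (fun a : T ⟶ G' => a ≫ i) ∧
      Function.Surjective (fun b : T ⟶ G => b ≫ q) ∧ ∀ b : T ⟶ G, b ≫ q = 1 ↔ ∃ a : T ⟶ G', a ≫ i = b)
    (B : Type u) [CommRing B] (f : Spec (CommRingCat.of B) ⟶ S) :
    Function.Injective (LieS.map B f i) ∧ Function.Surjective (LieS.map B f q) ∧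
      ∀ v : LieS.Lie G B f, LieS.map B f q v = 1 ↔ ∃ w : LieS.Lie G' B f, LieS.map B f i w = v := by
  exact main S G' G G'' i q hex B f

end Groth.Agent.S8371
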