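import Groth.Statements.S8375
import Mathlib
import Groth.Agent.Lib.Helper15.CharpolyFibre

set_option autoImplicit false
universe u
open scoped TensorProduct
open SGA3t2b

namespace Groth.Agent.S8375

/-- Over an affine base Spec A: let L be a Lie algebra over A which is a finitely generated projective
A-module, such that the nilpotent rank of the fibre Lie algebras κ(p) ⊗ L is a locally constant
function of p ∈ Spec A. Then for every a ∈ L the set of primes p at which 1 ⊗ a is a regular element
of κ(p) ⊗ L is open in Spec A. (The published statement is over an arbitrary base and first asserts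
that the locus of regular elements in the vector bundle of L is open; this row states its
consequence for a given section a, over an affine base.) -/
theorem result {A : Type u} [CommRing A] {L : Type u} [LieRing L]
    [LieAlgebra A L] [Module.Finite A L] [Module.Projective A L]
    (hC0 : ∀ p : PrimeSpectrum A, ∃ f : A, f ∉ p.asIdeal ∧ ∀ q : PrimeSpectrum A, f ∉ q.asIdeal →
        LieAlgebra.rank q.asIdeal.ResidueField (q.asIdeal.ResidueField ⊗[A] L) =
          LieAlgebra.rank p.asIdeal.ResidueField (p.asIdeal.ResidueField ⊗[A] L)) (a : L) :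
    IsOpen {p : PrimeSpectrum A |
      LieAlgebra.IsRegular p.asIdeal.ResidueField ((1 : p.asIdeal.ResidueField) ⊗ₜ[A] a)} := by
  rw [isOpen_iff_forall_mem_open]
  intro p₀ hp₀
  obtain ⟨f, hf, hrank⟩ := hC0 p₀
  obtain ⟨g, c, hg, hgc⟩ :=
    Groth.Agent.Lib.helper15.CharpolyFibre.exists_coeff_charpoly_fibre
      (LieAlgebra.ad A L a : L →ₗ[A] L)
      (LieAlgebra.rank p₀.asIdeal.ResidueField (p₀.asIdeal.ResidueField ⊗[A] L)) p₀
  have key : ∀ q : PrimeSpectrum A, f ∉ q.asIdeal → g ∉ q.asIdeal →
      (LieAlgebra.IsRegular q.asIdeal.ResidueField ((1 : q.asIdeal.ResidueField) ⊗ₜ[A] a) ↔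
        c ∉ q.asIdeal) := by
    intro q hfq hgq
    rw [LieAlgebra.isRegular_def, hrank q hfq, ← hgc q hgq]
    have h1 : (LieAlgebra.ad q.asIdeal.ResidueField (q.asIdeal.ResidueField ⊗[A] L)
        ((1 : q.asIdeal.ResidueField) ⊗ₜ[A] a) :
          Module.End q.asIdeal.ResidueField (q.asIdeal.ResidueField ⊗[A] L)) =
        (LieAlgebra.ad A L a : L →ₗ[A] L).baseChange q.asIdeal.ResidueField :=
      LieModule.toEnd_baseChange A q.asIdeal.ResidueField L L a
    rw [h1]
  refine ⟨(PrimeSpectrum.basicOpen (f * g * c) : Set (PrimeSpectrum A)), ?_,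
    (PrimeSpectrum.basicOpen (f * g * c)).2, ?_⟩
  · intro q hq
    have hq' : f * g * c ∉ q.asIdeal := hq
    have hfq : f ∉ q.asIdeal :=
      fun h => hq' (Ideal.mul_mem_right _ _ (Ideal.mul_mem_right _ _ h))
    have hgq : g ∉ q.asIdeal :=
      fun h => hq' (Ideal.mul_mem_right _ _ (Ideal.mul_mem_left _ _ h))
    have hcq : c ∉ q.asIdeal := fun h => hq' (Ideal.mul_mem_left _ _ h)
    exact (key q hfq hgq).mpr hcq
  · have hc : c ∉ p₀.asIdeal := (key p₀ hf hg).mp hp₀
    change f * g * c ∉ p₀.asIdeal
    intro h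
    rcases p₀.2.mem_or_mem h with h1 | h1
    · rcases p₀.2.mem_or_mem h1 with h2 | h2
      exacts [hf h2, hg h2]
    · exact hc h1

end Groth.Agent.S8375
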