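import Groth.Statements.S8374
import Groth.Agent.Lib.Helper22.CartanRelC
import Groth.Agent.S8375

set_option autoImplicit false
universe u
open scoped TensorProduct
open SGA3t2b

namespace Groth.Agent.S8374

/-- Over an affine base Spec A: let L be a Lie algebra over A which is a finitely generated projective
A-module, H a Cartan subalgebra of L relative to A, and p a prime of A whose residue field is
infinite. Then there are f ∈ A with f ∉ p and an element a ∈ H such that a is a regular element of
every fibre κ(q) ⊗ L with f ∉ q, H is contained in the Engel subalgebra Nil(a, L), and every element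
of Nil(a, L) is carried into H by some power of f; that is, over the basic open set D(f) the section
a is regular and H coincides with Nil(a, L). (The published statement gives a regular section of H
over some open neighbourhood of p; this row takes a global element of H and a basic open
neighbourhood D(f), which is equivalent over an affine base because multiplying by a function
invertible on D(f) does not change regularity.) -/
theorem result {A : Type u} [CommRing A] {L : Type u} [LieRing L]
    [LieAlgebra A L] [Module.Finite A L] [Module.Projective A L]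
    (H : LieSubalgebra A L) (hH : SGA3t2b.IsCartanRel H) (p : PrimeSpectrum A)
    (hp : Infinite p.asIdeal.ResidueField) :
    ∃ f : A, f ∉ p.asIdeal ∧ ∃ a : L, a ∈ H ∧
      (∀ q : PrimeSpectrum A, f ∉ q.asIdeal →
        LieAlgebra.IsRegular q.asIdeal.ResidueField ((1 : q.asIdeal.ResidueField) ⊗ₜ[A] a)) ∧
      H ≤ LieSubalgebra.engel A a ∧
      ∀ y : L, y ∈ LieSubalgebra.engel A a → ∃ n : ℕ, f ^ n • y ∈ H := by
  open Groth.Agent.Lib.helper22.CartanRel in
  obtain ⟨x, hxH, hxreg⟩ := exists_regular_in_fibre H p hH hp
  obtain ⟨s, hs, a, haH, hsa⟩ := exists_clear_denominators H p x hxH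
  have hsne : algebraMap A p.asIdeal.ResidueField s ≠ 0 := by
    rw [Ne, Ideal.algebraMap_residueField_eq_zero]
    exact hs
  have hareg : LieAlgebra.IsRegular p.asIdeal.ResidueField
      ((1 : p.asIdeal.ResidueField) ⊗ₜ[A] a) := by
    rw [← hsa]
    exact Groth.Agent.Lib.helper22.CartanRel.isRegular_smul _ _ hsne x hxreg
  have hC0 := Groth.Agent.Lib.helper22.CartanRel.hC0_of_cartanRel H hH
  have hopen := Groth.Agent.S8375.result hC0 a
  obtain ⟨v, ⟨f, rfl⟩, hpv, hvU⟩ :=
    PrimeSpectrum.isTopologicalBasis_basic_opens.exists_subset_of_mem_open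
      (show p ∈ {q : PrimeSpectrum A | LieAlgebra.IsRegular q.asIdeal.ResidueField
        ((1 : q.asIdeal.ResidueField) ⊗ₜ[A] a)} from hareg) hopen
  have hreg : ∀ q : PrimeSpectrum A, f ∉ q.asIdeal →
      LieAlgebra.IsRegular q.asIdeal.ResidueField ((1 : q.asIdeal.ResidueField) ⊗ₜ[A] a) :=
    fun q hq => hvU ((PrimeSpectrum.mem_basicOpen f q).mpr hq)
  refine ⟨f, (PrimeSpectrum.mem_basicOpen f p).mp hpv, a, haH, hreg,
    Groth.Agent.Lib.helper22.CartanRel.le_engel H a haH hH.1 (fun q => (hH.2 q).1), ?_⟩
  obtain ⟨n, hn⟩ := Groth.Agent.Lib.helper22.CartanRel.exists_pow_smul_mem_sup H a f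
    (fun q hq y => Groth.Agent.Lib.helper22.CartanRel.fibre_surj H a q
      (Groth.Agent.Lib.helper22.CartanRel.fibre_eq_engel H a haH q (hH.2 q).1 (hreg q hq)
        (hH.2 q).2.2) y)
  intro y hy
  exact Groth.Agent.Lib.helper22.CartanRel.exists_pow_smul_mem_of_engel H a haH f n hn y hy

end Groth.Agent.S8374
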