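import Groth.Statements.S8378
import Groth.Agent.Lib.Helper22.CartanRelE

set_option autoImplicit false
universe u
open scoped TensorProduct
open SGA3t2b

namespace Groth.Agent.S8378
open Groth.Agent.Lib.helper22

/-- Over an affine base Spec A: let L be a Lie algebra over A which is a finitely generated projective
A-module. If for some faithfully flat A-algebra A' the Lie algebra A' ⊗ L has a Cartan subalgebra
relative to A' (condition (C₁)), then the nilpotent rank of the fibres κ(p) ⊗ L is a locally
constant function of p ∈ Spec A (condition (C₀)). -/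
theorem result {A : Type u} [CommRing A] {L : Type u} [LieRing L]
    [LieAlgebra A L] [Module.Finite A L] [Module.Projective A L]
    (hC1 : ∃ (A' : Type u) (_ : CommRing A') (_ : Algebra A A'), Module.FaithfullyFlat A A' ∧
        ∃ H : LieSubalgebra A' (A' ⊗[A] L), SGA3t2b.IsCartanRel H) :
    ∀ p : PrimeSpectrum A, ∃ f : A, f ∉ p.asIdeal ∧ ∀ q : PrimeSpectrum A, f ∉ q.asIdeal →
        LieAlgebra.rank q.asIdeal.ResidueField (q.asIdeal.ResidueField ⊗[A] L) =
          LieAlgebra.rank p.asIdeal.ResidueField (p.asIdeal.ResidueField ⊗[A] L) := by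
  obtain ⟨A', _, _, hff, H, hH⟩ := hC1
  have hC0' := CartanRel.hC0_of_cartanRel H hH
  have hquot : Topology.IsQuotientMap (PrimeSpectrum.comap (algebraMap A A')) :=
    PrimeSpectrum.isQuotientMap_of_generalizingMap
      (PrimeSpectrum.comap_surjective_of_faithfullyFlat)
      (RingHom.Flat.generalizingMap_comap (RingHom.flat_algebraMap_iff.mpr inferInstance))
  intro p
  have hU : IsOpen {q : PrimeSpectrum A |
      LieAlgebra.rank q.asIdeal.ResidueField (q.asIdeal.ResidueField ⊗[A] L) =
        LieAlgebra.rank p.asIdeal.ResidueField (p.asIdeal.ResidueField ⊗[A] L)} := by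
    rw [← hquot.isOpen_preimage, isOpen_iff_forall_mem_open]
    intro q' hq'
    obtain ⟨f, hf, hrank⟩ := hC0' q'
    refine ⟨(PrimeSpectrum.basicOpen f : Set (PrimeSpectrum A')), ?_,
      (PrimeSpectrum.basicOpen f).2, hf⟩
    intro q'' hq''
    change LieAlgebra.rank _ _ = LieAlgebra.rank _ _
    rw [← CartanRel.rank_residue A' q'', hrank q'' hq'', CartanRel.rank_residue A' q']
    exact hq'
  obtain ⟨_, ⟨f, rfl⟩, hpf, hsub⟩ :=
    PrimeSpectrum.isTopologicalBasis_basic_opens.exists_subset_of_mem_open
      (show p ∈ {q : PrimeSpectrum A |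
      LieAlgebra.rank q.asIdeal.ResidueField (q.asIdeal.ResidueField ⊗[A] L) =
        LieAlgebra.rank p.asIdeal.ResidueField (p.asIdeal.ResidueField ⊗[A] L)} from rfl) hU
  exact ⟨f, hpf, fun q hq => hsub hq⟩

end Groth.Agent.S8378
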