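import Groth.Statements.S8383
import Mathlib.RingTheory.TensorProduct.Free
import Mathlib.LinearAlgebra.Matrix.Basis
import Mathlib.LinearAlgebra.Determinant
import Mathlib.LinearAlgebra.Matrix.NonsingularInverse
import Mathlib.LinearAlgebra.Dimension.Constructions

set_option autoImplicit false
universe u
open scoped TensorProduct
open SGA3t2b

namespace Groth.Agent.S8383

open Module in
theorem key {k K : Type*} [Field k] [Field K] [Algebra k K] {ι : Type*} [Fintype ι] [DecidableEq ι]
    (M : Matrix ι ι K) (hM : M.det ≠ 0) :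
    ∃ c : ι → k, ∀ i, ∑ j, M i j * algebraMap k K (c j) ≠ 0 := by
  classical
  set ω := Basis.ofVectorSpace k K with hω
  let A : Finset (Basis.ofVectorSpaceIndex k K) :=
    Finset.univ.biUnion (fun i : ι => Finset.univ.biUnion fun j : ι => (ω.repr (M i j)).support)
  have hA : ∀ i j, (ω.repr (M i j)).support ⊆ A := by
    intro i j a ha
    simp only [A, Finset.mem_biUnion, Finset.mem_univ, true_and]
    exact ⟨i, j, ha⟩
  have hentry : ∀ i j, M i j = ∑ a ∈ A, ω a * algebraMap k K (ω.repr (M i j) a) := by
    intro i j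
    conv_lhs => rw [← ω.linearCombination_repr (M i j)]
    rw [Finsupp.linearCombination_apply, Finsupp.sum_of_support_subset _ (hA i j)]
    · refine Finset.sum_congr rfl (fun a _ => ?_)
      rw [Algebra.smul_def, mul_comm]
    · intro a _; simp
  have hrow : M = fun i => ∑ a ∈ A, ω a • (fun j => algebraMap k K (ω.repr (M i j) a)) := by
    funext i j
    rw [Finset.sum_apply]
    simp only [Pi.smul_apply, smul_eq_mul]
    exact hentry i j
  have hdet : M.det = ∑ r ∈ Fintype.piFinset (fun _ : ι => A),
      (∏ i, ω (r i)) * Matrix.det (fun i j => algebraMap k K (ω.repr (M i j) (r i))) := by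
    conv_lhs => rw [hrow]
    have := (Matrix.detRowAlternating (R := K) (n := ι)).toMultilinearMap.map_sum_finset
      (fun i a => ω a • (fun j => algebraMap k K (ω.repr (M i j) a))) (fun _ => A)
    simp only [AlternatingMap.coe_multilinearMap] at this
    change Matrix.detRowAlternating _ = _
    rw [this]
    refine Finset.sum_congr rfl (fun r _ => ?_)
    have h2 := (Matrix.detRowAlternating (R := K) (n := ι)).toMultilinearMap.map_smul_univ
      (fun i => ω (r i)) (fun i => (fun j => algebraMap k K (ω.repr (M i j) (r i))))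
    simp only [AlternatingMap.coe_multilinearMap, smul_eq_mul] at h2
    exact h2
  obtain ⟨r, -, hr⟩ : ∃ r ∈ Fintype.piFinset (fun _ : ι => A),
      (∏ i, ω (r i)) * Matrix.det (fun i j => algebraMap k K (ω.repr (M i j) (r i))) ≠ 0 := by
    by_contra hcon
    push Not at hcon
    exact hM (hdet.trans (Finset.sum_eq_zero hcon))
  let R : Matrix ι ι k := fun i j => ω.repr (M i j) (r i)
  have hR : R.det ≠ 0 := by
    intro h0
    apply hr
    have : (fun i j => algebraMap k K (ω.repr (M i j) (r i))) = (algebraMap k K).mapMatrix R := rfl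
    rw [this, ← RingHom.map_det, h0, map_zero, mul_zero]
  have hRu : IsUnit R.det := isUnit_iff_ne_zero.mpr hR
  refine ⟨R⁻¹.mulVec 1, fun i h0 => ?_⟩
  have h1 : R.mulVec (R⁻¹.mulVec 1) = 1 := by
    rw [Matrix.mulVec_mulVec, Matrix.mul_nonsing_inv _ hRu, Matrix.one_mulVec]
  have h2 := congrFun h1 i
  have h3 : ω.repr (∑ j, M i j * algebraMap k K ((R⁻¹.mulVec 1) j)) (r i) = 1 := by
    rw [map_sum, Finsupp.finsetSum_apply]
    have h4 : (1 : ι → k) i = 1 := rfl
    rw [← h4, ← h2]
    simp only [Matrix.mulVec, dotProduct]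
    refine Finset.sum_congr rfl (fun j _ => ?_)
    rw [mul_comm (M i j), ← Algebra.smul_def, map_smul, Finsupp.smul_apply, smul_eq_mul, mul_comm]
  rw [h0, map_zero] at h3
  simp at h3


/-- Let k be a finite field with algebraic closure K, V a finite-dimensional vector space over k, and
θ₁, …, θₙ a basis of the dual of the K-vector space K ⊗ V. Then there is x ∈ V with θᵢ(1 ⊗ x) ≠ 0
for every i. -/
theorem result (k : Type u) [Field k] [Finite k]
    (V : Type u) [AddCommGroup V] [Module k V] [Module.Finite k V] {ι : Type} [Fintype ι]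
    (θ : Module.Basis ι (AlgebraicClosure k) (Module.Dual (AlgebraicClosure k) (AlgebraicClosure k ⊗[k] V))) :
    ∃ x : V, ∀ i : ι, θ i ((1 : AlgebraicClosure k) ⊗ₜ[k] x) ≠ 0 := by
  classical
  set K := AlgebraicClosure k with hK
  have hcard : Module.finrank k V = Fintype.card ι := by
    rw [← Module.finrank_baseChange (R := K) (S := k) (M' := V), ← Subspace.dual_finrank_eq,
      Module.finrank_eq_card_basis θ]
  let e : Fin (Module.finrank k V) ≃ ι := Fintype.equivOfCardEq (by simp [hcard])
  let b : Module.Basis ι k V := (Module.finBasis k V).reindex e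
  let bK : Module.Basis ι K (K ⊗[k] V) := Algebra.TensorProduct.basis K b
  let M : Matrix ι ι K := fun i j => θ i (bK j)
  have hM : M.det ≠ 0 := by
    have h1 : M = (bK.dualBasis.toMatrix θ).transpose := by
      ext i j
      simp [M, Module.Basis.toMatrix_apply]
    rw [h1, Matrix.det_transpose]
    exact (bK.dualBasis.isUnit_det θ).ne_zero
  obtain ⟨c, hc⟩ := key (k := k) M hM
  refine ⟨∑ j, c j • b j, fun i => ?_⟩
  convert hc i using 1
  rw [TensorProduct.tmul_sum, map_sum]
  refine Finset.sum_congr rfl (fun j _ => ?_)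
  rw [TensorProduct.tmul_smul, ← algebraMap_smul K (c j), map_smul, smul_eq_mul, mul_comm]
  simp [M, bK]

end Groth.Agent.S8383
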