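import Groth.Statements.S8384
import Mathlib

set_option autoImplicit false
universe u
open CategoryTheory MonoidalCategory CartesianMonoidalCategory MonObj GrpObj AlgebraicGeometry
open SGA3x

namespace Groth.Agent.S8384

section helpers
variable {A : Type u} [CommRing A] [IsLocalRing A]

/-- every point of `Spec (A/m^n)` maps to the closed point of `Spec A`. -/
lemma map_eq_closedPoint (n : ℕ) (p : Spec (CommRingCat.of (A ⧸ (IsLocalRing.maximalIdeal A) ^ n))) :
    (Spec.map (CommRingCat.ofHom (Ideal.Quotient.mk ((IsLocalRing.maximalIdeal A) ^ n)))) p =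
      IsLocalRing.closedPoint A := by
  apply PrimeSpectrum.ext
  show Ideal.comap (Ideal.Quotient.mk ((IsLocalRing.maximalIdeal A) ^ n)) p.asIdeal =
    IsLocalRing.maximalIdeal A
  have hprime : (Ideal.comap (Ideal.Quotient.mk ((IsLocalRing.maximalIdeal A) ^ n)) p.asIdeal).IsPrime :=
    Ideal.comap_isPrime _ _
  refine le_antisymm (IsLocalRing.le_maximalIdeal hprime.ne_top) ?_
  apply Ideal.IsPrime.le_of_pow_le (n := n)
  intro a ha
  rw [Ideal.mem_comap, (Ideal.Quotient.eq_zero_iff_mem).mpr ha]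
  exact Ideal.zero_mem _

lemma subsingleton_spec (n : ℕ) :
    Subsingleton (Spec (CommRingCat.of (A ⧸ (IsLocalRing.maximalIdeal A) ^ n))) := by
  constructor
  intro p q
  have hinj : Function.Injective
      (Spec.map (CommRingCat.ofHom (Ideal.Quotient.mk ((IsLocalRing.maximalIdeal A) ^ n)))) :=
    PrimeSpectrum.comap_injective_of_surjective _ Ideal.Quotient.mk_surjective
  exact hinj ((map_eq_closedPoint n p).trans (map_eq_closedPoint n q).symm)

lemma nonempty_spec (n : ℕ) (hn : n ≠ 0) :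
    Nonempty (Spec (CommRingCat.of (A ⧸ (IsLocalRing.maximalIdeal A) ^ n))) := by
  have : (IsLocalRing.maximalIdeal A) ^ n ≠ ⊤ := by
    intro h
    have := Ideal.pow_le_self (I := IsLocalRing.maximalIdeal A) hn
    rw [h] at this
    exact (IsLocalRing.maximalIdeal.isMaximal A).ne_top (top_le_iff.mp this)
  haveI : Nontrivial (A ⧸ (IsLocalRing.maximalIdeal A) ^ n) := Ideal.Quotient.nontrivial_iff.mpr this
  exact inferInstanceAs (Nonempty (PrimeSpectrum (A ⧸ (IsLocalRing.maximalIdeal A) ^ n)))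

/-- factor a morphism from an affine scheme through an affine open containing its image -/
lemma factor_affine {R : CommRingCat.{u}} {X : Scheme.{u}} {U : X.Opens} (hU : IsAffineOpen U)
    (h : Spec R ⟶ X) (hr : ∀ p, h p ∈ U) : ∃ φ : Γ(X, U) ⟶ R, h = Spec.map φ ≫ hU.fromSpec := by
  have hsub : Set.range h ⊆ Set.range hU.fromSpec := by
    rw [hU.range_fromSpec]
    rintro _ ⟨p, rfl⟩
    exact hr p
  refine ⟨Spec.preimage (IsOpenImmersion.lift hU.fromSpec h hsub), ?_⟩
  rw [Spec.map_preimage, IsOpenImmersion.lift_fac]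

lemma factor_unique {R : CommRingCat.{u}} {X : Scheme.{u}} {U : X.Opens} (hU : IsAffineOpen U)
    (φ ψ : Γ(X, U) ⟶ R) (h : Spec.map φ ≫ hU.fromSpec = Spec.map ψ ≫ hU.fromSpec) : φ = ψ := by
  apply Spec.map_injective
  exact (cancel_mono hU.fromSpec).mp h


lemma uniq [IsAdicComplete (IsLocalRing.maximalIdeal A) A] (X : Scheme.{u})
    (f g : (Spec (CommRingCat.of A)) ⟶ X)
    (hfg : ∀ n : ℕ, (Spec.map (CommRingCat.ofHom (Ideal.Quotient.mk ((IsLocalRing.maximalIdeal A) ^ n)))) ≫ f = (Spec.map (CommRingCat.ofHom (Ideal.Quotient.mk ((IsLocalRing.maximalIdeal A) ^ n)))) ≫ g) : f = g := by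
  obtain ⟨p⟩ := nonempty_spec (A := A) 1 one_ne_zero
  have hx : f (IsLocalRing.closedPoint A) = g (IsLocalRing.closedPoint A) := by
    have h1 := congrArg (fun h => h p) (hfg 1)
    simp only [Scheme.Hom.comp_apply] at h1
    rwa [map_eq_closedPoint] at h1
  obtain ⟨_, ⟨U, hU : IsAffineOpen U, rfl⟩, hxU, -⟩ :=
    X.isBasis_affineOpens.exists_subset_of_mem_open (Set.mem_univ (f (IsLocalRing.closedPoint A)))
      isOpen_univ
  have hf : ∀ p, f p ∈ U := by
    have : f ⁻¹ᵁ U = ⊤ := (IsLocalRing.closedPoint_mem_iff (R := A) (f ⁻¹ᵁ U)).mp hxU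
    intro p
    have : p ∈ f ⁻¹ᵁ U := by rw [this]; trivial
    exact this
  have hg : ∀ p, g p ∈ U := by
    have hxU' : g (IsLocalRing.closedPoint A) ∈ U := by rw [← hx]; exact hxU
    have : g ⁻¹ᵁ U = ⊤ := (IsLocalRing.closedPoint_mem_iff (R := A) (g ⁻¹ᵁ U)).mp hxU'
    intro p
    have : p ∈ g ⁻¹ᵁ U := by rw [this]; trivial
    exact this
  obtain ⟨φ, rfl⟩ := factor_affine hU f hf
  obtain ⟨ψ, rfl⟩ := factor_affine hU g hg
  have key : ∀ n, φ ≫ CommRingCat.ofHom (Ideal.Quotient.mk ((IsLocalRing.maximalIdeal A) ^ n)) =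
      ψ ≫ CommRingCat.ofHom (Ideal.Quotient.mk ((IsLocalRing.maximalIdeal A) ^ n)) := by
    intro n
    apply factor_unique hU
    rw [Spec.map_comp, Spec.map_comp, Category.assoc, Category.assoc]
    exact hfg n
  have : φ = ψ := by
    ext b
    have hfun : (fun b => φ.hom b) = (fun b => ψ.hom b) := by
      apply IsHausdorff.funext' (IsLocalRing.maximalIdeal A)
      intro n b
      exact congrArg (fun h => h.hom b) (key n)
    exact congrFun hfun b
  rw [this]


lemma exist [IsAdicComplete (IsLocalRing.maximalIdeal A) A] (X : Scheme.{u})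
    (u : (n : ℕ) → (Spec (CommRingCat.of (A ⧸ (IsLocalRing.maximalIdeal A) ^ n)) ⟶ X))
    (hu : ∀ n : ℕ, (Spec.map (CommRingCat.ofHom (Ideal.Quotient.factor
          (Ideal.pow_le_pow_right (I := (IsLocalRing.maximalIdeal A)) (Nat.le_succ n))))) ≫ u (n + 1) = u n) :
    ∃ f : (Spec (CommRingCat.of A)) ⟶ X, ∀ n : ℕ, (Spec.map (CommRingCat.ofHom (Ideal.Quotient.mk ((IsLocalRing.maximalIdeal A) ^ n)))) ≫ f = u n := by
  obtain ⟨p₁⟩ := nonempty_spec (A := A) 1 one_ne_zero
  -- all points go to x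
  have hpt : ∀ n, ∀ p, u n p = u 1 p₁ := by
    intro n
    induction n with
    | zero =>
      intro p
      exfalso
      have : (IsLocalRing.maximalIdeal A) ^ 0 = ⊤ := by simp
      haveI : Subsingleton (A ⧸ (IsLocalRing.maximalIdeal A) ^ 0) :=
        Ideal.Quotient.subsingleton_iff.mpr this
      have hE : IsEmpty (PrimeSpectrum (A ⧸ (IsLocalRing.maximalIdeal A) ^ 0)) := inferInstance
      exact hE.false p
    | succ n ih =>
      intro p
      rcases Nat.eq_zero_or_pos n with h0 | hpos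
      · subst h0
        haveI := subsingleton_spec (A := A) (0 + 1)
        exact congrArg (u (0 + 1)) (Subsingleton.elim p p₁)
      · obtain ⟨p''⟩ := nonempty_spec (A := A) n hpos.ne'
        haveI := subsingleton_spec (A := A) (n + 1)
        have hp : (Spec.map (CommRingCat.ofHom (Ideal.Quotient.factor
          (Ideal.pow_le_pow_right (I := (IsLocalRing.maximalIdeal A)) (Nat.le_succ n))))) p'' = p :=
          Subsingleton.elim _ _
        rw [← hp, ← Scheme.Hom.comp_apply, hu n]
        exact ih p''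
  obtain ⟨_, ⟨U, hU : IsAffineOpen U, rfl⟩, hxU, -⟩ :=
    X.isBasis_affineOpens.exists_subset_of_mem_open (Set.mem_univ (u 1 p₁)) isOpen_univ
  have hfac : ∀ n, ∃ φ : Γ(X, U) ⟶ CommRingCat.of (A ⧸ (IsLocalRing.maximalIdeal A) ^ n),
      u n = Spec.map φ ≫ hU.fromSpec := by
    intro n
    apply factor_affine hU
    intro p
    rw [hpt n p]
    exact hxU
  choose ψ hψ using hfac
  have hcompat : ∀ n, ψ (n + 1) ≫ CommRingCat.ofHom (Ideal.Quotient.factor
          (Ideal.pow_le_pow_right (I := (IsLocalRing.maximalIdeal A)) (Nat.le_succ n))) = ψ n := by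
    intro n
    apply factor_unique hU
    rw [Spec.map_comp, Category.assoc, ← hψ, ← hψ]
    exact hu n
  have hcompat' : ∀ {m : ℕ}, (Ideal.Quotient.factorPow (IsLocalRing.maximalIdeal A)
      (strictMono_id.monotone m.le_succ)).comp (ψ (m + 1)).hom = (ψ m).hom := by
    intro m
    exact congrArg CommRingCat.Hom.hom (hcompat m)
  let Ψ : Γ(X, U) →+* A :=
    IsAdicComplete.StrictMono.liftRingHom (IsLocalRing.maximalIdeal A) (a := id) strictMono_id
      (fun n => (ψ n).hom) hcompat'
  have hΨ : ∀ n, CommRingCat.ofHom Ψ ≫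
      CommRingCat.ofHom (Ideal.Quotient.mk ((IsLocalRing.maximalIdeal A) ^ n)) = ψ n := by
    intro n
    ext b
    exact IsAdicComplete.StrictMono.mk_liftRingHom (IsLocalRing.maximalIdeal A) (a := id)
      strictMono_id (fun n => (ψ n).hom) hcompat' (n := n) b
  refine ⟨Spec.map (CommRingCat.ofHom Ψ) ≫ hU.fromSpec, fun n => ?_⟩
  rw [← Category.assoc, ← Spec.map_comp, hΨ n, ← hψ]

end helpers

/-- Let A be a local ring, separated and complete for the topology defined by its maximal ideal m, S =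
Spec A and Sₙ = Spec(A/mⁿ). Then for every scheme X the canonical map Hom(S, X) → lim Hom(Sₙ, X) is
bijective: two morphisms S → X that agree on every Sₙ are equal, and every family of morphisms Sₙ →
X compatible with the closed immersions Sₙ → Sₙ₊₁ is induced by a morphism S → X. -/
theorem result (A : Type u) [CommRing A] [IsLocalRing A]
    [IsAdicComplete (IsLocalRing.maximalIdeal A) A] (X : Scheme.{u}) :
    (∀ f g : (Spec (CommRingCat.of A)) ⟶ X,
      (∀ n : ℕ, (Spec.map (CommRingCat.ofHom (Ideal.Quotient.mk ((IsLocalRing.maximalIdeal A) ^ n)))) ≫ f = (Spec.map (CommRingCat.ofHom (Ideal.Quotient.mk ((IsLocalRing.maximalIdeal A) ^ n)))) ≫ g) → f = g) ∧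
    (∀ u : (n : ℕ) → (Spec (CommRingCat.of (A ⧸ (IsLocalRing.maximalIdeal A) ^ n)) ⟶ X),
      (∀ n : ℕ, (Spec.map (CommRingCat.ofHom (Ideal.Quotient.factor
          (Ideal.pow_le_pow_right (I := (IsLocalRing.maximalIdeal A)) (Nat.le_succ n))))) ≫ u (n + 1) = u n) →
      ∃ f : (Spec (CommRingCat.of A)) ⟶ X, ∀ n : ℕ, (Spec.map (CommRingCat.ofHom (Ideal.Quotient.mk ((IsLocalRing.maximalIdeal A) ^ n)))) ≫ f = u n) := by
  exact ⟨fun f g h => uniq X f g h, fun u hu => exist X u hu⟩

end Groth.Agent.S8384
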