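import Groth.Statements.S8441
import Mathlib
-- import your own Groth.Agent.* helpers here

set_option autoImplicit false
universe u v w
open SGA3t2b

namespace Groth.Agent.S8441

section aux
open Submodule

lemma tri {R : Type*} [CommRing R] [Nontrivial R] {M : Type*} [AddCommGroup M] [Module R M]
    (n : ℕ) (v θ : Fin n → M)
    (hv : LinearIndependent R v)
    (htri : ∀ i, θ i - v i ∈ span R (v '' {j | i < j})) :
    LinearIndependent R θ ∧ span R (Set.range θ) = span R (Set.range v) := by
  have key : ∀ d k : ℕ, k + d = n →
      span R (v '' {j : Fin n | k ≤ j.val}) = span R (θ '' {j : Fin n | k ≤ j.val}) := by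
    intro d
    induction d with
    | zero =>
      intro k hk
      have : {j : Fin n | k ≤ j.val} = ∅ := by
        ext j; simp only [Set.mem_setOf_eq, Set.mem_empty_iff_false, iff_false]; omega
      rw [this, Set.image_empty, Set.image_empty]
    | succ d ih =>
      intro k hk
      have hkn : k < n := by omega
      have ih' := ih (k + 1) (by omega)
      have hset : {j : Fin n | k ≤ j.val} = insert (⟨k, hkn⟩ : Fin n) {j : Fin n | k + 1 ≤ j.val} := by
        ext j
        simp only [Set.mem_setOf_eq, Set.mem_insert_iff, Fin.ext_iff]
        omega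
      have hset2 : {j : Fin n | (⟨k, hkn⟩ : Fin n) < j} = {j : Fin n | k + 1 ≤ j.val} := by
        ext j
        simp only [Set.mem_setOf_eq, Fin.lt_def]
        omega
      have h1 := htri ⟨k, hkn⟩
      rw [hset2] at h1
      rw [hset, Set.image_insert_eq, Set.image_insert_eq, span_insert, span_insert]
      apply le_antisymm
      · refine sup_le ?_ (ih' ▸ le_sup_right)
        rw [span_le, Set.singleton_subset_iff]
        have h2 : v ⟨k, hkn⟩ = θ ⟨k, hkn⟩ - (θ ⟨k, hkn⟩ - v ⟨k, hkn⟩) := by abel
        rw [h2]
        exact sub_mem (mem_sup_left (mem_span_singleton_self _)) (mem_sup_right (ih' ▸ h1))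
      · refine sup_le ?_ (ih' ▸ le_sup_right)
        rw [span_le, Set.singleton_subset_iff]
        have h2 : θ ⟨k, hkn⟩ = v ⟨k, hkn⟩ + (θ ⟨k, hkn⟩ - v ⟨k, hkn⟩) := by abel
        rw [h2]
        exact add_mem (mem_sup_left (mem_span_singleton_self _)) (mem_sup_right h1)
  have hspan : span R (Set.range θ) = span R (Set.range v) := by
    have h0 := key n 0 (by omega)
    have hu : {j : Fin n | 0 ≤ j.val} = Set.univ := by ext j; simp
    rw [hu, Set.image_univ, Set.image_univ] at h0
    exact h0.symm
  refine ⟨?_, hspan⟩
  have hθS : ∀ i, θ i ∈ span R (Set.range v) := fun i => hspan ▸ subset_span ⟨i, rfl⟩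
  let θ' : Fin n → span R (Set.range v) := fun i => ⟨θ i, hθS i⟩
  have hfr : Module.finrank R (span R (Set.range v)) = n := by
    rw [finrank_span_eq_card hv]; simp
  have htop : ⊤ ≤ span R (Set.range θ') := by
    have h1 : Submodule.map (span R (Set.range v)).subtype (span R (Set.range θ')) =
        Submodule.map (span R (Set.range v)).subtype ⊤ := by
      rw [Submodule.map_span, ← Set.range_comp, Submodule.map_subtype_top]
      exact hspan
    exact (Submodule.map_injective_of_injective (span R (Set.range v)).injective_subtype h1).ge
  have hli : LinearIndependent R θ' :=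
    linearIndependent_of_top_le_span_of_card_eq_finrank htop (by simp [hfr])
  exact hli.map' (span R (Set.range v)).subtype (Submodule.ker_subtype _)

lemma foldl_mem {R : Type*} [CommRing R] {ι : Type*} {M : Type*} {N : Type*} [AddCommGroup M]
    [Module R M] [AddCommGroup N] [Module R N] (P : RootPairing ι R M N) {n : ℕ} (e : Fin n → ι) :
    ∀ (l : List (Fin n)) (x : M),
      l.foldl (fun x j => P.reflection (e j) x) x - x ∈
        span R ((fun j => P.root (e j)) '' {j | j ∈ l}) := by
  intro l
  induction l with
  | nil => intro x; simp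
  | cons j l ih =>
    intro x
    rw [List.foldl_cons]
    have h1 := ih (P.reflection (e j) x)
    have h2 : P.reflection (e j) x - x ∈
        span R ((fun j => P.root (e j)) '' {k | k ∈ j :: l}) := by
      rw [RootPairing.reflection_apply]
      have : x - (P.coroot' (e j) x) • P.root (e j) - x = -((P.coroot' (e j) x) • P.root (e j)) := by
        abel
      rw [this]
      exact neg_mem (smul_mem _ _ (subset_span ⟨j, by simp, rfl⟩))
    have h3 : span R ((fun j => P.root (e j)) '' {k | k ∈ l}) ≤
        span R ((fun j => P.root (e j)) '' {k | k ∈ j :: l}) :=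
      span_mono (Set.image_mono (fun k hk => List.mem_cons_of_mem _ hk))
    have h4 : List.foldl (fun x j => P.reflection (e j) x) (P.reflection (e j) x) l - x =
        (List.foldl (fun x j => P.reflection (e j) x) (P.reflection (e j) x) l -
          P.reflection (e j) x) + (P.reflection (e j) x - x) := by abel
    rw [h4]
    exact add_mem (h3 h1) h2

end aux

/-- Let R be a root system with a system of simple roots a₁, …, aₙ and simple reflections rᵢ, and put θᵢ
= rₙ ⋯ rᵢ₊₁(aᵢ). Then the θᵢ form a basis of the group generated by the roots. Stated for a root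
pairing over ℤ (Mathlib) with a base whose support is enumerated by Fin n: the θᵢ are ℤ-linearly
independent and their ℤ-span is the ℤ-span of all roots. -/
theorem result {ι : Type u} {M : Type v} {N : Type w} [AddCommGroup M] [Module ℤ M]
    [AddCommGroup N] [Module ℤ N] (P : RootPairing ι ℤ M N) (b : P.Base) (n : ℕ) (e : Fin n ≃ ↥b.support) :
    LinearIndependent ℤ (fun i : Fin n =>
      ((List.finRange n).filter (fun j => i < j)).foldl (fun x j => P.reflection (e j : ι) x) (P.root (e i : ι))) ∧
    Submodule.span ℤ (Set.range (fun i : Fin n =>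
      ((List.finRange n).filter (fun j => i < j)).foldl (fun x j => P.reflection (e j : ι) x) (P.root (e i : ι)))) =
      Submodule.span ℤ (Set.range P.root) := by
  have hv : LinearIndependent ℤ (fun i : Fin n => P.root (e i : ι)) := by
    have h1 : LinearIndependent ℤ (fun i : b.support => P.root (i : ι)) := b.linearIndepOn_root
    exact h1.comp e e.injective
  have htri : ∀ i : Fin n,
      ((List.finRange n).filter (fun j => i < j)).foldl (fun x j => P.reflection (e j : ι) x)
        (P.root (e i : ι)) - P.root (e i : ι) ∈
        Submodule.span ℤ ((fun i : Fin n => P.root (e i : ι)) '' {j | i < j}) := by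
    intro i
    have h1 := foldl_mem P (fun j : Fin n => (e j : ι))
      ((List.finRange n).filter (fun j => i < j)) (P.root (e i : ι))
    refine Submodule.span_mono (Set.image_mono ?_) h1
    intro j hj
    have := (List.mem_filter.1 hj).2
    simpa using this
  obtain ⟨h1, h2⟩ := tri n (fun i : Fin n => P.root (e i : ι)) _ hv htri
  refine ⟨h1, ?_⟩
  rw [h2]
  have h3 := b.span_root_support
  show _ = P.rootSpan ℤ
  rw [← h3]
  congr 1
  ext x
  constructor
  · rintro ⟨i, rfl⟩
    exact ⟨(e i : ι), (e i).2, rfl⟩
  · rintro ⟨j, hj, rfl⟩
    exact ⟨e.symm ⟨j, hj⟩, by simp⟩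

end Groth.Agent.S8441
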