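import Groth.Statements.S8471
import Mathlib

set_option autoImplicit false
open Red

namespace Groth.Agent.S8471

set_option linter.style.haveILetI false
set_option linter.unusedSectionVars false
set_option linter.unusedVariables false


open Polynomial

section PolyAlg

variable {k : Type} [Field k]

/-- final deduction in `k[t]`. -/
theorem final_poly (P Q : k[X]) (hcop : IsCoprime P Q) (hQm : Q.Monic)
    (hPQ : P.eval 0 = Q.eval 0)
    (E1 : P * Q ^ P.natDegree = P ^ P.natDegree * C (P.eval 0))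
    (E2 : Q ^ (Q.natDegree + 1) = P ^ Q.natDegree * C (Q.eval 0)) (hQ0 : Q.eval 0 ≠ 0) :
    Q = 1 ∧ ∃ a : k, P = 1 + C a * X := by
  have hQ1 : Q = 1 := by
    by_cases hm : Q.natDegree = 0
    · have := Polynomial.eq_C_of_natDegree_eq_zero hm
      rw [this] at hQm ⊢
      have h5 : (Q.coeff 0) = 1 := by
        have := hQm.leadingCoeff
        rwa [Polynomial.leadingCoeff_C] at this
      rw [h5, map_one]
    · exfalso
      have h1 : Q ∣ P ^ Q.natDegree * C (Q.eval 0) := by
        rw [← E2, pow_succ]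
        exact dvd_mul_left _ _
      have h2 : IsCoprime Q (P ^ Q.natDegree * C (Q.eval 0)) := by
        rw [isCoprime_mul_unit_right_right (Polynomial.isUnit_C.mpr (isUnit_iff_ne_zero.mpr hQ0))]
        exact hcop.symm.pow_right
      have h3 : IsUnit Q := h2.isUnit_of_dvd h1
      exact hm (Polynomial.natDegree_eq_zero_of_isUnit h3)
  refine ⟨hQ1, ?_⟩
  have hP0 : P.eval 0 = 1 := by rw [hPQ, hQ1, Polynomial.eval_one]
  rw [hQ1, one_pow, mul_one, hP0, map_one, mul_one] at E1
  have hn : P.natDegree = P.natDegree * P.natDegree := by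
    conv_lhs => rw [E1]
    rw [Polynomial.natDegree_pow]
  have hle : P.natDegree ≤ 1 := by
    rcases Nat.eq_zero_or_pos P.natDegree with h | h
    · omega
    · have : P.natDegree * 1 = P.natDegree * P.natDegree := by rw [mul_one]; exact hn
      have := Nat.eq_of_mul_eq_mul_left h this
      omega
  have h4 := Polynomial.eq_X_add_C_of_natDegree_le_one hle
  refine ⟨P.coeff 1, ?_⟩
  rw [Polynomial.coeff_zero_eq_eval_zero, hP0, map_one] at h4
  rw [add_comm]
  exact h4

end PolyAlg

section CompAlg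

variable {K : Type} [Field K]

theorem comp_eval (A B : K[X]) (hA : A ≠ 0) (hcop : IsCoprime A B) (c x₀ q r : K) (hc : c ≠ 0)
    (hq : q ≠ 0) (hr : r ≠ 0)
    (heq : A.comp (C c * X + C x₀) * (C q * B) = (C r * A) * B.comp (C c * X + C x₀)) :
    A.eval x₀ = A.eval 0 * c ^ A.natDegree := by
  set ℓ : K[X] := C c * X + C x₀ with hℓ
  have hcopc : IsCoprime (A.comp ℓ) (B.comp ℓ) := hcop.map (Polynomial.compRingHom ℓ)
  have hur : IsUnit (C r : K[X]) := Polynomial.isUnit_C.mpr (isUnit_iff_ne_zero.mpr hr)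
  have huq : IsUnit (C q : K[X]) := Polynomial.isUnit_C.mpr (isUnit_iff_ne_zero.mpr hq)
  have h1 : A.comp ℓ ∣ A := by
    have : A.comp ℓ ∣ (C r * A) * B.comp ℓ := ⟨_, heq.symm⟩
    have h2 := hcopc.dvd_of_dvd_mul_right this
    exact (hur.dvd_mul_left).mp h2
  have h2 : A ∣ A.comp ℓ := by
    have : A ∣ A.comp ℓ * (C q * B) := by
      rw [heq]
      exact Dvd.dvd.mul_right (dvd_mul_left A (C r)) _
    have hc2 : IsCoprime A (C q * B) := (isCoprime_mul_unit_left_right huq A B).mpr hcop
    exact hc2.dvd_of_dvd_mul_right this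
  obtain ⟨w, hw⟩ := associated_of_dvd_dvd h2 h1
  obtain ⟨u, hu, hu'⟩ := Polynomial.isUnit_iff.mp w.isUnit
  rw [← hu'] at hw
  have e0 : (A.comp ℓ).eval 0 = A.eval x₀ := by
    rw [Polynomial.eval_comp, hℓ]
    simp
  have e1 : (A.comp ℓ).leadingCoeff = A.leadingCoeff * c ^ A.natDegree := by
    have hdeg : ℓ.natDegree ≠ 0 := by
      rw [hℓ, Polynomial.natDegree_linear hc]
      exact one_ne_zero
    rw [Polynomial.leadingCoeff_comp hdeg, hℓ, Polynomial.leadingCoeff_linear hc]
  have e2 := congrArg Polynomial.leadingCoeff hw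
  rw [Polynomial.leadingCoeff_mul, Polynomial.leadingCoeff_C, e1] at e2
  have hu2 : u = c ^ A.natDegree :=
    mul_left_cancel₀ (Polynomial.leadingCoeff_ne_zero.mpr hA) e2
  have e3 := congrArg (Polynomial.eval 0) hw
  rw [Polynomial.eval_mul, Polynomial.eval_C, e0, hu2] at e3
  exact e3.symm

end CompAlg

section Homog

variable {k : Type} [Field k]

/-- homogenization `Σ g_i U^i V^(d-i)`. -/
noncomputable def hom2 (G : k[X]) (U V : MvPolynomial (Fin 2) k) : MvPolynomial (Fin 2) k :=
  ∑ i ∈ Finset.range (G.natDegree + 1),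
    MvPolynomial.C (G.coeff i) * U ^ i * V ^ (G.natDegree - i)

theorem hom2_field {L : Type*} [Field L] (ι : MvPolynomial (Fin 2) k →+* L) (G : k[X])
    (U V : MvPolynomial (Fin 2) k) (hV : ι V ≠ 0) :
    Polynomial.eval₂ (ι.comp MvPolynomial.C) (ι U / ι V) G * ι V ^ G.natDegree =
      ι (hom2 G U V) := by
  rw [Polynomial.eval₂_eq_sum_range, Finset.sum_mul, hom2, map_sum]
  apply Finset.sum_congr rfl
  intro i hi
  have hi' : i ≤ G.natDegree := Nat.lt_succ_iff.mp (Finset.mem_range.mp hi)
  rw [map_mul, map_mul, map_pow, map_pow, RingHom.comp_apply, div_pow]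
  have : ι V ^ G.natDegree = ι V ^ i * ι V ^ (G.natDegree - i) := by
    rw [← pow_add]
    congr 1
    omega
  rw [this]
  field_simp

theorem hom2_poly {K : Type} [Field K] [Algebra k K] (φ : MvPolynomial (Fin 2) k →ₐ[k] K[X])
    (G : k[X]) (U V : MvPolynomial (Fin 2) k) (a : K) (ℓ : K[X]) (hU : φ U = C a * ℓ)
    (hV : φ V = C a) :
    φ (hom2 G U V) = C (a ^ G.natDegree) * (G.map (algebraMap k K)).comp ℓ := by
  have hinj : Function.Injective (algebraMap k K) := (algebraMap k K).injective
  rw [hom2, map_sum, Polynomial.comp, Polynomial.eval₂_eq_sum_range,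
    Polynomial.natDegree_map_eq_of_injective hinj, Finset.mul_sum]
  apply Finset.sum_congr rfl
  intro i hi
  have hi' : i ≤ G.natDegree := Nat.lt_succ_iff.mp (Finset.mem_range.mp hi)
  rw [map_mul, map_mul, map_pow, map_pow, hU, hV, Polynomial.coeff_map, mul_pow]
  have h1 : φ (MvPolynomial.C (G.coeff i)) = C (algebraMap k K (G.coeff i)) := by
    rw [← MvPolynomial.algebraMap_eq, AlgHom.commutes]
    rfl
  have : (C a : K[X]) ^ G.natDegree = C a ^ i * C a ^ (G.natDegree - i) := by
    rw [← pow_add]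
    congr 1
    omega
  rw [h1, map_pow, this]
  ring

end Homog

section MainSec

variable {k : Type} [Field k]

/-- `G(X_i)` in the two-variable polynomial ring. -/
noncomputable def ev (i : Fin 2) (G : k[X]) : MvPolynomial (Fin 2) k :=
  Polynomial.aeval (MvPolynomial.X i : MvPolynomial (Fin 2) k) G

theorem ev_ne_zero (i : Fin 2) (G : k[X]) (hG : G ≠ 0) : ev i G ≠ 0 := by
  intro h
  let r : MvPolynomial (Fin 2) k →ₐ[k] k[X] :=
    MvPolynomial.aeval (fun j => if j = i then (Polynomial.X : k[X]) else 0)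
  have h1 : r (ev i G) = G := by
    rw [ev, ← Polynomial.aeval_algHom_apply]
    have : r (MvPolynomial.X i) = Polynomial.X := by
      change MvPolynomial.aeval _ (MvPolynomial.X i) = _
      rw [MvPolynomial.aeval_X, if_pos rfl]
    rw [this, Polynomial.aeval_X_left_apply]
  rw [h, map_zero] at h1
  exact hG h1.symm

theorem eval₂_ev {L : Type*} [Field L] [Algebra k L] [Algebra (MvPolynomial (Fin 2) k) L]
    [IsScalarTower k (MvPolynomial (Fin 2) k) L] (i : Fin 2) (G : k[X]) :
    Polynomial.eval₂ (algebraMap k L) (algebraMap (MvPolynomial (Fin 2) k) L (MvPolynomial.X i)) G =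
      algebraMap (MvPolynomial (Fin 2) k) L (ev i G) := by
  rw [ev, Polynomial.aeval_def, Polynomial.hom_eval₂, ← IsScalarTower.algebraMap_eq]

/-- the specialization `X₀ ↦ x`, `X₁ ↦ y` into `k(x)[y]`. -/
noncomputable def phi : MvPolynomial (Fin 2) k →ₐ[k] (RatFunc k)[X] :=
  MvPolynomial.aeval (fun j : Fin 2 => if j = 0 then (C (RatFunc.X : RatFunc k) : (RatFunc k)[X])
    else (Polynomial.X : (RatFunc k)[X]))

theorem phi_X0 : phi (MvPolynomial.X 0 : MvPolynomial (Fin 2) k) = C (RatFunc.X : RatFunc k) := by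
  rw [phi, MvPolynomial.aeval_X, if_pos rfl]

theorem phi_X1 : phi (MvPolynomial.X 1 : MvPolynomial (Fin 2) k) =
    (Polynomial.X : (RatFunc k)[X]) := by
  rw [phi, MvPolynomial.aeval_X, if_neg (by decide)]

theorem phi_ev0 (G : k[X]) : phi (ev 0 G) = C (algebraMap k[X] (RatFunc k) G) := by
  rw [ev, ← Polynomial.aeval_algHom_apply, phi_X0]
  have h1 : (C (RatFunc.X : RatFunc k) : (RatFunc k)[X]) =
      algebraMap (RatFunc k) (RatFunc k)[X] (algebraMap k[X] (RatFunc k) Polynomial.X) := by
    rw [RatFunc.algebraMap_X]; rfl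
  rw [h1, Polynomial.aeval_algebraMap_apply, Polynomial.aeval_algebraMap_apply,
    Polynomial.aeval_X_left_apply]
  rfl

theorem phi_ev1 (G : k[X]) : phi (ev 1 G) = G.map (algebraMap k (RatFunc k)) := by
  rw [ev, ← Polynomial.aeval_algHom_apply, phi_X1, Polynomial.aeval_X_left_eq_map]

theorem star_aux {L : Type*} [Field L] (ι : MvPolynomial (Fin 2) k →+* L)
    (hinj : Function.Injective ι) (P Q : k[X]) (U V P0 Q0 P1 Q1 : MvPolynomial (Fin 2) k)
    (hV : ι V ≠ 0) (hP0 : ι P0 ≠ 0) (hQ0 : ι Q0 ≠ 0) (hP1 : ι P1 ≠ 0) (hQ1 : ι Q1 ≠ 0)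
    (h : Polynomial.eval₂ (ι.comp MvPolynomial.C) (ι U / ι V) P /
        Polynomial.eval₂ (ι.comp MvPolynomial.C) (ι U / ι V) Q = ι P0 / ι Q0 * (ι P1 / ι Q1)) :
    hom2 P U V * V ^ Q.natDegree * Q0 * Q1 = P0 * P1 * hom2 Q U V * V ^ P.natDegree := by
  have eP := hom2_field ι P U V hV
  have eQ := hom2_field ι Q U V hV
  by_cases hz : Polynomial.eval₂ (ι.comp MvPolynomial.C) (ι U / ι V) Q = 0
  · exfalso
    rw [hz, div_zero] at h
    have : ι P0 / ι Q0 * (ι P1 / ι Q1) ≠ 0 :=
      mul_ne_zero (div_ne_zero hP0 hQ0) (div_ne_zero hP1 hQ1)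
    exact this h.symm
  · apply hinj
    simp only [map_mul, map_pow]
    rw [← eP, ← eQ]
    rw [div_eq_iff hz] at h
    rw [h]
    field_simp

theorem star (F : RatFunc k) (hP : F.num ≠ 0)
    (hFE : RatFunc.eval (algebraMap k (FractionRing (MvPolynomial (Fin 2) k)))
        (algebraMap (MvPolynomial (Fin 2) k) (FractionRing (MvPolynomial (Fin 2) k)) (MvPolynomial.X 0) +
          algebraMap (MvPolynomial (Fin 2) k) (FractionRing (MvPolynomial (Fin 2) k)) (MvPolynomial.X 1) *
            RatFunc.eval (algebraMap k (FractionRing (MvPolynomial (Fin 2) k)))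
              (algebraMap (MvPolynomial (Fin 2) k) (FractionRing (MvPolynomial (Fin 2) k)) (MvPolynomial.X 0)) F) F =
      RatFunc.eval (algebraMap k (FractionRing (MvPolynomial (Fin 2) k)))
          (algebraMap (MvPolynomial (Fin 2) k) (FractionRing (MvPolynomial (Fin 2) k)) (MvPolynomial.X 0)) F *
        RatFunc.eval (algebraMap k (FractionRing (MvPolynomial (Fin 2) k)))
          (algebraMap (MvPolynomial (Fin 2) k) (FractionRing (MvPolynomial (Fin 2) k)) (MvPolynomial.X 1)) F) :
    hom2 F.num (MvPolynomial.X 0 * ev 0 F.denom + MvPolynomial.X 1 * ev 0 F.num) (ev 0 F.denom) *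
        (ev 0 F.denom) ^ F.denom.natDegree * ev 0 F.denom * ev 1 F.denom =
      ev 0 F.num * ev 1 F.num *
        hom2 F.denom (MvPolynomial.X 0 * ev 0 F.denom + MvPolynomial.X 1 * ev 0 F.num) (ev 0 F.denom) *
        (ev 0 F.denom) ^ F.num.natDegree := by
  have hinj : Function.Injective
      (algebraMap (MvPolynomial (Fin 2) k) (FractionRing (MvPolynomial (Fin 2) k))) :=
    IsFractionRing.injective _ _
  have hf : algebraMap k (FractionRing (MvPolynomial (Fin 2) k)) =
      (algebraMap (MvPolynomial (Fin 2) k) (FractionRing (MvPolynomial (Fin 2) k))).comp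
        MvPolynomial.C := by
    rw [IsScalarTower.algebraMap_eq k (MvPolynomial (Fin 2) k) (FractionRing (MvPolynomial (Fin 2) k)),
      MvPolynomial.algebraMap_eq]
  have hQ : F.denom ≠ 0 := RatFunc.denom_ne_zero F
  have hne : ∀ (i : Fin 2) (G : k[X]), G ≠ 0 →
      algebraMap (MvPolynomial (Fin 2) k) (FractionRing (MvPolynomial (Fin 2) k)) (ev i G) ≠ 0 :=
    fun i G hG h => ev_ne_zero i G hG (hinj (h.trans (map_zero _).symm))
  unfold RatFunc.eval at hFE
  rw [eval₂_ev, eval₂_ev, eval₂_ev, eval₂_ev] at hFE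
  have hxyc : algebraMap (MvPolynomial (Fin 2) k) (FractionRing (MvPolynomial (Fin 2) k))
        (MvPolynomial.X 0) +
      algebraMap (MvPolynomial (Fin 2) k) (FractionRing (MvPolynomial (Fin 2) k))
        (MvPolynomial.X 1) *
      (algebraMap (MvPolynomial (Fin 2) k) (FractionRing (MvPolynomial (Fin 2) k)) (ev 0 F.num) /
        algebraMap (MvPolynomial (Fin 2) k) (FractionRing (MvPolynomial (Fin 2) k))
          (ev 0 F.denom)) =
      algebraMap (MvPolynomial (Fin 2) k) (FractionRing (MvPolynomial (Fin 2) k))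
        (MvPolynomial.X 0 * ev 0 F.denom + MvPolynomial.X 1 * ev 0 F.num) /
      algebraMap (MvPolynomial (Fin 2) k) (FractionRing (MvPolynomial (Fin 2) k))
        (ev 0 F.denom) := by
    rw [eq_div_iff (hne 0 _ hQ), map_add, map_mul, map_mul, add_mul, mul_assoc,
      div_mul_cancel₀ _ (hne 0 _ hQ)]
  rw [hxyc, hf] at hFE
  exact star_aux _ hinj F.num F.denom _ _ _ _ _ _ (hne 0 _ hQ) (hne 0 _ hP) (hne 0 _ hQ)
    (hne 1 _ hP) (hne 1 _ hQ) hFE

theorem main (F : RatFunc k)
    (h0 : F.denom.eval 0 ≠ 0) (h1 : F.num.eval 0 = F.denom.eval 0)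
    (hFE : RatFunc.eval (algebraMap k (FractionRing (MvPolynomial (Fin 2) k)))
        (algebraMap (MvPolynomial (Fin 2) k) (FractionRing (MvPolynomial (Fin 2) k)) (MvPolynomial.X 0) +
          algebraMap (MvPolynomial (Fin 2) k) (FractionRing (MvPolynomial (Fin 2) k)) (MvPolynomial.X 1) *
            RatFunc.eval (algebraMap k (FractionRing (MvPolynomial (Fin 2) k)))
              (algebraMap (MvPolynomial (Fin 2) k) (FractionRing (MvPolynomial (Fin 2) k)) (MvPolynomial.X 0)) F) F =
      RatFunc.eval (algebraMap k (FractionRing (MvPolynomial (Fin 2) k)))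
          (algebraMap (MvPolynomial (Fin 2) k) (FractionRing (MvPolynomial (Fin 2) k)) (MvPolynomial.X 0)) F *
        RatFunc.eval (algebraMap k (FractionRing (MvPolynomial (Fin 2) k)))
          (algebraMap (MvPolynomial (Fin 2) k) (FractionRing (MvPolynomial (Fin 2) k)) (MvPolynomial.X 1)) F) :
    ∃ a : k, F = 1 + RatFunc.C a * RatFunc.X := by
  have hP : F.num ≠ 0 := by
    intro h
    rw [h, Polynomial.eval_zero] at h1
    exact h0 h1.symm
  have hQ : F.denom ≠ 0 := RatFunc.denom_ne_zero F
  have hst := congrArg (phi (k := k)) (star F hP hFE)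
  clear hFE
  have hPx : algebraMap k[X] (RatFunc k) F.num ≠ 0 := fun h =>
    hP (RatFunc.algebraMap_injective k (h.trans (map_zero _).symm))
  have hQx : algebraMap k[X] (RatFunc k) F.denom ≠ 0 := fun h =>
    hQ (RatFunc.algebraMap_injective k (h.trans (map_zero _).symm))
  have hinjK : Function.Injective (algebraMap k (RatFunc k)) := (algebraMap k (RatFunc k)).injective
  have hU : phi (MvPolynomial.X 0 * ev 0 F.denom + MvPolynomial.X 1 * ev 0 F.num) =
      C (algebraMap k[X] (RatFunc k) F.denom) *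
        (C (algebraMap k[X] (RatFunc k) F.num / algebraMap k[X] (RatFunc k) F.denom) * X +
          C (RatFunc.X : RatFunc k)) := by
    have hcq : (C (algebraMap k[X] (RatFunc k) F.denom) *
        C (algebraMap k[X] (RatFunc k) F.num / algebraMap k[X] (RatFunc k) F.denom) :
          (RatFunc k)[X]) = C (algebraMap k[X] (RatFunc k) F.num) := by
      rw [← C_mul, mul_div_cancel₀ _ hQx]
    rw [map_add, map_mul, map_mul, phi_X0, phi_X1, phi_ev0, phi_ev0, mul_add, ← mul_assoc, hcq]
    ring
  have hV : phi (ev 0 F.denom) = C (algebraMap k[X] (RatFunc k) F.denom) := phi_ev0 _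
  simp only [map_mul, map_pow] at hst
  rw [hom2_poly phi F.num _ _ _ _ hU hV, hom2_poly phi F.denom _ _ _ _ hU hV, phi_ev0, phi_ev0,
    phi_ev1, phi_ev1] at hst
  set Px := algebraMap k[X] (RatFunc k) F.num with hPxdef
  set Qx := algebraMap k[X] (RatFunc k) F.denom with hQxdef
  set PK := F.num.map (algebraMap k (RatFunc k)) with hPK
  set QK := F.denom.map (algebraMap k (RatFunc k)) with hQK
  set ℓ : (RatFunc k)[X] := C (Px / Qx) * X + C (RatFunc.X : RatFunc k) with hℓ
  have hcanc : (C (Qx ^ F.num.natDegree) * C (Qx ^ F.denom.natDegree) : (RatFunc k)[X]) ≠ 0 := by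
    rw [← C_mul]
    exact C_ne_zero.mpr (mul_ne_zero (pow_ne_zero _ hQx) (pow_ne_zero _ hQx))
  have hmain : PK.comp ℓ * (C Qx * QK) = (C Px * PK) * QK.comp ℓ := by
    apply mul_left_cancel₀ hcanc
    rw [map_pow, map_pow] at hst ⊢
    linear_combination hst
  have hcop : IsCoprime PK QK := by
    have := (RatFunc.isCoprime_num_denom F).map (Polynomial.mapRingHom (algebraMap k (RatFunc k)))
    rw [Polynomial.coe_mapRingHom] at this
    exact this
  have hPK0 : PK ≠ 0 := (Polynomial.map_ne_zero_iff hinjK).mpr hP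
  have hQK0 : QK ≠ 0 := (Polynomial.map_ne_zero_iff hinjK).mpr hQ
  have hc : Px / Qx ≠ 0 := div_ne_zero hPx hQx
  have c1 := comp_eval PK QK hPK0 hcop (Px / Qx) RatFunc.X Qx Px hc hQx hPx hmain
  have c2 := comp_eval QK PK hQK0 hcop.symm (Px / Qx) RatFunc.X Px Qx hc hPx hQx (by
    rw [mul_comm (QK.comp ℓ), mul_comm (C Qx * QK)]; exact hmain.symm)
  rw [hPK, Polynomial.eval_map_algebraMap, RatFunc.aeval_X_left_eq_algebraMap,
    Polynomial.eval_zero_map, Polynomial.natDegree_map_eq_of_injective hinjK] at c1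
  rw [hQK, Polynomial.eval_map_algebraMap, RatFunc.aeval_X_left_eq_algebraMap,
    Polynomial.eval_zero_map, Polynomial.natDegree_map_eq_of_injective hinjK] at c2
  rw [← hPxdef] at c1
  rw [← hQxdef] at c2
  have E1 : F.num * F.denom ^ F.num.natDegree = F.num ^ F.num.natDegree * C (F.num.eval 0) := by
    apply RatFunc.algebraMap_injective k
    rw [map_mul, map_mul, map_pow, map_pow, RatFunc.algebraMap_C, ← RatFunc.algebraMap_eq_C,
      ← hPxdef, ← hQxdef]
    rw [div_pow] at c1
    have hq : Qx ^ F.num.natDegree ≠ 0 := pow_ne_zero _ hQx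
    field_simp at c1
    linear_combination c1
  have E2 : F.denom ^ (F.denom.natDegree + 1) =
      F.num ^ F.denom.natDegree * C (F.denom.eval 0) := by
    apply RatFunc.algebraMap_injective k
    rw [map_mul, map_pow, map_pow, RatFunc.algebraMap_C, ← RatFunc.algebraMap_eq_C,
      ← hPxdef, ← hQxdef]
    rw [div_pow] at c2
    have hq : Qx ^ F.denom.natDegree ≠ 0 := pow_ne_zero _ hQx
    field_simp at c2
    linear_combination c2
  obtain ⟨hQ1, a, ha⟩ := final_poly F.num F.denom (RatFunc.isCoprime_num_denom F)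
    (RatFunc.monic_denom F) h1 E1 E2 h0
  refine ⟨a, ?_⟩
  have := RatFunc.num_div_denom F
  rw [hQ1, map_one, div_one, ha, map_add, map_one, map_mul, RatFunc.algebraMap_C,
    RatFunc.algebraMap_X] at this
  exact this.symm

end MainSec



/-- Let k be a field and F ∈ k(X) a rational function whose denominator does not vanish at 0 and with
F(0) = 1. Suppose that in the field of fractions L of k[X₀, X₁] one has F(X₀ + X₁ · F(X₀)) = F(X₀) ·
F(X₁) (the functional equation F(x + y F(x)) = F(x) F(y)). Then there is a ∈ k with F = 1 + a X.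
(The published statement takes the identity on an open neighbourhood of the origin of 𝔾_a × 𝔾_a on
which all terms are defined; this row takes it as an identity of rational functions in two
variables.) -/
theorem result (k : Type) [Field k] (F : RatFunc k)
    (h0 : F.denom.eval 0 ≠ 0) (h1 : F.num.eval 0 = F.denom.eval 0)
    (hFE : RatFunc.eval (algebraMap k (FractionRing (MvPolynomial (Fin 2) k)))
        (algebraMap (MvPolynomial (Fin 2) k) (FractionRing (MvPolynomial (Fin 2) k)) (MvPolynomial.X 0) +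
          algebraMap (MvPolynomial (Fin 2) k) (FractionRing (MvPolynomial (Fin 2) k)) (MvPolynomial.X 1) *
            RatFunc.eval (algebraMap k (FractionRing (MvPolynomial (Fin 2) k)))
              (algebraMap (MvPolynomial (Fin 2) k) (FractionRing (MvPolynomial (Fin 2) k)) (MvPolynomial.X 0)) F) F =
      RatFunc.eval (algebraMap k (FractionRing (MvPolynomial (Fin 2) k)))
          (algebraMap (MvPolynomial (Fin 2) k) (FractionRing (MvPolynomial (Fin 2) k)) (MvPolynomial.X 0)) F *
        RatFunc.eval (algebraMap k (FractionRing (MvPolynomial (Fin 2) k)))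
          (algebraMap (MvPolynomial (Fin 2) k) (FractionRing (MvPolynomial (Fin 2) k)) (MvPolynomial.X 1)) F) :
    ∃ a : k, F = 1 + RatFunc.C a * RatFunc.X := by
  exact main F h0 h1 hFE

end Groth.Agent.S8471
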