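import Groth.Statements.S8517
import Mathlib
import Groth.Agent.S8081

set_option autoImplicit false
open CategoryTheory MonoidalCategory CartesianMonoidalCategory MonObj GrpObj AlgebraicGeometry
universe u
open RedSub

namespace Groth.Agent.S8517

open RootPairing Groth.Agent.S8081

section

variable {idx M N : Type} [Finite idx] [AddCommGroup M] [AddCommGroup N]
  (P : RootPairing idx ℤ M N)

theorem tfM (P : RootPairing idx ℤ M N) : IsAddTorsionFree M := by
  have : Module.IsReflexive ℤ M := .of_isPerfPair P.toLinearMap
  exact Module.isTorsionFree_int_iff_isAddTorsionFree.mp inferInstance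

theorem tfN (P : RootPairing idx ℤ M N) : IsAddTorsionFree N := by
  have : Module.IsReflexive ℤ N := .of_isPerfPair P.flip.toLinearMap
  exact Module.isTorsionFree_int_iff_isAddTorsionFree.mp inferInstance

theorem root_neg (a : idx) : P.root (P.reflectionPerm a a) = -P.root a := by
  rw [root_reflectionPerm, reflection_apply_self]

theorem not_both (b : P.Base) (a : idx)
    (h1 : P.root a ∈ AddSubmonoid.closure (P.root '' (b.support : Set idx)))
    (h2 : -P.root a ∈ AddSubmonoid.closure (P.root '' (b.support : Set idx))) : False := by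
  classical
  obtain ⟨n, hn, e1⟩ := closure_sum P.root b.support _ h1
  obtain ⟨m, hm, e2⟩ := closure_sum P.root b.support _ h2
  have hsum : ∑ j ∈ b.support, (n j + m j) • P.root j = 0 := by
    calc ∑ j ∈ b.support, (n j + m j) • P.root j
        = ∑ j ∈ b.support, n j • P.root j + ∑ j ∈ b.support, m j • P.root j := by
          rw [← Finset.sum_add_distrib]
          apply Finset.sum_congr rfl
          intro j _
          rw [add_smul]
      _ = P.root a + -P.root a := by rw [← e1, ← e2]
      _ = 0 := add_neg_cancel _
  have hz : ∀ j ∈ b.support, n j = 0 := by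
    intro j hj
    have h0 : n j + m j = 0 :=
      linearIndepOn_iff'.mp b.linearIndepOn_root b.support (fun j => n j + m j)
        (Set.Subset.refl _) hsum j hj
    have := hn j; have := hm j; omega
  apply P.ne_zero a
  rw [e1]
  apply Finset.sum_eq_zero
  intro j hj
  rw [hz j hj, zero_smul]

theorem refl_pos (b : P.Base) (α : idx) (hα : α ∈ b.support) (a : idx)
    (ha : P.root a ∈ AddSubmonoid.closure (P.root '' (b.support : Set idx))) (hne : a ≠ α) :
    P.root (P.reflectionPerm α a) ∈ AddSubmonoid.closure (P.root '' (b.support : Set idx)) := by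
  classical
  have := tfM P
  have := tfN P
  rcases b.root_mem_or_neg_mem (P.reflectionPerm α a) with h | h
  · exact h
  · exfalso
    obtain ⟨n, hn, e1⟩ := closure_sum P.root b.support _ ha
    obtain ⟨m, hm, e2⟩ := closure_sum P.root b.support _ h
    have e3 : P.root (P.reflectionPerm α a) = P.root a - P.pairing a α • P.root α := by
      rw [root_reflectionPerm, reflection_apply_root]
    have hd : ∑ j ∈ b.support, (if j = α then P.pairing a α else 0) • P.root j =
        P.pairing a α • P.root α := by
      rw [Finset.sum_eq_single_of_mem α hα]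
      · rw [if_pos rfl]
      · intro j _ hj
        rw [if_neg hj, zero_smul]
    have hsum : ∑ j ∈ b.support,
        (n j + m j - (if j = α then P.pairing a α else 0)) • P.root j = 0 := by
      have hterm : ∀ j ∈ b.support,
          (n j + m j - (if j = α then P.pairing a α else 0)) • P.root j =
            n j • P.root j + m j • P.root j -
              (if j = α then P.pairing a α else 0) • P.root j :=
        fun j _ => by rw [sub_smul, add_smul]
      rw [Finset.sum_congr rfl hterm, Finset.sum_sub_distrib, Finset.sum_add_distrib, hd,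
        ← e1, ← e2, e3]
      abel
    have hz : ∀ j ∈ b.support, j ≠ α → n j = 0 := by
      intro j hj hjα
      have h0 : n j + m j - (if j = α then P.pairing a α else 0) = 0 :=
        linearIndepOn_iff'.mp b.linearIndepOn_root b.support
          (fun j => n j + m j - (if j = α then P.pairing a α else 0))
          (Set.Subset.refl _) hsum j hj
      rw [if_neg hjα, sub_zero] at h0
      have := hn j; have := hm j; omega
    have e4 : P.root a = n α • P.root α := by
      rw [e1]
      exact Finset.sum_eq_single_of_mem α hα (fun j hj hjα => by rw [hz j hj hjα, zero_smul])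
    rcases b.eq_one_or_neg_one_of_mem_support_of_smul_mem α hα (n α) ⟨a, e4⟩ with h1 | h1
    · exact hne (P.root.injective (by rw [e4, h1, one_smul]))
    · have := hn α; omega

end

section Reflect

variable {idx M N : Type} [Finite idx] [AddCommGroup M] [AddCommGroup N]

theorem map_closure_mem {A B : Type*} [AddCommGroup A] [AddCommGroup B] (f : A →+ B) (T : Set A)
    (z : A) (hz : z ∈ AddSubmonoid.closure T) : f z ∈ AddSubmonoid.closure (f '' T) := by
  refine AddSubmonoid.closure_induction ?_ ?_ ?_ hz
  · intro t ht
    exact AddSubmonoid.subset_closure ⟨t, ht, rfl⟩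
  · rw [map_zero]; exact zero_mem _
  · intro x y _ _ hx hy
    rw [map_add]; exact add_mem hx hy

theorem mem_closure_reflect (P : RootPairing idx ℤ M N) (α : idx) (T : Set M) (x : M) :
    x ∈ AddSubmonoid.closure (P.reflection α '' T) ↔
      P.reflection α x ∈ AddSubmonoid.closure T := by
  have hinv : ∀ S : Set M, P.reflection α '' (P.reflection α '' S) = S := by
    intro S
    rw [Set.image_image]
    have : (fun t => P.reflection α (P.reflection α t)) = id := by
      funext t; exact P.reflection_same α t
    rw [this, Set.image_id]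
  constructor
  · intro h
    have := map_closure_mem (P.reflection α : M →ₗ[ℤ] M).toAddMonoidHom _ x h
    rw [LinearMap.toAddMonoidHom_coe] at this
    rw [show ((P.reflection α : M →ₗ[ℤ] M) : M → M) = P.reflection α from rfl, hinv] at this
    exact this
  · intro h
    have := map_closure_mem (P.reflection α : M →ₗ[ℤ] M).toAddMonoidHom _ _ h
    rw [LinearMap.toAddMonoidHom_coe] at this
    rw [show ((P.reflection α : M →ₗ[ℤ] M) : M → M) = P.reflection α from rfl,
      P.reflection_same] at this
    exact this

/-- the root half of the reflected base -/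
theorem reflect_root_part (P : RootPairing idx ℤ M N) (b : P.Base) (α : idx) :
    LinearIndepOn ℤ P.root (P.reflectionPerm α '' (b.support : Set idx)) ∧
    (∀ a, P.root a ∈ AddSubmonoid.closure
        (P.root '' (P.reflectionPerm α '' (b.support : Set idx))) ↔
      P.root (P.reflectionPerm α a) ∈
        AddSubmonoid.closure (P.root '' (b.support : Set idx))) ∧
    (∀ a, -P.root a ∈ AddSubmonoid.closure
        (P.root '' (P.reflectionPerm α '' (b.support : Set idx))) ↔
      -P.root (P.reflectionPerm α a) ∈
        AddSubmonoid.closure (P.root '' (b.support : Set idx))) := by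
  have himg : P.root '' (P.reflectionPerm α '' (b.support : Set idx)) =
      P.reflection α '' (P.root '' (b.support : Set idx)) := by
    rw [Set.image_image, Set.image_image]
    apply Set.image_congr
    intro j _
    exact P.root_reflectionPerm α j
  refine ⟨?_, ?_, ?_⟩
  · rw [linearIndepOn_iff_image P.root.injective.injOn, himg]
    have h1 : LinearIndepOn ℤ ((P.reflection α : M →ₗ[ℤ] M) ∘ P.root) (b.support : Set idx) :=
      LinearIndependent.map' b.linearIndepOn_root (P.reflection α : M →ₗ[ℤ] M)
        (LinearMap.ker_eq_bot.mpr (P.reflection α).injective)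
    have hinj : Set.InjOn ((P.reflection α : M →ₗ[ℤ] M) ∘ P.root) (b.support : Set idx) :=
      fun a _ a' _ h => P.root.injective ((P.reflection α).injective h)
    have h2 := (linearIndepOn_iff_image hinj).mp h1
    rw [Set.image_comp] at h2
    exact h2
  · intro a
    rw [himg, mem_closure_reflect, root_reflectionPerm]
  · intro a
    rw [himg, mem_closure_reflect, root_reflectionPerm, map_neg]

theorem exists_reflect (P : RootPairing idx ℤ M N) (b : P.Base) (α : idx) :
    ∃ b' : P.Base, ∀ a,
      P.root a ∈ AddSubmonoid.closure (P.root '' (b'.support : Set idx)) ↔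
        P.root (P.reflectionPerm α a) ∈
          AddSubmonoid.closure (P.root '' (b.support : Set idx)) := by
  classical
  obtain ⟨r1, r2, r3⟩ := reflect_root_part P b α
  obtain ⟨c1, c2, c3⟩ := reflect_root_part P.flip b.flip α
  have hcoe : ((b.support.map (P.reflectionPerm α).toEmbedding : Finset idx) : Set idx) =
      P.reflectionPerm α '' (b.support : Set idx) := by
    rw [Finset.coe_map, Equiv.coe_toEmbedding]
  refine ⟨{ support := b.support.map (P.reflectionPerm α).toEmbedding
            linearIndepOn_root := ?_
            linearIndepOn_coroot := ?_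
            root_mem_or_neg_mem := ?_
            coroot_mem_or_neg_mem := ?_ }, ?_⟩
  · rw [hcoe]; exact r1
  · rw [hcoe]; exact c1
  · intro i
    rw [hcoe, r2, r3]
    exact b.root_mem_or_neg_mem _
  · intro i
    rw [hcoe]
    have h := b.flip.root_mem_or_neg_mem (P.reflectionPerm α i)
    rcases h with h | h
    · exact Or.inl ((c2 i).mpr h)
    · exact Or.inr ((c3 i).mpr h)
  · intro a
    show P.root a ∈ AddSubmonoid.closure
      (P.root '' ((b.support.map (P.reflectionPerm α).toEmbedding : Finset idx) : Set idx)) ↔ _
    rw [hcoe]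
    exact r2 a

theorem pos_subset_of_simple (P : RootPairing idx ℤ M N) (b : P.Base) (G : Set idx)
    (hG : ∀ a a' c, a ∈ G → a' ∈ G → P.root a + P.root a' = P.root c → c ∈ G)
    (hs : ∀ i ∈ b.support, i ∈ G) (a : idx)
    (ha : P.root a ∈ AddSubmonoid.closure (P.root '' (b.support : Set idx))) : a ∈ G := by
  classical
  obtain ⟨n, hn, e1⟩ := closure_sum P.root b.support _ ha
  have hpos : b.IsPos a := by
    rw [b.isPos_iff', b.height_eq_sum e1]
    exact Finset.sum_nonneg (fun j _ => hn j)
  exact hpos.induction_on_add hs (fun i j k hk hi hj => hG i j k hi (hs j hj) hk.symm)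

end Reflect


/-- Let R be the set of roots of a root pairing over ℤ with finitely many roots, and R₁, R₂ two closed
subsets of R (if a, b ∈ Rᵢ and root a + root b is a root c then c ∈ Rᵢ), each containing a system of
positive roots (the positive roots of some base). If R₁ ∪ R₂ = R, then R₁ ∩ (−R₂) (the roots of R₁
whose negative is a root in R₂) contains a system of positive roots. -/
theorem result {idx M N : Type} [Finite idx] [AddCommGroup M] [AddCommGroup N] (P : RootPairing idx ℤ M N) (R₁ R₂ : Set idx)
    (h₁ : ∀ a b c : idx, a ∈ R₁ → b ∈ R₁ → P.root a + P.root b = P.root c → c ∈ R₁)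
    (h₂ : ∀ a b c : idx, a ∈ R₂ → b ∈ R₂ → P.root a + P.root b = P.root c → c ∈ R₂)
    (hb₁ : ∃ b : P.Base, RedSub.posRoots P b ⊆ R₁) (hb₂ : ∃ b : P.Base, RedSub.posRoots P b ⊆ R₂)
    (hunion : R₁ ∪ R₂ = Set.univ) :
    ∃ b : P.Base, RedSub.posRoots P b ⊆ {a | a ∈ R₁ ∧ ∃ c ∈ R₂, P.root a = -P.root c} := by
  classical
  obtain ⟨b₂, hb₂'⟩ := hb₂
  obtain ⟨G, hGdef⟩ : ∃ G : Set idx, G = {a | ∃ c ∈ R₂, P.root a = -P.root c} := ⟨_, rfl⟩
  have hGmem : ∀ a, a ∈ G ↔ ∃ c ∈ R₂, P.root a = -P.root c := fun a => by
    rw [hGdef]; exact Iff.rfl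
  have hposmem : ∀ (b : P.Base) (a : idx), a ∈ RedSub.posRoots P b ↔
      P.root a ∈ AddSubmonoid.closure (P.root '' (b.support : Set idx)) := fun _ _ => Iff.rfl
  have hR2 : ∀ a, a ∈ R₂ ∨ a ∈ G := by
    intro a
    rcases b₂.root_mem_or_neg_mem a with h | h
    · left; exact hb₂' ((hposmem b₂ a).mpr h)
    · right
      rw [hGmem]
      refine ⟨P.reflectionPerm a a, hb₂' ((hposmem b₂ _).mpr ?_), ?_⟩
      · rw [root_neg]; exact h
      · rw [root_neg, neg_neg]
  have hGclosed : ∀ a a' c, a ∈ G → a' ∈ G → P.root a + P.root a' = P.root c → c ∈ G := by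
    intro a a' c ha ha' hc
    obtain ⟨c₁, hc₁, e1⟩ := (hGmem a).mp ha
    obtain ⟨c₂, hc₂, e2⟩ := (hGmem a').mp ha'
    rw [hGmem]
    refine ⟨P.reflectionPerm c c, h₂ c₁ c₂ _ hc₁ hc₂ ?_, ?_⟩
    · rw [root_neg, ← hc, e1, e2, neg_add, neg_neg, neg_neg]
    · rw [root_neg, neg_neg]
  have key : ∀ m : ℕ, ∀ b : P.Base, RedSub.posRoots P b ⊆ R₁ →
      Nat.card idx - Set.ncard (RedSub.posRoots P b ∩ G) = m →
      ∃ b' : P.Base, RedSub.posRoots P b' ⊆ R₁ ∩ G := by
    intro m
    induction m using Nat.strong_induction_on with
    | _ m ih =>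
      intro b hb hm
      by_cases hgood : RedSub.posRoots P b ⊆ G
      · exact ⟨b, fun a ha => ⟨hb ha, hgood ha⟩⟩
      · have hex : ∃ α ∈ b.support, α ∉ G := by
          by_contra hcon
          push Not at hcon
          exact hgood (fun a ha => pos_subset_of_simple P b G hGclosed hcon a ha)
        obtain ⟨α, hα, hαG⟩ := hex
        obtain ⟨b', hb'⟩ := exists_reflect P b α
        have hαR2 : α ∈ R₂ := (hR2 α).resolve_right hαG
        have hnegα_R1 : P.reflectionPerm α α ∈ R₁ := by
          have hnot : P.reflectionPerm α α ∉ R₂ := fun h =>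
            hαG ((hGmem α).mpr ⟨_, h, by rw [root_neg, neg_neg]⟩)
          have hmem : P.reflectionPerm α α ∈ R₁ ∪ R₂ := by rw [hunion]; exact Set.mem_univ _
          exact hmem.resolve_right hnot
        have hnegα_G : P.reflectionPerm α α ∈ G := (hGmem _).mpr ⟨α, hαR2, root_neg P α⟩
        have hαpos : P.root α ∈ AddSubmonoid.closure (P.root '' (b.support : Set idx)) :=
          AddSubmonoid.subset_closure ⟨α, hα, rfl⟩
        have hb'R1 : RedSub.posRoots P b' ⊆ R₁ := by
          intro c hc
          have hc' := (hb' c).mp ((hposmem b' c).mp hc)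
          by_cases hca : P.reflectionPerm α c = α
          · have hcc : c = P.reflectionPerm α α := by
              have h6 := P.reflectionPerm_self α c
              rw [hca] at h6
              exact h6.symm
            rw [hcc]; exact hnegα_R1
          · have h3 := refl_pos P b α hα (P.reflectionPerm α c) hc' hca
            rw [P.reflectionPerm_self] at h3
            exact hb ((hposmem b c).mpr h3)
        have hsub : insert (P.reflectionPerm α α) (RedSub.posRoots P b ∩ G) ⊆
            RedSub.posRoots P b' ∩ G := by
          intro c hc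
          rcases Set.mem_insert_iff.mp hc with hc | hc
          · rw [hc]
            refine ⟨(hposmem b' _).mpr ((hb' _).mpr ?_), hnegα_G⟩
            rw [P.reflectionPerm_self]; exact hαpos
          · refine ⟨(hposmem b' c).mpr ((hb' c).mpr
              (refl_pos P b α hα c ((hposmem b c).mp hc.1) ?_)), hc.2⟩
            intro hcα
            rw [hcα] at hc
            exact hαG hc.2
        have hnotin : P.reflectionPerm α α ∉ RedSub.posRoots P b ∩ G := by
          intro h
          have h4 := (hposmem b _).mp h.1
          rw [root_neg] at h4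
          exact not_both P b α hαpos h4
        have hcard : Set.ncard (RedSub.posRoots P b ∩ G) + 1 ≤
            Set.ncard (RedSub.posRoots P b' ∩ G) := by
          rw [← Set.ncard_insert_of_notMem hnotin (Set.toFinite _)]
          exact Set.ncard_le_ncard hsub (Set.toFinite _)
        have hle : Set.ncard (RedSub.posRoots P b' ∩ G) ≤ Nat.card idx := by
          have h5 := Set.ncard_le_ncard (Set.subset_univ (RedSub.posRoots P b' ∩ G))
            (Set.toFinite _)
          rwa [Set.ncard_univ] at h5
        exact ih (Nat.card idx - Set.ncard (RedSub.posRoots P b' ∩ G)) (by omega) b' hb'R1 rfl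
  obtain ⟨b₁, hb₁'⟩ := hb₁
  obtain ⟨b, hb⟩ := key _ b₁ hb₁' rfl
  exact ⟨b, fun a ha => ⟨(hb ha).1, (hGmem a).mp (hb ha).2⟩⟩


end Groth.Agent.S8517
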