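import Groth.Statements.S8524
import Mathlib

set_option autoImplicit false
universe u
open CategoryTheory CategoryTheory.Limits AlgebraicGeometry Opposite
open EtAcyc

namespace Groth.Agent.S8524

lemma primesIn_prod {ι : Type*} (L : Set ℕ) (t : Finset ι) (m : ι → ℕ)
    (hm : ∀ i ∈ t, EtAcyc.PrimesIn L (m i)) : EtAcyc.PrimesIn L (∏ i ∈ t, m i) := by
  refine ⟨Finset.prod_pos fun i hi => (hm i hi).1, fun p hp hdvd => ?_⟩
  obtain ⟨i, hi, hpi⟩ := (Prime.dvd_finsetProd_iff hp.prime m).mp hdvd
  exact (hm i hi).2 p hp hpi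

/-- separatedness of an abelian etale sheaf -/
lemma sect_ext {X : Scheme.{u}} (F : EtCoh.Ab X) (U : X.Etale) (S : Sieve U)
    (hS : S ∈ X.smallEtaleTopology U) (a b : EtCoh.sect F U)
    (h : ∀ (V : X.Etale) (f : V ⟶ U), S f → F.obj.map f.op a = F.obj.map f.op b) : a = b := by
  have h1 : Presheaf.IsSheaf X.smallEtaleTopology (F.obj ⋙ forget AddCommGrpCat.{u + 1}) :=
    ((sheafCompose X.smallEtaleTopology (forget AddCommGrpCat.{u + 1})).obj F).2
  rw [isSheaf_iff_isSheaf_of_type] at h1
  exact (h1.isSeparated S hS).ext (fun V f hf => h V f hf)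

/-- For the small etale site of a scheme and abelian sheaves: let L be a set of primes, F an abelian
L-torsion sheaf on the small etale site of a scheme X, and U an etale X-scheme with quasi-compact
underlying space. Then every section of F over U is killed by some positive integer all of whose
prime factors lie in L. -/
theorem result {X : Scheme.{u}} (L : Set ℕ) (F : EtCoh.Ab X)
    (hF : EtAcyc.IsLTorsion L F) (U : X.Etale) [CompactSpace U.left] (s : EtCoh.sect F U) :
    ∃ m : ℕ, EtAcyc.PrimesIn L m ∧ m • s = 0 := by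
  classical
  choose V g m hsurj hm hkill using fun x => hF U s x
  have hopen : ∀ x, IsOpen (Set.range (g x).left.base) :=
    fun x => ((g x).left.isOpenMap).isOpen_range
  have hcov : Set.univ ⊆ ⋃ x, Set.range (g x).left.base := by
    intro x _
    exact Set.mem_iUnion.mpr ⟨x, hsurj x⟩
  obtain ⟨t, ht⟩ := isCompact_univ.elim_finite_subcover
    (fun x => Set.range (g x).left.base) hopen hcov
  refine ⟨∏ x ∈ t, m x, primesIn_prod L t m (fun x _ => hm x), ?_⟩
  let S : Sieve U := Sieve.ofArrows (fun x : {x // x ∈ t} => V x.1) (fun x => g x.1)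
  have hS : S ∈ X.smallEtaleTopology U := by
    have eX : X.smallEtaleTopology =
        (X.smallPretopology (P := EtCoh.etaleMP) (Q := EtCoh.etaleMP)).toGrothendieck :=
      Scheme.smallGrothendieckTopology_eq_toGrothendieck_smallPretopology X le_rfl
    rw [eX]
    refine (Scheme.mem_toGrothendieck_smallPretopology U S).2 ?_
    intro y
    obtain ⟨x, hx⟩ := Set.mem_iUnion.mp (ht (Set.mem_univ y))
    obtain ⟨hxt, hx⟩ := Set.mem_iUnion.mp hx
    obtain ⟨v, hv⟩ := hx
    exact ⟨V x, g x, v, Sieve.ofArrows_mk _ _ (⟨x, hxt⟩ : {x // x ∈ t}), inferInstance, hv⟩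
  apply sect_ext F U S hS
  intro W f hf
  obtain ⟨x, a, rfl⟩ := (Sieve.mem_ofArrows_iff _ _ _).mp hf
  rw [map_zero, map_nsmul, op_comp, F.obj.map_comp]
  obtain ⟨c, hc⟩ := Finset.dvd_prod_of_mem m x.2
  rw [hc, mul_comm, mul_smul]
  change c • m x.1 • (ConcreteCategory.hom (F.obj.map a.op))
    ((ConcreteCategory.hom (F.obj.map (g x.1).op)) s) = 0
  rw [← map_nsmul (ConcreteCategory.hom (F.obj.map a.op)), hkill, map_zero, smul_zero]

end Groth.Agent.S8524
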