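import Groth.Statements.S8528
import Mathlib
import Groth.Agent.S3243
import Groth.Agent.Lib.Helper21.UnibranchConst
-- import your own Groth.Agent.* helpers here

set_option autoImplicit false
universe u
open CategoryTheory CategoryTheory.Limits AlgebraicGeometry Opposite
open EtPBC

namespace Groth.Agent.S8528

/-- Let X be an irreducible scheme all of whose strict localizations are irreducible (for every point x
and every strict henselization R of the local ring at x, Spec R is irreducible; that is, X is
geometrically unibranch), and M a torsion-free abelian group. Then H^1(X, M_X) = 0 for the constant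
sheaf M_X on the small etale site. -/
theorem result (X : Scheme.{u}) [IrreducibleSpace X]
    (hX : ∀ (x : X) (R : Type u) [CommRing R] [IsLocalRing R] [Algebra (X.presheaf.stalk x) R]
      [IsLocalHom (algebraMap (X.presheaf.stalk x) R)] [Hensel.IsStrictHenselization (X.presheaf.stalk x) R],
      IrreducibleSpace (PrimeSpectrum R))
    (M : Type) [AddCommGroup M] [IsAddTorsionFree M] :
    Subsingleton (EtCoh.H X (EtCoh.const X M) 1) := by
  have hGU : Groth.Agent.Lib.helper21.UnibranchConst.GU X := hX
  let g := X.fromSpecResidueField (genericPoint X)
  haveI := Groth.Agent.Lib.helper21.UnibranchConst.isIso_unit_fromSpecResidueField X hGU M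
  let e1 : EtCoh.const X M ≅ (EtCoh.push g).obj ((EtCoh.pull g).obj (EtCoh.const X M)) :=
    asIso ((EtCoh.pullPushAdj (X.fromSpecResidueField (genericPoint X))).unit.app
      (EtCoh.const X M))
  let e : EtCoh.const X M ≅
      (EtCoh.push g).obj (EtCoh.const (Spec (X.residueField (genericPoint X))) M) :=
    e1 ≪≫ (EtCoh.push g).mapIso (EtCore.pullConst g M)
  have hinj := Groth.Agent.S3243.HofPush_one_injective g
    (EtCoh.const (Spec (X.residueField (genericPoint X))) M)
  have hsub0 : Subsingleton (EtCoh.H (Spec (X.residueField (genericPoint X)))
      (EtCoh.const (Spec (X.residueField (genericPoint X))) M) 1) :=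
    Groth.Agent.S3243.H1_const_field (X.residueField (genericPoint X)) M
  have hsub : Subsingleton (EtCoh.H X ((EtCoh.push g).obj
      (EtCoh.const (Spec (X.residueField (genericPoint X))) M)) 1) := hinj.subsingleton
  have e' := (EtCoh.HF X 1).mapIso e
  have hb : Function.Bijective (ConcreteCategory.hom e'.hom) :=
    (ConcreteCategory.isIso_iff_bijective _).mp inferInstance
  haveI : Subsingleton ↑((EtCoh.HF X 1).obj ((EtCoh.push g).obj
      (EtCoh.const (Spec (X.residueField (genericPoint X))) M))) := hsub
  exact hb.1.subsingleton

end Groth.Agent.S8528
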