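import Groth.Statements.S8530
import Mathlib
import Groth.Agent.Lib.Helper21.LccCrit2
-- import your own Groth.Agent.* helpers here

set_option autoImplicit false
universe u
open CategoryTheory CategoryTheory.Limits AlgebraicGeometry Opposite
open EtPBC

namespace Groth.Agent.S8530

/-- Let F be a constructible abelian sheaf on the small etale site of a scheme X, x a point of X and ξ a
geometric point of X located at x. Then F is finite locally constant on some open neighbourhood of x
if and only if, for every geometric point ξ' of X and every morphism of points of the etale site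
from ξ' to ξ (a specialization arrow, ξ' a generization of ξ), the induced specialization map F_ξ →
F_ξ' is an isomorphism. -/
theorem result {X : Scheme.{u}} (F : EtCoh.Ab X)
    (hF : EtPBC.IsConstructible F) (x : X) {Ω : Type u} [Field Ω] [IsSepClosed Ω]
    (ξ : Spec (CommRingCat.of Ω) ⟶ X) (hξ : Set.range ξ.base = {x}) :
    (∃ U : X.Opens, x ∈ U ∧ EtCoh.IsFiniteLocallyConstant ((EtCoh.pull U.ι).obj F)) ↔
      ∀ (Ω' : Type u) [Field Ω'] [IsSepClosed Ω'] (ξ' : Spec (CommRingCat.of Ω') ⟶ X)
        (φ : Scheme.pointSmallEtale ξ' ⟶ Scheme.pointSmallEtale ξ),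
        IsIso ((GrothendieckTopology.Point.Hom.sheafFiber (A := AddCommGrpCat.{u + 1}) φ).app F) := by
  have hx : ξ default = x := Groth.Agent.Lib.helper21.CardCrit2.default_eq_of_range ξ hξ
  constructor
  · rintro ⟨U, hxU, hU⟩ Ω' _ _ ξ' φ
    exact Groth.Agent.Lib.helper21.LccCrit2.isIso_sheafFiber_of_flc_near φ F hF U
      (by rw [hx]; exact hxU) hU
  · intro hiso
    obtain ⟨U, hU1, hU2⟩ := Groth.Agent.Lib.helper21.LccCrit1.exists_open_flc_of_specIso
      (F := F) (ξ := ξ) hF (fun Ω' _ _ ξ' φ => hiso Ω' ξ' φ)
    exact ⟨U, by rw [← hx]; exact hU1, hU2⟩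

end Groth.Agent.S8530
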