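import Groth.Statements.S8536
import Mathlib
import Groth.Agent.S3246

set_option autoImplicit false
universe u
open CategoryTheory CategoryTheory.Limits AlgebraicGeometry Opposite
open EtAcyc

namespace Groth.Agent.S8536

open CategoryTheory CategoryTheory.Limits AlgebraicGeometry Opposite
open EtAcyc
open Abelian

section Torsion

variable {X : Scheme.{u}}

/-- a quotient of an `L`-torsion sheaf is `L`-torsion -/
theorem isLTorsion_of_epi (L : Set ℕ) {G C : EtCoh.Ab X} (π : G ⟶ C) [Epi π]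
    (hG : IsLTorsion L G) : IsLTorsion L C := by
  intro U s x
  have hls : Sheaf.IsLocallySurjective π := (Sheaf.isLocallySurjective_iff_epi' _ _).2 inferInstance
  have hmem := Presheaf.imageSieve_mem X.smallEtaleTopology π.hom s
  obtain ⟨V, g, v, ⟨t, ht⟩, hv⟩ := Groth.Agent.S3246.exists_of_mem_smallEtaleTopology U _ hmem x
  obtain ⟨V', g', m, ⟨v', hv'⟩, hm, hmt⟩ := hG V t v
  refine ⟨V', g' ≫ g, m, ⟨v', ?_⟩, hm, ?_⟩
  · have : (g' ≫ g).left.base v' = g.left.base (g'.left.base v') := rfl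
    rw [this, hv', hv]
  · have h1 : C.obj.map (g' ≫ g).op s = C.obj.map g'.op (C.obj.map g.op s) := by
      rw [op_comp, Functor.map_comp]; rfl
    have h2 : C.obj.map g'.op (π.hom.app (op V) t) = π.hom.app (op V') (G.obj.map g'.op t) := by
      have := congrArg (fun φ => φ t) (congrArg AddCommGrpCat.Hom.hom (π.hom.naturality g'.op))
      exact this.symm
    rw [h1, ← ht, h2, ← map_nsmul, hmt, map_zero]

end Torsion

section General

variable {A : Type*} [Category A] [Abelian A] [HasExt A]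

lemma sub_comp_eq_zero {Z P Q : A} {q : ℕ} (a b : Ext Z P q) (f : P ⟶ Q)
    (h : a.comp (Ext.mk₀ f) (add_zero q) = b.comp (Ext.mk₀ f) (add_zero q)) :
    (a - b).comp (Ext.mk₀ f) (add_zero q) = 0 := by
  have := map_sub ((Ext.mk₀ f).postcomp Z (add_zero q)) a b
  change (a - b).comp (Ext.mk₀ f) (add_zero q) =
    a.comp (Ext.mk₀ f) (add_zero q) - b.comp (Ext.mk₀ f) (add_zero q) at this
  rw [this, h, sub_self]

end General

section Hpull

variable {X Y : Scheme.{u}} (h : Y ⟶ X) [PreservesFiniteLimits (EtCoh.pull h)]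

lemma Hpull_apply (A : EtCoh.Ab X) (q : ℕ) (x : EtCoh.H X A q) :
    EtCore.Hpull h A q x =
      (Ext.mk₀ (EtCore.pullConst h ℤ).inv).comp (x.mapExactFunctor (EtCoh.pull h)) (zero_add q) :=
  rfl

/-- naturality of `Hpull` in the sheaf -/
lemma Hpull_comp_mk₀ {A B : EtCoh.Ab X} (φ : A ⟶ B) (q : ℕ) (x : EtCoh.H X A q) :
    EtCore.Hpull h B q (x.comp (Ext.mk₀ φ) (add_zero q)) =
      (EtCore.Hpull h A q x).comp (Ext.mk₀ ((EtCoh.pull h).map φ)) (add_zero q) := by
  rw [Hpull_apply, Hpull_apply, Ext.mapExactFunctor_comp, Ext.mapExactFunctor_mk₀,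
    Ext.comp_assoc_of_third_deg_zero]

/-- naturality of `Hpull` with respect to connecting maps -/
lemma Hpull_comp_extClass {S : ShortComplex (EtCoh.Ab X)} (hS : S.ShortExact) (q : ℕ)
    (x : EtCoh.H X S.X₃ q) :
    EtCore.Hpull h S.X₁ (q + 1) (x.comp hS.extClass rfl) =
      (EtCore.Hpull h S.X₃ q x).comp (hS.map_of_exact (EtCoh.pull h)).extClass rfl := by
  rw [Hpull_apply, Hpull_apply, Ext.mapExactFunctor_comp, Ext.mapExactFunctor_extClass]
  exact (Ext.comp_assoc _ _ _ (zero_add q) rfl (by omega)).symm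

end Hpull

/-- Let h : Y → X be a morphism of quasi-compact quasi-separated schemes, L a set of primes and n a
natural number, and suppose that for every abelian L-torsion sheaf on X the pullback map on etale
cohomology along h is bijective in degrees ≤ n and injective in degree n + 1. Let u : F → G be a
monomorphism of abelian L-torsion sheaves on X and ξ a class in H^{n+1}(Y, h⁻¹F) whose image in
H^{n+1}(Y, h⁻¹G) comes from H^{n+1}(X, G). Then ξ comes from H^{n+1}(X, F). -/
theorem result {X Y : Scheme.{u}} [CompactSpace X] [QuasiSeparatedSpace X]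
    [CompactSpace Y] [QuasiSeparatedSpace Y] (h : Y ⟶ X) (L : Set ℕ) (n : ℕ) (hc : EtAcyc.CompN h L n)
    [PreservesFiniteLimits (EtCoh.pull h)] {F G : EtCoh.Ab X} (u : F ⟶ G) [Mono u]
    (hF : EtAcyc.IsLTorsion L F) (hG : EtAcyc.IsLTorsion L G)
    (ξ : EtCoh.H Y ((EtCoh.pull h).obj F) (n + 1))
    (hξ : (EtCoh.HF Y (n + 1)).map ((EtCoh.pull h).map u) ξ ∈ Set.range (EtCore.Hpull h G (n + 1))) :
    ξ ∈ Set.range (EtCore.Hpull h F (n + 1)) := by
  obtain ⟨η, hη⟩ := hξ
  replace hη : EtCore.Hpull h G (n + 1) η =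
      ξ.comp (Ext.mk₀ ((EtCoh.pull h).map u)) (add_zero (n + 1)) := hη
  -- the short exact sequence `F ⟶ G ⟶ C`
  let S : ShortComplex (EtCoh.Ab X) := ShortComplex.mk u (cokernel.π u) (cokernel.condition u)
  have hS : S.ShortExact :=
    { exact := ShortComplex.exact_of_g_is_cokernel _ (cokernelIsCokernel u)
      mono_f := inferInstanceAs (Mono u)
      epi_g := inferInstanceAs (Epi (cokernel.π u)) }
  have hS' := hS.map_of_exact (EtCoh.pull h)
  have hC : IsLTorsion L (cokernel u) := isLTorsion_of_epi L (cokernel.π u) hG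
  obtain ⟨hbij, hinj⟩ := hc (cokernel u) hC
  -- step 1: the image of `η` in `H(X, C)` vanishes
  have h1 : η.comp (Ext.mk₀ S.g) (add_zero (n + 1)) = 0 := by
    apply hinj
    rw [Hpull_comp_mk₀, hη, map_zero, Ext.comp_assoc_of_third_deg_zero, Ext.mk₀_comp_mk₀,
      ← Functor.map_comp]
    have : u ≫ S.g = 0 := cokernel.condition u
    rw [this, Functor.map_zero, Ext.mk₀_zero, Ext.comp_zero]
  -- step 2: `η` comes from `φ ∈ H(X, F)`
  obtain ⟨φ, hφ⟩ := Ext.covariant_sequence_exact₂ _ hS η h1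
  -- step 3: `ζ = ξ - h^* φ` dies in `H(Y, h⁻¹ G)`
  have h3 : (ξ - EtCore.Hpull h F (n + 1) φ).comp (Ext.mk₀ (S.map (EtCoh.pull h)).f)
      (add_zero (n + 1)) = 0 := by
    have e := Hpull_comp_mk₀ h S.f (n + 1) φ
    rw [hφ, hη] at e
    exact sub_comp_eq_zero _ _ _ e
  obtain ⟨c, hcζ⟩ := Ext.covariant_sequence_exact₁ _ hS' (ξ - EtCore.Hpull h F (n + 1) φ) h3 rfl
  -- step 4: `c` comes from `X`
  obtain ⟨c', rfl⟩ := (hbij n le_rfl).2 c
  -- step 5
  refine ⟨φ + c'.comp hS.extClass rfl, ?_⟩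
  have e6 : EtCore.Hpull h F (n + 1) (c'.comp hS.extClass rfl) =
      ξ - EtCore.Hpull h F (n + 1) φ := (Hpull_comp_extClass h hS n c').trans hcζ
  rw [map_add, e6]
  abel

end Groth.Agent.S8536
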