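import Groth.Statements.S8540
import Groth.Agent.Lib.Helper1.TorsColim
import Groth.Agent.S0141
import Groth.Agent.S0142

set_option autoImplicit false
universe u
open CategoryTheory CategoryTheory.Limits AlgebraicGeometry Opposite
open EtPBC

namespace Groth.Agent.S8540

open Groth.Agent.H1.TorsColim Groth.Agent.H1.ConstrGen

theorem constr_of_noeth (X : Scheme.{u}) [IsNoetherian X] (F : EtCoh.Ab X)
    (hF : EtCoh.IsTorsion F) [IsNoetherianObject F] : EtPBC.IsConstructible F := by
  classical
  haveI := isIso_ρ F hF
  let S : Set (Subobject F) := Set.range (fun j : JObj F => imageSubobject j.m)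
  have hne : S.Nonempty := ⟨_, ⟨(IsFiltered.nonempty (C := JObj F)).some, rfl⟩⟩
  obtain ⟨_, ⟨j0, rfl⟩, hmax⟩ := WellFounded.has_min (wellFounded_gt (α := Subobject F)) S hne
  have hle : ∀ j : JObj F, imageSubobject j.m ≤ imageSubobject j0.m := by
    intro j
    obtain ⟨k, a, b, -⟩ := IsFilteredOrEmpty.cocone_objs j j0
    have h1 : imageSubobject j.m ≤ imageSubobject k.m := by
      rw [← a.2]
      exact imageSubobject_comp_le _ _
    have h2 : imageSubobject j0.m ≤ imageSubobject k.m := by
      rw [← b.2]
      exact imageSubobject_comp_le _ _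
    have h3 : imageSubobject k.m = imageSubobject j0.m := by
      by_contra hne'
      exact hmax _ ⟨k, rfl⟩ (lt_of_le_of_ne h2 (Ne.symm hne'))
    exact h1.trans h3.le
  let c : Cocone (D F) :=
    { pt := (imageSubobject j0.m : EtCoh.Ab X)
      ι :=
        { app := fun j => factorThruImageSubobject j.m ≫ Subobject.ofLE _ _ (hle j)
          naturality := fun j₁ j₂ a => by
            rw [← cancel_mono (imageSubobject j0.m).arrow]
            change ((D F).map a ≫ factorThruImageSubobject j₂.m ≫ Subobject.ofLE _ _ (hle j₂)) ≫
                (imageSubobject j0.m).arrow =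
              ((factorThruImageSubobject j₁.m ≫ Subobject.ofLE _ _ (hle j₁)) ≫ 𝟙 _) ≫
                (imageSubobject j0.m).arrow
            simp only [Category.assoc, Subobject.ofLE_arrow, imageSubobject_arrow_comp,
              Category.comp_id]
            exact (congrArg (fun m => a.1 ≫ m) (imageSubobject_arrow_comp j₂.m)).trans a.2 } }
  have hfac : colimit.desc (D F) c ≫ (imageSubobject j0.m).arrow = ρ F := by
    apply colimit.hom_ext
    intro j
    rw [colimit.ι_desc_assoc, ι_ρ]
    change (factorThruImageSubobject j.m ≫ Subobject.ofLE _ _ (hle j)) ≫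
      (imageSubobject j0.m).arrow = j.m
    rw [Category.assoc, Subobject.ofLE_arrow, imageSubobject_arrow_comp]
  haveI : Epi (colimit.desc (D F) c ≫ (imageSubobject j0.m).arrow) := by
    rw [hfac]
    infer_instance
  haveI : Epi (imageSubobject j0.m).arrow := epi_of_epi (colimit.desc (D F) c) _
  haveI : Epi j0.m := by
    rw [← imageSubobject_arrow_comp j0.m]
    exact epi_comp _ _
  obtain ⟨N, hN, hk⟩ := exists_killedBy j0.i.G j0.hc
  exact Groth.Agent.S0141.result X j0.m N hN hk j0.hc

theorem main (X : Scheme.{u}) [IsNoetherian X] (F : EtCoh.Ab X)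
    (hF : EtCoh.IsTorsion F) :
    EtPBC.IsConstructible F ↔ IsNoetherianObject F := by
  constructor
  · intro hc
    rw [isNoetherianObject_iff_monotone_chain_condition]
    intro f
    obtain ⟨N, hN⟩ := Groth.Agent.S0142.result X F hc f
    exact ⟨N, fun m hm => (hN m hm).symm⟩
  · intro h
    exact constr_of_noeth X F hF

/-- Let X be a Noetherian scheme and F a torsion abelian sheaf on the small etale site of X. Then F is
constructible if and only if F is a Noetherian object of the category of abelian etale sheaves on X
(ascending chain condition on subsheaves). -/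
theorem result (X : Scheme.{u}) [IsNoetherian X] (F : EtCoh.Ab X)
    (hF : EtCoh.IsTorsion F) :
    EtPBC.IsConstructible F ↔ IsNoetherianObject F := by
  exact main X F hF

end Groth.Agent.S8540
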