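import Groth.Statements.S8554
import Mathlib
import Groth.Agent.Lib.Helper21.Godement2
import Groth.Agent.Lib.Helper1.EtStalk
-- import your own Groth.Agent.* helpers here

set_option autoImplicit false
universe u
open CategoryTheory CategoryTheory.Limits AlgebraicGeometry Opposite
open NonAbH1

namespace Groth.Agent.S8554

/-- Every sheaf of groups F on the small etale site of a scheme X embeds into a sheaf of groups G with
vanishing first non-abelian cohomology on every etale X-scheme: there are G and a morphism u : F ⟶
G, injective on sections over every object of the site, such that for every etale X-scheme U every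
torsor under the restriction of G to the induced site over U is trivial, i.e. H¹(U, G) is reduced to
its base point. (The published statement adds that the first higher direct images of G along any
morphism of schemes then vanish as pointed sheaves; that clause follows from this one and is not
stated here.) -/
theorem result {X : Scheme.{u}}
    (F : Sheaf X.smallEtaleTopology GrpCat.{u + 1}) :
    ∃ (G : Sheaf X.smallEtaleTopology GrpCat.{u + 1}) (φ : F ⟶ G),
      (∀ U : X.Etaleᵒᵖ, Function.Injective (φ.hom.app U)) ∧
      ∀ (U : X.Etale) (P : NonAbH1.Torsor (G.over U)), P.IsTrivial := by
  refine Groth.Agent.Lib.helper21.Godement2.main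
    (fun s : X => Scheme.pointSmallEtale (Groth.Agent.H1.EtStalk.geomPt X s)) F ?_
  intro V R h
  apply Groth.Agent.H1.EtStalk.sieveCrit_stdPts X
  intro Φ x
  obtain ⟨Φ₀, hΦ⟩ := Φ
  obtain ⟨s⟩ := hΦ
  exact h s x

end Groth.Agent.S8554
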