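import Groth.Statements.S8560
import Mathlib
import Groth.Agent.Lib.Helper1.EtPushColim
-- import your own Groth.Agent.* helpers here

set_option autoImplicit false
universe u
open CategoryTheory CategoryTheory.Limits AlgebraicGeometry Opposite
open EtAcyc

namespace Groth.Agent.S8560

open Groth.Agent.H1.EtFiltH Groth.Agent.H1.EtCartan Groth.Agent.H1.EtPushColim

open Classical in
/-- the sequence enumerating the `L`-numbers -/
noncomputable def aL (L : Set ℕ) (i : ℕ) : ℕ := if EtAcyc.PrimesIn L (i + 1) then i + 1 else 1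

theorem primesIn_one (L : Set ℕ) : EtAcyc.PrimesIn L 1 :=
  ⟨Nat.one_pos, fun p hp hd => absurd (Nat.dvd_one.mp hd) hp.ne_one⟩

theorem primesIn_mul {L : Set ℕ} {m n : ℕ} (hm : EtAcyc.PrimesIn L m) (hn : EtAcyc.PrimesIn L n) :
    EtAcyc.PrimesIn L (m * n) :=
  ⟨Nat.mul_pos hm.1 hn.1, fun p hp hd => (hp.dvd_mul.mp hd).elim (hm.2 p hp) (hn.2 p hp)⟩

theorem primesIn_pow {L : Set ℕ} {m : ℕ} (hm : EtAcyc.PrimesIn L m) (j : ℕ) :
    EtAcyc.PrimesIn L (m ^ j) :=
  ⟨Nat.pow_pos hm.1, fun p hp hd => hm.2 p hp (hp.dvd_of_dvd_pow hd)⟩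

theorem primesIn_aL (L : Set ℕ) (i : ℕ) : EtAcyc.PrimesIn L (aL L i) := by
  unfold aL
  split_ifs with h
  · exact h
  · exact primesIn_one L

theorem primesIn_prod (L : Set ℕ) (s : Finset ℕ) : EtAcyc.PrimesIn L (∏ i ∈ s, aL L i) := by
  classical
  induction s using Finset.induction_on with
  | empty => simpa using primesIn_one L
  | insert a s ha ih =>
    rw [Finset.prod_insert ha]
    exact primesIn_mul (primesIn_aL L a) ih

theorem hloc_of_isLTorsion {X : Scheme.{u}} (L : Set ℕ) (F : EtCoh.Ab X)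
    (hF : EtAcyc.IsLTorsion L F)
    (U : X.Etale) (_ : IsAffine U.left) (t : F.obj.obj (op U)) (e : U.left) (k : ℕ) :
    ∃ (V : X.Etale) (g : V ⟶ U) (l : ℕ), e ∈ Set.range g.left.base ∧ k ≤ l ∧
      (∏ i ∈ Finset.Ico k l, ((aL L i : ℕ) : ℤ)) • F.obj.map g.op t = 0 := by
  obtain ⟨V, g, m, ⟨v, hv⟩, hm, hmt⟩ := hF U t e
  by_cases h1 : m = 1
  · subst h1
    rw [one_smul] at hmt
    refine ⟨V, g, k, ⟨v, hv⟩, le_rfl, ?_⟩
    rw [hmt, smul_zero]
  · have hm2 : 2 ≤ m := by
      have := hm.1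
      omega
    have hpow : k + 1 < m ^ (k + 1) := Nat.lt_pow_self hm2
    refine ⟨V, g, m ^ (k + 1), ⟨v, hv⟩, by omega, ?_⟩
    have hmem : m ^ (k + 1) - 1 ∈ Finset.Ico k (m ^ (k + 1)) := by
      rw [Finset.mem_Ico]
      omega
    have hval : aL L (m ^ (k + 1) - 1) = m ^ (k + 1) := by
      have h2 : m ^ (k + 1) - 1 + 1 = m ^ (k + 1) := by omega
      unfold aL
      rw [h2, if_pos (primesIn_pow hm _)]
    have hdvd : (m : ℤ) ∣ ∏ i ∈ Finset.Ico k (m ^ (k + 1)), ((aL L i : ℕ) : ℤ) := by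
      refine dvd_trans ?_ (Finset.dvd_prod_of_mem (fun i : ℕ => ((aL L i : ℕ) : ℤ)) hmem)
      rw [hval]
      push_cast
      exact dvd_pow_self _ (Nat.succ_ne_zero k)
    obtain ⟨q, hq⟩ := hdvd
    rw [hq, mul_comm, mul_smul, natCast_zsmul, hmt, smul_zero]

theorem main {X Y : Scheme.{u}} (f : X ⟶ Y) [QuasiCompact f] [QuasiSeparated f]
    (L : Set ℕ) (F : EtCoh.Ab X) (hF : EtAcyc.IsLTorsion L F) (n : ℕ) :
    EtAcyc.IsLTorsion L ((EtCoh.Rpush f n).obj F) := by
  haveI := preservesFilteredColimitsOfSize_zero.{u}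
  haveI := hasExactColimitsOfShape_nat X
  obtain ⟨a, had⟩ : ∃ a : ℕ → ℤ, a = fun i : ℕ => ((aL L i : ℕ) : ℤ) := ⟨_, rfl⟩
  have hz : IsZero (colimit (mulSeq F a)) := by
    rw [had]
    exact isZero_colimit_mulSeq F _ (hloc_of_isLTorsion L F hF)
  haveI := isIso_post_Rpush f n (mulSeq F a)
  have hz2 : IsZero (colimit (mulSeq F a ⋙ EtCoh.Rpush f n)) :=
    ((EtCoh.Rpush f n).map_isZero hz).of_iso (asIso (colimit.post (mulSeq F a) (EtCoh.Rpush f n)))
  intro U s x
  obtain ⟨W, g, ⟨y, hy⟩, hW⟩ := restrict_affine U x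
  obtain ⟨s', hs'⟩ : ∃ s' : ((mulSeq F a ⋙ EtCoh.Rpush f n).obj 0).obj.obj (op W),
      s' = ((EtCoh.Rpush f n).obj F).obj.map g.op s := ⟨_, rfl⟩
  have h0 : ∀ z : (colimit (mulSeq F a ⋙ EtCoh.Rpush f n)).obj.obj (op W), z = 0 := by
    intro z
    have h1 : (𝟙 (colimit (mulSeq F a ⋙ EtCoh.Rpush f n))) = 0 := hz2.eq_of_src _ _
    have h2 := congrArg (fun φ => φ.hom.app (op W) z) h1
    exact h2
  obtain ⟨k, l, hl⟩ := sec_eq (mulSeq F a ⋙ EtCoh.Rpush f n) (colimit.cocone _)
    (colimit.isColimit _) W (good_of_isAffine W hW) 0 s' 0 ((h0 _).trans (h0 _).symm)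
  rw [map_zero] at hl
  have hmap : (mulSeq F a ⋙ EtCoh.Rpush f n).map l =
      (∏ i ∈ Finset.Ico 0 k, a i) • 𝟙 ((EtCoh.Rpush f n).obj F) := by
    change (EtCoh.Rpush f n).map ((∏ i ∈ Finset.Ico 0 k, a i) • 𝟙 F) = _
    rw [Functor.map_zsmul]
    exact congrArg _ (CategoryTheory.Functor.map_id _ _)
  rw [hmap] at hl
  have hl' : (∏ i ∈ Finset.Ico 0 k, a i) • s' = 0 := hl
  have hcast : (∏ i ∈ Finset.Ico 0 k, a i) = ((∏ i ∈ Finset.Ico 0 k, aL L i : ℕ) : ℤ) := by
    rw [had]
    push_cast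
    rfl
  rw [hcast, natCast_zsmul, hs'] at hl'
  exact ⟨W, g, ∏ i ∈ Finset.Ico 0 k, aL L i, ⟨y, hy⟩, primesIn_prod L _, hl'⟩

/-- For the etale sites of schemes and a set of primes L: if f : X ⟶ Y is a quasi-compact and
quasi-separated morphism of schemes and F is an abelian L-torsion sheaf on the small etale site of X
(every section is, etale-locally around each point, killed by a positive integer all of whose prime
factors lie in L), then each higher direct image R^q f_* F is an L-torsion sheaf on Y. (The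
published statement, for topoi, asks only that the morphism be quasi-compact; this row also assumes
f quasi-separated: for the spectrum of a polynomial ring in countably many variables over a
separably closed field glued to a copy of itself along the complement of the origin, and the direct
sum of the skyscraper sheaves ℤ/pⁿ at the points where exactly the n-th variable is 1, the structure
morphism to the field is quasi-compact but H¹ contains a class of infinite order.) -/
theorem result {X Y : Scheme.{u}} (f : X ⟶ Y) [QuasiCompact f] [QuasiSeparated f]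
    [EtCoh.BCCont f] (L : Set ℕ) (F : EtCoh.Ab X) (hF : EtAcyc.IsLTorsion L F) (q : ℕ) :
    EtAcyc.IsLTorsion L ((EtCoh.Rpush f q).obj F) := by
  exact main f L F hF q

end Groth.Agent.S8560
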