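import Groth.Statements.S8562
import Mathlib
-- import your own Groth.Agent.* helpers here

set_option autoImplicit false
universe u
open CategoryTheory CategoryTheory.Limits AlgebraicGeometry Opposite
open NonAbH1

namespace Groth.Agent.S8562


section helpers

variable {X Y : Scheme.{u}} (f : X ⟶ Y) [EtCoh.BCCont f]

/-- the pushforward of an `F`-sheaf as an `f_*F`-sheaf -/
noncomputable def pushG (F : Sheaf X.smallEtaleTopology GrpCat.{u + 1}) (Q : NonAbH1.GSheaf F) :
    NonAbH1.GSheaf (((EtCoh.bc f).sheafPushforwardContinuous GrpCat.{u + 1}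
        Y.smallEtaleTopology X.smallEtaleTopology).obj F) where
  P := ((EtCoh.bc f).sheafPushforwardContinuous (Type (u + 1))
        Y.smallEtaleTopology X.smallEtaleTopology).obj Q.P
  smul {V} g p := Q.smul (U := op ((EtCoh.bc f).obj V.unop)) g p
  one_smul p := Q.one_smul _
  mul_smul g h p := Q.mul_smul _ _ _
  map_smul a g p := Q.map_smul ((EtCoh.bc f).map a.unop).op g p

lemma mem_small_iff {Y : Scheme.{u}} (U : Y.Etale) (S : Sieve U) :
    S ∈ Y.smallEtaleTopology U ↔ ∀ x : U.left, ∃ (V : Y.Etale) (g : V ⟶ U) (y : V.left),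
        S g ∧ g.left y = x := by
  have eY : Y.smallEtaleTopology =
      (Y.smallPretopology (P := EtCoh.etaleMP) (Q := EtCoh.etaleMP)).toGrothendieck :=
    Scheme.smallGrothendieckTopology_eq_toGrothendieck_smallPretopology Y le_rfl
  constructor
  · intro h x
    rw [eY] at h
    obtain ⟨V, g, y, h1, -, h2⟩ := (Scheme.mem_toGrothendieck_smallPretopology U S).1 h x
    exact ⟨V, g, y, h1, h2⟩
  · intro h
    rw [eY]
    refine (Scheme.mem_toGrothendieck_smallPretopology U S).2 ?_
    intro x
    obtain ⟨V, g, y, h1, h2⟩ := h x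
    exact ⟨V, g, y, h1, inferInstance, h2⟩

end helpers

/-- Exactness of the sequence 0 → H¹(Y, f_*F) → H¹(X, F) → H⁰(Y, R¹f_*F) at its middle term, in terms of
torsors: let f : X ⟶ Y be a morphism of schemes, F a sheaf of groups on the small etale site of X,
f_*F its direct image on Y (sections over an etale Y-scheme V are the sections of F over X ×_Y V),
and Q an F-torsor. Then Q is the image of a class in H¹(Y, f_*F), in the sense that there are an
f_*F-torsor P on Y and a morphism of sheaves of sets from P to the direct image of the sheaf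
underlying Q which is equivariant for the actions of f_*F, if and only if the class of Q is locally
trivial over Y: there is a jointly surjective family of etale Y-schemes Y_i such that Q has a
section over every X ×_Y Y_i. -/
theorem result {X Y : Scheme.{u}} (f : X ⟶ Y)
    [EtCoh.BCCont f] (F : Sheaf X.smallEtaleTopology GrpCat.{u + 1}) (Q : NonAbH1.Torsor F) :
    (∃ (P : NonAbH1.Torsor (((EtCoh.bc f).sheafPushforwardContinuous GrpCat.{u + 1}
        Y.smallEtaleTopology X.smallEtaleTopology).obj F))
      (φ : P.P ⟶ ((EtCoh.bc f).sheafPushforwardContinuous (Type (u + 1))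
        Y.smallEtaleTopology X.smallEtaleTopology).obj Q.P),
      ∀ (V : Y.Etaleᵒᵖ) (g : F.obj.obj (op ((EtCoh.bc f).obj V.unop))) (s : P.P.obj.obj V),
        φ.hom.app V (P.smul g s) = Q.smul g (φ.hom.app V s)) ↔
    ∃ (ι : Type u) (V : ι → Y.Etale), EtCoh.Covers V ∧
      ∀ i, Nonempty (Q.P.obj.obj (op ((EtCoh.bc f).obj (V i)))) := by
  constructor
  · rintro ⟨P, φ, -⟩
    obtain ⟨S, hS, hne⟩ := P.isTorsor.2 (EtCoh.top Y)
    rw [mem_small_iff] at hS
    choose V g y hSg hy using hS
    refine ⟨Y, fun x => V x, ?_, fun x => ?_⟩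
    · intro x
      refine ⟨x, y x, ?_⟩
      have h1 := Over.w (g x).hom
      have h2 : (g x).left = (V x).hom :=
        (Category.comp_id _).symm.trans h1
      rw [← h2]
      exact hy x
    · obtain ⟨p⟩ := hne (g x) (hSg x)
      exact ⟨φ.hom.app (op (V x)) p⟩
  · rintro ⟨ι, V, hV, hne⟩
    refine ⟨⟨pushG f F Q.toGSheaf, ?_, ?_⟩, 𝟙 _, fun V g s => rfl⟩
    · intro U p q
      exact Q.isTorsor.1 (op ((EtCoh.bc f).obj U.unop)) p q
    · intro U
      let S : Sieve U := {
        arrows := fun W _ => Nonempty (Q.P.obj.obj (op ((EtCoh.bc f).obj W)))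
        downward_closed := by
          rintro W W' g ⟨p⟩ h
          exact ⟨Q.P.obj.map ((EtCoh.bc f).map h).op p⟩ }
      refine ⟨S, ?_, fun W g hg => hg⟩
      rw [mem_small_iff]
      intro x
      obtain ⟨i, v, hv⟩ := hV (U.hom.base x)
      obtain ⟨z, hz1, hz2⟩ := Scheme.Pullback.exists_preimage_pullback (f := U.hom) (g := (V i).hom) x v hv.symm
      let W : Y.Etale := Scheme.Etale.mk (pullback.fst U.hom (V i).hom ≫ U.hom)
      let a : W ⟶ U := MorphismProperty.Over.homMk (pullback.fst U.hom (V i).hom) rfl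
      let b : W ⟶ V i := MorphismProperty.Over.homMk (pullback.snd U.hom (V i).hom) pullback.condition.symm
      refine ⟨W, a, z, ?_, hz1⟩
      obtain ⟨q⟩ := hne i
      exact ⟨Q.P.obj.map ((EtCoh.bc f).map b).op q⟩

end Groth.Agent.S8562
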