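import Groth.Statements.S8565
import Mathlib
import Groth.Agent.S6800
-- import your own Groth.Agent.* helpers here

set_option autoImplicit false
open CategoryTheory CategoryTheory.Limits Opposite
universe v u
open Hyper

namespace Groth.Agent.S8565

section Aux
open CategoryTheory CategoryTheory.Limits Opposite SimplexCategory Simplicial
namespace S8565aux

variable {E : Type u} [Category.{v} E] [HasFiniteLimits E] (n : ℕ)
    [∀ (F : (SimplexCategory.Truncated n)ᵒᵖ ⥤ E), (SimplexCategory.Truncated.inclusion n).op.HasRightKanExtension F]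

/-- the inclusion -/
abbrev LL : (SimplexCategory.Truncated n)ᵒᵖ ⥤ SimplexCategoryᵒᵖ := (SimplexCategory.Truncated.inclusion n).op

/-- the coskeleton -/
noncomputable abbrev ck (X : SimplicialObject E) : SimplicialObject E := (LL n).ran.obj (LL n ⋙ X)

example (X : SimplicialObject E) : ck n X = (SimplicialObject.cosk n).obj X := rfl

/-- the counit -/
noncomputable abbrev eps (X : SimplicialObject E) : LL n ⋙ ck n X ⟶ LL n ⋙ X :=
  (LL n).ranCounit.app (LL n ⋙ X)

instance (X : SimplicialObject E) :
    (LL n).HasPointwiseRightKanExtension (LL n ⋙ X) :=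
  Groth.Agent.S6800.result n _

/-- pointwise -/
noncomputable def isPW (X : SimplicialObject E) :
    (Functor.RightExtension.mk _ (eps n X)).IsPointwiseRightKanExtension :=
  Functor.isPointwiseRightKanExtensionRanCounit (LL n) (LL n ⋙ X)

/-- projections -/
noncomputable def P (X : SimplicialObject E) {m : SimplexCategory} (a : SimplexCategory.Truncated n)
    (φ : a.obj ⟶ m) : (ck n X).obj (op m) ⟶ X.obj (op a.obj) :=
  (ck n X).map φ.op ≫ (eps n X).app (op a)

lemma map_P (X : SimplicialObject E) {m q : SimplexCategory} (a : SimplexCategory.Truncated n)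
    (φ : a.obj ⟶ m) (ψ : m ⟶ q) :
    (ck n X).map ψ.op ≫ P n X a φ = P n X a (φ ≫ ψ) := by
  unfold P
  rw [← Category.assoc, ← Functor.map_comp, ← op_comp]

lemma P_map (X : SimplicialObject E) {m : SimplexCategory} (a a' : SimplexCategory.Truncated n)
    (φ : a.obj ⟶ m) (ψ : a' ⟶ a) :
    P n X a φ ≫ X.map ((SimplexCategory.Truncated.inclusion n).map ψ).op =
      P n X a' ((SimplexCategory.Truncated.inclusion n).map ψ ≫ φ) := by
  unfold P
  have := (eps n X).naturality ψ.op
  rw [Category.assoc]
  erw [← this]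
  rw [← Category.assoc]
  erw [← Functor.map_comp]
  rfl

lemma hom_ext_ck (X : SimplicialObject E) {m : SimplexCategory} {Z : E}
    (u v : Z ⟶ (ck n X).obj (op m))
    (h : ∀ (a : SimplexCategory.Truncated n) (φ : a.obj ⟶ m), u ≫ P n X a φ = v ≫ P n X a φ) :
    u = v := by
  apply (isPW n X (op m)).hom_ext
  intro g
  have := h g.right.unop g.hom.unop
  exact this

/-- the coskeleton map -/
noncomputable def ckm {X X' : SimplicialObject E} (f : X ⟶ X') : ck n X ⟶ ck n X' :=
  (SimplicialObject.cosk n).map f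

lemma ckm_P {X X' : SimplicialObject E} (f : X ⟶ X') {m : SimplexCategory}
    (a : SimplexCategory.Truncated n) (φ : a.obj ⟶ m) :
    (ckm n f).app (op m) ≫ P n X' a φ = P n X a φ ≫ f.app (op a.obj) := by
  unfold P
  have h1 : (ck n X).map φ.op ≫ (ckm n f).app (op a.obj) =
    (ckm n f).app (op m) ≫ (ck n X').map φ.op :=
    (ckm n f).naturality φ.op
  have h2 : (ckm n f).app (op a.obj) ≫ (eps n X').app (op a) =
      (eps n X).app (op a) ≫ f.app (op a.obj) :=
    congrArg (fun (t : LL n ⋙ ck n X ⟶ LL n ⋙ X') => t.app (op a))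
      ((LL n).ranCounit.naturality ((SimplicialObject.truncation n).map f))
  rw [← Category.assoc, ← h1, Category.assoc, h2, Category.assoc]


section M
variable {n} {X X' : SimplicialObject E} (f g : X ⟶ X')
  (hfg : ∀ p : ℕ, p < n → f.app (op (SimplexCategory.mk p)) = g.app (op (SimplexCategory.mk p)))

include hfg in
lemma nonsurj {p q : SimplexCategory} (ψ : p ⟶ q) (hq : q.len ≤ n)
    (hψ : ¬ Function.Surjective ψ.toOrderHom) :
    X.map ψ.op ≫ g.app (op p) = X.map ψ.op ≫ f.app (op p) := by
  induction q using SimplexCategory.rec with | _ k => ?_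
  cases k with
  | zero =>
    exfalso
    apply hψ
    intro y
    have : Subsingleton (Fin (⦋0⦌.len + 1)) := by
      rw [SimplexCategory.len_mk]; exact (inferInstance : Subsingleton (Fin 1))
    refine ⟨0, Subsingleton.elim _ _⟩
  | succ k =>
    obtain ⟨i, θ', rfl⟩ := SimplexCategory.eq_comp_δ_of_not_surjective ψ hψ
    have hk : k < n := by
      rw [SimplexCategory.len_mk] at hq
      omega
    rw [op_comp, Functor.map_comp, Category.assoc, Category.assoc, g.naturality, f.naturality,
      hfg k hk]

/-- the choice between `f` and `g` -/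
def ch (c : Bool) (a : SimplexCategory) : X.obj (op a) ⟶ X'.obj (op a) :=
  bif c then g.app (op a) else f.app (op a)

/-- the colour of a simplex -/
def col {m' a : SimplexCategory} (c : Fin (m'.len + 1) → Bool) (φ : a ⟶ m') : Bool :=
  decide (∃ i, c (φ.toOrderHom i) = true)

include hfg in
lemma ch_map {a a' m' : SimplexCategory} (ha : a.len ≤ n) (c : Fin (m'.len + 1) → Bool)
    (φ : a ⟶ m') (ψ : a' ⟶ a) :
    ch f g (col c φ) a ≫ X'.map ψ.op = X.map ψ.op ≫ ch f g (col c (ψ ≫ φ)) a' := by
  by_cases h2 : col c (ψ ≫ φ) = true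
  · have h1 : col c φ = true := by
      unfold col at h2 ⊢
      simp only [decide_eq_true_eq] at h2 ⊢
      obtain ⟨i, hi⟩ := h2
      exact ⟨ψ.toOrderHom i, hi⟩
    rw [h1, h2]
    exact (g.naturality ψ.op).symm
  · rw [Bool.not_eq_true] at h2
    by_cases h1 : col c φ = true
    · rw [h1, h2]
      show g.app _ ≫ _ = _ ≫ f.app _
      rw [← g.naturality]
      apply nonsurj f g hfg ψ ha
      intro hs
      unfold col at h1 h2
      simp only [decide_eq_true_eq, decide_eq_false_iff_not, not_exists] at h1 h2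
      obtain ⟨i, hi⟩ := h1
      obtain ⟨j, rfl⟩ := hs i
      exact h2 j hi
    · rw [Bool.not_eq_true] at h1
      rw [h1, h2]
      exact (f.naturality ψ.op).symm

end M


section M2
variable {n} {X X' : SimplicialObject E} (f g : X ⟶ X')
  (hfg : ∀ p : ℕ, p < n → f.app (op (SimplexCategory.mk p)) = g.app (op (SimplexCategory.mk p)))

/-- component of the cone -/
noncomputable def Mapp {m m' : SimplexCategory} (θ : m' ⟶ m) (c : Fin (m'.len + 1) → Bool)
    (a : SimplexCategory.Truncated n) (φ : a.obj ⟶ m') :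
    (ck n X).obj (op m) ⟶ X'.obj (op a.obj) :=
  P n X a (φ ≫ θ) ≫ ch f g (col c φ) a.obj

include hfg in
lemma Mapp_map {m m' : SimplexCategory} (θ : m' ⟶ m) (c : Fin (m'.len + 1) → Bool)
    (a a' : SimplexCategory.Truncated n) (φ : a.obj ⟶ m') (ψ : a' ⟶ a) :
    Mapp f g θ c a φ ≫ X'.map ((SimplexCategory.Truncated.inclusion n).map ψ).op =
      Mapp f g θ c a' ((SimplexCategory.Truncated.inclusion n).map ψ ≫ φ) := by
  unfold Mapp
  rw [Category.assoc, ch_map f g hfg a.property c φ, ← Category.assoc, P_map, Category.assoc]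
  rfl

include hfg in
/-- the cone defining `M` -/
noncomputable def Mcone {m m' : SimplexCategory} (θ : m' ⟶ m) (c : Fin (m'.len + 1) → Bool) :
    Cone (StructuredArrow.proj (op m') (LL n) ⋙ (LL n ⋙ X')) where
  pt := (ck n X).obj (op m)
  π :=
    { app := fun s => Mapp f g θ c s.right.unop s.hom.unop
      naturality := by
        intro s s' u
        have hw : s'.hom.unop = (SimplexCategory.Truncated.inclusion n).map u.right.unop ≫
            s.hom.unop := by
          have := StructuredArrow.w u
          rw [← this]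
          rfl
        have := Mapp_map f g hfg θ c s.right.unop s'.right.unop s.hom.unop u.right.unop
        rw [← hw] at this
        erw [Category.id_comp]
        exact this.symm }

/-- the general map -/
noncomputable def M {m m' : SimplexCategory} (θ : m' ⟶ m) (c : Fin (m'.len + 1) → Bool) :
    (ck n X).obj (op m) ⟶ (ck n X').obj (op m') :=
  (isPW n X' (op m')).lift (Mcone f g hfg θ c)

lemma M_P {m m' : SimplexCategory} (θ : m' ⟶ m) (c : Fin (m'.len + 1) → Bool)
    (a : SimplexCategory.Truncated n) (φ : a.obj ⟶ m') :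
    M f g hfg θ c ≫ P n X' a φ = Mapp f g θ c a φ :=
  (isPW n X' (op m')).fac (Mcone f g hfg θ c) (StructuredArrow.mk (Y := op a) φ.op)

end M2


section M3
variable {n} {X X' : SimplicialObject E} (f g : X ⟶ X')
  (hfg : ∀ p : ℕ, p < n → f.app (op (SimplexCategory.mk p)) = g.app (op (SimplexCategory.mk p)))

lemma col_comp {m' m'' a : SimplexCategory} (c : Fin (m'.len + 1) → Bool) (φ : a ⟶ m'')
    (ψ : m'' ⟶ m') : col c (φ ≫ ψ) = col (c ∘ ψ.toOrderHom) φ := rfl

lemma col_false {m' a : SimplexCategory} (φ : a ⟶ m') : col (fun _ => false) φ = false := by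
  unfold col
  simp

lemma col_true {m' a : SimplexCategory} (φ : a ⟶ m') : col (fun _ => true) φ = true := by
  unfold col
  simp only [decide_eq_true_eq, exists_const]

lemma M_comp_map {m m' m'' : SimplexCategory} (θ : m' ⟶ m) (c : Fin (m'.len + 1) → Bool)
    (ψ : m'' ⟶ m') :
    M f g hfg θ c ≫ (ck n X').map ψ.op = M f g hfg (ψ ≫ θ) (c ∘ ψ.toOrderHom) := by
  apply hom_ext_ck
  intro a φ
  rw [Category.assoc, map_P, M_P, M_P]
  unfold Mapp
  rw [col_comp, Category.assoc]

lemma map_comp_M {m m' q : SimplexCategory} (θ : m' ⟶ m) (c : Fin (m'.len + 1) → Bool)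
    (ψ : m ⟶ q) :
    (ck n X).map ψ.op ≫ M f g hfg θ c = M f g hfg (θ ≫ ψ) c := by
  apply hom_ext_ck
  intro a φ
  rw [Category.assoc, M_P, M_P]
  unfold Mapp
  rw [← Category.assoc, map_P, Category.assoc]

lemma ckm_f_eq (m : SimplexCategory) :
    (ckm n f).app (op m) = M f g hfg (𝟙 m) (fun _ => false) := by
  apply hom_ext_ck
  intro a φ
  rw [ckm_P, M_P]
  unfold Mapp
  rw [col_false, Category.comp_id]
  rfl

lemma ckm_g_eq (m : SimplexCategory) :
    (ckm n g).app (op m) = M f g hfg (𝟙 m) (fun _ => true) := by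
  apply hom_ext_ck
  intro a φ
  rw [ckm_P, M_P]
  unfold Mapp
  rw [col_true, Category.comp_id]
  rfl

lemma M_congr {m m' : SimplexCategory} {θ θ' : m' ⟶ m} {c c' : Fin (m'.len + 1) → Bool}
    (h1 : θ = θ') (h2 : c = c') : M f g hfg θ c = M f g hfg θ' c' := by
  subst h1 h2; rfl

end M3


section H
variable {n} {X X' : SimplicialObject E} (f g : X ⟶ X')
  (hfg : ∀ p : ℕ, p < n → f.app (op (SimplexCategory.mk p)) = g.app (op (SimplexCategory.mk p)))

lemma val_succAbove {n : ℕ} (p : Fin (n + 1)) (i : Fin n) :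
    (p.succAbove i).val = if i.val < p.val then i.val else i.val + 1 := by
  unfold Fin.succAbove
  simp only [Fin.lt_def, Fin.val_castSucc]
  split_ifs <;> simp

lemma val_predAbove {n : ℕ} (p : Fin n) (i : Fin (n + 1)) :
    (p.predAbove i).val = if p.val < i.val then i.val - 1 else i.val := by
  unfold Fin.predAbove
  simp only [Fin.lt_def, Fin.val_castSucc]
  split_ifs <;> simp

lemma sc_hom_ext {a b : ℕ} (θ θ' : (⦋a⦌ : SimplexCategory) ⟶ ⦋b⦌)
    (h : ∀ k : Fin (a + 1), (θ.toOrderHom k).val = (θ'.toOrderHom k).val) : θ = θ' := by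
  apply SimplexCategory.Hom.ext
  apply OrderHom.ext
  funext k
  exact Fin.ext (h k)

lemma toOrderHom_δ {m : ℕ} (i : Fin (m + 2)) (k : Fin (m + 1)) :
    (SimplexCategory.δ i).toOrderHom k = i.succAbove k := rfl

lemma toOrderHom_σ {m : ℕ} (i : Fin (m + 1)) (k : Fin (m + 2)) :
    (SimplexCategory.σ i).toOrderHom k = i.predAbove k := rfl

lemma toOrderHom_comp {a b c : SimplexCategory} (θ : a ⟶ b) (θ' : b ⟶ c) (k : Fin (a.len + 1)) :
    (θ ≫ θ').toOrderHom k = θ'.toOrderHom (θ.toOrderHom k) := rfl

lemma toOrderHom_id {a : SimplexCategory} (k : Fin (a.len + 1)) :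
    (𝟙 a : a ⟶ a).toOrderHom k = k := rfl

variable {m : ℕ}

/-- the homotopy operators -/
noncomputable def hh (j : Fin (m + 1)) :
    (ck n X).obj (op ⦋m⦌) ⟶ (ck n X').obj (op ⦋m + 1⦌) :=
  M f g hfg (SimplexCategory.σ j) (fun k => decide (j.castSucc < k))

lemma hh_zero :
    hh f g hfg (0 : Fin (m + 1)) ≫ (ck n X').δ 0 =
      M f g hfg (𝟙 ⦋m⦌) (fun _ => true) := by
  unfold hh SimplicialObject.δ
  rw [M_comp_map]
  apply M_congr
  · apply sc_hom_ext
    intro k
    simp [toOrderHom_comp, toOrderHom_δ, toOrderHom_σ, toOrderHom_id]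
  · funext k
    simp [toOrderHom_δ]

end H


section H2
variable {n} {X X' : SimplicialObject E} (f g : X ⟶ X')
  (hfg : ∀ p : ℕ, p < n → f.app (op (SimplexCategory.mk p)) = g.app (op (SimplexCategory.mk p)))
variable {m : ℕ}

lemma hh_last :
    hh f g hfg (Fin.last m) ≫ (ck n X').δ (Fin.last (m + 1)) =
      M f g hfg (𝟙 ⦋m⦌) (fun _ => false) := by
  unfold hh SimplicialObject.δ
  rw [M_comp_map]
  apply M_congr
  · apply sc_hom_ext
    intro k
    simp [toOrderHom_comp, toOrderHom_δ, toOrderHom_σ, toOrderHom_id]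
  · funext k
    simp only [Function.comp, toOrderHom_δ]
    simpa using Fin.le_last _

lemma hh_3 (i : Fin (m + 2)) (j : Fin (m + 1)) (hij : i ≤ j.castSucc) :
    hh f g hfg j.succ ≫ (ck n X').δ i.castSucc = (ck n X).δ i ≫ hh f g hfg j := by
  unfold hh SimplicialObject.δ
  rw [M_comp_map, map_comp_M]
  apply M_congr
  · apply sc_hom_ext
    intro k
    simp only [toOrderHom_comp, toOrderHom_δ, toOrderHom_σ, toOrderHom_id]
    simp only [Fin.lt_def, Fin.le_def, val_succAbove, val_predAbove, Fin.val_succ,
      Fin.val_castSucc] at *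
    split_ifs <;> omega
  · funext k
    simp only [Function.comp, toOrderHom_δ]
    rw [decide_eq_decide]
    simp only [Fin.lt_def, Fin.le_def, val_succAbove, val_predAbove, Fin.val_succ,
      Fin.val_castSucc] at *
    split_ifs <;> omega

lemma hh_4 (j : Fin (m + 1)) :
    hh f g hfg j.succ ≫ (ck n X').δ j.castSucc.succ =
      hh f g hfg j.castSucc ≫ (ck n X').δ j.castSucc.succ := by
  unfold hh SimplicialObject.δ
  rw [M_comp_map, M_comp_map]
  apply M_congr
  · apply sc_hom_ext
    intro k
    simp only [toOrderHom_comp, toOrderHom_δ, toOrderHom_σ, toOrderHom_id]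
    simp only [Fin.lt_def, Fin.le_def, val_succAbove, val_predAbove, Fin.val_succ,
      Fin.val_castSucc] at *
    split_ifs <;> omega
  · funext k
    simp only [Function.comp, toOrderHom_δ]
    rw [decide_eq_decide]
    simp only [Fin.lt_def, Fin.le_def, val_succAbove, val_predAbove, Fin.val_succ,
      Fin.val_castSucc] at *
    split_ifs <;> omega

lemma hh_5 (i : Fin (m + 2)) (j : Fin (m + 1)) (hji : j.castSucc < i) :
    hh f g hfg j.castSucc ≫ (ck n X').δ i.succ = (ck n X).δ i ≫ hh f g hfg j := by
  unfold hh SimplicialObject.δ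
  rw [M_comp_map, map_comp_M]
  apply M_congr
  · apply sc_hom_ext
    intro k
    simp only [toOrderHom_comp, toOrderHom_δ, toOrderHom_σ, toOrderHom_id]
    simp only [Fin.lt_def, Fin.le_def, val_succAbove, val_predAbove, Fin.val_succ,
      Fin.val_castSucc] at *
    split_ifs <;> omega
  · funext k
    simp only [Function.comp, toOrderHom_δ]
    rw [decide_eq_decide]
    simp only [Fin.lt_def, Fin.le_def, val_succAbove, val_predAbove, Fin.val_succ,
      Fin.val_castSucc] at *
    split_ifs <;> omega

lemma hh_6 (i j : Fin (m + 1)) (hij : i ≤ j) :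
    hh f g hfg j ≫ (ck n X').σ i.castSucc = (ck n X).σ i ≫ hh f g hfg j.succ := by
  unfold hh SimplicialObject.σ
  rw [M_comp_map, map_comp_M]
  apply M_congr
  · apply sc_hom_ext
    intro k
    simp only [toOrderHom_comp, toOrderHom_δ, toOrderHom_σ, toOrderHom_id]
    simp only [Fin.lt_def, Fin.le_def, val_succAbove, val_predAbove, Fin.val_succ,
      Fin.val_castSucc] at *
    split_ifs <;> omega
  · funext k
    simp only [Function.comp, toOrderHom_σ]
    rw [decide_eq_decide]
    simp only [Fin.lt_def, Fin.le_def, val_succAbove, val_predAbove, Fin.val_succ,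
      Fin.val_castSucc] at *
    split_ifs <;> omega

lemma hh_7 (i j : Fin (m + 1)) (hji : j ≤ i) :
    hh f g hfg j ≫ (ck n X').σ i.succ = (ck n X).σ i ≫ hh f g hfg j.castSucc := by
  unfold hh SimplicialObject.σ
  rw [M_comp_map, map_comp_M]
  apply M_congr
  · apply sc_hom_ext
    intro k
    simp only [toOrderHom_comp, toOrderHom_δ, toOrderHom_σ, toOrderHom_id]
    simp only [Fin.lt_def, Fin.le_def, val_succAbove, val_predAbove, Fin.val_succ,
      Fin.val_castSucc] at *
    split_ifs <;> omega
  · funext k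
    simp only [Function.comp, toOrderHom_σ]
    rw [decide_eq_decide]
    simp only [Fin.lt_def, Fin.le_def, val_succAbove, val_predAbove, Fin.val_succ,
      Fin.val_castSucc] at *
    split_ifs <;> omega

/-- the homotopy -/
noncomputable def homot : SimplicialObject.Homotopy (ckm n f) (ckm n g) where
  h j := hh f g hfg j
  h_zero_comp_δ_zero m := (hh_zero f g hfg).trans (ckm_g_eq f g hfg _).symm
  h_last_comp_δ_last m := (hh_last f g hfg).trans (ckm_f_eq f g hfg _).symm
  h_succ_comp_δ_castSucc_of_lt i j hij := hh_3 f g hfg i j hij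
  h_succ_comp_δ_castSucc_succ j := hh_4 f g hfg j
  h_castSucc_comp_δ_succ_of_lt i j hji := hh_5 f g hfg i j hji
  h_comp_σ_castSucc_of_le i j hij := hh_6 f g hfg i j hij
  h_comp_σ_succ_of_lt i j hji := hh_7 f g hfg i j hji

end H2

end S8565aux
end Aux


/-- Let E be a category with finite limits, n a natural number and f, g : X ⟶ X' two morphisms of
simplicial objects of E whose components agree in every degree p < n. Then there is a simplicial
homotopy between the morphisms cosk_n(f) and cosk_n(g) of n-coskeleta (cosk_n = right Kan extension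
of the n-truncation; Mathlib's combinatorial simplicial homotopies). For n = 0 the hypothesis is
empty. -/
theorem result {E : Type u} [Category.{v} E] [HasFiniteLimits E] (n : ℕ)
    [∀ (F : (SimplexCategory.Truncated n)ᵒᵖ ⥤ E), (SimplexCategory.Truncated.inclusion n).op.HasRightKanExtension F]
    {X X' : SimplicialObject E} (f g : X ⟶ X')
    (hfg : ∀ p : ℕ, p < n → f.app (op (SimplexCategory.mk p)) = g.app (op (SimplexCategory.mk p))) :
    Nonempty (SimplicialObject.Homotopy ((SimplicialObject.cosk n).map f) ((SimplicialObject.cosk n).map g)) := by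
  exact ⟨S8565aux.homot f g hfg⟩

end Groth.Agent.S8565
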