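import Groth.Statements.S8566
import Mathlib


set_option autoImplicit false
open CategoryTheory CategoryTheory.Limits
universe v u
open CohDer

namespace Groth.Agent.S8566

set_option linter.style.haveILetI false
open ComplexShape

variable {A : Type u} [Category.{v} A] [Abelian A]

section Proj

variable (K : HomologicalComplex₂ A (up ℤ) (up ℤ)) [K.HasTotal (up ℤ)]

/-- projection from the total complex to a summand (zero if degrees mismatch) -/
noncomputable def proj (n p q : ℤ) : (K.total (up ℤ)).X n ⟶ (K.X p).X q :=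
  K.totalDesc (fun p' q' _ =>
    if h : p' = p ∧ q' = q then eqToHom (by rw [h.1, h.2]) else 0)

theorem ι_proj (n p q p' q' : ℤ) (h : ComplexShape.π (up ℤ) (up ℤ) (up ℤ) (p', q') = n) :
    K.ιTotal (up ℤ) p' q' n h ≫ proj K n p q =
      if h : p' = p ∧ q' = q then eqToHom (by rw [h.1, h.2]) else 0 := by
  simp [proj]

theorem ι_proj_self (n p q : ℤ) (h : ComplexShape.π (up ℤ) (up ℤ) (up ℤ) (p, q) = n) :
    K.ιTotal (up ℤ) p q n h ≫ proj K n p q = 𝟙 _ := by
  rw [ι_proj, dif_pos ⟨rfl, rfl⟩]; rfl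

theorem ι_proj_ne (n p q p' q' : ℤ) (h : ComplexShape.π (up ℤ) (up ℤ) (up ℤ) (p', q') = n)
    (hne : ¬ (p' = p ∧ q' = q)) :
    K.ιTotal (up ℤ) p' q' n h ≫ proj K n p q = 0 := by
  rw [ι_proj, dif_neg hne]

theorem ι_proj_ι (n p q p' : ℤ) (hp : p = p')
    (h : ComplexShape.π (up ℤ) (up ℤ) (up ℤ) (p', q) = n)
    (h' : ComplexShape.π (up ℤ) (up ℤ) (up ℤ) (p, q) = n) :
    K.ιTotal (up ℤ) p' q n h ≫ proj K n p q ≫ K.ιTotal (up ℤ) p q n h' =
      K.ιTotal (up ℤ) p' q n h := by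
  subst hp
  rw [← Category.assoc, ι_proj_self, Category.id_comp]

theorem id_eq_sum (a b : ℤ) (hK : ∀ p q : ℤ, p < a ∨ q < b → IsZero ((K.X p).X q)) (n : ℤ) :
    𝟙 ((K.total (up ℤ)).X n) = ∑ q ∈ Finset.Icc b (n - a),
      proj K n (n - q) q ≫ K.ιTotal (up ℤ) (n - q) q n (by simp) := by
  apply HomologicalComplex₂.total.hom_ext
  intro p' q' hpq
  have hpq' : p' + q' = n := by simpa using hpq
  rw [Category.comp_id, Preadditive.comp_sum]
  by_cases hq : q' ∈ Finset.Icc b (n - a)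
  · rw [Finset.sum_eq_single q']
    · exact (ι_proj_ι K n (n - q') q' p' (by omega) hpq (by simp)).symm
    · intro q _ hne
      rw [← Category.assoc, ι_proj_ne K n (n - q) q p' q' hpq (fun h => hne h.2.symm),
        zero_comp]
    · intro h; exact absurd hq h
  · have hz : IsZero ((K.X p').X q') := by
      apply hK
      rw [Finset.mem_Icc, not_and_or, not_le, not_le] at hq
      rcases hq with hq | hq
      · exact Or.inr hq
      · exact Or.inl (by omega)
    exact hz.eq_of_src _ _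

theorem hom_ext_proj (a b : ℤ) (hK : ∀ p q : ℤ, p < a ∨ q < b → IsZero ((K.X p).X q))
    {T : A} {n : ℤ} (x y : T ⟶ (K.total (up ℤ)).X n)
    (h : ∀ p q : ℤ, p + q = n → x ≫ proj K n p q = y ≫ proj K n p q) : x = y := by
  rw [← Category.comp_id x, ← Category.comp_id y, id_eq_sum K a b hK n, Preadditive.comp_sum,
    Preadditive.comp_sum]
  apply Finset.sum_congr rfl
  intro q _
  rw [← Category.assoc, ← Category.assoc, h (n - q) q (by omega)]

theorem d_proj (n n' p₀ p q₀ q : ℤ) (hn : n + 1 = n') (hp : p₀ + 1 = p) (hq : q₀ + 1 = q) :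
    (K.total (up ℤ)).d n n' ≫ proj K n' p q =
      proj K n p₀ q ≫ (K.d p₀ p).f q +
        ComplexShape.ε₂ (up ℤ) (up ℤ) (up ℤ) (p, q₀) • (proj K n p q₀ ≫ (K.X p).d q₀ q) := by
  subst hn hp hq
  apply HomologicalComplex₂.total.hom_ext
  intro p' q' hpq
  have hpq' : p' + q' = n := by simpa using hpq
  have e1 : K.ιTotal (up ℤ) p' q' n hpq ≫ (K.total (up ℤ)).d n (n + 1) =
      K.d₁ (up ℤ) p' q' (n + 1) + K.d₂ (up ℤ) p' q' (n + 1) := by
    simp [HomologicalComplex₂.total]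
  rw [← Category.assoc, e1, Preadditive.add_comp, Preadditive.comp_add,
    K.d₁_eq (up ℤ) (show (up ℤ).Rel p' (p' + 1) from rfl) q' (n + 1) (by simp; omega),
    K.d₂_eq (up ℤ) p' (show (up ℤ).Rel q' (q' + 1) from rfl) (n + 1) (by simp; omega)]
  simp only [Linear.units_smul_comp, Linear.comp_units_smul, Category.assoc, ι_proj,
    ← Category.assoc (K.ιTotal (up ℤ) p' q' n hpq)]
  by_cases h1 : p' = p₀ ∧ q' = q₀ + 1
  · obtain ⟨rfl, rfl⟩ := h1
    simp
  · by_cases h2 : p' = p₀ + 1 ∧ q' = q₀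
    · obtain ⟨rfl, rfl⟩ := h2
      simp
    · have h3 : ¬ (p' + 1 = p₀ + 1 ∧ q' = q₀ + 1) := fun h => h1 ⟨by omega, h.2⟩
      have h4 : ¬ (p' = p₀ + 1 ∧ q' + 1 = q₀ + 1) := fun h => h2 ⟨h.1, by omega⟩
      simp [h1, h2, h3, h4]

end Proj

section Map

variable {K L : HomologicalComplex₂ A (up ℤ) (up ℤ)} (φ : K ⟶ L)
  [K.HasTotal (up ℤ)] [L.HasTotal (up ℤ)]

theorem map_proj (n p q : ℤ) :
    (HomologicalComplex₂.total.map φ (up ℤ)).f n ≫ proj L n p q =
      proj K n p q ≫ (φ.f p).f q := by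
  apply HomologicalComplex₂.total.hom_ext
  intro p' q' hpq
  rw [← Category.assoc, HomologicalComplex₂.ιTotal_map, Category.assoc, ι_proj,
    ← Category.assoc, ι_proj]
  by_cases h : p' = p ∧ q' = q
  · obtain ⟨rfl, rfl⟩ := h
    simp
  · simp [h]

end Map

section Rows

variable {K L : HomologicalComplex₂ A (up ℤ) (up ℤ)} (φ : K ⟶ L) [QuasiIso φ]

instance (q : ℤ) : (HomologicalComplex.eval A (up ℤ) q).PreservesHomology := inferInstance

noncomputable abbrev rowMap (q : ℤ) :=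
  ((HomologicalComplex.eval A (up ℤ) q).mapHomologicalComplex (up ℤ)).map φ

instance (q : ℤ) : QuasiIso (rowMap φ q) := inferInstance

theorem row_mono (q i j k : ℤ) (hi : i + 1 = j) (hk : j + 1 = k) {T : A}
    (x : T ⟶ (K.X j).X q) (hx : x ≫ (K.d j k).f q = 0) (y : T ⟶ (L.X i).X q)
    (hxy : x ≫ (φ.f j).f q = y ≫ (L.d i j).f q) :
    ∃ (T' : A) (π : T' ⟶ T) (_ : Epi π) (w : T' ⟶ (K.X i).X q),
      π ≫ x = w ≫ (K.d i j).f q := by
  have h1 : Mono (HomologicalComplex.homologyMap (rowMap φ q) j) := inferInstance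
  rw [HomologicalComplex.mono_homologyMap_iff_up_to_refinements (rowMap φ q) i j k
    (by simp; omega) (by simp; omega)] at h1
  exact h1 x hx y hxy

theorem row_epi (q i j k : ℤ) (hi : i + 1 = j) (hk : j + 1 = k) {T : A}
    (y : T ⟶ (L.X j).X q) (hy : y ≫ (L.d j k).f q = 0) :
    ∃ (T' : A) (π : T' ⟶ T) (_ : Epi π) (x : T' ⟶ (K.X j).X q)
      (_ : x ≫ (K.d j k).f q = 0) (v : T' ⟶ (L.X i).X q),
      π ≫ y = x ≫ (φ.f j).f q + v ≫ (L.d i j).f q := by
  have h1 : Epi (HomologicalComplex.homologyMap (rowMap φ q) j) := inferInstance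
  rw [HomologicalComplex.epi_homologyMap_iff_up_to_refinements (rowMap φ q) i j k
    (by simp; omega) (by simp; omega)] at h1
  exact h1 y hy

end Rows

section Supp

variable (K : HomologicalComplex₂ A (up ℤ) (up ℤ)) [K.HasTotal (up ℤ)]

/-- `x` is supported in rows `≥ k`. -/
def Supp {T : A} {n : ℤ} (k : ℤ) (x : T ⟶ (K.total (up ℤ)).X n) : Prop :=
  ∀ p q : ℤ, p + q = n → q < k → x ≫ proj K n p q = 0

variable {K}

theorem Supp.comp {T T' : A} {n k : ℤ} {x : T ⟶ (K.total (up ℤ)).X n} (hx : Supp K k x)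
    (π : T' ⟶ T) : Supp K k (π ≫ x) := by
  intro p q hpq hq
  rw [Category.assoc, hx p q hpq hq, comp_zero]

theorem Supp.sub {T : A} {n k : ℤ} {x y : T ⟶ (K.total (up ℤ)).X n} (hx : Supp K k x)
    (hy : Supp K k y) : Supp K k (x - y) := by
  intro p q hpq hq
  rw [Preadditive.sub_comp, hx p q hpq hq, hy p q hpq hq, sub_zero]

theorem Supp.of_le {T : A} {n k k' : ℤ} {x : T ⟶ (K.total (up ℤ)).X n} (hx : Supp K k x)
    (h : k' ≤ k) : Supp K k' x := fun p q hpq hq => hx p q hpq (by omega)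

theorem Supp.succ {T : A} {n k : ℤ} {x : T ⟶ (K.total (up ℤ)).X n} (hx : Supp K k x)
    (h : ∀ p : ℤ, p + k = n → x ≫ proj K n p k = 0) : Supp K (k + 1) x := by
  intro p q hpq hq
  by_cases hqk : q = k
  · subst hqk; exact h p hpq
  · exact hx p q hpq (by omega)

theorem Supp.eq_zero (a b : ℤ) (hK : ∀ p q : ℤ, p < a ∨ q < b → IsZero ((K.X p).X q))
    {T : A} {n k : ℤ} {x : T ⟶ (K.total (up ℤ)).X n} (hx : Supp K k x) (hk : n - a < k) :
    x = 0 := by
  apply hom_ext_proj K a b hK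
  intro p q hpq
  rw [zero_comp]
  by_cases hq : q < k
  · exact hx p q hpq hq
  · exact (hK p q (Or.inl (by omega))).eq_of_tgt _ _

/-- the inclusion of a component -/
noncomputable abbrev inj {T : A} {p₀ q₀ : ℤ} (w : T ⟶ (K.X p₀).X q₀) (m : ℤ) (h : p₀ + q₀ = m) :
    T ⟶ (K.total (up ℤ)).X m :=
  w ≫ K.ιTotal (up ℤ) p₀ q₀ m (by simpa using h)

theorem inj_proj_self {T : A} {p₀ q₀ : ℤ} (w : T ⟶ (K.X p₀).X q₀) (m : ℤ) (h : p₀ + q₀ = m) :
    inj w m h ≫ proj K m p₀ q₀ = w := by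
  rw [Category.assoc, ι_proj_self, Category.comp_id]

theorem inj_proj_ne {T : A} {p₀ q₀ : ℤ} (w : T ⟶ (K.X p₀).X q₀) (m : ℤ) (h : p₀ + q₀ = m)
    (p q : ℤ) (hne : ¬ (p₀ = p ∧ q₀ = q)) :
    inj w m h ≫ proj K m p q = 0 := by
  rw [Category.assoc, ι_proj_ne K m p q p₀ q₀ _ hne, comp_zero]

theorem inj_d_proj_main {T : A} {p₀ q₀ : ℤ} (w : T ⟶ (K.X p₀).X q₀) (m m' : ℤ)
    (h : p₀ + q₀ = m) (hm : m + 1 = m') (p₁ : ℤ) (hp : p₀ + 1 = p₁) :
    (inj w m h ≫ (K.total (up ℤ)).d m m') ≫ proj K m' p₁ q₀ = w ≫ (K.d p₀ p₁).f q₀ := by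
  rw [Category.assoc (inj w m h), d_proj K m m' p₀ p₁ (q₀ - 1) q₀ hm hp (by omega),
    Preadditive.comp_add, ← Category.assoc, inj_proj_self, Linear.comp_units_smul,
    ← Category.assoc, inj_proj_ne w m h p₁ (q₀ - 1) (fun h => by omega), zero_comp,
    smul_zero, add_zero]

theorem inj_d_proj_lt {T : A} {p₀ q₀ : ℤ} (w : T ⟶ (K.X p₀).X q₀) (m m' : ℤ)
    (h : p₀ + q₀ = m) (hm : m + 1 = m') (p q : ℤ) (hq : q < q₀) :
    (inj w m h ≫ (K.total (up ℤ)).d m m') ≫ proj K m' p q = 0 := by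
  rw [Category.assoc (inj w m h), d_proj K m m' (p - 1) p (q - 1) q hm (by omega) (by omega),
    Preadditive.comp_add, ← Category.assoc,
    inj_proj_ne w m h (p - 1) q (fun h => by omega), zero_comp, Linear.comp_units_smul,
    ← Category.assoc, inj_proj_ne w m h p (q - 1) (fun h => by omega), zero_comp,
    smul_zero, add_zero]

theorem supp_inj_d {T : A} {p₀ q₀ : ℤ} (w : T ⟶ (K.X p₀).X q₀) (m m' : ℤ)
    (h : p₀ + q₀ = m) (hm : m + 1 = m') :
    Supp K q₀ (inj w m h ≫ (K.total (up ℤ)).d m m') :=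
  fun p q _ hq => inj_d_proj_lt w m m' h hm p q hq

end Supp

section MapSupp

variable {K L : HomologicalComplex₂ A (up ℤ) (up ℤ)} (φ : K ⟶ L)
  [K.HasTotal (up ℤ)] [L.HasTotal (up ℤ)]

theorem supp_d_proj {T : A} {n n' k p p' : ℤ} {x : T ⟶ (K.total (up ℤ)).X n}
    (hx : Supp K k x) (hn : n + 1 = n') (hp : p + 1 = p') (hpk : p' + k = n') :
    (x ≫ (K.total (up ℤ)).d n n') ≫ proj K n' p' k = (x ≫ proj K n p k) ≫ (K.d p p').f k := by
  rw [Category.assoc, d_proj K n n' p p' (k - 1) k hn hp (by omega), Preadditive.comp_add,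
    Linear.comp_units_smul, ← Category.assoc x (proj K n p' (k - 1)),
    hx p' (k - 1) (by omega) (by omega), zero_comp, smul_zero, add_zero, Category.assoc]

theorem inj_map_proj_self {T : A} {p₀ q₀ : ℤ} (w : T ⟶ (K.X p₀).X q₀) (m : ℤ)
    (h : p₀ + q₀ = m) :
    (inj w m h ≫ (HomologicalComplex₂.total.map φ (up ℤ)).f m) ≫ proj L m p₀ q₀ =
      w ≫ (φ.f p₀).f q₀ := by
  rw [Category.assoc (inj w m h), map_proj, ← Category.assoc, inj_proj_self]

theorem inj_map_proj_ne {T : A} {p₀ q₀ : ℤ} (w : T ⟶ (K.X p₀).X q₀) (m : ℤ)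
    (h : p₀ + q₀ = m) (p q : ℤ) (hne : ¬ (p₀ = p ∧ q₀ = q)) :
    (inj w m h ≫ (HomologicalComplex₂.total.map φ (up ℤ)).f m) ≫ proj L m p q = 0 := by
  rw [Category.assoc (inj w m h), map_proj, ← Category.assoc, inj_proj_ne w m h p q hne,
    zero_comp]

theorem supp_inj_map {T : A} {p₀ q₀ : ℤ} (w : T ⟶ (K.X p₀).X q₀) (m : ℤ)
    (h : p₀ + q₀ = m) :
    Supp L q₀ (inj w m h ≫ (HomologicalComplex₂.total.map φ (up ℤ)).f m) :=
  fun p q _ hq => inj_map_proj_ne φ w m h p q (fun h => by omega)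

theorem Supp.map {T : A} {n k : ℤ} {x : T ⟶ (K.total (up ℤ)).X n} (hx : Supp K k x) :
    Supp L k (x ≫ (HomologicalComplex₂.total.map φ (up ℤ)).f n) := by
  intro p q hpq hq
  rw [Category.assoc, map_proj, ← Category.assoc, hx p q hpq hq, zero_comp]

end MapSupp

section Chase

variable {K L : HomologicalComplex₂ A (up ℤ) (up ℤ)} (φ : K ⟶ L)
  [K.HasTotal (up ℤ)] [L.HasTotal (up ℤ)] [QuasiIso φ]
  (a b : ℤ) (hK : ∀ p q : ℤ, p < a ∨ q < b → IsZero ((K.X p).X q))

include hK in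
theorem mono_chase (nm n0 n1 n2 : ℤ) (h0 : nm + 1 = n0) (h1 : n0 + 1 = n1) (h2 : n1 + 1 = n2) :
    ∀ (m : ℕ) (k : ℤ), k + m = n1 - a + 1 → ∀ {T : A} (x : T ⟶ (K.total (up ℤ)).X n1)
      (y : T ⟶ (L.total (up ℤ)).X n0),
      x ≫ (K.total (up ℤ)).d n1 n2 = 0 →
      x ≫ (HomologicalComplex₂.total.map φ (up ℤ)).f n1 = y ≫ (L.total (up ℤ)).d n0 n1 →
      Supp K k x → Supp L k y →
      ∃ (T' : A) (π : T' ⟶ T) (_ : Epi π) (w : T' ⟶ (K.total (up ℤ)).X n0),
        π ≫ x = w ≫ (K.total (up ℤ)).d n0 n1 := by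
  intro m
  induction m with
  | zero =>
    intro k hk T x y hx hxy sx sy
    have : x = 0 := sx.eq_zero a b hK (by omega)
    exact ⟨T, 𝟙 T, inferInstance, 0, by rw [this, comp_zero, zero_comp]⟩
  | succ m ih =>
    intro k hk T x y hx hxy sx sy
    obtain ⟨p, hp⟩ : ∃ p : ℤ, p + k = n1 := ⟨n1 - k, by omega⟩
    have ha : (x ≫ proj K n1 p k) ≫ (K.d p (p + 1)).f k = 0 := by
      rw [← supp_d_proj sx h2 rfl (by omega), hx, zero_comp]
    have hb : (x ≫ proj K n1 p k) ≫ (φ.f p).f k =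
        (y ≫ proj L n0 (p - 1) k) ≫ (L.d (p - 1) p).f k := by
      rw [← supp_d_proj sy h1 (by omega) hp, ← hxy]
      simp only [Category.assoc, map_proj]
    obtain ⟨T₁, π₁, hπ₁, w₁, hw₁⟩ := row_mono φ k (p - 1) p (p + 1) (by omega) rfl _ ha _ hb
    have hW₁ : (p - 1) + k = n0 := by omega
    let x' := π₁ ≫ x - inj w₁ n0 hW₁ ≫ (K.total (up ℤ)).d n0 n1
    let y' := π₁ ≫ y - inj w₁ n0 hW₁ ≫ (HomologicalComplex₂.total.map φ (up ℤ)).f n0
    have hx' : x' ≫ (K.total (up ℤ)).d n1 n2 = 0 := by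
      simp only [x', Preadditive.sub_comp, Category.assoc, hx, comp_zero,
        HomologicalComplex.d_comp_d, sub_zero]
    have hxy' : x' ≫ (HomologicalComplex₂.total.map φ (up ℤ)).f n1 =
        y' ≫ (L.total (up ℤ)).d n0 n1 := by
      simp only [x', y', Preadditive.sub_comp, Category.assoc, hxy, HomologicalComplex.Hom.comm]
    have sx' : Supp K (k + 1) x' := by
      apply Supp.succ
      · exact (sx.comp π₁).sub (supp_inj_d w₁ n0 n1 hW₁ h1)
      · intro p' hp'
        obtain rfl : p' = p := by omega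
        rw [Preadditive.sub_comp, inj_d_proj_main w₁ n0 n1 hW₁ h1 p' (by omega), ← hw₁,
          Category.assoc, sub_self]
    have sy' : Supp L k y' := (sy.comp π₁).sub (supp_inj_map φ w₁ n0 hW₁)
    have hc : (y' ≫ proj L n0 (p - 1) k) ≫ (L.d (p - 1) p).f k = 0 := by
      rw [← supp_d_proj sy' h1 (by omega) hp, ← hxy', Category.assoc, map_proj,
        ← Category.assoc, sx' p k hp (by omega), zero_comp]
    obtain ⟨T₂, π₂, hπ₂, z, hz, v, hv⟩ :=
      row_epi φ k (p - 2) (p - 1) p (by omega) (by omega) _ hc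
    have hV : (p - 2) + k = nm := by omega
    let x'' := π₂ ≫ x' - inj z n0 hW₁ ≫ (K.total (up ℤ)).d n0 n1
    let y'' := π₂ ≫ y' - inj z n0 hW₁ ≫ (HomologicalComplex₂.total.map φ (up ℤ)).f n0 -
      inj v nm hV ≫ (L.total (up ℤ)).d nm n0
    have hx'' : x'' ≫ (K.total (up ℤ)).d n1 n2 = 0 := by
      simp only [x'', Preadditive.sub_comp, Category.assoc, hx', comp_zero,
        HomologicalComplex.d_comp_d, sub_zero]
    have hxy'' : x'' ≫ (HomologicalComplex₂.total.map φ (up ℤ)).f n1 =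
        y'' ≫ (L.total (up ℤ)).d n0 n1 := by
      simp only [x'', y'', Preadditive.sub_comp, Category.assoc, hxy',
        HomologicalComplex.Hom.comm, HomologicalComplex.d_comp_d, comp_zero, sub_zero]
    have sx'' : Supp K (k + 1) x'' := by
      apply Supp.sub (sx'.comp π₂)
      apply Supp.succ (supp_inj_d z n0 n1 hW₁ h1)
      intro p' hp'
      obtain rfl : p' = p := by omega
      rw [inj_d_proj_main z n0 n1 hW₁ h1 p' (by omega), hz]
    have sy'' : Supp L (k + 1) y'' := by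
      apply Supp.succ
      · exact ((sy'.comp π₂).sub (supp_inj_map φ z n0 hW₁)).sub (supp_inj_d v nm n0 hV h0)
      · intro p' hp'
        obtain rfl : p' = p - 1 := by omega
        rw [Preadditive.sub_comp, Preadditive.sub_comp, inj_map_proj_self,
          inj_d_proj_main v nm n0 hV h0 (p - 1) (by omega), Category.assoc, hv]
        abel
    obtain ⟨T₃, π₃, hπ₃, w₃, hw₃⟩ := ih (k + 1) (by push_cast at hk; omega) x'' y'' hx'' hxy''
      sx'' sy''
    refine ⟨T₃, π₃ ≫ π₂ ≫ π₁, inferInstance,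
      w₃ + π₃ ≫ inj z n0 hW₁ + (π₃ ≫ π₂) ≫ inj w₁ n0 hW₁, ?_⟩
    simp only [x'', x', Preadditive.comp_sub, Preadditive.sub_comp, Category.assoc] at hw₃
    simp only [Preadditive.add_comp, Category.assoc, ← hw₃]
    abel

variable (hL : ∀ p q : ℤ, p < a ∨ q < b → IsZero ((L.X p).X q))

theorem φ_comm (p p' k : ℤ) :
    (φ.f p).f k ≫ (L.d p p').f k = (K.d p p').f k ≫ (φ.f p').f k := by
  have := congrArg (fun f => f.f k) (φ.comm p p')
  simpa using this

include hK hL in
theorem epi_chase (n0 n1 n2 n3 : ℤ) (h1 : n0 + 1 = n1) (h2 : n1 + 1 = n2) (h3 : n2 + 1 = n3) :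
    ∀ (m : ℕ) (k : ℤ), k + m = n2 - a + 1 → ∀ {T : A} (y : T ⟶ (L.total (up ℤ)).X n1)
      (u : T ⟶ (K.total (up ℤ)).X n2),
      y ≫ (L.total (up ℤ)).d n1 n2 = u ≫ (HomologicalComplex₂.total.map φ (up ℤ)).f n2 →
      u ≫ (K.total (up ℤ)).d n2 n3 = 0 →
      Supp L k y → Supp K k u →
      ∃ (T' : A) (π : T' ⟶ T) (_ : Epi π) (x : T' ⟶ (K.total (up ℤ)).X n1)
        (v : T' ⟶ (L.total (up ℤ)).X n0),
        x ≫ (K.total (up ℤ)).d n1 n2 = π ≫ u ∧
        π ≫ y = x ≫ (HomologicalComplex₂.total.map φ (up ℤ)).f n1 +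
          v ≫ (L.total (up ℤ)).d n0 n1 := by
  intro m
  induction m with
  | zero =>
    intro k hk T y u hyu hu sy su
    have hy0 : y = 0 := sy.eq_zero a b hL (by omega)
    have hu0 : u = 0 := su.eq_zero a b hK (by omega)
    exact ⟨T, 𝟙 T, inferInstance, 0, 0, by rw [hu0, comp_zero, zero_comp],
      by rw [hy0, comp_zero, zero_comp, zero_comp, add_zero]⟩
  | succ m ih =>
    intro k hk T y u hyu hu sy su
    obtain ⟨p, hp⟩ : ∃ p : ℤ, p + k = n1 := ⟨n1 - k, by omega⟩
    have ha : (u ≫ proj K n2 (p + 1) k) ≫ (K.d (p + 1) (p + 2)).f k = 0 := by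
      rw [← supp_d_proj su h3 (by omega) (by omega), hu, zero_comp]
    have hb : (u ≫ proj K n2 (p + 1) k) ≫ (φ.f (p + 1)).f k =
        (y ≫ proj L n1 p k) ≫ (L.d p (p + 1)).f k := by
      rw [← supp_d_proj sy h2 rfl (by omega), hyu]
      simp only [Category.assoc, map_proj]
    obtain ⟨T₁, π₁, hπ₁, s, hs⟩ :=
      row_mono φ k p (p + 1) (p + 2) rfl (by omega) _ ha _ hb
    have hc : (π₁ ≫ y ≫ proj L n1 p k - s ≫ (φ.f p).f k) ≫ (L.d p (p + 1)).f k = 0 := by
      rw [Preadditive.sub_comp, Category.assoc, Category.assoc, ← Category.assoc y, ← hb,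
        Category.assoc s, φ_comm, ← Category.assoc s, ← hs]
      simp only [Category.assoc, sub_self]
    obtain ⟨T₂, π₂, hπ₂, z, hz, v, hv⟩ :=
      row_epi φ k (p - 1) p (p + 1) (by omega) rfl _ hc
    have hV : (p - 1) + k = n0 := by omega
    let xk := π₂ ≫ s + z
    have hxk1 : xk ≫ (K.d p (p + 1)).f k = (π₂ ≫ π₁) ≫ u ≫ proj K n2 (p + 1) k := by
      simp only [xk, Preadditive.add_comp, Category.assoc, hz, add_zero, ← hs]
    have hxk2 : (π₂ ≫ π₁) ≫ y ≫ proj L n1 p k = xk ≫ (φ.f p).f k + v ≫ (L.d (p - 1) p).f k := by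
      simp only [xk, Preadditive.add_comp, Category.assoc]
      rw [Preadditive.comp_sub] at hv
      rw [add_assoc, ← hv]
      abel
    let y' := (π₂ ≫ π₁) ≫ y - inj xk n1 hp ≫ (HomologicalComplex₂.total.map φ (up ℤ)).f n1 -
      inj v n0 hV ≫ (L.total (up ℤ)).d n0 n1
    let u' := (π₂ ≫ π₁) ≫ u - inj xk n1 hp ≫ (K.total (up ℤ)).d n1 n2
    have hyu' : y' ≫ (L.total (up ℤ)).d n1 n2 =
        u' ≫ (HomologicalComplex₂.total.map φ (up ℤ)).f n2 := by
      simp only [y', u', Preadditive.sub_comp, Category.assoc, hyu,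
        HomologicalComplex.Hom.comm, HomologicalComplex.d_comp_d, comp_zero, sub_zero]
    have hu' : u' ≫ (K.total (up ℤ)).d n2 n3 = 0 := by
      simp only [u', Preadditive.sub_comp, Category.assoc, hu, comp_zero,
        HomologicalComplex.d_comp_d, sub_zero]
    have sy' : Supp L (k + 1) y' := by
      apply Supp.succ
      · exact ((sy.comp _).sub (supp_inj_map φ xk n1 hp)).sub (supp_inj_d v n0 n1 hV h1)
      · intro p' hp'
        obtain rfl : p' = p := by omega
        rw [Preadditive.sub_comp, Preadditive.sub_comp, inj_map_proj_self,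
          inj_d_proj_main v n0 n1 hV h1 p' (by omega), Category.assoc, hxk2]
        abel
    have su' : Supp K (k + 1) u' := by
      apply Supp.succ
      · exact (su.comp _).sub (supp_inj_d xk n1 n2 hp h2)
      · intro p' hp'
        obtain rfl : p' = p + 1 := by omega
        rw [Preadditive.sub_comp, inj_d_proj_main xk n1 n2 hp h2 (p + 1) rfl, Category.assoc,
          hxk1, sub_self]
    obtain ⟨T₃, π₃, hπ₃, x₃, v₃, hx₃, hv₃⟩ :=
      ih (k + 1) (by push_cast at hk; omega) y' u' hyu' hu' sy' su'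
    refine ⟨T₃, π₃ ≫ π₂ ≫ π₁, inferInstance, x₃ + π₃ ≫ inj xk n1 hp, v₃ + π₃ ≫ inj v n0 hV,
      ?_, ?_⟩
    · simp only [u', Preadditive.comp_sub, Category.assoc] at hx₃
      simp only [Preadditive.add_comp, Category.assoc, hx₃]
      abel
    · simp only [y', Preadditive.comp_sub, Category.assoc] at hv₃
      simp only [Preadditive.add_comp, Category.assoc]
      rw [sub_eq_iff_eq_add, sub_eq_iff_eq_add] at hv₃
      rw [hv₃]
      abel

end Chase

theorem supp_of_le_bound (K : HomologicalComplex₂ A (up ℤ) (up ℤ)) [K.HasTotal (up ℤ)]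
    (a b : ℤ) (hK : ∀ p q : ℤ, p < a ∨ q < b → IsZero ((K.X p).X q))
    {T : A} {n k : ℤ} (hk : k ≤ b) (x : T ⟶ (K.total (up ℤ)).X n) : Supp K k x :=
  fun p q _ hq => (hK p q (Or.inr (by omega))).eq_of_tgt _ _

theorem main {A : Type u} [Category.{v} A] [Abelian A]
    (K L : HomologicalComplex₂ A (ComplexShape.up ℤ) (ComplexShape.up ℤ)) (φ : K ⟶ L) (a b : ℤ)
    (hK : ∀ p q : ℤ, p < a ∨ q < b → IsZero ((K.X p).X q))
    (hL : ∀ p q : ℤ, p < a ∨ q < b → IsZero ((L.X p).X q))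
    [K.HasTotal (ComplexShape.up ℤ)] [L.HasTotal (ComplexShape.up ℤ)] [QuasiIso φ] :
    QuasiIso (HomologicalComplex₂.total.map φ (ComplexShape.up ℤ)) := by
  refine ⟨fun n => ?_⟩
  rw [quasiIsoAt_iff_isIso_homologyMap]
  have hmono : Mono (HomologicalComplex.homologyMap
      (HomologicalComplex₂.total.map φ (ComplexShape.up ℤ)) n) := by
    rw [HomologicalComplex.mono_homologyMap_iff_up_to_refinements _ (n - 1) n (n + 1)
      (by simp) (by simp)]
    intro T x hx y hxy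
    have hk : min b (n - a + 1) + ((n - a + 1 - min b (n - a + 1)).toNat : ℤ) = n - a + 1 := by
      rw [Int.toNat_of_nonneg (by omega)]; omega
    exact mono_chase φ a b hK (n - 2) (n - 1) n (n + 1) (by omega) (by omega) rfl _ _ hk x y hx hxy
      (supp_of_le_bound K a b hK (min_le_left _ _) x)
      (supp_of_le_bound L a b hL (min_le_left _ _) y)
  have hepi : Epi (HomologicalComplex.homologyMap
      (HomologicalComplex₂.total.map φ (ComplexShape.up ℤ)) n) := by
    rw [HomologicalComplex.epi_homologyMap_iff_up_to_refinements _ (n - 1) n (n + 1)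
      (by simp) (by simp)]
    intro T y hy
    have hk : min b (n + 1 - a + 1) + ((n + 1 - a + 1 - min b (n + 1 - a + 1)).toNat : ℤ) =
        n + 1 - a + 1 := by
      rw [Int.toNat_of_nonneg (by omega)]; omega
    obtain ⟨T', π, hπ, x, v, hx, hv⟩ :=
      epi_chase φ a b hK hL (n - 1) n (n + 1) (n + 2) (by omega) rfl (by omega) _ _ hk y 0
        (by rw [hy, zero_comp]) zero_comp
        (supp_of_le_bound L a b hL (min_le_left _ _) y)
        (supp_of_le_bound K a b hK (min_le_left _ _) 0)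
    exact ⟨T', π, hπ, x, by rw [hx, comp_zero], v, hv⟩
  exact isIso_of_mono_of_epi _



/-- Let A be an abelian category, K and L double complexes in A with integer bidegrees whose terms
vanish in every bidegree (p, q) with p < a or q < b, and φ : K ⟶ L a morphism which is a
quasi-isomorphism when K and L are viewed as complexes (first index) with values in the abelian
category of complexes (second index). Then the morphism of total complexes induced by φ is a
quasi-isomorphism; in words, the simple (total) complex functor preserves quasi-isomorphisms. (The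
published statement is for bounded below complexes of bounded below complexes; this row takes the
two bounds uniform, so that every term of the total complex is a finite sum.) -/
theorem result {A : Type u} [Category.{v} A] [Abelian A]
    (K L : HomologicalComplex₂ A (ComplexShape.up ℤ) (ComplexShape.up ℤ)) (φ : K ⟶ L) (a b : ℤ)
    (hK : ∀ p q : ℤ, p < a ∨ q < b → IsZero ((K.X p).X q))
    (hL : ∀ p q : ℤ, p < a ∨ q < b → IsZero ((L.X p).X q))
    [K.HasTotal (ComplexShape.up ℤ)] [L.HasTotal (ComplexShape.up ℤ)] [QuasiIso φ] :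
    QuasiIso (HomologicalComplex₂.total.map φ (ComplexShape.up ℤ)) := by
  exact main K L φ a b hK hL

end Groth.Agent.S8566
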