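import Groth.Statements.S8586
import Mathlib

set_option autoImplicit false
universe u
open CAlg

namespace Groth.Agent.S8586

section Aux

variable {A : Type u} [CommRing A] [IsNoetherianRing A] [IsLocalRing A]

open IsLocalRing

/-- The ideal generated by all coordinates of `t` except the `i`-th. -/
noncomputable def offIdeal {d : ℕ} (t : Fin d → A) (i : Fin d) : Ideal A := by
  classical
  exact Ideal.span (((Finset.univ.erase i).image t : Finset A) : Set A)

theorem mem_offIdeal {d : ℕ} (t : Fin d → A) (i l : Fin d) (hl : l ≠ i) : t l ∈ offIdeal t i := by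
  classical
  unfold offIdeal
  apply Ideal.subset_span
  rw [Finset.mem_coe, Finset.mem_image]
  exact ⟨l, Finset.mem_erase.mpr ⟨hl, Finset.mem_univ _⟩, rfl⟩

theorem offIdeal_update {d : ℕ} (t : Fin d → A) (i : Fin d) (w : A) :
    offIdeal (Function.update t i w) i = offIdeal t i := by
  classical
  unfold offIdeal
  congr 2
  apply Finset.image_congr
  intro l hl
  rw [Finset.mem_coe, Finset.mem_erase] at hl
  exact Function.update_of_ne hl.1 _ _

/-- The maximal ideal is not minimal over `d - 1` elements. -/
theorem not_maximalIdeal_le_of_mem_minimalPrimes {d : ℕ} (hd : ringKrullDim A = d)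
    (t : Fin d → A) (i : Fin d) (p : Ideal A) (hp : p ∈ (offIdeal t i).minimalPrimes) :
    ¬ maximalIdeal A ≤ p := by
  classical
  intro hle
  haveI := hp.1.1
  have hpm : p = maximalIdeal A := le_antisymm (le_maximalIdeal Ideal.IsPrime.ne_top') hle
  have h1 : p.height ≤ ((Finset.univ.erase i).image t).card :=
    Ideal.height_le_card_of_mem_minimalPrimes_span_finset hp
  have h2 : ((Finset.univ.erase i).image t).card ≤ d - 1 := by
    refine le_trans Finset.card_image_le ?_
    rw [Finset.card_erase_of_mem (Finset.mem_univ _), Finset.card_univ, Fintype.card_fin]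
  have h3 : (p.height : WithBot ℕ∞) = (d : WithBot ℕ∞) := by
    rw [hpm, maximalIdeal_height_eq_ringKrullDim, hd]
  have h4 : p.height = (d : ℕ∞) := by exact_mod_cast h3
  rw [h4] at h1
  have h5 : d ≤ ((Finset.univ.erase i).image t).card := by exact_mod_cast h1
  have hdpos : 0 < d := i.pos
  omega

/-- There is no prime strictly between a minimal prime of the off-ideal and the maximal ideal. -/
theorem eq_maximalIdeal_of_lt {d : ℕ} (t : Fin d → A) (ht : ∀ i, t i ∈ maximalIdeal A)
    (ht' : maximalIdeal A ≤ (Ideal.span (Set.range t)).radical) (i : Fin d)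
    (p : Ideal A) (hp : p ∈ (offIdeal t i).minimalPrimes) (P : Ideal A) [P.IsPrime]
    (hpP : p < P) : P = maximalIdeal A := by
  haveI hpprime : p.IsPrime := hp.1.1
  have hPm : P ≤ maximalIdeal A := le_maximalIdeal Ideal.IsPrime.ne_top'
  have hmin : maximalIdeal A ∈ (p ⊔ Ideal.span {t i}).minimalPrimes := by
    refine ⟨⟨inferInstance, sup_le (hpP.le.trans hPm) ?_⟩, ?_⟩
    · rw [Ideal.span_le, Set.singleton_subset_iff]; exact ht i
    · rintro Q ⟨hQprime, hQ⟩ _
      refine ht'.trans ?_
      rw [hQprime.radical_le_iff, Ideal.span_le]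
      rintro _ ⟨l, rfl⟩
      by_cases hl : l = i
      · rw [hl]
        exact hQ (Ideal.mem_sup_right (Ideal.mem_span_singleton_self _))
      · exact hQ (Ideal.mem_sup_left (hp.1.2 (mem_offIdeal t i l hl)))
  have h1 := Ideal.map_height_le_one_of_mem_minimalPrimes hmin
  by_contra hne
  have hlt : P < maximalIdeal A := lt_of_le_of_ne hPm hne
  have hker : RingHom.ker (Ideal.Quotient.mk p) = p := Ideal.mk_ker
  have hsurj : Function.Surjective (Ideal.Quotient.mk p) := Ideal.Quotient.mk_surjective
  haveI hP' : (P.map (Ideal.Quotient.mk p)).IsPrime :=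
    Ideal.map_isPrime_of_surjective hsurj (by rw [hker]; exact hpP.le)
  haveI hm' : ((maximalIdeal A).map (Ideal.Quotient.mk p)).IsPrime :=
    Ideal.map_isPrime_of_surjective hsurj (by rw [hker]; exact hpP.le.trans hPm)
  have hcomap : ∀ Q : Ideal A, p ≤ Q →
      (Q.map (Ideal.Quotient.mk p)).comap (Ideal.Quotient.mk p) = Q := by
    intro Q hQ
    rw [Ideal.comap_map_of_surjective _ hsurj, ← RingHom.ker_eq_comap_bot, hker]
    exact sup_eq_left.mpr hQ
  have hlt' : P.map (Ideal.Quotient.mk p) < (maximalIdeal A).map (Ideal.Quotient.mk p) := by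
    refine lt_of_le_of_ne (Ideal.map_mono hlt.le) ?_
    intro heq
    have := congrArg (Ideal.comap (Ideal.Quotient.mk p)) heq
    rw [hcomap P hpP.le, hcomap _ (hpP.le.trans hPm)] at this
    exact hne this
  have h2 := Ideal.height_strict_mono_of_isPrime_of_isPrime hlt'
  have h3 : (P.map (Ideal.Quotient.mk p)).height = 0 :=
    Order.lt_one_iff.mp (lt_of_lt_of_le h2 h1)
  rw [Ideal.height_eq_zero_iff_eq_bot, Ideal.map_eq_bot_iff_le_ker, hker] at h3
  exact (not_le_of_gt hpP) h3

/-- Replacing the `i`-th coordinate of a system of parameters by an element of the maximal ideal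
avoiding the minimal primes of the other coordinates gives a system of parameters. -/
theorem radical_update {d : ℕ} (t : Fin d → A) (ht : ∀ i, t i ∈ maximalIdeal A)
    (ht' : maximalIdeal A ≤ (Ideal.span (Set.range t)).radical) (i : Fin d) (w : A)
    (hw : ∀ p ∈ (offIdeal t i).minimalPrimes, w ∉ p) :
    maximalIdeal A ≤ (Ideal.span (Set.range (Function.update t i w))).radical := by
  classical
  rw [Ideal.radical_eq_sInf]
  refine le_sInf ?_
  rintro P ⟨hP, hPprime⟩
  haveI := hPprime
  have hoff : offIdeal t i ≤ P := by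
    rw [← offIdeal_update t i w]
    unfold offIdeal
    rw [Ideal.span_le]
    intro x hx
    rw [Finset.mem_coe, Finset.mem_image] at hx
    obtain ⟨l, -, rfl⟩ := hx
    exact hP (Ideal.subset_span ⟨l, rfl⟩)
  obtain ⟨p, hp, hpP⟩ := Ideal.exists_minimalPrimes_le hoff
  have hwP : w ∈ P := hP (Ideal.subset_span ⟨i, by simp⟩)
  have hlt : p < P := lt_of_le_of_ne hpP (fun h => hw p hp (h ▸ hwP))
  exact (eq_maximalIdeal_of_lt t ht ht' i p hp P hlt).ge

/-- Prime avoidance: a common replacement for the `i`-th coordinate of two systems of parameters. -/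
theorem exists_common_replacement {d : ℕ} (hd : ringKrullDim A = d)
    (s s' : Fin d → A) (i : Fin d) :
    ∃ w ∈ maximalIdeal A, (∀ p ∈ (offIdeal s i).minimalPrimes, w ∉ p) ∧
      (∀ p ∈ (offIdeal s' i).minimalPrimes, w ∉ p) := by
  classical
  have hfin : ((offIdeal s i).minimalPrimes ∪ (offIdeal s' i).minimalPrimes).Finite :=
    (Ideal.finite_minimalPrimes_of_isNoetherianRing A _).union
      (Ideal.finite_minimalPrimes_of_isNoetherianRing A _)
  have hnot : ¬ ((maximalIdeal A : Set A) ⊆ ⋃ p ∈ (hfin.toFinset : Set (Ideal A)), (id p : Ideal A)) := by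
    rw [Ideal.subset_union_prime (⊥ : Ideal A) ⊥]
    · rintro ⟨p, hp, hle⟩
      rw [Set.Finite.mem_toFinset] at hp
      rcases hp with hp | hp
      · exact not_maximalIdeal_le_of_mem_minimalPrimes hd s i p hp hle
      · exact not_maximalIdeal_le_of_mem_minimalPrimes hd s' i p hp hle
    · intro p hp _ _
      rw [Set.Finite.mem_toFinset] at hp
      rcases hp with hp | hp
      · exact hp.1.1
      · exact hp.1.1
  rw [Set.not_subset] at hnot
  obtain ⟨w, hwm, hw⟩ := hnot
  refine ⟨w, hwm, ?_, ?_⟩
  · intro p hp hwp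
    apply hw
    simp only [Set.mem_iUnion]
    exact ⟨p, by simpa using Or.inl hp, hwp⟩
  · intro p hp hwp
    apply hw
    simp only [Set.mem_iUnion]
    exact ⟨p, by simpa using Or.inr hp, hwp⟩

end Aux

section Chain

/-- Unfold a reflexive-transitive chain into an indexed sequence. -/
theorem exists_seq_of_reflTransGen {α : Type*} (r : α → α → Prop) {a b : α}
    (h : Relation.ReflTransGen r a b) :
    ∃ (m : ℕ) (w : Fin (m + 1) → α), w 0 = a ∧ w (Fin.last m) = b ∧
      ∀ k : Fin m, r (w k.castSucc) (w k.succ) := by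
  induction h using Relation.ReflTransGen.head_induction_on with
  | refl => exact ⟨0, fun _ => b, rfl, rfl, fun k => k.elim0⟩
  | @head a' c hac _ ih =>
    obtain ⟨m, w, h0, hl, hstep⟩ := ih
    refine ⟨m + 1, Fin.cons a' w, rfl, ?_, ?_⟩
    · rw [← Fin.succ_last, Fin.cons_succ, hl]
    · intro k
      refine Fin.cases ?_ (fun j => ?_) k
      · rw [Fin.castSucc_zero, Fin.cons_zero, Fin.cons_succ, h0]
        exact hac
      · rw [← Fin.succ_castSucc, Fin.cons_succ, Fin.cons_succ]
        exact hstep j

end Chain

section Main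

variable {A : Type u} [CommRing A] [IsNoetherianRing A] [IsLocalRing A]

open IsLocalRing

/-- Systems of parameters (as `d`-tuples). -/
def IsSOP {d : ℕ} (t : Fin d → A) : Prop :=
  (∀ i, t i ∈ maximalIdeal A) ∧ maximalIdeal A ≤ (Ideal.span (Set.range t)).radical

/-- One-coordinate change between systems of parameters. -/
def Step {d : ℕ} (s s' : {t : Fin d → A // IsSOP t}) : Prop :=
  ∃ i : Fin d, ∀ i' : Fin d, i' ≠ i → s.1 i' = s'.1 i'

theorem step_update {d : ℕ} (s : {t : Fin d → A // IsSOP t}) (i : Fin d) (w : A)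
    (h : IsSOP (Function.update s.1 i w)) : Step s ⟨_, h⟩ :=
  ⟨i, fun i' hi' => (Function.update_of_ne hi' _ _).symm⟩

theorem update_step {d : ℕ} (s : {t : Fin d → A // IsSOP t}) (i : Fin d) (w : A)
    (h : IsSOP (Function.update s.1 i w)) : Step ⟨_, h⟩ s :=
  ⟨i, fun i' hi' => Function.update_of_ne hi' _ _⟩

theorem connected_aux {d : ℕ} (hd : ringKrullDim A = d) (n : ℕ) :
    ∀ s s' : {t : Fin d → A // IsSOP t}, (∀ i : Fin d, (i : ℕ) + n < d → s.1 i = s'.1 i) →
      Relation.ReflTransGen Step s s' := by
  induction n with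
  | zero =>
    intro s s' h
    have : s = s' := Subtype.ext (funext fun i => h i (by simp))
    rw [this]
  | succ n ih =>
    intro s s' h
    by_cases hn : d ≤ n
    · exact ih s s' (fun i hi => absurd hi (by omega))
    · push Not at hn
      let j : Fin d := ⟨d - n - 1, by omega⟩
      obtain ⟨w, hwm, hw1, hw2⟩ := exists_common_replacement hd s.1 s'.1 j
      have h1 : IsSOP (Function.update s.1 j w) := by
        refine ⟨fun i => ?_, radical_update s.1 s.2.1 s.2.2 j w hw1⟩
        by_cases hi : i = j
        · rw [hi, Function.update_self]; exact hwm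
        · rw [Function.update_of_ne hi]; exact s.2.1 i
      have h2 : IsSOP (Function.update s'.1 j w) := by
        refine ⟨fun i => ?_, radical_update s'.1 s'.2.1 s'.2.2 j w hw2⟩
        by_cases hi : i = j
        · rw [hi, Function.update_self]; exact hwm
        · rw [Function.update_of_ne hi]; exact s'.2.1 i
      have hmid : Relation.ReflTransGen Step (⟨_, h1⟩ : {t : Fin d → A // IsSOP t}) ⟨_, h2⟩ := by
        apply ih
        intro i hi
        show Function.update s.1 j w i = Function.update s'.1 j w i
        by_cases hij : i = j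
        · rw [hij, Function.update_self, Function.update_self]
        · rw [Function.update_of_ne hij, Function.update_of_ne hij]
          apply h
          have : (i : ℕ) ≠ d - n - 1 := fun h' => hij (Fin.ext h')
          omega
      exact Relation.ReflTransGen.head (step_update s j w h1)
        (Relation.ReflTransGen.tail hmid (update_step s' j w h2))

end Main

/-- Suppose A is a Cohen–Macaulay local ring whose Krull dimension is d, and consider two systems of
parameters u = (u_1, ..., u_d) and v = (v_1, ..., v_d) of A (that is, d-tuples of elements of the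
maximal ideal m such that the ideal they generate has radical m). Then one can find a finite
sequence w_0 = u, w_1, ..., w_m = v, each term a system of parameters of A, where w_{k+1} arises
from w_k by altering just one coordinate. -/
theorem result (A : Type u) [CommRing A] [LocCoh.IsCohenMacaulayLocalRing A]
    (d : ℕ) (hd : ringKrullDim A = d) (u v : Fin d → A)
    (hu : ∀ i, u i ∈ IsLocalRing.maximalIdeal A) (hu' : IsLocalRing.maximalIdeal A ≤ (Ideal.span (Set.range u)).radical)
    (hv : ∀ i, v i ∈ IsLocalRing.maximalIdeal A) (hv' : IsLocalRing.maximalIdeal A ≤ (Ideal.span (Set.range v)).radical) :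
    ∃ (m : ℕ) (w : Fin (m + 1) → Fin d → A), w 0 = u ∧ w (Fin.last m) = v ∧
      (∀ k : Fin (m + 1), (∀ i, w k i ∈ IsLocalRing.maximalIdeal A) ∧
        IsLocalRing.maximalIdeal A ≤ (Ideal.span (Set.range (w k))).radical) ∧
      (∀ k : Fin m, ∃ i : Fin d, ∀ i' : Fin d, i' ≠ i → w k.castSucc i' = w k.succ i') := by
  obtain ⟨m, w, h0, hl, hstep⟩ := exists_seq_of_reflTransGen Step
    (connected_aux hd d (⟨u, hu, hu'⟩ : {t : Fin d → A // IsSOP t}) ⟨v, hv, hv'⟩
      (fun i hi => absurd hi (by omega)))
  refine ⟨m, fun k => (w k).1, ?_, ?_, ?_, ?_⟩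
  · show (w 0).1 = u
    rw [h0]
  · show (w (Fin.last m)).1 = v
    rw [hl]
  · intro k
    exact (w k).2
  · intro k
    exact hstep k

end Groth.Agent.S8586
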