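import Groth.Statements.S8591
import Mathlib

set_option autoImplicit false
universe u
open CAlg

namespace Groth.Agent.S8591

section KL
open Polynomial Matrix

theorem det_aeval_prod_roots {R : Type u} [CommRing R] (n : ℕ)
    (A : Matrix (Fin n) (Fin n) R) (s : Multiset R) :
    (aeval A (s.map (fun r => X - C r)).prod).det =
      (s.map (fun r => (-1) ^ n * A.charpoly.eval r)).prod := by
  have hdet : ∀ r : R, (A - algebraMap R _ r).det = (-1) ^ n * A.charpoly.eval r := by
    intro r
    rw [Matrix.eval_charpoly, ← neg_sub, Matrix.det_neg]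
    simp
    rfl
  induction s using Multiset.induction_on with
  | empty => simp
  | cons r s ih =>
    rw [Multiset.map_cons, Multiset.prod_cons, map_mul, det_mul, ih, Multiset.map_cons,
      Multiset.prod_cons]
    congr 1
    rw [← hdet r]
    simp

theorem mapMatrix_aeval {R S : Type u} [CommRing R] [CommRing S] (φ : R →+* S) (n : ℕ)
    (A : Matrix (Fin n) (Fin n) R) (g : R[X]) :
    (aeval A g).map φ = aeval (A.map φ) (g.map φ) := by
  have h : (algebraMap S (Matrix (Fin n) (Fin n) S)).comp φ =
      (φ.mapMatrix).comp (algebraMap R (Matrix (Fin n) (Fin n) R)) := by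
    ext r i j
    simp [Matrix.algebraMap_matrix_apply]
    split_ifs <;> simp
  exact Polynomial.map_aeval_eq_aeval_map h g A

theorem det_aeval_eq_resultant_aux {R : Type u} [CommRing R] (g : R[X]) (n : ℕ)
    (A : Matrix (Fin n) (Fin n) R) (m : ℕ) (hm : g.natDegree ≤ m) :
    (aeval A g).det = resultant A.charpoly g n m := by
  induction g using Polynomial.induction_of_Splits_of_injective_of_surjective with
  | Splits R g hg =>
    have hχm : A.charpoly.Monic := A.charpoly_monic
    have hχd : A.charpoly.natDegree = n := by simp
    obtain ⟨k, rfl⟩ := Nat.exists_eq_add_of_le hm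
    rw [resultant_add_right_deg _ _ _ _ _ le_rfl]
    have hc : A.charpoly.coeff n = 1 := by
      have := hχm.coeff_natDegree
      rwa [hχd] at this
    rw [hc, one_pow, one_mul, resultant_comm, resultant_eq_prod_eval g A.charpoly n hχd.le hg]
    have h1 : (aeval A g).det = g.leadingCoeff ^ n *
        (g.roots.map (fun r => (-1) ^ n * A.charpoly.eval r)).prod := by
      conv_lhs => rw [hg.eq_prod_roots]
      rw [map_mul, aeval_C, det_mul, det_aeval_prod_roots]
      congr 1
      rw [Matrix.algebraMap_eq_diagonal]
      simp
    rw [h1, Multiset.prod_map_mul, Multiset.map_const', Multiset.prod_replicate,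
      ← hg.natDegree_eq_card_roots, ← pow_mul]
    ring
  | injective R S φ hφ g IH =>
    apply hφ
    have h1 := IH (A.map φ) (natDegree_map_le.trans hm)
    rw [Matrix.charpoly_map, resultant_map_map] at h1
    rw [← h1, RingHom.map_det]
    congr 1
    exact mapMatrix_aeval φ n A g
  | surjective R S φ hφ g IH =>
    obtain ⟨g', hg', e⟩ := exists_degree_eq_of_mem_lifts (Polynomial.map_surjective φ hφ g)
    have hA : ∃ A' : Matrix (Fin n) (Fin n) R, A'.map φ = A := by
      refine ⟨Matrix.of fun i j => (hφ (A i j)).choose, ?_⟩
      ext i j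
      exact (hφ (A i j)).choose_spec
    obtain ⟨A', rfl⟩ := hA
    have h1 := IH g' A' (by rw [natDegree_eq_natDegree e]; exact hm)
    have h2 := congrArg φ h1
    rw [← resultant_map_map, ← Matrix.charpoly_map, hg', RingHom.map_det] at h2
    rw [← h2]
    congr 1
    rw [← hg']
    exact (mapMatrix_aeval φ n A' g').symm

/-- version for arbitrary finite index types -/
theorem det_aeval_eq_resultant {R : Type u} [CommRing R] [Nontrivial R] {ι : Type*} [Fintype ι]
    [DecidableEq ι] (A : Matrix ι ι R) (g : R[X]) :
    (aeval A g).det = resultant A.charpoly g A.charpoly.natDegree g.natDegree := by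
  let e : ι ≃ Fin (Fintype.card ι) := Fintype.equivFin ι
  have h1 := det_aeval_eq_resultant_aux g (Fintype.card ι) (Matrix.reindexAlgEquiv R R e A)
    g.natDegree le_rfl
  have h2 : aeval (Matrix.reindexAlgEquiv R R e A) g = Matrix.reindexAlgEquiv R R e (aeval A g) :=
    (Polynomial.aeval_algHom_apply (Matrix.reindexAlgEquiv R R e) A g)
  rw [h2] at h1
  have h3 : (Matrix.reindexAlgEquiv R R e A).charpoly = A.charpoly := by
    rw [Matrix.coe_reindexAlgEquiv, Matrix.charpoly_reindex]
  rw [h3] at h1
  have h4 : (Matrix.reindexAlgEquiv R R e (aeval A g)).det = (aeval A g).det := by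
    rw [Matrix.coe_reindexAlgEquiv, Matrix.det_reindex_self]
  rw [h4] at h1
  rw [h1, Matrix.charpoly_natDegree_eq_dim]

end KL

theorem minpoly_root_of_monic {k : Type u} [CommRing k] [Nontrivial k] {χ : Polynomial k}
    (hχ : χ.Monic) : minpoly k (AdjoinRoot.root χ) = χ := by
  symm
  apply minpoly.unique' k _ hχ
  · rw [AdjoinRoot.aeval_eq, AdjoinRoot.mk_self]
  · intro q hq
    by_cases hq0 : q = 0
    · exact Or.inl hq0
    · right
      rw [AdjoinRoot.aeval_eq]
      intro h
      rw [AdjoinRoot.mk_eq_zero] at h
      exact hχ.not_dvd_of_degree_lt hq0 hq h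

/-- Let k be a commutative ring, M a finite free k-module, u an endomorphism of M with characteristic
polynomial χ, and P a polynomial over k. Then the norm, from the k-algebra k[T]/(χ) (free of rank
the rank of M) down to k, of the class of P(T) equals det(P(u)). (The published statement writes the
quotient by det(u - T), which generates the same ideal as χ(T) = det(T - u).) -/
theorem result (k : Type u) [CommRing k] (M : Type u) [AddCommGroup M] [Module k M]
    [Module.Free k M] [Module.Finite k M] (u : M →ₗ[k] M) (P : Polynomial k) :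
    Algebra.norm k (AdjoinRoot.mk u.charpoly P) = LinearMap.det (Polynomial.aeval u P) := by
  rcases subsingleton_or_nontrivial k with hk | hk
  · exact Subsingleton.elim _ _
  classical
  have hχ : u.charpoly.Monic := u.charpoly_monic
  -- the module side
  let b := Module.Free.chooseBasis k M
  have hR : LinearMap.det (Polynomial.aeval u P) =
      Polynomial.resultant u.charpoly P u.charpoly.natDegree P.natDegree := by
    rw [← LinearMap.det_toMatrix b]
    have h1 : LinearMap.toMatrix b b (Polynomial.aeval u P) =
        Polynomial.aeval (LinearMap.toMatrix b b u) P :=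
      (Polynomial.aeval_algHom_apply (LinearMap.toMatrixAlgEquiv b) u P).symm
    rw [h1, det_aeval_eq_resultant, LinearMap.charpoly_toMatrix u b]
  -- the AdjoinRoot side
  let pb := AdjoinRoot.powerBasis' hχ
  have hL : Algebra.norm k (AdjoinRoot.mk u.charpoly P) =
      Polynomial.resultant u.charpoly P u.charpoly.natDegree P.natDegree := by
    rw [Algebra.norm_eq_matrix_det pb.basis, ← AdjoinRoot.aeval_eq]
    have h1 : Algebra.leftMulMatrix pb.basis (Polynomial.aeval (AdjoinRoot.root u.charpoly) P) =
        Polynomial.aeval (Algebra.leftMulMatrix pb.basis (AdjoinRoot.root u.charpoly)) P :=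
      (Polynomial.aeval_algHom_apply (Algebra.leftMulMatrix pb.basis) _ P).symm
    have h2 : (Algebra.leftMulMatrix pb.basis (AdjoinRoot.root u.charpoly)).charpoly = u.charpoly := by
      have := charpoly_leftMulMatrix pb
      rw [AdjoinRoot.powerBasis'_gen, minpoly_root_of_monic hχ] at this
      exact this
    rw [h1, det_aeval_eq_resultant, h2]
  rw [hL, hR]

end Groth.Agent.S8591
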