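import Groth.Statements.S8596
import Mathlib
import Groth.Agent.Lib.Helper10.TorColim
import Groth.Agent.Lib.Helper7.TorAPI2

set_option autoImplicit false
universe u
open CategoryTheory CategoryTheory.Limits
open CAlg

namespace Groth.Agent.S8596

set_option linter.style.haveILetI false

open CategoryTheory CategoryTheory.Limits Groth.Agent.Lib.helper7.TorAPI
open Groth.Agent.Lib.helper10.TorColim

variable {A : Type u} [CommRing A]

/-- `Tor_i(L, M) = 0` for all `i > n` -/
def Z (M : ModuleCat.{u} A) (n : ℕ) (L : ModuleCat.{u} A) : Prop :=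
  ∀ i : ℕ, n < i → IsZero ((T i L).obj M)

variable {M : ModuleCat.{u} A} {n : ℕ}

theorem Z_iso {L L' : ModuleCat.{u} A} (e : L ≅ L') (h : Z M n L) : Z M n L' := by
  intro i hi
  exact (h i hi).of_iso (((Tor (ModuleCat.{u} A) i).flip.obj M).mapIso e.symm)

theorem Z_zero {L : ModuleCat.{u} A} (hL : IsZero L) : Z M n L := by
  intro i hi
  rw [IsZero.iff_id_eq_zero]
  have h := T₁map_comp_eq_zero (ShortComplex.mk (𝟙 L) (𝟙 L) (hL.eq_of_src _ _)) M i
  dsimp [T₁map] at h
  rw [CategoryTheory.Functor.map_id, NatTrans.id_app, Category.comp_id] at h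
  exact h

theorem Z_ses {S : ShortComplex (ModuleCat.{u} A)} (hS : S.ShortExact)
    (h₁ : Z M n S.X₁) (h₃ : Z M n S.X₃) : Z M n S.X₂ := by
  intro i hi
  exact (T₁_exact₂ hS M i).isZero_X₂ ((h₁ i hi).eq_of_src _ _) ((h₃ i hi).eq_of_tgt _ _)

theorem Z_ses' {S : ShortComplex (ModuleCat.{u} A)} (hS : S.ShortExact)
    (h₂ : Z M n S.X₂) (h₃ : Z M n S.X₃) : Z M n S.X₁ := by
  intro i hi
  obtain ⟨δ, w₁, w₂, e₁, e₂⟩ := T₁_exists_δ hS M i
  exact e₂.isZero_X₂ ((h₃ (i + 1) (by omega)).eq_of_src _ _) ((h₂ i hi).eq_of_tgt _ _)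

theorem Z_colim {J : Type u} [SmallCategory J] [IsFiltered J] {D : J ⥤ ModuleCat.{u} A}
    {c : Cocone D} (hc : IsColimit c) (h : ∀ j, Z M n (D.obj j)) : Z M n c.pt := by
  intro i hi
  haveI := preservesColimitsOfShape_tor_flip i M J
  have hc' := isColimitOfPreserves ((Tor (ModuleCat.{u} A) i).flip.obj M) hc
  rw [IsZero.iff_id_eq_zero]
  apply hc'.hom_ext
  intro j
  exact (h j i hi).eq_of_src _ _


section fg

variable (N : Type u) [AddCommGroup N] [Module A N]

/-- the directed set of finitely generated submodules -/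
abbrev FGSub : Type u := {N' : Submodule A N // N'.FG}

instance : Nonempty (FGSub (A := A) N) := ⟨⟨⊥, Submodule.fg_bot⟩⟩

instance : IsDirected (FGSub (A := A) N) (· ≤ ·) :=
  ⟨fun a b => ⟨⟨a.1 ⊔ b.1, a.2.sup b.2⟩, le_sup_left, le_sup_right⟩⟩

instance : IsFiltered (FGSub (A := A) N) := isFiltered_of_directed_le_nonempty _

/-- the diagram of finitely generated submodules -/
noncomputable def fgDiag : FGSub (A := A) N ⥤ ModuleCat.{u} A where
  obj N' := ModuleCat.of A N'.1
  map {X Y} h := ModuleCat.ofHom (Submodule.inclusion (leOfHom h))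
  map_id X := rfl
  map_comp f g := rfl

/-- the cocone of finitely generated submodules -/
noncomputable def fgCocone : Cocone (fgDiag (A := A) N) where
  pt := ModuleCat.of A N
  ι := { app := fun N' => ModuleCat.ofHom N'.1.subtype
         naturality := fun X Y f => rfl }

noncomputable def fgIsColimit : IsColimit (fgCocone (A := A) N) := by
  apply isColimitOfReflects (forget (ModuleCat.{u} A))
  refine Types.FilteredColimit.isColimitOf' _ _ ?_ ?_
  · intro x
    change N at x
    exact ⟨⟨Submodule.span A {x}, Submodule.fg_span_singleton x⟩,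
      ⟨x, Submodule.mem_span_singleton_self x⟩, rfl⟩
  · intro i x y hxy
    change ↥i.1 at x y
    refine ⟨i, 𝟙 i, ?_⟩
    have : x = y := Subtype.ext hxy
    rw [this]

theorem Z_of_fg (h : ∀ N' : Submodule A N, N'.FG → Z M n (ModuleCat.of A N')) :
    Z M n (ModuleCat.of A N) :=
  Z_colim (fgIsColimit (A := A) N) (fun j => h j.1 j.2)

end fg


section noeth

variable [IsNoetherianRing A]

theorem Z_of_lt_annihilator (p : Ideal A)
    (IH : ∀ q : Ideal A, q.IsPrime → p < q → Z M n (ModuleCat.of A (A ⧸ q)))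
    (L : Type u) [AddCommGroup L] [Module A L] (hfin : Module.Finite A L) :
    p < Module.annihilator A L → Z M n (ModuleCat.of A L) := by
  induction hfin using IsNoetherianRing.induction_on_isQuotientEquivQuotientPrime A with
  | subsingleton N =>
    intro _
    exact Z_zero (ModuleCat.isZero_of_subsingleton _)
  | quotient N q f =>
    intro h
    have : Module.annihilator A N = q.1 := by rw [f.annihilator_eq, Ideal.annihilator_quotient]
    rw [this] at h
    exact Z_iso (f.symm.toModuleIso) (IH q.1 q.2 h)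
  | exact N₁ N₂ N₃ f g hf hg hfg h₁ h₃ =>
    intro h
    have hS : (ModuleCat.shortComplexOfCompEqZero f g hfg.linearMap_comp_eq_zero).ShortExact :=
      ModuleCat.shortComplex_shortExact _ hfg hf hg
    exact Z_ses hS (h₁ (lt_of_lt_of_le h (f.annihilator_le_of_injective hf)))
      (h₃ (lt_of_lt_of_le h (g.annihilator_le_of_surjective hg)))

theorem Z_of_finite (h : ∀ q : Ideal A, q.IsPrime → Z M n (ModuleCat.of A (A ⧸ q)))
    (L : Type u) [AddCommGroup L] [Module A L] (hfin : Module.Finite A L) :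
    Z M n (ModuleCat.of A L) := by
  induction hfin using IsNoetherianRing.induction_on_isQuotientEquivQuotientPrime A with
  | subsingleton N => exact Z_zero (ModuleCat.isZero_of_subsingleton _)
  | quotient N q f => exact Z_iso (f.symm.toModuleIso) (h q.1 q.2)
  | exact N₁ N₂ N₃ f g hf hg hfg h₁ h₃ =>
    have hS : (ModuleCat.shortComplexOfCompEqZero f g hfg.linearMap_comp_eq_zero).ShortExact :=
      ModuleCat.shortComplex_shortExact _ hfg hf hg
    exact Z_ses hS h₁ h₃

end noeth


section key

variable [IsNoetherianRing A]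

theorem exists_kill (p : Ideal A) [hp : p.IsPrime]
    (φ : (A ⧸ p) →ₗ[A] p.ResidueField)
    (hφ : ∀ a : A ⧸ p, φ a = algebraMap (A ⧸ p) p.ResidueField a)
    (L : Submodule A (p.ResidueField ⧸ LinearMap.range φ)) (hL : L.FG) :
    ∃ f : A, f ∉ p ∧ ∀ y ∈ L, f • y = 0 := by
  refine Submodule.fg_induction (motive := fun L _ => ∃ f : A, f ∉ p ∧ ∀ y ∈ L, f • y = 0)
    ?_ ?_ L hL
  · intro y
    obtain ⟨k, rfl⟩ := Submodule.mkQ_surjective _ y
    obtain ⟨a, s, hs, rfl⟩ := IsFractionRing.div_surjective (A := A ⧸ p) k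
    obtain ⟨f, rfl⟩ := Ideal.Quotient.mk_surjective s
    have hf : f ∉ p := by
      intro hf
      have : (Ideal.Quotient.mk p f) = 0 := Ideal.Quotient.eq_zero_iff_mem.mpr hf
      rw [this] at hs
      exact zero_notMem_nonZeroDivisors hs
    refine ⟨f, hf, ?_⟩
    have hne : algebraMap (A ⧸ p) p.ResidueField (Ideal.Quotient.mk p f) ≠ 0 := by
      intro h0
      have := (IsFractionRing.injective (A ⧸ p) p.ResidueField) (h0.trans (map_zero _).symm)
      rw [this] at hs
      exact zero_notMem_nonZeroDivisors hs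
    have h1 : f • (Submodule.mkQ (LinearMap.range φ)
        (algebraMap (A ⧸ p) p.ResidueField a /
          algebraMap (A ⧸ p) p.ResidueField (Ideal.Quotient.mk p f))) = 0 := by
      rw [← map_smul, Submodule.mkQ_apply, Submodule.Quotient.mk_eq_zero]
      refine ⟨a, ?_⟩
      rw [hφ, Algebra.smul_def, IsScalarTower.algebraMap_apply A (A ⧸ p) p.ResidueField,
        Ideal.Quotient.algebraMap_eq, mul_div_cancel₀ _ hne]
    intro y hy
    obtain ⟨c, rfl⟩ := Submodule.mem_span_singleton.mp hy
    rw [smul_comm, h1, smul_zero]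
  · intro L₁ L₂ _ _ h₁ h₂
    obtain ⟨f₁, hf₁, hk₁⟩ := h₁
    obtain ⟨f₂, hf₂, hk₂⟩ := h₂
    refine ⟨f₁ * f₂, fun h => (hp.mem_or_mem h).elim hf₁ hf₂, ?_⟩
    intro y hy
    obtain ⟨y₁, hy₁, y₂, hy₂, rfl⟩ := Submodule.mem_sup.mp hy
    have e1 : (f₁ * f₂) • y₁ = 0 := by rw [mul_comm, mul_smul, hk₁ y₁ hy₁, smul_zero]
    have e2 : (f₁ * f₂) • y₂ = 0 := by rw [mul_smul, hk₂ y₂ hy₂, smul_zero]
    rw [smul_add, e1, e2, add_zero]

theorem Z_quot_prime (p : Ideal A) [hp : p.IsPrime]
    (IH : ∀ q : Ideal A, q.IsPrime → p < q → Z M n (ModuleCat.of A (A ⧸ q)))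
    (hK : Z M n (ModuleCat.of A p.ResidueField)) : Z M n (ModuleCat.of A (A ⧸ p)) := by
  let φ : (A ⧸ p) →ₗ[A] p.ResidueField :=
    (IsScalarTower.toAlgHom A (A ⧸ p) p.ResidueField).toLinearMap
  have hφ' : ∀ a : A ⧸ p, φ a = algebraMap (A ⧸ p) p.ResidueField a := fun a => rfl
  have hφ : Function.Injective φ := IsFractionRing.injective (A ⧸ p) p.ResidueField
  have hS : (ModuleCat.shortComplexOfCompEqZero φ (LinearMap.range φ).mkQ
      (LinearMap.range_mkQ_comp φ)).ShortExact :=
    ModuleCat.shortComplex_shortExact _ (LinearMap.exact_map_mkQ_range φ) hφ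
      (Submodule.mkQ_surjective _)
  refine Z_ses' hS hK ?_
  apply Z_of_fg
  intro L hL
  haveI : Module.Finite A L := Module.Finite.iff_fg.mpr hL
  apply Z_of_lt_annihilator p IH L inferInstance
  obtain ⟨f, hf, hk⟩ := exists_kill p φ hφ' L hL
  rw [SetLike.lt_iff_le_and_exists]
  refine ⟨?_, f, ?_, hf⟩
  · intro a ha
    rw [Module.mem_annihilator]
    rintro ⟨y, hy⟩
    apply Subtype.ext
    change a • y = 0
    obtain ⟨k, rfl⟩ := Submodule.mkQ_surjective _ y
    rw [← map_smul, Algebra.smul_def, Ideal.algebraMap_residueField_eq_zero.mpr ha, zero_mul,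
      map_zero]
  · rw [Module.mem_annihilator]
    rintro ⟨y, hy⟩
    apply Subtype.ext
    exact hk y hy

end key


theorem main (A : Type u) [CommRing A] [IsNoetherianRing A] (M : ModuleCat.{u} A) (n : ℕ) :
    (∀ (N : ModuleCat.{u} A) (i : ℕ), n < i → IsZero (((Tor (ModuleCat.{u} A) i).obj N).obj M)) ↔
    (∀ (x : Ideal A) [x.IsPrime] (i : ℕ), n < i →
      IsZero (((Tor (ModuleCat.{u} A) i).obj (ModuleCat.of A x.ResidueField)).obj M)) := by
  constructor
  · intro h x _ i hi
    exact h _ i hi
  · intro h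
    have hprime : ∀ p : Ideal A, p.IsPrime → Z M n (ModuleCat.of A (A ⧸ p)) := by
      intro p
      induction p using WellFoundedGT.induction with
      | ind p IH =>
        intro hp
        haveI := hp
        exact Z_quot_prime p (fun q hq hpq => IH q hpq hq) (fun i hi => h p i hi)
    intro N i hi
    have hN : Z M n (ModuleCat.of A N) :=
      Z_of_fg N (fun N' hN' => Z_of_finite hprime N' (Module.Finite.iff_fg.mpr hN'))
    exact hN i hi



/-- Case of a complex reduced to a single module in degree 0: let A be a commutative Noetherian ring, M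
an A-module (not necessarily finitely generated) and n ≥ 0. Then M has tor-dimension at most n —
Tor_i^A(N, M) = 0 for every A-module N and every i > n, the Tor being the left derived functors of N
⊗ - evaluated at M — if and only if Tor_i^A(k(x), M) = 0 for every prime ideal x of A, with residue
field k(x), and every i > n. (The published statement gives the equivalence for bounded-above
complexes K and the derived tensor product K ⊗^L k(x); this is the case K = M[0].) -/
theorem result (A : Type u) [CommRing A] [IsNoetherianRing A]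
    (M : ModuleCat.{u} A) (n : ℕ) :
    (∀ (N : ModuleCat.{u} A) (i : ℕ), n < i → IsZero (((Tor (ModuleCat.{u} A) i).obj N).obj M)) ↔
    (∀ (x : Ideal A) [x.IsPrime] (i : ℕ), n < i →
      IsZero (((Tor (ModuleCat.{u} A) i).obj (ModuleCat.of A x.ResidueField)).obj M)) := by
  exact main A M n

end Groth.Agent.S8596
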