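import Groth.Statements.S8597
import Mathlib
import Groth.Agent.Lib.Helper10.TorColim
import Groth.Agent.Lib.Helper10.NatTransLESNat
import Groth.Agent.Lib.Helper7.TorAPI2
import Groth.Agent.Lib.Helper10.Devissage

set_option autoImplicit false
universe u
open CategoryTheory CategoryTheory.Limits
open CAlg

namespace Groth.Agent.S8597

set_option linter.style.haveILetI false

open CategoryTheory CategoryTheory.Limits MonoidalCategory Groth.Agent.Lib.helper7.TorAPI
open Groth.Agent.Lib.helper10.TorColim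

variable {A : Type u} [CommRing A]

/-- the map `Tor_i(L, M) → Tor_i(L, N)` -/
noncomputable abbrev τ {M N : ModuleCat.{u} A} (u : M ⟶ N) (i : ℕ) (L : ModuleCat.{u} A) :
    (T i L).obj M ⟶ (T i L).obj N := (T i L).map u

/-- all `Tor_i(L, u)` are isomorphisms -/
def P {M N : ModuleCat.{u} A} (u : M ⟶ N) (L : ModuleCat.{u} A) : Prop :=
  ∀ i : ℕ, IsIso (τ u i L)

variable {M N : ModuleCat.{u} A} {u : M ⟶ N}

theorem τ_naturality {L L' : ModuleCat.{u} A} (f : L ⟶ L') (i : ℕ) :
    τ u i L ≫ T₁map i f N = T₁map i f M ≫ τ u i L' :=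
  ((Tor (ModuleCat.{u} A) i).map f).naturality u

theorem isZero_T_of_isZero {L : ModuleCat.{u} A} (hL : IsZero L) (X : ModuleCat.{u} A) (i : ℕ) :
    IsZero ((T i L).obj X) := by
  rw [IsZero.iff_id_eq_zero]
  have h := T₁map_comp_eq_zero (ShortComplex.mk (𝟙 L) (𝟙 L) (hL.eq_of_src _ _)) X i
  dsimp [T₁map] at h
  rw [CategoryTheory.Functor.map_id, NatTrans.id_app, Category.comp_id] at h
  exact h

theorem P_zero {L : ModuleCat.{u} A} (hL : IsZero L) : P u L := by
  intro i
  exact ⟨0, (isZero_T_of_isZero hL M i).eq_of_src _ _, (isZero_T_of_isZero hL N i).eq_of_src _ _⟩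

theorem P_iso {L L' : ModuleCat.{u} A} (e : L ≅ L') (h : P u L) : P u L' := by
  intro i
  haveI := h i
  have h1 : τ u i L' = T₁map i e.inv M ≫ τ u i L ≫ T₁map i e.hom N := by
    rw [τ_naturality e.hom i, ← Category.assoc]
    have : T₁map i e.inv M ≫ T₁map i e.hom M = 𝟙 _ := by
      dsimp [T₁map]
      rw [← NatTrans.comp_app, ← Functor.map_comp, e.inv_hom_id, CategoryTheory.Functor.map_id,
        NatTrans.id_app]
    rw [this, Category.id_comp]
  haveI : IsIso (T₁map i e.inv M) :=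
    inferInstanceAs (IsIso (((Tor (ModuleCat.{u} A) i).flip.obj M).map e.inv))
  haveI : IsIso (T₁map i e.hom N) :=
    inferInstanceAs (IsIso (((Tor (ModuleCat.{u} A) i).flip.obj N).map e.hom))
  rw [h1]
  infer_instance

theorem P_colim {J : Type u} [SmallCategory J] [IsFiltered J] {D : J ⥤ ModuleCat.{u} A}
    {c : Cocone D} (hc : IsColimit c) (h : ∀ j, P u (D.obj j)) : P u c.pt := by
  intro i
  haveI := preservesColimitsOfShape_tor_flip i M J
  haveI := preservesColimitsOfShape_tor_flip i N J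
  let GM := (Tor (ModuleCat.{u} A) i).flip.obj M
  let GN := (Tor (ModuleCat.{u} A) i).flip.obj N
  let σ : GM ⟶ GN := (Tor (ModuleCat.{u} A) i).flip.map u
  have hM := isColimitOfPreserves GM hc
  have hN := isColimitOfPreserves GN hc
  haveI : ∀ j, IsIso ((Functor.whiskerLeft D σ).app j) := fun j => h j i
  haveI : IsIso (Functor.whiskerLeft D σ) := NatIso.isIso_of_isIso_app _
  let e := IsColimit.coconePointsIsoOfNatIso hM hN (asIso (Functor.whiskerLeft D σ))
  have he : e.hom = τ u i c.pt := by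
    apply hM.hom_ext
    intro j
    rw [IsColimit.comp_coconePointsIsoOfNatIso_hom]
    exact (σ.naturality (c.ι.app j)).symm
  rw [← he]
  infer_instance


section les

variable {S : ShortComplex (ModuleCat.{u} A)} (hS : S.ShortExact)

include hS in
theorem exact_mid (X : ModuleCat.{u} A) (i : ℕ) :
    Function.Exact (T₁map i S.f X).hom (T₁map i S.g X).hom :=
  (ShortComplex.ShortExact.moduleCat_exact_iff_function_exact _).mp (T₁_exact₂ hS X i)

include hS in
theorem surj_zero (X : ModuleCat.{u} A) : Function.Surjective (T₁map 0 S.g X).hom := by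
  have h : Epi (T₁map 0 S.g X) :=
    Groth.Agent.Lib.helper7.NatTransLES.zero_epi _ _ (tensoringLeft_map_comp_eq_zero S)
      (fun P _ => tensoringLeft_shortExact hS P) X
  exact (ModuleCat.epi_iff_surjective _).mp h

include hS in
theorem les_data (u : M ⟶ N) (i : ℕ) :
    ∃ (δM : (T (i + 1) S.X₃).obj M →ₗ[A] (T i S.X₁).obj M)
      (δN : (T (i + 1) S.X₃).obj N →ₗ[A] (T i S.X₁).obj N),
      Function.Exact (T₁map (i + 1) S.g M).hom δM ∧ Function.Exact δM (T₁map i S.f M).hom ∧
      Function.Exact (T₁map (i + 1) S.g N).hom δN ∧ Function.Exact δN (T₁map i S.f N).hom ∧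
      (τ u i S.X₁).hom ∘ₗ δM = δN ∘ₗ (τ u (i + 1) S.X₃).hom := by
  obtain ⟨δX, δY, wX₁, wX₂, wY₁, wY₂, e1, e2, e3, e4, hnat⟩ :=
    Groth.Agent.Lib.helper10.NatTransLESNat.exists_δ_natural _ _
      (tensoringLeft_map_comp_eq_zero S) (fun P _ => tensoringLeft_shortExact hS P) u i
  refine ⟨δX.hom, δY.hom,
    (ShortComplex.ShortExact.moduleCat_exact_iff_function_exact _).mp e1,
    (ShortComplex.ShortExact.moduleCat_exact_iff_function_exact _).mp e2,
    (ShortComplex.ShortExact.moduleCat_exact_iff_function_exact _).mp e3,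
    (ShortComplex.ShortExact.moduleCat_exact_iff_function_exact _).mp e4, ?_⟩
  have := congrArg ModuleCat.Hom.hom hnat
  exact this

theorem τ_nat_hom {L L' : ModuleCat.{u} A} (f : L ⟶ L') (i : ℕ) :
    (T₁map i f N).hom ∘ₗ (τ u i L).hom = (τ u i L').hom ∘ₗ (T₁map i f M).hom :=
  congrArg ModuleCat.Hom.hom (τ_naturality (u := u) f i)

theorem P_iff_bij (L : ModuleCat.{u} A) : P u L ↔ ∀ i, Function.Bijective (τ u i L).hom := by
  constructor
  · intro h i
    exact (ConcreteCategory.isIso_iff_bijective (τ u i L)).mp (h i)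
  · intro h i
    exact (ConcreteCategory.isIso_iff_bijective (τ u i L)).mpr (h i)

include hS in
theorem P_left (h₂ : P u S.X₂) (h₃ : P u S.X₃) : P u S.X₁ := by
  rw [P_iff_bij] at h₂ h₃ ⊢
  intro i
  obtain ⟨δM, δN, e1, e2, e3, e4, hnat⟩ := les_data hS u i
  exact LinearMap.bijective_of_surjective_of_bijective_of_bijective_of_injective
    (T₁map (i + 1) S.g M).hom δM (T₁map i S.f M).hom (T₁map i S.g M).hom
    (T₁map (i + 1) S.g N).hom δN (T₁map i S.f N).hom (T₁map i S.g N).hom
    (τ u (i + 1) S.X₂).hom (τ u (i + 1) S.X₃).hom (τ u i S.X₁).hom (τ u i S.X₂).hom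
    (τ u i S.X₃).hom
    (τ_nat_hom S.g (i + 1)) hnat.symm (τ_nat_hom S.f i) (τ_nat_hom S.g i)
    e1 e2 (exact_mid hS M i) e3 e4 (exact_mid hS N i)
    (h₂ (i + 1)).2 (h₃ (i + 1)) (h₂ i) (h₃ i).1

include hS in
theorem P_mid (h₁ : P u S.X₁) (h₃ : P u S.X₃) : P u S.X₂ := by
  rw [P_iff_bij] at h₁ h₃ ⊢
  intro i
  obtain ⟨δM, δN, e1, e2, e3, e4, hnat⟩ := les_data hS u i
  refine ⟨?_, ?_⟩
  · exact LinearMap.injective_of_surjective_of_injective_of_injective
      δM (T₁map i S.f M).hom (T₁map i S.g M).hom δN (T₁map i S.f N).hom (T₁map i S.g N).hom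
      (τ u (i + 1) S.X₃).hom (τ u i S.X₁).hom (τ u i S.X₂).hom (τ u i S.X₃).hom
      hnat.symm (τ_nat_hom S.f i) (τ_nat_hom S.g i) e2 (exact_mid hS M i) e4
      (h₃ (i + 1)).2 (h₁ i).1 (h₃ i).1
  · cases i with
    | zero =>
      intro y
      obtain ⟨z, hz⟩ := (h₃ 0).2 ((T₁map 0 S.g N).hom y)
      obtain ⟨x, rfl⟩ := surj_zero hS M z
      have h1 : (T₁map 0 S.g N).hom (y - (τ u 0 S.X₂).hom x) = 0 := by
        rw [map_sub, ← hz, sub_eq_zero]
        exact (LinearMap.congr_fun (τ_nat_hom (u := u) S.g 0) x).symm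
      obtain ⟨w, hw⟩ := (exact_mid hS N 0 _).mp h1
      obtain ⟨w', rfl⟩ := (h₁ 0).2 w
      refine ⟨x + (T₁map 0 S.f M).hom w', ?_⟩
      rw [map_add]
      have h2 : (τ u 0 S.X₂).hom ((T₁map 0 S.f M).hom w') =
          (T₁map 0 S.f N).hom ((τ u 0 S.X₁).hom w') :=
        (LinearMap.congr_fun (τ_nat_hom (u := u) S.f 0) w').symm
      rw [h2, hw]
      abel
    | succ j =>
      obtain ⟨δM', δN', e1', e2', e3', e4', hnat'⟩ := les_data hS u j
      exact LinearMap.surjective_of_surjective_of_surjective_of_injective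
        (T₁map (j + 1) S.f M).hom (T₁map (j + 1) S.g M).hom δM'
        (T₁map (j + 1) S.f N).hom (T₁map (j + 1) S.g N).hom δN'
        (τ u (j + 1) S.X₁).hom (τ u (j + 1) S.X₂).hom (τ u (j + 1) S.X₃).hom (τ u j S.X₁).hom
        (τ_nat_hom S.f (j + 1)) (τ_nat_hom S.g (j + 1)) hnat'.symm
        e1' (exact_mid hS N (j + 1)) e3' (h₁ (j + 1)).2 (h₃ (j + 1)).2 (h₁ j).1

end les


theorem main (A : Type u) [CommRing A] [IsNoetherianRing A]
    {M N : ModuleCat.{u} A} (u : M ⟶ N)
    (h : ∀ (x : Ideal A) [x.IsPrime] (i : ℕ),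
      IsIso (((Tor (ModuleCat.{u} A) i).obj (ModuleCat.of A x.ResidueField)).map u)) :
    IsIso u := by
  have hfin : P u (ModuleCat.of A A) :=
    Groth.Agent.Lib.helper10.Devissage.finite (P u)
      (fun L hL => P_zero hL) (fun L L' e hL => P_iso e hL)
      (fun S hS h₁ h₃ => P_mid hS h₁ h₃) (fun S hS h₂ h₃ => P_left hS h₂ h₃)
      (fun J _ _ D c hc hj => P_colim hc hj) (fun p _ i => h p i) A
  have h0 : IsIso (τ u 0 (ModuleCat.of A A)) := hfin 0
  have hnat : τ u 0 (ModuleCat.of A A) ≫ (tor0Iso (ModuleCat.of A A)).hom.app N =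
      (tor0Iso (ModuleCat.of A A)).hom.app M ≫ (tF (ModuleCat.of A A)).map u :=
    (tor0Iso (ModuleCat.of A A)).hom.naturality u
  have h1 : IsIso ((tF (ModuleCat.of A A)).map u) := by
    have : (tF (ModuleCat.of A A)).map u = (tor0Iso (ModuleCat.of A A)).inv.app M ≫
        τ u 0 (ModuleCat.of A A) ≫ (tor0Iso (ModuleCat.of A A)).hom.app N := by
      rw [hnat, ← Category.assoc, ← NatTrans.comp_app, Iso.inv_hom_id, NatTrans.id_app,
        Category.id_comp]
    rw [this]
    infer_instance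
  have h2 : u = (λ_ M).inv ≫ (𝟙_ (ModuleCat.{u} A) ◁ u) ≫ (λ_ N).hom := by
    rw [leftUnitor_naturality, Iso.inv_hom_id_assoc]
  have h3 : IsIso (𝟙_ (ModuleCat.{u} A) ◁ u) := h1
  rw [h2]
  infer_instance



/-- Case of modules placed in degree 0: let A be a commutative Noetherian ring and u : M -> N a
homomorphism of A-modules such that for every prime ideal x of A, with residue field k(x), and every
i ≥ 0, the induced map Tor_i^A(k(x), M) -> Tor_i^A(k(x), N) (left derived functors of k(x) ⊗ -) is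
an isomorphism. Then u is an isomorphism. (The published statement is for a morphism of
bounded-above complexes and the derived tensor products with k(x); this is the case of two modules.) -/
theorem result (A : Type u) [CommRing A] [IsNoetherianRing A]
    {M N : ModuleCat.{u} A} (u : M ⟶ N)
    (h : ∀ (x : Ideal A) [x.IsPrime] (i : ℕ),
      IsIso (((Tor (ModuleCat.{u} A) i).obj (ModuleCat.of A x.ResidueField)).map u)) :
    IsIso u := by
  exact main A u h

end Groth.Agent.S8597
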