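import Groth.Statements.S8598
import Groth.Agent.S0651
import Groth.Agent.Lib.Helper1.ClosedDense

set_option autoImplicit false
universe u
open CategoryTheory CategoryTheory.Limits AlgebraicGeometry Opposite
open EtDl

namespace Groth.Agent.S8598

variable {X Y : Scheme.{u}} (u : X ⟶ Y) [Etale u] [EtShriek.JCont u]

theorem counit_app_surjective (F : EtCoh.Ab Y) (W : X.Etale) :
    Function.Surjective
      (((EtShriek.extZeroAdj u).counit.app F).hom.app (op ((EtShriek.compEtale u).obj W))) := by
  intro s
  have h := (EtShriek.extZeroAdj u).right_triangle_components F
  have h' := congrArg (fun a => a.hom.app (op W) s) h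
  exact ⟨((EtShriek.extZeroAdj u).unit.app ((EtShriek.restrAlong u).obj F)).hom.app (op W) s, h'⟩

theorem main [Surjective u] (F : EtCoh.Ab Y) :
    Epi ((EtShriek.extZeroAdj u).counit.app F) := by
  have : Presheaf.IsLocallySurjective Y.smallEtaleTopology
      ((EtShriek.extZeroAdj u).counit.app F).hom := by
    constructor
    intro V s
    apply Groth.Agent.H1.ClosedDense.mem_smallEtaleTopology
    intro x
    obtain ⟨k, hk⟩ : ∃ k : (EtShriek.compEtale u).obj ((EtCoh.bc u).obj V) ⟶ V,
        k = (Groth.Agent.S0651.adj0 u).counit.app V := ⟨_, rfl⟩
    have hsurj : Function.Surjective k.left.base := by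
      rw [hk]
      change Function.Surjective (pullback.fst V.hom u).base
      exact (inferInstance : Surjective (pullback.fst V.hom u)).surj
    obtain ⟨y, hy⟩ := hsurj x
    obtain ⟨t, ht⟩ := counit_app_surjective u F ((EtCoh.bc u).obj V) (F.obj.map k.op s)
    exact ⟨_, k, y, ⟨t, ht⟩, hy⟩
  exact Sheaf.epi_of_isLocallySurjective _

/-- Let u : X -> Y be an etale, separated morphism of finite type that is surjective, and F an abelian
sheaf on Y_et. The sheaves F_n = (u_n)_! u_n^* F built from the iterated fibre powers of X over Y
form a left resolution of F; in particular (the part stated here) the augmentation u_! u^* F -> F,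
which is the counit of the adjunction between extension by zero u_! and restriction u^*, is an
epimorphism. (The continuity of V ↦ (V -> X -> Y) between the small etale sites is carried as an
instance hypothesis, the prelude's convention for extension by zero along an etale morphism.) -/
theorem result {X Y : Scheme.{u}} (u : X ⟶ Y) [Etale u] [IsSeparated u]
    [LocallyOfFiniteType u] [QuasiCompact u] [Surjective u] [EtShriek.JCont u] (F : EtCoh.Ab Y) :
    Epi ((EtShriek.extZeroAdj u).counit.app F) := by
  exact main u F

end Groth.Agent.S8598
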