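import Groth.Statements.S8604
import Mathlib
-- import your own Groth.Agent.* helpers here

set_option autoImplicit false
universe u
open CAlg

namespace Groth.Agent.S8604

section helpers
open Polynomial
section KL

variable {k : Type u} [Field k]

/-- auxiliary polynomials (homogeneous version, divided by `X`) -/
noncomputable def qPoly (p : ℕ) (c : ℕ → k) : ℕ → k[X]
  | 0 => C (c 0) * X ^ (p - 1)
  | (i+1) => X ^ (p - 1) * ((qPoly p c i) ^ p + C (c (i+1)))

lemma qPoly_eval_zero (p : ℕ) (hp : 2 ≤ p) (c : ℕ → k) (i : ℕ) : eval 0 (qPoly p c i) = 0 := by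
  have : p - 1 ≠ 0 := by omega
  cases i <;> simp [qPoly, zero_pow this]

lemma qPoly_eq_zero (p : ℕ) (hp : 2 ≤ p) (c : ℕ → k) (i : ℕ) (h : qPoly p c i = 0) :
    ∀ l ≤ i, c l = 0 := by
  have hp0 : p ≠ 0 := by omega
  induction i with
  | zero =>
    intro l hl
    have : l = 0 := by omega
    subst this
    simpa [qPoly] using h
  | succ i ih =>
    have h1 : (qPoly p c i) ^ p + C (c (i+1)) = 0 := by
      simpa [qPoly] using h
    have h2 : c (i+1) = 0 := by
      have := congrArg (eval 0) h1
      simpa [qPoly_eval_zero p hp c i, zero_pow hp0] using this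
    have h3 : qPoly p c i = 0 := by
      rw [h2] at h1
      simpa [hp0] using h1
    intro l hl
    rcases Nat.lt_or_ge l (i+1) with hlt | hge
    · exact ih h3 l (by omega)
    · have : l = i + 1 := by omega
      rw [this]; exact h2

variable [IsAlgClosed k] {V : Type u} [AddCommGroup V] [Module k V] [FiniteDimensional k V]

lemma exists_fixed_of_dependency (p : ℕ) (hp : 2 ≤ p) (F : V →+ V)
    (hF : ∀ (c : k) (v : V), F (c • v) = c ^ p • F v) (u : V) (j : ℕ) (c : ℕ → k)
    (hc : F^[j+1] u = ∑ i ∈ Finset.range (j+1), c i • F^[i] u)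
    (hne : ∃ l ≤ j, c l ≠ 0) :
    ∃ a : ℕ → k, a j ≠ 0 ∧ F (∑ i ∈ Finset.range (j+1), a i • F^[i] u) =
      ∑ i ∈ Finset.range (j+1), a i • F^[i] u := by
  have hp1 : p - 1 + 1 = p := by omega
  have hQ : qPoly p c j ≠ 0 := by
    intro h
    obtain ⟨l, hl, hcl⟩ := hne
    exact hcl (qPoly_eq_zero p hp c j h l hl)
  have hdeg : (qPoly p c j - 1).degree ≠ 0 := by
    intro h0
    have h1 := eq_C_of_degree_eq_zero h0
    have h2 := congrArg (eval 0) h1
    simp only [eval_sub, eval_one, qPoly_eval_zero p hp c j, eval_C] at h2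
    rw [← h2] at h1
    apply hQ
    have : qPoly p c j - 1 = -1 := by rw [h1]; simp
    linear_combination this
  obtain ⟨t, ht⟩ := IsAlgClosed.exists_root _ hdeg
  have ht1 : eval t (qPoly p c j) = 1 := by
    simpa [sub_eq_zero] using ht
  have ht0 : t ≠ 0 := by
    rintro rfl
    rw [qPoly_eval_zero p hp c j] at ht1
    exact zero_ne_one ht1
  have htp : t ^ p = t * t ^ (p - 1) := by rw [← pow_succ', hp1]
  set a : ℕ → k := fun i => t * eval t (qPoly p c i) with ha
  have ha0 : a 0 = c 0 * t ^ p := by
    simp only [ha, qPoly, eval_mul, eval_C, eval_pow, eval_X]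
    rw [htp]; ring
  have hasucc : ∀ i, a (i+1) = (a i) ^ p + c (i+1) * t ^ p := by
    intro i
    simp only [ha, qPoly, eval_mul, eval_C, eval_pow, eval_X, eval_add]
    rw [mul_pow, htp]; ring
  have haj : a j = t := by simp [ha, ht1]
  refine ⟨a, by rw [haj]; exact ht0, ?_⟩
  rw [map_sum]
  have e1 : ∀ i ∈ Finset.range (j+1), F (a i • F^[i] u) = (a i)^p • F^[i+1] u := by
    intro i _
    rw [hF, Function.iterate_succ_apply']
  rw [Finset.sum_congr rfl e1, Finset.sum_range_succ, haj, hc]
  rw [Finset.sum_range_succ' (fun i => a i • F^[i] u), Finset.sum_range_succ' (fun i => c i • F^[i] u)]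
  simp only [Function.iterate_zero, id_eq, ha0, hasucc]
  rw [smul_add, Finset.smul_sum]
  simp only [add_smul, Finset.sum_add_distrib, smul_smul]
  have : ∀ i, (t ^ p * c (i+1)) • F^[i+1] u = (c (i+1) * t ^ p) • F^[i+1] u := by
    intro i; rw [mul_comm]
  simp only [this, mul_comm (t^p) (c 0)]
  abel


/-- Key lemma: either `u` is killed by an iterate of `F`, or there is a nonzero fixed vector. -/
lemma exists_fixed_or_nilpotent (p : ℕ) (hp : 2 ≤ p) (F : V →+ V)
    (hF : ∀ (c : k) (v : V), F (c • v) = c ^ p • F v) (u : V) :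
    (∃ m : ℕ, F^[m] u = 0) ∨ ∃ v : V, v ≠ 0 ∧ F v = v := by
  classical
  have hex : ∃ n : ℕ, ¬ LinearIndependent k (fun i : Fin n => F^[i] u) := by
    refine ⟨Module.finrank k V + 1, fun h => ?_⟩
    have := h.fintype_card_le_finrank
    simp at this
  obtain ⟨N, hNspec, hNmin⟩ : ∃ N, ¬ LinearIndependent k (fun i : Fin N => F^[i] u) ∧
      ∀ m < N, LinearIndependent k (fun i : Fin m => F^[i] u) :=
    ⟨Nat.find hex, Nat.find_spec hex, fun m hm => not_not.mp (Nat.find_min hex hm)⟩
  rcases N with _ | n
  · exact absurd linearIndependent_empty_type hNspec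
  have hind := hNmin n (Nat.lt_succ_self n)
  have hsnoc : (fun i : Fin (n+1) => F^[i] u) =
      Fin.snoc (fun i : Fin n => F^[i] u) (F^[n] u) := by
    ext i
    refine Fin.lastCases ?_ (fun i => ?_) i <;> simp
  rw [hsnoc, linearIndependent_finSnoc] at hNspec
  have hmem : F^[n] u ∈ Submodule.span k (Set.range (fun i : Fin n => F^[i] u)) := by
    by_contra h
    exact hNspec ⟨hind, h⟩
  obtain ⟨c0, hc0⟩ := (Submodule.mem_span_range_iff_exists_fun k).mp hmem
  set c : ℕ → k := fun i => if h : i < n then c0 ⟨i, h⟩ else 0 with hcdef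
  have hc : F^[n] u = ∑ i ∈ Finset.range n, c i • F^[i] u := by
    rw [← hc0, ← Fin.sum_univ_eq_sum_range (fun i => c i • F^[i] u) n]
    apply Finset.sum_congr rfl
    intro i _
    simp [hcdef]
  by_cases hall : ∀ l < n, c l = 0
  · left
    refine ⟨n, ?_⟩
    rw [hc]
    apply Finset.sum_eq_zero
    intro i hi
    rw [hall i (Finset.mem_range.mp hi), zero_smul]
  · right
    push Not at hall
    obtain ⟨l, hl, hcl⟩ := hall
    obtain ⟨j, rfl⟩ : ∃ j, n = j + 1 := ⟨n - 1, by omega⟩
    obtain ⟨a, haj, hfix⟩ := exists_fixed_of_dependency p hp F hF u j c hc ⟨l, by omega, hcl⟩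
    refine ⟨_, ?_, hfix⟩
    intro hzero
    rw [← Fin.sum_univ_eq_sum_range (fun i => a i • F^[i] u) (j+1)] at hzero
    have := Fintype.linearIndependent_iff.mp hind (fun i => a i) hzero ⟨j, Nat.lt_succ_self j⟩
    exact haj this

end KL


section Main

variable {k : Type u} [Field k] [IsAlgClosed k] (p : ℕ) [Fact p.Prime] [CharP k p]
  {V : Type u} [AddCommGroup V] [Module k V] [FiniteDimensional k V] (F : V →+ V)
  (hF : ∀ (a : k) (v : V), F (a • v) = a ^ p • F v)

/-- `F` as a Frobenius-semilinear map -/
noncomputable def semilin : V →ₛₗ[frobenius k p] V :=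
  { toFun := F, map_add' := map_add F, map_smul' := fun a v => by simp [hF, frobenius_def] }

/-- iterates as additive homs -/
def iterHom (F : V →+ V) : ℕ → (V →+ V)
  | 0 => AddMonoidHom.id V
  | (m+1) => F.comp (iterHom F m)

omit [Module k V] [FiniteDimensional k V] in
lemma iterHom_apply (m : ℕ) (x : V) : iterHom F m x = F^[m] x := by
  induction m with
  | zero => rfl
  | succ m ih => rw [Function.iterate_succ_apply', ← ih]; rfl

include hF in
omit [IsAlgClosed k] [Fact p.Prime] [CharP k p] [FiniteDimensional k V] in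
lemma iter_smul (m : ℕ) (a : k) (x : V) : F^[m] (a • x) = a ^ (p ^ m) • F^[m] x := by
  induction m with
  | zero => simp
  | succ m ih =>
    rw [Function.iterate_succ_apply', ih, hF, Function.iterate_succ_apply', ← pow_mul, pow_succ]

include hF in
lemma exists_iter_mem (W : Submodule k V) (hW : ∀ w ∈ W, F w ∈ W)
    (hfix : ∀ v : V, F v - v ∈ W → v ∈ W) (u : V) : ∃ m : ℕ, F^[m] u ∈ W := by
  have hle : W ≤ W.comap (semilin p F hF) := fun w hw => hW w hw
  let Fq : (V ⧸ W) →ₛₗ[frobenius k p] (V ⧸ W) := W.mapQ W (semilin p F hF) hle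
  have hFq : ∀ (a : k) (x : V ⧸ W),
      Fq.toAddMonoidHom (a • x) = a ^ p • Fq.toAddMonoidHom x := fun a x => by
    simp [frobenius_def]
  have hmk : ∀ x : V, Fq (Submodule.Quotient.mk x) = Submodule.Quotient.mk (F x) := fun x => rfl
  rcases exists_fixed_or_nilpotent p (Nat.Prime.two_le Fact.out) Fq.toAddMonoidHom hFq
    (Submodule.Quotient.mk u) with ⟨m, hm⟩ | ⟨v, hv0, hv⟩
  · refine ⟨m, ?_⟩
    have : ∀ m : ℕ, (Fq.toAddMonoidHom)^[m] (Submodule.Quotient.mk u) =
        Submodule.Quotient.mk (F^[m] u) := by
      intro m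
      induction m with
      | zero => rfl
      | succ m ih =>
        rw [Function.iterate_succ_apply', ih, Function.iterate_succ_apply']; exact hmk _
    rw [this] at hm
    exact (Submodule.Quotient.mk_eq_zero W).mp hm
  · exfalso
    obtain ⟨x, rfl⟩ := Submodule.Quotient.mk_surjective W v
    apply hv0
    rw [Submodule.Quotient.mk_eq_zero]
    apply hfix
    rw [← Submodule.Quotient.mk_eq_zero W, Submodule.Quotient.mk_sub]
    have h1 : Fq (Submodule.Quotient.mk x) = Submodule.Quotient.mk x := hv
    rw [hmk] at h1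
    rw [h1, sub_self]

include hF in
omit [IsAlgClosed k] [FiniteDimensional k V] in
lemma indep_of_fixed (s : Finset V) : (∀ v ∈ s, F v = v) →
    (∀ c : V → ℤ, (∑ v ∈ s, c v • v) = 0 → ∀ v ∈ s, (p : ℤ) ∣ c v) →
      LinearIndepOn k id (s : Set V) := by
  classical
  induction s using Finset.induction_on with
  | empty => intro _ _; simp
  | insert w s' hw IH =>
    intro hfix hind
    have hs'fix : ∀ v ∈ s', F v = v := fun v hv => hfix v (Finset.mem_insert_of_mem hv)
    have hs'ind : ∀ c : V → ℤ, (∑ v ∈ s', c v • v) = 0 → ∀ v ∈ s', (p : ℤ) ∣ c v := by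
      intro c hc v hv
      have hvw : v ≠ w := fun h => hw (h ▸ hv)
      have := hind (fun v => if v = w then 0 else c v) (by
        rw [Finset.sum_insert hw]
        simp only [if_true, zero_smul, zero_add]
        rw [← hc]
        apply Finset.sum_congr rfl
        intro x hx
        have : x ≠ w := fun h => hw (h ▸ hx)
        simp [this]) v (Finset.mem_insert_of_mem hv)
      simpa [hvw] using this
    have IH' := IH hs'fix hs'ind
    rw [Finset.coe_insert, linearIndepOn_id_insert (by simpa using hw)]
    refine ⟨IH', ?_⟩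
    intro hmem
    obtain ⟨a, _, ha⟩ := Submodule.mem_span_finset.mp hmem
    have h1 : ∑ v ∈ s', (a v) ^ p • v = w := by
      have := congrArg F ha
      rw [map_sum, hfix w (Finset.mem_insert_self _ _)] at this
      rw [← this]
      apply Finset.sum_congr rfl
      intro v hv
      rw [hF, hs'fix v hv]
    have h2 : ∑ v ∈ s', ((a v) ^ p - a v) • v = 0 := by
      simp only [sub_smul, Finset.sum_sub_distrib, h1, ha, sub_self]
    have h3 := linearIndepOn_finset_iff.mp IH' (fun v => (a v) ^ p - a v) h2
    have h4 : ∀ v ∈ s', ∃ z : ℤ, (z : k) = a v := by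
      intro v hv
      have : a v ^ p = a v := sub_eq_zero.mp (h3 v hv)
      exact (mem_bot_iff_intCast p k).mp ((Subfield.mem_bot_iff_pow_eq_self k p).mpr this)
    choose! c hc using h4
    have h5 : ∑ v ∈ insert w s', (fun v => if v = w then (-1 : ℤ) else c v) v • v = 0 := by
      rw [Finset.sum_insert hw]
      have : ∑ v ∈ s', (fun v => if v = w then (-1 : ℤ) else c v) v • v = ∑ v ∈ s', a v • v := by
        apply Finset.sum_congr rfl
        intro v hv
        have hvw : v ≠ w := fun h => hw (h ▸ hv)
        simp only [hvw, if_false]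
        rw [← hc v hv, Int.cast_smul_eq_zsmul]
      rw [this, ha]
      simp
    have h6 := hind _ h5 w (Finset.mem_insert_self _ _)
    simp only [if_true] at h6
    have h7 : (p : ℤ) ∣ 1 := (dvd_neg.mp h6)
    have h8 : (p : ℤ) = 1 := Int.eq_one_of_dvd_one (by positivity) h7
    have : p = 1 := by exact_mod_cast h8
    exact (Fact.out : p.Prime).one_lt.ne' this

include hF in
theorem main :
    IsCompl (Submodule.span k {v : V | F v = v})
        (Submodule.span k {v : V | ∃ m : ℕ, (⇑F)^[m] v = 0}) ∧
      ∀ (s : Finset V), (∀ v ∈ s, F v = v) →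
        (∀ c : s → ℤ, (∑ v : s, c v • (v : V)) = 0 → ∀ v : s, (p : ℤ) ∣ c v) →
          LinearIndependent k (fun v : s => (v : V)) := by
  classical
  have hp0 : 0 < p := (Fact.out : p.Prime).pos
  set S : Set V := {v : V | F v = v} with hS
  set W₀ := Submodule.span k S with hW₀
  obtain ⟨r, f, hfS, hspan, hLI⟩ : ∃ r : ℕ, ∃ f : Fin r → V, (∀ i, f i ∈ S) ∧
      Submodule.span k (Set.range f) = Submodule.span k S ∧ LinearIndependent k f :=
    ⟨_, Submodule.exists_fun_fin_finrank_span_eq k S⟩
  have hW₀stable : ∀ w ∈ W₀, F w ∈ W₀ := by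
    intro w hw
    have : W₀ ≤ W₀.comap (semilin p F hF) := Submodule.span_le.mpr (fun v hv => by
      change F v ∈ W₀
      rw [show F v = v from hv]
      exact Submodule.subset_span hv)
    exact this hw
  have hrepr : ∀ w ∈ W₀, ∃ x : Fin r → k, ∑ i, x i • f i = w := fun w hw =>
    (Submodule.mem_span_range_iff_exists_fun k).mp (by rw [hspan]; exact hw)
  have hcomb : ∀ x : Fin r → k, ∑ i, x i • f i ∈ W₀ := fun x => by
    have : ∑ i, x i • f i ∈ Submodule.span k (Set.range f) :=
      Submodule.sum_mem _ (fun i _ => Submodule.smul_mem _ _ (Submodule.subset_span ⟨i, rfl⟩))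
    rwa [hspan] at this
  have hiter : ∀ (m : ℕ) (x : Fin r → k),
      F^[m] (∑ i, x i • f i) = ∑ i, (x i) ^ (p ^ m) • f i := by
    intro m x
    rw [← iterHom_apply, map_sum]
    apply Finset.sum_congr rfl
    intro i _
    rw [iterHom_apply, iter_smul p F hF, Function.iterate_fixed (hfS i)]
  -- Artin–Schreier: `F - 1` is surjective on `W₀`
  have hsurjW : ∀ w ∈ W₀, ∃ w' ∈ W₀, F w' - w' = w := by
    intro w hw
    obtain ⟨x, rfl⟩ := hrepr w hw
    have hroot : ∀ i, ∃ y : k, y ^ p - y = x i := by
      intro i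
      have hdeg : (Polynomial.X ^ p - Polynomial.X - Polynomial.C (x i) : Polynomial k).degree ≠ 0 := by
        have h1 : (Polynomial.X ^ p - Polynomial.X : Polynomial k).natDegree = p :=
          FiniteField.X_pow_card_sub_X_natDegree_eq k (Fact.out : p.Prime).one_lt
        have h2 : 0 < (Polynomial.X ^ p - Polynomial.X : Polynomial k).degree := by
          rw [← Polynomial.natDegree_pos_iff_degree_pos, h1]; exact hp0
        rw [Polynomial.degree_sub_C h2]
        exact h2.ne'
      obtain ⟨y, hy⟩ := IsAlgClosed.exists_root _ hdeg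
      refine ⟨y, ?_⟩
      simpa [sub_eq_zero] using hy
    choose y hy using hroot
    refine ⟨∑ i, y i • f i, hcomb y, ?_⟩
    have := hiter 1 y
    simp only [Function.iterate_one, pow_one] at this
    rw [this, ← Finset.sum_sub_distrib]
    apply Finset.sum_congr rfl
    intro i _
    rw [← sub_smul, hy]
  have hfixmem : ∀ v : V, F v - v ∈ W₀ → v ∈ W₀ := by
    intro v hv
    obtain ⟨w', hw', e⟩ := hsurjW _ hv
    have h1 : F (v - w') = v - w' := by
      rw [map_sub]
      have : F v - F w' - (v - w') = 0 := by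
        have : F v - F w' - (v - w') = (F v - v) - (F w' - w') := by abel
        rw [this, e, sub_self]
      exact sub_eq_zero.mp this
    have h2 : v - w' ∈ W₀ := Submodule.subset_span h1
    have := W₀.add_mem h2 hw'
    simpa using this
  have hnil : ∀ u : V, ∃ m : ℕ, F^[m] u ∈ W₀ := exists_iter_mem p F hF W₀ hW₀stable hfixmem
  have hiter0 : ∀ m : ℕ, F^[m] 0 = 0 := fun m => by rw [← iterHom_apply, map_zero]
  let Nsub : Submodule k V :=
    { carrier := {v : V | ∃ m : ℕ, (⇑F)^[m] v = 0}
      zero_mem' := ⟨0, rfl⟩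
      add_mem' := by
        rintro a b ⟨m₁, h₁⟩ ⟨m₂, h₂⟩
        refine ⟨m₁ + m₂, ?_⟩
        rw [← iterHom_apply, map_add, iterHom_apply, iterHom_apply]
        rw [add_comm m₁ m₂, Function.iterate_add_apply, h₁, hiter0, add_comm m₂ m₁,
          Function.iterate_add_apply, h₂, hiter0, add_zero]
      smul_mem' := by
        rintro a v ⟨m, hm⟩
        exact ⟨m, by rw [iter_smul p F hF, hm, smul_zero]⟩ }
  have hNspan : Submodule.span k {v : V | ∃ m : ℕ, (⇑F)^[m] v = 0} = Nsub :=
    le_antisymm (Submodule.span_le.mpr (fun v hv => hv)) (fun v hv => Submodule.subset_span hv)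
  constructor
  · rw [hNspan]
    constructor
    · rw [Submodule.disjoint_def]
      rintro v hv0 ⟨m, hm⟩
      obtain ⟨x, rfl⟩ := hrepr v hv0
      rw [hiter] at hm
      have h0 := Fintype.linearIndependent_iff.mp hLI _ hm
      have hx : ∀ i, x i = 0 := fun i => by
        have := h0 i
        exact (pow_eq_zero_iff (pow_pos hp0 m).ne').mp this
      simp [hx]
    · rw [codisjoint_iff, eq_top_iff]
      intro u _
      obtain ⟨m, hm⟩ := hnil u
      obtain ⟨x, hx⟩ := hrepr _ hm
      choose y hy using fun i => IsAlgClosed.exists_pow_nat_eq (x i) (pow_pos hp0 m)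
      have hw' : ∑ i, y i • f i ∈ W₀ := hcomb y
      have h0 : F^[m] (u - ∑ i, y i • f i) = 0 := by
        rw [← iterHom_apply, map_sub, iterHom_apply, iterHom_apply, hiter, ← hx]
        simp [hy]
      have hu : u = ∑ i, y i • f i + (u - ∑ i, y i • f i) := by abel
      rw [hu]
      exact Submodule.add_mem_sup hw' ⟨m, h0⟩
  · intro s hs hind
    have h := indep_of_fixed p F hF s hs (fun c hc v hv => by
      have := hind (fun v : s => c v.1) (by
        rw [← hc]
        exact Finset.sum_coe_sort s (fun v => c v • v)) ⟨v, hv⟩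
      exact this)
    exact h

end Main

end helpers

/-- Over an algebraically closed field: let k be an algebraically closed field of characteristic p > 0,
V a finite-dimensional k-vector space and F : V -> V a p-linear endomorphism (additive with F(a·v) =
a^p·F(v)). Let V^F be the set of vectors fixed by F (an F_p-subspace), V_0 the k-span of V^F and V_n
the k-span of the vectors killed by some iterate of F (these already form an F-stable subspace on
which F is nilpotent). Then V = V_0 ⊕ V_n, and V^F ⊗ k -> V_0 is bijective in the sense that any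
finitely many F-fixed vectors linearly independent over Z/p (every vanishing integer combination has
all coefficients divisible by p) are linearly independent over k. (The published statement asserts
this decomposition, with V^F ⊗ k ≅ V_0, for every PERFECT field k; that is false when k is not
separably closed — for k = Z/3, V = k and F = multiplication by 2 there are no nonzero fixed vectors
although F is bijective — and the decomposition is stated here over an algebraically closed field,
the case in which it holds.) -/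
theorem result (p : ℕ) [Fact p.Prime] (k : Type u) [Field k]
    [IsAlgClosed k] [CharP k p] (V : Type u) [AddCommGroup V] [Module k V] [FiniteDimensional k V]
    (F : V →+ V) (hF : ∀ (a : k) (v : V), F (a • v) = a ^ p • F v) :
    IsCompl (Submodule.span k {v : V | F v = v})
        (Submodule.span k {v : V | ∃ m : ℕ, (⇑F)^[m] v = 0}) ∧
      ∀ (s : Finset V), (∀ v ∈ s, F v = v) →
        (∀ c : s → ℤ, (∑ v : s, c v • (v : V)) = 0 → ∀ v : s, (p : ℤ) ∣ c v) →
          LinearIndependent k (fun v : s => (v : V)) := by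
  exact main p F hF

end Groth.Agent.S8604
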