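import Groth.Statements.S8607
-- import your own Groth.Agent.* helpers here

set_option autoImplicit false
universe u
open CategoryTheory CategoryTheory.Limits AlgebraicGeometry Opposite
open DEt

namespace Groth.Agent.S8607

/-- The equalizing half of 'the category of compactifications of f is cofiltering': let f : X -> Y be a
morphism of quasi-compact quasi-separated schemes, (Xbar_1, j_1, fbar_1) and (Xbar_2, j_2, fbar_2)
two compactifications of f, and r, s : Xbar_1 -> Xbar_2 two morphisms of compactifications (r ∘ j_1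
= j_2 = s ∘ j_1 and fbar_2 ∘ r = fbar_1 = fbar_2 ∘ s). Then there are a compactification (Xbar, j,
fbar) of f and a proper morphism t : Xbar -> Xbar_1 of compactifications (t ∘ j = j_1, fbar_1 ∘ t =
fbar) with r ∘ t = s ∘ t. -/
theorem result {X Y : Scheme.{u}} [CompactSpace ↥X] [QuasiSeparatedSpace ↥X]
    [CompactSpace ↥Y] [QuasiSeparatedSpace ↥Y] {f : X ⟶ Y} (c₁ c₂ : DEt.Compactification f)
    (r s : c₁.Xbar ⟶ c₂.Xbar) (hr : c₁.j ≫ r = c₂.j) (hs : c₁.j ≫ s = c₂.j)
    (hr' : r ≫ c₂.fbar = c₁.fbar) (hs' : s ≫ c₂.fbar = c₁.fbar) :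
    ∃ (c : DEt.Compactification f) (t : c.Xbar ⟶ c₁.Xbar), IsProper t ∧ c.j ≫ t = c₁.j ∧ t ≫ c₁.fbar = c.fbar ∧
      t ≫ r = t ≫ s := by
  classical
  -- view `r, s` as morphisms over `Y`
  let A : Over Y := Over.mk c₁.fbar
  let B : Over Y := Over.mk c₂.fbar
  let r' : A ⟶ B := Over.homMk r hr'
  let s' : A ⟶ B := Over.homMk s hs'
  have : IsSeparated B.hom := (inferInstance : IsSeparated c₂.fbar)
  -- the equalizer is a closed subscheme of `c₁.Xbar`
  let ι : (equalizer r' s').left ⟶ c₁.Xbar := (equalizer.ι r' s').left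
  have hι : IsClosedImmersion ι := inferInstance
  have hcond : ι ≫ r = ι ≫ s := congr($(equalizer.condition r' s').left)
  -- `X` maps to the equalizer
  let XO : Over Y := Over.mk f
  let j' : XO ⟶ A := Over.homMk c₁.j c₁.fac
  have hj' : j' ≫ r' = j' ≫ s' := by
    ext
    simp [j', r', s', hr, hs]
  let e : X ⟶ (equalizer r' s').left := (equalizer.lift j' hj').left
  have he : e ≫ ι = c₁.j := congr($(equalizer.lift_ι j' hj').left)
  have : IsImmersion (e ≫ ι) := by rw [he]; infer_instance
  have : IsImmersion e := IsImmersion.of_comp e ι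
  have : QuasiSeparatedSpace ↥(equalizer r' s').left := by
    have h1 : QuasiSeparated (ι ≫ c₁.fbar) := inferInstance
    exact quasiSeparatedSpace_of_quasiSeparated (ι ≫ c₁.fbar)
  have : QuasiCompact e := inferInstance
  refine ⟨⟨e.image, e.toImage, e.imageι ≫ ι ≫ c₁.fbar, inferInstance, inferInstance, ?_⟩,
    e.imageι ≫ ι, inferInstance, ?_, ?_, ?_⟩
  · rw [Scheme.Hom.toImage_imageι_assoc, reassoc_of% he, c₁.fac]
  · rw [Scheme.Hom.toImage_imageι_assoc, he]
  · simp
  · simp only [Category.assoc, hcond]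

end Groth.Agent.S8607
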