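import Groth.Statements.S8609
import Groth.Agent.Lib.Helper14.SymTr3

set_option autoImplicit false
universe u
open CategoryTheory
open SGA4h

namespace Groth.Agent.S8609

open TensorProduct PiTensorProduct Polynomial in
/-- The case of a module placed in degree 0: let A be a commutative ring, M a finite free A-module and u
an endomorphism of M. For each n let Γ^n M be the submodule of the n-fold tensor power of M fixed by
all permutations of the factors (symmetric tensors) and γ_n the endomorphism of Γ^n M induced by the
n-fold tensor power of u. Then the power series Σ_n Tr(γ_n) t^n is the inverse of the polynomial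
det(1 - u t, M): their product is 1 in A[[t]]. (The published statement allows M projective of
finite type; this row takes M free, where the trace of Γ^n M is the usual one.) -/
theorem result {A : Type u} [CommRing A] (M : Type u) [AddCommGroup M]
    [Module A M] [Module.Free A M] [Module.Finite A M] (u : M →ₗ[A] M)
    (γ : ∀ n : ℕ, ↥(⨅ σ : Equiv.Perm (Fin n),
        LinearMap.eqLocus ((PiTensorProduct.reindex A (fun _ : Fin n => M) σ).toLinearMap) LinearMap.id) →ₗ[A]
      ↥(⨅ σ : Equiv.Perm (Fin n),
        LinearMap.eqLocus ((PiTensorProduct.reindex A (fun _ : Fin n => M) σ).toLinearMap) LinearMap.id))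
    (hγ : ∀ (n : ℕ) (x : ↥(⨅ σ : Equiv.Perm (Fin n),
        LinearMap.eqLocus ((PiTensorProduct.reindex A (fun _ : Fin n => M) σ).toLinearMap) LinearMap.id)),
      (↑(γ n x) : ⨂[A] _i : Fin n, M) = PiTensorProduct.map (fun _ : Fin n => u) (↑x : ⨂[A] _i : Fin n, M)) :
    (↑(SGA4h.detOneSub (ModuleCat.of A M) (ModuleCat.ofHom u)) : PowerSeries A) *
      PowerSeries.mk (fun n => LinearMap.trace A _ (γ n)) = 1 := by
  classical
  let b := Module.Free.chooseBasis A M
  have hdet : SGA4h.detOneSub (ModuleCat.of A M) (ModuleCat.ofHom u) =
      (LinearMap.toMatrix b b u).charpolyRev := by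
    unfold SGA4h.detOneSub
    rw [ModuleCat.hom_ofHom,
      ← LinearMap.det_toMatrix (Algebra.TensorProduct.basis (Polynomial A) b)]
    have h1 : LinearMap.toMatrix (Algebra.TensorProduct.basis (Polynomial A) b)
        (Algebra.TensorProduct.basis (Polynomial A) b)
        (LinearMap.id - (Polynomial.X : Polynomial A) • u.baseChange (Polynomial A)) =
        1 - (Polynomial.X : Polynomial A) • (LinearMap.toMatrix b b u).map Polynomial.C := by
      have h := LinearMap.toMatrix_baseChange (A := Polynomial A) u b b
      rw [Polynomial.algebraMap_eq] at h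
      rw [← h, ← LinearMap.toMatrix_id (Algebra.TensorProduct.basis (Polynomial A) b)]
      have h2 : ∀ (f g : (Polynomial A ⊗[A] M) →ₗ[Polynomial A] (Polynomial A ⊗[A] M)),
          LinearMap.toMatrix (Algebra.TensorProduct.basis (Polynomial A) b)
            (Algebra.TensorProduct.basis (Polynomial A) b) (f - g) =
          LinearMap.toMatrix (Algebra.TensorProduct.basis (Polynomial A) b)
            (Algebra.TensorProduct.basis (Polynomial A) b) f -
          LinearMap.toMatrix (Algebra.TensorProduct.basis (Polynomial A) b)
            (Algebra.TensorProduct.basis (Polynomial A) b) g := fun f g => map_sub _ f g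
      have h3 : ∀ (c : Polynomial A)
          (g : (Polynomial A ⊗[A] M) →ₗ[Polynomial A] (Polynomial A ⊗[A] M)),
          LinearMap.toMatrix (Algebra.TensorProduct.basis (Polynomial A) b)
            (Algebra.TensorProduct.basis (Polynomial A) b) (c • g) =
          c • LinearMap.toMatrix (Algebra.TensorProduct.basis (Polynomial A) b)
            (Algebra.TensorProduct.basis (Polynomial A) b) g := fun c g => map_smul _ c g
      rw [h2, h3]
    rw [h1, Matrix.charpolyRev]
  rw [hdet]
  have htr : ∀ n, LinearMap.trace A _ (γ n) =
      Groth.Agent.Lib.helper14.SymTr.hS n (LinearMap.toMatrix b b u) :=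
    fun n => Groth.Agent.Lib.helper14.SymTr.trace_eq_hS b n u (γ n) (hγ n)
  simp_rw [htr]
  exact Groth.Agent.Lib.helper14.SymTr.main _

end Groth.Agent.S8609
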