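import Groth.Statements.S8625
import Mathlib.Tactic.Group
-- import your own Groth.Agent.* helpers here

set_option autoImplicit false
universe u
open SGA4h

namespace Groth.Agent.S8625

section Helpers
variable {G : Type u} [Group G] (F : G →* G)

lemma fix1 (g : G) (h : F (F g * g⁻¹) = F g * g⁻¹) : F (g⁻¹ * F g) = g⁻¹ * F g := by
  have h1 : F (F g) = F g * g⁻¹ * F g := by
    have h2 := h
    rw [map_mul, map_inv] at h2
    calc F (F g) = F (F g) * (F g)⁻¹ * F g := by group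
      _ = _ := by rw [h2]
  rw [map_mul, map_inv, h1]; group

lemma fix2 (g : G) (h : F (g⁻¹ * F g) = g⁻¹ * F g) : F (F g * g⁻¹) = F g * g⁻¹ := by
  have h1 : F (F g) = F g * g⁻¹ * F g := by
    have h2 := h
    rw [map_mul, map_inv] at h2
    calc F (F g) = F g * ((F g)⁻¹ * F (F g)) := by group
      _ = _ := by rw [h2]; group
  rw [map_mul, map_inv, h1]; group

/-- K1 -/
lemma k1 (g g' : G) (h : F g * g⁻¹ = F g' * g'⁻¹) :
    ∃ c, F c = c ∧ c * (g⁻¹ * F g) * c⁻¹ = g'⁻¹ * F g' := by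
  have h1 : F g = F g' * g'⁻¹ * g := by
    calc F g = F g * g⁻¹ * g := by group
      _ = _ := by rw [h]
  refine ⟨g'⁻¹ * g, ?_, ?_⟩
  · rw [map_mul, map_inv, h1]; group
  · rw [h1]; group

/-- K1' -/
lemma k1' (g g' : G) (h : g⁻¹ * F g = g'⁻¹ * F g') :
    ∃ d, F d = d ∧ d * (F g' * g'⁻¹) * d⁻¹ = F g * g⁻¹ := by
  have h1 : F g = g * g'⁻¹ * F g' := by
    calc F g = g * (g⁻¹ * F g) := by group
      _ = _ := by rw [h]; group
  refine ⟨g * g'⁻¹, ?_, ?_⟩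
  · rw [map_mul, map_inv, h1]; group
  · rw [h1]; group

end Helpers

/-- Let G be a group with an endomorphism F, and assume the Lang map g ↦ F(g)g⁻¹ is surjective (for
instance the geometric points of a connected algebraic group over F_q with its Frobenius, where the
surjectivity is the classical result of Lang; the other Lang map g ↦ g⁻¹F(g) is then surjective too,
by g ↦ g⁻¹). Let G^F be the subgroup of fixed points of F. (i) If F(g)g⁻¹ is fixed by F then so is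
g⁻¹F(g). (ii), (iii) There is a bijection of the set of conjugacy classes of G^F with itself
sending, for every g with F(g)g⁻¹ ∈ G^F, the class of F(g)g⁻¹ to the class of g⁻¹F(g) (in particular
the latter class depends only on the former). -/
theorem result {G : Type u} [Group G] (F : G →* G)
    (hL : Function.Surjective fun g : G => F g * g⁻¹) :
    (∀ g : G, F (F g * g⁻¹) = F g * g⁻¹ → F (g⁻¹ * F g) = g⁻¹ * F g) ∧
    ∃ φ : ConjClasses ↥(F.eqLocus (MonoidHom.id G)) → ConjClasses ↥(F.eqLocus (MonoidHom.id G)),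
      Function.Bijective φ ∧
      ∀ (g : G) (h : F (F g * g⁻¹) = F g * g⁻¹) (h' : F (g⁻¹ * F g) = g⁻¹ * F g),
        φ (ConjClasses.mk (⟨F g * g⁻¹, h⟩ : ↥(F.eqLocus (MonoidHom.id G)))) =
          ConjClasses.mk (⟨g⁻¹ * F g, h'⟩ : ↥(F.eqLocus (MonoidHom.id G))) := by
  refine ⟨fun g h => fix1 F g h, ?_⟩
  have memH : ∀ x : G, x ∈ F.eqLocus (MonoidHom.id G) ↔ F x = x := fun x => Iff.rfl
  choose gOf hgOf0 using fun a : ↥(F.eqLocus (MonoidHom.id G)) => hL a.1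
  have hgOf : ∀ a : ↥(F.eqLocus (MonoidHom.id G)), F (gOf a) * (gOf a)⁻¹ = a.1 := hgOf0
  have htw : ∀ a, F ((gOf a)⁻¹ * F (gOf a)) = (gOf a)⁻¹ * F (gOf a) := fun a =>
    fix1 F _ (by rw [hgOf a]; exact (memH _).1 a.2)
  let tw : ↥(F.eqLocus (MonoidHom.id G)) → ↥(F.eqLocus (MonoidHom.id G)) :=
    fun a => ⟨(gOf a)⁻¹ * F (gOf a), (memH _).2 (htw a)⟩
  have conjH : ∀ (x y : ↥(F.eqLocus (MonoidHom.id G))),
      (∃ c : G, F c = c ∧ c * x.1 * c⁻¹ = y.1) → IsConj x y := by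
    rintro x y ⟨c, hc, hxy⟩
    rw [isConj_iff]
    exact ⟨⟨c, (memH c).2 hc⟩, Subtype.ext (by simpa using hxy)⟩
  have conjH' : ∀ (x y : ↥(F.eqLocus (MonoidHom.id G))), IsConj x y →
      ∃ c : G, F c = c ∧ c * x.1 * c⁻¹ = y.1 := by
    intro x y hxy
    rw [isConj_iff] at hxy
    obtain ⟨c, hc⟩ := hxy
    exact ⟨c.1, (memH _).1 c.2, by simpa using congrArg Subtype.val hc⟩
  have prop : ∀ (a : ↥(F.eqLocus (MonoidHom.id G))) (g : G) (_ : F g * g⁻¹ = a.1)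
      (h' : F (g⁻¹ * F g) = g⁻¹ * F g),
      ConjClasses.mk (tw a) = ConjClasses.mk
        (⟨g⁻¹ * F g, (memH _).2 h'⟩ : ↥(F.eqLocus (MonoidHom.id G))) := by
    intro a g hg h'
    rw [ConjClasses.mk_eq_mk_iff_isConj]
    apply conjH
    exact k1 F (gOf a) g ((hgOf a).trans hg.symm)
  have wd : ∀ a a' : ↥(F.eqLocus (MonoidHom.id G)), IsConj a a' →
      ConjClasses.mk (tw a) = ConjClasses.mk (tw a') := by
    intro a a' haa'
    obtain ⟨c, hc, hca⟩ := conjH' a a' haa'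
    have h1 : F (c * gOf a) * (c * gOf a)⁻¹ = a'.1 := by
      rw [map_mul, hc, ← hca, ← hgOf a]; group
    have h2 : (c * gOf a)⁻¹ * F (c * gOf a) = (gOf a)⁻¹ * F (gOf a) := by
      rw [map_mul, hc]; group
    have h3 := prop a' (c * gOf a) h1 (by rw [h2]; exact htw a)
    rw [h3]
    exact congrArg ConjClasses.mk (Subtype.ext h2.symm)
  refine ⟨Quotient.lift (fun a => ConjClasses.mk (tw a)) (fun a a' h => wd a a' h),
    ⟨?_, ?_⟩, fun g h h' => prop ⟨F g * g⁻¹, h⟩ g rfl h'⟩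
  · rintro ⟨a⟩ ⟨a'⟩ hxy
    change ConjClasses.mk (tw a) = ConjClasses.mk (tw a') at hxy
    rw [ConjClasses.mk_eq_mk_iff_isConj] at hxy
    obtain ⟨c, hc, hcc⟩ := conjH' _ _ hxy
    have hcc' : c * ((gOf a)⁻¹ * F (gOf a)) * c⁻¹ = (gOf a')⁻¹ * F (gOf a') := hcc
    have h1 : (gOf a * c⁻¹)⁻¹ * F (gOf a * c⁻¹) = (gOf a')⁻¹ * F (gOf a') := by
      rw [map_mul, map_inv, hc, ← hcc']; group
    have h2 : F (gOf a * c⁻¹) * (gOf a * c⁻¹)⁻¹ = a.1 := by
      rw [map_mul, map_inv, hc, ← hgOf a]; group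
    obtain ⟨d, hd, hdd⟩ := k1' F (gOf a * c⁻¹) (gOf a') h1
    rw [hgOf a', h2] at hdd
    apply Quotient.sound
    exact (conjH a' a ⟨d, hd, hdd⟩).symm
  · rintro ⟨b⟩
    obtain ⟨h, hh⟩ := hL (b.1)⁻¹
    have hh' : F h * h⁻¹ = (b.1)⁻¹ := hh
    have hb : (h⁻¹)⁻¹ * F h⁻¹ = b.1 := by
      rw [map_inv, ← inv_inj, ← hh']; group
    have hfix : F ((h⁻¹)⁻¹ * F h⁻¹) = (h⁻¹)⁻¹ * F h⁻¹ := by
      rw [hb]; exact (memH _).1 b.2
    have ha : F (F h⁻¹ * (h⁻¹)⁻¹) = F h⁻¹ * (h⁻¹)⁻¹ := fix2 F h⁻¹ hfix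
    refine ⟨ConjClasses.mk ⟨F h⁻¹ * (h⁻¹)⁻¹, (memH _).2 ha⟩, ?_⟩
    change ConjClasses.mk (tw _) = _
    rw [prop _ h⁻¹ rfl hfix]
    exact congrArg ConjClasses.mk (Subtype.ext hb)

end Groth.Agent.S8625
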