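import Groth.Statements.S8626
import Mathlib

set_option autoImplicit false
universe v v' u u'
open CategoryTheory CategoryTheory.Limits
open SGA4h

namespace Groth.Agent.S8626

variable {A : Type u} [Category.{v} A] [Abelian A]

/-- one stage of the simultaneous construction of an `𝒪`-resolution `K` together with chain maps
`J → K → J` composing to the identity -/
structure Stage (𝒪 : ObjectProperty A) (J : CochainComplex A ℕ) (n : ℕ) where
  P₀ : A
  P₁ : A
  d : P₀ ⟶ P₁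
  i₀ : J.X n ⟶ P₀
  i₁ : J.X (n + 1) ⟶ P₁
  r₀ : P₀ ⟶ J.X n
  r₁ : P₁ ⟶ J.X (n + 1)
  comm_i : J.d n (n + 1) ≫ i₁ = i₀ ≫ d
  comm_r : d ≫ r₁ = r₀ ≫ J.d n (n + 1)
  ir₀ : i₀ ≫ r₀ = 𝟙 _
  ir₁ : i₁ ≫ r₁ = 𝟙 _
  h₀ : 𝒪 P₀
  h₁ : 𝒪 P₁

section Next

variable {𝒪 : ObjectProperty A} {J : CochainComplex A ℕ}
  (h2 : ∀ X : A, ∃ (Y : A) (i : X ⟶ Y), 𝒪 Y ∧ Mono i) {n : ℕ} (s : Stage 𝒪 J n)

/-- the map from the cokernel of `J^n → J^{n+1}` to `J^{n+2}` -/
noncomputable def β (J : CochainComplex A ℕ) (n : ℕ) :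
    cokernel (J.d n (n + 1)) ⟶ J.X (n + 2) :=
  cokernel.desc _ (J.d (n + 1) (n + 2)) (J.d_comp_d _ _ _)

noncomputable def ibar : cokernel (J.d n (n + 1)) ⟶ cokernel s.d :=
  cokernel.map _ _ s.i₀ s.i₁ s.comm_i

noncomputable abbrev W : A := pushout (β J n) (ibar s)

noncomputable def Q : A := (h2 (W s)).choose

noncomputable def m : W s ⟶ Q h2 s := (h2 (W s)).choose_spec.choose

theorem hQ : 𝒪 (Q h2 s) := (h2 (W s)).choose_spec.choose_spec.1

instance : Mono (m h2 s) := (h2 (W s)).choose_spec.choose_spec.2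

noncomputable def d' : s.P₁ ⟶ Q h2 s :=
  cokernel.π s.d ≫ (pushout.inr (β J n) (ibar s) : cokernel s.d ⟶ W s) ≫ m h2 s

noncomputable def i' : J.X (n + 2) ⟶ Q h2 s :=
  (pushout.inl (β J n) (ibar s) : J.X (n + 2) ⟶ W s) ≫ m h2 s

noncomputable def γ : cokernel s.d ⟶ J.X (n + 2) :=
  cokernel.desc s.d (s.r₁ ≫ J.d (n + 1) (n + 2)) (by
    rw [← Category.assoc, s.comm_r, Category.assoc, J.d_comp_d, comp_zero])

noncomputable def ρW : W s ⟶ J.X (n + 2) :=
  pushout.desc (𝟙 _) (γ s) (by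
    rw [← cancel_epi (cokernel.π (J.d n (n + 1)))]
    simp only [β, ibar, γ, Category.comp_id, cokernel.π_desc, cokernel.π_desc_assoc]
    rw [Category.assoc, cokernel.π_desc, ← Category.assoc, s.ir₁, Category.id_comp])

theorem sq : s.d ≫ d' h2 s = 0 := by
  rw [d', cokernel.condition_assoc, zero_comp]

theorem comm_i' : J.d (n + 1) (n + 2) ≫ i' h2 s = s.i₁ ≫ d' h2 s := by
  have h1 : J.d (n + 1) (n + 2) = cokernel.π (J.d n (n + 1)) ≫ β J n := by
    rw [β, cokernel.π_desc]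
  have h3 : cokernel.π (J.d n (n + 1)) ≫ ibar s = s.i₁ ≫ cokernel.π s.d := by
    rw [ibar, cokernel.π_desc]
  rw [i', d', h1, Category.assoc, ← Category.assoc (β J n), pushout.condition, Category.assoc,
    ← Category.assoc, h3, Category.assoc]

variable [Injective (J.X (n + 2))]

noncomputable def r' : Q h2 s ⟶ J.X (n + 2) := Injective.factorThru (ρW s) (m h2 s)

theorem ir' : i' h2 s ≫ r' h2 s = 𝟙 _ := by
  rw [i', r', Category.assoc, Injective.comp_factorThru, ρW, pushout.inl_desc]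

theorem comm_r' : d' h2 s ≫ r' h2 s = s.r₁ ≫ J.d (n + 1) (n + 2) := by
  rw [d', r', Category.assoc, Category.assoc, Injective.comp_factorThru, ρW, pushout.inr_desc,
    γ, cokernel.π_desc]

/-- the next stage -/
noncomputable def next : Stage 𝒪 J (n + 1) where
  P₀ := s.P₁
  P₁ := Q h2 s
  d := d' h2 s
  i₀ := s.i₁
  i₁ := i' h2 s
  r₀ := s.r₁
  r₁ := r' h2 s
  comm_i := comm_i' h2 s
  comm_r := comm_r' h2 s
  ir₀ := s.ir₁
  ir₁ := ir' h2 s
  h₀ := s.h₁
  h₁ := hQ h2 s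

theorem next_exact (hJ : Mono (β J n)) :
    (ShortComplex.mk s.d (d' h2 s) (sq h2 s)).Exact := by
  haveI := hJ
  haveI : Mono ((pushout.inr (β J n) (ibar s) : cokernel s.d ⟶ W s) ≫ m h2 s) := mono_comp _ _
  have h1 : (ShortComplex.mk s.d (cokernel.π s.d) (cokernel.condition s.d)).Exact :=
    ShortComplex.exact_cokernel s.d
  exact (ShortComplex.exact_iff_of_epi_of_isIso_of_mono
    (S₁ := ShortComplex.mk s.d (cokernel.π s.d) (cokernel.condition s.d))
    (S₂ := ShortComplex.mk s.d (d' h2 s) (sq h2 s))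
    { τ₁ := 𝟙 _
      τ₂ := 𝟙 _
      τ₃ := (pushout.inr (β J n) (ibar s) : cokernel s.d ⟶ W s) ≫ m h2 s
      comm₁₂ := by simp
      comm₂₃ := by simp [d'] }).1 h1

end Next

section Build

variable {𝒪 : ObjectProperty A} {J : CochainComplex A ℕ}
  (h2 : ∀ X : A, ∃ (Y : A) (i : X ⟶ Y), 𝒪 Y ∧ Mono i)
  (hinj : ∀ n, Injective (J.X (n + 1))) (hJ0 : 𝒪 (J.X 0))

/-- the initial stage -/
noncomputable def stage0 : Stage 𝒪 J 0 :=
  haveI := hinj 0
  { P₀ := J.X 0
    P₁ := (h2 (J.X 1)).choose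
    d := J.d 0 1 ≫ (h2 (J.X 1)).choose_spec.choose
    i₀ := 𝟙 _
    i₁ := (h2 (J.X 1)).choose_spec.choose
    r₀ := 𝟙 _
    r₁ :=
      haveI : Mono (h2 (J.X 1)).choose_spec.choose := (h2 (J.X 1)).choose_spec.choose_spec.2
      Injective.factorThru (𝟙 (J.X 1)) (h2 (J.X 1)).choose_spec.choose
    comm_i := by rw [Category.id_comp]
    comm_r := by
      haveI : Mono (h2 (J.X 1)).choose_spec.choose := (h2 (J.X 1)).choose_spec.choose_spec.2
      rw [Category.assoc, Injective.comp_factorThru, Category.comp_id, Category.id_comp]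
    ir₀ := Category.id_comp _
    ir₁ := by
      haveI : Mono (h2 (J.X 1)).choose_spec.choose := (h2 (J.X 1)).choose_spec.choose_spec.2
      exact Injective.comp_factorThru _ _
    h₀ := hJ0
    h₁ := (h2 (J.X 1)).choose_spec.choose_spec.1 }

theorem stage0_mono (hm : Mono (J.d 0 1)) : Mono (stage0 h2 hinj hJ0).d := by
  haveI := hm
  haveI : Mono (h2 (J.X 1)).choose_spec.choose := (h2 (J.X 1)).choose_spec.choose_spec.2
  change Mono (J.d 0 1 ≫ (h2 (J.X 1)).choose_spec.choose)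
  exact mono_comp _ _

/-- all stages -/
noncomputable def stage : ∀ n : ℕ, Stage 𝒪 J n :=
  fun n => Nat.rec (stage0 h2 hinj hJ0) (fun n s => @next A _ _ 𝒪 J h2 n s (hinj (n + 1))) n

theorem stage_succ (n : ℕ) :
    stage h2 hinj hJ0 (n + 1) = @next A _ _ 𝒪 J h2 n (stage h2 hinj hJ0 n) (hinj (n + 1)) := rfl

/-- the `𝒪`-resolution -/
noncomputable def K : CochainComplex A ℕ :=
  CochainComplex.of (fun n => (stage h2 hinj hJ0 n).P₀) (fun n => (stage h2 hinj hJ0 n).d)
    (fun n => sq h2 (stage h2 hinj hJ0 n))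

theorem K_X (n : ℕ) : (K h2 hinj hJ0).X n = (stage h2 hinj hJ0 n).P₀ := rfl

theorem K_d (n : ℕ) : (K h2 hinj hJ0).d n (n + 1) = (stage h2 hinj hJ0 n).d :=
  CochainComplex.of_d (fun n => (stage h2 hinj hJ0 n).P₀) (fun n => (stage h2 hinj hJ0 n).d) n

theorem K_mem (n : ℕ) : 𝒪 ((K h2 hinj hJ0).X n) := (stage h2 hinj hJ0 n).h₀

noncomputable def φ : J ⟶ K h2 hinj hJ0 :=
  CochainComplex.ofHom (fun n => (stage h2 hinj hJ0 n).i₀) (fun n => by
    rw [K_d]
    exact (stage h2 hinj hJ0 n).comm_i.symm)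

noncomputable def ψ : K h2 hinj hJ0 ⟶ J :=
  CochainComplex.ofHom (fun n => (stage h2 hinj hJ0 n).r₀) (fun n => by
    rw [K_d]
    exact (stage h2 hinj hJ0 n).comm_r.symm)

theorem φ_ψ : φ h2 hinj hJ0 ≫ ψ h2 hinj hJ0 = 𝟙 J := by
  ext n
  change (stage h2 hinj hJ0 n).i₀ ≫ (stage h2 hinj hJ0 n).r₀ = 𝟙 _
  exact (stage h2 hinj hJ0 n).ir₀

theorem K_acyclic (hJ : J.Acyclic) : (K h2 hinj hJ0).Acyclic := by
  intro i
  cases i with
  | zero =>
    rw [HomologicalComplex.exactAt_iff' _ 0 0 1 (by simp) (by simp)]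
    have hm : Mono (J.d 0 1) := by
      have h := hJ 0
      rw [HomologicalComplex.exactAt_iff' _ 0 0 1 (by simp) (by simp)] at h
      have hz : (J.sc' 0 0 1).f = 0 := by
        change J.d 0 0 = 0
        exact J.shape 0 0 (by simp)
      exact (ShortComplex.exact_iff_mono _ hz).1 h
    have hz : ((K h2 hinj hJ0).sc' 0 0 1).f = 0 := by
      change (K h2 hinj hJ0).d 0 0 = 0
      exact (K h2 hinj hJ0).shape 0 0 (by simp)
    rw [ShortComplex.exact_iff_mono _ hz]
    change Mono ((K h2 hinj hJ0).d 0 1)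
    rw [K_d]
    exact stage0_mono h2 hinj hJ0 hm
  | succ n =>
    rw [HomologicalComplex.exactAt_iff' _ n (n + 1) (n + 2) (by simp) (by simp)]
    have hβ : Mono (β J n) := by
      have h := hJ (n + 1)
      rw [HomologicalComplex.exactAt_iff' _ n (n + 1) (n + 2) (by simp) (by simp)] at h
      exact h.mono_cokernelDesc
    have h1 := @next_exact A _ _ 𝒪 J h2 n (stage h2 hinj hJ0 n) (hinj (n + 1)) hβ
    refine ShortComplex.exact_of_iso ?_ h1
    refine ShortComplex.isoMk (Iso.refl _) (Iso.refl _) (Iso.refl _) ?_ ?_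
    · change 𝟙 _ ≫ (K h2 hinj hJ0).d n (n + 1) = (stage h2 hinj hJ0 n).d ≫ 𝟙 _
      rw [K_d, Category.comp_id, Category.id_comp]
    · change 𝟙 _ ≫ (K h2 hinj hJ0).d (n + 1) (n + 2) = d' h2 (stage h2 hinj hJ0 n) ≫ 𝟙 _
      rw [K_d, Category.comp_id, Category.id_comp]
      rfl

end Build

/-- **embedding lemma** -/
theorem exists_embed {𝒪 : ObjectProperty A} (J : CochainComplex A ℕ)
    (h2 : ∀ X : A, ∃ (Y : A) (i : X ⟶ Y), 𝒪 Y ∧ Mono i)
    (hinj : ∀ n, Injective (J.X (n + 1))) (hJ0 : 𝒪 (J.X 0)) (hJ : J.Acyclic) :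
    ∃ (K : CochainComplex A ℕ), (∀ i, 𝒪 (K.X i)) ∧ K.Acyclic ∧
      ∃ (φ : J ⟶ K) (ψ : K ⟶ J), φ ≫ ψ = 𝟙 J :=
  ⟨K h2 hinj hJ0, K_mem h2 hinj hJ0, K_acyclic h2 hinj hJ0 hJ, φ h2 hinj hJ0, ψ h2 hinj hJ0,
    φ_ψ h2 hinj hJ0⟩

theorem main {A : Type u} [Category.{v} A] [Abelian A] [EnoughInjectives A]
    {B : Type u'} [Category.{v'} B] [Abelian B] (f : A ⥤ B) [f.Additive] (𝒪 : ObjectProperty A)
    (h1 : ∀ K : CochainComplex A ℕ, (∀ i, 𝒪 (K.X i)) → K.Acyclic →
      ((f.mapHomologicalComplex (ComplexShape.up ℕ)).obj K).Acyclic)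
    (h2 : ∀ X : A, ∃ (Y : A) (i : X ⟶ Y), 𝒪 Y ∧ Mono i)
    (X : A) (hX : 𝒪 X) (n : ℕ) (hn : 0 < n) :
    IsZero ((f.rightDerived n).obj X) := by
  obtain ⟨I⟩ : Nonempty (InjectiveResolution X) := ⟨injectiveResolution X⟩
  obtain ⟨J, hJdef⟩ : ∃ J : CochainComplex A ℕ,
      J = CochainComplex.augment I.cocomplex (I.ι.f 0) I.ι_f_zero_comp_complex_d := ⟨_, rfl⟩
  have hinj : ∀ n, Injective (J.X (n + 1)) := by
    intro n
    rw [hJdef]
    exact I.injective n
  have hJ0 : 𝒪 (J.X 0) := by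
    rw [hJdef]
    exact hX
  have hJ : J.Acyclic := by
    rw [hJdef]
    intro i
    rcases i with _ | _ | i
    · rw [HomologicalComplex.exactAt_iff' _ 0 0 1 (by simp) (by simp)]
      have hz : ((CochainComplex.augment I.cocomplex (I.ι.f 0)
          I.ι_f_zero_comp_complex_d).sc' 0 0 1).f = 0 := by
        change (CochainComplex.augment I.cocomplex (I.ι.f 0) I.ι_f_zero_comp_complex_d).d 0 0 = 0
        exact HomologicalComplex.shape _ 0 0 (by simp)
      rw [ShortComplex.exact_iff_mono _ hz]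
      change Mono (I.ι.f 0)
      infer_instance
    · rw [HomologicalComplex.exactAt_iff' _ 0 1 2 (by simp) (by simp)]
      exact I.exact₀
    · rw [HomologicalComplex.exactAt_iff' _ (i + 1) (i + 2) (i + 3) (by simp) (by simp)]
      exact I.exact_succ i
  obtain ⟨K, hK𝒪, hKac, φ, ψ, hφψ⟩ := exists_embed J h2 hinj hJ0 hJ
  have hfK := h1 K hK𝒪 hKac
  obtain ⟨m, rfl⟩ : ∃ m, n = m + 1 := ⟨n - 1, by omega⟩
  have hfJ : ((f.mapHomologicalComplex (ComplexShape.up ℕ)).obj J).ExactAt (m + 2) := by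
    rw [HomologicalComplex.exactAt_iff_isZero_homology]
    have hz : IsZero (((f.mapHomologicalComplex (ComplexShape.up ℕ)).obj K).homology (m + 2)) :=
      (HomologicalComplex.exactAt_iff_isZero_homology _ _).1 (hfK (m + 2))
    have hr : HomologicalComplex.homologyMap
        ((f.mapHomologicalComplex (ComplexShape.up ℕ)).map φ) (m + 2) ≫
        HomologicalComplex.homologyMap
          ((f.mapHomologicalComplex (ComplexShape.up ℕ)).map ψ) (m + 2) = 𝟙 _ := by
      rw [← HomologicalComplex.homologyMap_comp, ← CategoryTheory.Functor.map_comp, hφψ,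
        CategoryTheory.Functor.map_id, HomologicalComplex.homologyMap_id]
    rw [IsZero.iff_id_eq_zero, ← hr, hz.eq_of_tgt (HomologicalComplex.homologyMap
        ((f.mapHomologicalComplex (ComplexShape.up ℕ)).map φ) (m + 2)) 0, zero_comp]
  refine IsZero.of_iso ?_ (I.isoRightDerivedObj f (m + 1))
  change IsZero (((f.mapHomologicalComplex (ComplexShape.up ℕ)).obj I.cocomplex).homology (m + 1))
  rw [← HomologicalComplex.exactAt_iff_isZero_homology,
    HomologicalComplex.exactAt_iff' _ m (m + 1) (m + 2) (by simp) (by simp)]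
  rw [HomologicalComplex.exactAt_iff' _ (m + 1) (m + 2) (m + 3) (by simp) (by simp), hJdef] at hfJ
  exact hfJ

/-- Acyclicity assertion; A with enough injectives so that R^n f is the usual right derived functor: let
f : A → B be an additive functor between abelian categories and 𝒪 a class of objects of A, stable
under binary direct sums, such that (1) f carries every acyclic bounded-below cochain complex of
objects of 𝒪 (indexed by ℕ, exact in every degree, in degree 0 meaning the first differential is a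
monomorphism) to an acyclic complex, and (2) every object of A admits a monomorphism into a member
of 𝒪. Then every member of 𝒪 is right f-acyclic: R^n f(X) = 0 for all n > 0. -/
theorem result {A : Type u} [Category.{v} A] [Abelian A] [EnoughInjectives A]
    {B : Type u'} [Category.{v'} B] [Abelian B] (f : A ⥤ B) [f.Additive] (𝒪 : ObjectProperty A)
    (h0 : ∀ X Y : A, 𝒪 X → 𝒪 Y → 𝒪 (X ⊞ Y))
    (h1 : ∀ K : CochainComplex A ℕ, (∀ i, 𝒪 (K.X i)) → K.Acyclic →
      ((f.mapHomologicalComplex (ComplexShape.up ℕ)).obj K).Acyclic)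
    (h2 : ∀ X : A, ∃ (Y : A) (i : X ⟶ Y), 𝒪 Y ∧ Mono i)
    (X : A) (hX : 𝒪 X) (n : ℕ) (hn : 0 < n) :
    IsZero ((f.rightDerived n).obj X) := by
  exact main f 𝒪 h1 h2 X hX n hn

end Groth.Agent.S8626
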