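import Groth.Statements.S8630
import Mathlib

set_option autoImplicit false
open Zeta

namespace Groth.Agent.S8630

theorem exists_div (p : ℕ) (G : PowerSeries ℤ)
    (h : PowerSeries.map (Int.castRingHom (ZMod p)) G = 0) :
    ∃ G₂ : PowerSeries ℤ, G = PowerSeries.C (p : ℤ) * G₂ := by
  have hdiv : ∀ i, (p : ℤ) ∣ PowerSeries.coeff i G := by
    intro i
    have h1 := congrArg (PowerSeries.coeff i) h
    rw [PowerSeries.coeff_map, map_zero, eq_intCast] at h1
    exact (CharP.intCast_eq_zero_iff (ZMod p) p _).mp h1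
  refine ⟨PowerSeries.mk (fun i => PowerSeries.coeff i G / (p : ℤ)), ?_⟩
  ext i
  rw [PowerSeries.coeff_C_mul, PowerSeries.coeff_mk, Int.mul_ediv_cancel' (hdiv i)]

theorem gaussG : ∀ (m : ℕ) (F Y : PowerSeries ℤ) (c : ℤ), c.natAbs = m → c ≠ 0 →
    F * Y = PowerSeries.C c →
    ∀ i, PowerSeries.constantCoeff F ∣ PowerSeries.coeff i F := by
  intro m
  induction m using Nat.strong_induction_on with
  | _ m ih =>
    intro F Y c hm hc hFY i
    have hb : PowerSeries.constantCoeff F * PowerSeries.constantCoeff Y = c := by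
      have h0 := congrArg PowerSeries.constantCoeff hFY
      rw [map_mul, PowerSeries.constantCoeff_C] at h0
      exact h0
    by_cases hu : (PowerSeries.constantCoeff F).natAbs = 1
    · exact (Int.isUnit_iff_natAbs_eq.mpr hu).dvd
    · obtain ⟨p, hp, hpb⟩ := Nat.exists_prime_and_dvd hu
      haveI : Fact p.Prime := ⟨hp⟩
      have hpb' : (p : ℤ) ∣ PowerSeries.constantCoeff F := Int.natCast_dvd.mpr hpb
      have hpc : (p : ℤ) ∣ c := by rw [← hb]; exact Dvd.dvd.mul_right hpb' _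
      obtain ⟨c₂, hc₂⟩ := hpc
      have hc₂0 : c₂ ≠ 0 := by
        rintro rfl
        exact hc (by rw [hc₂, mul_zero])
      have hlt : c₂.natAbs < m := by
        rw [← hm, hc₂, Int.natAbs_mul, Int.natAbs_natCast]
        have h1 : 0 < c₂.natAbs := Int.natAbs_pos.mpr hc₂0
        have h2 := Nat.mul_le_mul_right c₂.natAbs hp.two_le
        linarith
      have hp0 : (PowerSeries.C (p : ℤ) : PowerSeries ℤ) ≠ 0 := by
        intro h0
        have h1 := congrArg PowerSeries.constantCoeff h0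
        rw [PowerSeries.constantCoeff_C, map_zero] at h1
        exact hp.ne_zero (by exact_mod_cast h1)
      have hmap : PowerSeries.map (Int.castRingHom (ZMod p)) F *
          PowerSeries.map (Int.castRingHom (ZMod p)) Y = 0 := by
        rw [← map_mul, hFY, PowerSeries.map_C, eq_intCast, hc₂, Int.cast_mul, Int.cast_natCast,
          ZMod.natCast_self, zero_mul, map_zero]
      rcases mul_eq_zero.mp hmap with h0 | h0
      · obtain ⟨F₂, hF₂⟩ := exists_div p F h0
        have hF₂Y : F₂ * Y = PowerSeries.C c₂ := by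
          apply mul_left_cancel₀ hp0
          rw [← mul_assoc, ← hF₂, hFY, hc₂, map_mul]
        have h3 := ih c₂.natAbs hlt F₂ Y c₂ rfl hc₂0 hF₂Y i
        rw [hF₂, map_mul, PowerSeries.constantCoeff_C, PowerSeries.coeff_C_mul]
        exact mul_dvd_mul_left _ h3
      · obtain ⟨Y₂, hY₂⟩ := exists_div p Y h0
        have hFY₂ : F * Y₂ = PowerSeries.C c₂ := by
          apply mul_left_cancel₀ hp0
          rw [mul_left_comm, ← hY₂, hFY, hc₂, map_mul]
        exact ih c₂.natAbs hlt F Y₂ c₂ rfl hc₂0 hFY₂ i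

theorem clear (U : Polynomial ℚ) : ∃ (b : ℤ) (U₁ : Polynomial ℤ), b ≠ 0 ∧
    PowerSeries.map (Int.castRingHom ℚ) (U₁ : PowerSeries ℤ) =
      PowerSeries.C (b : ℚ) * (U : PowerSeries ℚ) := by
  obtain ⟨b, hb, hspec⟩ := IsLocalization.integerNormalization_spec (nonZeroDivisors ℤ) U
  refine ⟨b, IsLocalization.integerNormalization (nonZeroDivisors ℤ) U,
    nonZeroDivisors.ne_zero hb, ?_⟩
  ext i
  have h2 : ((IsLocalization.integerNormalization (nonZeroDivisors ℤ) U).coeff i : ℚ) =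
      (b : ℚ) * U.coeff i := by
    have h1 := congrArg (fun q => Polynomial.coeff q i) hspec
    simpa [Polynomial.coeff_map, Polynomial.coeff_smul, Algebra.smul_def] using h1
  rw [PowerSeries.coeff_map, Polynomial.coeff_coe, PowerSeries.coeff_C_mul, Polynomial.coeff_coe,
    eq_intCast]
  exact h2


/-- Fatou's lemma: let P, Q ∈ ℚ[T] be coprime with constant coefficient 1, and suppose the power series
P/Q has integer coefficients, i.e. P = Q·Z in ℚ⟦T⟧ for a power series Z with coefficients in ℤ. Then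
P and Q have integer coefficients. -/
theorem result (P Q : Polynomial ℚ)
    (hPQ : IsCoprime P Q) (hP : P.coeff 0 = 1) (hQ : Q.coeff 0 = 1) (Z : PowerSeries ℤ)
    (hZ : (P : PowerSeries ℚ) = (Q : PowerSeries ℚ) * PowerSeries.map (Int.castRingHom ℚ) Z) :
    (∃ P₀ : Polynomial ℤ, P₀.map (Int.castRingHom ℚ) = P) ∧
      ∃ Q₀ : Polynomial ℤ, Q₀.map (Int.castRingHom ℚ) = Q := by
  classical
  obtain ⟨ι, hι⟩ : ∃ ι : PowerSeries ℤ →+* PowerSeries ℚ,
      ι = PowerSeries.map (Int.castRingHom ℚ) := ⟨_, rfl⟩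
  have hιinj : Function.Injective ι := by
    rw [hι]
    intro f g hfg
    ext i
    have h0 := congrArg (PowerSeries.coeff i) hfg
    rw [PowerSeries.coeff_map, PowerSeries.coeff_map, eq_intCast, eq_intCast] at h0
    exact Int.cast_injective h0
  have hιC : ∀ z : ℤ, ι (PowerSeries.C z) = PowerSeries.C (z : ℚ) := by
    intro z
    rw [hι, PowerSeries.map_C, eq_intCast]
  obtain ⟨U, V, hUV⟩ := hPQ
  have hUV' : (U : PowerSeries ℚ) * P + (V : PowerSeries ℚ) * Q = 1 := by
    rw [← Polynomial.coe_mul, ← Polynomial.coe_mul, ← Polynomial.coe_add, hUV, Polynomial.coe_one]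
  obtain ⟨W, hW⟩ : ∃ W : PowerSeries ℚ, W = (U : PowerSeries ℚ) * ι Z + V := ⟨_, rfl⟩
  have hQW : (Q : PowerSeries ℚ) * W = 1 := by
    rw [hW, ← hUV', hZ, hι]
    ring
  obtain ⟨b₁, U₁, hb₁, hU₁⟩ := clear U
  obtain ⟨b₂, V₁, hb₂, hV₁⟩ := clear V
  obtain ⟨b, Q₁, hb, hQ₁⟩ := clear Q
  rw [← hι] at hU₁ hV₁ hQ₁
  obtain ⟨n, hn⟩ : ∃ n : ℤ, n = b₁ * b₂ := ⟨_, rfl⟩
  have hn0 : n ≠ 0 := by rw [hn]; exact mul_ne_zero hb₁ hb₂
  obtain ⟨Y, hY⟩ : ∃ Y : PowerSeries ℤ, ι Y = PowerSeries.C (n : ℚ) * W := by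
    refine ⟨PowerSeries.C b₂ * U₁ * Z + PowerSeries.C b₁ * V₁, ?_⟩
    rw [map_add, map_mul, map_mul, map_mul, hιC, hιC, hU₁, hV₁, hW, hn, Int.cast_mul, map_mul]
    ring
  have hprod : (Q₁ : PowerSeries ℤ) * Y = PowerSeries.C (b * n) := by
    apply hιinj
    rw [map_mul, hQ₁, hY, hιC, Int.cast_mul, map_mul]
    linear_combination (PowerSeries.C (b : ℚ) * PowerSeries.C (n : ℚ)) * hQW
  have hne : b * n ≠ 0 := mul_ne_zero hb hn0
  have hG := gaussG _ (Q₁ : PowerSeries ℤ) Y _ rfl hne hprod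
  have hQ₁0 : Q₁.coeff 0 = b := by
    have h1 := congrArg (PowerSeries.coeff 0) hQ₁
    rw [hι, PowerSeries.coeff_map, Polynomial.coeff_coe, PowerSeries.coeff_C_mul,
      Polynomial.coeff_coe, hQ, mul_one, eq_intCast] at h1
    exact Int.cast_injective h1
  have hG' : ∀ i, b ∣ Q₁.coeff i := by
    intro i
    have h0 := hG i
    rw [← PowerSeries.coeff_zero_eq_constantCoeff_apply, Polynomial.coeff_coe,
      Polynomial.coeff_coe, hQ₁0] at h0
    exact h0
  have hQint : ∀ i, Q.coeff i ∈ Set.range (Int.castRingHom ℚ) := by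
    intro i
    obtain ⟨z, hz⟩ := hG' i
    refine ⟨z, ?_⟩
    have h1 := congrArg (PowerSeries.coeff i) hQ₁
    rw [hι, PowerSeries.coeff_map, Polynomial.coeff_coe, PowerSeries.coeff_C_mul,
      Polynomial.coeff_coe, eq_intCast, hz, Int.cast_mul] at h1
    rw [eq_intCast]
    exact mul_left_cancel₀ (Int.cast_ne_zero.mpr hb) h1
  have hQl : Q ∈ Polynomial.lifts (Int.castRingHom ℚ) :=
    (Polynomial.lifts_iff_coeff_lifts Q).mpr hQint
  obtain ⟨Q₀, hQ₀⟩ := (Polynomial.mem_lifts Q).mp hQl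
  have hPint : ∀ i, P.coeff i ∈ Set.range (Int.castRingHom ℚ) := by
    intro i
    refine ⟨PowerSeries.coeff i ((Q₀ : PowerSeries ℤ) * Z), ?_⟩
    have h1 : ι ((Q₀ : PowerSeries ℤ) * Z) = (P : PowerSeries ℚ) := by
      rw [map_mul, hZ, hι]
      congr 1
      rw [← hQ₀]
      ext j
      rw [PowerSeries.coeff_map, Polynomial.coeff_coe, Polynomial.coeff_coe, Polynomial.coeff_map]
    have h2 := congrArg (PowerSeries.coeff i) h1
    rw [hι, PowerSeries.coeff_map, Polynomial.coeff_coe] at h2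
    exact h2
  have hPl : P ∈ Polynomial.lifts (Int.castRingHom ℚ) :=
    (Polynomial.lifts_iff_coeff_lifts P).mpr hPint
  exact ⟨(Polynomial.mem_lifts P).mp hPl, Q₀, hQ₀⟩


end Groth.Agent.S8630
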