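import Groth.Statements.S8650
import Groth.Agent.Lib.Helper18.LambdaOne

set_option autoImplicit false
universe u
open Finset
open LambdaRing

namespace Groth.Agent.S8650

/-- Let K be a pre-λ-ring (λ^0 = 1, λ^1 = id, additive formula) in which λ^k(1) = 0 for all k ≥ 2. Then
for every x ∈ K and every n, λ^n(x + n − 1) = (−1)^n Σ_{i=0}^{n} (−1)^i λ^i(x + n). (The published
statement is for a λ-ring; its proof uses only additivity and λ_t(1) = 1 + t, the hypotheses taken
here.) -/
theorem result (K : Type u) [CommRing K] [LambdaRing.LambdaOps K]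
    (h1 : ∀ k : ℕ, 2 ≤ k → LambdaRing.LambdaOps.lam k (1 : K) = 0) (n : ℕ) (x : K) :
    LambdaRing.LambdaOps.lam n (x + (n : K) - 1) =
      (-1 : K) ^ n * ∑ i ∈ range (n + 1), (-1 : K) ^ i * LambdaRing.LambdaOps.lam i (x + (n : K)) := by
  have hx : x + (n : K) - 1 = (x + (n : K)) - 1 := rfl
  rw [hx]
  generalize x + (n : K) = y
  have key : ∀ n : ℕ, ∑ i ∈ range (n + 1), (-1 : K) ^ i * LambdaRing.LambdaOps.lam i y =
      (-1 : K) ^ n * LambdaRing.LambdaOps.lam n (y - 1) := by
    intro n
    induction n with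
    | zero => simp [LambdaRing.LambdaOps.lam_zero]
    | succ n ih =>
      rw [Finset.sum_range_succ, ih, Lib.helper18.lam_succ_of_sub_one h1 y n]
      ring
  rw [key n, ← mul_assoc, ← mul_pow, neg_one_mul, neg_neg, one_pow, one_mul]

end Groth.Agent.S8650
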