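import Groth.Statements.S8655
import Groth.Agent.LibRegImmComp29
-- import your own Groth.Agent.* helpers here

set_option autoImplicit false
universe u
open CategoryTheory CategoryTheory.Limits AlgebraicGeometry
open RegImm

namespace Groth.Agent.S8655

/-- Let i : Y ⟶ X be a Koszul-regular immersion of constant codimension n and j : Z ⟶ Y a Koszul-regular
immersion of constant codimension m (around every point the ideal is generated by a Koszul-regular
sequence of that length). Then j ≫ i is a Koszul-regular immersion of constant codimension m + n. -/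
theorem result {X Y Z : Scheme.{u}} (n m : ℕ) (i : Y ⟶ X) (j : Z ⟶ Y)
    (hi : RegImm.IsRegularImmersionOfCodim .koszul n i) (hj : RegImm.IsRegularImmersionOfCodim .koszul m j) :
    RegImm.IsRegularImmersionOfCodim .koszul (m + n) (j ≫ i) := by
  obtain ⟨himm, hreg⟩ := hi
  obtain ⟨hjmm, hregj⟩ := hj
  refine ⟨inferInstance, fun z => ?_⟩
  obtain ⟨U₀, hxU, hclU, fs₀, hlf, hfs₀, hkerU⟩ := hreg (j z)
  obtain ⟨V₀, hyV, hclV, gs₀, hlg, hgs₀, hkerV⟩ := hregj z
  obtain ⟨W, h1, h2, rs, hl, h3, h4⟩ := Groth.Agent.LibRegImmComp29.comp_at i j z U₀ hxU hclU fs₀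
    hfs₀ hkerU V₀ hyV hclV gs₀ hgs₀ hkerV
  exact ⟨W, h1, h2, rs, by rw [hl, hlf, hlg], h3, h4⟩

end Groth.Agent.S8655
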