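import Groth.Statements.S8657
import Groth.Agent.LibRegImmSmoothDesc29
import Groth.Agent.LibSecRegApp29
import Groth.Agent.S8654
-- import your own Groth.Agent.* helpers here

set_option autoImplicit false
universe u
open CategoryTheory CategoryTheory.Limits AlgebraicGeometry
open Synt

namespace Groth.Agent.S8657

/-- Let i : X ⟶ V and j : X ⟶ V' be immersions and p : V' ⟶ V a smooth morphism with j ≫ p = i. Then i
is a Koszul-regular immersion if and only if j is. -/
theorem result {X V V' : Scheme.{u}} (i : X ⟶ V) [IsImmersion i] (j : X ⟶ V') [IsImmersion j]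
    (p : V' ⟶ V) [Smooth p] (h : j ≫ p = i) :
    RegImm.IsRegularImmersion .koszul i ↔ RegImm.IsRegularImmersion .koszul j := by
  constructor
  · intro hi
    have w : i ≫ 𝟙 V = j ≫ p := by rw [Category.comp_id, h]
    have hl := Groth.Agent.LibSecRegApp29.isRegularImmersion_koszul_lift i (𝟙 V) p j w hi
    have hs : RegImm.IsRegularImmersion .koszul (pullback.snd (𝟙 V) p) :=
      Groth.Agent.LibRegImmSmoothDesc29.isRegularImmersion_koszul_of_isIso _
    have := Groth.Agent.S8654.result (pullback.snd (𝟙 V) p) (pullback.lift i j w) hs hl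
    rwa [pullback.lift_snd] at this
  · intro hj
    exact Groth.Agent.LibRegImmSmoothDesc29.isRegularImmersion_koszul_of_comp_smooth j p i h hj

end Groth.Agent.S8657
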