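import Groth.Statements.S8663
import Groth.Agent.Lib.Helper3.PerfKos2
import Groth.Agent.S7172
import Groth.Agent.S1508

set_option autoImplicit false
universe u
open CategoryTheory CategoryTheory.Limits AlgebraicGeometry
open Synt

namespace Groth.Agent.S8663

/-- Let f : X ⟶ Y be a local complete intersection morphism in the factorisation sense (around each
point of X, f is locally of finite type and factors as a Koszul-regular immersion followed by a
smooth morphism). Then f is a perfect morphism: for all affine opens U ⊆ f⁻¹(V), the ring map O_Y(V)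
→ O_X(U) is pseudo-coherent and of finite tor-dimension. -/
theorem result {X Y : Scheme.{u}} (f : X ⟶ Y) (hf : ∀ x : X, Synt.IsKoszulAt f x) :
    MoreMor.IsPerfectMor f := by
  choose U P i π hxU hft hi hπ hfac using hf
  have hcov : iSup U = ⊤ := by
    rw [eq_top_iff]
    intro x _
    exact TopologicalSpace.Opens.mem_iSup.2 ⟨x, hxU x⟩
  have key := (IsZariskiLocalAtSource.iff_of_iSup_eq_top
    (P := Groth.Agent.Lib.helper3.PerfHomLoc.perfMor) (f := f) U hcov).2
  refine key (fun x => ?_)
  show MoreMor.IsPerfectMor ((U x).ι ≫ f)
  rw [← hfac x]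
  haveI := hπ x
  have h1 : MoreMor.IsPerfectMor (i x) :=
    Groth.Agent.Lib.helper3.PerfKos.isPerfectMor_of_forall_koszul _ (hi x).2
  have h2 : MoreMor.IsPerfectMor (π x) := Groth.Agent.S7172.result (π x)
  exact Groth.Agent.S1508.result (i x) (π x) h1 h2

end Groth.Agent.S8663
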