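import Groth.Statements.S8666
-- import your own Groth.Agent.* helpers here

set_option autoImplicit false
universe u
open CAlg

namespace Groth.Agent.S8666

section
variable (A : Type u) [CommRing A] (M : Type u) [AddCommGroup M] [Module A M] [Module.Invertible A M]

/-- a trivialization of the localization at a prime -/
noncomputable def triv (q : PrimeSpectrum A) :
    LocalizedModule q.asIdeal.primeCompl M ≃ₗ[Localization.AtPrime q.asIdeal]
      Localization.AtPrime q.asIdeal :=
  (Module.Invertible.free_iff_linearEquiv.mp inferInstance).some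

/-- the A-linear map `M → A_q`. -/
noncomputable def fq (q : PrimeSpectrum A) : M →ₗ[A] Localization.AtPrime q.asIdeal :=
  ((triv A M q).toLinearMap.restrictScalars A) ∘ₗ
    (LocalizedModule.mkLinearMap q.asIdeal.primeCompl M)

/-- The "bad" submodule: elements that do not generate at `q`. -/
noncomputable def N (q : PrimeSpectrum A) : Submodule A M :=
  Submodule.comap (fq A M q)
    ((IsLocalRing.maximalIdeal (Localization.AtPrime q.asIdeal)).restrictScalars A)

lemma mem_N (q : PrimeSpectrum A) (s : M) :
    s ∈ N A M q ↔ fq A M q s ∈ IsLocalRing.maximalIdeal (Localization.AtPrime q.asIdeal) :=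
  Iff.rfl

lemma smul_mem_N_iff (q : PrimeSpectrum A) (a : A) (s : M) :
    a • s ∈ N A M q ↔ a ∈ q.asIdeal ∨ s ∈ N A M q := by
  rw [mem_N, mem_N, map_smul, Algebra.smul_def,
    (Ideal.IsPrime.mul_mem_iff_mem_or_mem
      (I := IsLocalRing.maximalIdeal (Localization.AtPrime q.asIdeal)) inferInstance),
    IsLocalization.AtPrime.to_map_mem_maximal_iff (Localization.AtPrime q.asIdeal) q.asIdeal]

lemma exists_not_mem_N (q : PrimeSpectrum A) : ∃ m : M, m ∉ N A M q := by
  obtain ⟨m, t, h⟩ : ∃ (m : M) (t : q.asIdeal.primeCompl),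
      LocalizedModule.mk m t = (triv A M q).symm 1 := by
    refine LocalizedModule.induction_on (β := fun x => ∃ (m : M) (t : q.asIdeal.primeCompl),
      LocalizedModule.mk m t = x) (fun m t => ⟨m, t, rfl⟩) _
  refine ⟨m, ?_⟩
  rw [mem_N]
  have h1 : (LocalizedModule.mkLinearMap q.asIdeal.primeCompl M) m =
      (t : A) • (LocalizedModule.mk m t) := by
    rw [LocalizedModule.mkLinearMap_apply, LocalizedModule.smul'_mk, LocalizedModule.mk_eq]
    exact ⟨1, by simp [Submonoid.smul_def]⟩
  have h2 : fq A M q m = algebraMap A _ (t : A) := by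
    simp only [fq, LinearMap.coe_comp, Function.comp_apply, LinearMap.coe_restrictScalars,
      LinearEquiv.coe_coe]
    rw [h1, h]
    rw [← algebraMap_smul (Localization.AtPrime q.asIdeal) (t : A), map_smul]
    simp
  rw [h2]
  intro hmem
  exact (IsLocalization.AtPrime.to_map_mem_maximal_iff (Localization.AtPrime q.asIdeal)
    q.asIdeal (t : A)).mp hmem |> t.2

lemma span_eq_top_of_not_mem_N (q : PrimeSpectrum A) (s : M) (hs : s ∉ N A M q) :
    Submodule.span (Localization.AtPrime q.asIdeal)
      {LocalizedModule.mkLinearMap q.asIdeal.primeCompl M s} = ⊤ := by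
  rw [mem_N] at hs
  have hu : IsUnit (fq A M q s) := by
    by_contra h
    exact hs ((IsLocalRing.mem_maximalIdeal _).mpr h)
  obtain ⟨u, hu⟩ := hu
  rw [eq_top_iff]
  intro x _
  rw [Submodule.mem_span_singleton]
  refine ⟨triv A M q x * ↑u⁻¹, ?_⟩
  apply (triv A M q).injective
  rw [map_smul]
  have : triv A M q (LocalizedModule.mkLinearMap q.asIdeal.primeCompl M s) = u := by
    rw [hu]; rfl
  rw [this, smul_eq_mul, mul_assoc, Units.inv_mul, mul_one]

lemma avoid (t : Finset (PrimeSpectrum A)) : ∃ s : M, ∀ q ∈ t, s ∉ N A M q := by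
  classical
  induction h : t.card using Nat.strong_induction_on generalizing t with
  | _ n ih => ?_
  rcases t.eq_empty_or_nonempty with rfl | hne
  · exact ⟨0, by simp⟩
  obtain ⟨q, hq, hqmin⟩ := t.exists_minimal hne
  obtain ⟨s, hs⟩ := ih (t.erase q).card (by rw [← h]; exact Finset.card_erase_lt_of_mem hq)
    (t.erase q) rfl
  by_cases hsq : s ∉ N A M q
  · refine ⟨s, fun q' hq' => ?_⟩
    by_cases e : q' = q
    · rw [e]; exact hsq
    · exact hs q' (Finset.mem_erase.mpr ⟨e, hq'⟩)
  rw [not_not] at hsq
  -- elements a_{q'} ∈ q' \ q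
  have hex : ∀ q' ∈ t.erase q, ∃ a : A, a ∈ q'.asIdeal ∧ a ∉ q.asIdeal := by
    intro q' hq'
    obtain ⟨hne', hq't⟩ := Finset.mem_erase.mp hq'
    by_contra hcon
    push Not at hcon
    have hle : q' ≤ q := fun a ha => hcon a ha
    exact hne' (le_antisymm hle (hqmin hq't hle))
  choose! a ha using hex
  obtain ⟨m, hm⟩ := exists_not_mem_N A M q
  set b : A := ∏ q' ∈ t.erase q, a q' with hb
  have hbq : b ∉ q.asIdeal := by
    rw [hb]
    intro hmem
    obtain ⟨q', hq', hq'mem⟩ := (Ideal.IsPrime.prod_mem_iff (hp := q.isPrime)).mp hmem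
    exact (ha q' hq').2 hq'mem
  have hbq' : ∀ q' ∈ t.erase q, b ∈ q'.asIdeal := by
    intro q' hq'
    rw [hb]
    exact Ideal.prod_mem (f := a) q'.asIdeal hq' (ha q' hq').1
  refine ⟨s + b • m, fun q' hq' => ?_⟩
  by_cases e : q' = q
  · rw [e]
    intro hmem
    have : b • m ∈ N A M q := by
      have := (N A M q).sub_mem hmem hsq
      simpa using this
    rcases (smul_mem_N_iff A M q b m).mp this with h1 | h1
    · exact hbq h1
    · exact hm h1
  · have hq'e : q' ∈ t.erase q := Finset.mem_erase.mpr ⟨e, hq'⟩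
    intro hmem
    have h1 : b • m ∈ N A M q' := (smul_mem_N_iff A M q' b m).mpr (Or.inl (hbq' q' hq'e))
    have := (N A M q').sub_mem hmem h1
    rw [add_sub_cancel_right] at this
    exact hs q' hq'e this

end


/-- Let A be a Noetherian ring, M an invertible A-module and p_1, …, p_k finitely many primes of A
(points of Spec A). Then there is a single element s ∈ M whose image generates M_{p_i} as an
A_{p_i}-module for every i, i.e. s is a basis of the stalk of M at each of the given points. -/
theorem result (A : Type u) [CommRing A] [IsNoetherianRing A]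
    (M : Type u) [AddCommGroup M] [Module A M] [Module.Invertible A M] (ι : Type) [Finite ι] (p : ι → PrimeSpectrum A) :
    ∃ s : M, ∀ i : ι, Submodule.span (Localization.AtPrime (p i).asIdeal)
      {LocalizedModule.mkLinearMap (p i).asIdeal.primeCompl M s} = ⊤ := by
  classical
  haveI := Fintype.ofFinite ι
  obtain ⟨s, hs⟩ := avoid A M (Finset.univ.image p)
  exact ⟨s, fun i => span_eq_top_of_not_mem_N A M (p i) s
    (hs _ (Finset.mem_image_of_mem _ (Finset.mem_univ i)))⟩

end Groth.Agent.S8666
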