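import Groth.Statements.S8678
import Mathlib

set_option autoImplicit false
universe u
open Finset
open LambdaRing

namespace Groth.Agent.S8678

section
variable {K : Type u} [CommRing K] [LambdaRing.LambdaOps K]

theorem lamSeries_add (x y : K) :
    LambdaRing.lamSeries (x + y) = LambdaRing.lamSeries x * LambdaRing.lamSeries y := by
  ext k
  rw [LambdaRing.lamSeries, PowerSeries.coeff_mk, LambdaRing.LambdaOps.lam_add, PowerSeries.coeff_mul,
    Finset.Nat.sum_antidiagonal_eq_sum_range_succ_mk]
  simp [LambdaRing.lamSeries, PowerSeries.coeff_mk]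

theorem lamSeries_of_line (L : K) (hL : ∀ j : ℕ, 2 ≤ j → LambdaRing.LambdaOps.lam j L = 0) :
    LambdaRing.lamSeries L = 1 + PowerSeries.C L * PowerSeries.X := by
  ext n
  rw [LambdaRing.lamSeries, PowerSeries.coeff_mk]
  rcases n with _ | _ | n
  · simp [LambdaRing.LambdaOps.lam_zero]
  · simp [LambdaRing.LambdaOps.lam_one, PowerSeries.coeff_one]
  · rw [hL (n + 2) (by omega)]
    simp [PowerSeries.coeff_one, PowerSeries.coeff_C_mul, PowerSeries.coeff_X]

end

/-- As the identity it proves in the pre-λ-ring K(Y') of the exceptional divisor: let K be a pre-λ-ring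
(λ^0 = 1, λ^1 = id, additive formula) with λ^k(1) = 0 for all k ≥ 2, let d ≥ 2, and let F, L, N' ∈ K
satisfy λ^j(L) = 0 for j ≥ 2 (L is the class of an invertible module), λ^i(N') = 0 for i ≥ d − 1 (N'
is the class of a bundle of rank d − 2) and F + L = N' + 2 (for the blowing up of a regular
immersion of codimension d: on the exceptional divisor the pulled-back conormal class is F + L, and
N = N' + 2). Then 1 − L divides λ_{−1}(F) = Σ_{i<d} (−1)^i λ^i(F). (The published proof uses only
additivity of λ_t and λ_t(1) = 1 + t, the hypotheses taken here.) -/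
theorem result (K : Type u) [CommRing K] [LambdaRing.LambdaOps K]
    (h1 : ∀ k : ℕ, 2 ≤ k → LambdaRing.LambdaOps.lam k (1 : K) = 0) (d : ℕ) (hd : 2 ≤ d) (F L N' : K)
    (hL : ∀ j : ℕ, 2 ≤ j → LambdaRing.LambdaOps.lam j L = 0) (hN' : ∀ i : ℕ, d - 1 ≤ i → LambdaRing.LambdaOps.lam i N' = 0)
    (hrel : F + L = N' + 2) :
    (1 - L) ∣ ∑ i ∈ range d, (-1 : K) ^ i * LambdaRing.LambdaOps.lam i F := by
  rw [← Ideal.mem_span_singleton, ← Ideal.Quotient.eq_zero_iff_mem]
  set I : Ideal K := Ideal.span {1 - L} with hI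
  set π : K →+* K ⧸ I := Ideal.Quotient.mk I with hπ
  have hπL : π L = 1 := by
    have : π (1 - L) = 0 := Ideal.Quotient.eq_zero_iff_mem.mpr (Ideal.subset_span rfl)
    rw [map_sub, map_one, sub_eq_zero] at this
    exact this.symm
  -- the power series identity in K[[X]]
  have hone : LambdaRing.lamSeries (1 : K) = 1 + PowerSeries.C (1 : K) * PowerSeries.X :=
    lamSeries_of_line 1 h1
  have hser : LambdaRing.lamSeries F * (1 + PowerSeries.C L * PowerSeries.X) =
      LambdaRing.lamSeries N' * ((1 + PowerSeries.X) * (1 + PowerSeries.X)) := by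
    rw [← lamSeries_of_line L hL, ← lamSeries_add, hrel, ← one_add_one_eq_two, lamSeries_add,
      lamSeries_add, hone]
    simp
  -- map to the quotient
  set A : PowerSeries (K ⧸ I) := PowerSeries.map π (LambdaRing.lamSeries F) with hA
  set B : PowerSeries (K ⧸ I) := PowerSeries.map π (LambdaRing.lamSeries N') with hB
  have hAB : A * (1 + PowerSeries.X) = B * (1 + PowerSeries.X) * (1 + PowerSeries.X) := by
    have := congrArg (PowerSeries.map π) hser
    simp only [map_mul, map_add, map_one, PowerSeries.map_C, PowerSeries.map_X, hπL] at this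
    rw [← hA, ← hB] at this
    rw [mul_assoc]
    simpa using this
  have hunit : IsUnit (1 + PowerSeries.X : PowerSeries (K ⧸ I)) := by
    rw [PowerSeries.isUnit_iff_constantCoeff]
    simp
  have hAB' : A = B * (1 + PowerSeries.X) := hunit.mul_left_injective hAB
  -- coefficients
  have hAcoeff : ∀ i, PowerSeries.coeff i A = π (LambdaRing.LambdaOps.lam i F) := by
    intro i
    rw [hA, PowerSeries.coeff_map, LambdaRing.lamSeries, PowerSeries.coeff_mk]
  have hBcoeff : ∀ i, PowerSeries.coeff i B = π (LambdaRing.LambdaOps.lam i N') := by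
    intro i
    rw [hB, PowerSeries.coeff_map, LambdaRing.lamSeries, PowerSeries.coeff_mk]
  have hB0 : ∀ i, d - 1 ≤ i → PowerSeries.coeff i B = 0 := by
    intro i hi
    rw [hBcoeff, hN' i hi, map_zero]
  have hc0 : π (LambdaRing.LambdaOps.lam 0 F) = PowerSeries.coeff 0 B := by
    rw [← hAcoeff, hAB', mul_add, mul_one, map_add]
    simp
  have hcs : ∀ i, π (LambdaRing.LambdaOps.lam (i + 1) F) =
      PowerSeries.coeff (i + 1) B + PowerSeries.coeff i B := by
    intro i
    rw [← hAcoeff, hAB', mul_add, mul_one, map_add, PowerSeries.coeff_succ_mul_X]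
  obtain ⟨e, rfl⟩ : ∃ e, d = e + 1 := ⟨d - 1, by omega⟩
  simp only [map_sum, map_mul, map_pow, map_neg, map_one]
  rw [Finset.sum_range_succ']
  simp only [hcs, hc0, mul_add, Finset.sum_add_distrib]
  have e1 : ∑ i ∈ range e, (-1 : K ⧸ I) ^ (i + 1) * PowerSeries.coeff (i + 1) B =
      ∑ i ∈ range (e + 1), (-1 : K ⧸ I) ^ i * PowerSeries.coeff i B - PowerSeries.coeff 0 B := by
    rw [Finset.sum_range_succ' (fun i => (-1 : K ⧸ I) ^ i * PowerSeries.coeff i B)]
    simp
  have e2 : ∑ i ∈ range e, (-1 : K ⧸ I) ^ (i + 1) * PowerSeries.coeff i B =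
      - ∑ i ∈ range e, (-1 : K ⧸ I) ^ i * PowerSeries.coeff i B := by
    rw [← Finset.sum_neg_distrib]
    refine Finset.sum_congr rfl fun i _ => ?_
    ring
  rw [e1, e2, Finset.sum_range_succ, hB0 e (by omega)]
  ring

end Groth.Agent.S8678
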