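import Groth.Statements.S8686
import Mathlib

set_option autoImplicit false
universe u
open LambdaRing

namespace Groth.Agent.S8686

/-- Let K be a pre-λ-ring with λ^n(1) = 0 for all n ≥ 2, i.e. λ_t(1) = 1 + t. Then the Adams operations,
defined for k ≥ 1 through (d/dt λ_t(x)) · λ_t(x)⁻¹ = Σ_{k ≥ 1} (−1)^{k−1} ψ^k(x) t^{k−1}, satisfy
ψ^k(1) = 1 for every k ≥ 1. (The published statement is for a λ-ring in the strict sense; this
identity uses only λ_t(1) = 1 + t, the hypothesis taken here.) -/
theorem result (K : Type u) [CommRing K] [LambdaRing.LambdaOps K]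
    (h1 : ∀ n : ℕ, 2 ≤ n → LambdaRing.LambdaOps.lam n (1 : K) = 0) (k : ℕ) (hk : 1 ≤ k) :
    LambdaRing.adamsOp k (1 : K) = 1 := by
  obtain ⟨m, rfl⟩ : ∃ m, k = m + 1 := ⟨k - 1, by omega⟩
  -- λ_t(1) = 1 + t
  have hlam : LambdaRing.lamSeries (1 : K) = 1 + PowerSeries.X := by
    ext n
    rw [LambdaRing.lamSeries, PowerSeries.coeff_mk]
    rcases n with _ | _ | n
    · simp [LambdaRing.LambdaOps.lam_zero]
    · simp [LambdaRing.LambdaOps.lam_one, PowerSeries.coeff_one, PowerSeries.coeff_X]
    · rw [h1 (n + 2) (by omega)]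
      simp [PowerSeries.coeff_one, PowerSeries.coeff_X]
  -- the inverse of 1 + t
  have hinv : (1 + PowerSeries.X : PowerSeries K).invOfUnit 1 =
      PowerSeries.mk fun n => (-1 : K) ^ n := by
    have hmul : (1 + PowerSeries.X : PowerSeries K) * (PowerSeries.mk fun n => (-1 : K) ^ n) = 1 := by
      ext n
      rw [add_mul, one_mul, map_add]
      rcases n with _ | n
      · simp
      · rw [PowerSeries.coeff_succ_X_mul, PowerSeries.coeff_mk, PowerSeries.coeff_mk,
          PowerSeries.coeff_one]
        simp [pow_succ]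
    have h2 := PowerSeries.invOfUnit_mul (1 + PowerSeries.X : PowerSeries K) 1 (by simp)
    calc (1 + PowerSeries.X : PowerSeries K).invOfUnit 1
        = (1 + PowerSeries.X : PowerSeries K).invOfUnit 1 *
            ((1 + PowerSeries.X : PowerSeries K) * (PowerSeries.mk fun n => (-1 : K) ^ n)) := by
          rw [hmul, mul_one]
      _ = PowerSeries.mk fun n => (-1 : K) ^ n := by rw [← mul_assoc, h2, one_mul]
  change (-1 : K) ^ m * PowerSeries.coeff m (LambdaRing.logDerivSeries (1 : K)) = 1
  rw [LambdaRing.logDerivSeries, hlam, hinv]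
  simp only [map_add, PowerSeries.derivative_X]
  have : (PowerSeries.derivative K) (1 : PowerSeries K) = 0 := by
    rw [← map_one (PowerSeries.C (R := K)), PowerSeries.derivative_C]
  rw [this, zero_add, one_mul, PowerSeries.coeff_mk, ← mul_pow]
  simp

end Groth.Agent.S8686
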