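import Groth.Statements.S8691
import Groth.Agent.Lib.Helper3.LamAltDiv

set_option autoImplicit false
universe u
open Finset
open LambdaRing

namespace Groth.Agent.S8691

open Groth.Agent.Lib.helper3.GammaFil Groth.Agent.Lib.helper3.GammaLib
open Groth.Agent.Lib.helper3.UnivGamma

theorem natDegree_aux {K : Type*} [CommRing K] (a : ℕ → K) (d : ℕ) :
    (∑ i ∈ range (d + 1), Polynomial.C (a i) *
      (Polynomial.X ^ i * (1 - Polynomial.X) ^ (d - i)) : Polynomial K).natDegree ≤ d := by
  have hdeg1 : (1 - Polynomial.X : Polynomial K).natDegree ≤ 1 := by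
    refine (Polynomial.natDegree_sub_le _ _).trans ?_
    rw [Polynomial.natDegree_one]
    exact max_le (Nat.zero_le _) Polynomial.natDegree_X_le
  refine Polynomial.natDegree_sum_le_of_forall_le _ _ fun i hi => ?_
  have hi' := Finset.mem_range.mp hi
  refine (Polynomial.natDegree_C_mul_le _ _).trans ?_
  refine (Polynomial.natDegree_mul_le).trans ?_
  have h1 := Polynomial.natDegree_X_pow_le (R := K) i
  have h2 : ((1 - Polynomial.X : Polynomial K) ^ (d - i)).natDegree ≤ d - i := by
    refine (Polynomial.natDegree_pow_le).trans ?_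
    calc (d - i) * (1 - Polynomial.X : Polynomial K).natDegree ≤ (d - i) * 1 :=
          Nat.mul_le_mul_left _ hdeg1
      _ = d - i := mul_one _
  omega

theorem gamma_hi {K : Type*} [CommRing K] [LambdaRing.LambdaOps K]
    (h1 : ∀ k : ℕ, 2 ≤ k → LambdaRing.LambdaOps.lam k (1 : K) = 0) (N : K) (d : ℕ)
    (hN : ∀ i : ℕ, d < i → LambdaRing.LambdaOps.lam i N = 0) (k : ℕ) (hk : d < k) :
    LambdaRing.gamma k (N - (d : K)) = 0 := by
  rw [gamma_sub_natCast_eq_coeff h1 N d hN k]
  exact Polynomial.coeff_eq_zero_of_natDegree_lt (lt_of_le_of_lt (natDegree_aux _ d) hk)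

theorem gamma_top {K : Type*} [CommRing K] [LambdaRing.LambdaOps K]
    (h1 : ∀ k : ℕ, 2 ≤ k → LambdaRing.LambdaOps.lam k (1 : K) = 0) (N : K) (d : ℕ)
    (hN : ∀ i : ℕ, d < i → LambdaRing.LambdaOps.lam i N = 0) :
    LambdaRing.gamma d (N - (d : K)) =
      (-1) ^ d * ∑ i ∈ range (d + 1), (-1 : K) ^ i * LambdaRing.LambdaOps.lam i N := by
  have h := congrArg (Polynomial.eval (0 : K)) (gamma_sub_natCast_identity h1 N d hN)
  simp only [Polynomial.eval_finsetSum, Polynomial.eval_mul, Polynomial.eval_C, Polynomial.eval_pow,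
    Polynomial.eval_X, Polynomial.eval_sub, Polynomial.eval_one, zero_sub] at h
  rw [Finset.sum_eq_single d] at h
  · rw [Nat.sub_self, pow_zero, mul_one] at h
    rw [h, Finset.mul_sum]
    refine Finset.sum_congr rfl fun i hi => ?_
    have hi' := Finset.mem_range.mp hi
    have e : (-1 : K) ^ (d - i) = (-1) ^ d * (-1) ^ i := by
      rw [← pow_add]
      have : d + i = (d - i) + 2 * i := by omega
      rw [this, pow_add, pow_mul]; simp
    rw [e]; ring
  · intro b hb hbd
    have hb' := Finset.mem_range.mp hb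
    rw [zero_pow (by omega), mul_zero]
  · intro h'
    exact absurd (Finset.mem_range.mpr (Nat.lt_succ_self d)) h'

/-- Let K be a λ-ring in the strict sense, d a natural number and N ∈ K with λ^i(N) = 0 for every i > d;
put λ_{−1}(N) = Σ_{i=0}^{d} (−1)^i λ^i(N). Then for every p ≥ 1 and every x ∈ K the element λ^p(x ·
λ_{−1}(N)) is divisible by λ_{−1}(N). (The published statement is for the λ-ring generated over the
integers by N and x subject to λ^i(N) = 0 for i > d, a polynomial ring; the divisibility passes to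
any λ-ring along the λ-homomorphism sending the generators to N and x, which is the substituted form
stated here.) The hypotheses hP and hQ, existence of the universal polynomials, are true statements
carried so that the identities of K can be used at every index. -/
theorem result (K : Type u) [CommRing K] [LambdaRing.LambdaOps K]
    (hK : LambdaRing.IsSpecial K)
    (hP : ∀ n : ℕ, ∃ P : MvPolynomial (Fin n ⊕ Fin n) ℤ, LambdaRing.IsMulPoly n P)
    (hQ : ∀ i j : ℕ, ∃ Q : MvPolynomial (Fin (i * j)) ℤ, LambdaRing.IsCompPoly i j Q)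
    (d : ℕ) (N : K) (hN : ∀ i : ℕ, d < i → LambdaRing.LambdaOps.lam i N = 0)
    (p : ℕ) (hp : 1 ≤ p) (x : K) :
    (∑ i ∈ range (d + 1), (-1 : K) ^ i * LambdaRing.LambdaOps.lam i N) ∣
      LambdaRing.LambdaOps.lam p (x * ∑ i ∈ range (d + 1), (-1 : K) ^ i * LambdaRing.LambdaOps.lam i N) := by
  set e := ∑ i ∈ range (d + 1), (-1 : K) ^ i * LambdaRing.LambdaOps.lam i N with he
  rcases Nat.eq_zero_or_pos d with rfl | hd
  · have : e = 1 := by simp [he, LambdaRing.LambdaOps.lam_zero]
    rw [this]; exact one_dvd _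
  set z := N - (d : K) with hz
  have hzhi : ∀ k : ℕ, d < k → LambdaRing.gamma k z = 0 :=
    fun k hk => gamma_hi hK.lam_one_eq_zero N d hN k hk
  have hztop : LambdaRing.gamma d z = (-1) ^ d * e := gamma_top hK.lam_one_eq_zero N d hN
  set J := Ideal.span {e} with hJ
  have hwJ : LambdaRing.gamma d z ∈ J := by
    rw [hztop]; exact Ideal.mul_mem_left _ _ (Ideal.subset_span rfl)
  have h1 : GOK (Vc J) (LambdaRing.gamma d z) := gok_Vc_gamma_top hK d hd z hzhi J hwJ
  have h2 : GOK (Vc J) e := by
    have h : e = (-1) ^ d * LambdaRing.gamma d z := by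
      rw [hztop, ← mul_assoc, ← mul_pow]; simp
    rcases neg_one_pow_eq_or K d with h' | h'
    · rw [h, h', one_mul]; exact h1
    · rw [h, h', neg_one_mul]; exact h1.neg (isMulFil_Vc J)
  have h3 := gok_Vc_mul_left hK J h2 x
  have h4 := lam_mem_of_gok_Vc J h3 p hp
  exact Ideal.mem_span_singleton.mp h4

end Groth.Agent.S8691
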