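import Groth.Statements.S8695
import Groth.Agent.Lib.Helper3.LamAltLead
import Groth.Agent.S8691

set_option autoImplicit false
universe u v
open Finset nonZeroDivisors
open LambdaRing

namespace Groth.Agent.S8695

open Groth.Agent.Lib.helper3.GammaFil Groth.Agent.Lib.helper3.GammaLib
open Groth.Agent.Lib.helper3.UnivGamma

/-- In the case where λ_{−1}(N) is a non-zero-divisor: let K be a binomial ring with its binomial
λ-structure, A a λ-ring in the strict sense which is an augmented K-λ-algebra with augmentation ε,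
and Fil^n A the γ-filtration (the ideal generated by products of γ^{i}(z) with ε(z) = 0 of total
weight ≥ n; all of A for n = 0). Let d ≥ 1 and N ∈ A be of rank d, that is λ^k(N) = 0 for all k > d
and ε(N) = d; put λ_{−1}(N) = Σ_{i ≤ d} (−1)^i λ^i(N), and suppose λ_{−1}(N) is a non-zero-divisor.
Then for p ≥ 1 and x ∈ A, the unique y with y · λ_{−1}(N) = γ^p(x · λ_{−1}(N)) — when it exists —
lies in Fil^{p−d} A. (The published statement is γ^p(N, x) ∈ Fil^{p−d} A for the element γ^p(N, x)
defined by substitution from the universal λ-ring, where it is characterised by γ^p(N, x) ·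
λ_{−1}(N) = γ^p(x · λ_{−1}(N)); this row covers the case in which that identity determines the
element, λ_{−1}(N) being a non-zero-divisor. The published statement also omits the condition ε(N) =
d, which its proof uses when it maps the universal generator to N − d compatibly with the
augmentations; without it N = 0, d = 1, x = 1, p = 2 in the integers gives γ^2(1) = 1 outside Fil^1
= 0, so ε(N) = d is assumed here, as is the standing assumption d ≥ 1.) The hypotheses hP and hQ,
existence of the universal polynomials, are true statements carried so that the identities of A can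
be used at every index. -/
theorem result
    (K : Type u) [CommRing K] [LambdaRing.LambdaOps K] [BinomialRing K] (hKb : LambdaRing.IsBinomial K)
    (hK : LambdaRing.IsSpecial K)
    (A : Type v) [CommRing A] [LambdaRing.LambdaOps A] [Algebra K A] (hA : LambdaRing.IsSpecial A)
    (hP : ∀ n : ℕ, ∃ P : MvPolynomial (Fin n ⊕ Fin n) ℤ, LambdaRing.IsMulPoly n P)
    (hQ : ∀ i j : ℕ, ∃ Q : MvPolynomial (Fin (i * j)) ℤ, LambdaRing.IsCompPoly i j Q)
    (ε : A →ₐ[K] K) (hε : LambdaRing.IsAugLambdaAlg K A ε)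
    (d : ℕ) (hd : 1 ≤ d) (N : A) (hN : ∀ k : ℕ, d < k → LambdaRing.LambdaOps.lam k N = 0) (hNε : ε N = (d : K))
    (hnzd : (∑ j ∈ range (d + 1), (-1 : A) ^ j * LambdaRing.LambdaOps.lam j N) ∈ A⁰)
    (p : ℕ) (hp : 1 ≤ p) (x y : A)
    (hy : y * (∑ j ∈ range (d + 1), (-1 : A) ^ j * LambdaRing.LambdaOps.lam j N) = LambdaRing.gamma p (x * (∑ j ∈ range (d + 1), (-1 : A) ^ j * LambdaRing.LambdaOps.lam j N))) :
    y ∈ LambdaRing.gammaFil (ε : A →+* K) (p - d) := by
  obtain ⟨n', rfl⟩ := Nat.exists_eq_add_of_le' hd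
  set e := ∑ j ∈ range (n' + 1 + 1), (-1 : A) ^ j * LambdaRing.LambdaOps.lam j N with he
  set z := N - ((n' + 1 : ℕ) : A) with hz
  have hεz : ε z = 0 := by rw [hz, map_sub, hNε, map_natCast, sub_self]
  have hzhi : ∀ k : ℕ, n' + 1 < k → LambdaRing.gamma k z = 0 :=
    fun k hk => Groth.Agent.S8691.gamma_hi hA.lam_one_eq_zero N (n' + 1) hN k hk
  have hztop : LambdaRing.gamma (n' + 1) z = (-1) ^ (n' + 1) * e :=
    Groth.Agent.S8691.gamma_top hA.lam_one_eq_zero N (n' + 1) hN
  have h1 := gamma_mul_top_mem hKb hA ε hε n' z hεz hzhi ((-1) ^ (n' + 1) * x) p hp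
  have hsq : ((-1 : A) ^ (n' + 1)) * ((-1 : A) ^ (n' + 1)) = 1 := by
    rw [← mul_pow]; simp
  have hxe : ((-1) ^ (n' + 1) * x) * LambdaRing.gamma (n' + 1) z = x * e := by
    rw [hztop]
    calc ((-1 : A) ^ (n' + 1) * x) * ((-1) ^ (n' + 1) * e)
        = (((-1 : A) ^ (n' + 1)) * ((-1 : A) ^ (n' + 1))) * (x * e) := by ring
      _ = x * e := by rw [hsq, one_mul]
  rw [hxe, ← hy, Ideal.mem_span_singleton_mul] at h1
  obtain ⟨f, hf, hwf⟩ := h1
  rw [hztop] at hwf
  have h2 : (y - (-1) ^ (n' + 1) * f) * e = 0 := by linear_combination -hwf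
  have hy' : y = (-1) ^ (n' + 1) * f :=
    sub_eq_zero.mp ((mul_right_mem_nonZeroDivisors_eq_zero_iff hnzd).mp h2)
  rw [hy']
  exact Ideal.mul_mem_left _ _ hf

end Groth.Agent.S8695
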