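import Groth.Statements.S8697
import Groth.Agent.Lib.Helper3.ScalarGamma
import Groth.Agent.Lib.Helper3.GammaFilLib

set_option autoImplicit false
universe u v
open Finset
open LambdaRing

namespace Groth.Agent.S8697

open Groth.Agent.Lib.helper3.GammaFil Groth.Agent.Lib.helper3.GammaLib
open Groth.Agent.Lib.helper3.UnivGamma Groth.Agent.Lib.helper3.ScalarLam

/-- Let K be a binomial ring with its binomial λ-structure and B a λ-ring in the strict sense which is
an augmented K-λ-algebra with augmentation ε. Let x ∈ B satisfy ε(x) = 0 and γ^k(x) = 0 for every k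
> n, and assume that γ^1(x), …, γ^n(x) are algebraically independent over K and generate B as a
K-algebra — so B is the K-λ-algebra generated by one element subject to the relations γ^k = 0 for k
> n, a polynomial ring K[γ^1 x, …, γ^n x]. Then for every k, the k-th ideal Fil^k B of the
γ-filtration (generated by the products of γ^{i}(z), ε(z) = 0, of total weight ≥ k) is the ideal
generated by the monomials ∏_j (γ^j x)^{e_j} with Σ_j j·e_j ≥ k: the λ-ring filtration is the
filtration by the weight in the γ^j x. (With λ in place of γ — relations λ^k x = 0 for k > n and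
weights in the λ^j x — the assertion fails already for n = 1, where γ^i(x) = x for all i ≥ 1 puts x
in every Fil^k while x is not in the ideal (x²); the form with γ stated here is the one the proof
establishes.) The hypotheses hP and hQ, existence of the universal polynomials, are true statements
carried so that the identities of B can be used at every index. -/
theorem result
    (K : Type u) [CommRing K] [LambdaRing.LambdaOps K] [BinomialRing K] (hKb : LambdaRing.IsBinomial K)
    (hK : LambdaRing.IsSpecial K)
    (B : Type v) [CommRing B] [LambdaRing.LambdaOps B] [Algebra K B] (hB : LambdaRing.IsSpecial B)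
    (hP : ∀ n : ℕ, ∃ P : MvPolynomial (Fin n ⊕ Fin n) ℤ, LambdaRing.IsMulPoly n P)
    (hQ : ∀ i j : ℕ, ∃ Q : MvPolynomial (Fin (i * j)) ℤ, LambdaRing.IsCompPoly i j Q)
    (ε : B →ₐ[K] K) (hε : LambdaRing.IsAugLambdaAlg K B ε)
    (n : ℕ) (x : B) (hx : ε x = 0) (hγ : ∀ k : ℕ, n < k → LambdaRing.gamma k x = 0)
    (hind : AlgebraicIndependent K (fun j : Fin n => LambdaRing.gamma ((j : ℕ) + 1) x))
    (hgen : Algebra.adjoin K (Set.range fun j : Fin n => LambdaRing.gamma ((j : ℕ) + 1) x) = ⊤)
    (k : ℕ) :
    LambdaRing.gammaFil (ε : B →+* K) k =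
      Ideal.span {m : B | ∃ e : Fin n → ℕ, k ≤ ∑ j : Fin n, ((j : ℕ) + 1) * e j ∧
        m = ∏ j : Fin n, LambdaRing.gamma ((j : ℕ) + 1) x ^ e j} := by
  classical
  set g : Fin n → B := fun j => LambdaRing.gamma ((j : ℕ) + 1) x with hg
  set V : ℕ → Ideal B := fun k => Ideal.span {m : B | ∃ e : Fin n → ℕ,
    k ≤ ∑ j : Fin n, ((j : ℕ) + 1) * e j ∧ m = ∏ j : Fin n, g j ^ e j} with hVdef
  have hV : IsMulFil V := by
    refine ⟨?_, ?_, ?_⟩
    · rw [Ideal.eq_top_iff_one]
      exact Ideal.subset_span ⟨fun _ => 0, Nat.zero_le _, by simp⟩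
    · intro i j a b ha hb
      have h1 : a * b ∈ V i * V j := Ideal.mul_mem_mul ha hb
      rw [hVdef] at h1
      simp only [Ideal.span_mul_span] at h1
      refine Ideal.span_mono ?_ h1
      rintro z ⟨a, ⟨e₁, he₁, rfl⟩, b, ⟨e₂, he₂, rfl⟩, rfl⟩
      refine ⟨e₁ + e₂, ?_, ?_⟩
      · simp only [Pi.add_apply, mul_add, Finset.sum_add_distrib]
        exact Nat.add_le_add he₁ he₂
      · simp only [Pi.add_apply, pow_add, Finset.prod_mul_distrib]
    · intro i j hij
      apply Ideal.span_mono
      rintro y ⟨e, he, rfl⟩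
      exact ⟨e, hij.trans he, rfl⟩
  have hεlam : ∀ (i : ℕ) (a : B), (ε : B →+* K) (LambdaOps.lam i a) = LambdaOps.lam i ((ε : B →+* K) a) :=
    fun i a => hε.map_lam i a
  -- the generator x
  have hxV : GOK V x := by
    intro l
    rcases Nat.eq_zero_or_pos l with rfl | hl
    · rw [gamma_zero_left]; exact hV.one_mem
    · by_cases hln : n < l
      · rw [hγ l hln]; exact (V l).zero_mem
      · have hl' : l - 1 < n := by omega
        refine Ideal.subset_span ⟨Pi.single ⟨l - 1, hl'⟩ 1, ?_, ?_⟩
        · rw [Finset.sum_eq_single ⟨l - 1, hl'⟩]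
          · simp only [Pi.single_eq_same, mul_one]; omega
          · intro b _ hb
            rw [Pi.single_eq_of_ne hb, mul_zero]
          · intro h; exact absurd (Finset.mem_univ _) h
        · rw [Finset.prod_eq_single ⟨l - 1, hl'⟩]
          · simp only [Pi.single_eq_same, pow_one, hg]
            congr 1; omega
          · intro b _ hb
            rw [Pi.single_eq_of_ne hb, pow_zero]
          · intro h; exact absurd (Finset.mem_univ _) h
  have hgV : ∀ j : Fin n, GOK V (g j) := fun j => GOK.gamma hB hV hxV _ (by omega)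
  have hmon : ∀ m : Fin n →₀ ℕ, m ≠ 0 → GOK V (∏ j : Fin n, g j ^ m j) := by
    intro m hm
    have h1 : ∏ j : Fin n, g j ^ m j = ∏ j ∈ m.support, g j ^ m j := by
      symm
      apply Finset.prod_subset (Finset.subset_univ _)
      intro j _ hj
      rw [Finsupp.notMem_support_iff.mp hj, pow_zero]
    rw [h1]
    apply GOK.prod hB hV _ (Finsupp.support_nonempty_iff.mpr hm)
    intro j hj
    apply GOK.pow hB hV (hgV j)
    exact Nat.one_le_iff_ne_zero.mpr (Finsupp.mem_support_iff.mp hj)
  have hεg : ∀ j : Fin n, ε (g j) = 0 := by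
    intro j
    have := map_gamma (ε : B →+* K) hεlam ((j : ℕ) + 1) x
    simp only [AlgHom.coe_toRingHom] at this
    rw [hg]
    simp only
    rw [this, hx, gamma_pos_zero _ (by omega)]
  apply le_antisymm
  · apply gammaFil_le_of_gok (ε : B →+* K) hV ?_ k
    intro z hz
    have hz' : ε z = 0 := hz
    have hzr : z ∈ (MvPolynomial.aeval g : MvPolynomial (Fin n) K →ₐ[K] B).range := by
      rw [← Algebra.adjoin_range_eq_range_aeval, hgen]; trivial
    rw [AlgHom.mem_range] at hzr
    obtain ⟨p, rfl⟩ := hzr
    have h0 : MvPolynomial.constantCoeff p = 0 := by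
      have h1 : ε (MvPolynomial.aeval g p) = MvPolynomial.aeval (fun _ : Fin n => (0 : K)) p := by
        rw [MvPolynomial.comp_aeval_apply]
        congr 2
        funext j
        exact hεg j
      rw [MvPolynomial.aeval_zero'] at h1
      rw [h1] at hz'
      simpa using hz'
    rw [MvPolynomial.aeval_def, MvPolynomial.eval₂_eq']
    apply GOK.sum hV
    intro m hm
    have hm0 : m ≠ 0 := by
      rintro rfl
      rw [MvPolynomial.mem_support_iff] at hm
      exact hm h0
    exact GOK.smul hKb hB hε.isLambdaAlg hV (hmon m hm0) _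
  · rw [Ideal.span_le]
    rintro m ⟨e, he, rfl⟩
    have hF := isMulFil_gammaFil (ε : B →+* K)
    have h1 : ∏ j : Fin n, g j ^ e j ∈ gammaFil (ε : B →+* K) (∑ j : Fin n, e j * ((j : ℕ) + 1)) := by
      apply hF.prod_mem
      intro j _
      apply hF.pow_mem
      exact gamma_mem_gammaFil (ε : B →+* K) hx _
    refine hF.anti _ _ ?_ h1
    refine he.trans (le_of_eq ?_)
    exact Finset.sum_congr rfl fun j _ => mul_comm _ _

end Groth.Agent.S8697
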