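import Groth.Statements.S8698
import Groth.Agent.Lib.Helper3.ScalarGamma
import Groth.Agent.Lib.Helper3.GammaFilLib

set_option autoImplicit false
universe u v w
open Finset
open LambdaRing

namespace Groth.Agent.S8698

open Groth.Agent.Lib.helper3.GammaFil Groth.Agent.Lib.helper3.GammaLib
open Groth.Agent.Lib.helper3.UnivGamma Groth.Agent.Lib.helper3.ScalarLam

/-- Let K be a binomial ring with its binomial λ-structure, A a λ-ring in the strict sense which is an
augmented K-λ-algebra with augmentation ε_A, and B a λ-ring in the strict sense which is at once an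
augmented K-λ-algebra with augmentation ε_B and an A-algebra compatibly with the K-structures, the
structure map A → B commuting with the λ^n and ε_B restricting to ε_A on A. Let x ∈ B with ε_B(x) =
0, and assume that the family (γ^{j+1} x)_{j ∈ ℕ} is algebraically independent over A and generates
B as an A-algebra: B is the free λ-ring A[X, γ^2 X, γ^3 X, …] on one generator over A, augmented by
X ↦ 0. Then for every k the k-th ideal Fil^k B of the γ-filtration of B is the ideal generated by
the products a · m where m = ∏_j (γ^{j+1} x)^{e_j} is a monomial of weight i = Σ_j (j+1) e_j and a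
lies in (the image of) Fil^{k−i} A, with Fil^s A = A for s ≤ 0; that is, Fil^k B = Fil^k A +
Fil^{k−1} A·M_1 + ⋯ + Fil^0 A·M_k + (monomials of weight > k), M_i denoting the monomials of weight
i. The hypotheses hP and hQ, existence of the universal polynomials, are true statements carried so
that the identities of A and B can be used at every index. -/
theorem result
    (K : Type u) [CommRing K] [LambdaRing.LambdaOps K] [BinomialRing K] (hKb : LambdaRing.IsBinomial K)
    (hK : LambdaRing.IsSpecial K)
    (A : Type v) [CommRing A] [LambdaRing.LambdaOps A] [Algebra K A] (hA : LambdaRing.IsSpecial A)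
    (εA : A →ₐ[K] K) (hεA : LambdaRing.IsAugLambdaAlg K A εA)
    (B : Type w) [CommRing B] [LambdaRing.LambdaOps B] [Algebra K B] [Algebra A B] [IsScalarTower K A B]
    (hB : LambdaRing.IsSpecial B) (hAB : LambdaRing.IsLambdaAlg A B)
    (εB : B →ₐ[K] K) (hεB : LambdaRing.IsAugLambdaAlg K B εB) (hεAB : ∀ a : A, εB (algebraMap A B a) = εA a)
    (hP : ∀ n : ℕ, ∃ P : MvPolynomial (Fin n ⊕ Fin n) ℤ, LambdaRing.IsMulPoly n P)
    (hQ : ∀ i j : ℕ, ∃ Q : MvPolynomial (Fin (i * j)) ℤ, LambdaRing.IsCompPoly i j Q)
    (x : B) (hx : εB x = 0)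
    (hind : AlgebraicIndependent A (fun j : ℕ => LambdaRing.gamma (j + 1) x))
    (hgen : Algebra.adjoin A (Set.range fun j : ℕ => LambdaRing.gamma (j + 1) x) = ⊤)
    (k : ℕ) :
    LambdaRing.gammaFil (εB : B →+* K) k =
      Ideal.span {b : B | ∃ (e : ℕ →₀ ℕ) (a : A),
        a ∈ LambdaRing.gammaFil (εA : A →+* K) (k - e.sum fun j n => (j + 1) * n) ∧
        b = algebraMap A B a * e.prod fun j n => LambdaRing.gamma (j + 1) x ^ n} := by
  classical
  set g : ℕ → B := fun j => LambdaRing.gamma (j + 1) x with hg
  set V : ℕ → Ideal B := fun k => Ideal.span {b : B | ∃ (e : ℕ →₀ ℕ) (a : A),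
        a ∈ LambdaRing.gammaFil (εA : A →+* K) (k - e.sum fun j n => (j + 1) * n) ∧
        b = algebraMap A B a * e.prod fun j n => g j ^ n} with hVdef
  have hFA := isMulFil_gammaFil (εA : A →+* K)
  have hFB := isMulFil_gammaFil (εB : B →+* K)
  have hwadd : ∀ e₁ e₂ : ℕ →₀ ℕ, ((e₁ + e₂).sum fun j n => (j + 1) * n) =
      (e₁.sum fun j n => (j + 1) * n) + (e₂.sum fun j n => (j + 1) * n) := by
    intro e₁ e₂
    exact Finsupp.sum_add_index' (fun _ => mul_zero _) (fun _ _ _ => mul_add _ _ _)
  have hpadd : ∀ e₁ e₂ : ℕ →₀ ℕ, ((e₁ + e₂).prod fun j n => g j ^ n) =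
      (e₁.prod fun j n => g j ^ n) * (e₂.prod fun j n => g j ^ n) := by
    intro e₁ e₂
    exact Finsupp.prod_add_index' (fun _ => pow_zero _) (fun _ _ _ => pow_add _ _ _)
  have hV : IsMulFil V := by
    refine ⟨?_, ?_, ?_⟩
    · rw [Ideal.eq_top_iff_one]
      refine Ideal.subset_span ⟨0, 1, ?_, by simp⟩
      simpa using hFA.one_mem
    · intro i j a b ha hb
      have h1 : a * b ∈ V i * V j := Ideal.mul_mem_mul ha hb
      rw [hVdef] at h1
      simp only [Ideal.span_mul_span] at h1
      refine Ideal.span_mono ?_ h1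
      rintro z ⟨a, ⟨e₁, a₁, he₁, rfl⟩, b, ⟨e₂, a₂, he₂, rfl⟩, rfl⟩
      refine ⟨e₁ + e₂, a₁ * a₂, ?_, ?_⟩
      · rw [hwadd]
        refine hFA.anti _ _ ?_ (hFA.mul _ _ _ _ he₁ he₂)
        omega
      · rw [hpadd, map_mul]; ring
    · intro i j hij
      apply Ideal.span_mono
      rintro y ⟨e, a, he, rfl⟩
      exact ⟨e, a, hFA.anti _ _ (by omega) he, rfl⟩
  have hεlam : ∀ (i : ℕ) (a : B), (εB : B →+* K) (LambdaOps.lam i a) = LambdaOps.lam i ((εB : B →+* K) a) :=
    fun i a => hεB.map_lam i a
  have hABlam : ∀ (i : ℕ) (a : A), (algebraMap A B) (LambdaOps.lam i a) = LambdaOps.lam i (algebraMap A B a) :=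
    fun i a => hAB i a
  -- the generator x
  have hxV : GOK V x := by
    intro l
    rcases Nat.eq_zero_or_pos l with rfl | hl
    · rw [gamma_zero_left]; exact hV.one_mem
    · refine Ideal.subset_span ⟨Finsupp.single (l - 1) 1, 1, ?_, ?_⟩
      · rw [Finsupp.sum_single_index (by simp)]
        have : l - (l - 1 + 1) * 1 = 0 := by omega
        rw [this]
        exact hFA.one_mem
      · rw [Finsupp.prod_single_index (by simp), map_one, one_mul, pow_one, hg]
        simp only
        congr 1; omega
  have hgV : ∀ j : ℕ, GOK V (g j) := fun j => GOK.gamma hB hV hxV _ (by omega)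
  have hmon : ∀ m : ℕ →₀ ℕ, m ≠ 0 → GOK V (m.prod fun j n => g j ^ n) := by
    intro m hm
    rw [Finsupp.prod]
    apply GOK.prod hB hV _ (Finsupp.support_nonempty_iff.mpr hm)
    intro j hj
    apply GOK.pow hB hV (hgV j)
    exact Nat.one_le_iff_ne_zero.mpr (Finsupp.mem_support_iff.mp hj)
  have hεg : ∀ j : ℕ, εB (g j) = 0 := by
    intro j
    have := map_gamma (εB : B →+* K) hεlam (j + 1) x
    simp only [AlgHom.coe_toRingHom] at this
    rw [hg]
    simp only
    rw [this, hx, gamma_pos_zero _ (by omega)]
  -- elements of the augmentation ideal of A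
  have haV : ∀ a : A, εA a = 0 → GOK V (algebraMap A B a) := by
    intro a ha l
    rw [← map_gamma (algebraMap A B) hABlam]
    refine Ideal.subset_span ⟨0, gamma l a, ?_, by simp⟩
    simpa using gamma_mem_gammaFil (εA : A →+* K) ha l
  -- the image of the filtration of A
  have himg : ∀ s : ℕ, gammaFil (εA : A →+* K) s ≤ (gammaFil (εB : B →+* K) s).comap (algebraMap A B) := by
    intro s
    rw [gammaFil, Ideal.span_le]
    rintro y ⟨l, hl, hsum, rfl⟩
    rw [SetLike.mem_coe, Ideal.mem_comap, map_list_prod, List.map_map]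
    refine Ideal.subset_span ⟨l.map fun p => (p.1, algebraMap A B p.2), ?_, ?_, ?_⟩
    · intro p hp
      rw [List.mem_map] at hp
      obtain ⟨q, hq, rfl⟩ := hp
      have := hl q hq
      simp only [AlgHom.coe_toRingHom] at this ⊢
      rw [hεAB, this]
    · rw [List.map_map]
      exact hsum
    · rw [List.map_map]
      congr 1
      apply List.map_congr_left
      intro p _
      simp only [Function.comp_apply]
      exact map_gamma (algebraMap A B) hABlam _ _
  apply le_antisymm
  · apply gammaFil_le_of_gok (εB : B →+* K) hV ?_ k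
    intro z hz
    have hz' : εB z = 0 := hz
    have hzr : z ∈ (MvPolynomial.aeval g : MvPolynomial ℕ A →ₐ[A] B).range := by
      rw [← Algebra.adjoin_range_eq_range_aeval, hgen]; trivial
    rw [AlgHom.mem_range] at hzr
    obtain ⟨p, rfl⟩ := hzr
    have h0 : εA (MvPolynomial.constantCoeff p) = 0 := by
      have h1 := MvPolynomial.map_aeval g (εB : B →+* K) p
      have h2 : (fun i => (εB : B →+* K) (g i)) = fun _ => (0 : K) := by
        funext j; exact hεg j
      rw [h2, MvPolynomial.coe_eval₂Hom, MvPolynomial.eval₂_zero'_apply] at h1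
      have h3 : (εB : B →+* K) (MvPolynomial.aeval g p) = 0 := hz'
      rw [h1] at h3
      simpa [hεAB] using h3
    rw [MvPolynomial.aeval_def, MvPolynomial.eval₂_eq]
    apply GOK.sum hV
    intro m hm
    by_cases hm0 : m = 0
    · subst hm0
      simp only [Finsupp.support_zero, Finset.prod_empty, mul_one]
      exact haV _ h0
    · set c := MvPolynomial.coeff m p with hc
      have hM : GOK V (∏ i ∈ m.support, g i ^ m i) := hmon m hm0
      have hsplit : algebraMap A B c * ∏ i ∈ m.support, g i ^ m i =
          algebraMap K B (εA c) * ∏ i ∈ m.support, g i ^ m i +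
          algebraMap A B (c - algebraMap K A (εA c)) * ∏ i ∈ m.support, g i ^ m i := by
        rw [map_sub, ← IsScalarTower.algebraMap_apply K A B]; ring
      rw [hsplit]
      apply GOK.add hV
      · exact GOK.smul hKb hB hεB.isLambdaAlg hV hM _
      · apply GOK.mul hB hV _ hM
        apply haV
        rw [map_sub, AlgHom.commutes]
        simp
  · rw [Ideal.span_le]
    rintro m ⟨e, a, he, rfl⟩
    have h1 : (e.prod fun j n => g j ^ n) ∈ gammaFil (εB : B →+* K) (∑ j ∈ e.support, e j * (j + 1)) := by
      rw [Finsupp.prod]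
      apply hFB.prod_mem
      intro j _
      apply hFB.pow_mem
      exact gamma_mem_gammaFil (εB : B →+* K) hx _
    have h2 := hFB.mul _ _ _ _ (himg _ he) h1
    refine hFB.anti _ _ ?_ h2
    have h3 : (e.sum fun j n => (j + 1) * n) = ∑ j ∈ e.support, e j * (j + 1) := by
      rw [Finsupp.sum]
      exact Finset.sum_congr rfl fun j _ => mul_comm _ _
    rw [h3]
    omega

end Groth.Agent.S8698
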