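import Groth.Statements.S8699
import Groth.Agent.Lib.Helper3.BinomLib

set_option autoImplicit false
universe u
open LambdaRing

namespace Groth.Agent.S8699

open Groth.Agent.Lib.helper3.Special Groth.Agent.Lib.helper3.AdamsOp TensorProduct

/-- A binomial ring K (no additive torsion and all binomial coefficients C(x, n) defined) with its
binomial λ-structure λ^n(x) = C(x, n), i.e. λ_t(x) = (1 + t)^x, is a λ-ring in the strict sense:
λ_t(1) = 1 + t, λ^n(xy) = P_n(λ^1 x, …; λ^1 y, …) and λ^j(λ^i x) = Q_{i,j}(λ^1 x, …) for the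
universal polynomials. In particular the integers with λ^n(m) = C(m, n) form a λ-ring. -/
theorem result (K : Type u) [CommRing K] [LambdaRing.LambdaOps K] [BinomialRing K]
    (hKb : LambdaRing.IsBinomial K) : LambdaRing.IsSpecial K := by
  letI L' : LambdaRing.LambdaOps (ℚ ⊗[ℤ] K) :=
    lamOfAdams (fun _ => AddMonoidHom.id (ℚ ⊗[ℤ] K)) rfl
  have hA : ∀ k : ℕ, 1 ≤ k → ∀ z : ℚ ⊗[ℤ] K, LambdaRing.adamsOp k z = z :=
    fun k hk z => adamsOp_lamOfAdams (fun _ => AddMonoidHom.id (ℚ ⊗[ℤ] K)) rfl k hk z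
  have hsp : LambdaRing.IsSpecial (ℚ ⊗[ℤ] K) := by
    refine ⟨lam_one_eq_zero_of_adams (fun k hk => hA k hk 1),
      fun n P hP x y => lam_mul_of_adams
        (fun k hk x y => by rw [hA k hk, hA k hk, hA k hk]) n P hP x y,
      fun i j Q hQ x => lam_lam_of_adams (fun k hk => hA k hk 1)
        (fun k hk x y => by rw [hA k hk, hA k hk, hA k hk])
        (fun k k' hk hk' x => by
          rw [hA k hk, hA k' hk', hA (k * k') (Nat.mul_pos hk hk')]) i j Q hQ x⟩
  haveI : IsAddTorsionFree K := BinomialRing.toIsAddTorsionFree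
  haveI : Module.Flat ℤ K := flat_int
  have hf : Function.Injective
      ((Algebra.TensorProduct.includeRight : K →ₐ[ℤ] ℚ ⊗[ℤ] K) : K →+* ℚ ⊗[ℤ] K) :=
    Algebra.TensorProduct.includeRight_injective (RingHom.injective_int (algebraMap ℤ ℚ))
  refine isSpecial_of_injective _ hf ?_ hsp
  intro n x
  rw [hKb n x]
  show _ = lamRec (fun _ => (AddMonoidHom.id (ℚ ⊗[ℤ] K) : ℚ ⊗[ℤ] K → ℚ ⊗[ℤ] K)) _ n
  rw [lamRec_eq_LRec]
  refine eq_LRec _ (fun n => ((Algebra.TensorProduct.includeRight : K →ₐ[ℤ] ℚ ⊗[ℤ] K) :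
    K →+* ℚ ⊗[ℤ] K) (Ring.choose x n)) ?_ ?_ n
  · show _ = (1 : ℚ ⊗[ℤ] K)
    rw [Ring.choose_zero_right, map_one]
  · intro n
    have h := congrArg ((Algebra.TensorProduct.includeRight : K →ₐ[ℤ] ℚ ⊗[ℤ] K) :
      K →+* ℚ ⊗[ℤ] K) (choose_newton x n)
    rw [map_mul, map_add, map_natCast, map_one, map_sum] at h
    rw [h]
    refine Finset.sum_congr rfl fun i _ => ?_
    rw [map_mul, map_mul, map_pow, map_neg, map_one]
    rfl

end Groth.Agent.S8699
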