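import Groth.Statements.S8703
import Groth.Agent.Lib.Helper3.AdamsOp

set_option autoImplicit false
universe u
open LambdaRing

namespace Groth.Agent.S8703

open Groth.Agent.Lib.helper3.AdamsOp

/-- The Adams operations commute with λ-homomorphisms, and conversely, if K and K' are pre-λ-rings which
are algebras over the rationals, a ring homomorphism f : K → K' commuting with the ψ^k for all k ≥ 1
is a λ-homomorphism (commutes with all λ^i), the λ^i being expressible through the ψ^k in
characteristic zero. -/
theorem result (K K' : Type u) [CommRing K] [CommRing K']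
    [LambdaRing.LambdaOps K] [LambdaRing.LambdaOps K'] [Algebra ℚ K] [Algebra ℚ K'] (f : K →+* K') :
    LambdaRing.IsLambdaHom f ↔
      ∀ k : ℕ, 1 ≤ k → ∀ x : K, f (LambdaRing.adamsOp k x) = LambdaRing.adamsOp k (f x) := by
  constructor
  · intro hf
    have key : ∀ (k : ℕ) (x : K), f (LambdaRing.adamsOp (k + 1) x) =
        LambdaRing.adamsOp (k + 1) (f x) := by
      intro k
      induction k using Nat.strong_induction_on with
      | _ k ih =>
        intro x
        have h1 := congrArg f (newton' x k)
        have h2 := newton' (f x) k
        rw [map_mul, map_pow, map_neg, map_one, map_sub, map_mul, map_add, map_natCast, map_one,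
          map_sum, hf] at h1
        have hsum : ∑ i ∈ Finset.range k, f (LambdaRing.LambdaOps.lam (i + 1) x *
            ((-1) ^ (k - (i + 1)) * LambdaRing.adamsOp (k - (i + 1) + 1) x)) =
            ∑ i ∈ Finset.range k, LambdaRing.LambdaOps.lam (i + 1) (f x) *
              ((-1) ^ (k - (i + 1)) * LambdaRing.adamsOp (k - (i + 1) + 1) (f x)) := by
          refine Finset.sum_congr rfl fun i hi => ?_
          have hi' := Finset.mem_range.mp hi
          rw [map_mul, map_mul, map_pow, map_neg, map_one, hf, ih _ (by omega)]
        rw [hsum, ← h2] at h1
        have hu : IsUnit ((-1 : K') ^ k) := isUnit_one.neg.pow k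
        exact hu.mul_left_cancel h1
    intro k hk x
    obtain ⟨k, rfl⟩ := Nat.exists_eq_add_of_le' hk
    exact key k x
  · intro hψ n
    induction n using Nat.strong_induction_on with
    | _ n ih =>
      intro x
      rcases n with _ | n
      · rw [LambdaRing.LambdaOps.lam_zero, LambdaRing.LambdaOps.lam_zero, map_one]
      · have h1 := congrArg f (newton x n)
        have h2 := newton (f x) n
        rw [map_mul, map_add, map_natCast, map_one, map_sum] at h1
        have hsum : ∑ i ∈ Finset.range (n + 1), f (LambdaRing.LambdaOps.lam i x *
            ((-1) ^ (n - i) * LambdaRing.adamsOp (n - i + 1) x)) =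
            ∑ i ∈ Finset.range (n + 1), LambdaRing.LambdaOps.lam i (f x) *
              ((-1) ^ (n - i) * LambdaRing.adamsOp (n - i + 1) (f x)) := by
          refine Finset.sum_congr rfl fun i hi => ?_
          have hi' := Finset.mem_range.mp hi
          rw [map_mul, map_mul, map_pow, map_neg, map_one, ih i (by omega), hψ _ (by omega)]
        rw [hsum, ← h2] at h1
        exact (isUnit_natCast_succ n).mul_left_injective h1

end Groth.Agent.S8703
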