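import Groth.Statements.S8704
import Groth.Agent.S3289

set_option autoImplicit false
universe u v
open LambdaRing

namespace Groth.Agent.S8704

open PowerSeries Finset in
theorem lam_pos_zero {A : Type*} [CommRing A] [LambdaRing.LambdaOps A] (j : ℕ) (hj : 0 < j) :
    LambdaRing.LambdaOps.lam j (0 : A) = 0 := by
  have h := Groth.Agent.S3289.lamSeries_add (0 : A) 0
  rw [add_zero] at h
  have hc : constantCoeff (LambdaRing.lamSeries (0 : A)) = 1 := by
    rw [← PowerSeries.coeff_zero_eq_constantCoeff_apply, LambdaRing.lamSeries, coeff_mk,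
      LambdaRing.LambdaOps.lam_zero]
  have hu : IsUnit (LambdaRing.lamSeries (0 : A)) := by
    rw [PowerSeries.isUnit_iff_constantCoeff, hc]
    exact isUnit_one
  have h2 : LambdaRing.lamSeries (0 : A) * 1 =
      LambdaRing.lamSeries (0 : A) * LambdaRing.lamSeries (0 : A) := by rw [mul_one, ← h]
  have h3 : LambdaRing.lamSeries (0 : A) = 1 := (hu.mul_left_cancel h2).symm
  have h4 := congrArg (coeff j) h3
  rw [LambdaRing.lamSeries, coeff_mk, coeff_one, if_neg hj.ne'] at h4
  exact h4

theorem gamma_zero_left {A : Type*} [CommRing A] [LambdaRing.LambdaOps A] (x : A) :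
    LambdaRing.gamma 0 x = 1 := by
  rw [LambdaRing.gamma, if_pos rfl]

theorem gamma_pos_zero {A : Type*} [CommRing A] [LambdaRing.LambdaOps A] (k : ℕ) (hk : 0 < k) :
    LambdaRing.gamma k (0 : A) = 0 := by
  rw [LambdaRing.gamma, if_neg hk.ne']
  refine Finset.sum_eq_zero fun j _ => ?_
  split_ifs with hj
  · rw [mul_zero]
  · rw [lam_pos_zero j (Nat.pos_of_ne_zero hj), mul_zero]

theorem gamma_one_left {A : Type*} [CommRing A] [LambdaRing.LambdaOps A] (x : A) :
    LambdaRing.gamma 1 x = x := by
  rw [LambdaRing.gamma, if_neg one_ne_zero]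
  simp [Finset.sum_range_succ, LambdaRing.LambdaOps.lam_one]

/-- Let K and A be λ-rings in the strict sense, A an augmented K-λ-algebra with augmentation ε : A → K,
and Fil^n A its γ-filtration, the ideal generated by the products γ^{i_1}(x_1) ⋯ γ^{i_k}(x_k) with
i_1 + ⋯ + i_k ≥ n and all ε(x_r) = 0. If a subset S generates A as an abelian group, then Fil^n A,
as a K-submodule of A, is generated over K by the products γ^{i_1}(s_1 − ε(s_1)) ⋯ γ^{i_k}(s_k −
ε(s_k)) with s_r ∈ S and i_1 + ⋯ + i_k ≥ n. -/
theorem result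
    (K : Type u) [CommRing K] [LambdaRing.LambdaOps K] (hK : LambdaRing.IsSpecial K)
    (A : Type v) [CommRing A] [LambdaRing.LambdaOps A] [Algebra K A] (hA : LambdaRing.IsSpecial A)
    (ε : A →ₐ[K] K) (hε : LambdaRing.IsAugLambdaAlg K A ε)
    (S : Set A) (hS : AddSubgroup.closure S = ⊤) (n : ℕ) :
    (LambdaRing.gammaFil (ε : A →+* K) n).restrictScalars K =
      Submodule.span K {y : A | ∃ l : List (ℕ × A), (∀ p ∈ l, p.2 ∈ S) ∧ n ≤ (l.map Prod.fst).sum ∧
        y = (l.map fun p => LambdaRing.gamma p.1 (p.2 - algebraMap K A (ε p.2))).prod} := by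
  classical
  -- the K-span of the products of weight ≥ m
  set G : ℕ → Set A := fun m => {y : A | ∃ l : List (ℕ × A), (∀ p ∈ l, p.2 ∈ S) ∧
    m ≤ (l.map Prod.fst).sum ∧
    y = (l.map fun p => LambdaRing.gamma p.1 (p.2 - algebraMap K A (ε p.2))).prod} with hG
  set W : ℕ → Submodule K A := fun m => Submodule.span K (G m) with hW
  have W_anti : ∀ m m' : ℕ, m ≤ m' → W m' ≤ W m := by
    intro m m' hmm
    apply Submodule.span_mono
    rintro y ⟨l, hl, hsum, rfl⟩
    exact ⟨l, hl, hmm.trans hsum, rfl⟩
  have W_mul : ∀ (m m' : ℕ) (x y : A), x ∈ W m → y ∈ W m' → x * y ∈ W (m + m') := by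
    intro m m' x y hx hy
    have h1 : x * y ∈ W m * W m' := Submodule.mul_mem_mul hx hy
    rw [hW] at h1
    simp only [Submodule.span_mul_span] at h1
    refine Submodule.span_mono ?_ h1
    rintro z ⟨a, ⟨l₁, hl₁, hs₁, rfl⟩, b, ⟨l₂, hl₂, hs₂, rfl⟩, rfl⟩
    refine ⟨l₁ ++ l₂, ?_, ?_, ?_⟩
    · intro p hp
      rcases List.mem_append.mp hp with h | h
      · exact hl₁ p h
      · exact hl₂ p h
    · rw [List.map_append, List.sum_append]
      exact Nat.add_le_add hs₁ hs₂
    · simp only [List.map_append, List.prod_append]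
  have W_one : (1 : A) ∈ W 0 :=
    Submodule.subset_span ⟨[], by simp, by simp, by simp⟩
  have W_gen : ∀ (i : ℕ) (s : A), s ∈ S →
      LambdaRing.gamma i (s - algebraMap K A (ε s)) ∈ W i := by
    intro i s hs
    refine Submodule.subset_span ⟨[(i, s)], ?_, ?_, ?_⟩
    · intro p hp
      rw [List.mem_singleton] at hp
      subst hp
      exact hs
    · simp
    · simp
  -- the set Z
  have Z_zero : ∀ i : ℕ, LambdaRing.gamma i (0 : A) ∈ W i := by
    intro i
    rcases Nat.eq_zero_or_pos i with hi | hi
    · subst hi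
      rw [gamma_zero_left]
      exact W_one
    · rw [gamma_pos_zero i hi]
      exact Submodule.zero_mem _
  have Z_add : ∀ x y : A, (∀ i, LambdaRing.gamma i x ∈ W i) → (∀ i, LambdaRing.gamma i y ∈ W i) →
      ∀ i, LambdaRing.gamma i (x + y) ∈ W i := by
    intro x y hx hy k
    rw [Groth.Agent.S3289.result]
    refine Submodule.sum_mem _ fun i hi => ?_
    have hi' := Finset.mem_range.mp hi
    have h := W_mul i (k - i) _ _ (hx i) (hy (k - i))
    rwa [Nat.add_sub_cancel' (by omega)] at h
  have Z_neg : ∀ x : A, (∀ i, LambdaRing.gamma i x ∈ W i) →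
      ∀ i, LambdaRing.gamma i (-x) ∈ W i := by
    intro x hx b
    induction b using Nat.strong_induction_on with
    | _ b ih =>
      rcases Nat.eq_zero_or_pos b with hb | hb
      · subst hb
        rw [gamma_zero_left]
        exact W_one
      · have h := Groth.Agent.S3289.result A b x (-x)
        rw [add_neg_cancel, gamma_pos_zero b hb, Finset.sum_range_succ', gamma_zero_left, one_mul,
          Nat.sub_zero] at h
        have h' : LambdaRing.gamma b (-x) = -∑ c ∈ Finset.range b,
            LambdaRing.gamma (c + 1) x * LambdaRing.gamma (b - (c + 1)) (-x) := by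
          rw [eq_neg_iff_add_eq_zero, add_comm]
          exact h.symm
        rw [h']
        refine Submodule.neg_mem _ (Submodule.sum_mem _ fun c hc => ?_)
        have hc' := Finset.mem_range.mp hc
        have h2 := W_mul (c + 1) (b - (c + 1)) _ _ (hx (c + 1)) (ih (b - (c + 1)) (by omega))
        rwa [Nat.add_sub_cancel' (by omega)] at h2
  have hεalg : ∀ k : K, ε (algebraMap K A k) = k := fun k => by
    rw [AlgHom.commutes]; rfl
  -- τ a = a - ε a lies in Z for all a
  have Z_tau : ∀ a : A, ∀ i, LambdaRing.gamma i (a - algebraMap K A (ε a)) ∈ W i := by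
    intro a
    have ha : a ∈ AddSubgroup.closure S := by rw [hS]; trivial
    induction ha using AddSubgroup.closure_induction with
    | mem s hs => exact fun i => W_gen i s hs
    | zero =>
      intro i
      rw [map_zero, map_zero, sub_zero]
      exact Z_zero i
    | add x y _ _ hx hy =>
      intro i
      have e : x + y - algebraMap K A (ε (x + y)) =
          (x - algebraMap K A (ε x)) + (y - algebraMap K A (ε y)) := by
        rw [map_add, map_add]; ring
      rw [e]
      exact Z_add _ _ hx hy i
    | neg x _ hx =>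
      intro i
      have e : -x - algebraMap K A (ε (-x)) = -(x - algebraMap K A (ε x)) := by
        rw [map_neg, map_neg]; ring
      rw [e]
      exact Z_neg _ hx i
  have Z_ker : ∀ x : A, ε x = 0 → ∀ i, LambdaRing.gamma i x ∈ W i := by
    intro x hx i
    have h := Z_tau x i
    rwa [hx, map_zero, sub_zero] at h
  -- W n is an ideal
  have W_smul : ∀ (m : ℕ) (a w : A), w ∈ W m → a * w ∈ W m := by
    intro m a w hw
    have e : a * w = ε a • w + (a - algebraMap K A (ε a)) * w := by
      rw [Algebra.smul_def]; ring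
    rw [e]
    refine Submodule.add_mem _ (Submodule.smul_mem _ _ hw) ?_
    have h1 := Z_tau a 1
    rw [gamma_one_left] at h1
    exact W_anti m (1 + m) (by omega) (W_mul 1 m _ _ h1 hw)
  apply le_antisymm
  · intro x hx
    rw [Submodule.restrictScalars_mem, LambdaRing.gammaFil] at hx
    let I : Ideal A :=
      { carrier := W n
        add_mem' := fun ha hb => Submodule.add_mem _ ha hb
        zero_mem' := Submodule.zero_mem _
        smul_mem' := fun a w hw => W_smul n a w hw }
    have hI : Ideal.span {y | ∃ l : List (ℕ × A), (∀ p ∈ l, (ε : A →+* K) p.2 = 0) ∧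
        n ≤ (l.map Prod.fst).sum ∧
        y = (l.map fun p => LambdaRing.gamma p.1 p.2).prod} ≤ I := by
      rw [Ideal.span_le]
      rintro y ⟨l, hl, hsum, rfl⟩
      show (l.map fun p => LambdaRing.gamma p.1 p.2).prod ∈ W n
      refine W_anti n _ hsum ?_
      clear hsum
      induction l with
      | nil => simpa using W_one
      | cons p l ih =>
        simp only [List.map_cons, List.prod_cons, List.sum_cons]
        refine W_mul _ _ _ _ (Z_ker p.2 ?_ p.1) (ih fun q hq => hl q (List.mem_cons_of_mem _ hq))
        have := hl p List.mem_cons_self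
        simpa using this
    exact hI hx
  · apply Submodule.span_le.mpr
    rintro y ⟨l, hl, hsum, rfl⟩
    rw [SetLike.mem_coe, Submodule.restrictScalars_mem, LambdaRing.gammaFil]
    apply Ideal.subset_span
    refine ⟨l.map fun p => (p.1, p.2 - algebraMap K A (ε p.2)), ?_, ?_, ?_⟩
    · intro p hp
      rw [List.mem_map] at hp
      obtain ⟨q, _, rfl⟩ := hp
      show (ε : A →+* K) (q.2 - algebraMap K A (ε q.2)) = 0
      rw [map_sub]
      simp [hεalg]
    · rw [List.map_map]
      exact hsum
    · rw [List.map_map]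
      rfl

end Groth.Agent.S8704
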