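import Groth.Statements.S8705
import Mathlib

set_option autoImplicit false
universe u
open SGA7

namespace Groth.Agent.S8705

section helpers

section Ext

variable {P : Type*} [AddCommGroup P] {Q : Type*} [AddCommGroup Q]

/-- Underlying type of the extension of `P` by `Q` given by a symmetric 2-cocycle. -/
structure E (c : P → P → Q) where
  a : Q
  p : P

variable (c : P → P → Q)

instance : Add (E c) := ⟨fun x y => ⟨x.a + y.a + c x.p y.p, x.p + y.p⟩⟩
instance : Zero (E c) := ⟨⟨- c 0 0, 0⟩⟩
instance : Neg (E c) := ⟨fun x => ⟨- x.a - c (-x.p) x.p + c 0 0 - c 0 0 - c 0 0, - x.p⟩⟩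

theorem E.add_a (x y : E c) : (x + y).a = x.a + y.a + c x.p y.p := rfl
theorem E.add_p (x y : E c) : (x + y).p = x.p + y.p := rfl
theorem E.zero_a : (0 : E c).a = - c 0 0 := rfl
theorem E.zero_p : (0 : E c).p = 0 := rfl
theorem E.neg_a (x : E c) : (-x).a = - x.a - c (-x.p) x.p + c 0 0 - c 0 0 - c 0 0 := rfl
theorem E.neg_p (x : E c) : (-x).p = - x.p := rfl

omit [AddCommGroup P] [AddCommGroup Q] in
@[ext] theorem E.ext' {x y : E c} (h1 : x.a = y.a) (h2 : x.p = y.p) : x = y := by
  cases x; cases y; simp_all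

variable {c}

theorem c_zero_left (hcoc : ∀ p q r, c (p + q) r + c p q = c p (q + r) + c q r) (r : P) :
    c 0 r = c 0 0 := by
  have := hcoc 0 0 r
  simp only [add_zero, zero_add] at this
  exact (add_left_cancel this).symm

/-- The group structure. -/
@[reducible] noncomputable def E.addCommGroup
    (hcoc : ∀ p q r, c (p + q) r + c p q = c p (q + r) + c q r)
    (hsymm : ∀ p q, c p q = c q p) : AddCommGroup (E c) :=
  { AddGroup.ofLeftAxioms (G := E c)
      (by
        intro x y z
        apply E.ext'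
        · simp only [E.add_a, E.add_p]
          have := hcoc x.p y.p z.p
          calc x.a + y.a + c x.p y.p + z.a + c (x.p + y.p) z.p
              = x.a + y.a + z.a + (c (x.p + y.p) z.p + c x.p y.p) := by abel
            _ = x.a + y.a + z.a + (c x.p (y.p + z.p) + c y.p z.p) := by rw [this]
            _ = x.a + (y.a + z.a + c y.p z.p) + c x.p (y.p + z.p) := by abel
        · simp only [E.add_p, add_assoc])
      (by
        intro x
        apply E.ext'
        · simp only [E.add_a, E.zero_a, E.zero_p, c_zero_left hcoc]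
          abel
        · simp only [E.add_p, E.zero_p, zero_add])
      (by
        intro x
        apply E.ext'
        · simp only [E.add_a, E.neg_a, E.neg_p, E.zero_a]
          abel
        · simp only [E.add_p, E.neg_p, E.zero_p, neg_add_cancel]) with
    add_comm := by
      intro x y
      apply E.ext'
      · simp only [E.add_a, hsymm x.p y.p]
        abel
      · simp only [E.add_p, add_comm] }

end Ext


end helpers

/-- In the case of the punctual topos (ordinary abelian groups): let P be an abelian group and consider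
the complex of free abelian groups Z[P × P × P] ⊕ Z[P × P] → Z[P × P] → Z[P], augmented to P by [p]
↦ p, with d₀[p, q] = [p + q] − [p] − [q], with d₁ on the first summand given by [p, q, r] ↦ [p + q,
r] − [p, q + r] + [p, q] − [q, r] and on the second summand by [p, q] ↦ [p, q] − [q, p]. Then the
augmentation is surjective with kernel the image of d₀ (so H₀ is P), and the kernel of d₀ is the sum
of the images of the two components of d₁ (so H₁ vanishes). (The published statement is for abelian
sheaves on an arbitrary topos; this row is its case of a one-point space.) -/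
theorem result (P : Type u) [AddCommGroup P] :
    letI ε : (P →₀ ℤ) →ₗ[ℤ] P := Finsupp.linearCombination ℤ (fun p : P => p)
    letI d₀ : (P × P →₀ ℤ) →ₗ[ℤ] (P →₀ ℤ) := Finsupp.linearCombination ℤ
      (fun pq : P × P => Finsupp.single (pq.1 + pq.2) 1 - Finsupp.single pq.1 1 - Finsupp.single pq.2 1)
    letI d₁ : (P × P × P →₀ ℤ) →ₗ[ℤ] (P × P →₀ ℤ) := Finsupp.linearCombination ℤ
      (fun t : P × P × P => Finsupp.single (t.1 + t.2.1, t.2.2) 1 - Finsupp.single (t.1, t.2.1 + t.2.2) 1
        + Finsupp.single (t.1, t.2.1) 1 - Finsupp.single (t.2.1, t.2.2) 1)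
    letI d₁' : (P × P →₀ ℤ) →ₗ[ℤ] (P × P →₀ ℤ) := Finsupp.linearCombination ℤ
      (fun pq : P × P => Finsupp.single pq 1 - Finsupp.single (pq.2, pq.1) 1)
    Function.Surjective ε ∧ LinearMap.ker ε = LinearMap.range d₀ ∧
      LinearMap.ker d₀ = LinearMap.range d₁ ⊔ LinearMap.range d₁' := by
  let ε : (P →₀ ℤ) →ₗ[ℤ] P := Finsupp.linearCombination ℤ (fun p : P => p)
  let d₀ : (P × P →₀ ℤ) →ₗ[ℤ] (P →₀ ℤ) := Finsupp.linearCombination ℤ
      (fun pq : P × P => Finsupp.single (pq.1 + pq.2) 1 - Finsupp.single pq.1 1 - Finsupp.single pq.2 1)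
  let d₁ : (P × P × P →₀ ℤ) →ₗ[ℤ] (P × P →₀ ℤ) := Finsupp.linearCombination ℤ
      (fun t : P × P × P => Finsupp.single (t.1 + t.2.1, t.2.2) 1 - Finsupp.single (t.1, t.2.1 + t.2.2) 1
        + Finsupp.single (t.1, t.2.1) 1 - Finsupp.single (t.2.1, t.2.2) 1)
  let d₁' : (P × P →₀ ℤ) →ₗ[ℤ] (P × P →₀ ℤ) := Finsupp.linearCombination ℤ
      (fun pq : P × P => Finsupp.single pq 1 - Finsupp.single (pq.2, pq.1) 1)
  show Function.Surjective ε ∧ LinearMap.ker ε = LinearMap.range d₀ ∧
      LinearMap.ker d₀ = LinearMap.range d₁ ⊔ LinearMap.range d₁'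
  have hε : ∀ p : P, ε (Finsupp.single p 1) = p := fun p => by simp [ε]
  have hd₀ : ∀ p q : P, d₀ (Finsupp.single (p, q) 1) = Finsupp.single (p + q) 1 - Finsupp.single p 1 - Finsupp.single q 1 :=
    fun p q => by simp [d₀]
  have hd₁ : ∀ p q r : P, d₁ (Finsupp.single (p, q, r) 1) =
      Finsupp.single (p + q, r) 1 - Finsupp.single (p, q + r) 1 + Finsupp.single (p, q) 1 - Finsupp.single (q, r) 1 :=
    fun p q r => by simp [d₁]
  have hd₁' : ∀ p q : P, d₁' (Finsupp.single (p, q) 1) = Finsupp.single (p, q) 1 - Finsupp.single (q, p) 1 :=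
    fun p q => by simp [d₁']
  have hεd₀ : ε ∘ₗ d₀ = 0 := by
    apply Finsupp.lhom_ext'
    rintro ⟨p, q⟩
    apply LinearMap.ext_ring
    simp only [LinearMap.coe_comp, Function.comp_apply, Finsupp.lsingle_apply, hd₀, map_sub, hε,
      LinearMap.zero_comp, LinearMap.zero_apply]
    abel
  have hd₀d₁ : d₀ ∘ₗ d₁ = 0 := by
    apply Finsupp.lhom_ext'
    rintro ⟨p, q, r⟩
    apply LinearMap.ext_ring
    simp only [LinearMap.coe_comp, Function.comp_apply, Finsupp.lsingle_apply, hd₁, map_sub, map_add, hd₀,
      LinearMap.zero_comp, LinearMap.zero_apply, add_assoc]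
    abel
  have hd₀d₁' : d₀ ∘ₗ d₁' = 0 := by
    apply Finsupp.lhom_ext'
    rintro ⟨p, q⟩
    apply LinearMap.ext_ring
    simp only [LinearMap.coe_comp, Function.comp_apply, Finsupp.lsingle_apply, hd₁', map_sub, hd₀,
      LinearMap.zero_comp, LinearMap.zero_apply, add_comm q p]
    abel
  refine ⟨fun p => ⟨Finsupp.single p 1, hε p⟩, ?_, ?_⟩
  · apply le_antisymm
    · intro x hx
      let N₀ : Submodule ℤ (P →₀ ℤ) := LinearMap.range d₀
      let τ : P →+ ((P →₀ ℤ) ⧸ N₀) := AddMonoidHom.mk' (fun p => N₀.mkQ (Finsupp.single p 1)) (by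
        intro p q
        have : d₀ (Finsupp.single (p, q) 1) ∈ N₀ := ⟨_, rfl⟩
        rw [hd₀] at this
        have h0 := (Submodule.Quotient.mk_eq_zero N₀).mpr this
        simp only [Submodule.Quotient.mk_sub] at h0
        simp only [Submodule.mkQ_apply]
        exact eq_of_sub_eq_zero (by rw [← h0]; abel))
      have hτε : τ.toIntLinearMap ∘ₗ ε = N₀.mkQ := by
        apply Finsupp.lhom_ext'
        intro p
        apply LinearMap.ext_ring
        simp only [LinearMap.coe_comp, Function.comp_apply, Finsupp.lsingle_apply, hε]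
        rfl
      have h1 : N₀.mkQ x = 0 := by
        rw [← hτε, LinearMap.comp_apply, LinearMap.mem_ker.mp hx, map_zero]
      exact (Submodule.Quotient.mk_eq_zero N₀).mp h1
    · rintro _ ⟨y, rfl⟩
      exact congrArg (fun f : (P × P →₀ ℤ) →ₗ[ℤ] P => f y) hεd₀
  · apply le_antisymm
    · intro x hx
      let N : Submodule ℤ (P × P →₀ ℤ) := LinearMap.range d₁ ⊔ LinearMap.range d₁'
      let c : P → P → ((P × P →₀ ℤ) ⧸ N) := fun p q => N.mkQ (Finsupp.single (p, q) 1)
      have hcoc : ∀ p q r, c (p + q) r + c p q = c p (q + r) + c q r := by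
        intro p q r
        have : d₁ (Finsupp.single (p, q, r) 1) ∈ N := Submodule.mem_sup_left ⟨_, rfl⟩
        rw [hd₁] at this
        have h0 := (Submodule.Quotient.mk_eq_zero N).mpr this
        simp only [Submodule.Quotient.mk_sub, Submodule.Quotient.mk_add] at h0
        simp only [c, Submodule.mkQ_apply]
        exact eq_of_sub_eq_zero (by rw [← h0]; abel)
      have hsymm : ∀ p q, c p q = c q p := by
        intro p q
        have : d₁' (Finsupp.single (p, q) 1) ∈ N := Submodule.mem_sup_right ⟨_, rfl⟩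
        rw [hd₁'] at this
        have h0 := (Submodule.Quotient.mk_eq_zero N).mpr this
        simp only [Submodule.Quotient.mk_sub] at h0
        simp only [c, Submodule.mkQ_apply]
        exact eq_of_sub_eq_zero h0
      let _ : AddCommGroup (E c) := E.addCommGroup hcoc hsymm
      let s : P → E c := fun p => ⟨0, p⟩
      let σ : (P →₀ ℤ) →ₗ[ℤ] E c := Finsupp.linearCombination ℤ s
      have hσ : ∀ p, σ (Finsupp.single p 1) = s p := fun p => by simp [σ]
      let ι : ((P × P →₀ ℤ) ⧸ N) →+ E c := AddMonoidHom.mk' (fun a => ⟨a - c 0 0, 0⟩) (by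
        intro a b
        apply E.ext'
        · simp only [E.add_a]
          abel
        · simp only [E.add_p, add_zero])
      have key : ∀ p q, s p + s q = ι (c p q) + s (p + q) := by
        intro p q
        apply E.ext'
        · show (0 : _) + 0 + c p q = (c p q - c 0 0) + 0 + c 0 (p + q)
          rw [c_zero_left hcoc (p + q)]
          abel
        · show p + q = 0 + (p + q)
          rw [zero_add]
      have hσd₀ : σ ∘ₗ d₀ = - (ι.toIntLinearMap ∘ₗ N.mkQ) := by
        apply Finsupp.lhom_ext'
        rintro ⟨p, q⟩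
        apply LinearMap.ext_ring
        simp only [LinearMap.coe_comp, Function.comp_apply, Finsupp.lsingle_apply, hd₀, map_sub, hσ,
          LinearMap.neg_apply]
        have hk := key p q
        have : ι.toIntLinearMap (N.mkQ (Finsupp.single (p, q) 1)) = ι (c p q) := rfl
        rw [this]
        rw [eq_neg_iff_add_eq_zero, sub_sub, hk]
        abel
      have h1 : ι (N.mkQ x) = 0 := by
        have := congrArg (fun f : (P × P →₀ ℤ) →ₗ[ℤ] E c => f x) hσd₀
        simp only [LinearMap.coe_comp, Function.comp_apply, LinearMap.neg_apply,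
          LinearMap.mem_ker.mp hx, map_zero] at this
        have h2 : ι.toIntLinearMap (N.mkQ x) = 0 := neg_eq_zero.mp this.symm
        exact h2
      have h2 : N.mkQ x = 0 := by
        have h3 : ι (N.mkQ x) = ι 0 := by rw [h1, map_zero]
        have h4 := congrArg E.a h3
        exact sub_left_injective h4
      exact (Submodule.Quotient.mk_eq_zero N).mp h2
    · refine sup_le ?_ ?_
      · rintro _ ⟨y, rfl⟩
        exact congrArg (fun f : (P × P × P →₀ ℤ) →ₗ[ℤ] (P →₀ ℤ) => f y) hd₀d₁
      · rintro _ ⟨y, rfl⟩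
        exact congrArg (fun f : (P × P →₀ ℤ) →ₗ[ℤ] (P →₀ ℤ) => f y) hd₀d₁'

end Groth.Agent.S8705
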