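import Groth.Statements.S8710
import Groth.Agent.Lib.Helper7.TorAPI3
import Groth.Agent.Lib.Helper7.ModSES

set_option autoImplicit false
universe u
open CategoryTheory CategoryTheory.Limits
open SGA7

namespace Groth.Agent.S8710


open Groth.Agent.Lib.helper7

/-- Let f : B' → B be a surjective map of R-algebras with B' flat over R, g : C → B a map of R-algebras,
P = B' ×_B C their fibre product (the equalizer of f ∘ pr₁ and g ∘ pr₂ in B' × C), S an R-algebra
and n a natural number. If Tor_i^R(C, S) = 0 for 0 < i < n and Tor_i^R(B, S) = 0 for 0 < i ≤ n, then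
Tor_i^R(P, S) = 0 for 0 < i < n. Here Tor_i^R(M, S) is the i-th left derived functor of M ⊗_R − on
R-modules, evaluated at S. (The published statement asks the vanishing for B only in degrees 0 < i <
n; the published proof and the corollary following it use it in degrees 0 < i ≤ n, which this row
assumes.) -/
theorem result (R B' B C S : Type u) [CommRing R] [CommRing B'] [CommRing B]
    [CommRing C] [CommRing S] [Algebra R B'] [Algebra R B] [Algebra R C] [Algebra R S]
    (f : B' →ₐ[R] B) (hf : Function.Surjective f) (g : C →ₐ[R] B) [Module.Flat R B'] (n : ℕ)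
    (hC : ∀ i : ℕ, 0 < i → i < n →
      IsZero (((Tor (ModuleCat.{u} R) i).obj (ModuleCat.of R C)).obj (ModuleCat.of R S)))
    (hB : ∀ i : ℕ, 0 < i → i ≤ n →
      IsZero (((Tor (ModuleCat.{u} R) i).obj (ModuleCat.of R B)).obj (ModuleCat.of R S))) :
    letI P := AlgHom.equalizer (f.comp (AlgHom.fst R B' C)) (g.comp (AlgHom.snd R B' C))
    ∀ i : ℕ, 0 < i → i < n →
      IsZero (((Tor (ModuleCat.{u} R) i).obj (ModuleCat.of R ↥P)).obj (ModuleCat.of R S)) := by
  intro i h0 hi
  classical
  let P : Subalgebra R (B' × C) :=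
    AlgHom.equalizer (f.comp (AlgHom.fst R B' C)) (g.comp (AlgHom.snd R B' C))
  -- K = ker f
  let K : Submodule R B' := LinearMap.ker f.toLinearMap
  -- first sequence 0 → K → B' → B → 0
  have hex1 : Function.Exact K.subtype f.toLinearMap := by
    intro y
    change f y = 0 ↔ y ∈ Set.range K.subtype
    rw [Submodule.coe_subtype, Subtype.range_coe]
    exact Iff.rfl
  have hS1 := ModSES.mkSES_shortExact K.subtype f.toLinearMap hex1 K.injective_subtype hf
  -- second sequence 0 → K → P → C → 0
  let ι : K →ₗ[R] P :=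
    { toFun := fun k => ⟨((k : B'), (0 : C)), by
        have hk : f (k : B') = 0 := k.2
        change (f.comp (AlgHom.fst R B' C)) ((k : B'), (0 : C)) =
          (g.comp (AlgHom.snd R B' C)) ((k : B'), (0 : C))
        simp [hk]⟩
      map_add' := fun a b => by
        apply Subtype.ext
        simp
      map_smul' := fun r a => by
        apply Subtype.ext
        simp }
  let π : P →ₗ[R] C := (LinearMap.snd R B' C).comp P.val.toLinearMap
  have hι : Function.Injective ι := by
    intro a b hab
    apply Subtype.ext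
    have := congrArg (fun p : P => (p : B' × C).1) hab
    exact this
  have hπ : Function.Surjective π := by
    intro c
    obtain ⟨b', hb'⟩ := hf (g c)
    exact ⟨⟨(b', c), by
      change (f.comp (AlgHom.fst R B' C)) (b', c) = (g.comp (AlgHom.snd R B' C)) (b', c)
      simpa using hb'⟩, rfl⟩
  have hex2 : Function.Exact ι π := by
    intro y
    constructor
    · intro hy
      have hy2 : (y : B' × C).2 = 0 := hy
      have hy1 : f (y : B' × C).1 = g (y : B' × C).2 := y.2
      refine ⟨⟨(y : B' × C).1, ?_⟩, ?_⟩
      · change f (y : B' × C).1 = 0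
        rw [hy1, hy2, map_zero]
      · apply Subtype.ext
        apply Prod.ext
        · rfl
        · exact hy2.symm
    · rintro ⟨k, rfl⟩
      rfl
  have hS2 := ModSES.mkSES_shortExact ι π hex2 hι hπ
  obtain ⟨j, rfl⟩ : ∃ j, i = j + 1 := ⟨i - 1, by omega⟩
  -- Tor_{j+1}(K, S) = 0
  have hK : IsZero ((TorAPI.T (j + 1) (ModuleCat.of R K)).obj (ModuleCat.of R S)) := by
    haveI : Module.Flat R (ModSES.mkSES K.subtype f.toLinearMap hex1).X₂ :=
      inferInstanceAs (Module.Flat R B')
    have h := TorAPI.isZero_succ_iff₁ hS1 (ModuleCat.of R S) (j + 1)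
      (TorAPI.isZero_T_flat _ _ (j + 1)) (TorAPI.isZero_T_flat _ _ j)
    exact h.1 (hB (j + 2) (by omega) (by omega))
  have hCz : IsZero ((TorAPI.T (j + 1) (ModuleCat.of R C)).obj (ModuleCat.of R S)) :=
    hC (j + 1) h0 hi
  have hE := TorAPI.T₁_exact₂ hS2 (ModuleCat.of R S) (j + 1)
  exact hE.isZero_X₂ (hK.eq_of_src _ _) (hCz.eq_of_tgt _ _)

end Groth.Agent.S8710
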