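import Groth.Statements.S8719
import Mathlib
import Groth.Agent.S10826

set_option autoImplicit false
universe u
open VanCyc

namespace Groth.Agent.S8719

section Aux
open MvPowerSeries
variable {R : Type*} [CommRing R] {n : ℕ}

theorem cc_map (θ : MvPowerSeries (Fin n) R →ₐ[R] MvPowerSeries (Fin n) R)
    (h0 : ∀ i, constantCoeff (θ (X i)) = 0) (h : MvPowerSeries (Fin n) R) :
    constantCoeff (θ h) = constantCoeff h := by
  have h1 : constantCoeff (h - C (constantCoeff h)) = 0 := by
    rw [map_sub, constantCoeff_C, sub_self]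
  have h2 : (1 : ℕ∞) ≤ (h - C (constantCoeff h)).order :=
    one_le_order_iff_constCoeff_eq_zero.mpr h1
  have h3 := Groth.Agent.S10826.order_le_map θ h0 1 _ (by rw [Nat.cast_one]; exact h2)
  rw [Nat.cast_one] at h3
  have h4 : constantCoeff (θ (h - C (constantCoeff h))) = 0 :=
    one_le_order_iff_constCoeff_eq_zero.mp h3
  have h5 : θ (C (constantCoeff h)) = C (constantCoeff h) := θ.commutes _
  rw [map_sub, h5, map_sub, constantCoeff_C, sub_eq_zero] at h4
  exact h4

end Aux



/-- The formal computation carried out in its proof: let k be a field and f a power series in k[[x_0,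
..., x_n]] with vanishing constant and linear terms whose degree-two part is a non-degenerate
quadratic form (the Gram determinant of its polar bilinear form is a unit). Then the partial
derivatives of f generate the maximal ideal of k[[x_0, ..., x_n]] (so f together with its partial
derivatives cut out the origin with multiplicity one). -/
theorem result (k : Type u) [Field k] (n : ℕ)
    (f : MvPowerSeries (Fin (n + 1)) k) (hf : VanCyc.NondegQuadSeries f) :
    Ideal.span (Set.range fun i : Fin (n + 1) => MvPowerSeries.pderiv k i f) =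
      IsLocalRing.maximalIdeal (MvPowerSeries (Fin (n + 1)) k) := by
  classical
  obtain ⟨⟨hc0, hlin⟩, hnd⟩ := hf
  have hcc : ∀ i : Fin (n + 1), MvPowerSeries.constantCoeff (MvPowerSeries.pderiv k i f) = 0 := by
    intro i
    rw [← MvPowerSeries.coeff_zero_eq_constantCoeff_apply, MvPowerSeries.coeff_pderiv, zero_add,
      hlin i, zero_mul]
  have hsub : MvPowerSeries.HasSubst (fun i : Fin (n + 1) => MvPowerSeries.pderiv k i f) :=
    MvPowerSeries.hasSubst_of_constantCoeff_zero hcc
  obtain ⟨φ, hφdef⟩ : ∃ φ : MvPowerSeries (Fin (n + 1)) k →ₐ[k] MvPowerSeries (Fin (n + 1)) k,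
      φ = MvPowerSeries.substAlgHom (R := k) (S := k) (σ := Fin (n + 1)) (τ := Fin (n + 1)) hsub :=
    ⟨_, rfl⟩
  have hφX : ∀ i, φ (MvPowerSeries.X i) = MvPowerSeries.pderiv k i f := fun i => by
    rw [hφdef, MvPowerSeries.substAlgHom_X]
  have h0 : ∀ i, MvPowerSeries.constantCoeff (φ (MvPowerSeries.X i)) = 0 := fun i => by
    rw [hφX]; exact hcc i
  have hM : (Matrix.of fun i j : Fin (n + 1) =>
      MvPowerSeries.coeff (Finsupp.single j 1) (φ (MvPowerSeries.X i))) =
      VanCyc.polarMatrix (VanCyc.quadPart f) := by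
    ext i j
    rw [Matrix.of_apply, hφX, MvPowerSeries.coeff_pderiv]
    by_cases hij : i = j
    · subst hij
      have e1 : (Finsupp.single i 1 + Finsupp.single i 1 : Fin (n + 1) →₀ ℕ) =
          Finsupp.single i 2 := by rw [← Finsupp.single_add]
      simp only [VanCyc.polarMatrix, VanCyc.quadPart, ↓reduceIte]
      rw [e1, Finsupp.single_eq_same, Nat.cast_one, one_add_one_eq_two, mul_comm]
    · have hji : ¬ j = i := fun h => hij h.symm
      have e2 : (Finsupp.single j 1 : Fin (n + 1) →₀ ℕ) i = 0 := by
        rw [Finsupp.single_apply, if_neg hji]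
      rw [e2, Nat.cast_zero, zero_add, mul_one]
      by_cases hlt : i < j
      · simp only [VanCyc.polarMatrix, VanCyc.quadPart, hij, hlt, ↓reduceIte]
        rw [add_comm (Finsupp.single j 1 : Fin (n + 1) →₀ ℕ) (Finsupp.single i 1)]
      · have hgt : j < i := lt_of_le_of_ne (not_lt.mp hlt) hji
        simp only [VanCyc.polarMatrix, VanCyc.quadPart, hij, hji, hlt, hgt, ↓reduceIte]
  have hJ : IsUnit (Matrix.det (Matrix.of fun i j : Fin (n + 1) =>
      MvPowerSeries.coeff (Finsupp.single j 1) (φ (MvPowerSeries.X i)))) := by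
    rw [hM]; exact hnd
  have hbij : Function.Bijective φ :=
    Groth.Agent.S10826.result k (n + 1) (Nat.le_add_left 1 n) φ h0 hJ
  apply le_antisymm
  · rw [Ideal.span_le]
    rintro _ ⟨i, rfl⟩
    show MvPowerSeries.pderiv k i f ∈ IsLocalRing.maximalIdeal _
    rw [IsLocalRing.mem_maximalIdeal, mem_nonunits_iff, MvPowerSeries.isUnit_iff_constantCoeff,
      hcc i]
    exact not_isUnit_zero
  · intro g hg
    rw [IsLocalRing.mem_maximalIdeal, mem_nonunits_iff,
      MvPowerSeries.isUnit_iff_constantCoeff] at hg
    have hg0 : MvPowerSeries.constantCoeff g = 0 := by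
      by_contra h; exact hg (IsUnit.mk0 _ h)
    obtain ⟨h, rfl⟩ := hbij.2 g
    have hh0 : MvPowerSeries.constantCoeff h = 0 := by rw [← cc_map φ h0 h]; exact hg0
    have hd := Groth.Agent.S10826.decomp_eq h hh0
    rw [hd, map_sum]
    apply Ideal.sum_mem
    intro i _
    rw [map_mul, hφX]
    exact Ideal.mul_mem_right _ _ (Ideal.subset_span ⟨i, rfl⟩)


end Groth.Agent.S8719
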