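import Groth.Statements.S8720
import Mathlib

set_option autoImplicit false
universe u
open VanCyc

namespace Groth.Agent.S8720

open MvPowerSeries

/-- Decomposition: a power series all of whose monomials involve a variable from the finite set
`T` lies in `A * (X t : t ∈ T)`, provided every "shifted" series lies in `A`. -/
theorem mem_mul_span {σ : Type*} {k : Type*} [CommRing k] (A : Ideal (MvPowerSeries σ k))
    (T : Finset σ) :
    ∀ h : MvPowerSeries σ k, (∀ d, coeff d h ≠ 0 → ∃ t ∈ T, d t ≠ 0) →
      (∀ t ∈ T, ∀ c : MvPowerSeries σ k,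
        (∀ d, coeff d c ≠ 0 → coeff (d + Finsupp.single t 1) h ≠ 0) → c ∈ A) →
      h ∈ A * Ideal.span ((fun t => (X t : MvPowerSeries σ k)) '' (T : Set σ)) := by
  classical
  induction T using Finset.induction_on with
  | empty =>
    intro h hh _
    have : h = 0 := by
      ext d
      by_contra hne
      obtain ⟨t, ht, _⟩ := hh d hne
      simp at ht
    rw [this]
    exact zero_mem _
  | insert a T ha ih =>
    intro h hh hA
    let h₁ : MvPowerSeries σ k := fun d => if d a ≠ 0 then coeff d h else 0
    have hc1 : ∀ d, coeff d h₁ = if d a ≠ 0 then coeff d h else 0 := fun d => rfl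
    have e : h = h₁ + (h - h₁) := by ring
    rw [e]
    refine add_mem ?_ ?_
    · have hdvd : X a ∣ h₁ := by
        rw [X_dvd_iff]
        intro d hd
        rw [hc1, if_neg (by simpa using hd)]
      obtain ⟨c, hc⟩ := hdvd
      have hcA : c ∈ A := by
        refine hA a (Finset.mem_insert_self a T) c ?_
        intro d hd
        have h2 : coeff (Finsupp.single a 1 + d) h₁ = coeff d c := by
          rw [hc, X_def, coeff_add_monomial_mul, one_mul]
        rw [add_comm, hc1] at h2
        rw [if_pos (by simp)] at h2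
        rw [h2]
        exact hd
      rw [hc]
      exact Ideal.mul_mem_mul_rev hcA (Ideal.subset_span ⟨a, by simp, rfl⟩)
    · have hc2 : ∀ d, coeff d (h - h₁) = if d a ≠ 0 then 0 else coeff d h := by
        intro d
        rw [map_sub, hc1]
        split_ifs <;> simp
      have := ih (h - h₁) (by
        intro d hd
        rw [hc2] at hd
        split_ifs at hd with hda
        · exact absurd rfl hd
        · obtain ⟨t, ht, hdt⟩ := hh d hd
          rcases Finset.mem_insert.mp ht with rfl | ht'
          · exact absurd hdt hda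
          · exact ⟨t, ht', hdt⟩) (by
        intro t ht c hcc
        refine hA t (Finset.mem_insert_of_mem ht) c ?_
        intro d hd
        have := hcc d hd
        rw [hc2] at this
        split_ifs at this with hda
        · exact absurd rfl this
        · exact this)
      refine Ideal.mul_mono_right (Ideal.span_mono (Set.image_mono ?_)) this
      simp

theorem eq_single_none {τ : Type*} (d : Option τ →₀ ℕ) (hd : ∀ j, d (some j) = 0) :
    d = Finsupp.single none (d none) := by
  ext s
  cases s with
  | none => simp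
  | some j => simp [hd j]

theorem mem_M_of {τ : Type*} [Fintype τ] {k : Type*} [CommRing k]
    (g : MvPowerSeries (Option τ) k)
    (h0 : coeff 0 g = 0) (h1 : coeff (Finsupp.single none 1) g = 0) :
    g ∈ Ideal.span ({X none ^ 2} ∪
      Set.range fun j : τ => (X (some j) : MvPowerSeries (Option τ) k)) := by
  classical
  let g₁ : MvPowerSeries (Option τ) k := fun d => if 2 ≤ d none then coeff d g else 0
  have hc1 : ∀ d, coeff d g₁ = if 2 ≤ d none then coeff d g else 0 := fun d => rfl
  have e : g = g₁ + (g - g₁) := by ring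
  rw [e]
  refine add_mem ?_ ?_
  · have hdvd : (X none : MvPowerSeries (Option τ) k) ^ 2 ∣ g₁ := by
      rw [X_pow_dvd_iff]
      intro d hd
      rw [hc1, if_neg (by omega)]
    obtain ⟨c, hc⟩ := hdvd
    rw [hc]
    exact Ideal.mul_mem_right _ _ (Ideal.subset_span (Or.inl rfl))
  · have hc2 : ∀ d, coeff d (g - g₁) = if 2 ≤ d none then 0 else coeff d g := by
      intro d
      rw [map_sub, hc1]
      split_ifs <;> simp
    have := mem_mul_span (⊤ : Ideal _) (Finset.univ.image (some : τ → Option τ)) (g - g₁) (by
      intro d hd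
      rw [hc2] at hd
      split_ifs at hd with hdn
      · exact absurd rfl hd
      · by_contra hcon
        push Not at hcon
        have hz : ∀ j, d (some j) = 0 := fun j => hcon (some j) (by simp)
        have hd' := eq_single_none d hz
        have : d none = 0 ∨ d none = 1 := by omega
        rcases this with h | h
        · rw [h, Finsupp.single_zero] at hd'
          rw [hd'] at hd
          exact hd h0
        · rw [h] at hd'
          rw [hd'] at hd
          exact hd h1) (fun _ _ _ _ => Submodule.mem_top)
    rw [Ideal.top_mul] at this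
    refine Ideal.span_mono ?_ this
    rintro _ ⟨t, ht, rfl⟩
    simp only [Finset.coe_image, Finset.coe_univ, Set.image_univ, Set.mem_range] at ht
    obtain ⟨j, rfl⟩ := ht
    exact Or.inr ⟨j, rfl⟩

theorem mem_mM_of {τ : Type*} [Fintype τ] {k : Type*} [CommRing k]
    (g : MvPowerSeries (Option τ) k)
    (hlow : ∀ d : Option τ →₀ ℕ, d.degree ≤ 1 → coeff d g = 0)
    (h2 : coeff (Finsupp.single none 2) g = 0) :
    g ∈ RingHom.ker (constantCoeff (σ := Option τ) (R := k)) *
      Ideal.span ({X none ^ 2} ∪
        Set.range fun j : τ => (X (some j) : MvPowerSeries (Option τ) k)) := by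
  classical
  let g₁ : MvPowerSeries (Option τ) k := fun d => if 3 ≤ d none then coeff d g else 0
  have hc1 : ∀ d, coeff d g₁ = if 3 ≤ d none then coeff d g else 0 := fun d => rfl
  have e : g = g₁ + (g - g₁) := by ring
  rw [e]
  refine add_mem ?_ ?_
  · have hdvd : (X none : MvPowerSeries (Option τ) k) ^ 3 ∣ g₁ := by
      rw [X_pow_dvd_iff]
      intro d hd
      rw [hc1, if_neg (by omega)]
    obtain ⟨c, hc⟩ := hdvd
    have : g₁ = X none * (X none ^ 2 * c) := by rw [hc]; ring
    rw [this]
    refine Ideal.mul_mem_mul ?_ (Ideal.mul_mem_right _ _ (Ideal.subset_span (Or.inl rfl)))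
    rw [RingHom.mem_ker]
    exact constantCoeff_X none
  · have hc2 : ∀ d, coeff d (g - g₁) = if 3 ≤ d none then 0 else coeff d g := by
      intro d
      rw [map_sub, hc1]
      split_ifs <;> simp
    have hne : ∀ d, coeff d (g - g₁) ≠ 0 → coeff d g ≠ 0 := by
      intro d hd
      rw [hc2] at hd
      split_ifs at hd with hdn
      · exact absurd rfl hd
      · exact hd
    have := mem_mul_span (RingHom.ker (constantCoeff (σ := Option τ) (R := k)))
      (Finset.univ.image (some : τ → Option τ)) (g - g₁) (by
      intro d hd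
      have hdg := hne d hd
      rw [hc2] at hd
      split_ifs at hd with hdn
      · exact absurd rfl hd
      · by_contra hcon
        push Not at hcon
        have hz : ∀ j, d (some j) = 0 := fun j => hcon (some j) (by simp)
        have hd' := eq_single_none d hz
        have hdeg : d.degree = d none := by
          rw [hd', Finsupp.degree_single, Finsupp.single_eq_same]
        have h2' : 2 ≤ d.degree := by
          by_contra hlt
          exact hdg (hlow d (by omega))
        have : d none = 2 := by omega
        rw [this] at hd'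
        rw [hd'] at hdg
        exact hdg h2) (by
      intro t _ c hcc
      rw [RingHom.mem_ker]
      by_contra hne0
      have h3 := hne _ (hcc 0 hne0)
      rw [zero_add] at h3
      exact h3 (hlow _ (by rw [Finsupp.degree_single])))
    refine Ideal.mul_mono_right (Ideal.span_mono ?_) this
    rintro _ ⟨t, ht, rfl⟩
    simp only [Finset.coe_image, Finset.coe_univ, Set.image_univ, Set.mem_range] at ht
    obtain ⟨j, rfl⟩ := ht
    exact Or.inr ⟨j, rfl⟩

/-- The ideal of series without constant and `x₀`-linear term. -/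
def Kideal (τ : Type*) (k : Type*) [CommRing k] : Ideal (MvPowerSeries (Option τ) k) where
  carrier := {g | coeff 0 g = 0 ∧ coeff (Finsupp.single none 1) g = 0}
  add_mem' := by
    rintro a b ⟨ha0, ha1⟩ ⟨hb0, hb1⟩
    exact ⟨by rw [map_add, ha0, hb0, add_zero], by rw [map_add, ha1, hb1, add_zero]⟩
  zero_mem' := ⟨map_zero _, map_zero _⟩
  smul_mem' := by
    rintro c g ⟨hg0, hg1⟩
    classical
    refine ⟨?_, ?_⟩
    · change constantCoeff (c * g) = 0
      rw [map_mul]
      have : constantCoeff g = 0 := hg0
      rw [this, mul_zero]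
    · rw [smul_eq_mul, coeff_mul]
      apply Finset.sum_eq_zero
      intro p hp
      have hp' : p.1 + p.2 = Finsupp.single none 1 := Finset.HasAntidiagonal.mem_antidiagonal.mp hp
      have hz : ∀ j, p.2 (some j) = 0 := by
        intro j
        have := DFunLike.congr_fun hp' (some j)
        simp only [Finsupp.coe_add, Pi.add_apply] at this
        rw [Finsupp.single_eq_of_ne (by simp)] at this
        omega
      have h2 := eq_single_none p.2 hz
      have hn : p.2 none ≤ 1 := by
        have := DFunLike.congr_fun hp' none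
        simp only [Finsupp.coe_add, Pi.add_apply, Finsupp.single_eq_same] at this
        omega
      rcases (by omega : p.2 none = 0 ∨ p.2 none = 1) with h | h
      · rw [h, Finsupp.single_zero] at h2
        rw [h2, hg0, mul_zero]
      · rw [h] at h2
        rw [h2, hg1, mul_zero]

theorem M_le_K {τ : Type*} {k : Type*} [CommRing k] [Nontrivial k] :
    Ideal.span ({X none ^ 2} ∪
      Set.range fun j : τ => (X (some j) : MvPowerSeries (Option τ) k)) ≤ Kideal τ k := by
  classical
  rw [Ideal.span_le]
  rintro x (rfl | ⟨j, rfl⟩)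
  · refine ⟨?_, ?_⟩
    · rw [coeff_X_pow, if_neg]
      exact (Finsupp.single_ne_zero.mpr (by norm_num)).symm
    · rw [coeff_X_pow, if_neg]
      exact (Finsupp.single_injective none).ne (by norm_num)
  · refine ⟨coeff_zero_X _, ?_⟩
    rw [coeff_X, if_neg]
    intro h
    have := DFunLike.congr_fun h none
    simp at this


/-- The formal computation carried out in its proof: let k be a field of characteristic 2, m a natural
number, and f a power series over k in the variables x_0 and x_i, x_i' (i = 1, ..., m) whose terms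
of degree less than 3 are exactly those of x_0^2 + x_1 x_1' + ... + x_m x_m'. Then the ideal
generated by f and all its partial derivatives is the ideal generated by x_0^2 and the x_i, x_i',
and the quotient of the power series ring by this ideal is two-dimensional over k. (Characteristic 2
is what makes the derivative in x_0 lose its linear term.) -/
theorem result (k : Type u) [Field k] [CharP k 2] (m : ℕ)
    (f : MvPowerSeries (Option (Fin m ⊕ Fin m)) k)
    (hf : ∀ d : Option (Fin m ⊕ Fin m) →₀ ℕ, d.degree < 3 →
      MvPowerSeries.coeff d f = MvPowerSeries.coeff d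
        (MvPowerSeries.X none ^ 2 +
          ∑ i : Fin m, MvPowerSeries.X (some (Sum.inl i)) * MvPowerSeries.X (some (Sum.inr i)))) :
    Ideal.span ({f} ∪ Set.range fun i : Option (Fin m ⊕ Fin m) => MvPowerSeries.pderiv k i f) =
      Ideal.span ({MvPowerSeries.X none ^ 2} ∪
        Set.range fun j : Fin m ⊕ Fin m => (MvPowerSeries.X (some j) : MvPowerSeries (Option (Fin m ⊕ Fin m)) k)) ∧
    Module.finrank k (MvPowerSeries (Option (Fin m ⊕ Fin m)) k ⧸
      Ideal.span ({MvPowerSeries.X none ^ 2} ∪
        Set.range fun j : Fin m ⊕ Fin m => (MvPowerSeries.X (some j) : MvPowerSeries (Option (Fin m ⊕ Fin m)) k))) = 2 := by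
  classical
  -- the quadratic part and the remainder
  obtain ⟨q, hq⟩ : ∃ q : MvPowerSeries (Option (Fin m ⊕ Fin m)) k, q = X none ^ 2 +
      ∑ i : Fin m, X (some (Sum.inl i)) * X (some (Sum.inr i)) := ⟨_, rfl⟩
  rw [← hq] at hf
  obtain ⟨g, hgdef⟩ : ∃ g, g = f - q := ⟨_, rfl⟩
  have hfqg : f = q + g := by rw [hgdef]; ring
  have hg : ∀ d : Option (Fin m ⊕ Fin m) →₀ ℕ, d.degree < 3 → coeff d g = 0 := by
    intro d hd
    rw [hgdef, map_sub, hf d hd, sub_self]
  have hdg : ∀ (s : Option (Fin m ⊕ Fin m)) (d : Option (Fin m ⊕ Fin m) →₀ ℕ),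
      d.degree < 2 → coeff d (pderiv k s g) = 0 := by
    intro s d hd
    rw [coeff_pderiv, hg, zero_mul]
    rw [map_add, Finsupp.degree_single]
    omega
  -- derivatives of q
  have h2 : ((2 : ℕ) : MvPowerSeries (Option (Fin m ⊕ Fin m)) k) = 0 := by
    have : ((2 : ℕ) : k) = 0 := CharP.cast_eq_zero k 2
    rw [← map_natCast (C (σ := Option (Fin m ⊕ Fin m)) (R := k)), this, map_zero]
  have hq_none : pderiv k none q = 0 := by
    rw [hq, map_add, map_sum, pderiv_pow, h2, zero_mul, zero_mul, zero_add]
    apply Finset.sum_eq_zero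
    intro i _
    rw [Derivation.leibniz, pderiv_X_of_ne (by simp), pderiv_X_of_ne (by simp), smul_zero,
      smul_zero, add_zero]
  have hq_inl : ∀ i₀, pderiv k (some (Sum.inl i₀)) q = X (some (Sum.inr i₀)) := by
    intro i₀
    rw [hq, map_add, map_sum, pderiv_pow, h2, zero_mul, zero_mul, zero_add]
    rw [Finset.sum_eq_single i₀]
    · rw [Derivation.leibniz, pderiv_X_self, pderiv_X_of_ne (by simp), smul_zero, zero_add,
        smul_eq_mul, mul_one]
    · intro i _ hi
      rw [Derivation.leibniz, pderiv_X_of_ne (by simp), pderiv_X_of_ne (by simpa using hi),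
        smul_zero, smul_zero, add_zero]
    · simp
  have hq_inr : ∀ i₀, pderiv k (some (Sum.inr i₀)) q = X (some (Sum.inl i₀)) := by
    intro i₀
    rw [hq, map_add, map_sum, pderiv_pow, h2, zero_mul, zero_mul, zero_add]
    rw [Finset.sum_eq_single i₀]
    · rw [Derivation.leibniz, pderiv_X_self, pderiv_X_of_ne (by simp), smul_zero, add_zero,
        smul_eq_mul, mul_one]
    · intro i _ hi
      rw [Derivation.leibniz, pderiv_X_of_ne (by simpa using hi), pderiv_X_of_ne (by simp),
        smul_zero, smul_zero, add_zero]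
    · simp
  -- abbreviations
  obtain ⟨M, hM⟩ : ∃ M : Ideal (MvPowerSeries (Option (Fin m ⊕ Fin m)) k), M =
      Ideal.span ({X none ^ 2} ∪ Set.range fun j : Fin m ⊕ Fin m =>
        (X (some j) : MvPowerSeries (Option (Fin m ⊕ Fin m)) k)) := ⟨_, rfl⟩
  rw [← hM]
  have hX0 : (X none : MvPowerSeries (Option (Fin m ⊕ Fin m)) k) ^ 2 ∈ M := by
    rw [hM]; exact Ideal.subset_span (Or.inl rfl)
  have hXj : ∀ j, (X (some j) : MvPowerSeries (Option (Fin m ⊕ Fin m)) k) ∈ M := by
    intro j; rw [hM]; exact Ideal.subset_span (Or.inr ⟨j, rfl⟩)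
  have hO2 : ∀ h : MvPowerSeries (Option (Fin m ⊕ Fin m)) k,
      (∀ d : Option (Fin m ⊕ Fin m) →₀ ℕ, d.degree < 2 → coeff d h = 0) → h ∈ M := by
    intro h hh
    rw [hM]
    exact mem_M_of h (hh 0 (by simp)) (hh _ (by rw [Finsupp.degree_single]; norm_num))
  have hqM : q ∈ M := by
    rw [hq]
    refine add_mem hX0 (Ideal.sum_mem _ fun i _ => Ideal.mul_mem_left _ _ (hXj _))
  have hgM : g ∈ M := hO2 g fun d hd => hg d (by omega)
  obtain ⟨𝔪, h𝔪⟩ : ∃ 𝔪 : Ideal (MvPowerSeries (Option (Fin m ⊕ Fin m)) k), 𝔪 =
      RingHom.ker (constantCoeff (σ := Option (Fin m ⊕ Fin m)) (R := k)) := ⟨_, rfl⟩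
  have hXm : ∀ s, (X s : MvPowerSeries (Option (Fin m ⊕ Fin m)) k) ∈ 𝔪 := by
    intro s
    rw [h𝔪, RingHom.mem_ker]
    exact constantCoeff_X s
  have hO3 : ∀ h : MvPowerSeries (Option (Fin m ⊕ Fin m)) k,
      (∀ d : Option (Fin m ⊕ Fin m) →₀ ℕ, d.degree < 3 → coeff d h = 0) → h ∈ 𝔪 * M := by
    intro h hh
    rw [hM, h𝔪]
    exact mem_mM_of h (fun d hd => hh d (by omega))
      (hh _ (by rw [Finsupp.degree_single]; norm_num))
  obtain ⟨J, hJ⟩ : ∃ J : Ideal (MvPowerSeries (Option (Fin m ⊕ Fin m)) k), J =
      Ideal.span ({f} ∪ Set.range fun i : Option (Fin m ⊕ Fin m) => pderiv k i f) := ⟨_, rfl⟩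
  rw [← hJ]
  have hfJ : f ∈ J := by rw [hJ]; exact Ideal.subset_span (Or.inl rfl)
  have hdJ : ∀ s, pderiv k s f ∈ J := by
    intro s; rw [hJ]; exact Ideal.subset_span (Or.inr ⟨s, rfl⟩)
  refine ⟨le_antisymm ?_ ?_, ?_⟩
  · -- J ≤ M
    rw [hJ, Ideal.span_le]
    rintro x (rfl | ⟨s, rfl⟩)
    · rw [hfqg]; exact add_mem hqM hgM
    · change pderiv k s f ∈ M
      rw [hfqg, map_add]
      refine add_mem ?_ (hO2 _ (hdg s))
      rcases s with _ | (i | i)
      · rw [hq_none]; exact zero_mem _
      · rw [hq_inl]; exact hXj _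
      · rw [hq_inr]; exact hXj _
  · -- M ≤ J by Nakayama
    have hfg : (M : Submodule _ _).FG := by
      rw [hM]
      exact Submodule.fg_span ((Set.finite_singleton _).union (Set.finite_range _))
    have hjac : 𝔪 ≤ Ideal.jacobson ⊥ := by
      refine le_trans ?_ (IsLocalRing.maximalIdeal_le_jacobson ⊥)
      intro x hx
      rw [h𝔪, RingHom.mem_ker] at hx
      rw [IsLocalRing.mem_maximalIdeal, mem_nonunits_iff, MvPowerSeries.isUnit_iff_constantCoeff,
        hx]
      exact not_isUnit_zero
    refine Submodule.le_of_le_smul_of_le_jacobson_bot hfg hjac ?_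
    have hx0 : (X none : MvPowerSeries (Option (Fin m ⊕ Fin m)) k) ^ 2 ∈ J ⊔ 𝔪 • M := by
      have : (X none : MvPowerSeries (Option (Fin m ⊕ Fin m)) k) ^ 2 =
          f - (∑ i : Fin m, X (some (Sum.inl i)) * X (some (Sum.inr i)) + g) := by
        rw [hfqg, hq]; ring
      rw [this]
      refine sub_mem (Submodule.mem_sup_left hfJ) (Submodule.mem_sup_right ?_)
      rw [smul_eq_mul]
      refine add_mem (Ideal.sum_mem _ fun i _ => Ideal.mul_mem_mul (hXm _) (hXj _)) (hO3 g hg)
    have hO2' : ∀ h : MvPowerSeries (Option (Fin m ⊕ Fin m)) k,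
        (∀ d : Option (Fin m ⊕ Fin m) →₀ ℕ, d.degree < 2 → coeff d h = 0) → h ∈ J ⊔ 𝔪 • M := by
      intro h hh
      have : h = (C (coeff (Finsupp.single none 2) h)) * X none ^ 2 +
          (h - (C (coeff (Finsupp.single none 2) h)) * X none ^ 2) := by ring
      rw [this]
      refine add_mem (Ideal.mul_mem_left _ _ hx0) (Submodule.mem_sup_right ?_)
      rw [smul_eq_mul, hM, h𝔪]
      refine mem_mM_of _ ?_ ?_
      · intro d hd
        rw [map_sub, hh d (by omega), zero_sub, neg_eq_zero, coeff_C_mul, coeff_X_pow, if_neg,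
          mul_zero]
        rintro rfl
        rw [Finsupp.degree_single] at hd
        omega
      · rw [map_sub, coeff_C_mul, coeff_X_pow, if_pos rfl, mul_one, sub_self]
    rw [hM, Ideal.span_le]
    rintro x (rfl | ⟨j, rfl⟩)
    · rw [← hM]; exact hx0
    · rw [← hM]
      change X (some j) ∈ J ⊔ 𝔪 • M
      rcases j with i | i
      · have : (X (some (Sum.inl i)) : MvPowerSeries (Option (Fin m ⊕ Fin m)) k) =
            pderiv k (some (Sum.inr i)) f - pderiv k (some (Sum.inr i)) g := by
          rw [hfqg, map_add, hq_inr]; ring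
        rw [this]
        exact sub_mem (Submodule.mem_sup_left (hdJ _)) (hO2' _ (hdg _))
      · have : (X (some (Sum.inr i)) : MvPowerSeries (Option (Fin m ⊕ Fin m)) k) =
            pderiv k (some (Sum.inl i)) f - pderiv k (some (Sum.inl i)) g := by
          rw [hfqg, map_add, hq_inl]; ring
        rw [this]
        exact sub_mem (Submodule.mem_sup_left (hdJ _)) (hO2' _ (hdg _))
  · -- dimension
    let ψ : MvPowerSeries (Option (Fin m ⊕ Fin m)) k →ₗ[k] k × k :=
      (coeff (R := k) (0 : Option (Fin m ⊕ Fin m) →₀ ℕ)).prod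
        (coeff (R := k) (Finsupp.single none 1))
    have hker : LinearMap.ker ψ = M.restrictScalars k := by
      ext x
      rw [LinearMap.mem_ker, Submodule.restrictScalars_mem]
      change (coeff 0 x, coeff (Finsupp.single none 1) x) = 0 ↔ _
      rw [Prod.mk_eq_zero]
      constructor
      · rintro ⟨h0, h1⟩
        rw [hM]; exact mem_M_of x h0 h1
      · intro hx
        rw [hM] at hx
        exact M_le_K hx
    have hsurj : Function.Surjective ψ := by
      rintro ⟨a, b⟩
      refine ⟨monomial 0 a + monomial (Finsupp.single none 1) b, ?_⟩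
      change (coeff 0 _, coeff (Finsupp.single none 1) _) = _
      have hne : (Finsupp.single none 1 : Option (Fin m ⊕ Fin m) →₀ ℕ) ≠ 0 :=
        Finsupp.single_ne_zero.mpr one_ne_zero
      rw [map_add, map_add, coeff_monomial_same, coeff_monomial_same,
        coeff_monomial_ne hne.symm, coeff_monomial_ne hne, add_zero, zero_add]
    have e1 := (Submodule.Quotient.restrictScalarsEquiv k M).symm
    have e2 := Submodule.quotEquivOfEq _ _ hker.symm
    have e3 := ψ.quotKerEquivOfSurjective hsurj
    rw [(e1.trans (e2.trans e3)).finrank_eq, Module.finrank_prod, Module.finrank_self]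

end Groth.Agent.S8720
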