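import Groth.Statements.S8722
import Mathlib
import Groth.Agent.S3213

set_option autoImplicit false
universe u v
open SGA7II

namespace Groth.Agent.S8722

set_option linter.style.haveILetI false

open Groth.Agent.Lib.helper24.SigmaLinLib Groth.Agent.S3213

theorem main (k : Type u) [Field k] [IsSepClosed k] (p : ℕ)
    [Fact p.Prime] [CharP k p] (r : ℕ) (hr : 0 < r) (V : Type v) [AddCommGroup V] [Module k V]
    [FiniteDimensional k V] (φ : V →+ V) (hφ : ∀ (c : k) (v : V), φ (c • v) = c ^ (p ^ r) • φ v)
    (hss : Submodule.span k (Set.range φ) = ⊤) (n : ℕ) (_hn : 0 < n) (v : V) :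
    φ^[n] v = v ↔ ∃ (s : Finset V) (c : V → k), (∀ w ∈ s, φ w = w) ∧
      (∀ w ∈ s, c w ^ ((p ^ r) ^ n) = c w) ∧ v = ∑ w ∈ s, c w • w := by
  classical
  set T := mkT p r φ hφ with hT
  have hTφ : ∀ v, T v = φ v := fun v => rfl
  have hTiter : ∀ (m : ℕ) (v : V), (⇑T)^[m] v = φ^[m] v := fun m v => rfl
  have hfix : ∀ w : V, φ w = w → ∀ m : ℕ, φ^[m] w = w := by
    intro w hw m
    induction m with
    | zero => rfl
    | succ m ih => rw [Function.iterate_succ_apply', ih, hw]
  constructor
  · intro hv
    have htop := fixedSpan_eq_top T hss (h2_sep k p r hr) (h3_sep k p r hr)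
    obtain ⟨b, hb⟩ := exists_fixed_basis T htop
    have hbφ : ∀ i, φ (b i) = b i := hb
    let c := b.repr v
    have hsum : v = ∑ i, c i • b i := (b.sum_repr v).symm
    have hφsum : v = ∑ i, (c i) ^ ((p ^ r) ^ n) • b i := by
      conv_lhs => rw [← hv, hsum, ← hTiter, iterate_sum']
      refine Finset.sum_congr rfl fun i _ => ?_
      rw [iterate_smul', sigma_iter, hTiter, hfix _ (hbφ i)]
    have hc : ∀ i, c i ^ ((p ^ r) ^ n) = c i := by
      intro i
      have h3 := congrArg (fun w => b.repr w i) hφsum
      simp only [map_sum, map_smul, Finsupp.coe_finsetSum, Finsupp.coe_smul, Finset.sum_apply,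
        Pi.smul_apply, Module.Basis.repr_self, smul_eq_mul] at h3
      rw [Finset.sum_eq_single i] at h3
      · rw [Finsupp.single_eq_same, mul_one] at h3
        exact h3.symm
      · intro j _ hj
        rw [Finsupp.single_eq_of_ne hj.symm, mul_zero]
      · intro hi; exact absurd (Finset.mem_univ i) hi
    refine ⟨Finset.univ.image b, fun w => if h : ∃ i, b i = w then c h.choose else 0, ?_, ?_, ?_⟩
    · intro w hw
      obtain ⟨i, -, rfl⟩ := Finset.mem_image.mp hw
      exact hbφ i
    · intro w hw
      obtain ⟨i, -, rfl⟩ := Finset.mem_image.mp hw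
      have h : ∃ j, b j = b i := ⟨i, rfl⟩
      change (if h : ∃ j, b j = b i then c h.choose else 0) ^ ((p ^ r) ^ n) =
        (if h : ∃ j, b j = b i then c h.choose else 0)
      rw [dif_pos h]
      exact hc _
    · rw [Finset.sum_image (fun i _ j _ hij => b.injective hij)]
      conv_lhs => rw [hsum]
      refine Finset.sum_congr rfl fun i _ => ?_
      have h : ∃ j, b j = b i := ⟨i, rfl⟩
      change c i • b i = (if h : ∃ j, b j = b i then c h.choose else 0) • b i
      rw [dif_pos h]
      have : h.choose = i := b.injective h.choose_spec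
      rw [this]
  · rintro ⟨s, c, hs, hc, rfl⟩
    rw [← hTiter, iterate_sum']
    refine Finset.sum_congr rfl fun w hw => ?_
    rw [iterate_smul', sigma_iter, hTiter, hfix _ (hs w hw), hc w hw]



/-- Let k be a separably closed field of characteristic p > 0, q = p^r with r >= 1, V a
finite-dimensional k-vector space and phi : V -> V additive with phi(c v) = c^q phi(v), semisimple
in the sense that its image spans V. Then for n >= 1 the fixed vectors of the n-th iterate of phi
are exactly the finite linear combinations of phi-fixed vectors with coefficients c satisfying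
c^(q^n) = c; that is, the fixed space of phi^n is obtained from the F_q-space of phi-fixed vectors
by extending scalars to F_{q^n}. -/
theorem result (k : Type u) [Field k] [IsSepClosed k] (p : ℕ)
    [Fact p.Prime] [CharP k p] (r : ℕ) (hr : 0 < r) (V : Type v) [AddCommGroup V] [Module k V]
    [FiniteDimensional k V] (φ : V →+ V) (hφ : ∀ (c : k) (v : V), φ (c • v) = c ^ (p ^ r) • φ v)
    (hss : Submodule.span k (Set.range φ) = ⊤) (n : ℕ) (hn : 0 < n) (v : V) :
    φ^[n] v = v ↔ ∃ (s : Finset V) (c : V → k), (∀ w ∈ s, φ w = w) ∧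
      (∀ w ∈ s, c w ^ ((p ^ r) ^ n) = c w) ∧ v = ∑ w ∈ s, c w • w := by
  exact main k p r hr V φ hφ hss n hn v

end Groth.Agent.S8722
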