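import Groth.Statements.S8724
import Mathlib

set_option autoImplicit false
open LefPen

namespace Groth.Agent.S8724

section
variable {A : Type*} [CommRing A] (y z : A)

theorem diag_sum (g : ℕ → ℕ → A) (N M : ℕ) (h : N < M) :
    ∑ i ∈ Finset.range M, ∑ j ∈ Finset.range M, (if i + j = N then g i j else 0)
      = ∑ i ∈ Finset.range (N + 1), g i (N - i) := by
  have inner : ∀ i ∈ Finset.range M, ∑ j ∈ Finset.range M, (if i + j = N then g i j else 0)
      = if i ≤ N then g i (N - i) else 0 := by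
    intro i _
    split_ifs with hi
    · rw [Finset.sum_eq_single (N - i)]
      · rw [if_pos (by omega)]
      · intro j _ hj; rw [if_neg (by omega)]
      · intro hn; exfalso; apply hn; rw [Finset.mem_range]; omega
    · apply Finset.sum_eq_zero
      intro j _; rw [if_neg (by omega)]
  rw [Finset.sum_congr rfl inner, ← Finset.sum_filter]
  congr 1
  ext i
  rw [Finset.mem_filter, Finset.mem_range, Finset.mem_range]
  omega

theorem L (κ : ℕ → A) (M : ℕ) : ∀ N, N ≤ M →
    ∑ k ∈ Finset.range (N + 1), κ k * (y ^ k - z ^ k)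
      = (y - z) * ∑ i ∈ Finset.range M, ∑ j ∈ Finset.range M,
          (if i + j + 1 ≤ N then κ (i + j + 1) * y ^ i * z ^ j else 0) := by
  intro N
  induction N with
  | zero =>
    intro _
    rw [Finset.sum_range_one, pow_zero, pow_zero, sub_self, mul_zero]
    rw [Finset.sum_eq_zero, mul_zero]
    intro i _
    apply Finset.sum_eq_zero
    intro j _
    rw [if_neg (by omega)]
  | succ N ih =>
    intro hN
    rw [Finset.sum_range_succ, ih (by omega)]
    have hT : ∑ i ∈ Finset.range M, ∑ j ∈ Finset.range M,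
          (if i + j + 1 ≤ N + 1 then κ (i + j + 1) * y ^ i * z ^ j else 0)
        = ∑ i ∈ Finset.range M, ∑ j ∈ Finset.range M,
          (if i + j + 1 ≤ N then κ (i + j + 1) * y ^ i * z ^ j else 0)
          + κ (N + 1) * ∑ i ∈ Finset.range (N + 1), y ^ i * z ^ (N - i) := by
      rw [Finset.mul_sum, ← diag_sum (fun i j => κ (N + 1) * (y ^ i * z ^ j)) N M (by omega),
        ← Finset.sum_add_distrib]
      apply Finset.sum_congr rfl
      intro i _
      rw [← Finset.sum_add_distrib]
      apply Finset.sum_congr rfl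
      intro j _
      by_cases h1 : i + j + 1 ≤ N
      · rw [if_pos h1, if_pos (by omega), if_neg (by omega), add_zero]
      · by_cases h2 : i + j = N
        · rw [if_neg h1, if_pos (by omega), if_pos h2, zero_add, h2, mul_assoc]
        · rw [if_neg h1, if_neg (by omega), if_neg h2, add_zero]
    rw [hT, mul_add]
    congr 1
    have hg : (∑ i ∈ Finset.range (N + 1), y ^ i * z ^ (N - i)) * (y - z)
        = y ^ (N + 1) - z ^ (N + 1) := by
      have := geom_sum₂_mul y z (N + 1)
      simpa using this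
    rw [← hg]; ring

theorem I1 (n : ℕ) : (1 + y) ^ n - (1 + z) ^ n
    = (y - z) * ∑ i ∈ Finset.range (n + 1), ∑ j ∈ Finset.range (n + 1),
        (if i + j + 1 ≤ n then ((n.choose (i + j + 1) : ℕ) : A) * y ^ i * z ^ j else 0) := by
  rw [← L y z (fun k => ((n.choose k : ℕ) : A)) (n+1) n (by omega)]
  rw [add_comm 1 y, add_comm 1 z, add_pow, add_pow, ← Finset.sum_sub_distrib]
  apply Finset.sum_congr rfl
  intro k _
  simp only [one_pow, mul_one]
  ring

theorem expand (a : ℕ) : (1 + y) ^ a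
    = 1 + y * ∑ k ∈ Finset.range a, ((a.choose (k + 1) : ℕ) : A) * y ^ k := by
  rw [add_comm 1 y, add_pow, Finset.sum_range_succ', Finset.mul_sum]
  simp only [one_pow, mul_one, pow_zero, Nat.choose_zero_right, Nat.cast_one]
  rw [add_comm]
  congr 1
  apply Finset.sum_congr rfl
  intro k _
  ring

theorem I2 (N : ℕ) : (1 + y) ^ (N + 1) * z - (1 + z) ^ (N + 1) * y
    = (y - z) * (-1 + ∑ i ∈ Finset.range (N + 1 + 1), ∑ j ∈ Finset.range (N + 1 + 1),
        (if 1 ≤ i ∧ 1 ≤ j ∧ i + j ≤ N + 1 then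
          (((N + 1).choose (i + j) : ℕ) : A) * y ^ i * z ^ j else 0)) := by
  have hU : ∑ i ∈ Finset.range (N + 1 + 1), ∑ j ∈ Finset.range (N + 1 + 1),
        (if 1 ≤ i ∧ 1 ≤ j ∧ i + j ≤ N + 1 then
          (((N + 1).choose (i + j) : ℕ) : A) * y ^ i * z ^ j else 0)
      = y * z * ∑ i ∈ Finset.range (N + 1), ∑ j ∈ Finset.range (N + 1),
        (if i + j + 1 ≤ N then (((N + 1).choose (i + j + 1 + 1) : ℕ) : A) * y ^ i * z ^ j
          else 0) := by
    rw [Finset.sum_range_succ' _ (N + 1)]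
    have h0 : ∑ j ∈ Finset.range (N + 1 + 1),
        (if 1 ≤ 0 ∧ 1 ≤ j ∧ 0 + j ≤ N + 1 then
          (((N + 1).choose (0 + j) : ℕ) : A) * y ^ 0 * z ^ j else 0) = 0 := by
      apply Finset.sum_eq_zero
      intro j _
      rw [if_neg (by omega)]
    rw [h0, add_zero, Finset.mul_sum]
    apply Finset.sum_congr rfl
    intro i _
    rw [Finset.sum_range_succ' _ (N + 1)]
    rw [if_neg (by omega), add_zero, Finset.mul_sum]
    apply Finset.sum_congr rfl
    intro j _
    by_cases h1 : i + j + 1 ≤ N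
    · rw [if_pos h1, if_pos (by omega)]
      have h2 : i + 1 + (j + 1) = i + j + 1 + 1 := by omega
      rw [h2]
      ring
    · rw [if_neg h1, if_neg (by omega), mul_zero]
  rw [hU, expand y (N + 1), expand z (N + 1)]
  have hL := L y z (fun k => (((N + 1).choose (k + 1) : ℕ) : A)) (N + 1) N (by omega)
  have hS : (∑ k ∈ Finset.range (N + 1), (((N + 1).choose (k + 1) : ℕ) : A) * y ^ k)
      - (∑ k ∈ Finset.range (N + 1), (((N + 1).choose (k + 1) : ℕ) : A) * z ^ k)
      = (y - z) * ∑ i ∈ Finset.range (N + 1), ∑ j ∈ Finset.range (N + 1),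
        (if i + j + 1 ≤ N then (((N + 1).choose (i + j + 1 + 1) : ℕ) : A) * y ^ i * z ^ j
          else 0) := by
    rw [← hL, ← Finset.sum_sub_distrib]
    apply Finset.sum_congr rfl
    intro k _
    ring
  linear_combination (y * z) * hS

end



/-- The algebraic identity established in its proof: let a >= 1 and work in Z[y, z]. Then (1+y)^(a-1) -
(1+z)^(a-1) = (y - z) * (sum over i, j >= 0 with i + j + 1 <= a - 1 of C(a-1, i+j+1) y^i z^j), and
(1+y)^a z - (1+z)^a y = (y - z) * (-1 + sum over i, j >= 1 with i + j <= a of C(a, i+j) y^i z^j).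
Consequently the rational function -((1+y)^(a-1) - (1+z)^(a-1)) / ((1+y)^a z - (1+z)^a y), the
generating series of the primitive middle Hodge numbers of smooth hypersurfaces of degree a, equals
(sum_{i,j >= 0} C(a-1, i+j+1) y^i z^j) / (1 - sum_{i,j >= 1} C(a, i+j) y^i z^j). -/
theorem result (a : ℕ) (ha : 1 ≤ a) :
    let y : MvPolynomial (Fin 2) ℤ := MvPolynomial.X 0
    let z : MvPolynomial (Fin 2) ℤ := MvPolynomial.X 1
    ((1 + y) ^ (a - 1) - (1 + z) ^ (a - 1) =
      (y - z) * ∑ i ∈ Finset.range a, ∑ j ∈ Finset.range a,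
        if i + j + 1 ≤ a - 1 then ((a - 1).choose (i + j + 1) : MvPolynomial (Fin 2) ℤ) * y ^ i * z ^ j else 0) ∧
    ((1 + y) ^ a * z - (1 + z) ^ a * y =
      (y - z) * (-1 + ∑ i ∈ Finset.range (a + 1), ∑ j ∈ Finset.range (a + 1),
        if 1 ≤ i ∧ 1 ≤ j ∧ i + j ≤ a then (a.choose (i + j) : MvPolynomial (Fin 2) ℤ) * y ^ i * z ^ j else 0)) := by
  intro y z
  obtain ⟨n, rfl⟩ : ∃ n, a = n + 1 := ⟨a - 1, by omega⟩
  refine ⟨?_, ?_⟩
  · simp only [Nat.add_sub_cancel]
    exact I1 y z n
  · exact I2 y z n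


end Groth.Agent.S8724
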