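import Groth.Statements.S8732
import Mathlib

set_option autoImplicit false
open LefPen

namespace Groth.Agent.S8732

noncomputable section

open MvPowerSeries

/-- exponent with coordinates u, v -/
def mk (u v : ℕ) : Fin 2 →₀ ℕ := Finsupp.single 0 u + Finsupp.single 1 v

theorem mk_zero (u v : ℕ) : mk u v 0 = u := by simp [mk]

theorem mk_one (u v : ℕ) : mk u v 1 = v := by simp [mk]

theorem ext2 {m n : Fin 2 →₀ ℕ} (h0 : m 0 = n 0) (h1 : m 1 = n 1) : m = n := by
  ext i
  fin_cases i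
  · exact h0
  · exact h1

theorem mk_eta (m : Fin 2 →₀ ℕ) : mk (m 0) (m 1) = m :=
  ext2 (mk_zero _ _) (mk_one _ _)

theorem mk_add (u v u' v' : ℕ) : mk u v + mk u' v' = mk (u + u') (v + v') := by
  apply ext2
  · rw [Finsupp.add_apply, mk_zero, mk_zero, mk_zero]
  · rw [Finsupp.add_apply, mk_one, mk_one, mk_one]

theorem add_eq_mk {m1 m2 : Fin 2 →₀ ℕ} {p q : ℕ} (h : m1 + m2 = mk p q) :
    m1 0 + m2 0 = p ∧ m1 1 + m2 1 = q := by
  constructor
  · have := congrArg (fun f : Fin 2 →₀ ℕ => f 0) h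
    simpa [mk_zero] using this
  · have := congrArg (fun f : Fin 2 →₀ ℕ => f 1) h
    simpa [mk_one] using this

/-- nonnegative coefficients -/
def NN (f : MvPowerSeries (Fin 2) ℤ) : Prop := ∀ m, 0 ≤ coeff m f

theorem nn_mul {f g : MvPowerSeries (Fin 2) ℤ} (hf : NN f) (hg : NN g) : NN (f * g) := by
  classical
  intro m
  rw [coeff_mul]
  exact Finset.sum_nonneg (fun p _ => mul_nonneg (hf _) (hg _))

theorem supp_mul {f g : MvPowerSeries (Fin 2) ℤ} (hf : NN f) (hg : NN g) (m : Fin 2 →₀ ℕ) :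
    coeff m (f * g) ≠ 0 ↔ ∃ m1 m2, m1 + m2 = m ∧ coeff m1 f ≠ 0 ∧ coeff m2 g ≠ 0 := by
  classical
  rw [coeff_mul, Ne, Finset.sum_eq_zero_iff_of_nonneg (fun p _ => mul_nonneg (hf _) (hg _))]
  constructor
  · intro h
    push Not at h
    obtain ⟨p, hp, hne⟩ := h
    exact ⟨p.1, p.2, Finset.HasAntidiagonal.mem_antidiagonal.mp hp, left_ne_zero_of_mul hne,
      right_ne_zero_of_mul hne⟩
  · rintro ⟨m1, m2, hsum, h1, h2⟩ h
    exact mul_ne_zero h1 h2 (h (m1, m2) (Finset.HasAntidiagonal.mem_antidiagonal.mpr hsum))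

theorem nn_sum {ι : Type*} (s : Finset ι) (f : ι → MvPowerSeries (Fin 2) ℤ)
    (hf : ∀ i ∈ s, NN (f i)) : NN (∑ i ∈ s, f i) := by
  intro m
  rw [map_sum]
  exact Finset.sum_nonneg (fun i hi => hf i hi m)

theorem supp_sum {ι : Type*} (s : Finset ι) (f : ι → MvPowerSeries (Fin 2) ℤ)
    (hf : ∀ i ∈ s, NN (f i)) (m : Fin 2 →₀ ℕ) :
    coeff m (∑ i ∈ s, f i) ≠ 0 ↔ ∃ i ∈ s, coeff m (f i) ≠ 0 := by
  rw [map_sum, Ne, Finset.sum_eq_zero_iff_of_nonneg (fun i hi => hf i hi m)]
  constructor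
  · intro h
    push Not at h
    exact h
  · rintro ⟨i, hi, hne⟩ h
    exact hne (h i hi)

theorem nn_one : NN (1 : MvPowerSeries (Fin 2) ℤ) := by
  classical
  intro m
  rw [coeff_one]
  split_ifs <;> norm_num

theorem supp_one (m : Fin 2 →₀ ℕ) : coeff m (1 : MvPowerSeries (Fin 2) ℤ) ≠ 0 ↔ m = 0 := by
  classical
  rw [coeff_one]
  constructor
  · intro h
    by_contra h0
    exact h (if_neg h0)
  · intro h
    rw [if_pos h]
    norm_num

theorem nn_prod {ι : Type*} [DecidableEq ι] (s : Finset ι) (f : ι → MvPowerSeries (Fin 2) ℤ)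
    (hf : ∀ i ∈ s, NN (f i)) : NN (∏ i ∈ s, f i) := by
  induction s using Finset.induction_on with
  | empty => rw [Finset.prod_empty]; exact nn_one
  | insert a s ha ih =>
    rw [Finset.prod_insert ha]
    exact nn_mul (hf a (Finset.mem_insert_self a s))
      (ih (fun i hi => hf i (Finset.mem_insert_of_mem hi)))

theorem supp_prod {ι : Type*} [DecidableEq ι] (s : Finset ι) (f : ι → MvPowerSeries (Fin 2) ℤ)
    (hf : ∀ i ∈ s, NN (f i)) (m : Fin 2 →₀ ℕ) :
    coeff m (∏ i ∈ s, f i) ≠ 0 ↔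
      ∃ g : ι → (Fin 2 →₀ ℕ), ∑ i ∈ s, g i = m ∧ ∀ i ∈ s, coeff (g i) (f i) ≠ 0 := by
  induction s using Finset.induction_on generalizing m with
  | empty =>
    rw [Finset.prod_empty, supp_one]
    constructor
    · intro hm
      exact ⟨fun _ => 0, by rw [Finset.sum_empty, hm], fun i hi => absurd hi (Finset.notMem_empty i)⟩
    · rintro ⟨g, hg, -⟩
      rw [Finset.sum_empty] at hg
      exact hg.symm
  | insert a s ha ih =>
    have hfs : ∀ i ∈ s, NN (f i) := fun i hi => hf i (Finset.mem_insert_of_mem hi)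
    rw [Finset.prod_insert ha, supp_mul (hf a (Finset.mem_insert_self a s)) (nn_prod s f hfs)]
    constructor
    · rintro ⟨m1, m2, hsum, h1, h2⟩
      obtain ⟨g, hg, hg'⟩ := (ih hfs m2).1 h2
      refine ⟨Function.update g a m1, ?_, ?_⟩
      · rw [Finset.sum_insert ha, Function.update_self, ← hsum, ← hg]
        congr 1
        apply Finset.sum_congr rfl
        intro i hi
        rw [Function.update_of_ne (fun h => ha (by rw [← h]; exact hi))]
      · intro i hi
        rcases Finset.mem_insert.mp hi with h | hi'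
        · rw [h, Function.update_self]; exact h1
        · rw [Function.update_of_ne (fun h => ha (by rw [← h]; exact hi'))]; exact hg' i hi'
    · rintro ⟨g, hg, hg'⟩
      rw [Finset.sum_insert ha] at hg
      refine ⟨g a, ∑ i ∈ s, g i, hg, hg' a (Finset.mem_insert_self a s), ?_⟩
      exact (ih hfs _).2 ⟨g, rfl, fun i hi => hg' i (Finset.mem_insert_of_mem hi)⟩

theorem single_eq_mk0 : (Finsupp.single 0 1 : Fin 2 →₀ ℕ) = mk 1 0 := by
  apply ext2
  · rw [mk_zero]; simp
  · rw [mk_one]; simp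

theorem single_eq_mk1 : (Finsupp.single 1 1 : Fin 2 →₀ ℕ) = mk 0 1 := by
  apply ext2
  · rw [mk_zero]; simp
  · rw [mk_one]; simp

theorem zero_eq_mk : (0 : Fin 2 →₀ ℕ) = mk 0 0 := by
  apply ext2
  · rw [mk_zero]; rfl
  · rw [mk_one]; rfl

theorem nn_one_add_X (s : Fin 2) : NN (1 + X s : MvPowerSeries (Fin 2) ℤ) := by
  classical
  intro m
  rw [map_add, coeff_one, coeff_X]
  split_ifs <;> norm_num

theorem supp_one_add_X (s : Fin 2) (m : Fin 2 →₀ ℕ) :
    coeff m (1 + X s : MvPowerSeries (Fin 2) ℤ) ≠ 0 ↔ m = 0 ∨ m = Finsupp.single s 1 := by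
  classical
  constructor
  · intro h
    by_contra hcon
    push Not at hcon
    apply h
    rw [map_add, coeff_one, coeff_X, if_neg hcon.1, if_neg hcon.2, add_zero]
  · intro h
    have h1 : 0 ≤ coeff m (1 : MvPowerSeries (Fin 2) ℤ) := nn_one m
    have h2 : 0 ≤ coeff m (X s : MvPowerSeries (Fin 2) ℤ) := by
      rw [coeff_X]; split_ifs <;> norm_num
    rw [map_add]
    rcases h with h | h
    · have : coeff m (1 : MvPowerSeries (Fin 2) ℤ) = 1 := by rw [coeff_one, if_pos h]
      omega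
    · have : coeff m (X s : MvPowerSeries (Fin 2) ℤ) = 1 := by rw [coeff_X, if_pos h]
      omega

/-- the series (1+y)(1+z) -/
def G : MvPowerSeries (Fin 2) ℤ := (1 + X 0) * (1 + X 1)

theorem nn_G : NN G := nn_mul (nn_one_add_X 0) (nn_one_add_X 1)

theorem supp_G (m : Fin 2 →₀ ℕ) : coeff m G ≠ 0 ↔ m 0 ≤ 1 ∧ m 1 ≤ 1 := by
  unfold G
  rw [supp_mul (nn_one_add_X 0) (nn_one_add_X 1)]
  constructor
  · rintro ⟨m1, m2, hsum, h1, h2⟩
    rw [supp_one_add_X, single_eq_mk0, zero_eq_mk] at h1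
    rw [supp_one_add_X, single_eq_mk1, zero_eq_mk] at h2
    rw [← hsum]
    rcases h1 with h1 | h1 <;> rcases h2 with h2 | h2 <;>
      rw [h1, h2, mk_add, mk_zero, mk_one] <;> omega
  · rintro ⟨h0, h1⟩
    refine ⟨mk (m 0) 0, mk 0 (m 1), ?_, ?_, ?_⟩
    · rw [mk_add, add_zero, zero_add, mk_eta]
    · rw [supp_one_add_X, single_eq_mk0, zero_eq_mk]
      have : m 0 = 0 ∨ m 0 = 1 := by omega
      rcases this with h | h
      · left; rw [h]
      · right; rw [h]
    · rw [supp_one_add_X, single_eq_mk1, zero_eq_mk]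
      have : m 1 = 0 ∨ m 1 = 1 := by omega
      rcases this with h | h
      · left; rw [h]
      · right; rw [h]

theorem nn_G_pow (n : ℕ) : NN (G ^ n) := by
  induction n with
  | zero => rw [pow_zero]; exact nn_one
  | succ n ih => rw [pow_succ]; exact nn_mul ih nn_G

theorem supp_G_pow (n : ℕ) (m : Fin 2 →₀ ℕ) : coeff m (G ^ n) ≠ 0 ↔ m 0 ≤ n ∧ m 1 ≤ n := by
  induction n generalizing m with
  | zero =>
    rw [pow_zero, supp_one]
    constructor
    · intro h; rw [h]; exact ⟨le_refl _, le_refl _⟩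
    · rintro ⟨h0, h1⟩
      apply ext2
      · have : (0 : Fin 2 →₀ ℕ) 0 = 0 := rfl
        omega
      · have : (0 : Fin 2 →₀ ℕ) 1 = 0 := rfl
        omega
  | succ n ih =>
    rw [pow_succ, supp_mul (nn_G_pow n) nn_G]
    constructor
    · rintro ⟨m1, m2, hsum, h1, h2⟩
      rw [ih] at h1
      rw [supp_G] at h2
      rw [← hsum, Finsupp.add_apply, Finsupp.add_apply]
      omega
    · rintro ⟨h0, h1⟩
      refine ⟨mk (m 0 - (m 0 - n)) (m 1 - (m 1 - n)), mk (m 0 - n) (m 1 - n), ?_, ?_, ?_⟩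
      · rw [mk_add]
        apply ext2
        · rw [mk_zero]; omega
        · rw [mk_one]; omega
      · rw [ih, mk_zero, mk_one]; omega
      · rw [supp_G, mk_zero, mk_one]; omega

theorem term_eq (c u v : ℕ) :
    ((c : ℕ) : MvPowerSeries (Fin 2) ℤ) * X 0 ^ u * X 1 ^ v = monomial (mk u v) (c : ℤ) := by
  rw [X_pow_eq, X_pow_eq]
  have : ((c : ℕ) : MvPowerSeries (Fin 2) ℤ) = monomial 0 (c : ℤ) := rfl
  rw [this, monomial_mul_monomial, monomial_mul_monomial]
  simp [mk]

theorem coeff_double_sum (B1 B2 : ℕ) (cond : ℕ → ℕ → Prop) [∀ u v, Decidable (cond u v)]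
    (c : ℕ → ℕ → ℕ) (hB : ∀ u v, cond u v → u < B1 ∧ v < B2) (m : Fin 2 →₀ ℕ) :
    coeff m (∑ u ∈ Finset.range B1, ∑ v ∈ Finset.range B2,
      if cond u v then ((c u v : ℕ) : MvPowerSeries (Fin 2) ℤ) * X 0 ^ u * X 1 ^ v else 0)
      = if cond (m 0) (m 1) then (c (m 0) (m 1) : ℤ) else 0 := by
  classical
  have key : ∀ u v, coeff m (if cond u v then
      ((c u v : ℕ) : MvPowerSeries (Fin 2) ℤ) * X 0 ^ u * X 1 ^ v else 0)
      = if u = m 0 ∧ v = m 1 ∧ cond u v then (c u v : ℤ) else 0 := by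
    intro u v
    by_cases hc : cond u v
    · rw [if_pos hc, term_eq, coeff_monomial]
      by_cases hm : m = mk u v
      · rw [if_pos hm, if_pos]
        rw [hm, mk_zero, mk_one]; exact ⟨rfl, rfl, hc⟩
      · rw [if_neg hm, if_neg]
        rintro ⟨h0, h1, -⟩
        apply hm
        rw [h0, h1, mk_eta]
    · rw [if_neg hc, map_zero, if_neg]
      exact fun h => hc h.2.2
  rw [map_sum]
  simp_rw [map_sum, key]
  by_cases hc : cond (m 0) (m 1)
  · rw [if_pos hc]
    obtain ⟨h1, h2⟩ := hB _ _ hc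
    rw [Finset.sum_eq_single (m 0), Finset.sum_eq_single (m 1)]
    · rw [if_pos ⟨rfl, rfl, hc⟩]
    · intro v _ hv
      rw [if_neg]; exact fun h => hv h.2.1
    · intro h; exact absurd (Finset.mem_range.mpr h2) h
    · intro u _ hu
      apply Finset.sum_eq_zero
      intro v _
      rw [if_neg]; exact fun h => hu h.1
    · intro h; exact absurd (Finset.mem_range.mpr h1) h
  · rw [if_neg hc]
    apply Finset.sum_eq_zero
    intro u _
    apply Finset.sum_eq_zero
    intro v _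
    rw [if_neg]
    rintro ⟨h0, h1, h2⟩
    rw [h0, h1] at h2
    exact hc h2

/-- the denominators -/
def Pser (b : ℕ) : MvPowerSeries (Fin 2) ℤ :=
  ∑ u ∈ Finset.range (b + 1), ∑ v ∈ Finset.range (b + 1),
    if 1 ≤ u ∧ 1 ≤ v ∧ u + v ≤ b then
      (b.choose (u + v) : MvPowerSeries (Fin 2) ℤ) * X 0 ^ u * X 1 ^ v else 0

/-- the numerators -/
def Nser (b : ℕ) : MvPowerSeries (Fin 2) ℤ :=
  ∑ u ∈ Finset.range b, ∑ v ∈ Finset.range b,
    if u + v + 1 ≤ b - 1 then
      ((b - 1).choose (u + v + 1) : MvPowerSeries (Fin 2) ℤ) * X 0 ^ u * X 1 ^ v else 0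

theorem coeff_Pser (b : ℕ) (m : Fin 2 →₀ ℕ) :
    coeff m (Pser b) =
      if 1 ≤ m 0 ∧ 1 ≤ m 1 ∧ m 0 + m 1 ≤ b then (b.choose (m 0 + m 1) : ℤ) else 0 :=
  coeff_double_sum (b + 1) (b + 1) (fun u v => 1 ≤ u ∧ 1 ≤ v ∧ u + v ≤ b)
    (fun u v => b.choose (u + v)) (by intro u v h; omega) m

theorem coeff_Nser (b : ℕ) (m : Fin 2 →₀ ℕ) :
    coeff m (Nser b) =
      if m 0 + m 1 + 1 ≤ b - 1 then ((b - 1).choose (m 0 + m 1 + 1) : ℤ) else 0 :=
  coeff_double_sum b b (fun u v => u + v + 1 ≤ b - 1)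
    (fun u v => (b - 1).choose (u + v + 1)) (by intro u v h; omega) m

theorem nn_Pser (b : ℕ) : NN (Pser b) := by
  intro m
  rw [coeff_Pser]
  split_ifs
  · exact Int.natCast_nonneg _
  · exact le_refl _

theorem nn_Nser (b : ℕ) : NN (Nser b) := by
  intro m
  rw [coeff_Nser]
  split_ifs
  · exact Int.natCast_nonneg _
  · exact le_refl _

theorem supp_Pser (b : ℕ) (m : Fin 2 →₀ ℕ) :
    coeff m (Pser b) ≠ 0 ↔ 1 ≤ m 0 ∧ 1 ≤ m 1 ∧ m 0 + m 1 ≤ b := by
  rw [coeff_Pser]
  constructor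
  · intro h
    by_contra hc
    exact h (if_neg hc)
  · intro h
    rw [if_pos h]
    have := Nat.choose_pos h.2.2
    exact_mod_cast this.ne'

theorem supp_Nser (b : ℕ) (m : Fin 2 →₀ ℕ) :
    coeff m (Nser b) ≠ 0 ↔ m 0 + m 1 + 1 ≤ b - 1 := by
  rw [coeff_Nser]
  constructor
  · intro h
    by_contra hc
    exact h (if_neg hc)
  · intro h
    rw [if_pos h]
    have := Nat.choose_pos h
    exact_mod_cast this.ne'

/-- the support of the hypersurface series of degree b -/
def T (b : ℕ) (m : Fin 2 →₀ ℕ) : Prop :=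
  ∃ k, k ≤ m 0 ∧ k ≤ m 1 ∧ m 0 + m 1 + 2 ≤ (k + 1) * b

theorem T_rec (b : ℕ) (m : Fin 2 →₀ ℕ) :
    T b m ↔ (m 0 + m 1 + 1 ≤ b - 1) ∨
      ∃ m1 m2, m1 + m2 = m ∧ (1 ≤ m1 0 ∧ 1 ≤ m1 1 ∧ m1 0 + m1 1 ≤ b) ∧ T b m2 := by
  constructor
  · rintro ⟨k, hk0, hk1, hk⟩
    rcases Nat.eq_zero_or_pos k with rfl | hkpos
    · left
      rw [zero_add, one_mul] at hk
      omega
    · right
      obtain ⟨k', rfl⟩ : ∃ k', k = k' + 1 := ⟨k - 1, by omega⟩
      have e1 : (k' + 1 + 1) * b = (k' + 1) * b + b := by ring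
      by_cases hb : b ≤ 1
      · exfalso
        have := Nat.mul_le_mul_left (k' + 1 + 1) hb
        omega
      · have hb2 : 2 ≤ b := by omega
        have e2 : (k' + 1) * 2 ≤ (k' + 1) * b := Nat.mul_le_mul_left _ hb2
        obtain ⟨Xv, hX⟩ : ∃ Xv, Xv = (k' + 1) * b := ⟨_, rfl⟩
        rw [← hX] at e1 e2
        rw [e1] at hk
        by_cases hD : m 0 + m 1 ≤ Xv
        · refine ⟨mk 1 1, mk (m 0 - 1) (m 1 - 1), ?_, ?_, ⟨k', ?_, ?_, ?_⟩⟩
          · rw [mk_add]
            apply ext2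
            · rw [mk_zero]; omega
            · rw [mk_one]; omega
          · rw [mk_zero, mk_one]; omega
          · rw [mk_zero]; omega
          · rw [mk_one]; omega
          · rw [mk_zero, mk_one, ← hX]; omega
        · obtain ⟨D, hDdef⟩ : ∃ D, D = m 0 + m 1 + 2 - Xv := ⟨_, rfl⟩
          by_cases hcase : m 0 - k' ≤ D - 1
          · refine ⟨mk (m 0 - k') (D - (m 0 - k')), mk k' (m 1 - (D - (m 0 - k'))), ?_, ?_,
              ⟨k', ?_, ?_, ?_⟩⟩
            · rw [mk_add]
              apply ext2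
              · rw [mk_zero]; omega
              · rw [mk_one]; omega
            · rw [mk_zero, mk_one]; omega
            · rw [mk_zero]
            · rw [mk_one]; omega
            · rw [mk_zero, mk_one, ← hX]; omega
          · refine ⟨mk (D - 1) 1, mk (m 0 - (D - 1)) (m 1 - 1), ?_, ?_, ⟨k', ?_, ?_, ?_⟩⟩
            · rw [mk_add]
              apply ext2
              · rw [mk_zero]; omega
              · rw [mk_one]; omega
            · rw [mk_zero, mk_one]; omega
            · rw [mk_zero]; omega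
            · rw [mk_one]; omega
            · rw [mk_zero, mk_one, ← hX]; omega
  · rintro (h | ⟨m1, m2, hsum, ⟨hu, hv, huv⟩, ⟨k', hk0, hk1, hk⟩⟩)
    · exact ⟨0, Nat.zero_le _, Nat.zero_le _, by rw [zero_add, one_mul]; omega⟩
    · have e1 : (k' + 1 + 1) * b = (k' + 1) * b + b := by ring
      refine ⟨k' + 1, ?_, ?_, ?_⟩
      · rw [← hsum, Finsupp.add_apply]; omega
      · rw [← hsum, Finsupp.add_apply]; omega
      · rw [← hsum, Finsupp.add_apply, Finsupp.add_apply, e1]; omega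

theorem H_analysis (b : ℕ) (Hb : MvPowerSeries (Fin 2) ℤ) (hH : (1 - Pser b) * Hb = Nser b) :
    ∀ n, ∀ m : Fin 2 →₀ ℕ, m 0 + m 1 = n → (0 ≤ coeff m Hb ∧ (coeff m Hb ≠ 0 ↔ T b m)) := by
  classical
  have hrec : Hb = Nser b + Pser b * Hb := by rw [← hH]; ring
  intro n
  induction n using Nat.strong_induction_on with
  | _ n ih =>
    intro m hm
    have hcoeff : coeff m Hb = coeff m (Nser b) +
        ∑ p ∈ Finset.HasAntidiagonal.antidiagonal m, coeff p.1 (Pser b) * coeff p.2 Hb := by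
      conv_lhs => rw [hrec]
      rw [map_add, coeff_mul]
    have hdeg : ∀ p ∈ Finset.HasAntidiagonal.antidiagonal m, coeff p.1 (Pser b) ≠ 0 → p.2 0 + p.2 1 < n := by
      intro p hp h0
      have hsupp := (supp_Pser b p.1).1 h0
      have hsum := Finset.HasAntidiagonal.mem_antidiagonal.mp hp
      have e0 := congrArg (fun f : Fin 2 →₀ ℕ => f 0) hsum
      have e1 := congrArg (fun f : Fin 2 →₀ ℕ => f 1) hsum
      simp only [Finsupp.add_apply] at e0 e1
      omega
    have hterm : ∀ p ∈ Finset.HasAntidiagonal.antidiagonal m, 0 ≤ coeff p.1 (Pser b) * coeff p.2 Hb := by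
      intro p hp
      by_cases h0 : coeff p.1 (Pser b) = 0
      · rw [h0, zero_mul]
      · exact mul_nonneg (nn_Pser b _) (ih _ (hdeg p hp h0) p.2 rfl).1
    have hN := nn_Nser b m
    have hsumnn := Finset.sum_nonneg hterm
    refine ⟨by rw [hcoeff]; exact add_nonneg hN hsumnn, ?_⟩
    rw [hcoeff, T_rec]
    constructor
    · intro hne
      by_cases hN0 : coeff m (Nser b) = 0
      · right
        rw [hN0, zero_add, Ne, Finset.sum_eq_zero_iff_of_nonneg hterm] at hne
        push Not at hne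
        obtain ⟨p, hp, hpne⟩ := hne
        have h0 := left_ne_zero_of_mul hpne
        have h2 := right_ne_zero_of_mul hpne
        exact ⟨p.1, p.2, Finset.HasAntidiagonal.mem_antidiagonal.mp hp, (supp_Pser b p.1).1 h0,
          ((ih _ (hdeg p hp h0) p.2 rfl).2).1 h2⟩
      · left; exact (supp_Nser b m).1 hN0
    · rintro (h | ⟨m1, m2, hsum, hP, hT⟩)
      · have h1 := (supp_Nser b m).2 h
        have h2 : 0 < coeff m (Nser b) := lt_of_le_of_ne hN (Ne.symm h1)
        intro h0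
        linarith
      · have hP' := (supp_Pser b m1).2 hP
        have hmem : (m1, m2) ∈ Finset.HasAntidiagonal.antidiagonal m := Finset.HasAntidiagonal.mem_antidiagonal.mpr hsum
        have hd := hdeg (m1, m2) hmem hP'
        have hm2 := ((ih _ hd m2 rfl).2).2 hT
        have hm2nn := (ih _ hd m2 rfl).1
        have hpos : 0 < coeff m1 (Pser b) * coeff m2 Hb :=
          mul_pos (lt_of_le_of_ne (nn_Pser b m1) (Ne.symm hP'))
            (lt_of_le_of_ne hm2nn (Ne.symm hm2))
        have hle : coeff m1 (Pser b) * coeff m2 Hb ≤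
            ∑ p ∈ Finset.HasAntidiagonal.antidiagonal m, coeff p.1 (Pser b) * coeff p.2 Hb :=
          Finset.single_le_sum (f := fun p : (Fin 2 →₀ ℕ) × (Fin 2 →₀ ℕ) =>
            coeff p.1 (Pser b) * coeff p.2 Hb) hterm hmem
        intro h0
        linarith

theorem H_nn (b : ℕ) (Hb : MvPowerSeries (Fin 2) ℤ) (hH : (1 - Pser b) * Hb = Nser b) : NN Hb :=
  fun m => (H_analysis b Hb hH _ m rfl).1

theorem H_supp (b : ℕ) (Hb : MvPowerSeries (Fin 2) ℤ) (hH : (1 - Pser b) * Hb = Nser b)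
    (m : Fin 2 →₀ ℕ) : coeff m Hb ≠ 0 ↔ T b m :=
  (H_analysis b Hb hH _ m rfl).2

theorem fill {ι : Type*} [DecidableEq ι] (s : Finset ι) (c : ι → ℕ) :
    ∀ t : ℕ, t ≤ ∑ i ∈ s, c i → ∃ x : ι → ℕ, (∀ i ∈ s, x i ≤ c i) ∧ ∑ i ∈ s, x i = t := by
  induction s using Finset.induction_on with
  | empty =>
    intro t ht
    rw [Finset.sum_empty] at ht
    exact ⟨fun _ => 0, fun i hi => absurd hi (Finset.notMem_empty i), by
      rw [Finset.sum_empty]; omega⟩
  | insert a s ha ih =>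
    intro t ht
    rw [Finset.sum_insert ha] at ht
    obtain ⟨x, hx, hxs⟩ := ih (t - c a) (by omega)
    refine ⟨Function.update x a (t - (t - c a)), ?_, ?_⟩
    · intro i hi
      rcases Finset.mem_insert.mp hi with h | hi'
      · rw [h, Function.update_self]; omega
      · rw [Function.update_of_ne (fun h => ha (by rw [← h]; exact hi'))]; exact hx i hi'
    · rw [Finset.sum_insert ha, Function.update_self]
      have : ∑ i ∈ s, Function.update x a (t - (t - c a)) i = ∑ i ∈ s, x i := by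
        apply Finset.sum_congr rfl
        intro i hi
        rw [Function.update_of_ne (fun h => ha (by rw [← h]; exact hi))]
      rw [this, hxs]; omega

theorem main (d : ℕ) (a : Fin d → ℕ) (ha : ∀ i, 1 ≤ a i)
    (Hs : Fin d → MvPowerSeries (Fin 2) ℤ) (p q : ℕ) (hpq : p ≤ q)
    (hH : ∀ i, (1 - Pser (a i)) * Hs i = Nser (a i)) :
    coeff (Finsupp.single 0 p + Finsupp.single 1 q)
      (∑ P ∈ (Finset.univ : Finset (Fin d)).powerset with P.Nonempty,
        G ^ (P.card - 1) * ∏ i ∈ P, Hs i) ≠ 0 ↔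
      p + q + d < p * Finset.univ.sup a + ∑ i, a i := by
  classical
  have hmk : (Finsupp.single 0 p + Finsupp.single 1 q : Fin 2 →₀ ℕ) = mk p q := rfl
  rw [hmk]
  have hnnH : ∀ i, NN (Hs i) := fun i => H_nn _ _ (hH i)
  have hprod_nn : ∀ P : Finset (Fin d), NN (∏ i ∈ P, Hs i) :=
    fun P => nn_prod P Hs (fun i _ => hnnH i)
  have hterm_nn : ∀ P ∈ (Finset.univ : Finset (Fin d)).powerset.filter (fun P => P.Nonempty),
      NN (G ^ (P.card - 1) * ∏ i ∈ P, Hs i) := fun P _ => nn_mul (nn_G_pow _) (hprod_nn P)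
  rw [supp_sum _ _ hterm_nn]
  obtain ⟨A, hAdef⟩ : ∃ A, A = Finset.univ.sup a := ⟨_, rfl⟩
  rw [← hAdef]
  have hA : ∀ i, a i ≤ A := fun i => by
    rw [hAdef]; exact Finset.le_sup (f := a) (Finset.mem_univ i)
  constructor
  · rintro ⟨P, hP, hne⟩
    have hPne : P.Nonempty := (Finset.mem_filter.mp hP).2
    rw [supp_mul (nn_G_pow _) (hprod_nn P)] at hne
    obtain ⟨m1, m2, hsum, h1, h2⟩ := hne
    rw [supp_G_pow] at h1
    rw [supp_prod P Hs (fun i _ => hnnH i)] at h2
    obtain ⟨g, hg, hg'⟩ := h2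
    have hT : ∀ i ∈ P, ∃ k, k ≤ g i 0 ∧ k ≤ g i 1 ∧ g i 0 + g i 1 + 2 ≤ (k + 1) * a i :=
      fun i hi => (H_supp _ _ (hH i) (g i)).1 (hg' i hi)
    choose! k hk using hT
    obtain ⟨hp, hq⟩ := add_eq_mk hsum
    have hg0 : ∑ i ∈ P, g i 0 = m2 0 := by
      rw [← hg, Finsupp.finsetSum_apply]
    have hg1 : ∑ i ∈ P, g i 1 = m2 1 := by
      rw [← hg, Finsupp.finsetSum_apply]
    obtain ⟨r, hr⟩ : ∃ r, r = P.card := ⟨_, rfl⟩
    have hrpos : 1 ≤ r := by rw [hr]; exact Finset.card_pos.mpr hPne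
    -- sum of the inequalities
    have hs1 : ∑ i ∈ P, (g i 0 + g i 1 + 2) ≤ ∑ i ∈ P, (k i * A + a i) := by
      apply Finset.sum_le_sum
      intro i hi
      have h3 := (hk i hi).2.2
      have h4 : (k i + 1) * a i = k i * a i + a i := by ring
      have h5 : k i * a i ≤ k i * A := Nat.mul_le_mul_left _ (hA i)
      omega
    have hs2 : ∑ i ∈ P, (g i 0 + g i 1 + 2) = m2 0 + m2 1 + 2 * r := by
      rw [Finset.sum_add_distrib, Finset.sum_add_distrib, hg0, hg1, Finset.sum_const, hr,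
        smul_eq_mul, mul_comm]
    have hs3 : ∑ i ∈ P, (k i * A + a i) = (∑ i ∈ P, k i) * A + ∑ i ∈ P, a i := by
      rw [Finset.sum_add_distrib, Finset.sum_mul]
    have hs4 : ∑ i ∈ P, k i ≤ m2 0 := by
      rw [← hg0]
      exact Finset.sum_le_sum (fun i hi => (hk i hi).1)
    have hs5 : (∑ i ∈ P, k i) * A ≤ m2 0 * A := Nat.mul_le_mul_right _ hs4
    have hs6 : ∑ i ∈ P, a i + (d - r) ≤ ∑ i, a i := by
      have h7 : ∑ i ∈ P, a i + ∑ i ∈ Pᶜ, a i = ∑ i, a i := Finset.sum_add_sum_compl P a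
      have h8 : (Pᶜ).card ≤ ∑ i ∈ Pᶜ, a i := by
        have := Finset.card_nsmul_le_sum (Pᶜ) a 1 (fun i _ => ha i)
        simpa using this
      have h9 : (Pᶜ).card = d - r := by
        rw [Finset.card_compl, Fintype.card_fin, hr]
      omega
    have hrd : r ≤ d := by
      rw [hr]
      have := Finset.card_le_univ P
      simpa using this
    have hA1 : 1 ≤ A := by
      obtain ⟨i, _⟩ := hPne
      exact le_trans (ha i) (hA i)
    have hs7 : m1 0 + m2 0 * A ≤ p * A := by
      rw [← hp, add_mul]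
      have : m1 0 * 1 ≤ m1 0 * A := Nat.mul_le_mul_left _ hA1
      omega
    rw [← hr] at h1
    omega
  · intro hineq
    have hd : d ≠ 0 := by
      intro hd0
      have hemp : IsEmpty (Fin d) := by rw [hd0]; infer_instance
      rw [hAdef, Finset.univ_eq_empty, Finset.sup_empty, Finset.sum_empty] at hineq
      have hbot : (⊥ : ℕ) = 0 := rfl
      rw [hbot] at hineq
      omega
    have huniv : (Finset.univ : Finset (Fin d)).Nonempty := by
      have : Nonempty (Fin d) := ⟨⟨0, Nat.pos_of_ne_zero hd⟩⟩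
      exact Finset.univ_nonempty
    obtain ⟨istar, -, histar⟩ := Finset.exists_mem_eq_sup Finset.univ huniv a
    rw [← hAdef] at histar
    have hA2 : 2 ≤ A := by
      by_contra hcon
      have h1 : ∀ i, a i = 1 := fun i => by have := hA i; have := ha i; omega
      have h2 : ∑ i, a i = d := by
        rw [Finset.sum_congr rfl (fun i _ => h1 i)]
        simp
      have h3 : p * A ≤ p * 1 := Nat.mul_le_mul_left _ (by omega)
      omega
    obtain ⟨I2, hI2⟩ : ∃ I2 : Finset (Fin d), I2 = Finset.univ.filter (fun i => 2 ≤ a i) :=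
      ⟨_, rfl⟩
    have hmemI2 : ∀ i, i ∈ I2 ↔ 2 ≤ a i := fun i => by rw [hI2]; simp
    have histarI2 : istar ∈ I2 := (hmemI2 istar).2 (by omega)
    obtain ⟨r, hr⟩ : ∃ r, r = I2.card := ⟨_, rfl⟩
    have hrpos : 1 ≤ r := by rw [hr]; exact Finset.card_pos.mpr ⟨istar, histarI2⟩
    -- the total of the a's
    have hsplit : ∑ i ∈ I2, a i + (d - r) = ∑ i, a i := by
      have h7 : ∑ i ∈ I2, a i + ∑ i ∈ I2ᶜ, a i = ∑ i, a i := Finset.sum_add_sum_compl I2 a
      have h8 : ∑ i ∈ I2ᶜ, a i = (I2ᶜ).card := by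
        rw [Finset.sum_congr rfl (fun i hi => ?_), Finset.sum_const, smul_eq_mul, mul_one]
        have hi' : ¬ 2 ≤ a i := fun h => (Finset.mem_compl.mp hi) ((hmemI2 i).2 h)
        have := ha i
        omega
      have h9 : (I2ᶜ).card = d - r := by
        rw [Finset.card_compl, Fintype.card_fin, hr]
      omega
    have hrd : r ≤ d := by
      rw [hr]
      have := Finset.card_le_univ I2
      simpa using this
    have herase : a istar + ∑ i ∈ I2.erase istar, a i = ∑ i ∈ I2, a i :=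
      Finset.add_sum_erase I2 a histarI2
    have herase2 : ∑ i ∈ I2.erase istar, (a i - 2) + 2 * (r - 1) = ∑ i ∈ I2.erase istar, a i := by
      have h1 : ∑ i ∈ I2.erase istar, a i = ∑ i ∈ I2.erase istar, ((a i - 2) + 2) := by
        apply Finset.sum_congr rfl
        intro i hi
        have := (hmemI2 i).1 (Finset.mem_of_mem_erase hi)
        omega
      rw [h1, Finset.sum_add_distrib, Finset.sum_const, Finset.card_erase_of_mem histarI2, ← hr,
        smul_eq_mul, mul_comm]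
    have e1 : (p + 1) * A = p * A + A := by ring
    have e2 : (p + 1) * 2 ≤ (p + 1) * A := Nat.mul_le_mul_left _ hA2
    obtain ⟨cap, hcap⟩ : ∃ cap, cap = (p + 1) * A - 2 - 2 * p := ⟨_, rfl⟩
    obtain ⟨c, hc⟩ : ∃ c : Fin d → ℕ, c = fun i => if i = istar then cap + (r - 1) else a i - 2 :=
      ⟨_, rfl⟩
    have hcstar : c istar = cap + (r - 1) := by rw [hc]; simp
    have hcne : ∀ i, i ≠ istar → c i = a i - 2 := fun i hi => by rw [hc]; simp [hi]
    have hcsum : ∑ i ∈ I2, c i = cap + (r - 1) + ∑ i ∈ I2.erase istar, (a i - 2) := by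
      rw [← Finset.add_sum_erase I2 c histarI2, hcstar]
      congr 1
      apply Finset.sum_congr rfl
      intro i hi
      exact hcne i (Finset.ne_of_mem_erase hi)
    have hcapacity : q - p ≤ ∑ i ∈ I2, c i := by
      rw [hcsum]
      rw [← histar] at herase
      omega
    obtain ⟨x, hx, hxsum⟩ := fill I2 c (q - p) hcapacity
    have hxerase : x istar + ∑ i ∈ I2.erase istar, x i = q - p := by
      rw [Finset.add_sum_erase I2 x histarI2]; exact hxsum
    obtain ⟨f, hf⟩ : ∃ f, f = x istar - (x istar - (r - 1)) := ⟨_, rfl⟩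
    obtain ⟨es, hes⟩ : ∃ es, es = x istar - (r - 1) := ⟨_, rfl⟩
    have hxstar := hx istar histarI2
    rw [hcstar] at hxstar
    obtain ⟨g, hgdef⟩ : ∃ g : Fin d → (Fin 2 →₀ ℕ),
        g = fun i => if i = istar then mk p (p + es) else mk 0 (x i) := ⟨_, rfl⟩
    have hgstar : g istar = mk p (p + es) := by rw [hgdef]; simp
    have hgne : ∀ i, i ≠ istar → g i = mk 0 (x i) := fun i hi => by rw [hgdef]; simp [hi]
    have hg0 : (∑ i ∈ I2, g i) 0 = p := by
      rw [Finsupp.finsetSum_apply, ← Finset.add_sum_erase I2 _ histarI2, hgstar, mk_zero]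
      have : ∑ i ∈ I2.erase istar, (g i) 0 = 0 := by
        apply Finset.sum_eq_zero
        intro i hi
        rw [hgne i (Finset.ne_of_mem_erase hi), mk_zero]
      rw [this, add_zero]
    have hg1 : (∑ i ∈ I2, g i) 1 = p + es + ∑ i ∈ I2.erase istar, x i := by
      rw [Finsupp.finsetSum_apply, ← Finset.add_sum_erase I2 _ histarI2, hgstar, mk_one]
      congr 1
      apply Finset.sum_congr rfl
      intro i hi
      rw [hgne i (Finset.ne_of_mem_erase hi), mk_one]
    have hTg : ∀ i ∈ I2, T (a i) (g i) := by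
      intro i hi
      by_cases his : i = istar
      · rw [his, hgstar, ← histar]
        refine ⟨p, ?_, ?_, ?_⟩
        · rw [mk_zero]
        · rw [mk_one]; omega
        · rw [mk_zero, mk_one]; omega
      · rw [hgne i his]
        refine ⟨0, Nat.zero_le _, Nat.zero_le _, ?_⟩
        have h1 := hx i hi
        rw [hcne i his] at h1
        have h2 := (hmemI2 i).1 hi
        rw [mk_zero, mk_one]
        omega
    refine ⟨I2, Finset.mem_filter.mpr ⟨Finset.mem_powerset.mpr (Finset.subset_univ _),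
      ⟨istar, histarI2⟩⟩, ?_⟩
    rw [supp_mul (nn_G_pow _) (hprod_nn I2)]
    refine ⟨mk 0 f, ∑ i ∈ I2, g i, ?_, ?_, ?_⟩
    · apply ext2
      · rw [Finsupp.add_apply, mk_zero, hg0, mk_zero, zero_add]
      · rw [Finsupp.add_apply, mk_one, hg1, mk_one]
        omega
    · rw [supp_G_pow, mk_zero, mk_one, ← hr]
      omega
    · rw [supp_prod I2 Hs (fun i _ => hnnH i)]
      exact ⟨g, rfl, fun i hi => (H_supp _ _ (hH i) (g i)).2 (hTg i hi)⟩

end



/-- For each i let H_i in Z[[y, z]] be the series determined by (1 - sum_{u, v >= 1, u + v <= a_i}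
C(a_i, u+v) y^u z^v) H_i = sum_{u, v >= 0, u + v + 1 <= a_i - 1} C(a_i - 1, u+v+1) y^u z^v (the
hypersurface series of degree a_i), and put H = sum over nonempty subsets P of {1, ..., d} of
((1+y)(1+z))^(|P|-1) prod_{i in P} H_i, the generating series sum h^{p,q} y^p z^q attached to
primitive middle Hodge numbers of smooth complete intersections of multidegree a. Then for p <= q
one has h^{p,q} ≠ 0 if and only if p + q + d < p · max_i a_i + sum_i a_i, i.e. p > floor((p + q + d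
- sum_i a_i) / max_i a_i). (The published statement prints the last condition with >= in place of >;
the proof establishes the strict form, which is the correct one: for a single quadric, d = 1 and a_1
= 2, the coefficient of y^0 z^1 vanishes although 0 >= floor(0/2).) -/
theorem result (d : ℕ) (a : Fin d → ℕ) (ha : ∀ i, 1 ≤ a i)
    (Hs : Fin d → MvPowerSeries (Fin 2) ℤ) (p q : ℕ) (hpq : p ≤ q) :
    let y : MvPowerSeries (Fin 2) ℤ := MvPowerSeries.X 0
    let z : MvPowerSeries (Fin 2) ℤ := MvPowerSeries.X 1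
    let Pser : ℕ → MvPowerSeries (Fin 2) ℤ := fun b => ∑ u ∈ Finset.range (b + 1), ∑ v ∈ Finset.range (b + 1),
      if 1 ≤ u ∧ 1 ≤ v ∧ u + v ≤ b then (b.choose (u + v) : MvPowerSeries (Fin 2) ℤ) * y ^ u * z ^ v else 0
    let Nser : ℕ → MvPowerSeries (Fin 2) ℤ := fun b => ∑ u ∈ Finset.range b, ∑ v ∈ Finset.range b,
      if u + v + 1 ≤ b - 1 then ((b - 1).choose (u + v + 1) : MvPowerSeries (Fin 2) ℤ) * y ^ u * z ^ v else 0
    (∀ i, (1 - Pser (a i)) * Hs i = Nser (a i)) →
    let H : MvPowerSeries (Fin 2) ℤ := ∑ P ∈ (Finset.univ : Finset (Fin d)).powerset with P.Nonempty,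
      ((1 + y) * (1 + z)) ^ (P.card - 1) * ∏ i ∈ P, Hs i
    (MvPowerSeries.coeff (Finsupp.single 0 p + Finsupp.single 1 q) H ≠ 0 ↔
      p + q + d < p * Finset.univ.sup a + ∑ i, a i) := by
  intro y z Pser' Nser' hH H
  exact main d a ha Hs p q hpq hH


end Groth.Agent.S8732
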