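import Groth.Statements.S8734
import Groth.Agent.Lib.Helper20.Euler5c
import Groth.Agent.Lib.Helper19.ProjSpaceProper

set_option autoImplicit false
universe u
open CategoryTheory CategoryTheory.Limits AlgebraicGeometry
open LefPen

namespace Groth.Agent.S8734

/-- Over a field: let k be a field, r >= 1, P = P^r_k, Ω = Ω^1_{P/k}, L an O_P-module which is a j-th
exterior power of Ω, and n a nonzero integer; write L(n) = L ⊗ O_P(n). Then H^i(P, L(n)) = H^i(P^r,
Ω^j(n)) is zero unless either i = 0 and n > j, or i = r and n < j - r. -/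
theorem result (k : Type u) [Field k] (r : ℕ) (hr : 1 ≤ r) (j : ℕ)
    (L : (CohB1.ProjSpace r k).Modules)
    (hL : ExtPow.IsExtPow j (Omega.sheaf (CohB1.ProjSpace.toSpec r k)) L) (n : ℤ) (hn : n ≠ 0) (i : ℕ)
    (h0 : ¬ (i = 0 ∧ (j : ℤ) < n)) (hr' : ¬ (i = r ∧ n < (j : ℤ) - r)) :
    Subsingleton (Coh.HH (CohB1.ProjSpace r k)
      (CohB1.tensorMod L (Twist.twistProjSpace r k n)) i) := by
  haveI : QuasiSeparated (CohB1.ProjSpace.toSpec r k) := inferInstance
  haveI : QuasiSeparated (Groth.Agent.Lib.helper20.Euler2.fP r k) :=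
    ‹QuasiSeparated (CohB1.ProjSpace.toSpec r k)›
  obtain ⟨φ, hφ⟩ := hL
  obtain ⟨e⟩ := Groth.Agent.Lib.helper20.Euler4f.nonempty_iso_Z (n := r) (A := k) (p := j)
    (L := L) φ hφ
  have e' : L ≅ Groth.Agent.Lib.helper20.Euler5b.ZZ r k j := e
  have e2 : CohB1.tensorMod L (Twist.twistProjSpace r k n) ≅
      Groth.Agent.Lib.helper20.Euler5b.Zk r k n j :=
    Groth.Agent.Lib.Lead.ModTensor.tensorIso e' (Iso.refl _)
  refine Groth.Agent.Lib.helper20.Euler5a.subsingleton_of_iso e2.symm i ?_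
  by_cases hpn : r < j
  · exact Groth.Agent.Lib.helper20.Euler5b.V_top r k n j i hpn
  · exact Groth.Agent.Lib.helper20.Euler5b.bott r k n j i (by omega) (by omega) (by omega)
      (by omega)

end Groth.Agent.S8734
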