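import Groth.Statements.S8736
import Mathlib
import Groth.Agent.S8732

set_option autoImplicit false
open LefPen

namespace Groth.Agent.S8736



/-- For the generating series of a multidegree: let a_1, ..., a_d (d >= 1) be degrees, H_i and H = sum
h^{p,q} y^p z^q the series built from them as follows — H_i is determined by (1 - sum_{u, v >= 1, u
+ v <= a_i} C(a_i, u+v) y^u z^v) H_i = sum_{u, v >= 0, u + v + 1 <= a_i - 1} C(a_i - 1, u+v+1) y^u
z^v and H = sum over nonempty P ⊆ {1..d} of ((1+y)(1+z))^(|P|-1) prod_{i in P} H_i — let i₀ be an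
index with a_{i₀} = max_i a_i, and let 0 <= l < n be integers with l ≡ n mod 2. Then the Hodge level
of degree n is at most l, i.e. h^{p,q} = 0 for all p <= q with p + q = n and q - p > l, if and only
if 2 · sum_{i ≠ i₀} (a_i - 1) + (a_{i₀} - 2)(n - l) <= 2 (l + 1). -/
theorem result (d : ℕ) (hd : 1 ≤ d) (a : Fin d → ℕ) (ha : ∀ i, 1 ≤ a i)
    (i₀ : Fin d) (hi₀ : ∀ i, a i ≤ a i₀)
    (Hs : Fin d → MvPowerSeries (Fin 2) ℤ) (n l : ℕ) (hl : l < n) (hpar : l % 2 = n % 2) :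
    let y : MvPowerSeries (Fin 2) ℤ := MvPowerSeries.X 0
    let z : MvPowerSeries (Fin 2) ℤ := MvPowerSeries.X 1
    let Pser : ℕ → MvPowerSeries (Fin 2) ℤ := fun b => ∑ u ∈ Finset.range (b + 1), ∑ v ∈ Finset.range (b + 1),
      if 1 ≤ u ∧ 1 ≤ v ∧ u + v ≤ b then (b.choose (u + v) : MvPowerSeries (Fin 2) ℤ) * y ^ u * z ^ v else 0
    let Nser : ℕ → MvPowerSeries (Fin 2) ℤ := fun b => ∑ u ∈ Finset.range b, ∑ v ∈ Finset.range b,
      if u + v + 1 ≤ b - 1 then ((b - 1).choose (u + v + 1) : MvPowerSeries (Fin 2) ℤ) * y ^ u * z ^ v else 0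
    (∀ i, (1 - Pser (a i)) * Hs i = Nser (a i)) →
    let H : MvPowerSeries (Fin 2) ℤ := ∑ P ∈ (Finset.univ : Finset (Fin d)).powerset with P.Nonempty,
      ((1 + y) * (1 + z)) ^ (P.card - 1) * ∏ i ∈ P, Hs i
    (∀ p q : ℕ, p + q = n → p ≤ q → l < q - p →
        MvPowerSeries.coeff (Finsupp.single 0 p + Finsupp.single 1 q) H = 0) ↔
      2 * (∑ i ∈ Finset.univ.erase i₀, ((a i : ℤ) - 1)) + ((a i₀ : ℤ) - 2) * ((n : ℤ) - l) ≤ 2 * ((l : ℤ) + 1) := by
  intro y z Pser' Nser' hH H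
  have hsup : Finset.univ.sup a = a i₀ :=
    le_antisymm (Finset.sup_le (fun i _ => hi₀ i)) (Finset.le_sup (f := a) (Finset.mem_univ i₀))
  obtain ⟨A, hA⟩ : ∃ A, A = a i₀ := ⟨_, rfl⟩
  obtain ⟨Sg, hSg⟩ : ∃ Sg, Sg = ∑ i, a i := ⟨_, rfl⟩
  have key : ∀ p q : ℕ, p ≤ q →
      (MvPowerSeries.coeff (Finsupp.single 0 p + Finsupp.single 1 q) H ≠ 0 ↔
        p + q + d < p * A + Sg) := by
    intro p q hpq
    have h := Groth.Agent.S8732.main d a ha Hs p q hpq hH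
    rw [hsup, ← hA, ← hSg] at h
    exact h
  have hcard : ∑ i ∈ Finset.univ.erase i₀, (1 : ℤ) = (d : ℤ) - 1 := by
    rw [Finset.sum_const, Finset.card_erase_of_mem (Finset.mem_univ i₀), Finset.card_univ,
      Fintype.card_fin, nsmul_eq_mul, mul_one, Nat.cast_sub hd, Nat.cast_one]
  have hsumZ : ∑ i ∈ Finset.univ.erase i₀, ((a i : ℤ) - 1) = (Sg : ℤ) - A - ((d : ℤ) - 1) := by
    have h1 : (a i₀ : ℤ) + ∑ i ∈ Finset.univ.erase i₀, (a i : ℤ) = ∑ i, (a i : ℤ) :=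
      Finset.add_sum_erase Finset.univ (fun i => (a i : ℤ)) (Finset.mem_univ i₀)
    have h2 : (Sg : ℤ) = ∑ i, (a i : ℤ) := by rw [hSg, Nat.cast_sum]
    have h3 : (A : ℤ) = (a i₀ : ℤ) := by rw [hA]
    rw [Finset.sum_sub_distrib, hcard]
    linarith
  rw [hsumZ, ← hA]
  obtain ⟨t, ht⟩ : ∃ t, n = l + 2 * (t + 1) := ⟨(n - l) / 2 - 1, by omega⟩
  obtain ⟨X, hX⟩ : ∃ X, X = t * A := ⟨_, rfl⟩
  have hXZ : (X : ℤ) = (t : ℤ) * (A : ℤ) := by rw [hX, Nat.cast_mul]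
  have hnl : (n : ℤ) - l = 2 * ((t : ℤ) + 1) := by rw [ht]; push_cast; ring
  have hprod : ((A : ℤ) - 2) * (2 * ((t : ℤ) + 1)) = 2 * (X : ℤ) + 2 * A - 4 * t - 4 := by
    rw [hXZ]; ring
  rw [hnl, hprod]
  constructor
  · intro hall
    have h0 := hall t (l + t + 2) (by omega) (by omega) (by omega)
    have h1 : ¬ (t + (l + t + 2) + d < t * A + Sg) :=
      fun hlt => ((key t (l + t + 2) (by omega)).2 hlt) h0
    rw [← hX] at h1
    have h2 : X + Sg ≤ t + (l + t + 2) + d := by omega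
    have h3 : ((X : ℤ) + Sg ≤ t + (l + t + 2) + d) := by exact_mod_cast h2
    linarith
  · intro hineq p q hpqn hpq hlq
    by_contra hne
    have h1 := (key p q hpq).1 hne
    have hpt : p ≤ t := by omega
    have h2 : p * A ≤ t * A := Nat.mul_le_mul_right A hpt
    rw [← hX] at h2
    have h3 : (n : ℤ) + d < X + Sg := by
      have : n + d < X + Sg := by omega
      exact_mod_cast this
    have h4 : (n : ℤ) = l + 2 * ((t : ℤ) + 1) := by rw [ht]; push_cast; ring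
    linarith


end Groth.Agent.S8736
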