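import Groth.Statements.S8748
import Groth.Agent.Lib.Helper14.Adeq19

set_option autoImplicit false
universe u
open CategoryTheory Limits
open Adeq

namespace Groth.Agent.S8748

/-- If `0 → F → G → H → 0` is a short exact sequence of module-valued functors on `A`-algebras and `F`,
`H` are adequate, then `G` is adequate. -/
theorem result (A : Type u) [CommRing A] (S : ShortComplex (Adeq.MVF A))
    (hS : S.ShortExact) (h₁ : Adeq.adequate A S.X₁) (h₃ : Adeq.adequate A S.X₃) : Adeq.adequate A S.X₂ :=
  Groth.Agent.Lib.Helper14.AdeqLib.adequate_of_shortExact S hS h₁ h₃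

end Groth.Agent.S8748
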