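import Groth.Statements.S8749
import Groth.Agent.Lib.Helper14.Adeq21

set_option autoImplicit false
universe u
open CategoryTheory Limits
open Adeq

namespace Groth.Agent.S8749

/-- For a ring map `A → A'` the restriction of an adequate functor on `A`-algebras to `A'`-algebras is
an adequate functor on `A'`-algebras. -/
theorem result (A A' : Type u) [CommRing A] [CommRing A'] [Algebra A A'] (F : Adeq.MVF A)
    (hF : Adeq.adequate A F) : Adeq.adequate A' ((Adeq.restr A A').obj F) :=
  Groth.Agent.Lib.Helper14.AdeqLib.adequate_restr F hF

end Groth.Agent.S8749
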