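import Groth.Statements.S8770
import Mathlib


set_option autoImplicit false
universe u
open PureExt

namespace Groth.Agent.S8770

set_option linter.style.haveILetI false

open scoped TensorProduct

section gen
variable {R : Type u} [CommRing R] {M : Type u} [AddCommGroup M] [Module R M]
  {ι : Type u} {Q : ι → Type u} [∀ i, AddCommGroup (Q i)] [∀ i, Module R (Q i)]
  (g : (Π₀ i, Q i) →ₗ[R] M)
  (hlift : ∀ (Q' : Type u) [AddCommGroup Q'] [Module R Q'] [Module.FinitePresentation R Q']
    (φ : Q' →ₗ[R] M), ∃ ψ : Q' →ₗ[R] (Π₀ i, Q i), g ∘ₗ ψ = φ)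

include hlift in
theorem surj_of_lift : Function.Surjective g := by
  intro m
  obtain ⟨ψ, hψ⟩ := hlift R (LinearMap.toSpanSingleton R M m)
  refine ⟨ψ 1, ?_⟩
  have := LinearMap.congr_fun hψ 1
  simpa using this

variable [∀ i, Module.FinitePresentation R (Q i)]

include hlift in
open Classical in
theorem univ_of_lift : CAlgX.UniversallyInjective R (LinearMap.ker g).subtype := by
  intro T _ _
  rw [injective_iff_map_eq_zero]
  intro x hx
  obtain ⟨S, hS⟩ := TensorProduct.exists_finset x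
  rw [hS] at hx ⊢
  -- the finite set of indices
  let F : Finset ι := S.biUnion (fun p => (p.1 : (Π₀ i, Q i)).support)
  let P := (i : F) → Q i.1
  let a : P →ₗ[R] (Π₀ i, Q i) := LinearMap.lsum R (fun i : F => Q i.1) ℕ (fun i => DFinsupp.lsingle i.1)
  let ρ : (Π₀ i, Q i) →ₗ[R] P := LinearMap.pi (fun i : F => DFinsupp.lapply i.1)
  have haρ : ∀ l : (Π₀ i, Q i), l.support ⊆ F → a (ρ l) = l := by
    intro l hl
    apply DFinsupp.ext
    intro j
    have hal : a (ρ l) = ∑ i : F, DFinsupp.single i.1 (l i.1) := by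
      simp only [a, LinearMap.lsum_apply, LinearMap.sum_apply, LinearMap.comp_apply,
        DFinsupp.lsingle_apply]
      rfl
    rw [hal, DFinsupp.finsetSum_apply]
    by_cases hj : j ∈ F
    · rw [Finset.sum_eq_single (⟨j, hj⟩ : F)]
      · simp
      · intro b _ hb
        rw [DFinsupp.single_apply, dif_neg]
        intro h
        exact hb (Subtype.ext h)
      · intro h; exact absurd (Finset.mem_univ _) h
    · have : l j = 0 := by
        by_contra h
        exact hj (hl (DFinsupp.mem_support_iff.2 h))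
      rw [this]
      apply Finset.sum_eq_zero
      intro b _
      rw [DFinsupp.single_apply, dif_neg]
      intro h
      exact hj (h ▸ b.2)
  have hsupp : ∀ p ∈ S, ((p.1 : (LinearMap.ker g)) : (Π₀ i, Q i)).support ⊆ F := by
    intro p hp
    exact Finset.subset_biUnion_of_mem (fun p : (LinearMap.ker g) × T => (p.1 : (Π₀ i, Q i)).support) hp
  -- the finitely generated submodule
  let N : Submodule R P := Submodule.span R ((fun p : (LinearMap.ker g) × T => ρ (p.1 : (Π₀ i, Q i))) '' (S : Set ((LinearMap.ker g) × T)))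
  have hNfg : N.FG := Submodule.fg_span ((S.finite_toSet).image _)
  haveI : Module.FinitePresentation R (P ⧸ N) :=
    Module.finitePresentation_of_surjective N.mkQ (Submodule.mkQ_surjective _)
      (by rw [Submodule.ker_mkQ]; exact hNfg)
  have hNker : N ≤ LinearMap.ker (g ∘ₗ a) := by
    rw [Submodule.span_le]
    rintro _ ⟨p, hp, rfl⟩
    change g (a (ρ (p.1 : (Π₀ i, Q i)))) = 0
    rw [haρ _ (hsupp p hp)]
    exact p.1.2
  obtain ⟨ψ', hψ'⟩ := hlift (P ⧸ N) (N.liftQ (g ∘ₗ a) hNker)
  let c : P →ₗ[R] (Π₀ i, Q i) := a - ψ' ∘ₗ N.mkQ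
  have hc : ∀ v, c v ∈ (LinearMap.ker g) := by
    intro v
    change g (a v - ψ' (N.mkQ v)) = 0
    rw [map_sub]
    have := LinearMap.congr_fun hψ' (N.mkQ v)
    change g (ψ' (N.mkQ v)) = g (a v) at this
    rw [this, sub_self]
  let c' : P →ₗ[R] (LinearMap.ker g) := c.codRestrict (LinearMap.ker g) hc
  have hc' : ∀ p ∈ S, c' (ρ (p.1 : (Π₀ i, Q i))) = p.1 := by
    intro p hp
    apply Subtype.ext
    change a (ρ (p.1 : (Π₀ i, Q i))) - ψ' (N.mkQ (ρ (p.1 : (Π₀ i, Q i)))) = p.1
    have h0 : N.mkQ (ρ (p.1 : (Π₀ i, Q i))) = 0 := by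
      rw [Submodule.mkQ_apply, Submodule.Quotient.mk_eq_zero]
      exact Submodule.subset_span ⟨p, hp, rfl⟩
    rw [h0, map_zero, sub_zero, haρ _ (hsupp p hp)]
  have h1 : ((c' ∘ₗ ρ ∘ₗ (LinearMap.ker g).subtype).rTensor T) (∑ i ∈ S, i.1 ⊗ₜ[R] i.2) = ∑ i ∈ S, i.1 ⊗ₜ[R] i.2 := by
    rw [map_sum]
    refine Finset.sum_congr rfl (fun p hp => ?_)
    rw [LinearMap.rTensor_tmul]
    change (c' (ρ (p.1 : (Π₀ i, Q i)))) ⊗ₜ[R] p.2 = _
    rw [hc' p hp]
  rw [← h1, LinearMap.rTensor_comp, LinearMap.rTensor_comp]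
  change (c'.rTensor T) ((ρ.rTensor T) (((LinearMap.ker g).subtype.rTensor T) _)) = 0
  rw [hx, map_zero, map_zero]

end gen

section
variable (R : Type u) [CommRing R] (M : Type u) [AddCommGroup M] [Module R M]

/-- index set: standard finitely presented modules with a map to `M` -/
structure Idx where
  n : ℕ
  N : Submodule R (Fin n → R)
  hN : N.FG
  φ : ((Fin n → R) ⧸ N) →ₗ[R] M

variable {R M}

abbrev Qf (i : Idx R M) : Type u := (Fin i.n → R) ⧸ i.N

theorem fp_Qf (i : Idx R M) : Module.FinitePresentation R (Qf i) :=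
  Module.finitePresentation_of_surjective (Submodule.mkQ i.N) (Submodule.mkQ_surjective _)
    (by rw [Submodule.ker_mkQ]; exact i.hN)

end

theorem main (R : Type u) [CommRing R]
    (M : Type u) [AddCommGroup M] [Module R M] :
    ∃ (ι : Type u) (Q : ι → Type u) (_ : ∀ i, AddCommGroup (Q i)) (_ : ∀ i, Module R (Q i)),
      (∀ i, Module.FinitePresentation R (Q i)) ∧
      ∃ g : (Π₀ i, Q i) →ₗ[R] M, Function.Surjective g ∧
        CAlgX.UniversallyInjective R (LinearMap.ker g).subtype := by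
  classical
  refine ⟨Idx R M, fun i => Qf i, inferInstance, inferInstance, fp_Qf, ?_⟩
  haveI : ∀ i : Idx R M, Module.FinitePresentation R (Qf i) := fp_Qf
  let g : (Π₀ i : Idx R M, Qf i) →ₗ[R] M := DFinsupp.lsum ℕ (fun i : Idx R M => i.φ)
  have hlift : ∀ (Q' : Type u) [AddCommGroup Q'] [Module R Q'] [Module.FinitePresentation R Q']
      (φ : Q' →ₗ[R] M), ∃ ψ : Q' →ₗ[R] (Π₀ i : Idx R M, Qf i), g ∘ₗ ψ = φ := by
    intro Q' _ _ _ φ
    obtain ⟨n, K, e, hK⟩ := Module.FinitePresentation.exists_fin R Q'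
    let i₀ : Idx R M := ⟨n, K, hK, φ ∘ₗ e.symm.toLinearMap⟩
    refine ⟨(DFinsupp.lsingle i₀ : Qf i₀ →ₗ[R] _) ∘ₗ e.toLinearMap, ?_⟩
    ext q
    change g (DFinsupp.single i₀ (e q)) = φ q
    have : g (DFinsupp.single i₀ (e q)) = i₀.φ (e q) :=
      DFinsupp.lsum_single (S := ℕ) (fun i : Idx R M => i.φ) i₀ (e q)
    rw [this]
    change φ (e.symm (e q)) = φ q
    rw [LinearEquiv.symm_apply_apply]
  exact ⟨g, surj_of_lift g hlift, univ_of_lift g hlift⟩



/-- For every `R`-module `M` there is a universally exact sequence `0 → N → P → M → 0` with `P` pure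
projective; this row takes `P` to be a direct sum of finitely presented modules, which is pure
projective: there is a surjection from such a direct sum onto `M` whose kernel inclusion is
universally injective. -/
theorem result (R : Type u) [CommRing R]
    (M : Type u) [AddCommGroup M] [Module R M] :
    ∃ (ι : Type u) (Q : ι → Type u) (_ : ∀ i, AddCommGroup (Q i)) (_ : ∀ i, Module R (Q i)),
      (∀ i, Module.FinitePresentation R (Q i)) ∧
      ∃ g : (Π₀ i, Q i) →ₗ[R] M, Function.Surjective g ∧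
        CAlgX.UniversallyInjective R (LinearMap.ker g).subtype := by
  exact main R M

end Groth.Agent.S8770
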