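import Groth.Statements.S8769
import Mathlib
import Groth.Agent.S8770

set_option autoImplicit false
universe u
open PureExt

namespace Groth.Agent.S8769

set_option linter.style.haveILetI false

open scoped TensorProduct

section
variable {R : Type u} [CommRing R]

/-- the key extension property of universally injective submodules -/
theorem exists_extend {L : Type u} [AddCommGroup L] [Module R L] (K : Submodule R L)
    (hK : CAlgX.UniversallyInjective R K.subtype) {m n : ℕ}
    (A : Fin m → Fin n → R) (x : Fin m → K) (y : Fin n → L)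
    (hxy : ∀ i, (x i : L) = ∑ j, A i j • y j) :
    ∃ z : Fin n → K, ∀ i, x i = ∑ j, A i j • z j := by
  classical
  -- the transpose map
  let At : (Fin n → R) →ₗ[R] (Fin m → R) :=
    { toFun := fun v i => ∑ j, A i j * v j
      map_add' := fun v w => by
        funext i
        simp [mul_add, Finset.sum_add_distrib]
      map_smul' := fun c v => by
        funext i
        simp [Finset.mul_sum, mul_left_comm] }
  let T := (Fin m → R) ⧸ LinearMap.range At
  let q : (Fin m → R) →ₗ[R] T := Submodule.mkQ (LinearMap.range At)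
  let e : Fin m → T := fun i => q (Pi.single i 1)
  have hdec : ∀ v : Fin m → R, q v = ∑ i, v i • e i := by
    intro v
    have hv : v = ∑ i, v i • (Pi.single i 1 : Fin m → R) := by
      funext k
      simp [Finset.sum_apply, Pi.single_apply]
    conv_lhs => rw [hv]
    rw [map_sum]
    refine Finset.sum_congr rfl (fun i _ => ?_)
    rw [map_smul]
  have hspan : Submodule.span R (Set.range e) = ⊤ := by
    rw [eq_top_iff]
    rintro t -
    obtain ⟨v, rfl⟩ := Submodule.mkQ_surjective _ t
    change q v ∈ _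
    rw [hdec]
    refine Submodule.sum_mem _ (fun i _ => ?_)
    exact Submodule.smul_mem _ _ (Submodule.subset_span ⟨i, rfl⟩)
  -- vanishing in L ⊗ T
  have hL : ∑ i, (x i : L) ⊗ₜ[R] e i = 0 := by
    have h1 : ∀ i, (x i : L) ⊗ₜ[R] e i = ∑ j, y j ⊗ₜ[R] (A i j • e i) := by
      intro i
      rw [hxy i, TensorProduct.sum_tmul]
      refine Finset.sum_congr rfl (fun j _ => ?_)
      rw [TensorProduct.smul_tmul]
    simp_rw [h1]
    rw [Finset.sum_comm]
    refine Finset.sum_eq_zero (fun j _ => ?_)
    rw [← TensorProduct.tmul_sum]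
    have h2 : ∑ i, A i j • e i = 0 := by
      have h3 : q (At (Pi.single j 1)) = ∑ i, A i j • e i := by
        rw [hdec]
        refine Finset.sum_congr rfl (fun i _ => ?_)
        congr 1
        change ∑ j', A i j' * (Pi.single j (1 : R) : Fin n → R) j' = A i j
        simp [Pi.single_apply]
      rw [← h3]
      change Submodule.Quotient.mk _ = 0
      rw [Submodule.Quotient.mk_eq_zero]
      exact ⟨_, rfl⟩
    rw [h2, TensorProduct.tmul_zero]
  have hKT : ∑ i, x i ⊗ₜ[R] e i = (0 : K ⊗[R] T) := by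
    apply hK T
    rw [map_sum, map_zero]
    simpa using hL
  have hTK : ∑ i, e i ⊗ₜ[R] x i = (0 : T ⊗[R] K) := by
    have := congrArg (TensorProduct.comm R K T) hKT
    simpa using this
  obtain ⟨k, a, w, hw, ha⟩ := TensorProduct.vanishesTrivially_of_sum_tmul_eq_zero R hspan hTK
  -- each column of `a` lies in the range of `At`
  have hcol : ∀ l : Fin k, ∃ c : Fin n → R, ∀ i, a i l = ∑ j, A i j * c j := by
    intro l
    have h3 : (Submodule.Quotient.mk (fun i => a i l) : T) = 0 := by
      change q (fun i => a i l) = 0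
      rw [hdec, ← ha l]
    rw [Submodule.Quotient.mk_eq_zero] at h3
    obtain ⟨c, hc⟩ := h3
    exact ⟨c, fun i => (congrFun hc i).symm⟩
  choose c hc using hcol
  refine ⟨fun j => ∑ l, c l j • w l, fun i => ?_⟩
  rw [hw i]
  simp_rw [hc, Finset.sum_smul, Finset.smul_sum, smul_smul]
  rw [Finset.sum_comm]

/-- finitely presented modules are pure projective -/
theorem lift_fp {L N : Type u} [AddCommGroup L] [Module R L] [AddCommGroup N] [Module R N]
    (g : L →ₗ[R] N) (hg : Function.Surjective g)
    (hK : CAlgX.UniversallyInjective R (LinearMap.ker g).subtype)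
    (Q : Type u) [AddCommGroup Q] [Module R Q] [Module.FinitePresentation R Q]
    (φ : Q →ₗ[R] N) : ∃ ψ : Q →ₗ[R] L, g ∘ₗ ψ = φ := by
  classical
  obtain ⟨n, m, f, h, hf, hhf⟩ := Module.FinitePresentation.exists_fin' R Q
  obtain ⟨y, hy⟩ := Module.projective_lifting_property g (φ ∘ₗ f) hg
  let K := LinearMap.ker g
  let A : Fin m → Fin n → R := fun i j => h (Pi.single i 1) j
  have hx : ∀ i, y (h (Pi.single i 1)) ∈ K := by
    intro i
    change g (y (h (Pi.single i 1))) = 0
    have := LinearMap.congr_fun hy (h (Pi.single i 1))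
    change g (y (h (Pi.single i 1))) = φ (f (h (Pi.single i 1))) at this
    rw [this, hhf.apply_apply_eq_zero, map_zero]
  have hdecomp : ∀ v : Fin n → R, v = ∑ j, v j • (Pi.single j 1 : Fin n → R) := by
    intro v
    funext k
    simp [Finset.sum_apply, Pi.single_apply]
  have hxy : ∀ i, ((⟨y (h (Pi.single i 1)), hx i⟩ : K) : L) = ∑ j, A i j • y (Pi.single j 1) := by
    intro i
    change y (h (Pi.single i 1)) = _
    conv_lhs => rw [hdecomp (h (Pi.single i 1))]
    rw [map_sum]
    refine Finset.sum_congr rfl (fun j _ => ?_)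
    rw [map_smul]
  obtain ⟨z, hz⟩ := exists_extend K hK A (fun i => ⟨y (h (Pi.single i 1)), hx i⟩)
    (fun j => y (Pi.single j 1)) hxy
  -- corrected lift
  let zl : (Fin n → R) →ₗ[R] L :=
    { toFun := fun v => ∑ j, v j • (z j : L)
      map_add' := fun v w => by simp [add_smul, Finset.sum_add_distrib]
      map_smul' := fun c v => by simp [Finset.smul_sum, smul_smul] }
  have hzl : ∀ v, g (zl v) = 0 := by
    intro v
    change g (∑ j, v j • (z j : L)) = 0
    rw [map_sum]
    refine Finset.sum_eq_zero (fun j _ => ?_)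
    rw [map_smul, (z j).2, smul_zero]
  let y' : (Fin n → R) →ₗ[R] L := y - zl
  have hy'h : ∀ u, y' (h u) = 0 := by
    have hcomp : y' ∘ₗ h = 0 := by
      apply LinearMap.pi_ext'
      intro i
      ext
      change y (h (Pi.single i 1)) - zl (h (Pi.single i 1)) = 0
      have h1 := congrArg Subtype.val (hz i)
      change y (h (Pi.single i 1)) = _ at h1
      rw [h1, sub_eq_zero]
      change _ = ∑ j, (h (Pi.single i 1)) j • (z j : L)
      rw [Submodule.coe_sum]
      rfl
    intro u
    exact LinearMap.congr_fun hcomp u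
  have hle : LinearMap.ker f ≤ LinearMap.ker y' := by
    intro v hv
    obtain ⟨u, rfl⟩ := (hhf v).1 hv
    exact hy'h u
  let ψ : Q →ₗ[R] L := ((LinearMap.ker f).liftQ y' hle) ∘ₗ (f.quotKerEquivOfSurjective hf).symm.toLinearMap
  have hψ : ∀ v, ψ (f v) = y' v := by
    intro v
    have : (f.quotKerEquivOfSurjective hf).symm (f v) = Submodule.Quotient.mk v := by
      rw [LinearEquiv.symm_apply_eq]
      rfl
    change ((LinearMap.ker f).liftQ y' hle) ((f.quotKerEquivOfSurjective hf).symm (f v)) = _
    rw [this]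
    rfl
  refine ⟨ψ, ?_⟩
  ext q
  obtain ⟨v, rfl⟩ := hf q
  change g (ψ (f v)) = φ (f v)
  rw [hψ]
  change g (y v - zl v) = _
  rw [map_sub, hzl, sub_zero]
  exact LinearMap.congr_fun hy v

end

theorem main (R : Type u) [CommRing R]
    (P : Type u) [AddCommGroup P] [Module R P] :
    (∀ ⦃L N : Type u⦄ [AddCommGroup L] [Module R L] [AddCommGroup N] [Module R N] (g : L →ₗ[R] N),
        Function.Surjective g → CAlgX.UniversallyInjective R (LinearMap.ker g).subtype →
        ∀ φ : P →ₗ[R] N, ∃ ψ : P →ₗ[R] L, g ∘ₗ ψ = φ) ↔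
    ∃ (ι : Type u) (Q : ι → Type u) (_ : ∀ i, AddCommGroup (Q i)) (_ : ∀ i, Module R (Q i)),
      (∀ i, Module.FinitePresentation R (Q i)) ∧
      ∃ (s : P →ₗ[R] (Π₀ i, Q i)) (r : (Π₀ i, Q i) →ₗ[R] P), r ∘ₗ s = LinearMap.id := by
  classical
  constructor
  · intro hP
    obtain ⟨ι, Q, i1, i2, hfp, g, hg, hu⟩ := Groth.Agent.S8770.result R P
    obtain ⟨ψ, hψ⟩ := hP g hg hu LinearMap.id
    exact ⟨ι, Q, i1, i2, hfp, ψ, g, hψ⟩
  · rintro ⟨ι, Q, i1, i2, hfp, s, r, hrs⟩ L N _ _ _ _ g hg hu φ
    have hlift : ∀ i, ∃ ψ : Q i →ₗ[R] L, g ∘ₗ ψ = φ ∘ₗ r ∘ₗ (DFinsupp.lsingle i) :=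
      fun i => lift_fp g hg hu (Q i) _
    choose ψi hψi using hlift
    let ψ' : (Π₀ i, Q i) →ₗ[R] L := DFinsupp.lsum ℕ ψi
    have hψ' : g ∘ₗ ψ' = φ ∘ₗ r := by
      apply DFinsupp.lhom_ext'
      intro i
      ext q
      change g (ψ' (DFinsupp.single i q)) = φ (r (DFinsupp.single i q))
      have : ψ' (DFinsupp.single i q) = ψi i q := DFinsupp.lsum_single (S := ℕ) ψi i q
      rw [this]
      exact LinearMap.congr_fun (hψi i) q
    refine ⟨ψ' ∘ₗ s, ?_⟩
    ext p
    change g (ψ' (s p)) = φ p
    have h1 := LinearMap.congr_fun hψ' (s p)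
    change g (ψ' (s p)) = φ (r (s p)) at h1
    rw [h1]
    have h2 := LinearMap.congr_fun hrs p
    change r (s p) = p at h2
    rw [h2]



/-- An `R`-module `P` is pure projective (every linear map `P → N` lifts along every surjection `L → N`
for which `0 → ker → L → N → 0` is universally exact, i.e. whose kernel inclusion is universally
injective) if and only if `P` is a direct summand of a direct sum of finitely presented `R`-modules. -/
theorem result (R : Type u) [CommRing R]
    (P : Type u) [AddCommGroup P] [Module R P] :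
    (∀ ⦃L N : Type u⦄ [AddCommGroup L] [Module R L] [AddCommGroup N] [Module R N] (g : L →ₗ[R] N),
        Function.Surjective g → CAlgX.UniversallyInjective R (LinearMap.ker g).subtype →
        ∀ φ : P →ₗ[R] N, ∃ ψ : P →ₗ[R] L, g ∘ₗ ψ = φ) ↔
    ∃ (ι : Type u) (Q : ι → Type u) (_ : ∀ i, AddCommGroup (Q i)) (_ : ∀ i, Module R (Q i)),
      (∀ i, Module.FinitePresentation R (Q i)) ∧
      ∃ (s : P →ₗ[R] (Π₀ i, Q i)) (r : (Π₀ i, Q i) →ₗ[R] P), r ∘ₗ s = LinearMap.id := by
  exact main R P

end Groth.Agent.S8769
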