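import Groth.Statements.S8777
import Mathlib
import Groth.Agent.Lib.Helper18.PureExt

set_option autoImplicit false
universe u
open CategoryTheory
open PureExt

namespace Groth.Agent.S8777

set_option linter.style.haveILetI false

open CategoryTheory CategoryTheory.Limits CategoryTheory.MonoidalCategory
open scoped TensorProduct

variable {R : Type u} [CommRing R]

/-! ### quasi-isomorphism from exactness data -/

set_option backward.defeqAttrib.useBackward true in
set_option backward.isDefEq.respectTransparency false in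
theorem quasiIso_of_exact (M' : CochainComplex (ModuleCat.{u} R) ℕ) {M : ModuleCat.{u} R}
    (η : (CochainComplex.single₀ (ModuleCat.{u} R)).obj M ⟶ M') (T : ModuleCat.{u} R)
    (h0 : Function.Exact ((η.f 0).hom.rTensor T) ((M'.d 0 1).hom.rTensor T))
    (hinj : Function.Injective ((η.f 0).hom.rTensor T))
    (hsucc : ∀ n : ℕ, Function.Exact ((M'.d n (n + 1)).hom.rTensor T)
      ((M'.d (n + 1) (n + 2)).hom.rTensor T)) :
    QuasiIso (((tensorRight T).mapHomologicalComplex (ComplexShape.up ℕ)).map η) where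
  quasiIsoAt n := by
    match n with
    | 0 =>
      rw [CochainComplex.quasiIsoAt₀_iff,
        ShortComplex.quasiIso_iff_of_zeros _ (by simp) (by simp) (by simp)]
      constructor
      · exact (ShortComplex.ShortExact.moduleCat_exact_iff_function_exact _).2 h0
      · exact (ModuleCat.mono_iff_injective _).2 hinj
    | n + 1 =>
      have hK : (((tensorRight T).mapHomologicalComplex (ComplexShape.up ℕ)).obj
          ((CochainComplex.single₀ (ModuleCat.{u} R)).obj M)).ExactAt (n + 1) := by
        apply ShortComplex.exact_of_isZero_X₂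
        exact (tensorRight T).map_isZero
          (HomologicalComplex.isZero_single_obj_X _ _ _ _ (by omega))
      rw [quasiIsoAt_iff_exactAt (hK := hK),
        HomologicalComplex.exactAt_iff' _ n (n + 1) (n + 2) (by simp) (by simp)]
      exact (ShortComplex.ShortExact.moduleCat_exact_iff_function_exact _).2 (hsucc n)

/-! ### linear algebra -/

section lin
variable {A B C D E : Type u} [AddCommGroup A] [Module R A] [AddCommGroup B] [Module R B]
  [AddCommGroup C] [Module R C] [AddCommGroup D] [Module R D] [AddCommGroup E] [Module R E]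

/-- exactness of `(i ∘ p) ⊗ T`, `(j ∘ q) ⊗ T` from exactness of `i, q`. -/
theorem exact_splice (p : A →ₗ[R] B) (i : B →ₗ[R] C) (q : C →ₗ[R] D) (j : D →ₗ[R] E)
    (hp : Function.Surjective p) (hiq : Function.Exact i q) (hq : Function.Surjective q)
    (T : Type u) [AddCommGroup T] [Module R T] (hj : Function.Injective (j.rTensor T)) :
    Function.Exact ((i ∘ₗ p).rTensor T) ((j ∘ₗ q).rTensor T) := by
  have hex : Function.Exact (i.rTensor T) (q.rTensor T) := rTensor_exact T hiq hq
  have hpT : Function.Surjective (p.rTensor T) := LinearMap.rTensor_surjective T hp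
  intro x
  rw [LinearMap.rTensor_comp, LinearMap.rTensor_comp]
  constructor
  · intro hx
    have h1 : q.rTensor T x = 0 := by
      apply hj
      rw [map_zero]
      exact hx
    obtain ⟨y, rfl⟩ := (hex x).1 h1
    obtain ⟨z, rfl⟩ := hpT y
    exact ⟨z, rfl⟩
  · rintro ⟨z, rfl⟩
    change j.rTensor T (q.rTensor T (i.rTensor T (p.rTensor T z))) = 0
    rw [(hex _).2 ⟨_, rfl⟩, map_zero]

end lin

/-! ### the construction -/

/-- double character module -/
abbrev DD (X : ModuleCat.{u} R) : ModuleCat.{u} R :=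
  ModuleCat.of R (CharacterModule (CharacterModule X))

/-- the successive cokernels -/
noncomputable def Cseq (M : ModuleCat.{u} R) : ℕ → ModuleCat.{u} R
  | 0 => M
  | n + 1 => ModuleCat.of R ((DD (Cseq M n)) ⧸ LinearMap.range (PureExt.charEval R (Cseq M n)))

variable (M : ModuleCat.{u} R)

noncomputable abbrev Iobj (n : ℕ) : ModuleCat.{u} R := DD (Cseq M n)

noncomputable def ιl (n : ℕ) : Cseq M n →ₗ[R] Iobj M n := PureExt.charEval R (Cseq M n)

noncomputable def πl (n : ℕ) : Iobj M n →ₗ[R] Cseq M (n + 1) :=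
  (LinearMap.range (PureExt.charEval R (Cseq M n))).mkQ

theorem πl_surj (n : ℕ) : Function.Surjective (πl M n) := Submodule.mkQ_surjective _

theorem exact_ι_π (n : ℕ) : Function.Exact (ιl M n) (πl M n) := by
  intro x
  constructor
  · intro hx
    exact (Submodule.Quotient.mk_eq_zero _).1 hx
  · intro hx
    exact (Submodule.Quotient.mk_eq_zero _).2 hx

theorem π_comp_ι (n : ℕ) : πl M n ∘ₗ ιl M n = 0 := by
  ext x
  exact (exact_ι_π M n _).2 ⟨x, rfl⟩

theorem ι_univ (n : ℕ) : CAlgX.UniversallyInjective R (ιl M n) :=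
  Groth.Agent.Lib.helper18.univInj_charEval (Cseq M n)

noncomputable def dI (n : ℕ) : Iobj M n ⟶ Iobj M (n + 1) :=
  ModuleCat.ofHom (ιl M (n + 1) ∘ₗ πl M n)

theorem dI_sq (n : ℕ) : dI M n ≫ dI M (n + 1) = 0 := by
  apply ModuleCat.hom_ext
  apply LinearMap.ext
  intro x
  change ιl M (n + 2) (πl M (n + 1) (ιl M (n + 1) (πl M n x))) = 0
  have := LinearMap.congr_fun (π_comp_ι M (n + 1)) (πl M n x)
  change πl M (n + 1) (ιl M (n + 1) (πl M n x)) = 0 at this
  rw [this, map_zero]

noncomputable def Icx : CochainComplex (ModuleCat.{u} R) ℕ :=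
  CochainComplex.of (Iobj M) (dI M) (dI_sq M)

theorem Icx_d (n : ℕ) : (Icx M).d n (n + 1) = dI M n := CochainComplex.of_d _ _ n

theorem ι_comp_d : ModuleCat.ofHom (ιl M 0) ≫ (Icx M).d 0 1 = 0 := by
  rw [Icx_d]
  apply ModuleCat.hom_ext
  apply LinearMap.ext
  intro x
  change ιl M 1 (πl M 0 (ιl M 0 x)) = 0
  have := LinearMap.congr_fun (π_comp_ι M 0) x
  change πl M 0 (ιl M 0 x) = 0 at this
  rw [this, map_zero]

noncomputable def ηI : (CochainComplex.single₀ (ModuleCat.{u} R)).obj M ⟶ Icx M :=
  (CochainComplex.fromSingle₀Equiv (Icx M) M).symm ⟨ModuleCat.ofHom (ιl M 0), ι_comp_d M⟩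

theorem ηI_f_zero : (ηI M).f 0 = ModuleCat.ofHom (ιl M 0) :=
  CochainComplex.fromSingle₀Equiv_symm_apply_f_zero _ _

theorem main (R : Type u) [CommRing R] (M : ModuleCat.{u} R) :
    ∃ (I : CochainComplex (ModuleCat.{u} R) ℕ) (η : (CochainComplex.single₀ (ModuleCat.{u} R)).obj M ⟶ I),
      (∀ n : ℕ, (∀ ⦃K L : Type u⦄ [AddCommGroup K] [Module R K] [AddCommGroup L] [Module R L] (g : K →ₗ[R] L),
          CAlgX.UniversallyInjective R g → ∀ φ : K →ₗ[R] I.X n, ∃ ψ : L →ₗ[R] I.X n, ψ ∘ₗ g = φ)) ∧
      ∀ T : ModuleCat.{u} R,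
      QuasiIso (((MonoidalCategory.tensorRight T).mapHomologicalComplex (ComplexShape.up ℕ)).map η) := by
  refine ⟨Icx M, ηI M, ?_, ?_⟩
  · intro n K L _ _ _ _ g hg φ
    exact Groth.Agent.Lib.helper18.charModule_extend (Q := CharacterModule (Cseq M n)) g hg φ
  · intro T
    apply quasiIso_of_exact
    · rw [ηI_f_zero, Icx_d]
      have := exact_splice (LinearMap.id : Cseq M 0 →ₗ[R] Cseq M 0) (ιl M 0) (πl M 0) (ιl M 1)
        (fun x => ⟨x, rfl⟩) (exact_ι_π M 0) (πl_surj M 0) T (ι_univ M 1 T)
      exact this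
    · rw [ηI_f_zero]
      exact ι_univ M 0 T
    · intro n
      rw [Icx_d, Icx_d]
      exact exact_splice (πl M n) (ιl M (n + 1)) (πl M (n + 1)) (ιl M (n + 2))
        (πl_surj M n) (exact_ι_π M (n + 1)) (πl_surj M (n + 1)) T (ι_univ M (n + 2) T)



/-- Every `R`-module `M` has a pure injective resolution: a complex `I^0 → I^1 → …` with a
coaugmentation from `M` such that each `I^n` is pure injective (every linear map into `I^n` extends
along every universally injective map) and `0 → M → I^0 → I^1 → …` is universally exact, i.e. the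
coaugmentation stays a quasi-isomorphism after tensoring with any `R`-module. -/
theorem result (R : Type u) [CommRing R] (M : ModuleCat.{u} R) :
    ∃ (I : CochainComplex (ModuleCat.{u} R) ℕ) (η : (CochainComplex.single₀ (ModuleCat.{u} R)).obj M ⟶ I),
      (∀ n : ℕ, (∀ ⦃K L : Type u⦄ [AddCommGroup K] [Module R K] [AddCommGroup L] [Module R L] (g : K →ₗ[R] L),
          CAlgX.UniversallyInjective R g → ∀ φ : K →ₗ[R] I.X n, ∃ ψ : L →ₗ[R] I.X n, ψ ∘ₗ g = φ)) ∧
      ∀ T : ModuleCat.{u} R,
      QuasiIso (((MonoidalCategory.tensorRight T).mapHomologicalComplex (ComplexShape.up ℕ)).map η) := by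
  exact main R M

end Groth.Agent.S8777
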