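import Groth.Statements.S8774
import Mathlib
import Groth.Agent.S8770
import Groth.Agent.S8777

set_option autoImplicit false
universe u
open CategoryTheory
open PureExt

namespace Groth.Agent.S8774

set_option linter.style.haveILetI false

open CategoryTheory CategoryTheory.Limits CategoryTheory.MonoidalCategory
open scoped TensorProduct

variable {R : Type u} [CommRing R]

/-! ### quasi-isomorphism from exactness data (chain version) -/

set_option backward.defeqAttrib.useBackward true in
set_option backward.isDefEq.respectTransparency false in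
theorem quasiIso_of_exact (N' : ChainComplex (ModuleCat.{u} R) ℕ) {N : ModuleCat.{u} R}
    (ε : N' ⟶ (ChainComplex.single₀ (ModuleCat.{u} R)).obj N) (T : ModuleCat.{u} R)
    (h0 : Function.Exact ((N'.d 1 0).hom.rTensor T) ((ε.f 0).hom.rTensor T))
    (hsurj : Function.Surjective ((ε.f 0).hom.rTensor T))
    (hsucc : ∀ n : ℕ, Function.Exact ((N'.d (n + 2) (n + 1)).hom.rTensor T)
      ((N'.d (n + 1) n).hom.rTensor T)) :
    QuasiIso (((tensorRight T).mapHomologicalComplex (ComplexShape.down ℕ)).map ε) where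
  quasiIsoAt n := by
    match n with
    | 0 =>
      rw [ChainComplex.quasiIsoAt₀_iff,
        ShortComplex.quasiIso_iff_of_zeros' _ (by simp) (by simp) (by simp)]
      constructor
      · exact (ShortComplex.ShortExact.moduleCat_exact_iff_function_exact _).2 h0
      · exact (ModuleCat.epi_iff_surjective _).2 hsurj
    | n + 1 =>
      have hL : (((tensorRight T).mapHomologicalComplex (ComplexShape.down ℕ)).obj
          ((ChainComplex.single₀ (ModuleCat.{u} R)).obj N)).ExactAt (n + 1) := by
        apply ShortComplex.exact_of_isZero_X₂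
        exact (tensorRight T).map_isZero
          (HomologicalComplex.isZero_single_obj_X _ _ _ _ (by omega))
      rw [quasiIsoAt_iff_exactAt' (hL := hL),
        HomologicalComplex.exactAt_iff' _ (n + 2) (n + 1) n (by simp) (by simp)]
      exact (ShortComplex.ShortExact.moduleCat_exact_iff_function_exact _).2 (hsucc n)

/-! ### the construction -/

/-- a pure cover of `X` by a direct sum of finitely presented modules -/
structure Cover (X : ModuleCat.{u} R) where
  ι : Type u
  Q : ι → Type u
  acg : ∀ i, AddCommGroup (Q i)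
  mod : ∀ i, Module R (Q i)
  fp : ∀ i, Module.FinitePresentation R (Q i)
  g : (Π₀ i, Q i) →ₗ[R] X
  surj : Function.Surjective g
  univ : CAlgX.UniversallyInjective R (LinearMap.ker g).subtype

attribute [instance] Cover.acg Cover.mod

theorem nonempty_cover (X : ModuleCat.{u} R) : Nonempty (Cover X) := by
  obtain ⟨ι, Q, i1, i2, hfp, g, hg, hu⟩ := Groth.Agent.S8770.result R X
  exact ⟨⟨ι, Q, i1, i2, hfp, g, hg, hu⟩⟩

noncomputable def cover (X : ModuleCat.{u} R) : Cover X := Classical.choice (nonempty_cover X)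

/-- the covering module -/
noncomputable abbrev Pof (X : ModuleCat.{u} R) : ModuleCat.{u} R :=
  ModuleCat.of R (Π₀ i, (cover X).Q i)

/-- the successive kernels -/
noncomputable def Kseq (M : ModuleCat.{u} R) : ℕ → ModuleCat.{u} R
  | 0 => M
  | n + 1 => ModuleCat.of R (LinearMap.ker (cover (Kseq M n)).g)

variable (M : ModuleCat.{u} R)

noncomputable abbrev Pobj (n : ℕ) : ModuleCat.{u} R := Pof (Kseq M n)

noncomputable def gl (n : ℕ) : Pobj M n →ₗ[R] Kseq M n := (cover (Kseq M n)).g

noncomputable def il (n : ℕ) : Kseq M (n + 1) →ₗ[R] Pobj M n :=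
  (LinearMap.ker (cover (Kseq M n)).g).subtype

theorem gl_surj (n : ℕ) : Function.Surjective (gl M n) := (cover (Kseq M n)).surj

theorem exact_i_g (n : ℕ) : Function.Exact (il M n) (gl M n) :=
  LinearMap.exact_subtype_ker_map _

theorem i_univ (n : ℕ) : CAlgX.UniversallyInjective R (il M n) := (cover (Kseq M n)).univ

theorem g_comp_i (n : ℕ) (x : Kseq M (n + 1)) : gl M n (il M n x) = 0 := x.2

noncomputable def dP (n : ℕ) : Pobj M (n + 1) ⟶ Pobj M n :=
  ModuleCat.ofHom (il M n ∘ₗ gl M (n + 1))

theorem dP_sq (n : ℕ) : dP M (n + 1) ≫ dP M n = 0 := by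
  apply ModuleCat.hom_ext
  apply LinearMap.ext
  intro x
  change il M n (gl M (n + 1) (il M (n + 1) (gl M (n + 2) x))) = 0
  rw [g_comp_i, map_zero]

noncomputable def Pcx : ChainComplex (ModuleCat.{u} R) ℕ :=
  ChainComplex.of (Pobj M) (dP M) (dP_sq M)

theorem Pcx_d (n : ℕ) : (Pcx M).d (n + 1) n = dP M n := ChainComplex.of_d _ _ n

theorem d_comp_g : (Pcx M).d 1 0 ≫ ModuleCat.ofHom (gl M 0) = 0 := by
  rw [Pcx_d]
  apply ModuleCat.hom_ext
  apply LinearMap.ext
  intro x
  change gl M 0 (il M 0 (gl M 1 x)) = 0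
  rw [g_comp_i]

noncomputable def πP : Pcx M ⟶ (ChainComplex.single₀ (ModuleCat.{u} R)).obj M :=
  (ChainComplex.toSingle₀Equiv (Pcx M) M).symm ⟨ModuleCat.ofHom (gl M 0), d_comp_g M⟩

theorem πP_f_zero : (πP M).f 0 = ModuleCat.ofHom (gl M 0) :=
  ChainComplex.toSingle₀Equiv_symm_apply_f_zero _ _

theorem main (R : Type u) [CommRing R] (M : ModuleCat.{u} R) :
    ∃ (P : ChainComplex (ModuleCat.{u} R) ℕ) (π : P ⟶ (ChainComplex.single₀ (ModuleCat.{u} R)).obj M),
      (∀ n : ℕ, ∃ (ι : Type u) (Q : ι → Type u) (_ : ∀ i, AddCommGroup (Q i)) (_ : ∀ i, Module R (Q i)),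
        (∀ i, Module.FinitePresentation R (Q i)) ∧
        ∃ (s : P.X n →ₗ[R] (Π₀ i, Q i)) (r : (Π₀ i, Q i) →ₗ[R] P.X n), r ∘ₗ s = LinearMap.id) ∧
      ∀ N : ModuleCat.{u} R,
        QuasiIso (((MonoidalCategory.tensorRight N).mapHomologicalComplex (ComplexShape.down ℕ)).map π) := by
  refine ⟨Pcx M, πP M, ?_, ?_⟩
  · intro n
    exact ⟨(cover (Kseq M n)).ι, (cover (Kseq M n)).Q, (cover (Kseq M n)).acg,
      (cover (Kseq M n)).mod, (cover (Kseq M n)).fp, LinearMap.id, LinearMap.id, rfl⟩
  · intro T
    apply quasiIso_of_exact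
    · rw [πP_f_zero, Pcx_d]
      have := Groth.Agent.S8777.exact_splice (gl M 1) (il M 0) (gl M 0)
        (LinearMap.id : Kseq M 0 →ₗ[R] Kseq M 0)
        (gl_surj M 1) (exact_i_g M 0) (gl_surj M 0) T
        (by rw [LinearMap.rTensor_id]; exact Function.injective_id)
      exact this
    · rw [πP_f_zero]
      exact LinearMap.rTensor_surjective T (gl_surj M 0)
    · intro n
      rw [Pcx_d, Pcx_d]
      exact Groth.Agent.S8777.exact_splice (gl M (n + 2)) (il M (n + 1)) (gl M (n + 1)) (il M n)
        (gl_surj M (n + 2)) (exact_i_g M (n + 1)) (gl_surj M (n + 1)) T (i_univ M n T)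



/-- Every `R`-module `M` has a pure projective resolution: a complex `… → P_1 → P_0` with an
augmentation to `M` such that each `P_n` is pure projective (a direct summand of a direct sum of
finitely presented modules) and `… → P_1 → P_0 → M → 0` is universally exact, i.e. the augmentation
stays a quasi-isomorphism after tensoring with any `R`-module `N`. -/
theorem result (R : Type u) [CommRing R] (M : ModuleCat.{u} R) :
    ∃ (P : ChainComplex (ModuleCat.{u} R) ℕ) (π : P ⟶ (ChainComplex.single₀ (ModuleCat.{u} R)).obj M),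
      (∀ n : ℕ, ∃ (ι : Type u) (Q : ι → Type u) (_ : ∀ i, AddCommGroup (Q i)) (_ : ∀ i, Module R (Q i)),
        (∀ i, Module.FinitePresentation R (Q i)) ∧
        ∃ (s : P.X n →ₗ[R] (Π₀ i, Q i)) (r : (Π₀ i, Q i) →ₗ[R] P.X n), r ∘ₗ s = LinearMap.id) ∧
      ∀ N : ModuleCat.{u} R,
        QuasiIso (((MonoidalCategory.tensorRight N).mapHomologicalComplex (ComplexShape.down ℕ)).map π) := by
  exact main R M

end Groth.Agent.S8774
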