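import Groth.Statements.S8775
import Mathlib
import Groth.Agent.Lib.Helper10.PureRes

set_option autoImplicit false
universe u
open CategoryTheory
open PureExt

namespace Groth.Agent.S8775

set_option linter.style.haveILetI false

open CategoryTheory
open Groth.Agent.Lib.helper10.PureRes

theorem main (R : Type u) [CommRing R] {M N : ModuleCat.{u} R}
    (f : M ⟶ N) (P N' : ChainComplex (ModuleCat.{u} R) ℕ)
    (π : P ⟶ (ChainComplex.single₀ (ModuleCat.{u} R)).obj M)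
    (ε : N' ⟶ (ChainComplex.single₀ (ModuleCat.{u} R)).obj N)
    (hP : ∀ n : ℕ, (∀ ⦃L T : Type u⦄ [AddCommGroup L] [Module R L] [AddCommGroup T] [Module R T]
          (g : L →ₗ[R] T),
          Function.Surjective g → CAlgX.UniversallyInjective R (LinearMap.ker g).subtype →
          ∀ φ : P.X n →ₗ[R] T, ∃ ψ : P.X n →ₗ[R] L, g ∘ₗ ψ = φ))
    (hN' : ∀ T : ModuleCat.{u} R,
      QuasiIso (((MonoidalCategory.tensorRight T).mapHomologicalComplex
        (ComplexShape.down ℕ)).map ε)) :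
    ∃ φ : P ⟶ N', φ ≫ ε = π ≫ (ChainComplex.single₀ (ModuleCat.{u} R)).map f := by
  let ρ := π ≫ (ChainComplex.single₀ (ModuleCat.{u} R)).map f
  have hρ : P.d 1 0 ≫ ρ.f 0 = 0 := by
    have := ρ.comm 1 0
    rw [← this]
    simp only [HomologicalComplex.single_obj_d, Limits.comp_zero]
  -- zero
  obtain ⟨ψ₀, hψ₀⟩ := hP 0 (ε.f 0).hom (chain_surj_zero' N' ε hN') (chain_univ_zero N' ε hN')
    (ρ.f 0).hom
  let zero : P.X 0 ⟶ N'.X 0 := ModuleCat.ofHom ψ₀
  have hzero : zero ≫ ε.f 0 = ρ.f 0 := by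
    apply ModuleCat.hom_ext
    exact hψ₀
  -- one
  have h1 : (ε.f 0).hom ∘ₗ (ψ₀ ∘ₗ (P.d 1 0).hom) = 0 := by
    have : P.d 1 0 ≫ zero ≫ ε.f 0 = 0 := by rw [hzero, hρ]
    exact congrArg ModuleCat.Hom.hom this
  obtain ⟨ψ₁, hψ₁⟩ := lift_along (hP 1) (N'.d 1 0).hom (ε.f 0).hom (chain_exact_zero' N' ε hN')
    (chain_univ_succ N' ε hN' 0) (ψ₀ ∘ₗ (P.d 1 0).hom) h1
  let one : P.X 1 ⟶ N'.X 1 := ModuleCat.ofHom ψ₁
  have hone : one ≫ N'.d 1 0 = P.d 1 0 ≫ zero := by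
    apply ModuleCat.hom_ext
    exact hψ₁
  -- succ
  have hsucc : ∀ (n : ℕ) (p : Σ' (f : P.X n ⟶ N'.X n) (f' : P.X (n + 1) ⟶ N'.X (n + 1)),
      f' ≫ N'.d (n + 1) n = P.d (n + 1) n ≫ f),
      ∃ f'' : P.X (n + 2) ⟶ N'.X (n + 2),
        f'' ≫ N'.d (n + 2) (n + 1) = P.d (n + 2) (n + 1) ≫ p.2.1 := by
    rintro n ⟨f₀, f₁, hcomm⟩
    have h2 : (N'.d (n + 1) n).hom ∘ₗ (f₁.hom ∘ₗ (P.d (n + 2) (n + 1)).hom) = 0 := by
      have : P.d (n + 2) (n + 1) ≫ f₁ ≫ N'.d (n + 1) n = 0 := by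
        rw [hcomm, ← Category.assoc, P.d_comp_d, Limits.zero_comp]
      exact congrArg ModuleCat.Hom.hom this
    obtain ⟨ψ, hψ⟩ := lift_along (hP (n + 2)) (N'.d (n + 2) (n + 1)).hom (N'.d (n + 1) n).hom
      (chain_exact_succ' N' ε hN' n) (chain_univ_succ N' ε hN' (n + 1))
      (f₁.hom ∘ₗ (P.d (n + 2) (n + 1)).hom) h2
    refine ⟨ModuleCat.ofHom ψ, ?_⟩
    apply ModuleCat.hom_ext
    exact hψ
  let φ : P ⟶ N' := ChainComplex.mkHom P N' zero one hone
    (fun n p => ⟨Classical.choose (hsucc n p), Classical.choose_spec (hsucc n p)⟩)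
  refine ⟨φ, ?_⟩
  apply HomologicalComplex.to_single_hom_ext
  change φ.f 0 ≫ ε.f 0 = ρ.f 0
  exact hzero



/-- Let `M → N` be a map of `R`-modules, `P → M` an augmented complex of pure projective modules and `N'
→ N` a universally exact resolution (the augmentation is a quasi-isomorphism after tensoring with
any module). Then there is a map of complexes `P → N'` inducing the given map `M → N` on the
augmentations. -/
theorem result (R : Type u) [CommRing R] {M N : ModuleCat.{u} R}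
    (f : M ⟶ N) (P N' : ChainComplex (ModuleCat.{u} R) ℕ)
    (π : P ⟶ (ChainComplex.single₀ (ModuleCat.{u} R)).obj M)
    (ε : N' ⟶ (ChainComplex.single₀ (ModuleCat.{u} R)).obj N)
    (hP : ∀ n : ℕ, (∀ ⦃L T : Type u⦄ [AddCommGroup L] [Module R L] [AddCommGroup T] [Module R T] (g : L →ₗ[R] T),
          Function.Surjective g → CAlgX.UniversallyInjective R (LinearMap.ker g).subtype →
          ∀ φ : P.X n →ₗ[R] T, ∃ ψ : P.X n →ₗ[R] L, g ∘ₗ ψ = φ))
    (hN' : ∀ T : ModuleCat.{u} R,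
      QuasiIso (((MonoidalCategory.tensorRight T).mapHomologicalComplex (ComplexShape.down ℕ)).map ε)) :
    ∃ φ : P ⟶ N', φ ≫ ε = π ≫ (ChainComplex.single₀ (ModuleCat.{u} R)).map f := by
  exact main R f P N' π ε hP hN'

end Groth.Agent.S8775
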