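import Groth.Statements.S8776
import Mathlib
import Groth.Agent.Lib.Helper10.PureRes

set_option autoImplicit false
universe u
open CategoryTheory
open PureExt

namespace Groth.Agent.S8776

set_option linter.style.haveILetI false

open CategoryTheory
open Groth.Agent.Lib.helper10.PureRes

/-- categorical form of `lift_along` -/
theorem lift_cat {R : Type u} [CommRing R] {X C A B : ModuleCat.{u} R}
    (hX : ∀ ⦃L T : Type u⦄ [AddCommGroup L] [Module R L] [AddCommGroup T] [Module R T]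
      (g : L →ₗ[R] T), Function.Surjective g →
      CAlgX.UniversallyInjective R (LinearMap.ker g).subtype →
      ∀ φ : X →ₗ[R] T, ∃ ψ : X →ₗ[R] L, g ∘ₗ ψ = φ)
    (c : C ⟶ A) (a : A ⟶ B) (hca : Function.Exact c.hom a.hom)
    (hu : CAlgX.UniversallyInjective R (LinearMap.ker c.hom).subtype)
    (φ : X ⟶ A) (hφ : φ ≫ a = 0) : ∃ ψ : X ⟶ C, ψ ≫ c = φ := by
  obtain ⟨ψ, hψ⟩ := lift_along hX c.hom a.hom hca hu φ.hom (congrArg ModuleCat.Hom.hom hφ)
  refine ⟨ModuleCat.ofHom ψ, ?_⟩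
  apply ModuleCat.hom_ext
  exact hψ

theorem main (R : Type u) [CommRing R] {M N : ModuleCat.{u} R}
    (f : M ⟶ N) (P N' : ChainComplex (ModuleCat.{u} R) ℕ)
    (π : P ⟶ (ChainComplex.single₀ (ModuleCat.{u} R)).obj M)
    (ε : N' ⟶ (ChainComplex.single₀ (ModuleCat.{u} R)).obj N)
    (hP : ∀ n : ℕ, (∀ ⦃L T : Type u⦄ [AddCommGroup L] [Module R L] [AddCommGroup T] [Module R T]
          (g : L →ₗ[R] T),
          Function.Surjective g → CAlgX.UniversallyInjective R (LinearMap.ker g).subtype →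
          ∀ φ : P.X n →ₗ[R] T, ∃ ψ : P.X n →ₗ[R] L, g ∘ₗ ψ = φ))
    (hN' : ∀ T : ModuleCat.{u} R,
      QuasiIso (((MonoidalCategory.tensorRight T).mapHomologicalComplex
        (ComplexShape.down ℕ)).map ε))
    (α β : P ⟶ N') (hα : α ≫ ε = π ≫ (ChainComplex.single₀ (ModuleCat.{u} R)).map f)
    (hβ : β ≫ ε = π ≫ (ChainComplex.single₀ (ModuleCat.{u} R)).map f) :
    Nonempty (Homotopy α β) := by
  let e : P ⟶ N' := α - β
  have he : e ≫ ε = 0 := by
    change (α - β) ≫ ε = 0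
    rw [Preadditive.sub_comp, hα, hβ, sub_self]
  have he0 : e.f 0 ≫ ε.f 0 = 0 := by
    have := congrArg (fun t => t.f 0) he
    exact this
  -- zero
  obtain ⟨zero, hzero⟩ := lift_cat (hP 0) (N'.d 1 0) (ε.f 0) (chain_exact_zero' N' ε hN')
    (chain_univ_succ N' ε hN' 0) (e.f 0) he0
  -- one
  have h1 : (e.f 1 - P.d 1 0 ≫ zero) ≫ N'.d 1 0 = 0 := by
    rw [Preadditive.sub_comp, Category.assoc, hzero, e.comm 1 0, sub_self]
  obtain ⟨one, hone⟩ := lift_cat (hP 1) (N'.d 2 1) (N'.d 1 0) (chain_exact_succ' N' ε hN' 0)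
    (chain_univ_succ N' ε hN' 1) (e.f 1 - P.d 1 0 ≫ zero) h1
  have comm_one : e.f 1 = P.d 1 0 ≫ zero + one ≫ N'.d 2 1 := by
    rw [hone]
    abel
  have hsucc : ∀ (n : ℕ) (p : Σ' (f : P.X n ⟶ N'.X (n + 1)) (f' : P.X (n + 1) ⟶ N'.X (n + 2)),
      e.f (n + 1) = P.d (n + 1) n ≫ f + f' ≫ N'.d (n + 2) (n + 1)),
      ∃ f'' : P.X (n + 2) ⟶ N'.X (n + 3),
        e.f (n + 2) = P.d (n + 2) (n + 1) ≫ p.2.1 + f'' ≫ N'.d (n + 3) (n + 2) := by
    rintro n ⟨f₀, f₁, hcomm⟩
    have h2 : (e.f (n + 2) - P.d (n + 2) (n + 1) ≫ f₁) ≫ N'.d (n + 2) (n + 1) = 0 := by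
      rw [Preadditive.sub_comp, e.comm (n + 2) (n + 1), hcomm, Preadditive.comp_add,
        ← Category.assoc, P.d_comp_d, Limits.zero_comp, zero_add, Category.assoc, sub_self]
    obtain ⟨ψ, hψ⟩ := lift_cat (hP (n + 2)) (N'.d (n + 3) (n + 2)) (N'.d (n + 2) (n + 1))
      (chain_exact_succ' N' ε hN' (n + 1)) (chain_univ_succ N' ε hN' (n + 2))
      (e.f (n + 2) - P.d (n + 2) (n + 1) ≫ f₁) h2
    refine ⟨ψ, ?_⟩
    rw [hψ]
    abel
  have H : Homotopy e 0 := Homotopy.mkInductive e zero hzero.symm one comm_one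
    (fun n p => ⟨Classical.choose (hsucc n p), Classical.choose_spec (hsucc n p)⟩)
  exact ⟨Homotopy.equivSubZero.symm H⟩



/-- With `M → N`, an augmented complex `P → M` of pure projective modules and a universally exact
resolution `N' → N` (augmentation a quasi-isomorphism after any tensor product), two maps of
complexes `P → N'` inducing the same map `M → N` are homotopic. -/
theorem result (R : Type u) [CommRing R] {M N : ModuleCat.{u} R}
    (f : M ⟶ N) (P N' : ChainComplex (ModuleCat.{u} R) ℕ)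
    (π : P ⟶ (ChainComplex.single₀ (ModuleCat.{u} R)).obj M)
    (ε : N' ⟶ (ChainComplex.single₀ (ModuleCat.{u} R)).obj N)
    (hP : ∀ n : ℕ, (∀ ⦃L T : Type u⦄ [AddCommGroup L] [Module R L] [AddCommGroup T] [Module R T] (g : L →ₗ[R] T),
          Function.Surjective g → CAlgX.UniversallyInjective R (LinearMap.ker g).subtype →
          ∀ φ : P.X n →ₗ[R] T, ∃ ψ : P.X n →ₗ[R] L, g ∘ₗ ψ = φ))
    (hN' : ∀ T : ModuleCat.{u} R,
      QuasiIso (((MonoidalCategory.tensorRight T).mapHomologicalComplex (ComplexShape.down ℕ)).map ε))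
    (α β : P ⟶ N') (hα : α ≫ ε = π ≫ (ChainComplex.single₀ (ModuleCat.{u} R)).map f)
    (hβ : β ≫ ε = π ≫ (ChainComplex.single₀ (ModuleCat.{u} R)).map f) : Nonempty (Homotopy α β) := by
  exact main R f P N' π ε hP hN' α β hα hβ

end Groth.Agent.S8776
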