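import Groth.Statements.S8778
import Mathlib
import Groth.Agent.Lib.Helper10.PureRes

set_option autoImplicit false
universe u
open CategoryTheory
open PureExt

namespace Groth.Agent.S8778

set_option linter.style.haveILetI false

open CategoryTheory
open Groth.Agent.Lib.helper10.PureRes

/-- categorical form of `extend_along` -/
theorem extend_cat {R : Type u} [CommRing R] {X D C A : ModuleCat.{u} R}
    (hX : ∀ ⦃K L : Type u⦄ [AddCommGroup K] [Module R K] [AddCommGroup L] [Module R L]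
      (g : K →ₗ[R] L), CAlgX.UniversallyInjective R g →
      ∀ φ : K →ₗ[R] X, ∃ ψ : L →ₗ[R] X, ψ ∘ₗ g = φ)
    (c' : D ⟶ C) (c : C ⟶ A) (hc : Function.Exact c'.hom c.hom)
    (hu : CAlgX.UniversallyInjective R (LinearMap.range c.hom).subtype)
    (θ : C ⟶ X) (hθ : c' ≫ θ = 0) : ∃ ψ : A ⟶ X, c ≫ ψ = θ := by
  obtain ⟨ψ, hψ⟩ := extend_along hX c'.hom c.hom hc hu θ.hom (congrArg ModuleCat.Hom.hom hθ)
  refine ⟨ModuleCat.ofHom ψ, ?_⟩
  apply ModuleCat.hom_ext
  exact hψ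

theorem main (R : Type u) [CommRing R] {M N : ModuleCat.{u} R}
    (f : M ⟶ N) (M' I : CochainComplex (ModuleCat.{u} R) ℕ)
    (η : (CochainComplex.single₀ (ModuleCat.{u} R)).obj M ⟶ M')
    (ε : (CochainComplex.single₀ (ModuleCat.{u} R)).obj N ⟶ I)
    (hM' : ∀ T : ModuleCat.{u} R,
      QuasiIso (((MonoidalCategory.tensorRight T).mapHomologicalComplex
        (ComplexShape.up ℕ)).map η))
    (hI : ∀ n : ℕ, (∀ ⦃K L : Type u⦄ [AddCommGroup K] [Module R K] [AddCommGroup L] [Module R L]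
          (g : K →ₗ[R] L),
          CAlgX.UniversallyInjective R g → ∀ φ : K →ₗ[R] I.X n, ∃ ψ : L →ₗ[R] I.X n, ψ ∘ₗ g = φ)) :
    ∃ φ : M' ⟶ I, η ≫ φ = (CochainComplex.single₀ (ModuleCat.{u} R)).map f ≫ ε := by
  let ρ := (CochainComplex.single₀ (ModuleCat.{u} R)).map f ≫ ε
  have hρ : ρ.f 0 ≫ I.d 0 1 = 0 := by
    rw [ρ.comm 0 1]
    simp only [HomologicalComplex.single_obj_d, Limits.zero_comp]
  -- zero
  obtain ⟨ψ₀, hψ₀⟩ := hI 0 (η.f 0).hom (cochain_univ_zero M' η hM') (ρ.f 0).hom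
  let zero : M'.X 0 ⟶ I.X 0 := ModuleCat.ofHom ψ₀
  have hzero : η.f 0 ≫ zero = ρ.f 0 := by
    apply ModuleCat.hom_ext
    exact hψ₀
  -- one
  have h1 : η.f 0 ≫ (zero ≫ I.d 0 1) = 0 := by
    rw [← Category.assoc, hzero, hρ]
  obtain ⟨one, hone⟩ := extend_cat (hI 1) (η.f 0) (M'.d 0 1) (cochain_exact_zero' M' η hM')
    (cochain_univ_range_zero M' η hM') (zero ≫ I.d 0 1) h1
  have hsucc : ∀ (n : ℕ) (p : Σ' (f : M'.X n ⟶ I.X n) (f' : M'.X (n + 1) ⟶ I.X (n + 1)),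
      f ≫ I.d n (n + 1) = M'.d n (n + 1) ≫ f'),
      ∃ f'' : M'.X (n + 2) ⟶ I.X (n + 2),
        p.2.1 ≫ I.d (n + 1) (n + 2) = M'.d (n + 1) (n + 2) ≫ f'' := by
    rintro n ⟨f₀, f₁, hcomm⟩
    have h2 : M'.d n (n + 1) ≫ (f₁ ≫ I.d (n + 1) (n + 2)) = 0 := by
      rw [← Category.assoc, ← hcomm, Category.assoc, I.d_comp_d, Limits.comp_zero]
    obtain ⟨ψ, hψ⟩ := extend_cat (hI (n + 2)) (M'.d n (n + 1)) (M'.d (n + 1) (n + 2))
      (cochain_exact_succ' M' η hM' n) (cochain_univ_range_succ M' η hM' n)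
      (f₁ ≫ I.d (n + 1) (n + 2)) h2
    exact ⟨ψ, hψ.symm⟩
  let φ : M' ⟶ I := CochainComplex.mkHom M' I zero one hone.symm
    (fun n p => ⟨Classical.choose (hsucc n p), Classical.choose_spec (hsucc n p)⟩)
  refine ⟨φ, ?_⟩
  apply HomologicalComplex.from_single_hom_ext
  change η.f 0 ≫ φ.f 0 = ρ.f 0
  exact hzero



/-- Let `M → N` be a map of `R`-modules, `M → M'` a universally exact resolution (the coaugmentation is
a quasi-isomorphism after tensoring with any module) and `N → I` a coaugmented cochain complex of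
pure injective modules. Then there is a map of complexes `M' → I` inducing the given map `M → N` on
the coaugmentations. -/
theorem result (R : Type u) [CommRing R] {M N : ModuleCat.{u} R}
    (f : M ⟶ N) (M' I : CochainComplex (ModuleCat.{u} R) ℕ)
    (η : (CochainComplex.single₀ (ModuleCat.{u} R)).obj M ⟶ M')
    (ε : (CochainComplex.single₀ (ModuleCat.{u} R)).obj N ⟶ I)
    (hM' : ∀ T : ModuleCat.{u} R,
      QuasiIso (((MonoidalCategory.tensorRight T).mapHomologicalComplex (ComplexShape.up ℕ)).map η))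
    (hI : ∀ n : ℕ, (∀ ⦃K L : Type u⦄ [AddCommGroup K] [Module R K] [AddCommGroup L] [Module R L] (g : K →ₗ[R] L),
          CAlgX.UniversallyInjective R g → ∀ φ : K →ₗ[R] I.X n, ∃ ψ : L →ₗ[R] I.X n, ψ ∘ₗ g = φ)) :
    ∃ φ : M' ⟶ I, η ≫ φ = (CochainComplex.single₀ (ModuleCat.{u} R)).map f ≫ ε := by
  exact main R f M' I η ε hM' hI

end Groth.Agent.S8778
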