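import Groth.Statements.S8779
import Mathlib
import Groth.Agent.Lib.Helper10.PureRes

set_option autoImplicit false
universe u
open CategoryTheory
open PureExt

namespace Groth.Agent.S8779

set_option linter.style.haveILetI false

open CategoryTheory
open Groth.Agent.Lib.helper10.PureRes

/-- categorical form of `extend_along` -/
theorem extend_cat {R : Type u} [CommRing R] {X D C A : ModuleCat.{u} R}
    (hX : ∀ ⦃K L : Type u⦄ [AddCommGroup K] [Module R K] [AddCommGroup L] [Module R L]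
      (g : K →ₗ[R] L), CAlgX.UniversallyInjective R g →
      ∀ φ : K →ₗ[R] X, ∃ ψ : L →ₗ[R] X, ψ ∘ₗ g = φ)
    (c' : D ⟶ C) (c : C ⟶ A) (hc : Function.Exact c'.hom c.hom)
    (hu : CAlgX.UniversallyInjective R (LinearMap.range c.hom).subtype)
    (θ : C ⟶ X) (hθ : c' ≫ θ = 0) : ∃ ψ : A ⟶ X, c ≫ ψ = θ := by
  obtain ⟨ψ, hψ⟩ := extend_along hX c'.hom c.hom hc hu θ.hom (congrArg ModuleCat.Hom.hom hθ)
  refine ⟨ModuleCat.ofHom ψ, ?_⟩
  apply ModuleCat.hom_ext
  exact hψ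

theorem main (R : Type u) [CommRing R] {M N : ModuleCat.{u} R}
    (f : M ⟶ N) (M' I : CochainComplex (ModuleCat.{u} R) ℕ)
    (η : (CochainComplex.single₀ (ModuleCat.{u} R)).obj M ⟶ M')
    (ε : (CochainComplex.single₀ (ModuleCat.{u} R)).obj N ⟶ I)
    (hM' : ∀ T : ModuleCat.{u} R,
      QuasiIso (((MonoidalCategory.tensorRight T).mapHomologicalComplex
        (ComplexShape.up ℕ)).map η))
    (hI : ∀ n : ℕ, (∀ ⦃K L : Type u⦄ [AddCommGroup K] [Module R K] [AddCommGroup L] [Module R L]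
          (g : K →ₗ[R] L),
          CAlgX.UniversallyInjective R g → ∀ φ : K →ₗ[R] I.X n, ∃ ψ : L →ₗ[R] I.X n, ψ ∘ₗ g = φ))
    (α β : M' ⟶ I) (hα : η ≫ α = (CochainComplex.single₀ (ModuleCat.{u} R)).map f ≫ ε)
    (hβ : η ≫ β = (CochainComplex.single₀ (ModuleCat.{u} R)).map f ≫ ε) :
    Nonempty (Homotopy α β) := by
  let e : M' ⟶ I := α - β
  have he : η ≫ e = 0 := by
    change η ≫ (α - β) = 0
    rw [Preadditive.comp_sub, hα, hβ, sub_self]
  have he0 : η.f 0 ≫ e.f 0 = 0 := by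
    have := congrArg (fun t => t.f 0) he
    exact this
  -- zero
  obtain ⟨zero, hzero⟩ := extend_cat (hI 0) (η.f 0) (M'.d 0 1) (cochain_exact_zero' M' η hM')
    (cochain_univ_range_zero M' η hM') (e.f 0) he0
  -- one
  have h1 : M'.d 0 1 ≫ (e.f 1 - zero ≫ I.d 0 1) = 0 := by
    rw [Preadditive.comp_sub, ← Category.assoc, hzero, e.comm 0 1, sub_self]
  obtain ⟨one, hone⟩ := extend_cat (hI 1) (M'.d 0 1) (M'.d 1 2) (cochain_exact_succ' M' η hM' 0)
    (cochain_univ_range_succ M' η hM' 0) (e.f 1 - zero ≫ I.d 0 1) h1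
  have comm_one : e.f 1 = zero ≫ I.d 0 1 + M'.d 1 2 ≫ one := by
    rw [hone]
    abel
  have hsucc : ∀ (n : ℕ) (p : Σ' (f : M'.X (n + 1) ⟶ I.X n) (f' : M'.X (n + 2) ⟶ I.X (n + 1)),
      e.f (n + 1) = f ≫ I.d n (n + 1) + M'.d (n + 1) (n + 2) ≫ f'),
      ∃ f'' : M'.X (n + 3) ⟶ I.X (n + 2),
        e.f (n + 2) = p.2.1 ≫ I.d (n + 1) (n + 2) + M'.d (n + 2) (n + 3) ≫ f'' := by
    rintro n ⟨f₀, f₁, hcomm⟩
    have h2 : M'.d (n + 1) (n + 2) ≫ (e.f (n + 2) - f₁ ≫ I.d (n + 1) (n + 2)) = 0 := by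
      have h3 : M'.d (n + 1) (n + 2) ≫ f₁ = e.f (n + 1) - f₀ ≫ I.d n (n + 1) := by
        rw [hcomm]
        abel
      rw [Preadditive.comp_sub, ← e.comm (n + 1) (n + 2), ← Category.assoc, h3,
        Preadditive.sub_comp, Category.assoc, I.d_comp_d, Limits.comp_zero, sub_zero, sub_self]
    obtain ⟨ψ, hψ⟩ := extend_cat (hI (n + 2)) (M'.d (n + 1) (n + 2)) (M'.d (n + 2) (n + 3))
      (cochain_exact_succ' M' η hM' (n + 1)) (cochain_univ_range_succ M' η hM' (n + 1))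
      (e.f (n + 2) - f₁ ≫ I.d (n + 1) (n + 2)) h2
    refine ⟨ψ, ?_⟩
    rw [hψ]
    abel
  have H : Homotopy e 0 := Homotopy.mkCoinductive e zero hzero.symm one comm_one
    (fun n p => ⟨Classical.choose (hsucc n p), Classical.choose_spec (hsucc n p)⟩)
  exact ⟨Homotopy.equivSubZero.symm H⟩



/-- With `M → N` a map of `R`-modules, `M → M'` a universally exact resolution and `N → I` a coaugmented
cochain complex of pure injective modules, two maps of complexes `M' → I` inducing the same map `M →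
N` are homotopic. -/
theorem result (R : Type u) [CommRing R] {M N : ModuleCat.{u} R}
    (f : M ⟶ N) (M' I : CochainComplex (ModuleCat.{u} R) ℕ)
    (η : (CochainComplex.single₀ (ModuleCat.{u} R)).obj M ⟶ M')
    (ε : (CochainComplex.single₀ (ModuleCat.{u} R)).obj N ⟶ I)
    (hM' : ∀ T : ModuleCat.{u} R,
      QuasiIso (((MonoidalCategory.tensorRight T).mapHomologicalComplex (ComplexShape.up ℕ)).map η))
    (hI : ∀ n : ℕ, (∀ ⦃K L : Type u⦄ [AddCommGroup K] [Module R K] [AddCommGroup L] [Module R L] (g : K →ₗ[R] L),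
          CAlgX.UniversallyInjective R g → ∀ φ : K →ₗ[R] I.X n, ∃ ψ : L →ₗ[R] I.X n, ψ ∘ₗ g = φ))
    (α β : M' ⟶ I) (hα : η ≫ α = (CochainComplex.single₀ (ModuleCat.{u} R)).map f ≫ ε)
    (hβ : η ≫ β = (CochainComplex.single₀ (ModuleCat.{u} R)).map f ≫ ε) : Nonempty (Homotopy α β) := by
  exact main R f M' I η ε hM' hI α β hα hβ

end Groth.Agent.S8779
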