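import Groth.Statements.S8781
import Groth.Agent.Lib.Helper18.TangentExact

set_option autoImplicit false
universe u
open CategoryTheory Limits
open AdeqTF

namespace Groth.Agent.S8781

open Groth.Agent.Lib.helper18 in
theorem row_zero {A : Type u} [CommRing A] (F : Adeq.MVF A) (B : Adeq.Alg A)
    (S : ShortComplex (ModuleCat.{u} B)) (x : AdeqTF.tangent B S.X₁ F) :
    AdeqTF.tangentMap B F S.g (AdeqTF.tangentMap B F S.f x) = 0 := by
  rw [← tangentMap_comp_apply, S.zero, tangentMap_zero_apply]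

/-- Say a module-valued functor `F` on `A`-algebras has right exact tangent functors if for every
`A`-algebra `B` and every short exact sequence `0 → N₁ → N → N₂ → 0` of `B`-modules the sequence
`TF(B, N₁) → TF(B, N) → TF(B, N₂) → 0` is exact. If `0 → F → G → H → 0` is a short exact sequence of
module-valued functors and `F`, `G` have right exact tangent functors, so does `H`. -/
theorem result (A : Type u) [CommRing A] (C : ShortComplex (Adeq.MVF A))
    (hC : C.ShortExact)
    (h₁ : (∀ (B : Adeq.Alg A) (S : ShortComplex (ModuleCat.{u} B)), S.ShortExact →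
        Function.Surjective (AdeqTF.tangentMap B C.X₁ S.g) ∧
          (AdeqTF.tangentMap B C.X₁ S.g).ker = (AdeqTF.tangentMap B C.X₁ S.f).range))
    (h₂ : (∀ (B : Adeq.Alg A) (S : ShortComplex (ModuleCat.{u} B)), S.ShortExact →
        Function.Surjective (AdeqTF.tangentMap B C.X₂ S.g) ∧
          (AdeqTF.tangentMap B C.X₂ S.g).ker = (AdeqTF.tangentMap B C.X₂ S.f).range)) :
    (∀ (B : Adeq.Alg A) (S : ShortComplex (ModuleCat.{u} B)), S.ShortExact →
        Function.Surjective (AdeqTF.tangentMap B C.X₃ S.g) ∧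
          (AdeqTF.tangentMap B C.X₃ S.g).ker = (AdeqTF.tangentMap B C.X₃ S.f).range) := by
  intro B S hS
  obtain ⟨h₁s, h₁k⟩ := h₁ B S hS
  obtain ⟨h₂s, h₂k⟩ := h₂ B S hS
  constructor
  · intro z
    obtain ⟨z₂, rfl⟩ := Lib.helper18.tanNat_surjective B C hC S.X₃ z
    obtain ⟨v, rfl⟩ := h₂s z₂
    exact ⟨Lib.helper18.tanNat B C.g S.X₂ v, (Lib.helper18.tanNat_tangentMap B C.g S.g v).symm⟩
  · apply le_antisymm
    · intro z hz
      rw [AddMonoidHom.mem_ker] at hz
      obtain ⟨z₂, rfl⟩ := Lib.helper18.tanNat_surjective B C hC S.X₂ z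
      rw [← Lib.helper18.tanNat_tangentMap] at hz
      obtain ⟨w₁, hw₁⟩ := Lib.helper18.tanNat_exact B C hC S.X₃ _ hz
      obtain ⟨w, rfl⟩ := h₁s w₁
      have hmem : z₂ - Lib.helper18.tanNat B C.f S.X₂ w ∈ (tangentMap B C.X₂ S.g).ker := by
        rw [AddMonoidHom.mem_ker, map_sub, ← Lib.helper18.tanNat_tangentMap, hw₁, sub_self]
      rw [h₂k] at hmem
      obtain ⟨u, hu⟩ := hmem
      refine ⟨Lib.helper18.tanNat B C.g S.X₁ u, ?_⟩
      rw [← Lib.helper18.tanNat_tangentMap, hu, map_sub, Lib.helper18.tanNat_comp_zero, sub_zero]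
    · rintro _ ⟨x, rfl⟩
      rw [AddMonoidHom.mem_ker]
      exact row_zero C.X₃ B S x

end Groth.Agent.S8781
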