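import Groth.Statements.S8782
import Groth.Agent.Lib.Helper18.TangentExact

set_option autoImplicit false
universe u
open CategoryTheory Limits
open AdeqTF

namespace Groth.Agent.S8782

open Groth.Agent.Lib.helper18 in
theorem row_zero {A : Type u} [CommRing A] (F : Adeq.MVF A) (B : Adeq.Alg A)
    (S : ShortComplex (ModuleCat.{u} B)) (x : AdeqTF.tangent B S.X₁ F) :
    AdeqTF.tangentMap B F S.g (AdeqTF.tangentMap B F S.f x) = 0 := by
  rw [← tangentMap_comp_apply, S.zero, tangentMap_zero_apply]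

/-- If `0 → F → G → H → 0` is a short exact sequence of module-valued functors on `A`-algebras and `F`,
`H` have right exact tangent functors (for every `A`-algebra `B` and short exact `0 → N₁ → N → N₂ →
0` of `B`-modules, `T(B, N₁) → T(B, N) → T(B, N₂) → 0` is exact), so does `G`. -/
theorem result (A : Type u) [CommRing A] (C : ShortComplex (Adeq.MVF A))
    (hC : C.ShortExact)
    (h₁ : (∀ (B : Adeq.Alg A) (S : ShortComplex (ModuleCat.{u} B)), S.ShortExact →
        Function.Surjective (AdeqTF.tangentMap B C.X₁ S.g) ∧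
          (AdeqTF.tangentMap B C.X₁ S.g).ker = (AdeqTF.tangentMap B C.X₁ S.f).range))
    (h₃ : (∀ (B : Adeq.Alg A) (S : ShortComplex (ModuleCat.{u} B)), S.ShortExact →
        Function.Surjective (AdeqTF.tangentMap B C.X₃ S.g) ∧
          (AdeqTF.tangentMap B C.X₃ S.g).ker = (AdeqTF.tangentMap B C.X₃ S.f).range)) :
    (∀ (B : Adeq.Alg A) (S : ShortComplex (ModuleCat.{u} B)), S.ShortExact →
        Function.Surjective (AdeqTF.tangentMap B C.X₂ S.g) ∧
          (AdeqTF.tangentMap B C.X₂ S.g).ker = (AdeqTF.tangentMap B C.X₂ S.f).range) := by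
  intro B S hS
  obtain ⟨h₁s, h₁k⟩ := h₁ B S hS
  obtain ⟨h₃s, h₃k⟩ := h₃ B S hS
  constructor
  · intro z
    obtain ⟨v, hv⟩ := h₃s (Lib.helper18.tanNat B C.g S.X₃ z)
    obtain ⟨v₂, rfl⟩ := Lib.helper18.tanNat_surjective B C hC S.X₂ v
    have hd : Lib.helper18.tanNat B C.g S.X₃ (z - tangentMap B C.X₂ S.g v₂) = 0 := by
      rw [map_sub, Lib.helper18.tanNat_tangentMap, hv, sub_self]
    obtain ⟨w, hw⟩ := Lib.helper18.tanNat_exact B C hC S.X₃ _ hd
    obtain ⟨w', rfl⟩ := h₁s w
    refine ⟨v₂ + Lib.helper18.tanNat B C.f S.X₂ w', ?_⟩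
    rw [map_add, ← Lib.helper18.tanNat_tangentMap, hw]
    abel
  · apply le_antisymm
    · intro z hz
      rw [AddMonoidHom.mem_ker] at hz
      have h1 : Lib.helper18.tanNat B C.g S.X₂ z ∈ (tangentMap B C.X₃ S.g).ker := by
        rw [AddMonoidHom.mem_ker, ← Lib.helper18.tanNat_tangentMap, hz, map_zero]
      rw [h₃k] at h1
      obtain ⟨v, hv⟩ := h1
      obtain ⟨v₂, rfl⟩ := Lib.helper18.tanNat_surjective B C hC S.X₁ v
      have hd : Lib.helper18.tanNat B C.g S.X₂ (z - tangentMap B C.X₂ S.f v₂) = 0 := by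
        rw [map_sub, Lib.helper18.tanNat_tangentMap, hv, sub_self]
      obtain ⟨w, hw⟩ := Lib.helper18.tanNat_exact B C hC S.X₂ _ hd
      have hw0 : tangentMap B C.X₁ S.g w = 0 := by
        apply Lib.helper18.tanNat_injective B C hC S.X₃
        rw [Lib.helper18.tanNat_tangentMap, hw, map_sub, hz, row_zero, sub_zero, map_zero]
      have hw1 : w ∈ (tangentMap B C.X₁ S.g).ker := hw0
      rw [h₁k] at hw1
      obtain ⟨u, rfl⟩ := hw1
      refine ⟨v₂ + Lib.helper18.tanNat B C.f S.X₁ u, ?_⟩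
      rw [map_add, ← Lib.helper18.tanNat_tangentMap, hw]
      abel
    · rintro _ ⟨x, rfl⟩
      rw [AddMonoidHom.mem_ker]
      exact row_zero C.X₂ B S x

end Groth.Agent.S8782
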