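import Groth.Statements.S8783
import Groth.Agent.Lib.Helper18.Tangent

set_option autoImplicit false
universe u
open CategoryTheory Limits
open AdeqTF

namespace Groth.Agent.S8783

/-- Let `F` be a module-valued functor on `A`-algebras with right exact tangent functors (for every
`A`-algebra `B` and short exact `0 → N₁ → N → N₂ → 0` of `B`-modules, `TF(B, N₁) → TF(B, N) → TF(B,
N₂) → 0` is exact). Then `TF(B, N₁ ⊕ N₂) = TF(B, N₁) ⊕ TF(B, N₂)`: the map from the product induced
by the two inclusions is bijective. -/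
theorem result (A : Type u) [CommRing A] (F : Adeq.MVF A)
    (hF : (∀ (B : Adeq.Alg A) (S : ShortComplex (ModuleCat.{u} B)), S.ShortExact →
        Function.Surjective (AdeqTF.tangentMap B F S.g) ∧
          (AdeqTF.tangentMap B F S.g).ker = (AdeqTF.tangentMap B F S.f).range))
    (B : Adeq.Alg A) (N₁ N₂ : ModuleCat.{u} B) :
    Function.Bijective ((AdeqTF.tangentMap B F (biprod.inl : N₁ ⟶ N₁ ⊞ N₂)).coprod
      (AdeqTF.tangentMap B F (biprod.inr : N₂ ⟶ N₁ ⊞ N₂))) := by
  have hS := (ShortComplex.Splitting.ofHasBinaryBiproduct N₁ N₂).shortExact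
  obtain ⟨_, hker⟩ := hF B _ hS
  dsimp only at hker
  constructor
  · rw [injective_iff_map_eq_zero]
    rintro ⟨x, y⟩ h
    rw [AddMonoidHom.coprod_apply] at h
    have h1 := congrArg (tangentMap B F (biprod.fst : N₁ ⊞ N₂ ⟶ N₁)) h
    rw [map_add, ← Lib.helper18.tangentMap_comp_apply, ← Lib.helper18.tangentMap_comp_apply,
      biprod.inl_fst, biprod.inr_fst, Lib.helper18.tangentMap_id_apply,
      Lib.helper18.tangentMap_zero_apply, add_zero, map_zero] at h1
    have h2 := congrArg (tangentMap B F (biprod.snd : N₁ ⊞ N₂ ⟶ N₂)) h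
    rw [map_add, ← Lib.helper18.tangentMap_comp_apply, ← Lib.helper18.tangentMap_comp_apply,
      biprod.inl_snd, biprod.inr_snd, Lib.helper18.tangentMap_id_apply,
      Lib.helper18.tangentMap_zero_apply, zero_add, map_zero] at h2
    exact Prod.ext h1 h2
  · intro z
    set y := tangentMap B F (biprod.snd : N₁ ⊞ N₂ ⟶ N₂) z with hy
    have hmem : z - tangentMap B F (biprod.inr : N₂ ⟶ N₁ ⊞ N₂) y ∈
        (tangentMap B F (biprod.snd : N₁ ⊞ N₂ ⟶ N₂)).ker := by
      rw [AddMonoidHom.mem_ker, map_sub, ← Lib.helper18.tangentMap_comp_apply, biprod.inr_snd,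
        Lib.helper18.tangentMap_id_apply, sub_self]
    rw [hker] at hmem
    obtain ⟨x, hx⟩ := hmem
    refine ⟨(x, y), ?_⟩
    rw [AddMonoidHom.coprod_apply, hx]
    abel

end Groth.Agent.S8783
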