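import Groth.Statements.S8792
import Mathlib
import Groth.Agent.Lib.Helper19.Boot1

set_option autoImplicit false
universe u
open CategoryTheory
attribute [local instance] HasDerivedCategory.standard
open LocCoh

namespace Groth.Agent.S8792




/-- Let A be a Noetherian ring with a dualizing complex, I and J ideals, M a finite A-module, s and d
naturals, and T the set of primes p with V(p) ∩ V(I) ⊆ V(J). Assume: (3) every prime p ∉ V(I) lying
in T admits some q ∈ V(p) ∩ V(J) ∩ V(I) with dim((A/p)_q) ≤ d; (4) every prime p ∉ V(I) not in T has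
depth(M_p) ≥ s or depth(M_p) + dim((A/p)_q) > d + s for all q ∈ V(p) ∩ V(J) ∩ V(I); (6) every prime
p ∉ V(I) lying in T has depth(M_p) > s. Then there is an ideal J₀ ⊆ J with V(J₀) ∩ V(I) = V(J) ∩
V(I) such that for every J' ⊆ J₀ with V(J') ∩ V(I) = V(J) ∩ V(I) and every i ≤ s the comparison map
H^i_{J₀}(M) → H^i_{J'}(M) is bijective and H^i_{J₀}(M) is annihilated by a power of J₀I for i ≤ s;
moreover for i ≤ s the comparison maps H^i_J(M) → H^i_{J₀}(M) and H^i_{J+I}(M) → H^i_J(M) are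
bijective and H^i_J(M) is annihilated by a power of I. -/
theorem result (A : Type u) [CommRing A] [IsNoetherianRing A] (hdc : ∃ ω : Dual.D A, Dual.IsDualizing A ω) (I J : Ideal A) (M : Type u) [AddCommGroup M] [Module A M] [Module.Finite A M] (s d : ℕ) (T : Set (PrimeSpectrum A)) (hT : ∀ p : PrimeSpectrum A, p ∈ T ↔ ∀ q : PrimeSpectrum A, p ≤ q → I ≤ q.asIdeal → J ≤ q.asIdeal) (h3 : ∀ p : PrimeSpectrum A, ¬ I ≤ p.asIdeal → p ∈ T → ∃ q : PrimeSpectrum A, p ≤ q ∧ J ≤ q.asIdeal ∧ I ≤ q.asIdeal ∧ Formal2.dimBetween A p.asIdeal q.asIdeal ≤ ((d : ℕ∞) : WithBot ℕ∞)) (h4 : ∀ p : PrimeSpectrum A, ¬ I ≤ p.asIdeal → p ∉ T → ∀ q : PrimeSpectrum A, p ≤ q → J ≤ q.asIdeal → I ≤ q.asIdeal → (s : ℕ∞) ≤ LocCoh.depth (Localization.AtPrime p.asIdeal) (LocalizedModule p.asIdeal.primeCompl M) ∨ (((d + s : ℕ) : ℕ∞) : WithBot ℕ∞) < ((LocCoh.depth (Localization.AtPrime p.asIdeal) (LocalizedModule p.asIdeal.primeCompl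 M) : ℕ∞) : WithBot ℕ∞) + Formal2.dimBetween A p.asIdeal q.asIdeal) (h6 : ∀ p : PrimeSpectrum A, ¬ I ≤ p.asIdeal → p ∈ T → (s : ℕ∞) < LocCoh.depth (Localization.AtPrime p.asIdeal) (LocalizedModule p.asIdeal.primeCompl M)) : ∃ (J₀ : Ideal A) (hJ₀ : J₀ ≤ J), (J₀ ≤ J ∧ PrimeSpectrum.zeroLocus ((J₀ : Ideal A) : Set A) ∩ PrimeSpectrum.zeroLocus ((I : Ideal A) : Set A) = PrimeSpectrum.zeroLocus ((J : Ideal A) : Set A) ∩ PrimeSpectrum.zeroLocus ((I : Ideal A) : Set A) ∧ (∀ (J' : Ideal A) (hJ' : J' ≤ J₀), PrimeSpectrum.zeroLocus ((J' : Ideal A) : Set A) ∩ PrimeSpectrum.zeroLocus ((I : Ideal A) : Set A) = PrimeSpectrum.zeroLocus ((J : Ideal A) : Set A) ∩ PrimeSpectrum.zeroLocus ((I : Ideal A) : Set A) → ∀ i : ℕ, i ≤ s → Function.Bijective ((Dual2.HmapOfLE hJ' i).app (ModuleCat.of A M)).hom) ∧ (∃ n : ℕ, ∀ a ∈ (J₀ * I) ^ n, ∀ i : ℕ, i ≤ s → ∀ x : LocCoh.H J₀ i M, a • x = 0)) ∧ (∀ i : ℕ, i ≤ s → Function.Bijective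 ((Dual2.HmapOfLE hJ₀ i).app (ModuleCat.of A M)).hom ∧ Function.Bijective ((Dual2.HmapOfLE (le_sup_left : J ≤ J ⊔ I) i).app (ModuleCat.of A M)).hom) ∧ ∃ n : ℕ, ∀ a ∈ I ^ n, ∀ i : ℕ, i ≤ s → ∀ x : LocCoh.H J i M, a • x = 0 := by
  classical
  obtain ⟨J₀, h1, hJT, hc⟩ := Groth.Agent.Lib.helper19.Boot1.exists_J0 hdc I J M s d T hT h3 h4
  have hcon := Groth.Agent.Lib.helper19.Boot1.concl_of_core hdc I J M s d T hT h3 h4 J₀ h1 hJT hc
  have hVJ : ∀ p : PrimeSpectrum A, J ≤ p.asIdeal → p ∈ T := fun p hp =>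
    Groth.Agent.Lib.helper19.Boot1.zeroLocus_J_subset_T I J T hT hp
  have hbijA : ∀ i : ℕ, i ≤ s →
      Function.Bijective ((Dual2.HmapOfLE h1 i).app (ModuleCat.of A M)).hom := fun i hi =>
    Groth.Agent.Lib.helper19.Boot1.HmapOfLE_bijective_of_depth J₀ J h1 M s (fun p hp hnp => by
      have hpT : p ∈ T := hJT ((PrimeSpectrum.mem_zeroLocus _ _).2 (SetLike.coe_subset_coe.2 hp))
      exact h6 p (fun hI => hnp ((hT p).1 hpT p le_rfl hI)) hpT) i hi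
  have hbijB : ∀ i : ℕ, i ≤ s →
      Function.Bijective ((Dual2.HmapOfLE (le_sup_left : J ≤ J ⊔ I) i).app
        (ModuleCat.of A M)).hom := fun i hi =>
    Groth.Agent.Lib.helper19.Boot1.HmapOfLE_bijective_of_depth J (J ⊔ I) le_sup_left M s
      (fun p hp hnp => h6 p (fun hI => hnp (sup_le hp hI)) (hVJ p hp)) i hi
  obtain ⟨n, hn⟩ := Groth.Agent.Lib.helper19.Boot1.exists_pow_kills hdc (J ⊔ I) I (by
      intro q hq
      rw [PrimeSpectrum.mem_zeroLocus, SetLike.coe_subset_coe] at hq ⊢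
      exact le_sup_right.trans hq) M s (by
      intro p q hp hq hpq
      have hqT : q ∈ T := hVJ q (le_sup_left.trans hq)
      by_cases hpT : p ∈ T
      · exact Groth.Agent.Lib.helper19.Boot1.lt_add_krullDim_of_lt hpq s _ (h6 p hp hpT)
      · exact Groth.Agent.Lib.helper19.Boot1.dim_cond hdc I J M s d T hT h3 h4 p q hp hpT hqT hpq)
  refine ⟨J₀, h1, hcon, fun i hi => ⟨hbijA i hi, hbijB i hi⟩, n, fun a ha i hi x => ?_⟩
  obtain ⟨y, rfl⟩ := (hbijB i hi).2 x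
  rw [← map_smul, hn a ha i hi y, map_zero]

end Groth.Agent.S8792
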