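import Groth.Statements.S8803
import Mathlib
import Groth.Agent.S0817

set_option autoImplicit false
universe u
open CategoryTheory
open LocCoh

namespace Groth.Agent.S8803

-- MARK
section Aux
open Opposite CategoryTheory.Limits

theorem isML_of_artinian {A : Type u} [CommRing A] (F : ℕᵒᵖ ⥤ ModuleCat.{u} A)
    (hart : ∀ n : ℕ, IsArtinian A (F.obj (op n))) : ARSys.IsML F := by
  intro n
  haveI := hart n
  haveI : WellFoundedLT (Subobject (F.obj (op n))) :=
    (ModuleCat.subobjectModule (F.obj (op n))).toOrderEmbedding.wellFoundedLT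
  let f : ℕ →o (Subobject (F.obj (op n)))ᵒᵈ :=
    ⟨fun s => OrderDual.toDual (imageSubobject (ARSys.shiftMap F s n)), by
      intro s s' h
      show imageSubobject (ARSys.shiftMap F s' n) ≤ imageSubobject (ARSys.shiftMap F s n)
      have h1 : ARSys.shiftMap F s' n =
          F.map (homOfLE (Nat.add_le_add_left h n)).op ≫ ARSys.shiftMap F s n := by
        show F.map _ = F.map _ ≫ F.map _
        rw [← F.map_comp]
        rfl
      rw [h1]
      exact imageSubobject_comp_le _ _⟩
  obtain ⟨r, hr⟩ := (wellFoundedGT_iff_monotone_chain_condition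
    (α := (Subobject (F.obj (op n)))ᵒᵈ)).mp inferInstance f
  refine ⟨r, fun s hs => ?_⟩
  exact (hr s hs).symm
end Aux



/-- Let (A, m) be a Noetherian local ring and (M_n) an inverse system of finite A-modules. Then for
every i the inverse system H^i_m(M_n) of local cohomology modules satisfies the Mittag-Leffler
condition. -/
theorem result (A : Type u) [CommRing A] [IsNoetherianRing A] [IsLocalRing A] (Msys : ℕᵒᵖ ⥤ ModuleCat.{u} A) (hfin : ∀ n : ℕᵒᵖ, Module.Finite A (Msys.obj n)) (i : ℕ) : ARSys.IsML (Msys ⋙ localCohomology (IsLocalRing.maximalIdeal A) i) := by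
  apply isML_of_artinian
  intro n
  haveI := hfin (Opposite.op n)
  exact Groth.Agent.S0817.result A (Msys.obj (Opposite.op n)) i

end Groth.Agent.S8803
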