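import Groth.Statements.S8806
import Mathlib
import Groth.Agent.Lib.Helper13.JacNL1
import Groth.Agent.Lib.Helper13.JacNL2
-- import your own Groth.Agent.* helpers here

set_option autoImplicit false
universe u
open CategoryTheory
attribute [local instance] HasDerivedCategory.standard
open LCI

namespace Groth.Agent.S8806

open Groth.Agent.Lib.helper13


/-- Let A be a ring, m ≤ n, f_1, …, f_m ∈ A[x_1, …, x_n], B = A[x_1, …, x_n]/(f_1, …, f_m), and g ∈ B
the image of the determinant of the m × m matrix of partial derivatives ∂f_j/∂x_i with i, j ≤ m (the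
first m variables). Then: (1) for every B-module N, g annihilates Ext^1_B(NL_{B/A}, N), i.e. every
morphism NL_{B/A} → N[1] in D(B) is killed by g; (2) if n = m then multiplication by g on NL_{B/A}
is the zero endomorphism in D(B). -/
theorem result (A : Type u) [CommRing A] (n m : ℕ) (hmn : m ≤ n) (f : Fin m → MvPolynomial (Fin n) A) : (∀ (N : Type u) [AddCommGroup N] [Module (MvPolynomial (Fin n) A ⧸ Ideal.span (Set.range f)) N] (φ : LCI.NL A (MvPolynomial (Fin n) A ⧸ Ideal.span (Set.range f)) ⟶ (Dual.inD (MvPolynomial (Fin n) A ⧸ Ideal.span (Set.range f)) N)⟦(1 : ℤ)⟧), (Ideal.Quotient.mk (Ideal.span (Set.range f)) (Matrix.det (Matrix.of (fun i j : Fin m => MvPolynomial.pderiv (Fin.castLE hmn i) (f j))))) • φ = 0) ∧ (n = m → (Ideal.Quotient.mk (Ideal.span (Set.range f)) (Matrix.det (Matrix.of (fun i j : Fin m => MvPolynomial.pderiv (Fin.castLE hmn i) (f j))))) • 𝟙 (LCI.NL A (MvPolynomial (Fin n) A ⧸ Ideal.span (Set.range f))) = 0) := by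
  classical
  have hrel : (ComplexShape.up ℤ).Rel (-1) 0 := by simp
  haveI : Projective (ModuleCat.of (JacNL.B A n m f) (JacNL.S A n m f).CotangentSpace) :=
    (IsProjective.iff_projective _).1 inferInstance
  have h1 : ModuleCat.ofHom (JacNL.S A n m f).cotangentComplex ≫
      ModuleCat.ofHom (JacNL.hS A n m hmn f) =
      (JacNL.J A n m hmn f).det • 𝟙 (ModuleCat.of (JacNL.B A n m f) (JacNL.S A n m f).Cotangent) := by
    refine ModuleCat.hom_ext (LinearMap.ext (fun y => ?_))
    exact JacNL.hS_d A n m hmn f y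
  have h2 : ModuleCat.ofHom (JacNL.hS A n m hmn f) ≫
      ModuleCat.ofHom (JacNL.S A n m f).cotangentComplex + ModuleCat.ofHom (JacNL.US A n m hmn f) =
      (JacNL.J A n m hmn f).det •
        𝟙 (ModuleCat.of (JacNL.B A n m f) (JacNL.S A n m f).CotangentSpace) := by
    refine ModuleCat.hom_ext (LinearMap.ext (fun w => ?_))
    exact JacNL.d_hS_add_US A n m hmn f w
  have h3 : ModuleCat.ofHom (JacNL.S A n m f).cotangentComplex ≫
      ModuleCat.ofHom (JacNL.US A n m hmn f) = 0 := by
    refine ModuleCat.hom_ext (LinearMap.ext (fun y => ?_))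
    exact JacNL.US_d A n m hmn f y
  have key := JacNL.smul_eq_zero_of_double
    (ModuleCat.ofHom (JacNL.S A n m f).cotangentComplex) (ModuleCat.ofHom (JacNL.hS A n m hmn f))
    (ModuleCat.ofHom (JacNL.US A n m hmn f)) (JacNL.J A n m hmn f).det h1 h2 h3 hrel
  rw [JacNL.det_J] at key
  refine ⟨fun N _ _ φ => key.1 (ModuleCat.of _ N) φ, fun hnm => key.2 ?_⟩
  rw [JacNL.US_eq_zero A n m hmn f hnm]
  rfl

end Groth.Agent.S8806
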