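import Groth.Statements.S8812
import Mathlib

set_option autoImplicit false
universe u
open CategoryTheory AlgebraicGeometry
open Algz

namespace Groth.Agent.S8812

section Aux
variable {Y : Type u} [TopologicalSpace Y]

lemma codimPt_congr2 {w w' v v' : Y} (e : w = w') (e' : v = v') (h : w ⤳ v) (h' : w' ⤳ v') :
    codimPt w v h = codimPt w' v' h' := by
  subst e e'; rfl

lemma codimPt_self (v : Y) (h : v ⤳ v) : codimPt v v h = 0 := by
  unfold codimPt
  rw [Order.height_eq_zero]
  intro a _
  exact a.2

lemma one_le_codimPt [T0Space Y] {w v : Y} (h : w ⤳ v) (hne : w ≠ v) : 1 ≤ codimPt w v h := by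
  unfold codimPt
  rw [Order.one_le_iff_pos, Order.height_pos]
  intro hmin
  have h1 : (⟨Specialization.toEquiv v, Set.self_mem_Ici⟩ : Set.Ici (Specialization.toEquiv v)) ≤
      ⟨Specialization.toEquiv w, Specialization.toEquiv_le_toEquiv.mpr h⟩ :=
    Specialization.toEquiv_le_toEquiv.mpr h
  have h2 := hmin h1
  have h3 : v ⤳ w := Specialization.toEquiv_le_toEquiv.mp h2
  exact hne (h.antisymm h3).eq

lemma eq_of_codimPt_eq_zero [T0Space Y] {w v : Y} (h : w ⤳ v) (h0 : codimPt w v h = 0) : w = v := by
  by_contra hne
  have := one_le_codimPt h hne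
  rw [h0] at this
  simp at this

lemma codimPt_mono_right {w v v' : Y} (h : w ⤳ v) (hv : v ⤳ v') (h' : w ⤳ v') :
    codimPt w v h ≤ codimPt w v' h' := by
  unfold codimPt
  let F : Set.Ici (Specialization.toEquiv v) → Set.Ici (Specialization.toEquiv v') :=
    fun x => ⟨x.1, le_trans (Specialization.toEquiv_le_toEquiv.mpr hv) x.2⟩
  have hF : StrictMono F := fun a b hab => hab
  exact Order.height_le_height_apply_of_strictMono F hF
    ⟨Specialization.toEquiv w, Specialization.toEquiv_le_toEquiv.mpr h⟩

theorem caseI [T0Space Y] {Z : Set Y} (hZ : IsClosed Z) {y y' : Y} (hyy : y ⤳ y') {k : ℕ}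
    (S : DSystem Z y k) (hc : S.c (Fin.last k) = 0) :
    ∃ S' : DSystem Z y' k, S'.delta ≤ S.delta := by
  classical
  have hwv : S.w (Fin.last k) = S.v (Fin.last k) := eq_of_codimPt_eq_zero (S.spec _) hc
  have hvy : S.v (Fin.last k) = y := hwv ▸ S.last_eq
  let S' : DSystem Z y' k :=
    { v := Function.update S.v (Fin.last k) y'
      w := Function.update S.w (Fin.last k) y'
      spec := by
        intro i
        by_cases h : i = Fin.last k
        · subst h; simp only [Function.update_self]; exact specializes_rfl
        · simp only [Function.update_of_ne h]; exact S.spec i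
      spec_succ := by
        intro i
        have h1 : i.castSucc ≠ Fin.last k := (Fin.castSucc_lt_last i).ne
        rw [Function.update_of_ne h1]
        by_cases h : i.succ = Fin.last k
        · rw [h, Function.update_self]
          have := S.spec_succ i
          rw [h, hvy] at this
          exact this.trans hyy
        · rw [Function.update_of_ne h]; exact S.spec_succ i
      start_mem := by
        by_cases h : (0 : Fin (k + 1)) = Fin.last k
        · rw [h, Function.update_self]
          have h0 := S.start_mem
          rw [h, hvy] at h0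
          exact hyy.mem_closed hZ h0
        · rw [Function.update_of_ne h]; exact S.start_mem
      last_eq := by simp }
  have hcle : ∀ j, S'.c j ≤ S.c j := by
    intro j
    by_cases h : j = Fin.last k
    · subst h
      have : S'.c (Fin.last k) = 0 := by
        unfold DSystem.c
        rw [codimPt_congr2 (w' := y') (v' := y') (by simp [S']) (by simp [S']) _ specializes_rfl]
        exact codimPt_self _ _
      rw [this]; exact zero_le
    · unfold DSystem.c
      rw [codimPt_congr2 (w' := S.w j) (v' := S.v j) (by simp [S', Function.update_of_ne h])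
        (by simp [S', Function.update_of_ne h]) _ (S.spec j)]
  have hble : ∀ j, S.b j ≤ S'.b j := by
    intro j
    have h1 : j.castSucc ≠ Fin.last k := (Fin.castSucc_lt_last j).ne
    by_cases h : j.succ = Fin.last k
    · have hs : S.w j.castSucc ⤳ y' := by
        have := S.spec_succ j
        rw [h, hvy] at this
        exact this.trans hyy
      have e : S'.b j = codimPt (S.w j.castSucc) y' hs := by
        unfold DSystem.b
        exact codimPt_congr2 (by simp [S', Function.update_of_ne h1]) (by simp [S', h]) _ _
      rw [e]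
      unfold DSystem.b
      refine codimPt_mono_right _ ?_ _
      rw [h, hvy]; exact hyy
    · have e : S'.b j = S.b j := by
        unfold DSystem.b
        exact codimPt_congr2 (by simp [S', Function.update_of_ne h1])
          (by simp [S', Function.update_of_ne h]) _ _
      rw [e]
  refine ⟨S', ?_⟩
  unfold DSystem.delta
  refine add_le_add_right (Finset.sup_mono_fun fun i _ => ?_) _
  exact tsub_le_tsub (Finset.sum_le_sum fun j _ => hcle j) (Finset.sum_le_sum fun j _ => hble j)

theorem caseII [T0Space Y] {Z : Set Y} {y y' : Y} (hyy : y ⤳ y') (hne : y ≠ y') {k : ℕ}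
    (S : DSystem Z y k) (hc : 1 ≤ S.c (Fin.last k)) :
    ∃ S' : DSystem Z y' (k + 1), S'.delta ≤ S.delta := by
  classical
  let S' : DSystem Z y' (k + 1) :=
    { v := Fin.snoc (α := fun _ => Y) S.v y'
      w := Fin.snoc (α := fun _ => Y) S.w y'
      spec := by
        intro i
        induction i using Fin.lastCases with
        | last => simp only [Fin.snoc_last]; exact specializes_rfl
        | cast i => simp only [Fin.snoc_castSucc]; exact S.spec i
      spec_succ := by
        intro i
        rw [Fin.snoc_castSucc]
        induction i using Fin.lastCases with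
        | last =>
          rw [Fin.succ_last, Fin.snoc_last, S.last_eq]; exact hyy
        | cast j =>
          rw [Fin.succ_castSucc, Fin.snoc_castSucc]; exact S.spec_succ j
      start_mem := by
        have : (0 : Fin (k + 1 + 1)) = (0 : Fin (k + 1)).castSucc := rfl
        rw [this, Fin.snoc_castSucc]; exact S.start_mem
      last_eq := by simp }
  have hc' : ∀ j : Fin (k + 1), S'.c j.castSucc = S.c j := by
    intro j
    unfold DSystem.c
    exact codimPt_congr2 (by simp [S']) (by simp [S']) _ _
  have hcl : S'.c (Fin.last (k + 1)) = 0 := by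
    unfold DSystem.c
    rw [codimPt_congr2 (w' := y') (v' := y') (by simp [S']) (by simp [S']) _ specializes_rfl]
    exact codimPt_self _ _
  have hb' : ∀ j : Fin k, S'.b j.castSucc = S.b j := by
    intro j
    unfold DSystem.b
    refine codimPt_congr2 (by simp [S']) ?_ _ _
    show Fin.snoc (α := fun _ => Y) S.v y' (j.castSucc.succ) = S.v j.succ
    rw [Fin.succ_castSucc, Fin.snoc_castSucc]
  have hbl : 1 ≤ S'.b (Fin.last k) := by
    have e : S'.b (Fin.last k) = codimPt y y' hyy := by
      unfold DSystem.b
      refine codimPt_congr2 ?_ ?_ _ _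
      · show Fin.snoc (α := fun _ => Y) S.w y' (Fin.last k).castSucc = y
        rw [Fin.snoc_castSucc, S.last_eq]
      · show Fin.snoc (α := fun _ => Y) S.v y' (Fin.last k).succ = y'
        rw [Fin.succ_last, Fin.snoc_last]
    rw [e]
    exact one_le_codimPt hyy hne
  refine ⟨S', ?_⟩
  unfold DSystem.delta
  set M := Finset.univ.sup fun i : Fin (k + 1) =>
    (∑ j ∈ Finset.univ.filter (fun j : Fin (k + 1) => i ≤ j), S.c j) -
      ∑ j ∈ Finset.univ.filter (fun j : Fin k => i.val ≤ j.val), S.b j with hM
  have hM1 : 1 ≤ M := by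
    refine le_trans ?_ (Finset.le_sup (f := fun i : Fin (k + 1) =>
      (∑ j ∈ Finset.univ.filter (fun j : Fin (k + 1) => i ≤ j), S.c j) -
        ∑ j ∈ Finset.univ.filter (fun j : Fin k => i.val ≤ j.val), S.b j) (Finset.mem_univ (Fin.last k)))
    have h1 : (Finset.univ.filter (fun j : Fin (k + 1) => Fin.last k ≤ j)) = {Fin.last k} := by
      ext j; simp [Fin.last_le_iff]
    have h2 : (Finset.univ.filter (fun j : Fin k => (Fin.last k).val ≤ j.val)) = ∅ := by
      ext j; simp
    simp only [h1, h2, Finset.sum_singleton, Finset.sum_empty, tsub_zero]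
    exact hc
  have hsup : (Finset.univ.sup fun i : Fin (k + 1 + 1) =>
      (∑ j ∈ Finset.univ.filter (fun j : Fin (k + 1 + 1) => i ≤ j), S'.c j) -
        ∑ j ∈ Finset.univ.filter (fun j : Fin (k + 1) => i.val ≤ j.val), S'.b j) ≤ M - 1 := by
    refine Finset.sup_le fun i _ => ?_
    have e1 : (∑ j ∈ Finset.univ.filter (fun j : Fin (k + 1 + 1) => i ≤ j), S'.c j) =
        ∑ j : Fin (k + 1), if i ≤ j.castSucc then S.c j else 0 := by
      rw [Finset.sum_filter, Fin.sum_univ_castSucc, hcl]
      simp only [ite_self, add_zero, hc']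
    have e2 : (∑ j ∈ Finset.univ.filter (fun j : Fin (k + 1) => i.val ≤ j.val), S'.b j) =
        (∑ j : Fin k, if i.val ≤ j.val then S.b j else 0) +
          if i.val ≤ k then S'.b (Fin.last k) else 0 := by
      rw [Finset.sum_filter, Fin.sum_univ_castSucc]
      simp only [hb', Fin.val_castSucc, Fin.val_last]
    rw [e1, e2]
    induction i using Fin.lastCases with
    | last =>
      have : ∀ j : Fin (k + 1), ¬ (Fin.last (k + 1) ≤ j.castSucc) := fun j =>
        not_le.mpr (Fin.castSucc_lt_last j)
      simp only [this, if_false, Finset.sum_const_zero]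
      rw [zero_tsub]
      exact zero_le
    | cast i0 =>
      have hi0 : (i0.castSucc).val ≤ k := Nat.lt_succ_iff.mp i0.isLt
      rw [if_pos hi0, tsub_add_eq_tsub_tsub]
      refine tsub_le_tsub ?_ hbl
      refine le_trans (le_of_eq ?_) (Finset.le_sup (f := fun i : Fin (k + 1) =>
        (∑ j ∈ Finset.univ.filter (fun j : Fin (k + 1) => i ≤ j), S.c j) -
          ∑ j ∈ Finset.univ.filter (fun j : Fin k => i.val ≤ j.val), S.b j) (Finset.mem_univ i0))
      simp only [Finset.sum_filter, Fin.castSucc_le_castSucc_iff, Fin.val_castSucc]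
  calc ((k + 1 : ℕ) : ℕ∞) + _ ≤ ((k + 1 : ℕ) : ℕ∞) + (M - 1) := add_le_add_right hsup _
    _ = (k : ℕ∞) + (1 + (M - 1)) := by push_cast; rw [add_assoc]
    _ = (k : ℕ∞) + M := by rw [add_tsub_cancel_of_le hM1]

end Aux


/-- Let Y be a Noetherian scheme and Z ⊆ Y a closed subset. If y specializes to y' then δ_Z(y') ≤
δ_Z(y); equivalently each set {y | δ_Z(y) ≤ k} is stable under specialization. -/
theorem result (Y : Scheme.{u}) [IsNoetherian Y] (Z : Set Y) (hZ : IsClosed Z) (y y' : Y) (h : y ⤳ y') : Algz.deltaZ Z y' ≤ Algz.deltaZ Z y := by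
  unfold deltaZ
  refine le_iInf₂ fun k S => ?_
  by_cases hne : y = y'
  · subst hne; exact iInf₂_le k S
  by_cases hc : S.c (Fin.last k) = 0
  · obtain ⟨S', hS'⟩ := caseI hZ h S hc
    exact (iInf₂_le k S').trans hS'
  · have h1 : 1 ≤ S.c (Fin.last k) := Order.one_le_iff_pos.mpr (pos_iff_ne_zero.mpr hc)
    obtain ⟨S', hS'⟩ := caseII h hne S h1
    exact (iInf₂_le (k + 1) S').trans hS'

end Groth.Agent.S8812
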