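import Groth.Statements.S8813
import Mathlib

set_option autoImplicit false
universe u
open CategoryTheory AlgebraicGeometry
open Algz

namespace Groth.Agent.S8813

lemma coheight_eq_ringKrullDim_quotient {R : Type*} [CommRing R] (P : PrimeSpectrum R) :
    ((Order.coheight P : ℕ∞) : WithBot ℕ∞) = ringKrullDim (R ⧸ P.asIdeal) := by
  rw [ringKrullDim_quotient, Order.coheight_eq_krullDim_Ici]
  have : Set.Ici P = PrimeSpectrum.zeroLocus (P.asIdeal : Set R) := by
    ext q
    simp only [Set.mem_Ici, PrimeSpectrum.mem_zeroLocus, SetLike.coe_subset_coe]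
    exact PrimeSpectrum.asIdeal_le_asIdeal _ _ |>.symm
  exact Order.krullDim_eq_of_orderIso (OrderIso.setCongr _ _ this)


/-- Let Y be a Noetherian scheme, Z ⊆ Y a closed subset, y a point of Y and z a point of Z lying in the
closure of y. Then δ_Z(y) is at most the dimension of the local ring at z of the closure of y with
its reduced structure, that is, the Krull dimension of O_{Y,z}/𝔭 where 𝔭 is the prime ideal of the
local ring O_{Y,z} given by the point of Spec O_{Y,z} that maps to y. -/
theorem result (Y : Scheme.{u}) [IsNoetherian Y] (Z : Set Y) (hZ : IsClosed Z) (y z : Y) (h : y ⤳ z) (hz : z ∈ Z) (P : PrimeSpectrum (Y.presheaf.stalk z)) (hP : (Y.fromSpecStalk z).base P = y) : ((Algz.deltaZ Z y : ℕ∞) : WithBot ℕ∞) ≤ ringKrullDim (↥(Y.presheaf.stalk z) ⧸ P.asIdeal) := by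
  classical
  -- step 1: the system of length 0
  have h1 : deltaZ Z y ≤ codimPt y z h := by
    let S : DSystem Z y 0 :=
      { v := fun _ => z, w := fun _ => y, spec := fun _ => h, spec_succ := fun i => i.elim0,
        start_mem := hz, last_eq := rfl }
    refine (iInf₂_le (f := fun k' (S' : DSystem Z y k') => S'.delta) 0 S).trans ?_
    have : S.delta = codimPt y z h := by
      unfold DSystem.delta
      simp [DSystem.c, S, Finset.filter_true_of_mem]
    exact this.le
  -- step 2: chains of generalizations of z are chains of primes
  have h2 : codimPt y z h ≤ Order.coheight P := by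
    unfold codimPt
    have hemb : Topology.IsEmbedding (Y.fromSpecStalk z).base := (Y.fromSpecStalk z).isEmbedding
    have hrange : ∀ x : Set.Ici (Specialization.toEquiv z),
        ∃ p : PrimeSpectrum (Y.presheaf.stalk z),
          (Y.fromSpecStalk z).base p = Specialization.ofEquiv x.1 := by
      intro x
      have : Specialization.ofEquiv x.1 ∈ Set.range (Y.fromSpecStalk z).base := by
        rw [Scheme.range_fromSpecStalk]; exact x.2
      exact this
    choose g hg using hrange
    let G : Set.Ici (Specialization.toEquiv z) → (PrimeSpectrum (Y.presheaf.stalk z))ᵒᵈ :=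
      fun x => OrderDual.toDual (g x)
    have hle : ∀ a b : Set.Ici (Specialization.toEquiv z), G a ≤ G b ↔ a ≤ b := by
      intro a b
      show g b ≤ g a ↔ Specialization.ofEquiv b.1 ⤳ Specialization.ofEquiv a.1
      rw [PrimeSpectrum.le_iff_specializes, ← hg a, ← hg b]
      exact hemb.isInducing.specializes_iff.symm
    have hG : StrictMono G := by
      intro a b hab
      rw [lt_iff_le_not_ge] at hab ⊢
      rw [hle, hle]
      exact hab
    have key := Order.height_le_height_apply_of_strictMono G hG
      ⟨Specialization.toEquiv y, Specialization.toEquiv_le_toEquiv.mpr h⟩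
    have hGy : G ⟨Specialization.toEquiv y, Specialization.toEquiv_le_toEquiv.mpr h⟩ =
        OrderDual.toDual P := by
      show OrderDual.toDual (g _) = OrderDual.toDual P
      congr 1
      apply hemb.injective
      rw [hg, hP]; rfl
    rw [hGy, Order.height_toDual] at key
    exact key
  calc ((deltaZ Z y : ℕ∞) : WithBot ℕ∞) ≤ ((Order.coheight P : ℕ∞) : WithBot ℕ∞) :=
        WithBot.coe_le_coe.mpr (h1.trans h2)
    _ = _ := coheight_eq_ringKrullDim_quotient P

end Groth.Agent.S8813
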