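import Groth.Statements.S8814
import Mathlib

set_option autoImplicit false
universe u
open CategoryTheory AlgebraicGeometry
open Algz

namespace Groth.Agent.S8814

section Aux
variable {Y : Type u} [TopologicalSpace Y] [T0Space Y] (δ : Y → ℤ)
  (hδ : ∀ x y : Y, x ⤳ y → x ≠ y →
    δ y < δ x ∧ ((∀ z : Y, x ⤳ z → z ⤳ y → z = x ∨ z = y) → δ x = δ y + 1))

include hδ

lemma delta_mono {x y : Y} (h : x ⤳ y) : δ y ≤ δ x := by
  by_cases e : x = y
  · subst e; exact le_rfl
  · exact (hδ x y h e).1.le

lemma height_le (v : Y) (x : Set.Ici (Specialization.toEquiv v)) :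
    Order.height x ≤ (((δ (Specialization.ofEquiv x.1) - δ v).toNat : ℕ) : ℕ∞) := by
  let f : Set.Ici (Specialization.toEquiv v) → ℕ :=
    fun a => (δ (Specialization.ofEquiv a.1) - δ v).toNat
  have hf : StrictMono f := by
    intro a b hab
    have hba : Specialization.ofEquiv b.1 ⤳ Specialization.ofEquiv a.1 := hab.le
    have hne : Specialization.ofEquiv b.1 ≠ Specialization.ofEquiv a.1 := by
      intro e
      have : b = a := Subtype.ext e
      exact hab.ne' this
    have h1 := (hδ _ _ hba hne).1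
    have h2 : δ v ≤ δ (Specialization.ofEquiv a.1) := delta_mono δ hδ a.2
    show (δ (Specialization.ofEquiv a.1) - δ v).toNat < (δ (Specialization.ofEquiv b.1) - δ v).toNat
    omega
  have := Order.height_le_height_apply_of_strictMono f hf x
  rwa [Order.height_nat] at this

lemma le_height (v : Y) : ∀ (m : ℕ) (x : Set.Ici (Specialization.toEquiv v)),
    Order.height x = m → δ (Specialization.ofEquiv x.1) ≤ δ v + m := by
  intro m
  induction m with
  | zero =>
    intro x hx
    rw [Nat.cast_zero, Order.height_eq_zero] at hx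
    have h1 : (⟨Specialization.toEquiv v, Set.self_mem_Ici⟩ : Set.Ici (Specialization.toEquiv v)) ≤ x :=
      x.2
    have h2 := hx h1
    have h3 : v ⤳ Specialization.ofEquiv x.1 := h2
    have := delta_mono δ hδ h3
    simpa using this
  | succ m ih =>
    intro x hx
    rw [Nat.cast_succ, Order.height_eq_coe_add_one_iff] at hx
    obtain ⟨-, ⟨y, hyx, hy⟩, hall⟩ := hx
    have ihy := ih y hy
    have hxy : Specialization.ofEquiv x.1 ⤳ Specialization.ofEquiv y.1 := hyx.le
    have hne : Specialization.ofEquiv x.1 ≠ Specialization.ofEquiv y.1 := by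
      intro e
      exact hyx.ne' (Subtype.ext e)
    have himm : ∀ z : Y, Specialization.ofEquiv x.1 ⤳ z → z ⤳ Specialization.ofEquiv y.1 →
        z = Specialization.ofEquiv x.1 ∨ z = Specialization.ofEquiv y.1 := by
      intro z hxz hzy
      by_contra hcon
      push Not at hcon
      have hzv : z ⤳ v := hzy.trans y.2
      let z' : Set.Ici (Specialization.toEquiv v) :=
        ⟨Specialization.toEquiv z, Specialization.toEquiv_le_toEquiv.mpr hzv⟩
      have hyz : y < z' := by
        refine lt_of_le_of_ne hzy ?_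
        intro e
        apply hcon.2
        have : y.1 = z'.1 := congrArg Subtype.val e
        exact congrArg Specialization.ofEquiv this.symm
      have hzx : z' < x := by
        refine lt_of_le_of_ne hxz ?_
        intro e
        apply hcon.1
        have : z'.1 = x.1 := congrArg Subtype.val e
        exact congrArg Specialization.ofEquiv this
      have h1 := Order.height_add_one_le hyz
      have h2 := hall z' hzx
      rw [hy] at h1
      have : ((m : ℕ∞) + 1) ≤ m := h1.trans h2
      have : (m + 1 : ℕ) ≤ m := by exact_mod_cast this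
      omega
    have := (hδ _ _ hxy hne).2 himm
    push_cast
    omega

lemma codimPt_eq {w v : Y} (h : w ⤳ v) :
    codimPt w v h = (((δ w - δ v).toNat : ℕ) : ℕ∞) := by
  unfold codimPt
  set x : Set.Ici (Specialization.toEquiv v) :=
    ⟨Specialization.toEquiv w, Specialization.toEquiv_le_toEquiv.mpr h⟩ with hx
  have h1 := height_le δ hδ v x
  have hfin : Order.height x ≠ ⊤ := ne_top_of_le_ne_top (ENat.natCast_ne_top _) h1
  obtain ⟨m, hm⟩ := ENat.ne_top_iff_exists.mp hfin
  have h2 := le_height δ hδ v m x hm.symm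
  rw [← hm] at h1 ⊢
  have h1' : m ≤ (δ w - δ v).toNat := by exact_mod_cast h1
  have h2' : δ w ≤ δ v + m := h2
  have : m = (δ w - δ v).toNat := by omega
  rw [this]

end Aux


/-- Let Y be a Noetherian scheme, Z ⊆ Y a closed subset and δ a dimension function on Y. If δ_Z(y) is a
natural number n, then δ(y) ≤ n + δ(z) for some z ∈ Z; in other words δ(y) ≤ δ_Z(y) + δ_max with
δ_max the maximum of δ on Z. -/
theorem result (Y : Scheme.{u}) [IsNoetherian Y] (Z : Set Y) (hZ : IsClosed Z) (δ : Y → ℤ) (hδ : Cyc.IsDimFun Y δ) (y : Y) (n : ℕ) (hn : Algz.deltaZ Z y = n) : ∃ z ∈ Z, δ y ≤ n + δ z := by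
  classical
  have hδ' : ∀ x y : Y, x ⤳ y → x ≠ y →
    δ y < δ x ∧ ((∀ z : Y, x ⤳ z → z ⤳ y → z = x ∨ z = y) → δ x = δ y + 1) := hδ
  -- a system of value ≤ n
  obtain ⟨k, S, hS⟩ : ∃ (k : ℕ) (S : DSystem Z y k), S.delta ≤ n := by
    by_contra hcon
    push Not at hcon
    have : (n : ℕ∞) + 1 ≤ deltaZ Z y := le_iInf₂ fun k S => Order.add_one_le_of_lt (hcon k S)
    rw [hn] at this
    have : (n + 1 : ℕ) ≤ n := by exact_mod_cast this
    omega
  refine ⟨S.v 0, S.start_mem, ?_⟩
  have hc : ∀ j, S.c j = (((δ (S.w j) - δ (S.v j)).toNat : ℕ) : ℕ∞) := fun j =>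
    codimPt_eq δ hδ' (S.spec j)
  have hb : ∀ j, S.b j = (((δ (S.w j.castSucc) - δ (S.v j.succ)).toNat : ℕ) : ℕ∞) := fun j =>
    codimPt_eq δ hδ' (S.spec_succ j)
  have hD : ∀ j, 0 ≤ δ (S.w j) - δ (S.v j) := fun j =>
    sub_nonneg.mpr (delta_mono δ hδ' (S.spec j))
  have hE : ∀ j : Fin k, 0 ≤ δ (S.w j.castSucc) - δ (S.v j.succ) := fun j =>
    sub_nonneg.mpr (delta_mono δ hδ' (S.spec_succ j))
  -- the term i = 0
  have h0 : (∑ j : Fin (k + 1), S.c j) - ∑ j : Fin k, S.b j ≤ (n : ℕ∞) := by
    refine le_trans ?_ hS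
    unfold DSystem.delta
    refine le_trans ?_ le_add_self
    refine le_trans (le_of_eq ?_) (Finset.le_sup (f := fun i : Fin (k + 1) =>
        (∑ j ∈ Finset.univ.filter (fun j : Fin (k + 1) => i ≤ j), S.c j) -
          ∑ j ∈ Finset.univ.filter (fun j : Fin k => i.val ≤ j.val), S.b j) (Finset.mem_univ 0))
    simp
  simp only [hc, hb] at h0
  set a : ℕ := ∑ j : Fin (k + 1), (δ (S.w j) - δ (S.v j)).toNat with ha
  set b : ℕ := ∑ j : Fin k, (δ (S.w j.castSucc) - δ (S.v j.succ)).toNat with hb'
  have h0' : a - b ≤ n := by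
    have : (((a - b : ℕ) : ℕ∞)) ≤ n := by
      rw [ENat.natCast_sub, ha, hb']
      push_cast
      exact h0
    exact_mod_cast this
  have haZ : (a : ℤ) = ∑ j : Fin (k + 1), (δ (S.w j) - δ (S.v j)) := by
    rw [ha]; push_cast
    exact Finset.sum_congr rfl fun j _ => Int.toNat_of_nonneg (hD j)
  have hbZ : (b : ℤ) = ∑ j : Fin k, (δ (S.w j.castSucc) - δ (S.v j.succ)) := by
    rw [hb']; push_cast
    exact Finset.sum_congr rfl fun j _ => Int.toNat_of_nonneg (hE j)
  have htel : δ y - δ (S.v 0) = (a : ℤ) - b := by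
    rw [haZ, hbZ, Finset.sum_sub_distrib, Finset.sum_sub_distrib,
      Fin.sum_univ_castSucc (fun j => δ (S.w j)), Fin.sum_univ_succ (fun j => δ (S.v j)), S.last_eq]
    ring
  omega

end Groth.Agent.S8814
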