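import Groth.Statements.S8815
import Groth.Agent.S8813
import Groth.Agent.S8814
import Mathlib

set_option autoImplicit false
universe u
open CategoryTheory AlgebraicGeometry
open Algz

namespace Groth.Agent.S8815

section Aux
variable {A : Type u} [CommRing A] [IsNoetherianRing A] [IsLocalRing A]

lemma le_closedPoint (x : PrimeSpectrum A) : x ≤ IsLocalRing.closedPoint A :=
  (PrimeSpectrum.le_iff_specializes _ _).mpr (IsLocalRing.specializes_closedPoint x)

lemma cons_covBy {m : ℕ} {x : PrimeSpectrum A} {f : Fin (m + 1) → PrimeSpectrum A}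
    (h0 : x ⋖ f 0) (hf : ∀ i : Fin m, f i.castSucc ⋖ f i.succ) :
    ∀ i : Fin (m + 1), (Fin.cons x f : Fin (m + 2) → PrimeSpectrum A) i.castSucc ⋖
      (Fin.cons x f : Fin (m + 2) → PrimeSpectrum A) i.succ := by
  intro i
  refine Fin.cases ?_ (fun j => ?_) i
  · simp only [Fin.castSucc_zero, Fin.cons_zero, Fin.cons_succ]; exact h0
  · rw [← Fin.succ_castSucc, Fin.cons_succ, Fin.cons_succ]; exact hf j

lemma exists_sat_chain : ∀ (m : ℕ) (x : PrimeSpectrum A), Order.coheight x = m →
    ∃ f : Fin (m + 1) → PrimeSpectrum A, f 0 = x ∧ f (Fin.last m) = IsLocalRing.closedPoint A ∧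
      ∀ i : Fin m, f i.castSucc ⋖ f i.succ := by
  intro m
  induction m with
  | zero =>
    intro x hx
    rw [Nat.cast_zero, Order.coheight_eq_zero] at hx
    have hle := le_closedPoint x
    exact ⟨fun _ => x, rfl, le_antisymm hle (hx hle), fun i => i.elim0⟩
  | succ m ih =>
    intro x hx
    rw [Nat.cast_succ, Order.coheight_eq_coe_add_one_iff] at hx
    obtain ⟨-, ⟨y, hxy, hy⟩, hall⟩ := hx
    obtain ⟨f, hf0, hfl, hfs⟩ := ih y hy
    have hcov : x ⋖ f 0 := by
      rw [hf0]
      refine ⟨hxy, fun z hxz hzy => ?_⟩
      have h1 := hall z hxz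
      have h2 := Order.coheight_add_one_le hzy
      rw [hy] at h2
      have : ((m : ℕ∞) + 1) ≤ m := h2.trans h1
      have : (m + 1 : ℕ) ≤ m := by exact_mod_cast this
      omega
    refine ⟨Fin.cons x f, by simp, ?_, cons_covBy hcov hfs⟩
    rw [← Fin.succ_last, Fin.cons_succ]; exact hfl

lemma coheight_covBy (hA : CAlg.IsCatenary A) {p q : PrimeSpectrum A} (h : p ⋖ q) :
    Order.coheight p = Order.coheight q + 1 := by
  obtain ⟨m, hm⟩ := ENat.ne_top_iff_exists.mp (Order.coheight_lt_top q).ne
  obtain ⟨m', hm'⟩ := ENat.ne_top_iff_exists.mp (Order.coheight_lt_top p).ne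
  obtain ⟨f, hf0, hfl, hfs⟩ := exists_sat_chain m q hm.symm
  obtain ⟨g, hg0, hgl, hgs⟩ := exists_sat_chain m' p hm'.symm
  have hs1 := cons_covBy (x := p) (f := f) (by rw [hf0]; exact h) hfs
  let s : LTSeries (PrimeSpectrum A) :=
    { length := m + 1, toFun := Fin.cons p f, step := fun i => (hs1 i).lt }
  let t : LTSeries (PrimeSpectrum A) :=
    { length := m', toFun := g, step := fun i => (hgs i).lt }
  have hhead : s.head = t.head := by
    show (Fin.cons p f : Fin (m + 2) → PrimeSpectrum A) 0 = g 0
    rw [Fin.cons_zero, hg0]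
  have hlast : s.last = t.last := by
    show (Fin.cons p f : Fin (m + 2) → PrimeSpectrum A) (Fin.last (m + 1)) = g (Fin.last m')
    rw [← Fin.succ_last, Fin.cons_succ, hfl, hgl]
  have key : m + 1 = m' := hA.2 s t hhead hlast hs1 hgs
  rw [← hm, ← hm', ← key]
  push_cast; rfl

/-- a point of `Spec A` viewed as a prime (to get the inclusion order on primes) -/
def toPS (x : Spec (CommRingCat.of A)) : PrimeSpectrum A := x

end Aux


/-- Let A be a catenary Noetherian local ring, Y = Spec A and Z the closed point. Then δ_Z(y) equals the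
dimension of the closure of y, i.e. dim(A/p_y), for every point y. -/
theorem result (A : Type u) [CommRing A] [IsNoetherianRing A] [IsLocalRing A] (hA : CAlg.IsCatenary A) (y : Spec (CommRingCat.of A)) : ((Algz.deltaZ ({IsLocalRing.closedPoint A} : Set (Spec (CommRingCat.of A))) y : ℕ∞) : WithBot ℕ∞) = ringKrullDim (A ⧸ y.asIdeal) := by
  classical
  rw [← Groth.Agent.S8813.coheight_eq_ringKrullDim_quotient (R := A) y]
  refine le_antisymm ?_ ?_
  · -- upper bound via the system of length 0
    refine WithBot.coe_le_coe.mpr ?_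
    have hy : y ⤳ (IsLocalRing.closedPoint A : Spec (CommRingCat.of A)) :=
      IsLocalRing.specializes_closedPoint (R := A) y
    have h1 : deltaZ ({IsLocalRing.closedPoint A} : Set (Spec (CommRingCat.of A))) y ≤
        codimPt y (IsLocalRing.closedPoint A : Spec (CommRingCat.of A)) hy := by
      let S : DSystem ({IsLocalRing.closedPoint A} : Set (Spec (CommRingCat.of A))) y 0 :=
        { v := fun _ => IsLocalRing.closedPoint A, w := fun _ => y, spec := fun _ => hy,
          spec_succ := fun i => i.elim0, start_mem := rfl, last_eq := rfl }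
      refine (iInf₂_le (f := fun k' (S' : DSystem _ y k') => S'.delta) 0 S).trans ?_
      have : S.delta = codimPt y (IsLocalRing.closedPoint A : Spec (CommRingCat.of A)) hy := by
        unfold DSystem.delta
        simp [DSystem.c, S, Finset.filter_true_of_mem]
      exact this.le
    refine h1.trans ?_
    unfold codimPt
    let G : Set.Ici (Specialization.toEquiv (IsLocalRing.closedPoint A : Spec (CommRingCat.of A))) →
        (PrimeSpectrum A)ᵒᵈ := fun x => OrderDual.toDual (Specialization.ofEquiv x.1)
    have hle : ∀ a b, G a ≤ G b ↔ a ≤ b := by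
      intro a b
      show (Specialization.ofEquiv b.1 : PrimeSpectrum A) ≤ Specialization.ofEquiv a.1 ↔
        Specialization.ofEquiv b.1 ⤳ Specialization.ofEquiv a.1
      exact PrimeSpectrum.le_iff_specializes _ _
    have hG : StrictMono G := by
      intro a b hab
      rw [lt_iff_le_not_ge] at hab ⊢
      rw [hle, hle]
      exact hab
    have key := Order.height_le_height_apply_of_strictMono G hG
      ⟨Specialization.toEquiv y, Specialization.toEquiv_le_toEquiv.mpr hy⟩
    exact key
  · -- lower bound via the dimension function coheight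
    by_cases htop : deltaZ ({IsLocalRing.closedPoint A} : Set (Spec (CommRingCat.of A))) y = ⊤
    · rw [htop]; exact le_top
    obtain ⟨n, hn⟩ := ENat.ne_top_iff_exists.mp htop
    let δ : Spec (CommRingCat.of A) → ℤ := fun x => ((Order.coheight (toPS x)).toNat : ℤ)
    have hfin : ∀ x : PrimeSpectrum A, Order.coheight x ≠ ⊤ := fun x => (Order.coheight_lt_top x).ne
    have hδ : Cyc.IsDimFun (Spec (CommRingCat.of A)) δ := by
      intro x z hxz hne
      have hle : toPS x ≤ toPS z := (PrimeSpectrum.le_iff_specializes _ _).mpr hxz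
      have hlt : toPS x < toPS z := lt_of_le_of_ne hle hne
      constructor
      · have := Order.coheight_strictAnti hlt (Order.coheight_lt_top (toPS z))
        have h2 : (Order.coheight (toPS z)).toNat < (Order.coheight (toPS x)).toNat := by
          rw [← ENat.natCast_toNat (hfin (toPS z)), ← ENat.natCast_toNat (hfin (toPS x))] at this
          exact_mod_cast this
        show ((Order.coheight (toPS z)).toNat : ℤ) < ((Order.coheight (toPS x)).toNat : ℤ)
        exact_mod_cast h2
      · intro himm
        have hcov : toPS x ⋖ toPS z := by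
          refine ⟨hlt, fun w hxw hwz => ?_⟩
          have h1 : x ⤳ (w : Spec (CommRingCat.of A)) := (PrimeSpectrum.le_iff_specializes _ _).mp hxw.le
          have h2 : (w : Spec (CommRingCat.of A)) ⤳ z := (PrimeSpectrum.le_iff_specializes _ _).mp hwz.le
          rcases himm w h1 h2 with e | e
          · exact hxw.ne' e
          · exact hwz.ne e
        have := coheight_covBy hA hcov
        show ((Order.coheight (toPS x)).toNat : ℤ) = ((Order.coheight (toPS z)).toNat : ℤ) + 1
        rw [this, ENat.toNat_add (hfin (toPS z)) (by simp)]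
        simp
    have hZ : IsClosed ({IsLocalRing.closedPoint A} : Set (Spec (CommRingCat.of A))) :=
      IsLocalRing.isClosed_singleton_closedPoint A
    obtain ⟨z, hz, hle⟩ := Groth.Agent.S8814.result (Spec (CommRingCat.of A)) _ hZ δ hδ y n hn.symm
    have hz' : z = IsLocalRing.closedPoint A := hz
    have hδz : δ z = 0 := by
      have : Order.coheight (IsLocalRing.closedPoint A) = 0 := by
        rw [Order.coheight_eq_zero]
        intro b _
        exact le_closedPoint b
      show ((Order.coheight (toPS z)).toNat : ℤ) = 0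
      rw [hz']
      show ((Order.coheight (IsLocalRing.closedPoint A)).toNat : ℤ) = 0
      rw [this]; rfl
    rw [hδz, add_zero] at hle
    have hle' : (Order.coheight (toPS y)).toNat ≤ n := by
      have : ((Order.coheight (toPS y)).toNat : ℤ) ≤ n := hle
      exact_mod_cast this
    rw [← hn]
    refine WithBot.coe_le_coe.mpr ?_
    show Order.coheight (toPS y) ≤ n
    rw [← ENat.natCast_toNat (hfin (toPS y))]
    exact_mod_cast hle'

end Groth.Agent.S8815
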