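import Groth.Statements.S8816
import Mathlib

set_option autoImplicit false
universe u
open CategoryTheory AlgebraicGeometry
open Algz

namespace Groth.Agent.S8816

section Aux
variable {Y : Type u} [TopologicalSpace Y]

lemma codimPt_congr {w w' v : Y} (e : w = w') (h : w ⤳ v) (h' : w' ⤳ v) :
    codimPt w v h = codimPt w' v h' := by
  subst e; rfl

lemma codimPt_self [T0Space Y] (v : Y) (h : v ⤳ v) : codimPt v v h = 0 := by
  unfold codimPt
  rw [Order.height_eq_zero]
  intro a _
  exact a.2

lemma one_le_codimPt [T0Space Y] {w v : Y} (h : w ⤳ v) (hne : w ≠ v) : 1 ≤ codimPt w v h := by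
  unfold codimPt
  rw [Order.one_le_iff_pos, Order.height_pos]
  intro hmin
  have h1 : (⟨Specialization.toEquiv v, Set.self_mem_Ici⟩ : Set.Ici (Specialization.toEquiv v)) ≤
      ⟨Specialization.toEquiv w, Specialization.toEquiv_le_toEquiv.mpr h⟩ :=
    Specialization.toEquiv_le_toEquiv.mpr h
  have h2 := hmin h1
  have h3 : v ⤳ w := Specialization.toEquiv_le_toEquiv.mp h2
  exact hne (h.antisymm h3).eq

lemma codimPt_eq_one [T0Space Y] {w v : Y} (h : w ⤳ v) (hne : w ≠ v)
    (himm : ∀ z : Y, w ⤳ z → z ⤳ v → z = w ∨ z = v) : codimPt w v h = 1 := by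
  refine le_antisymm ?_ (one_le_codimPt h hne)
  unfold codimPt
  have : (1 : ℕ∞) = ((1 : ℕ) : ℕ∞) := rfl
  rw [this, Order.height_le_coe_iff]
  rintro ⟨z, hz⟩ hlt
  have hz' : Specialization.ofEquiv z ⤳ v := hz
  have hwz : w ⤳ Specialization.ofEquiv z := hlt.le
  have hzmin : IsMin (⟨z, hz⟩ : Set.Ici (Specialization.toEquiv v)) := by
    rcases himm _ hwz hz' with e | e
    · exfalso
      have : z = Specialization.toEquiv w := e
      subst this
      exact lt_irrefl _ hlt
    · have : z = Specialization.toEquiv v := e
      subst this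
      intro a _
      exact a.2
  rw [Nat.cast_one, Order.lt_one_iff, Order.height_eq_zero]
  exact hzmin

end Aux


/-- Let Y be a Noetherian scheme and Z ⊆ Y closed. Given points y_0, …, y_k and y'_0, …, y'_{k-1} of Y
with y_0 ∈ Z such that each y'_i specializes to y_{i+1} with y'_i ≠ y_{i+1}, and each y'_i ⤳ y_i is
an immediate specialization (y'_i ≠ y_i and no point strictly between), one has δ_Z(y_k) ≤ k. (The
published statement also allows y'_i = y_{i+1}. In that generality the bound needs catenarity: for a
Noetherian local domain of dimension 3 having a saturated chain of primes (0) ⊂ 𝔭 ⊂ 𝔪 of length 2,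
with Z the closed point and the pattern y_0 = 𝔪, y'_0 = y_1 = 𝔭, y'_1 = y_2 = (0), one has k = 2 but
δ_Z((0)) = 3. The published proof handles nontrivial specializations y'_i ⤳ y_{i+1}, for which the
closures of the y_i and y'_i form a system of value k, and reduces to that case by shortening the
chain, which does not preserve immediacy; this row states the case the proof establishes.) -/
theorem result (Y : Scheme.{u}) [IsNoetherian Y] (Z : Set Y) (hZ : IsClosed Z) (k : ℕ) (y : Fin (k + 1) → Y) (y' : Fin k → Y) (h0 : y 0 ∈ Z) (hdown : ∀ i : Fin k, y' i ⤳ y i.castSucc ∧ y' i ≠ y i.castSucc ∧ ∀ z : Y, y' i ⤳ z → z ⤳ y i.castSucc → z = y' i ∨ z = y i.castSucc) (hup : ∀ i : Fin k, y' i ⤳ y i.succ ∧ y' i ≠ y i.succ) : Algz.deltaZ Z (y (Fin.last k)) ≤ k := by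
  classical
  -- the system
  let S : DSystem Z (y (Fin.last k)) k :=
    { v := y
      w := fun i => if h : i.val < k then y' ⟨i.val, h⟩ else y (Fin.last k)
      spec := by
        intro i
        by_cases h : i.val < k
        · simp only [dif_pos h]
          have := (hdown ⟨i.val, h⟩).1
          have e : (⟨i.val, h⟩ : Fin k).castSucc = i := Fin.ext rfl
          rwa [e] at this
        · simp only [dif_neg h]
          have e : i = Fin.last k := Fin.ext (by have := i.isLt; simp [Fin.last]; omega)
          rw [e]
      spec_succ := by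
        intro i
        have h : (i.castSucc).val < k := i.isLt
        simp only [dif_pos h]
        exact (hup i).1
      start_mem := h0
      last_eq := by simp }
  have hc_lt : ∀ j : Fin k, S.c j.castSucc = 1 := by
    intro j
    have h : (j.castSucc).val < k := j.isLt
    have hw : S.w j.castSucc = y' j := by
      show (if h : (j.castSucc).val < k then y' ⟨(j.castSucc).val, h⟩ else y (Fin.last k)) = y' j
      rw [dif_pos h]; rfl
    unfold DSystem.c
    rw [codimPt_congr hw (S.spec j.castSucc) (hdown j).1]
    exact codimPt_eq_one (hdown j).1 (hdown j).2.1 (hdown j).2.2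
  have hc_last : S.c (Fin.last k) = 0 := by
    have hw : S.w (Fin.last k) = y (Fin.last k) := S.last_eq
    unfold DSystem.c
    rw [codimPt_congr hw (S.spec (Fin.last k)) specializes_rfl]
    exact codimPt_self _ _
  have hb : ∀ j : Fin k, 1 ≤ S.b j := by
    intro j
    have h : (j.castSucc).val < k := j.isLt
    have hw : S.w j.castSucc = y' j := by
      show (if h : (j.castSucc).val < k then y' ⟨(j.castSucc).val, h⟩ else y (Fin.last k)) = y' j
      rw [dif_pos h]; rfl
    unfold DSystem.b
    rw [codimPt_congr hw (S.spec_succ j) (hup j).1]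
    exact one_le_codimPt (hup j).1 (hup j).2
  have hS : S.delta = k := by
    unfold DSystem.delta
    have : (Finset.univ.sup fun i : Fin (k + 1) =>
        (∑ j ∈ Finset.univ.filter (fun j : Fin (k + 1) => i ≤ j), S.c j) -
          ∑ j ∈ Finset.univ.filter (fun j : Fin k => i.val ≤ j.val), S.b j) = 0 := by
      rw [← bot_eq_zero, Finset.sup_eq_bot_iff]
      intro i _
      rw [bot_eq_zero, tsub_eq_zero_iff_le, Finset.sum_filter, Finset.sum_filter,
        Fin.sum_univ_castSucc, hc_last]
      simp only [ite_self, add_zero]
      refine Finset.sum_le_sum fun j _ => ?_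
      by_cases hij : i ≤ j.castSucc
      · have hij' : i.val ≤ j.val := hij
        rw [if_pos hij, if_pos hij', hc_lt]
        exact hb j
      · rw [if_neg hij]
        exact zero_le
    rw [this, add_zero]
  calc deltaZ Z (y (Fin.last k)) ≤ S.delta := iInf₂_le (f := fun k' (S' : DSystem Z (y (Fin.last k)) k') => S'.delta) k S
    _ = k := hS

end Groth.Agent.S8816
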