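import Groth.Statements.S8817
import Mathlib

set_option autoImplicit false
universe u
open CategoryTheory AlgebraicGeometry
open Algz

namespace Groth.Agent.S8817

section Aux
variable {X Y : Type u} [TopologicalSpace X] [TopologicalSpace Y]

lemma codimPt_map_of_isOpenEmbedding {f : X → Y} (hf : Topology.IsOpenEmbedding f) {w v : X}
    (h : w ⤳ v) (h' : f w ⤳ f v) : codimPt (f w) (f v) h' = codimPt w v h := by
  unfold codimPt
  let F : Set.Ici (Specialization.toEquiv v) → Set.Ici (Specialization.toEquiv (f v)) :=
    fun x => ⟨Specialization.toEquiv (f (Specialization.ofEquiv x.1)),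
      Specialization.toEquiv_le_toEquiv.mpr
        ((show Specialization.ofEquiv x.1 ⤳ v from x.2).map hf.continuous)⟩
  have hle : ∀ a b : Set.Ici (Specialization.toEquiv v), F a ≤ F b ↔ a ≤ b := by
    intro a b
    show f (Specialization.ofEquiv b.1) ⤳ f (Specialization.ofEquiv a.1) ↔
      Specialization.ofEquiv b.1 ⤳ Specialization.ofEquiv a.1
    exact hf.isInducing.specializes_iff
  have hmono : StrictMono F := by
    intro a b hab
    rw [lt_iff_le_not_ge] at hab ⊢
    rw [hle, hle]
    exact hab
  have key := Order.height_eq_of_strictMono F hmono ?_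
    (⟨Specialization.toEquiv w, Specialization.toEquiv_le_toEquiv.mpr h⟩ :
      Set.Ici (Specialization.toEquiv v))
  · exact key.symm
  · rintro a ⟨b, hb⟩ hlt
    have hb' : Specialization.ofEquiv b ⤳ f v := hb
    have hmem : Specialization.ofEquiv b ∈ Set.range f :=
      hb'.mem_open hf.isOpen_range ⟨v, rfl⟩
    obtain ⟨x, hx⟩ := hmem
    have hxv : x ⤳ v := by
      rw [← hf.isInducing.specializes_iff, hx]
      exact hb'
    refine ⟨⟨Specialization.toEquiv x, Specialization.toEquiv_le_toEquiv.mpr hxv⟩, ?_, ?_⟩
    · have e : F ⟨Specialization.toEquiv x, Specialization.toEquiv_le_toEquiv.mpr hxv⟩ = ⟨b, hb⟩ := by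
        apply Subtype.ext
        show Specialization.toEquiv (f x) = b
        rw [hx]; rfl
      rw [← e] at hlt
      rw [lt_iff_le_not_ge] at hlt ⊢
      rw [hle, hle] at hlt
      exact hlt
    · apply Subtype.ext
      show Specialization.toEquiv (f x) = b
      rw [hx]; rfl

/-- push a system forward along a continuous map -/
def mapSystem {f : X → Y} (hf : Continuous f) {Z : Set Y} {y : X} {k : ℕ}
    (S : DSystem (f ⁻¹' Z) y k) : DSystem Z (f y) k where
  v := fun i => f (S.v i)
  w := fun i => f (S.w i)
  spec := fun i => (S.spec i).map hf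
  spec_succ := fun i => (S.spec_succ i).map hf
  start_mem := S.start_mem
  last_eq := by rw [S.last_eq]

lemma mapSystem_delta {f : X → Y} (hf : Topology.IsOpenEmbedding f) {Z : Set Y} {y : X} {k : ℕ}
    (S : DSystem (f ⁻¹' Z) y k) : (mapSystem hf.continuous S).delta = S.delta := by
  have hc : ∀ j, (mapSystem hf.continuous S).c j = S.c j := fun j =>
    codimPt_map_of_isOpenEmbedding hf (S.spec j) _
  have hb : ∀ j, (mapSystem hf.continuous S).b j = S.b j := fun j =>
    codimPt_map_of_isOpenEmbedding hf (S.spec_succ j) _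
  unfold DSystem.delta
  simp only [hc, hb]

end Aux


/-- Let Y be a Noetherian scheme, Z ⊆ Y a closed subset and Y' ⊆ Y an open subscheme. For a point y' of
Y' the distance function of Y' relative to Y' ∩ Z at y' is at least the distance function of Y
relative to Z at y'. -/
theorem result (Y : Scheme.{u}) [IsNoetherian Y] (Z : Set Y) (hZ : IsClosed Z) (Y' : Y.Opens) (y' : (↑Y' : Scheme.{u})) : Algz.deltaZ Z (Y'.ι.base y') ≤ Algz.deltaZ ((fun x : (↑Y' : Scheme.{u}) => Y'.ι.base x) ⁻¹' Z) y' := by
  have hf : Topology.IsOpenEmbedding (fun x : (↑Y' : Scheme.{u}) => Y'.ι.base x) :=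
    Y'.ι.isOpenEmbedding
  unfold deltaZ
  refine le_iInf₂ fun k S => ?_
  refine (iInf₂_le k (mapSystem hf.continuous S)).trans_eq ?_
  exact mapSystem_delta hf S

end Groth.Agent.S8817
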