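import Groth.Statements.S8819
import Mathlib

set_option autoImplicit false
universe u
open scoped BigOperators
open LocCoh

namespace Groth.Agent.S8819

section Aux
open MvPolynomial
variable {A : Type u} [CommRing A] {r : ℕ} (f : Fin r → A) (I : Ideal A) (c : ℕ)
  (φ : Fin r → (↥(I ^ c) →ₗ[A] A))

open Classical in
/-- `φ j` extended by zero outside `I ^ c`. -/
noncomputable def ext (j : Fin r) (g : A) : A := if h : g ∈ I ^ c then φ j ⟨g, h⟩ else 0

lemma ext_of_mem (j : Fin r) {g : A} (h : g ∈ I ^ c) : ext I c φ j g = φ j ⟨g, h⟩ := dif_pos h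

/-- The graded map. -/
noncomputable def Phi : ℕ → A → MvPolynomial (Fin r) A
  | 0, g => C g
  | n+1, g => ∑ j, X j * Phi n (ext I c φ j g)

lemma pow_succ_le (n : ℕ) : I ^ ((n + 1) * c) ≤ I ^ c :=
  Ideal.pow_le_pow_right (by nlinarith)

lemma ext_add (j : Fin r) {g h : A} (hg : g ∈ I ^ c) (hh : h ∈ I ^ c) :
    ext I c φ j (g + h) = ext I c φ j g + ext I c φ j h := by
  rw [ext_of_mem I c φ j hg, ext_of_mem I c φ j hh, ext_of_mem I c φ j (add_mem hg hh), ← map_add]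
  rfl

lemma ext_mul (j : Fin r) (a : A) {g : A} (hg : g ∈ I ^ c) :
    ext I c φ j (a * g) = a * ext I c φ j g := by
  rw [ext_of_mem I c φ j hg, ext_of_mem I c φ j (Ideal.mul_mem_left _ a hg)]
  have : (⟨a * g, Ideal.mul_mem_left _ a hg⟩ : ↥(I ^ c)) = a • ⟨g, hg⟩ := rfl
  rw [this, map_smul, smul_eq_mul]

lemma ext_mem (n : ℕ) (j : Fin r) {g : A} (hg : g ∈ I ^ ((n + 1) * c)) :
    ext I c φ j g ∈ I ^ (n * c) := by
  have e : I ^ ((n + 1) * c) = I ^ c * I ^ (n * c) := by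
    rw [← pow_add]; congr 1; ring
  rw [e] at hg
  have key : g ∈ I ^ c ∧ ∀ hg' : g ∈ I ^ c, φ j ⟨g, hg'⟩ ∈ I ^ (n * c) := by
    refine Submodule.mul_induction_on hg ?_ ?_
    · intro a ha b hb
      refine ⟨Ideal.mul_mem_right _ _ ha, fun h' => ?_⟩
      have : (⟨a * b, h'⟩ : ↥(I ^ c)) = b • ⟨a, ha⟩ := by
        ext; simp [mul_comm]
      rw [this, map_smul, smul_eq_mul]
      exact Ideal.mul_mem_right _ _ hb
    · rintro x y ⟨hx, hx'⟩ ⟨hy, hy'⟩
      refine ⟨add_mem hx hy, fun h' => ?_⟩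
      have : (⟨x + y, h'⟩ : ↥(I ^ c)) = ⟨x, hx⟩ + ⟨y, hy⟩ := rfl
      rw [this, map_add]
      exact add_mem (hx' hx) (hy' hy)
  rw [ext_of_mem I c φ j key.1]
  exact key.2 key.1

lemma Phi_add : ∀ (n : ℕ) (g h : A), g ∈ I ^ (n * c) → h ∈ I ^ (n * c) →
    Phi I c φ n (g + h) = Phi I c φ n g + Phi I c φ n h
  | 0, g, h, _, _ => by simp [Phi]
  | n+1, g, h, hg, hh => by
    simp only [Phi]
    rw [← Finset.sum_add_distrib]
    refine Finset.sum_congr rfl fun j _ => ?_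
    rw [ext_add I c φ j (pow_succ_le I c n hg) (pow_succ_le I c n hh),
      Phi_add n _ _ (ext_mem I c φ n j hg) (ext_mem I c φ n j hh), mul_add]

lemma Phi_smul : ∀ (n : ℕ) (a g : A), g ∈ I ^ (n * c) →
    Phi I c φ n (a * g) = a • Phi I c φ n g
  | 0, a, g, _ => by simp [Phi, MvPolynomial.smul_eq_C_mul]
  | n+1, a, g, hg => by
    simp only [Phi]
    rw [Finset.smul_sum]
    refine Finset.sum_congr rfl fun j _ => ?_
    rw [ext_mul I c φ j a (pow_succ_le I c n hg), Phi_smul n _ _ (ext_mem I c φ n j hg),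
      mul_smul_comm]

lemma Phi_homog : ∀ (n : ℕ) (g : A), (Phi I c φ n g).IsHomogeneous n
  | 0, g => by simpa [Phi] using MvPolynomial.isHomogeneous_C _ g
  | n+1, g => by
    simp only [Phi]
    refine MvPolynomial.IsHomogeneous.sum _ _ _ fun j _ => ?_
    rw [add_comm]
    exact (MvPolynomial.isHomogeneous_X _ j).mul (Phi_homog n _)

lemma Phi_mul : ∀ (n m : ℕ) (g h : A), g ∈ I ^ (n * c) → h ∈ I ^ (m * c) →
    Phi I c φ (n + m) (g * h) = Phi I c φ n g * Phi I c φ m h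
  | 0, m, g, h, _, hh => by
    rw [zero_add, Phi_smul I c φ m g h hh]
    simp [Phi, MvPolynomial.smul_eq_C_mul]
  | n+1, m, g, h, hg, hh => by
    have e : n + 1 + m = (n + m) + 1 := by ring
    rw [e]
    simp only [Phi]
    rw [Finset.sum_mul]
    refine Finset.sum_congr rfl fun j _ => ?_
    have : ext I c φ j (g * h) = ext I c φ j g * h := by
      rw [mul_comm g h, ext_mul I c φ j h (pow_succ_le I c n hg), mul_comm]
    rw [this, Phi_mul n m _ _ (ext_mem I c φ n j hg) hh, mul_assoc]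

lemma Phi_aeval (hφ : ∀ x : ↥(I ^ c), (x : A) = ∑ j, f j * φ j x) :
    ∀ (n : ℕ) (g : A), g ∈ I ^ (n * c) → MvPolynomial.aeval f (Phi I c φ n g) = g
  | 0, g, _ => by simp [Phi]
  | n+1, g, hg => by
    simp only [Phi, map_sum, map_mul, MvPolynomial.aeval_X]
    have hg' := pow_succ_le I c n hg
    refine Eq.trans ?_ (hφ ⟨g, hg'⟩).symm
    refine Finset.sum_congr rfl fun j _ => ?_
    rw [Phi_aeval hφ n _ (ext_mem I c φ n j hg), ext_of_mem I c φ j hg']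

end Aux


/-- Let A be a Noetherian ring, f_1, …, f_r ∈ A and I = (f_1, …, f_r) with cd(A, I) = 1; let c ≥ 1 and
let φ_j : I^c → A be A-linear maps with x = Σ_j f_j φ_j(x) for all x ∈ I^c. Under these assumptions,
exactly one homomorphism of graded A-algebras, from ⊕_{n ≥ 0} I^{nc} into the polynomial ring A[T_1,
…, T_r], exists that sends each g ∈ I^c to Σ_j φ_j(g) T_j; call it Φ. Here Φ is encoded by functions
Φ_n : A → A[T_1, …, T_r] whose values on I^{nc} are A-linear, homogeneous of degree n,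
multiplicative (Φ_{n+m}(gh) = Φ_n(g)Φ_m(h)), with Φ_0 the structure map and Φ_1 as prescribed;
uniqueness is asserted for the values on the I^{nc}. Moreover substituting T_j ↦ f_j in Φ_n(g) gives
back g for every g ∈ I^{nc}. -/
theorem result (A : Type u) [CommRing A] [IsNoetherianRing A] (r : ℕ) (f : Fin r → A) (I : Ideal A) (hI : I = Ideal.span (Set.range f)) (h1 : LocCoh.CdLE A I 1) (h0 : ¬ LocCoh.CdLE A I 0) (c : ℕ) (hc : 1 ≤ c) (φ : Fin r → (↥(I ^ c) →ₗ[A] A)) (hφ : ∀ x : ↥(I ^ c), (x : A) = ∑ j, f j * φ j x) : ∃ Φ : ℕ → A → MvPolynomial (Fin r) A, (((∀ n : ℕ, ∀ g ∈ I ^ (n * c), ∀ h ∈ I ^ (n * c), Φ n (g + h) = Φ n g + Φ n h) ∧ (∀ (n : ℕ) (a : A), ∀ g ∈ I ^ (n * c), Φ n (a * g) = a • Φ n g) ∧ (∀ n : ℕ, ∀ g ∈ I ^ (n * c), (Φ n g).IsHomogeneous n) ∧ (∀ n m : ℕ, ∀ g ∈ I ^ (n * c), ∀ h ∈ I ^ (m * c), Φ (n + m) (g * h) = Φ n g * Φ m h) ∧ (∀ a : A, Φ 0 a = MvPolynomial.C a) ∧ (∀ (g : A) (hg : g ∈ I ^ c),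 Φ 1 g = ∑ j, MvPolynomial.C (φ j ⟨g, hg⟩) * MvPolynomial.X j)) ∧ ∀ n : ℕ, ∀ g ∈ I ^ (n * c), MvPolynomial.aeval f (Φ n g) = g) ∧ ∀ Ψ : ℕ → A → MvPolynomial (Fin r) A, ((∀ n : ℕ, ∀ g ∈ I ^ (n * c), ∀ h ∈ I ^ (n * c), Ψ n (g + h) = Ψ n g + Ψ n h) ∧ (∀ (n : ℕ) (a : A), ∀ g ∈ I ^ (n * c), Ψ n (a * g) = a • Ψ n g) ∧ (∀ n : ℕ, ∀ g ∈ I ^ (n * c), (Ψ n g).IsHomogeneous n) ∧ (∀ n m : ℕ, ∀ g ∈ I ^ (n * c), ∀ h ∈ I ^ (m * c), Ψ (n + m) (g * h) = Ψ n g * Ψ m h) ∧ (∀ a : A, Ψ 0 a = MvPolynomial.C a) ∧ (∀ (g : A) (hg : g ∈ I ^ c), Ψ 1 g = ∑ j, MvPolynomial.C (φ j ⟨g, hg⟩) * MvPolynomial.X j)) → ∀ n : ℕ, ∀ g ∈ I ^ (n * c), Ψ n g = Φ n g := by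
  refine ⟨Phi I c φ, ⟨⟨?_, ?_, ?_, ?_, ?_, ?_⟩, ?_⟩, ?_⟩
  · intro n g hg h hh
    exact Phi_add I c φ n g h hg hh
  · intro n a g hg
    exact Phi_smul I c φ n a g hg
  · intro n g _
    exact Phi_homog I c φ n g
  · intro n m g hg h hh
    exact Phi_mul I c φ n m g h hg hh
  · intro a
    rfl
  · intro g hg
    simp only [Phi]
    refine Finset.sum_congr rfl fun j _ => ?_
    rw [ext_of_mem I c φ j hg, mul_comm]
  · intro n g hg
    exact Phi_aeval f I c φ hφ n g hg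
  · rintro Ψ ⟨hadd, hsmul, -, hmul, h0', h1'⟩ n
    induction n with
    | zero =>
      intro g _
      rw [h0']; rfl
    | succ n ih =>
      intro g hg
      have e : I ^ ((n + 1) * c) = I ^ (1 * c) * I ^ (n * c) := by
        rw [← pow_add]; congr 1; ring
      have key : g ∈ I ^ ((n + 1) * c) ∧ Ψ (n + 1) g = Phi I c φ (n + 1) g := by
        rw [e] at hg
        refine Submodule.mul_induction_on hg ?_ ?_
        · intro a ha b hb
          refine ⟨by rw [e]; exact Ideal.mul_mem_mul ha hb, ?_⟩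
          have e1 : n + 1 = 1 + n := by ring
          rw [e1, hmul 1 n a ha b hb, Phi_mul I c φ 1 n a b ha hb, ih b hb]
          congr 1
          have ha' : a ∈ I ^ c := by simpa using ha
          rw [h1' a ha']
          simp only [Phi]
          refine Finset.sum_congr rfl fun j _ => ?_
          rw [ext_of_mem I c φ j ha', mul_comm]
        · rintro x y ⟨hx, hx'⟩ ⟨hy, hy'⟩
          refine ⟨add_mem hx hy, ?_⟩
          rw [hadd (n + 1) x hx y hy, Phi_add I c φ (n + 1) x y hx hy, hx', hy']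
      exact key.2

end Groth.Agent.S8819
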