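import Groth.Statements.S8833
import Groth.Agent.S8819
import Groth.Agent.Lib.Helper14.GrMod3

set_option autoImplicit false
universe u
open scoped BigOperators TensorProduct
open LocCoh

namespace Groth.Agent.S8833

/-- Let A be a Noetherian ring, f_1, …, f_r ∈ A and I = (f_1, …, f_r) with cd(A, I) = 1; let c ≥ 1 and
φ_j : I^c → A be A-linear maps with x = Σ_j f_j φ_j(x) for all x ∈ I^c. Let B be a Noetherian
A-algebra and N a finite B-module. Then there is c' ≥ c with the following property. Write φ_j again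
for the restrictions of the φ_j to I^{c'} and let Φ be a graded A-algebra homomorphism from ⊕_{n ≥
0} I^{nc'} to A[T_1, …, T_r] with Φ(g) = Σ_j φ_j(g) T_j for g ∈ I^{c'} (there is exactly one; it is
encoded by functions Φ_n : A → A[T_1, …, T_r] whose values on I^{nc'} are additive, A-homogeneous,
homogeneous of degree n and multiplicative across degrees, with Φ_0 the structure map and Φ_1 as
prescribed). Then for every n there is a unique B-linear map Ψ_n from the submodule I^{nc'}N of N to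
N[T_1, …, T_r] = B[T_1, …, T_r] ⊗_B N with Ψ_n(g x) = Φ_n(g) ⊗ x for g ∈ I^{nc'} and x ∈ N; that is,
the Ψ_n form the unique graded B-module map from ⊕_n I^{nc'}N to N[T_1, …, T_r] with this property.
Moreover substituting T_j ↦ f_j after Ψ_n gives back the inclusion of I^{nc'}N into N. -/
theorem result (A : Type u) [CommRing A] [IsNoetherianRing A] (r : ℕ) (f : Fin r → A) (I : Ideal A) (hI : I = Ideal.span (Set.range f)) (h1 : LocCoh.CdLE A I 1) (h0 : ¬ LocCoh.CdLE A I 0) (c : ℕ) (hc : 1 ≤ c) (φ : Fin r → (↥(I ^ c) →ₗ[A] A)) (hφ : ∀ x : ↥(I ^ c), (x : A) = ∑ j, f j * φ j x) (B : Type u) [CommRing B] [Algebra A B] [IsNoetherianRing B] (N : Type u) [AddCommGroup N] [Module B N] [Module.Finite B N] : ∃ c' : ℕ, ∃ hcc' : c ≤ c', ∀ Φ : ℕ → A → MvPolynomial (Fin r) A, ((∀ n : ℕ, ∀ g ∈ I ^ (n * c'), ∀ h ∈ I ^ (n * c'), Φ n (g + h) = Φ n g + Φ n h) ∧ (∀ (n : ℕ) (a : A), ∀ g ∈ I ^ (n * c'), Φ n (a * g)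 = a • Φ n g) ∧ (∀ n : ℕ, ∀ g ∈ I ^ (n * c'), (Φ n g).IsHomogeneous n) ∧ (∀ n m : ℕ, ∀ g ∈ I ^ (n * c'), ∀ h ∈ I ^ (m * c'), Φ (n + m) (g * h) = Φ n g * Φ m h) ∧ (∀ a : A, Φ 0 a = MvPolynomial.C a) ∧ (∀ (g : A) (hg : g ∈ I ^ c'), Φ 1 g = ∑ j, MvPolynomial.C (φ j ⟨g, Ideal.pow_le_pow_right hcc' hg⟩) * MvPolynomial.X j)) → ∀ n : ℕ, ∃ Ψ : ↥(Submodule.span B {y : N | ∃ g ∈ I ^ (n * c'), ∃ x : N, y = algebraMap A B g • x}) →ₗ[B] (MvPolynomial (Fin r) B ⊗[B] N), (∀ (g : A) (hg : g ∈ I ^ (n * c')) (x : N), Ψ ⟨algebraMap A B g • x, Submodule.subset_span ⟨g, hg, x, rfl⟩⟩ = MvPolynomial.map (algebraMap A B) (Φ n g) ⊗ₜ[B] x) ∧ (∀ y : ↥(Submodule.span B {y : N | ∃ g ∈ I ^ (n * c'), ∃ x : N, y = algebraMap A B g • x}), TensorProduct.lift ((LinearMap.lsmul B N).comp (MvPolynomial.aeval (fun j ↦ algebraMap A B (f j))).toLinearMap) (Ψ y) = (y : N)) ∧ (∀ Ψ' : ↥(Submodule.span B {y : N | ∃ g ∈ I ^ (n * c'), ∃ x :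 N, y = algebraMap A B g • x}) →ₗ[B] (MvPolynomial (Fin r) B ⊗[B] N), (∀ (g : A) (hg : g ∈ I ^ (n * c')) (x : N), Ψ' ⟨algebraMap A B g • x, Submodule.subset_span ⟨g, hg, x, rfl⟩⟩ = MvPolynomial.map (algebraMap A B) (Φ n g) ⊗ₜ[B] x) → Ψ' = Ψ) := by
  obtain ⟨m₀, hm₀⟩ := Groth.Agent.Lib.Helper14.GrMod.exists_bound_torsion (I.map (algebraMap A B)) N
  have hcc' : c ≤ c + m₀ := Nat.le_add_right c m₀
  refine ⟨c + m₀, hcc', ?_⟩
  intro Φ hΦ n
  obtain ⟨hadd, hsmul, hhom, hmul, hzero, hone⟩ := hΦ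
  let ψ : Fin r → (↥(I ^ (c + m₀)) →ₗ[A] A) := fun j =>
    (φ j).comp (Submodule.inclusion (Ideal.pow_le_pow_right hcc'))
  have hψval : ∀ j (g : A) (hg : g ∈ I ^ (c + m₀)),
      ψ j ⟨g, hg⟩ = φ j ⟨g, Ideal.pow_le_pow_right hcc' hg⟩ := fun j g hg => rfl
  have hG : Groth.Agent.Lib.Helper14.GrMod.IsGr I (c + m₀) ψ Φ :=
    ⟨hadd, hsmul, hmul, hzero, fun g hg => hone g hg⟩
  have hψmem : ∀ j (g : A) (hg : g ∈ I ^ (c + m₀)), ψ j ⟨g, hg⟩ ∈ I ^ m₀ := fun j g hg => by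
    rw [hψval]
    exact Groth.Agent.Lib.Helper14.GrMod.map_mem_pow I c m₀ (φ j) hg _
  have hcoef := hG.coeff_mem m₀ hψmem n
  have hψsum : ∀ x : ↥(I ^ (c + m₀)), (x : A) = ∑ j, f j * ψ j x := fun x =>
    hφ (Submodule.inclusion (Ideal.pow_le_pow_right hcc') x)
  obtain ⟨Φ₀, ⟨-, hae⟩, huniq⟩ := Groth.Agent.S8819.result A r f I hI h1 h0 (c + m₀)
    (le_trans hc hcc') ψ hψsum
  have hEq := huniq Φ ⟨hadd, hsmul, hhom, hmul, hzero, fun g hg => hone g hg⟩ n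
  have haeval : ∀ g ∈ I ^ (n * (c + m₀)), MvPolynomial.aeval f (Φ n g) = g := fun g hg => by
    rw [hEq g hg]
    exact hae n g hg
  have hkill : ∀ z ∈ ((I.map (algebraMap A B)) ^ (n * m₀) • ⊤ : Submodule B N),
      (∀ h ∈ I ^ (n * (c + m₀)), algebraMap A B h • z = 0) → z = 0 := by
    intro z hz hann
    rcases Nat.eq_zero_or_pos n with hn | hn
    · subst hn
      have := hann 1 (by simp)
      simpa using this
    · refine hm₀ (n * m₀) (Nat.le_mul_of_pos_left m₀ hn) z hz ⟨n * (c + m₀), fun b hb => ?_⟩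
      rw [← Ideal.map_pow, Ideal.map] at hb
      refine Submodule.span_induction (p := fun b _ => b • z = 0) ?_ ?_ ?_ ?_ hb
      · rintro _ ⟨h, hh, rfl⟩
        exact hann h hh
      · exact zero_smul _ _
      · intro x y _ _ hx hy
        rw [add_smul, hx, hy, add_zero]
      · intro a x _ hx
        rw [smul_eq_mul, mul_smul, hx, smul_zero]
  exact Groth.Agent.Lib.Helper14.GrMod.exists_module_map (K := I ^ (n * (c + m₀))) (F := Φ n) f
    (hsmul n) I (n * m₀) hcoef hkill haeval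

end Groth.Agent.S8833
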