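import Groth.Statements.S8834
import Mathlib
-- import your own Groth.Agent.* helpers here

set_option autoImplicit false
universe u
open AdicRing

namespace Groth.Agent.S8834

/-- Core: if `S` is a subalgebra of `B` containing generators of the ideal `R` and surjecting onto
`B ⧸ R`, then `B = S + R ^ k` for all `k`. -/
theorem core {A B : Type*} [CommRing A] [CommRing B] [Algebra A B] (R : Ideal B)
    (S : Subalgebra A B) (T : Set B) (hTS : T ⊆ S) (hTR : R = Ideal.span T)
    (h1 : ∀ y : B, ∃ s ∈ S, y - s ∈ R) :
    ∀ (k : ℕ) (y : B), ∃ s ∈ S, y - s ∈ R ^ k := by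
  -- step: elements of R^k are in S + R^(k+1)
  have step : ∀ k : ℕ, ∀ x ∈ R ^ k, ∃ s ∈ S, x - s ∈ R ^ (k + 1) := by
    intro k
    induction k with
    | zero =>
      intro x _
      obtain ⟨s, hs, hxs⟩ := h1 x
      exact ⟨s, hs, by simpa using hxs⟩
    | succ k ih =>
      intro x hx
      rw [pow_succ'] at hx
      have hspan : ∀ r ∈ Ideal.span T, ∀ x' ∈ R ^ k, ∃ s ∈ S, r * x' - s ∈ R ^ (k + 1 + 1) := by
        intro r hr
        refine Submodule.span_induction
          (p := fun r _ => ∀ x' ∈ R ^ k, ∃ s ∈ S, r * x' - s ∈ R ^ (k + 1 + 1)) ?_ ?_ ?_ ?_ hr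
        · intro t ht x' hx'
          obtain ⟨s, hs, hxs⟩ := ih x' hx'
          refine ⟨t * s, S.mul_mem (hTS ht) hs, ?_⟩
          have : t * x' - t * s = t * (x' - s) := by ring
          rw [this, pow_succ']
          exact Ideal.mul_mem_mul (hTR ▸ Ideal.subset_span ht) hxs
        · intro x' _
          exact ⟨0, S.zero_mem, by simp⟩
        · rintro a b _ _ ha hb x' hx'
          obtain ⟨sa, hsa, ha⟩ := ha x' hx'
          obtain ⟨sb, hsb, hb⟩ := hb x' hx'
          refine ⟨sa + sb, S.add_mem hsa hsb, ?_⟩
          have : (a + b) * x' - (sa + sb) = (a * x' - sa) + (b * x' - sb) := by ring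
          rw [this]
          exact Ideal.add_mem _ ha hb
        · rintro β a _ ha x' hx'
          obtain ⟨s', hs', hxs'⟩ := ha (β * x') (Ideal.mul_mem_left _ β hx')
          refine ⟨s', hs', ?_⟩
          have : β • a * x' - s' = a * (β * x') - s' := by
            rw [smul_eq_mul]; ring
          rw [this]
          exact hxs'
      refine Submodule.mul_induction_on hx ?_ ?_
      · intro r hr x' hx'
        exact hspan r (hTR ▸ hr) x' hx'
      · rintro a b ⟨sa, hsa, ha⟩ ⟨sb, hsb, hb⟩
        refine ⟨sa + sb, S.add_mem hsa hsb, ?_⟩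
        have : a + b - (sa + sb) = (a - sa) + (b - sb) := by ring
        rw [this]
        exact Ideal.add_mem _ ha hb
  intro k
  induction k with
  | zero =>
    intro y
    exact ⟨0, S.zero_mem, by simp⟩
  | succ k ih =>
    intro y
    obtain ⟨s, hs, hys⟩ := ih y
    obtain ⟨s', hs', hys'⟩ := step k (y - s) hys
    refine ⟨s + s', S.add_mem hs hs', ?_⟩
    have : y - (s + s') = y - s - s' := by ring
    rw [this]
    exact hys'

/-- Let A be a Noetherian ring complete for the adic topology of an ideal I and B a Noetherian ring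
complete for the adic topology of an ideal J, with an algebra map A → B sending I into the radical
of J (a continuous homomorphism of adic Noetherian topological rings; the radicals of I and J are
the ideals of topologically nilpotent elements). Assume B/√J is of finite type over A, equivalently
over A/√I. Then B is topologically of finite type over A: there are b_1, …, b_s ∈ B such that the
A-algebra map A[x_1, …, x_s] → B with x_i ↦ b_i has dense image for the J-adic topology, that is,
for every y ∈ B and every n there is a polynomial whose value at b differs from y by an element of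
J^n. -/
theorem result (A : Type u) [CommRing A] [IsNoetherianRing A] (I : Ideal A) [IsAdicComplete I A] (B : Type u) [CommRing B] [Algebra A B] [IsNoetherianRing B] (J : Ideal B) [IsAdicComplete J B] (hIJ : I.map (algebraMap A B) ≤ J.radical) (hft : Algebra.FiniteType A (B ⧸ J.radical)) : ∃ s : ℕ, ∃ b : Fin s → B, ∀ (y : B) (n : ℕ), ∃ p : MvPolynomial (Fin s) A, y - MvPolynomial.aeval b p ∈ J ^ n := by
  classical
  obtain ⟨T₁', hT₁'⟩ := hft.out
  have hsurj : Function.Surjective (Ideal.Quotient.mk J.radical) := Ideal.Quotient.mk_surjective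
  let lift : (B ⧸ J.radical) → B := fun z => (hsurj z).choose
  have hlift : ∀ z, Ideal.Quotient.mk J.radical (lift z) = z := fun z => (hsurj z).choose_spec
  let T₁ : Finset B := T₁'.image lift
  obtain ⟨T₂, hT₂⟩ := (isNoetherian_def.mp ‹IsNoetherianRing B›) J.radical
  let T : Finset B := T₁ ∪ T₂
  let S : Subalgebra A B := Algebra.adjoin A (T : Set B)
  have hTS : (T₂ : Set B) ⊆ S := fun t ht =>
    Algebra.subset_adjoin (Finset.mem_coe.mpr (Finset.mem_union_right _ (Finset.mem_coe.mp ht)))
  have h1 : ∀ y : B, ∃ s ∈ S, y - s ∈ J.radical := by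
    intro y
    have hy : Ideal.Quotient.mkₐ A J.radical y ∈ Algebra.adjoin A (T₁' : Set (B ⧸ J.radical)) := by
      rw [hT₁']; trivial
    have himg : (T₁' : Set (B ⧸ J.radical)) = (Ideal.Quotient.mkₐ A J.radical) '' (T₁ : Set B) := by
      ext z
      constructor
      · intro hz
        exact ⟨lift z, Finset.mem_coe.mpr (Finset.mem_image_of_mem _ (Finset.mem_coe.mp hz)),
          hlift z⟩
      · rintro ⟨w, hw, rfl⟩
        obtain ⟨z', hz', rfl⟩ := Finset.mem_image.mp (Finset.mem_coe.mp hw)
        have : Ideal.Quotient.mkₐ A J.radical (lift z') = z' := hlift z'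
        rw [this]
        exact hz'
    rw [himg, Algebra.adjoin_image] at hy
    obtain ⟨s, hs, hsy⟩ := hy
    refine ⟨s, Algebra.adjoin_mono (by
      intro t ht
      exact Finset.mem_coe.mpr (Finset.mem_union_left _ (Finset.mem_coe.mp ht))) hs, ?_⟩
    have hsy' : Ideal.Quotient.mk J.radical s = Ideal.Quotient.mk J.radical y := hsy
    rw [← Ideal.Quotient.eq]
    exact hsy'.symm
  have hcore := core J.radical S (T₂ : Set B) hTS hT₂.symm h1
  obtain ⟨N, hN⟩ := Ideal.exists_radical_pow_le_of_fg J (IsNoetherian.noetherian _)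
  refine ⟨T.card, fun i => (T.equivFin.symm i : B), ?_⟩
  intro y n
  obtain ⟨s, hs, hys⟩ := hcore (N * n) y
  have hrange : Set.range (fun i => (T.equivFin.symm i : B)) = (T : Set B) := by
    ext z
    constructor
    · rintro ⟨i, rfl⟩
      exact (T.equivFin.symm i).2
    · intro hz
      exact ⟨T.equivFin ⟨z, hz⟩, by simp⟩
  have hs' : s ∈ (MvPolynomial.aeval (R := A) (fun i => (T.equivFin.symm i : B))).range := by
    rw [← Algebra.adjoin_range_eq_range_aeval, hrange]
    exact hs
  obtain ⟨p, rfl⟩ := hs'
  refine ⟨p, ?_⟩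
  have hle : J.radical ^ (N * n) ≤ J ^ n := by
    rw [pow_mul]
    exact Ideal.pow_right_mono hN n
  exact hle hys

end Groth.Agent.S8834
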