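import Groth.Statements.S8837
import Mathlib
import Groth.Agent.S0543
import Groth.Agent.S3871

set_option autoImplicit false
universe u
open AdicRing

namespace Groth.Agent.S8837

open TensorProduct
set_option linter.unusedSectionVars false

section
variable (A : Type u) [CommRing A] [IsNoetherianRing A] (I : Ideal A) [IsAdicComplete I A]
  (p : Ideal A) [p.IsPrime] (f : A)

local notation "Af" => Localization.Away f
local notation "J" => Ideal.map (algebraMap A (Localization.Away f)) I
local notation "B" => AdicCompletion (Ideal.map (algebraMap A (Localization.Away f)) I) (Localization.Away f)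

theorem hJfg : (J).FG := (I.fg_of_isNoetherianRing).map _

theorem map_I_eq : I.map (algebraMap A B) = (J).map (algebraMap Af B) := by
  rw [IsScalarTower.algebraMap_eq A Af B, Ideal.map_map]

theorem map_I_le_jacobson : I.map (algebraMap A B) ≤ Ideal.jacobson ⊥ := by
  rw [map_I_eq]
  have := AdicCompletion.isAdicComplete_self (J) (hJfg A I f)
  exact IsAdicComplete.le_jacobson_bot _

/-- flatness: if `a ∉ p` and `a ∈ pB` then `pB = B` -/
theorem one_mem_of_mem (a : A) (ha : a ∉ p) (h : algebraMap A B a ∈ p.map (algebraMap A B)) :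
    (1 : B) ∈ p.map (algebraMap A B) := by
  have hflat : Module.Flat A B := Module.Flat.trans A Af B
  let μ : (A ⧸ p) →ₗ[A] (A ⧸ p) := LinearMap.lsmul A (A ⧸ p) a
  have hμ : Function.Injective μ := by
    rw [← LinearMap.ker_eq_bot, LinearMap.ker_eq_bot']
    intro x hx
    obtain ⟨x, rfl⟩ := Ideal.Quotient.mk_surjective x
    have hx' : Ideal.Quotient.mk p (a * x) = 0 := by
      rw [map_mul]; exact hx
    rw [Ideal.Quotient.eq_zero_iff_mem] at hx' ⊢
    exact (Ideal.IsPrime.mem_or_mem inferInstance hx').resolve_left ha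
  have hinj := Module.Flat.lTensor_preserves_injective_linearMap (M := B) μ hμ
  let e := TensorProduct.tensorQuotEquivQuotSMul B p
  have h1 : (μ.lTensor B) ((1 : B) ⊗ₜ[A] (1 : A ⧸ p)) = 0 := by
    apply e.injective
    rw [LinearMap.lTensor_tmul, map_zero]
    have : μ (1 : A ⧸ p) = Ideal.Quotient.mk p a := by
      show a • (1 : A ⧸ p) = _
      rw [Algebra.smul_def, mul_one]; rfl
    rw [this, TensorProduct.tensorQuotEquivQuotSMul_tmul_mk, Submodule.Quotient.mk_eq_zero,
      Ideal.smul_top_eq_map, Submodule.restrictScalars_mem, Algebra.smul_def, mul_one]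
    exact h
  have h2 : ((1 : B) ⊗ₜ[A] (1 : A ⧸ p)) = 0 := hinj (h1.trans (map_zero _).symm)
  have h3 := congrArg e h2
  rw [map_zero, ← map_one (Ideal.Quotient.mk p), TensorProduct.tensorQuotEquivQuotSMul_tmul_mk,
    Submodule.Quotient.mk_eq_zero, Ideal.smul_top_eq_map, Submodule.restrictScalars_mem,
    one_smul] at h3
  exact h3

variable (hf : IsUnit (Ideal.Quotient.mk p f))
include hf

theorem map_p_ne_top : p.map (algebraMap A B) ≠ ⊤ := by
  intro htop
  -- p + I ≠ ⊤
  have hpI : p ⊔ I ≠ ⊤ := by
    intro h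
    have h1 : (1 : A) ∈ p ⊔ I := by rw [h]; trivial
    obtain ⟨x, hx, y, hy, hxy⟩ := Submodule.mem_sup.mp h1
    have hyJ : y ∈ Ideal.jacobson (⊥ : Ideal A) := IsAdicComplete.le_jacobson_bot I hy
    have hu : IsUnit x := by
      have := (Ideal.mem_jacobson_bot.mp hyJ) (-1)
      have e : y * -1 + 1 = x := by linear_combination -hxy
      rwa [e] at this
    exact (Ideal.IsPrime.ne_top inferInstance) (Ideal.eq_top_of_isUnit_mem _ hx hu)
  obtain ⟨m, hm, hle⟩ := Ideal.exists_le_maximal _ hpI
  have hpm : p ≤ m := le_trans le_sup_left hle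
  have hIm : I ≤ m := le_trans le_sup_right hle
  -- f is a unit mod m
  have hfm : IsUnit (Ideal.Quotient.mk m f) := by
    have := hf.map (Ideal.Quotient.factor hpm)
    simpa using this
  -- ring hom Af → A/m
  let θ0 : Af →+* A ⧸ m := IsLocalization.Away.lift f hfm
  have hθ0 : θ0.comp (algebraMap A Af) = Ideal.Quotient.mk m :=
    IsLocalization.Away.lift_comp f hfm
  have hJker : ∀ x ∈ (J) ^ 1, θ0 x = 0 := by
    intro x hx
    rw [pow_one] at hx
    have : (J).map θ0 = ⊥ := by
      rw [Ideal.map_map, hθ0, Ideal.map_eq_bot_iff_le_ker, Ideal.mk_ker]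
      exact hIm
    have h2 : θ0 x ∈ (J).map θ0 := Ideal.mem_map_of_mem θ0 hx
    rw [this] at h2
    exact h2
  let θ1 : (Af ⧸ (J) ^ 1) →+* A ⧸ m := Ideal.Quotient.lift _ θ0 hJker
  let θ : B →+* A ⧸ m := θ1.comp (AdicCompletion.evalₐ (J) 1).toRingHom
  have hθ : θ.comp (algebraMap A B) = Ideal.Quotient.mk m := by
    apply RingHom.ext
    intro a
    show θ1 (AdicCompletion.evalₐ (J) 1 (algebraMap A B a)) = _
    rw [IsScalarTower.algebraMap_apply A Af B, AdicCompletion.algebraMap_apply,
      AdicCompletion.evalₐ_of]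
    show θ1 (Ideal.Quotient.mk _ (algebraMap A Af a)) = _
    rw [Ideal.Quotient.lift_mk]
    exact congrArg (fun φ => φ a) hθ0
  have h3 : (p.map (algebraMap A B)).map θ = ⊥ := by
    rw [Ideal.map_map, hθ, Ideal.map_eq_bot_iff_le_ker, Ideal.mk_ker]
    exact hpm
  rw [htop, Ideal.map_top] at h3
  have : Nontrivial (A ⧸ m) := Ideal.Quotient.nontrivial_iff.mpr hm.ne_top
  exact top_ne_bot h3

theorem quotientMap_injective : Function.Injective (Ideal.quotientMap (p.map (algebraMap A B))
    (algebraMap A B) Ideal.le_comap_map) := by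
  apply Ideal.quotientMap_injective'
  intro a ha
  rw [Ideal.mem_comap] at ha
  by_contra hap
  have := one_mem_of_mem A I p f a hap ha
  exact map_p_ne_top A I p f hf ((Ideal.eq_top_iff_one _).mpr this)

theorem exists_approx (b : B) : ∃ a : A, b - algebraMap A B a ∈
    p.map (algebraMap A B) ⊔ I.map (algebraMap A B) := by
  obtain ⟨r, hr⟩ := Groth.Agent.S3871.exists_sub_mem (J) (hJfg A I f) 1 b
  rw [pow_one, ← map_I_eq] at hr
  obtain ⟨g', hg'⟩ := hf.exists_right_inv
  obtain ⟨g, rfl⟩ := Ideal.Quotient.mk_surjective g'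
  have hfg : f * g - 1 ∈ p := by
    rw [← Ideal.Quotient.eq, map_mul, map_one]; exact hg'
  obtain ⟨a', ⟨_, ⟨k, rfl⟩⟩, rfl⟩ := IsLocalization.exists_mk'_eq (Submonoid.powers f) r
  -- r = a'/f^k ; approximate by a' g^k
  have hk : (f * g) ^ k - 1 ∈ p := by
    have h1 : Ideal.Quotient.mk p ((f * g) ^ k) = 1 := by
      rw [map_pow, map_mul, hg', one_pow]
    rw [← Ideal.Quotient.eq, h1, map_one]
  have hr2 : IsLocalization.mk' Af a' (⟨f ^ k, ⟨k, rfl⟩⟩ : Submonoid.powers f) -
      algebraMap A Af (a' * g ^ k) ∈ p.map (algebraMap A Af) := by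
    have e : IsLocalization.mk' Af a' (⟨f ^ k, ⟨k, rfl⟩⟩ : Submonoid.powers f) -
        algebraMap A Af (a' * g ^ k) =
        IsLocalization.mk' Af a' (⟨f ^ k, ⟨k, rfl⟩⟩ : Submonoid.powers f) *
          algebraMap A Af (-((f * g) ^ k - 1)) := by
      have h2 : IsLocalization.mk' Af a' (⟨f ^ k, ⟨k, rfl⟩⟩ : Submonoid.powers f) *
          algebraMap A Af (f ^ k) = algebraMap A Af a' :=
        IsLocalization.mk'_spec Af a' (⟨f ^ k, ⟨k, rfl⟩⟩ : Submonoid.powers f)
      rw [map_neg, map_sub, map_one, mul_pow, map_mul, map_mul, ← h2]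
      ring
    rw [e]
    exact Ideal.mul_mem_left _ _ (Ideal.mem_map_of_mem _ ((Ideal.neg_mem_iff _).mpr hk))
  refine ⟨a' * g ^ k, ?_⟩
  have e2 : b - algebraMap A B (a' * g ^ k) =
      (b - algebraMap Af B (IsLocalization.mk' Af a' (⟨f ^ k, ⟨k, rfl⟩⟩ : Submonoid.powers f))) +
      algebraMap Af B (IsLocalization.mk' Af a' (⟨f ^ k, ⟨k, rfl⟩⟩ : Submonoid.powers f) -
        algebraMap A Af (a' * g ^ k)) := by
    rw [map_sub, ← IsScalarTower.algebraMap_apply A Af B]; ring
  rw [e2]
  apply Ideal.add_mem
  · exact Ideal.mem_sup_right hr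
  · apply Ideal.mem_sup_left
    rw [IsScalarTower.algebraMap_eq A Af B, ← Ideal.map_map]
    exact Ideal.mem_map_of_mem _ hr2

theorem quotientMap_surjective : Function.Surjective (Ideal.quotientMap (p.map (algebraMap A B))
    (algebraMap A B) Ideal.le_comap_map) := by
  have hBN : IsNoetherianRing B := Groth.Agent.S0543.result Af (J)
  -- the A-linear map A → B/pB
  let N := B ⧸ p.map (algebraMap A B)
  let g : A →ₗ[A] N := ((Ideal.Quotient.mkₐ A (p.map (algebraMap A B))).toLinearMap).comp
    (Algebra.linearMap A B)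
  have hg : ∀ a, g a = Ideal.Quotient.mk _ (algebraMap A B a) := fun a => rfl
  have hHaus : IsHausdorff I N := by
    rw [← IsHausdorff.map_algebraMap_iff (S := B)]
    exact IsHausdorff.of_le_jacobson _ _ (map_I_le_jacobson A I f)
  have hsurj : Function.Surjective ((Submodule.mkQ (I • ⊤ : Submodule A N)).comp g) := by
    intro y
    obtain ⟨y, rfl⟩ := Submodule.mkQ_surjective _ y
    obtain ⟨b, rfl⟩ := Ideal.Quotient.mk_surjective y
    obtain ⟨a, ha⟩ := exists_approx A I p f hf b
    refine ⟨a, ?_⟩
    rw [LinearMap.comp_apply, Submodule.mkQ_apply, Submodule.mkQ_apply, Submodule.Quotient.eq, hg,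
      ← map_sub]
    obtain ⟨x, hx, y, hy, hxy⟩ := Submodule.mem_sup.mp ha
    have e : algebraMap A B a - b = -x + -y := by rw [← neg_add, hxy]; ring
    rw [e, map_add, map_neg, Ideal.Quotient.eq_zero_iff_mem.mpr hx, neg_zero, zero_add, map_neg]
    apply Submodule.neg_mem
    -- y ∈ I B ⇒ mk y ∈ I • ⊤
    refine Submodule.span_induction (p := fun y _ => Ideal.Quotient.mk (p.map (algebraMap A B)) y ∈
      (I • ⊤ : Submodule A N)) ?_ ?_ ?_ ?_ hy
    · rintro _ ⟨i, hi, rfl⟩
      have : Ideal.Quotient.mk (p.map (algebraMap A B)) (algebraMap A B i) = i • (1 : N) := by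
        rw [Algebra.smul_def, mul_one]; rfl
      rw [this]
      exact Submodule.smul_mem_smul hi trivial
    · rw [map_zero]; exact Submodule.zero_mem _
    · intro u v _ _ hu hv
      rw [map_add]; exact Submodule.add_mem _ hu hv
    · intro c u _ hu
      rw [smul_eq_mul, map_mul]
      -- I • ⊤ is stable under multiplication by N
      refine Submodule.smul_induction_on hu ?_ ?_
      · intro i hi w _
        rw [mul_smul_comm]
        exact Submodule.smul_mem_smul hi trivial
      · intro u v hu hv
        rw [mul_add]; exact Submodule.add_mem _ hu hv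
  have hgs := surjective_of_mkQ_comp_surjective (I := I) (f := g) hsurj
  intro y
  obtain ⟨a, ha⟩ := hgs y
  exact ⟨Ideal.Quotient.mk p a, by rw [Ideal.quotientMap_mk]; exact ha⟩

end

/-- Let A be a Noetherian ring complete for the adic topology of an ideal I (an adic Noetherian
topological ring), p a prime ideal of A, and f ∈ A an element mapping to a unit in A/p. Let A_{f}
denote the completed principal localization, i.e. the I-adic completion of A_f = A[1/f]. Then the
ideal p A_{f} generated by p is prime, and the canonical map A/p → A_{f}/p A_{f} is bijective (so p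
A_{f} = p ⊗_A A_{f} is the completion of p_f, with quotient A/p). -/
theorem result (A : Type u) [CommRing A] [IsNoetherianRing A] (I : Ideal A) [IsAdicComplete I A] (p : Ideal A) [p.IsPrime] (f : A) (hf : IsUnit (Ideal.Quotient.mk p f)) : (p.map (algebraMap A (AdicCompletion (I.map (algebraMap A (Localization.Away f))) (Localization.Away f)))).IsPrime ∧ Function.Bijective (Ideal.quotientMap (p.map (algebraMap A (AdicCompletion (I.map (algebraMap A (Localization.Away f))) (Localization.Away f)))) (algebraMap A (AdicCompletion (I.map (algebraMap A (Localization.Away f))) (Localization.Away f))) Ideal.le_comap_map) := by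
  have hbij : Function.Bijective (Ideal.quotientMap (p.map (algebraMap A (AdicCompletion (I.map (algebraMap A (Localization.Away f))) (Localization.Away f)))) (algebraMap A (AdicCompletion (I.map (algebraMap A (Localization.Away f))) (Localization.Away f))) Ideal.le_comap_map) :=
    ⟨quotientMap_injective A I p f hf, quotientMap_surjective A I p f hf⟩
  refine ⟨?_, hbij⟩
  rw [← Ideal.Quotient.isDomain_iff_prime]
  let e := RingEquiv.ofBijective _ hbij
  exact Function.Injective.isDomain e.symm.toRingHom e.symm.injective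

end Groth.Agent.S8837
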