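import Groth.Statements.S8849
import Mathlib
import Groth.Agent.Lib.Helper16.RelCartier
import Groth.Agent.S8851

set_option autoImplicit false
universe u
open CategoryTheory CategoryTheory.Limits AlgebraicGeometry TopologicalSpace
open SDiv

namespace Groth.Agent.S8849

section helpers
open CategoryTheory CategoryTheory.Limits AlgebraicGeometry

open Groth.Agent.Lib.helper16.RelCartier

theorem ring_main {A B Bt : Type u} [CommRing A] [CommRing B] [CommRing Bt] (φ : A →+* B)
    (ψ : B →+* Bt) (t : B) (ht : t ∈ nonZeroDivisors B)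
    (hloc : letI := ψ.toAlgebra; IsLocalization.Away t Bt)
    (hq : ((Ideal.Quotient.mk (Ideal.span {t})).comp φ).Flat) (hlf : (ψ.comp φ).Flat) :
    φ.Flat := by
  algebraize [φ, ψ, ψ.comp φ]
  have e : φ = algebraMap A B := rfl
  rw [e, flat_comp_mk_iff] at hq
  have : IsLocalization.Away t Bt := hloc
  have : Module.Flat A Bt := hlf
  have : Module.Flat A B := flat_of_flat_away_of_flat_quot t ht Bt
  exact this

/-- flatness of `f` restricted to an open on which all stalk maps are flat, at the level of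
sections over an affine open `W` contained in that locus -/
theorem flat_appLE_of_stalk {X S : Scheme.{u}} (f : X ⟶ S) (W : X.Opens) (hW : IsAffineOpen W)
    (hflat : ∀ x ∈ W, (f.stalkMap x).hom.Flat) (V : S.affineOpens) (e : W ≤ f ⁻¹ᵁ V.1) :
    (f.appLE V.1 W e).hom.Flat := by
  have hg : Flat (W.ι ≫ f) := by
    apply Flat.of_stalkMap
    intro y
    rw [Scheme.Hom.stalkMap_comp]
    have hiso : IsIso (W.ι.stalkMap y) := inferInstance
    have hbij : Function.Bijective (W.ι.stalkMap y).hom :=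
      (ConcreteCategory.isIso_iff_bijective (W.ι.stalkMap y)).1 hiso
    exact RingHom.Flat.comp (hflat _ y.2) (RingHom.Flat.of_bijective hbij)
  have : IsAffine W := hW
  have e' : (⊤ : W.toScheme.Opens) ≤ (W.ι ≫ f) ⁻¹ᵁ V.1 := by
    intro y _
    exact e y.2
  have h1 := HasRingHomProperty.appLE (P := @Flat) _ hg V ⟨⊤, isAffineOpen_top _⟩ e'
  have h2 : (W.ι ≫ f).appLE V.1 ⊤ e' = f.appLE V.1 (W.ι ''ᵁ ⊤) (by
      rw [Scheme.Opens.ι_image_top]; exact e) := by
    rw [Scheme.Hom.comp_appLE, Scheme.Opens.ι_appLE]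
    rfl
  rw [h2] at h1
  exact (Scheme.Hom.appLE_congr f _ rfl (Scheme.Opens.ι_image_top W)
    (fun g => g.hom.Flat)).1 h1


theorem main {X S : Scheme.{u}} (f : X ⟶ S) (𝓘 : X.IdealSheafData)
    (hD : BlowUp.IsEffCartierIdeal 𝓘 ∧ Flat (𝓘.subschemeι ≫ f))
    (hflat : ∀ x : ↥X, x ∉ 𝓘.support → (f.stalkMap x).hom.Flat) : Flat f := by
  have := hD.2
  rw [HasRingHomProperty.iff_exists_appLE (P := @Flat)
    (RingHom.Flat.stableUnderComposition.stableUnderCompositionWithLocalizationAway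
      RingHom.Flat.holdsForLocalizationAway).1]
  intro x
  obtain ⟨V, hV, hfx, _⟩ := Opens.isBasis_iff_nbhd.mp S.isBasis_affineOpens
      (Opens.mem_top <| f x)
  obtain ⟨D, hxD, hDW, t, ht, hI⟩ := exists_gen_le 𝓘 hD.1 x (f ⁻¹ᵁ V) hfx
  refine ⟨⟨V, hV⟩, D, hxD, hDW, ?_⟩
  have hq := flat_quot_of_flat_sub f 𝓘 D ⟨V, hV⟩ hDW
  rw [hI] at hq
  have hle : X.basicOpen t ≤ f ⁻¹ᵁ V := (X.basicOpen_le t).trans hDW
  have hloc := flat_appLE_of_stalk f (X.basicOpen t) (D.2.basicOpen t)
    (fun y hy => hflat y (Groth.Agent.S8851.basicOpen_le_compl_support 𝓘 D t hI y hy)) ⟨V, hV⟩ hle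
  have hfac : f.appLE V (X.basicOpen t) hle =
      f.appLE V D.1 hDW ≫ X.presheaf.map (homOfLE (X.basicOpen_le t)).op :=
    (Scheme.Hom.appLE_map f hDW (homOfLE (X.basicOpen_le t)).op).symm
  rw [hfac] at hloc
  exact ring_main (f.appLE V D.1 hDW).hom (X.presheaf.map (homOfLE (X.basicOpen_le t)).op).hom t ht
    (D.2.isLocalization_basicOpen t) hq hloc


end helpers


/-- Let f : X ⟶ S be a morphism of schemes and 𝓘 the ideal sheaf of an effective Cartier divisor D ⊆ X
with D flat over S (a relative effective Cartier divisor). If f is flat at every point of X not in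
D, then f is flat. -/
theorem result {X S : Scheme.{u}} (f : X ⟶ S) (𝓘 : X.IdealSheafData)
    (hD : BlowUp.IsEffCartierIdeal 𝓘 ∧ Flat (𝓘.subschemeι ≫ f))
    (hflat : ∀ x : ↥X, x ∉ 𝓘.support → (f.stalkMap x).hom.Flat) : Flat f := by
  exact main f 𝓘 hD hflat

end Groth.Agent.S8849
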