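import Groth.Statements.S8850
import Mathlib
import Groth.Agent.Lib.Helper12.Chow2

set_option autoImplicit false
universe u
open CategoryTheory CategoryTheory.Limits AlgebraicGeometry TopologicalSpace
open SDiv

namespace Groth.Agent.S8850

/-- Let S be a scheme, X a Noetherian S-scheme, Y a proper S-scheme, U ⊆ X an open subscheme and f : U ⟶
Y a morphism compatible with the structure morphisms to S. Then there are a proper morphism p : X' ⟶
X restricting to an isomorphism over U and an S-morphism f' : X' ⟶ Y whose restriction to p⁻¹(U) is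
f composed with p. The published statement takes U dense, so that f is an S-rational map; this row
allows any open U, which its proof does not need. -/
theorem result {X Y S : Scheme.{u}} [IsNoetherian X] (a : X ⟶ S) (b : Y ⟶ S)
    [IsProper b] (U : X.Opens) (f : (U : Scheme.{u}) ⟶ Y) (hf : f ≫ b = U.ι ≫ a) :
    ∃ (X' : Scheme.{u}) (p : X' ⟶ X) (f' : X' ⟶ Y), IsProper p ∧ IsIso (p ∣_ U) ∧ f' ≫ b = p ≫ a ∧
      (p ⁻¹ᵁ U).ι ≫ f' = (p ∣_ U) ≫ f := by
  have hg : U.ι ≫ a = f ≫ b := hf.symm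
  have hqc : QuasiCompact U.ι := inferInstance
  refine ⟨Groth.Agent.Lib.helper12.Chow2.X' a b U f hg, Groth.Agent.Lib.helper12.Chow2.π a b U f hg,
    Groth.Agent.Lib.helper12.Chow2.ρ a b U f hg, inferInstance,
    Groth.Agent.Lib.helper12.Chow2.isIso_π_restrict a b U f hg,
    (Groth.Agent.Lib.helper12.Chow2.π_f a b U f hg).symm, ?_⟩
  set p := Groth.Agent.Lib.helper12.Chow2.π a b U f hg with hp
  set j₀ := Groth.Agent.Lib.helper12.Chow2.j₀ a b U f hg with hj₀
  have h1 : j₀ ≫ p = U.ι := Groth.Agent.Lib.helper12.Chow2.j₀_π a b U f hg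
  have h2 : j₀ ≫ Groth.Agent.Lib.helper12.Chow2.ρ a b U f hg = f :=
    Groth.Agent.Lib.helper12.Chow2.j₀_ρ a b U f hg
  have hiso : IsIso (p ∣_ U) := Groth.Agent.Lib.helper12.Chow2.isIso_π_restrict a b U f hg
  have hr : Set.range j₀ ⊆ Set.range (p ⁻¹ᵁ U).ι := by
    rintro _ ⟨u, rfl⟩
    rw [Scheme.Opens.range_ι]
    change p (j₀ u) ∈ U
    rw [← Scheme.Hom.comp_apply, h1]
    exact u.2
  let j₀' : (U : Scheme.{u}) ⟶ (p ⁻¹ᵁ U : Scheme.{u}) := IsOpenImmersion.lift (p ⁻¹ᵁ U).ι j₀ hr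
  have hj₀' : j₀' ≫ (p ⁻¹ᵁ U).ι = j₀ := IsOpenImmersion.lift_fac _ _ _
  have h3 : j₀' ≫ (p ∣_ U) = 𝟙 _ := by
    rw [← cancel_mono U.ι, Category.assoc, morphismRestrict_ι, ← Category.assoc, hj₀', h1,
      Category.id_comp]
  have h4 : (p ∣_ U) ≫ j₀' = 𝟙 _ := by
    rw [← cancel_mono (p ∣_ U), Category.assoc, h3, Category.comp_id, Category.id_comp]
  have h5 : (p ∣_ U) ≫ f = (p ∣_ U) ≫ j₀' ≫ (p ⁻¹ᵁ U).ι ≫
      Groth.Agent.Lib.helper12.Chow2.ρ a b U f hg := by
    rw [reassoc_of% hj₀', h2]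
  rw [h5, reassoc_of% h4]

end Groth.Agent.S8850
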