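import Groth.Statements.S8855
import Mathlib
import Groth.Agent.Lib.Helper17.RegNear
import Groth.Agent.S2889

set_option autoImplicit false
set_option linter.style.haveILetI false
universe u
open CategoryTheory CategoryTheory.Limits AlgebraicGeometry TopologicalSpace
open SDiv

namespace Groth.Agent.S8855

/-- Let i : Z ⟶ X be an immersion of schemes with Z and X regular (locally Noetherian, all local rings
regular local rings). Then i is a regular immersion. -/
theorem result {Z X : Scheme.{u}} (i : Z ⟶ X) [IsImmersion i]
    [IsLocallyNoetherian X] [IsLocallyNoetherian Z]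
    (hX : ∀ x : ↥X, IsRegularLocalRing ↑(X.presheaf.stalk x)) (hZ : ∀ z : ↥Z, IsRegularLocalRing ↑(Z.presheaf.stalk z)) :
    RegImm.IsRegularImmersion RegImm.Kind.regular i := by
  refine ⟨inferInstance, fun z => ?_⟩
  -- the closed immersion into the coborder
  haveI : IsLocallyNoetherian (i.coborderRange : Scheme.{u}) := inferInstance
  have hj : i.liftCoborder ≫ i.coborderRange.ι = i := i.liftCoborder_ι
  -- regularity of the stalks
  haveI hregW : IsRegularLocalRing ((i.coborderRange : Scheme.{u}).presheaf.stalk
      (i.liftCoborder z)) := by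
    haveI := hX (i.coborderRange.ι (i.liftCoborder z))
    exact IsRegularLocalRing.of_ringEquiv
      (asIso (i.coborderRange.ι.stalkMap (i.liftCoborder z))).commRingCatIsoToRingEquiv
  haveI hregZ : IsRegularLocalRing (Z.presheaf.stalk z) := hZ z
  have hstalk := (Groth.Agent.S2889.ring_iff _ _ (i.liftCoborder.stalkMap z).hom
    (i.liftCoborder.stalkMap_surjective z)).mpr hregW
  obtain ⟨U', hU', hzU', rs, hrs, hker⟩ :=
    Groth.Agent.Lib.helper17.RegNear.regAt_of_stalk i.liftCoborder z hstalk
  rw [Scheme.Hom.ker_apply] at hker
  have hU : IsAffineOpen (i.coborderRange.ι ''ᵁ U') := hU'.image_of_isOpenImmersion _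
  have hzU : i z ∈ i.coborderRange.ι ''ᵁ U' := by
    refine ⟨i.liftCoborder z, hzU', ?_⟩
    exact congrArg (fun f => f.base z) hj
  refine ⟨⟨i.coborderRange.ι ''ᵁ U', (hU : _ ∈ X.affineOpens)⟩, hzU, ?_, rs, hrs, ?_⟩
  · -- closed immersion over `U`
    haveI : IsImmersion (i ∣_ (i.coborderRange.ι ''ᵁ U')) :=
      IsZariskiLocalAtTarget.restrict ‹_› _
    apply IsClosedImmersion.of_isPreimmersion
    rw [morphismRestrict_base]
    have hr : Set.range (Set.restrictPreimage ((i.coborderRange.ι ''ᵁ U' : X.Opens) : Set X) i) =
        Subtype.val ⁻¹' Set.range i := Set.range_restrictPreimage _ _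
    change IsClosed (Set.range (Set.restrictPreimage
      ((i.coborderRange.ι ''ᵁ U' : X.Opens) : Set X) i))
    rw [hr]
    have hle : ((i.coborderRange.ι ''ᵁ U' : X.Opens) : Set X) ⊆ coborder (Set.range i) := by
      have := i.coborderRange.ι_image_le U'
      exact this
    have hcl : IsClosed (Subtype.val ⁻¹' Set.range i : Set (coborder (Set.range i))) :=
      isClosed_preimage_val_coborder
    have hcont : Continuous (Set.inclusion hle) := continuous_inclusion hle
    exact hcl.preimage hcont
  · have hk : RingHom.ker (i.app (i.coborderRange.ι ''ᵁ U')).hom =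
        RingHom.ker (i.liftCoborder.app U').hom := by
      rw [liftCoborder_app]
      ext a
      simp only [RingHom.mem_ker]
      exact (map_eq_zero_iff _ (ConcreteCategory.bijective_of_isIso
        (Z.presheaf.map (eqToHom (i.liftCoborder_preimage U')).op)).1).symm
    exact hk.trans hker

end Groth.Agent.S8855
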