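import Groth.Statements.S8858
import Groth.Agent.Lib.Helper16.BlowUpProper
import Groth.Agent.Lib.Helper16.BlowUpGlue
import Groth.Agent.Lib.Helper16.IdealComapPow
import Groth.Agent.S1683
import Groth.Agent.S8852
import Groth.Agent.S17083

set_option autoImplicit false
universe u
open CategoryTheory CategoryTheory.Limits AlgebraicGeometry TopologicalSpace
open SDiv

namespace Groth.Agent.S8858


/-- the pull-back of an ideal sheaf of finite type is of finite type. -/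
theorem isFiniteTypeIdeal_comap {X Y : Scheme.{u}} (𝓛 : X.IdealSheafData)
    (h𝓛 : BlowUp.IsFiniteTypeIdeal 𝓛) (g : Y ⟶ X) : BlowUp.IsFiniteTypeIdeal (𝓛.comap g) := by
  intro V
  set K := 𝓛.comap g with hK
  apply Ideal.fg_of_localizationSpan {s : Γ(Y, V.1) | (K.ideal (Y.affineBasicOpen s)).FG}
  · rw [← V.2.self_le_iSup_basicOpen_iff]
    intro y hy
    obtain ⟨U, hyU⟩ : ∃ U : X.affineOpens, g y ∈ U.1 := by
      have : g y ∈ ⨆ i : X.affineOpens, (i : X.Opens) := by rw [iSup_affineOpens_eq_top]; trivial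
      exact Opens.mem_iSup.mp this
    obtain ⟨s, hsle, hys⟩ := V.2.exists_basicOpen_le (V := g ⁻¹ᵁ U.1) ⟨y, hyU⟩ hy
    refine Opens.mem_iSup.mpr ⟨⟨s, ?_⟩, hys⟩
    show (K.ideal (Y.affineBasicOpen s)).FG
    rw [hK, Groth.Agent.Lib.helper7.IdealComap.ideal_comap g 𝓛 U.2 (Y.affineBasicOpen s).2 hsle]
    exact (h𝓛 U).map _
  · rintro ⟨s, hs⟩
    have inst := V.2.isLocalization_basicOpen s
    let e := IsLocalization.algEquiv (Submonoid.powers s) Γ(Y, Y.basicOpen s) (Localization.Away s)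
    have : (K.ideal V).map (algebraMap Γ(Y, V.1) (Localization.Away s)) =
        ((K.ideal V).map (Y.presheaf.map (homOfLE (Y.basicOpen_le s)).op).hom).map
          (e : Γ(Y, Y.basicOpen s) →+* Localization.Away s) := by
      rw [Ideal.map_map]
      congr 1
      ext a
      exact (e.commutes a).symm
    rw [this]
    refine Ideal.FG.map ?_ _
    have h2 := K.map_ideal_basicOpen V s
    rw [h2]
    exact hs

theorem isAdmissibleFor_one {X : Scheme.{u}} (U : X.Opens) :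
    BlowUp.IsAdmissibleFor U (1 : X.IdealSheafData) := by
  refine ⟨fun V => ?_, ?_⟩
  · rw [Scheme.IdealSheafData.one_eq_top, Scheme.IdealSheafData.ideal_top]
    exact ⟨{1}, by simp⟩
  · rw [Scheme.IdealSheafData.one_eq_top, Scheme.IdealSheafData.support_top]
    simp

theorem isAdmissibleFor_mul {X : Scheme.{u}} {U : X.Opens} {A B : X.IdealSheafData}
    (hA : BlowUp.IsAdmissibleFor U A) (hB : BlowUp.IsAdmissibleFor U B) :
    BlowUp.IsAdmissibleFor U (A * B) := by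
  refine ⟨fun V => ?_, ?_⟩
  · rw [Scheme.IdealSheafData.ideal_mul]
    exact (hA.1 V).mul (hB.1 V)
  · rw [Scheme.IdealSheafData.support_mul, Closeds.coe_sup, Set.disjoint_union_left]
    exact ⟨hA.2, hB.2⟩

theorem isAdmissibleFor_prod {X : Scheme.{u}} {U : X.Opens} {ι : Type*} (s : Finset ι)
    (𝓘 : ι → X.IdealSheafData) (h : ∀ i ∈ s, BlowUp.IsAdmissibleFor U (𝓘 i)) :
    BlowUp.IsAdmissibleFor U (∏ i ∈ s, 𝓘 i) := by
  classical
  induction s using Finset.induction_on with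
  | empty => rw [Finset.prod_empty]; exact isAdmissibleFor_one U
  | insert a s ha ih =>
    rw [Finset.prod_insert ha]
    exact isAdmissibleFor_mul (h a (Finset.mem_insert_self a s))
      (ih fun i hi => h i (Finset.mem_insert_of_mem hi))

theorem isAdmissibleFor_comap {X Y : Scheme.{u}} {U : X.Opens} {𝓛 : X.IdealSheafData}
    (h : BlowUp.IsAdmissibleFor U 𝓛) (g : Y ⟶ X) :
    BlowUp.IsAdmissibleFor (g ⁻¹ᵁ U) (𝓛.comap g) := by
  refine ⟨isFiniteTypeIdeal_comap 𝓛 h.1 g, ?_⟩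
  rw [Scheme.IdealSheafData.support_comap]
  exact Disjoint.preimage (fun y => g y) h.2

open Groth.Agent.Lib.helper16 in
theorem result' (X : Scheme.{u})
    (U : X.Opens) {n : ℕ} (Xi : Fin n → Scheme.{u}) (b : ∀ i, Xi i ⟶ X)
    (𝓘 : Fin n → X.IdealSheafData) (hb : ∀ i, BlowUp.IsBlowUp (b i) (𝓘 i)) (ha : ∀ i, BlowUp.IsAdmissibleFor U (𝓘 i)) :
    ∃ (𝓙 : X.IdealSheafData) (X' : Scheme.{u}) (c : X' ⟶ X), BlowUp.IsBlowUp c 𝓙 ∧ BlowUp.IsAdmissibleFor U 𝓙 ∧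
      ∀ i, ∃ (g : X' ⟶ Xi i) (𝓚 : (Xi i).IdealSheafData), g ≫ b i = c ∧ BlowUp.IsBlowUp g 𝓚 ∧
        BlowUp.IsAdmissibleFor ((b i) ⁻¹ᵁ U) 𝓚 := by
  classical
  obtain ⟨X', c, hc⟩ := BlowUpGlue.exists_isBlowUp X (∏ i, 𝓘 i)
  refine ⟨∏ i, 𝓘 i, X', c, hc, isAdmissibleFor_prod _ _ (fun i _ => ha i), fun i => ?_⟩
  set 𝓛 : X.IdealSheafData := ∏ j ∈ Finset.univ.erase i, 𝓘 j with h𝓛
  have hprod : ∏ j, 𝓘 j = 𝓘 i * 𝓛 := (Finset.mul_prod_erase _ _ (Finset.mem_univ i)).symm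
  have h𝓛adm : BlowUp.IsAdmissibleFor U 𝓛 := isAdmissibleFor_prod _ _ (fun j _ => ha j)
  obtain ⟨X'', b'', hb''⟩ := BlowUpGlue.exists_isBlowUp (Xi i) (𝓛.comap (b i))
  have h1 : BlowUp.IsBlowUp (b'' ≫ b i) (∏ j, 𝓘 j) := by
    rw [hprod]
    exact Groth.Agent.S1683.main (𝓘 i) 𝓛 (b i) (hb i) b'' hb''
  obtain ⟨φ, hφ, -⟩ := h1.2 X' c hc.1
  have : IsIso φ := Groth.Agent.S17083.isIso_of_isBlowUp _ _ _ hc h1 φ hφ
  refine ⟨φ ≫ b'', 𝓛.comap (b i), ?_, ?_, isAdmissibleFor_comap h𝓛adm (b i)⟩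
  · rw [Category.assoc]; exact hφ
  · exact BlowUpProper.isBlowUp_of_iso _ _ _ (asIso φ) rfl hb''



/-- Let X be a quasi-compact and quasi-separated scheme, U ⊆ X a quasi-compact open subscheme, and b_i :
X_i ⟶ X, i < n, blowing ups of X in quasi-coherent ideal sheaves 𝓘_i of finite type with support
disjoint from U (U-admissible blow-ups). Then there is a U-admissible blow-up c : X' ⟶ X such that
(a) c factors as X' ⟶ X_i ⟶ X for every i, and (b) each factor X' ⟶ X_i is a blowing up of X_i in a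
quasi-coherent ideal sheaf of finite type whose support is disjoint from the inverse image of U. -/
theorem result (X : Scheme.{u}) [CompactSpace ↥X] [QuasiSeparatedSpace ↥X]
    (U : X.Opens) (hU : IsCompact (U : Set ↥X)) {n : ℕ} (Xi : Fin n → Scheme.{u}) (b : ∀ i, Xi i ⟶ X)
    (𝓘 : Fin n → X.IdealSheafData) (hb : ∀ i, BlowUp.IsBlowUp (b i) (𝓘 i)) (ha : ∀ i, BlowUp.IsAdmissibleFor U (𝓘 i)) :
    ∃ (𝓙 : X.IdealSheafData) (X' : Scheme.{u}) (c : X' ⟶ X), BlowUp.IsBlowUp c 𝓙 ∧ BlowUp.IsAdmissibleFor U 𝓙 ∧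
      ∀ i, ∃ (g : X' ⟶ Xi i) (𝓚 : (Xi i).IdealSheafData), g ≫ b i = c ∧ BlowUp.IsBlowUp g 𝓚 ∧
        BlowUp.IsAdmissibleFor ((b i) ⁻¹ᵁ U) 𝓚 := by
  exact Groth.Agent.S8858.result' X U Xi b 𝓘 hb ha

end Groth.Agent.S8858
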