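import Groth.Statements.S8860
import Mathlib
import Groth.Agent.Lib.Helper12.NormSec6
import Groth.Agent.Lib.Helper12.NormFn5
import Groth.Agent.Lib.Helper12.AmpleQAff
import Groth.Agent.Lib.Helper16.PushFLF
import Groth.Agent.Lib.Helper16.FLF5
import Groth.Agent.S8880

set_option autoImplicit false
set_option linter.style.haveILetI false
universe u
open CategoryTheory CategoryTheory.Limits AlgebraicGeometry TopologicalSpace
open SDiv

namespace Groth.Agent.S8860

/-- The closed subscheme cut out by the vanishing ideal of a closed set is reduced. -/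
theorem isReduced_subscheme_vanishingIdeal {X : Scheme.{u}} (C : Closeds X) :
    IsReduced (Scheme.IdealSheafData.vanishingIdeal C).subscheme := by
  have : ∀ i, IsReduced ((Scheme.IdealSheafData.vanishingIdeal C).subschemeCover.openCover.X i) := by
    intro (U : X.affineOpens)
    have hrad : ((Scheme.IdealSheafData.vanishingIdeal C).ideal U).IsRadical := by
      rw [Scheme.IdealSheafData.vanishingIdeal_ideal]
      exact PrimeSpectrum.isRadical_vanishingIdeal _
    have : _root_.IsReduced (Γ(X, U) ⧸ (Scheme.IdealSheafData.vanishingIdeal C).ideal U) :=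
      (Ideal.isRadical_iff_quotient_reduced _).mp hrad
    change IsReduced (Spec (.of (Γ(X, U) ⧸ (Scheme.IdealSheafData.vanishingIdeal C).ideal U)))
    infer_instance
  exact IsReduced.of_openCover _ (Scheme.IdealSheafData.vanishingIdeal C).subschemeCover.openCover

/-- the finite locally free case. -/
theorem case_flf {X Y : Scheme.{u}} (π : X ⟶ Y) [IsFinite π] [Surjective π]
    (hX : X.IsQuasiAffine) (h : Mor2.IsFinLocFree π) : Y.IsQuasiAffine := by
  haveI : CompactSpace X := hX.toCompactSpace
  haveI : CompactSpace Y := by
    refine ⟨?_⟩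
    have := isCompact_univ.image π.continuous
    rwa [Set.image_univ, π.surjective.range_eq] at this
  have hfree := Groth.Agent.Lib.helper16.PushFLF.isFinLocFree_pushforward π h _
    (Groth.Agent.Lib.helper16.FLF.isFinLocFree_structureModule X)
  have hamp : CohB1.IsAmple (Coh.structureModule X) :=
    Groth.Agent.Lib.helper12.AmpleQAff.isAmple_structureModule_of_isQuasiAffine
  have hamp' : CohB1.IsAmple ((Scheme.Modules.pullback π).obj (Coh.structureModule Y)) :=
    Groth.Agent.Lib.helper12.AmplePow.isAmple_of_iso
      (Groth.Agent.Lib.helper11.InvMod.pullbackUnitIso π).symm hamp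
  have hY := Groth.Agent.Lib.Helper12.NormSec.isAmple_of_isAmple_pullback π hfree
    (Groth.Agent.Lib.helper11.InvMod.isInvertible_structureModule Y) hamp'
  exact Groth.Agent.Lib.helper12.AmpleQAff.isQuasiAffine_iff_isAmple_structureModule.mpr hY

/-- the normal case. -/
theorem case_normal {X Y : Scheme.{u}} (π : X ⟶ Y) [IsFinite π] [Surjective π]
    (hX : X.IsQuasiAffine) [IsIntegral Y] (hY : Pi1.IsNormalScheme Y) : Y.IsQuasiAffine := by
  obtain ⟨ξ, hξ⟩ := π.surjective (genericPoint Y)
  let Z : Closeds X := ⟨closure {ξ}, isClosed_closure⟩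
  let I := Scheme.IdealSheafData.vanishingIdeal Z
  have hrange : Set.range I.subschemeι = closure {ξ} := by
    rw [Scheme.IdealSheafData.range_subschemeι, Scheme.IdealSheafData.coe_support_vanishingIdeal]
    rfl
  haveI : IsReduced I.subscheme := isReduced_subscheme_vanishingIdeal Z
  haveI : IrreducibleSpace I.subscheme := by
    have hemb := I.subschemeι.isEmbedding
    have hirr : IsIrreducible (Set.range I.subschemeι) := by
      rw [hrange]
      exact isIrreducible_singleton.closure
    haveI : IrreducibleSpace (Set.range I.subschemeι) := Subtype.irreducibleSpace hirr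
    exact (Homeomorph.irreducibleSpace_iff hemb.toHomeomorph).mpr inferInstance
  haveI : IsIntegral I.subscheme := isIntegral_of_irreducibleSpace_of_isReduced _
  let π' : I.subscheme ⟶ Y := I.subschemeι ≫ π
  haveI : IsFinite π' := by
    dsimp only [π']
    infer_instance
  haveI : Surjective π' := by
    refine ⟨?_⟩
    have hcl : IsClosed (Set.range π') := π'.isClosedMap.isClosed_range
    have hmem : genericPoint Y ∈ Set.range π' := by
      have : ξ ∈ Set.range I.subschemeι := by
        rw [hrange]
        exact subset_closure rfl
      obtain ⟨z, hz⟩ := this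
      exact ⟨z, by rw [Scheme.Hom.comp_apply, hz, hξ]⟩
    have h1 : closure {genericPoint Y} ⊆ Set.range π' :=
      hcl.closure_subset_iff.mpr (Set.singleton_subset_iff.mpr hmem)
    rw [(genericPoint_spec Y).def] at h1
    intro y
    exact h1 (Set.mem_univ y)
  haveI := hX
  have hX' : I.subscheme.IsQuasiAffine := Scheme.IsQuasiAffine.of_isAffineHom I.subschemeι
  have hη := Groth.Agent.Lib.Helper12.NormFn.map_genericPoint π'
  have hN := Groth.Agent.Lib.Helper12.NormFn.hasNorm_of_normal π' hη hY
  exact Groth.Agent.S8880.result π' _ hN hX'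

/-- Let π : X ⟶ Y be a finite surjective morphism of schemes with X quasi-affine. If either π is finite
locally free (finite, flat and locally of finite presentation), or Y is integral with all local
rings integrally closed domains (normal), then Y is quasi-affine. -/
theorem result {X Y : Scheme.{u}} (π : X ⟶ Y) [IsFinite π] [Surjective π]
    (hX : X.IsQuasiAffine) (h : Mor2.IsFinLocFree π ∨ (IsIntegral Y ∧ Pi1.IsNormalScheme Y)) :
    Y.IsQuasiAffine := by
  rcases h with h | ⟨h1, h2⟩
  · exact case_flf π hX h
  · exact case_normal π hX h2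

end Groth.Agent.S8860
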