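import Groth.Statements.S8861
import Mathlib
import Groth.Agent.Lib.Helper16.WeakAss
import Groth.Agent.S1684
import Groth.Agent.S17386
import Groth.Agent.Lib.Helper6.IdealSheaf

set_option autoImplicit false
universe u
open CategoryTheory CategoryTheory.Limits AlgebraicGeometry TopologicalSpace
open SDiv

namespace Groth.Agent.S8861

section helpers
open CategoryTheory CategoryTheory.Limits AlgebraicGeometry TopologicalSpace

open Groth.Agent.Lib.helper16.WeakAss

theorem main {X Y : Scheme.{u}} (f : X ⟶ Y) (𝓘 : Y.IdealSheafData)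
    (hD : BlowUp.IsEffCartierIdeal 𝓘)
    (h : ∀ x : ↥X, Curv2.IsWeakAssPoint (Coh.structureModule X) x → f x ∉ 𝓘.support) :
    BlowUp.IsEffCartierIdeal (𝓘.comap f) := by
  intro x
  obtain ⟨W', hxW', e, he, hIe⟩ := hD (f x)
  obtain ⟨_, ⟨W, hW, rfl⟩, hxW, hWle⟩ :=
    X.isBasis_affineOpens.exists_subset_of_mem_open
      (show x ∈ ((f ⁻¹ᵁ W'.1 : X.Opens) : Set X) from hxW') (f ⁻¹ᵁ W'.1).2
  have h2 : W ≤ f ⁻¹ᵁ W'.1 := hWle
  refine ⟨⟨W, hW⟩, hxW, (f.appLE W'.1 W h2).hom e, ?_, ?_⟩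
  swap
  · rw [Groth.Agent.Lib.helper6.ideal_comap f 𝓘 W' ⟨W, hW⟩ h2, hIe, Ideal.map_span,
      Set.image_singleton]
  set r := (f.appLE W'.1 W h2).hom e with hr
  rw [mem_nonZeroDivisors_iff_right]
  intro a ha
  by_contra hane
  -- the annihilator of a is a proper ideal containing r
  have hr_ann : r ∈ ann a := by rw [mem_ann, mul_comm]; exact ha
  have hne : ann a ≠ ⊤ := by
    intro htop
    have : (1 : Γ(X, W)) ∈ ann a := htop ▸ Submodule.mem_top
    rw [mem_ann, one_mul] at this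
    exact hane this
  obtain ⟨M, hM, hle⟩ := Ideal.exists_le_maximal _ hne
  obtain ⟨p, hp, hpM⟩ := Ideal.exists_minimalPrimes_le (I := ann a) (J := M) hle
  have hp' : p.IsPrime := hp.1.1
  set Q : PrimeSpectrum Γ(X, W) := ⟨p, hp'⟩ with hQ
  set ξ := hW.fromSpec Q with hξ
  have hξW : ξ ∈ W := Groth.Agent.S1684.fromSpec_mem hW Q
  have hprime : hW.primeIdealOf ⟨ξ, hξW⟩ = Q := Groth.Agent.S1684.primeIdealOf_fromSpec hW Q hξW
  have hweak : Curv2.IsWeakAssPoint (Coh.structureModule X) ξ := by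
    apply isWeakAssPoint_of_minimal hW a ξ hξW
    rw [hprime]
    exact hp
  have hfξ : f ξ ∉ 𝓘.support := h ξ hweak
  have hfξW' : f ξ ∈ W'.1 := h2 hξW
  have hb : f ξ ∈ Y.basicOpen e := by
    by_contra hcon
    apply hfξ
    rw [Scheme.IdealSheafData.mem_support_iff_of_mem hfξW', hIe, Scheme.zeroLocus_span,
      Scheme.zeroLocus_singleton]
    simpa using hcon
  have hb' : ξ ∈ X.basicOpen r := by
    have := Scheme.basicOpen_appLE f W W'.1 h2 e
    rw [hr, this]
    exact ⟨hξW, hb⟩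
  have := (Groth.Agent.S17386.mem_basicOpen_iff_notMem_primeIdealOf hW ξ hξW _).1 hb'
  rw [hprime] at this
  exact this (hp.1.2 hr_ann)


end helpers


/-- Let f : X ⟶ Y be a morphism of schemes and 𝓘 the ideal sheaf of an effective Cartier divisor D ⊆ Y.
If f x ∉ D for every weakly associated point x of X (weakly associated point of the structure
sheaf), then the inverse image ideal sheaf of 𝓘 on X is the ideal of an effective Cartier divisor,
i.e. the pullback of D by f is defined. -/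
theorem result {X Y : Scheme.{u}} (f : X ⟶ Y) (𝓘 : Y.IdealSheafData)
    (hD : BlowUp.IsEffCartierIdeal 𝓘)
    (h : ∀ x : ↥X, Curv2.IsWeakAssPoint (Coh.structureModule X) x → f x ∉ 𝓘.support) :
    BlowUp.IsEffCartierIdeal (𝓘.comap f) := by
  exact main f 𝓘 hD h

end Groth.Agent.S8861
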