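import Groth.Statements.S8862
import Mathlib
import Groth.Agent.S1681
import Groth.Agent.S1684
import Groth.Agent.S17386
import Groth.Agent.S8851
import Groth.Agent.Lib.Helper6.IdealSheaf

set_option autoImplicit false
universe u
open CategoryTheory CategoryTheory.Limits AlgebraicGeometry TopologicalSpace
open SDiv

namespace Groth.Agent.S8862

section helpers
open CategoryTheory CategoryTheory.Limits AlgebraicGeometry


theorem nzd_of_notMem_minimalPrimes {R : Type*} [CommRing R] [IsReduced R] (r : R)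
    (h : ∀ p ∈ minimalPrimes R, r ∉ p) : r ∈ nonZeroDivisors R := by
  rw [mem_nonZeroDivisors_iff_right]
  intro a ha
  have : a ∈ sInf (minimalPrimes R) := by
    rw [Ideal.mem_sInf]
    intro p hp
    have hp' : p.IsPrime := hp.1.1
    have : a * r ∈ p := by rw [ha]; exact zero_mem _
    exact (hp'.mem_or_mem this).resolve_right (h p hp)
  rw [minimalPrimes, Ideal.sInf_minimalPrimes] at this
  have h0 : (⊥ : Ideal R).radical = ⊥ := by
    have := nilradical_eq_zero R
    rw [nilradical] at this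
    exact this
  rw [h0] at this
  exact this

theorem main {X Y : Scheme.{u}} [IsReduced X] (f : X ⟶ Y) (𝓘 : Y.IdealSheafData)
    (hD : BlowUp.IsEffCartierIdeal 𝓘)
    (h : ∀ ξ : ↥X, (∀ y : ↥X, y ⤳ ξ → y = ξ) → f ξ ∉ 𝓘.support) :
    BlowUp.IsEffCartierIdeal (𝓘.comap f) := by
  intro x
  obtain ⟨W', hxW', e, he, hIe⟩ := hD (f x)
  obtain ⟨_, ⟨W, hW, rfl⟩, hxW, hWle⟩ :=
    X.isBasis_affineOpens.exists_subset_of_mem_open
      (show x ∈ ((f ⁻¹ᵁ W'.1 : X.Opens) : Set X) from hxW') (f ⁻¹ᵁ W'.1).2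
  have h2 : W ≤ f ⁻¹ᵁ W'.1 := hWle
  refine ⟨⟨W, hW⟩, hxW, (f.appLE W'.1 W h2).hom e, ?_, ?_⟩
  swap
  · rw [Groth.Agent.Lib.helper6.ideal_comap f 𝓘 W' ⟨W, hW⟩ h2, hIe, Ideal.map_span,
      Set.image_singleton]
  apply nzd_of_notMem_minimalPrimes
  intro p hp hmem
  have hp' : p.IsPrime := hp.1.1
  set Q : PrimeSpectrum Γ(X, W) := ⟨p, hp'⟩ with hQ
  set ξ := hW.fromSpec Q with hξ
  have hξW : ξ ∈ W := Groth.Agent.S1684.fromSpec_mem hW Q
  have hQmax : Groth.Agent.S1681.IsMaxPt Q := by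
    intro y hy
    rw [← PrimeSpectrum.le_iff_specializes] at hy
    have : y.asIdeal = p := le_antisymm hy (hp.2 ⟨y.2, bot_le⟩ hy)
    exact PrimeSpectrum.ext this
  have hξmax : Groth.Agent.S1681.IsMaxPt ξ :=
    (Groth.Agent.S1681.isMaxPt_iff_of_isOpenImmersion hW.fromSpec Q).1 hQmax
  have hfξ : f ξ ∉ 𝓘.support := h ξ hξmax
  have hfξW' : f ξ ∈ W'.1 := h2 hξW
  have hb : f ξ ∈ Y.basicOpen e := by
    by_contra hcon
    apply hfξ
    rw [Scheme.IdealSheafData.mem_support_iff_of_mem hfξW', hIe, Scheme.zeroLocus_span,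
      Scheme.zeroLocus_singleton]
    simpa using hcon
  have hb' : ξ ∈ X.basicOpen ((f.appLE W'.1 W h2).hom e) := by
    have := Scheme.basicOpen_appLE f W W'.1 h2 e
    rw [this]
    exact ⟨hξW, hb⟩
  have := (Groth.Agent.S17386.mem_basicOpen_iff_notMem_primeIdealOf hW ξ hξW _).1 hb'
  rw [Groth.Agent.S1684.primeIdealOf_fromSpec hW Q hξW] at this
  exact this hmem


end helpers


/-- Let f : X ⟶ Y be a morphism of schemes with X reduced and 𝓘 the ideal sheaf of an effective Cartier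
divisor D ⊆ Y. If f ξ ∉ D for every generic point ξ of an irreducible component of X (every point of
X with no proper generization), then the inverse image ideal sheaf of 𝓘 on X is the ideal of an
effective Cartier divisor. -/
theorem result {X Y : Scheme.{u}} [IsReduced X] (f : X ⟶ Y) (𝓘 : Y.IdealSheafData)
    (hD : BlowUp.IsEffCartierIdeal 𝓘)
    (h : ∀ ξ : ↥X, (∀ y : ↥X, y ⤳ ξ → y = ξ) → f ξ ∉ 𝓘.support) :
    BlowUp.IsEffCartierIdeal (𝓘.comap f) := by
  exact main f 𝓘 hD h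

end Groth.Agent.S8862
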