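import Groth.Statements.S8864
import Mathlib
import Groth.Agent.Lib.Helper18.MeroExt
import Groth.Agent.Lib.Helper18.MeroDom
import Groth.Agent.S5085
import Groth.Agent.S12513

set_option autoImplicit false
universe u
open CategoryTheory CategoryTheory.Limits AlgebraicGeometry TopologicalSpace
open SDiv

namespace Groth.Agent.S8864

open Groth.Agent.Lib.Helper18 Mero in

/-- Let X be a locally Noetherian scheme and U an affine open of X. Then K_X(U), viewed as an
O_X(U)-algebra through the canonical map r ↦ r/1, is the total ring of fractions of O_X(U): it is a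
localization of O_X(U) at the monoid of nonzerodivisors. -/
theorem result (X : Scheme.{u}) [IsLocallyNoetherian X] (U : X.affineOpens) :
    @IsLocalization Γ(X, U.1) _ (nonZeroDivisors Γ(X, U.1)) Γ(Mero.kmod X, U.1) _ (Mero.toK X U.1).toAlgebra := by
  letI : Algebra Γ(X, U.1) Γ(Mero.kmod X, U.1) := (Mero.toK X U.1).toAlgebra
  haveI : IsNoetherianRing Γ(X, U.1) := IsLocallyNoetherian.component_noetherian U
  have halg : ∀ r : Γ(X, U.1), algebraMap Γ(X, U.1) Γ(Mero.kmod X, U.1) r = Mero.toK X U.1 r :=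
    fun r => rfl
  have hreg : Mero.regSub X U.1 = nonZeroDivisors Γ(X, U.1) := Groth.Agent.S12513.result X U.1 U.2
  show IsLocalization (nonZeroDivisors Γ(X, U.1)) Γ(Mero.kmod X, U.1)
  rw [isLocalization_iff]
  refine ⟨?_, ?_, ?_⟩
  · -- units
    rintro ⟨y, hy⟩
    have hy' : y ∈ Mero.regSub X U.1 := by rw [hreg]; exact hy
    let inv : Γ(Mero.kmod X, U.1) := ⟨fun x => LocalizedModule.mk 1 (regGerm x ⟨y, hy'⟩),
      fun x => ⟨U.1, x.2, 𝟙 _, 1, ⟨y, hy'⟩, fun z => mk_congr (map_one _).symm rfl⟩⟩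
    rw [halg]
    refine IsUnit.of_mul_eq_one inv ?_
    refine Subtype.ext (funext fun x => ?_)
    show (LocalizedModule.mk (X.presheaf.germ U.1 x.1 x.2 y) 1 : KStalk X x.1) *
      LocalizedModule.mk 1 (regGerm x ⟨y, hy'⟩) = 1
    refine LocalizedModule.mk_mul_mk.trans
      (Eq.trans (mk_congr ?_ ?_) (mk_self_eq_one (regGerm x ⟨y, hy'⟩)))
    · rw [mul_one]
    · rw [one_mul]
  · -- surjectivity
    intro z
    obtain ⟨D, hDU, hDmem, hDdense⟩ := MeroDom.domain z
    let zD : Γ(Mero.kmod X, D) := (Mero.kmod X).presheaf.map (homOfLE hDU).op z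
    have hzD : ∀ y : D, zD.1 y = z.1 ⟨y.1, hDU y.2⟩ := fun y => rfl
    have hs : ∀ y : D, zD.1 y ∈ (algebraMap (X.presheaf.stalk y.1) (Mero.KStalk X y.1)).range :=
      fun y => (hDmem y.1 (hDU y.2)).mp y.2
    obtain ⟨g, hg⟩ := MeroDom.exists_toK_eq zD hs
    obtain ⟨a, b, hab⟩ := MeroExt.exists_local_rep U.2 le_rfl hDdense
      (RegAvoid.noeth_data Γ(X, U.1)) g
    have hb : b.1 ∈ nonZeroDivisors Γ(X, U.1) := by rw [← hreg]; exact b.2
    refine ⟨(a, ⟨b.1, hb⟩), ?_⟩
    rw [halg, halg]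
    apply Groth.Agent.S5085.result X U.1 D hDU hDdense
    refine Subtype.ext (funext fun y => ?_)
    show z.1 ⟨y.1, hDU y.2⟩ * (LocalizedModule.mk (X.presheaf.germ U.1 y.1 (hDU y.2) b.1) 1 : KStalk X y.1) =
      LocalizedModule.mk (X.presheaf.germ U.1 y.1 (hDU y.2) a) 1
    rw [← hzD y, ← hg]
    show (LocalizedModule.mk (X.presheaf.germ D y.1 y.2 g) 1 : KStalk X y.1) *
      LocalizedModule.mk (X.presheaf.germ U.1 y.1 (hDU y.2) b.1) 1 = _
    refine LocalizedModule.mk_mul_mk.trans (mk_congr ?_ (by rw [one_mul]))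
    rw [hab y.1 (hDU y.2) y.2, mul_comm]
  · -- injectivity
    intro x y hxy
    refine ⟨1, ?_⟩
    rw [halg, halg] at hxy
    have : x = y := by
      apply TopCat.Presheaf.section_ext X.sheaf U.1
      intro w hw
      have h1 := congrArg (fun f : Γ(Mero.kmod X, U.1) => f.1 ⟨w, hw⟩) hxy
      have h2 : (LocalizedModule.mk (X.presheaf.germ U.1 w hw x) 1 : KStalk X w) =
          LocalizedModule.mk (X.presheaf.germ U.1 w hw y) 1 := h1
      rw [Groth.Agent.S5085.mk_eq_mk_iff] at h2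
      have h3 : X.presheaf.germ U.1 w hw x = X.presheaf.germ U.1 w hw y := by simpa using h2
      exact h3
    rw [this]

end Groth.Agent.S8864
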