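import Groth.Statements.S8865
import Mathlib
import Groth.Agent.Lib.Helper18.MeroDom
import Groth.Agent.S5085

set_option autoImplicit false
universe u
open CategoryTheory CategoryTheory.Limits AlgebraicGeometry TopologicalSpace
open SDiv

namespace Groth.Agent.S8865

open Groth.Agent.Lib.Helper18 Mero in

/-- Let X be a quasi-compact scheme, h a global section of O_X and f a global section of the sheaf of
meromorphic functions K_X whose restriction to the open X_h where h is invertible vanishes. Then h^n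
f = 0 in K_X(X) for some natural number n. -/
theorem result (X : Scheme.{u}) [CompactSpace ↥X] (h : Γ(X, ⊤))
    (f : Γ(Mero.kmod X, ⊤)) (hf : (Mero.kmod X).presheaf.map (homOfLE (le_top : X.basicOpen h ≤ ⊤)).op f = 0) :
    ∃ n : ℕ, Mero.toK X ⊤ h ^ n * f = 0 := by
  have hf' : ∀ y (hy : y ∈ X.basicOpen h), f.1 ⟨y, Opens.mem_top y⟩ = 0 := by
    intro y hy
    exact congrArg (fun t : Γ(Mero.kmod X, X.basicOpen h) => t.1 ⟨y, hy⟩) hf
  -- local data
  have hloc : ∀ x : X, ∃ (W : X.Opens) (_ : x ∈ W) (a : Γ(X, W)) (b : regSub X W) (n : ℕ),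
      (∀ (y : X) (hy : y ∈ W), f.1 ⟨y, Opens.mem_top y⟩ =
        LocalizedModule.mk (X.presheaf.germ W y hy a) (regGerm ⟨y, hy⟩ b)) ∧
      (X.presheaf.map (homOfLE (le_top : W ≤ ⊤)).op h) ^ n * a = 0 := by
    intro x
    obtain ⟨V, hxV, _hVU, a, b, hab⟩ := MeroDom.local_frac' f x (Opens.mem_top x)
    obtain ⟨W, hW, hxW, hWV⟩ := exists_isAffineOpen_mem_and_subset (x := x) (U := V) hxV
    let aW : Γ(X, W) := X.presheaf.map (homOfLE hWV).op a
    let bW : regSub X W := ⟨X.presheaf.map (homOfLE hWV).op b.1, regSub_res (homOfLE hWV) b.2⟩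
    let hW' : Γ(X, W) := X.presheaf.map (homOfLE (le_top : W ≤ ⊤)).op h
    have hrep : ∀ (y : X) (hy : y ∈ W), f.1 ⟨y, Opens.mem_top y⟩ =
        LocalizedModule.mk (X.presheaf.germ W y hy aW) (regGerm ⟨y, hy⟩ bW) := by
      intro y hy
      rw [hab y (hWV hy)]
      exact mk_congr (TopCat.Presheaf.germ_res_apply X.presheaf (homOfLE hWV) y hy a).symm
        (TopCat.Presheaf.germ_res_apply X.presheaf (homOfLE hWV) y hy b.1).symm
    have hres : X.presheaf.map (homOfLE (X.basicOpen_le hW')).op aW = 0 := by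
      apply TopCat.Presheaf.section_ext X.sheaf (X.basicOpen hW')
      intro y hy
      refine Eq.trans ?_ (map_zero _).symm
      have hyW : y ∈ W := X.basicOpen_le hW' hy
      have hyh : y ∈ X.basicOpen h := by
        have : X.basicOpen hW' = W ⊓ X.basicOpen h := Scheme.basicOpen_res _ _ _
        rw [this] at hy
        exact hy.2
      have e : X.presheaf.germ (X.basicOpen hW') y hy
          (X.presheaf.map (homOfLE (X.basicOpen_le hW')).op aW) = X.presheaf.germ W y hyW aW :=
        TopCat.Presheaf.germ_res_apply X.presheaf (homOfLE (X.basicOpen_le hW')) y hy aW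
      refine e.trans ?_
      have h0 := (hrep y hyW).symm.trans (hf' y hyh)
      rw [← LocalizedModule.zero_mk (1 : regStalk X y), Groth.Agent.S5085.mk_eq_mk_iff] at h0
      have h1 : X.presheaf.germ W y hyW aW = 0 := by simpa using h0
      exact h1
    obtain ⟨n, hn⟩ := exists_pow_mul_eq_zero_of_res_basicOpen_eq_zero_of_isAffineOpen X hW aW hW' hres
    exact ⟨W, hxW, aW, bW, n, hrep, hn⟩
  choose W hxW a b n hrep hn using hloc
  obtain ⟨t, ht⟩ := isCompact_univ.elim_finite_subcover (fun x : X => ((W x : X.Opens) : Set X))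
    (fun x => (W x).2) (fun x _ => Set.mem_iUnion.2 ⟨x, hxW x⟩)
  refine ⟨t.sup n, ?_⟩
  refine Subtype.ext (funext fun y => ?_)
  obtain ⟨x, hxt, hyx⟩ := Set.mem_iUnion₂.1 (ht (Set.mem_univ y.1))
  have hyW : y.1 ∈ W x := hyx
  rw [← map_pow]
  show (LocalizedModule.mk (X.presheaf.germ ⊤ y.1 y.2 (h ^ t.sup n)) 1 : KStalk X y.1) * f.1 y = 0
  have hy : f.1 y = LocalizedModule.mk (X.presheaf.germ (W x) y.1 hyW (a x)) (regGerm ⟨y.1, hyW⟩ (b x)) :=
    hrep x y.1 hyW
  rw [hy]
  refine LocalizedModule.mk_mul_mk.trans ?_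
  have hle : n x ≤ t.sup n := Finset.le_sup hxt
  have e : X.presheaf.germ ⊤ y.1 y.2 (h ^ t.sup n) =
      X.presheaf.germ (W x) y.1 hyW ((X.presheaf.map (homOfLE (le_top : W x ≤ ⊤)).op h) ^ t.sup n) := by
    rw [← map_pow]
    exact (TopCat.Presheaf.germ_res_apply X.presheaf (homOfLE (le_top : W x ≤ ⊤)) y.1 hyW _).symm
  rw [e, ← map_mul]
  have hz : (X.presheaf.map (homOfLE (le_top : W x ≤ ⊤)).op h) ^ t.sup n * a x = 0 := by
    rw [← Nat.sub_add_cancel hle, pow_add, mul_assoc, hn x, mul_zero]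
  rw [hz, map_zero, LocalizedModule.zero_mk]

end Groth.Agent.S8865
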