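import Groth.Statements.S8866
import Mathlib
import Groth.Agent.Lib.Helper18.MeroTwistExt
import Groth.Agent.Lib.Helper18.GenericOpen
import Groth.Agent.Lib.Helper5.LocFinIrr2

set_option autoImplicit false
universe u
open CategoryTheory CategoryTheory.Limits AlgebraicGeometry TopologicalSpace
open SDiv

namespace Groth.Agent.S8866

open Groth.Agent.Lib.Helper18 in
/-- from local finiteness of the family of components to the form used in S5086 -/
theorem meeting_finite {X : Scheme.{u}}
    (hLF : LocallyFinite (fun Z : irreducibleComponents X => (Z : Set X))) (x : X) :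
    ∃ W : X.Opens, x ∈ W ∧
      {Z : Set ↥X | Z ∈ irreducibleComponents ↥X ∧ (Z ∩ (W : Set ↥X)).Nonempty}.Finite := by
  obtain ⟨t, ht, hfin⟩ := hLF x
  obtain ⟨O, hOt, hO, hxO⟩ := mem_nhds_iff.mp ht
  refine ⟨⟨O, hO⟩, hxO, ?_⟩
  refine (hfin.image (fun Z : irreducibleComponents X => (Z : Set X))).subset ?_
  rintro Z ⟨hZ, y, hyZ, hyO⟩
  exact ⟨⟨Z, hZ⟩, ⟨y, hyZ, hOt hyO⟩, rfl⟩

open Groth.Agent.Lib.Helper18 in

/-- Let X be a reduced scheme in which every quasi-compact open subset has only finitely many
irreducible components, and fix an O_X-module L that is invertible. A regular meromorphic section of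
L then exists. For an integral scheme this is the case of one irreducible component. -/
theorem result (X : Scheme.{u}) [IsReduced X]
    (hfin : ∀ U : X.Opens, IsCompact (U : Set ↥X) → (irreducibleComponents ↥(U : Scheme.{u})).Finite)
    (L : X.Modules) (hL : PicF.IsInvertible L) : Mero.HasRegularMero L := by
  have hLF : LocallyFinite (fun Z : irreducibleComponents X => (Z : Set X)) :=
    (Groth.Agent.Lib.helper5.IrrCover.locallyFinite_irreducibleComponents_iff X).mpr hfin
  have hX : IsLocallyNoetherian X ∨ (IsReduced X ∧ ∀ x : ↥X, ∃ W : X.Opens, x ∈ W ∧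
      {Z : Set ↥X | Z ∈ irreducibleComponents ↥X ∧ (Z ∩ (W : Set ↥X)).Nonempty}.Finite) :=
    Or.inr ⟨inferInstance, meeting_finite hLF⟩
  obtain ⟨D, ℓD, hGD, hℓD⟩ := GenericOpen.exists_generic_generator hLF hL
  exact MeroTwistExt.hasRegularMero_of_generator hX hL D
    (GenericOpen.injective_res_of_generic_mem_of_isReduced D hGD) ℓD hℓD

end Groth.Agent.S8866
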