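import Groth.Statements.S8869
import Mathlib
import Groth.Agent.Lib.Helper16.WeakAss

set_option autoImplicit false
universe u
open CategoryTheory CategoryTheory.Limits AlgebraicGeometry TopologicalSpace
open SDiv

namespace Groth.Agent.S8869

section helpers
open CategoryTheory CategoryTheory.Limits AlgebraicGeometry TopologicalSpace

open Opposite Groth.Agent.Lib.helper16.WeakAss

theorem gM_res (X : Scheme.{u}) {U W : X.Opens} (i : W ⟶ U) (x : X) (hx : x ∈ W) (a : Γ(X,U)) :
    gM X W x hx ((X.presheaf.map i.op).hom a) = gM X U x (i.le hx) a :=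
  TopCat.Presheaf.germ_res_apply (Coh.structureModule X).presheaf i x hx (toM X U a)

theorem gM_eq_zero_of_germ_eq_zero (X : Scheme.{u}) (U : X.Opens) (x : X) (hx : x ∈ U) (a : Γ(X,U))
    (h : (X.presheaf.germ U x hx).hom a = 0) : gM X U x hx a = 0 := by
  have h0 : (X.presheaf.germ U x hx).hom a = (X.presheaf.germ U x hx).hom 0 := by rw [h, map_zero]
  obtain ⟨W, hxW, iU, iV, e⟩ := TopCat.Presheaf.germ_eq X.presheaf x hx hx a 0 h0
  have e' : (X.presheaf.map iU.op).hom a = 0 := by
    have : (X.presheaf.map iU.op).hom a = (X.presheaf.map iV.op).hom 0 := e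
    rw [this, map_zero]
  rw [← gM_res X iU x hxW a, e', gM_zero]

/-- the annihilator of a germ in the module stalk is the annihilator of the germ in the ring stalk -/
theorem mem_ker_gM_iff (X : Scheme.{u}) (U : X.Opens) (x : X) (hx : x ∈ U) (a : Γ(X,U))
    (r : X.presheaf.stalk x) :
    r ∈ LinearMap.ker (LinearMap.toSpanSingleton (X.presheaf.stalk x)
      ((Coh.structureModule X).presheaf.stalk x) (gM X U x hx a)) ↔
    r * (X.presheaf.germ U x hx).hom a = 0 := by
  obtain ⟨V, hxV, b, rfl⟩ := TopCat.Presheaf.exists_germ_eq X.presheaf r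
  let W : X.Opens := U ⊓ V
  have hxW : x ∈ W := ⟨hx, hxV⟩
  let iU : W ⟶ U := homOfLE inf_le_left
  let iV : W ⟶ V := homOfLE inf_le_right
  have e1 : gM X U x hx a = gM X W x hxW ((X.presheaf.map iU.op).hom a) := (gM_res X iU x hxW a).symm
  have e2 : (X.presheaf.germ U x hx).hom a = (X.presheaf.germ W x hxW).hom ((X.presheaf.map iU.op).hom a) :=
    (TopCat.Presheaf.germ_res_apply X.presheaf iU x hxW a).symm
  have e3 : (X.presheaf.germ V x hxV).hom b = (X.presheaf.germ W x hxW).hom ((X.presheaf.map iV.op).hom b) :=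
    (TopCat.Presheaf.germ_res_apply X.presheaf iV x hxW b).symm
  rw [LinearMap.mem_ker, LinearMap.toSpanSingleton_apply]
  change (X.presheaf.germ V x hxV).hom b • _ = 0 ↔ (X.presheaf.germ V x hxV).hom b * _ = 0
  rw [e1, e2, e3, ← gM_smul, ← map_mul]
  exact ⟨germ_eq_zero_of_gM_eq_zero X W x hxW _, gM_eq_zero_of_germ_eq_zero X W x hxW _⟩

theorem exists_gM (X : Scheme.{u}) (x : X) (m : (Coh.structureModule X).presheaf.stalk x) :
    ∃ (U : X.Opens) (hx : x ∈ U) (a : Γ(X,U)), gM X U x hx a = m := by
  obtain ⟨U, hx, s, hs⟩ := TopCat.Presheaf.exists_germ_eq (Coh.structureModule X).presheaf m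
  exact ⟨U, hx, s, hs⟩

/-- reduced local ring with an element whose annihilator has radical the maximal ideal: the maximal
ideal is a minimal prime -/
theorem maximalIdeal_minimal {R : Type*} [CommRing R] [IsLocalRing R] [IsReduced R] (α : R)
    (h : (ann α).radical = IsLocalRing.maximalIdeal R) (p : Ideal R) [hp : p.IsPrime] :
    p = IsLocalRing.maximalIdeal R := by
  -- α ≠ 0
  have hα : α ≠ 0 := by
    rintro rfl
    have : (1 : R) ∈ (ann (0 : R)).radical := Ideal.le_radical ((mem_ann _ _).2 (by simp))
    rw [h] at this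
    exact (IsLocalRing.maximalIdeal.isMaximal R).ne_top ((Ideal.eq_top_iff_one _).2 this)
  -- hence some minimal prime q does not contain α
  have : ∃ q : Ideal R, q.IsPrime ∧ α ∉ q := by
    by_contra hcon
    push Not at hcon
    apply hα
    have : α ∈ nilradical R := by
      rw [nilradical_eq_sInf, Ideal.mem_sInf]
      intro q hq
      exact hcon q hq
    rw [nilradical_eq_zero R] at this
    exact this
  obtain ⟨q, hq, hαq⟩ := this
  have key : ∀ q : Ideal R, q.IsPrime → α ∉ q → q = IsLocalRing.maximalIdeal R := by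
    intro q hq hαq
    apply le_antisymm (IsLocalRing.le_maximalIdeal hq.ne_top)
    intro r hr
    rw [← h] at hr
    obtain ⟨n, hn⟩ := hr
    rw [mem_ann] at hn
    have : r ^ n * α ∈ q := hn ▸ q.zero_mem
    rcases hq.mem_or_mem this with h1 | h1
    · exact hq.mem_of_pow_mem n h1
    · exact absurd h1 hαq
  have hm := key q hq hαq
  -- now α ∉ maximal ideal, so α ∉ p
  apply key p hp
  intro hαp
  apply hαq
  rw [hm]
  exact IsLocalRing.le_maximalIdeal hp.ne_top hαp

theorem main (X : Scheme.{u}) [IsReduced X] (x : ↥X) :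
    Curv2.IsWeakAssPoint (Coh.structureModule X) x ↔ ∀ y : ↥X, y ⤳ x → y = x := by
  constructor
  · rintro ⟨m, hm⟩ y hy
    obtain ⟨U, hxU, a, rfl⟩ := exists_gM X x m
    have hK : LinearMap.ker (LinearMap.toSpanSingleton (X.presheaf.stalk x)
      ((Coh.structureModule X).presheaf.stalk x) (gM X U x hxU a)) = ann ((X.presheaf.germ U x hxU).hom a) := by
      ext r
      rw [mem_ker_gM_iff, mem_ann]
    rw [hK] at hm
    have hy' : y ∈ Set.range (X.fromSpecStalk x) := by
      rw [Scheme.range_fromSpecStalk]; exact hy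
    obtain ⟨p, rfl⟩ := hy'
    have := maximalIdeal_minimal _ hm p.asIdeal
    have hp : p = IsLocalRing.closedPoint (X.presheaf.stalk x) := PrimeSpectrum.ext this
    rw [hp, Scheme.fromSpecStalk_closedPoint]
  · intro h
    obtain ⟨U, hU, hxU⟩ : ∃ U : X.Opens, IsAffineOpen U ∧ x ∈ U := by
      obtain ⟨_, ⟨U, hU, rfl⟩, hxU, -⟩ := X.isBasis_affineOpens.exists_subset_of_mem_open (Set.mem_univ x) isOpen_univ
      exact ⟨U, hU, hxU⟩
    refine ⟨gM X U x hxU 1, ?_⟩
    have hK : LinearMap.ker (LinearMap.toSpanSingleton (X.presheaf.stalk x)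
      ((Coh.structureModule X).presheaf.stalk x) (gM X U x hxU 1)) = ⊥ := by
      ext r
      rw [mem_ker_gM_iff, map_one, mul_one]
      rfl
    rw [hK]
    -- every prime of the stalk is the maximal ideal
    have key : ∀ p : PrimeSpectrum (X.presheaf.stalk x), p = IsLocalRing.closedPoint (X.presheaf.stalk x) := by
      intro p
      have h1 : X.fromSpecStalk x p ⤳ x := by
        have : X.fromSpecStalk x p ∈ Set.range (X.fromSpecStalk x) := ⟨p, rfl⟩
        rw [Scheme.range_fromSpecStalk] at this
        exact this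
      have h2 := h _ h1
      have h3 : X.fromSpecStalk x p = X.fromSpecStalk x (IsLocalRing.closedPoint (X.presheaf.stalk x)) := by
        rw [h2, Scheme.fromSpecStalk_closedPoint]
      exact (X.fromSpecStalk x).isEmbedding.injective h3
    change nilradical _ = _
    rw [nilradical_eq_sInf]
    apply le_antisymm
    · apply sInf_le
      exact (IsLocalRing.maximalIdeal.isMaximal _).isPrime
    · apply le_sInf
      intro q hq
      have := key ⟨q, hq⟩
      have : q = IsLocalRing.maximalIdeal _ := congrArg PrimeSpectrum.asIdeal this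
      rw [this]


end helpers


/-- Assume X is a reduced scheme and x is a point of X. Then x is weakly associated to the structure
sheaf O_X exactly when every generization of x equals x itself; equivalently, x is a generic point
of some irreducible component of X. -/
theorem result (X : Scheme.{u}) [IsReduced X] (x : ↥X) :
    Curv2.IsWeakAssPoint (Coh.structureModule X) x ↔ ∀ y : ↥X, y ⤳ x → y = x := by
  exact main X x

end Groth.Agent.S8869
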