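import Groth.Statements.S8870
import Mathlib
import Groth.Agent.Lib.Helper16.QCohPush2
import Groth.Agent.S2542

set_option autoImplicit false
universe u
open CategoryTheory CategoryTheory.Limits AlgebraicGeometry TopologicalSpace
open SDiv

namespace Groth.Agent.S8870

section helpers
open CategoryTheory CategoryTheory.Limits AlgebraicGeometry TopologicalSpace

open Opposite
open Groth.Agent.Lib.helper16.QCohAss
open Groth.Agent.S2542

theorem main (X : Scheme.{u}) (S : ShortComplex X.Modules) (hS : S.ShortExact)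
    (h₁ : Coh.IsQCoh S.X₁) (h₂ : Coh.IsQCoh S.X₂) (h₃ : Coh.IsQCoh S.X₃) :
    (∀ x : ↥X, Curv2.IsWeakAssPoint S.X₂ x → Curv2.IsWeakAssPoint S.X₁ x ∨ Curv2.IsWeakAssPoint S.X₃ x) ∧
      (∀ x : ↥X, Curv2.IsWeakAssPoint S.X₁ x → Curv2.IsWeakAssPoint S.X₂ x) := by
  haveI : S.X₁.IsQuasicoherent := h₁
  haveI : S.X₂.IsQuasicoherent := h₂
  haveI : S.X₃.IsQuasicoherent := h₃
  haveI := hS.mono_f
  constructor
  · intro x hx
    obtain ⟨_, ⟨V, hV, rfl⟩, hxV, -⟩ :=
      X.isBasis_affineOpens.exists_subset_of_mem_open (Set.mem_univ x) isOpen_univ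
    obtain ⟨m, hm⟩ := (isWeakAssPoint_iff S.X₂ hV x hxV).1 hx
    set p := (hV.primeIdealOf ⟨x, hxV⟩).asIdeal with hp
    haveI : p.IsPrime := inferInstance
    by_cases hcase : ann Γ(X, V) ((S.g.app V).hom m) ≤ p
    · right
      rw [isWeakAssPoint_iff S.X₃ hV x hxV]
      refine ⟨(S.g.app V).hom m, ⟨⟨inferInstance, hcase⟩, ?_⟩⟩
      rintro q ⟨hq, hle⟩ hqp
      apply hm.2 ⟨hq, ?_⟩ hqp
      intro a ha
      apply hle
      rw [mem_ann] at ha ⊢
      rw [← S.g.app_smul, ha, map_zero]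
    · left
      rw [SetLike.not_le_iff_exists] at hcase
      obtain ⟨a, ha, hap⟩ := hcase
      rw [mem_ann, ← S.g.app_smul] at ha
      obtain ⟨m', hm'⟩ := exact_app S hS V (a • m) ha
      rw [isWeakAssPoint_iff S.X₁ hV x hxV]
      have hann : ann Γ(X, V) m' = ann Γ(X, V) (a • m) := by
        ext b
        rw [mem_ann, mem_ann, ← hm', ← S.f.app_smul]
        constructor
        · intro h; rw [h, map_zero]
        · intro h
          apply injective_app_of_mono S.f V
          rw [h, map_zero]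
      refine ⟨m', ?_⟩
      rw [hann]
      refine ⟨⟨inferInstance, ?_⟩, ?_⟩
      · intro b hb
        rw [mem_ann, ← mul_smul] at hb
        have : b * a ∈ p := hm.1.2 (mem_ann.2 hb)
        rcases Ideal.IsPrime.mem_or_mem inferInstance this with h | h
        · exact h
        · exact absurd h hap
      · rintro q ⟨hq, hle⟩ hqp
        apply hm.2 ⟨hq, ?_⟩ hqp
        intro b hb
        apply hle
        rw [mem_ann] at hb ⊢
        rw [smul_comm, hb, smul_zero]
  · intro x hx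
    obtain ⟨_, ⟨V, hV, rfl⟩, hxV, -⟩ :=
      X.isBasis_affineOpens.exists_subset_of_mem_open (Set.mem_univ x) isOpen_univ
    obtain ⟨m, hm⟩ := (isWeakAssPoint_iff S.X₁ hV x hxV).1 hx
    rw [isWeakAssPoint_iff S.X₂ hV x hxV]
    refine ⟨(S.f.app V).hom m, ?_⟩
    have hann : ann Γ(X, V) ((S.f.app V).hom m) = ann Γ(X, V) m := by
      ext b
      rw [mem_ann, mem_ann, ← S.f.app_smul]
      constructor
      · intro h
        apply injective_app_of_mono S.f V
        rw [h, map_zero]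
      · intro h; rw [h, map_zero]
    rw [hann]
    exact hm


end helpers


/-- Let X be a scheme and 0 → F₁ → F₂ → F₃ → 0 a short exact sequence of quasi-coherent O_X-modules.
Then WeakAss(F₂) ⊆ WeakAss(F₁) ∪ WeakAss(F₃) and WeakAss(F₁) ⊆ WeakAss(F₂). -/
theorem result (X : Scheme.{u}) (S : ShortComplex X.Modules) (hS : S.ShortExact)
    (h₁ : Coh.IsQCoh S.X₁) (h₂ : Coh.IsQCoh S.X₂) (h₃ : Coh.IsQCoh S.X₃) :
    (∀ x : ↥X, Curv2.IsWeakAssPoint S.X₂ x → Curv2.IsWeakAssPoint S.X₁ x ∨ Curv2.IsWeakAssPoint S.X₃ x) ∧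
      (∀ x : ↥X, Curv2.IsWeakAssPoint S.X₁ x → Curv2.IsWeakAssPoint S.X₂ x) := by
  exact main X S hS h₁ h₂ h₃

end Groth.Agent.S8870
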