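import Groth.Statements.S8871
import Mathlib
import Groth.Agent.Lib.Helper16.QCohAss
import Groth.Agent.Lib.Helper16.CohStalk
import Groth.Agent.Lib.Helper3.JacDim10
import Groth.Agent.Lib.Helper26.DepthCR

set_option autoImplicit false
universe u
open CategoryTheory CategoryTheory.Limits AlgebraicGeometry TopologicalSpace
open SDiv

namespace Groth.Agent.S8871

open Opposite Groth.Agent.Lib.helper16.QCohAss

variable {X : Scheme.{u}} [IsLocallyNoetherian X] (F : X.Modules)

/-- depth zero iff associated point -/
theorem depth_eq_zero_iff (hF : Coh.IsCoh F) (x : X) :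
    LocCoh.depth (X.presheaf.stalk x) (F.presheaf.stalk x) = 0 ↔ Curv2.IsAssPoint F x := by
  haveI := Groth.Agent.Lib.helper16.CohStalk.finite_stalk_of_isCoh F hF x
  constructor
  · intro h0
    obtain ⟨m, hm, hkill⟩ :=
      Groth.Agent.Lib.helper26.Depth.exists_ne_zero_annihilated_of_idealDepth_eq_zero
        (IsLocalRing.maximalIdeal (X.presheaf.stalk x)) (F.presheaf.stalk x) h0
    refine isAssociatedPrime_iff.mpr ⟨inferInstance, m, ?_⟩
    apply le_antisymm
    · intro r hr
      rw [Submodule.mem_colon_singleton, Submodule.mem_bot]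
      exact hkill r hr
    · apply IsLocalRing.le_maximalIdeal
      rw [Ne, Ideal.eq_top_iff_one, Submodule.mem_colon_singleton, one_smul]
      exact hm
  · intro hx
    obtain ⟨-, e, he⟩ := isAssociatedPrime_iff.mp hx
    have he0 : e ≠ 0 := by
      rintro rfl
      have : (1 : X.presheaf.stalk x) ∈ IsLocalRing.maximalIdeal (X.presheaf.stalk x) := by
        rw [he, Submodule.mem_colon_singleton, smul_zero]
        exact Submodule.zero_mem _
      exact (Ideal.ne_top_iff_one _).1 (IsLocalRing.maximalIdeal.isMaximal _).ne_top this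
    refine Groth.Agent.Lib.helper26.Depth.idealDepth_eq_zero_of_annihilated _ _ ?_ e he0 ?_
    · intro htop
      have h1 := Submodule.eq_bot_of_le_smul_of_le_jacobson_bot
        (IsLocalRing.maximalIdeal (X.presheaf.stalk x))
        (⊤ : Submodule (X.presheaf.stalk x) (F.presheaf.stalk x)) Module.Finite.fg_top
        (by rw [htop]) (IsLocalRing.maximalIdeal_le_jacobson _)
      have h2 : e ∈ (⊤ : Submodule (X.presheaf.stalk x) (F.presheaf.stalk x)) := Submodule.mem_top
      rw [h1, Submodule.mem_bot] at h2
      exact he0 h2
    · intro s hs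
      have : s ∈ (⊥ : Submodule (X.presheaf.stalk x) (F.presheaf.stalk x)).colon {e} := he ▸ hs
      rw [Submodule.mem_colon_singleton, Submodule.mem_bot] at this
      exact this

theorem mem_support_of_isAssPoint (x : X) (hx : Curv2.IsAssPoint F x) : x ∈ CohB1.support F := by
  obtain ⟨-, e, he⟩ := isAssociatedPrime_iff.mp hx
  intro hsub
  have : (1 : X.presheaf.stalk x) ∈ IsLocalRing.maximalIdeal (X.presheaf.stalk x) := by
    rw [he, Submodule.mem_colon_singleton, Submodule.mem_bot]
    exact Subsingleton.elim _ _
  exact (Ideal.ne_top_iff_one _).1 (IsLocalRing.maximalIdeal.isMaximal _).ne_top this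

/-- Let X be a locally Noetherian scheme and F a coherent O_X-module. Then F has no embedded associated
points (every associated point of F is maximal among the associated points of F under
specialization) if and only if F has property (S_1): for every point x, depth F_x ≥ min(1, dim Supp
F_x), where dim Supp F_x is the Krull dimension of the support of the O_{X,x}-module F_x (for F_x =
0 the depth is infinite and the support empty, so the condition holds). -/
theorem result (X : Scheme.{u}) [IsLocallyNoetherian X] (F : X.Modules) (hF : Coh.IsCoh F) :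
    (∀ x : ↥X, Curv2.IsAssPoint F x → ∀ y : ↥X, Curv2.IsAssPoint F y → y ⤳ x → y = x) ↔
      ∀ x : ↥X, min (1 : WithBot ℕ∞) (Module.supportDim ↑(X.presheaf.stalk x) ↑(F.presheaf.stalk x)) ≤
        ((LocCoh.depth (X.presheaf.stalk x) (F.presheaf.stalk x) : ℕ∞) : WithBot ℕ∞) := by
  haveI : F.IsQuasicoherent := hF.1
  constructor
  · intro hne x
    by_cases h0 : LocCoh.depth (X.presheaf.stalk x) (F.presheaf.stalk x) = 0
    · have hx : Curv2.IsAssPoint F x := (depth_eq_zero_iff F hF x).mp h0
      have hd : Module.supportDim (X.presheaf.stalk x) (F.presheaf.stalk x) ≤ 0 := by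
        rw [Groth.Agent.Lib.helper3.JacDim.supportDim_stalk_eq F hF x]
        have key : ∀ t : ↥{t : X | t ∈ CohB1.support F ∧ t ⤳ x}, t.1 = x := by
          rintro ⟨t, htS, htx⟩
          by_contra hne'
          obtain ⟨n, hn⟩ : ∃ n : F.presheaf.stalk t, n ≠ 0 := by
            by_contra hall
            push Not at hall
            exact htS ⟨fun a b => (hall a).trans (hall b).symm⟩
          obtain ⟨U, hU, htU, m, hm⟩ := exists_affine_section_of_germ_ne_zero F t n
          obtain ⟨y, hyU, hyt, hyW, -⟩ :=
            exists_weakAssPoint_specializes F hU t htU m (by rw [hm]; exact hn)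
          have hyA : Curv2.IsAssPoint F y := (isAssPoint_iff_isWeakAssPoint F y).mpr hyW
          have hyx := hne x hx y hyA (hyt.trans htx)
          subst hyx
          exact hne' (htx.antisymm hyt).eq
        haveI : Subsingleton ↥{t : X | t ∈ CohB1.support F ∧ t ⤳ x} :=
          ⟨fun a b => Subtype.ext ((key a).trans (key b).symm)⟩
        exact topologicalKrullDim_zero_of_discreteTopology _
      calc min (1 : WithBot ℕ∞) (Module.supportDim (X.presheaf.stalk x) (F.presheaf.stalk x))
          ≤ Module.supportDim (X.presheaf.stalk x) (F.presheaf.stalk x) := min_le_right _ _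
        _ ≤ 0 := hd
        _ ≤ _ := by rw [h0]; exact le_refl _
    · have h1 : (1 : ℕ∞) ≤ LocCoh.depth (X.presheaf.stalk x) (F.presheaf.stalk x) :=
        Order.one_le_iff_pos.mpr (pos_iff_ne_zero.mpr h0)
      calc min (1 : WithBot ℕ∞) (Module.supportDim (X.presheaf.stalk x) (F.presheaf.stalk x))
          ≤ 1 := min_le_left _ _
        _ = ((1 : ℕ∞) : WithBot ℕ∞) := rfl
        _ ≤ _ := WithBot.coe_le_coe.mpr h1
  · intro hS1 x hx y hy hyx
    by_contra hne'
    have h0 := (depth_eq_zero_iff F hF x).mpr hx
    have hd : 1 ≤ Module.supportDim (X.presheaf.stalk x) (F.presheaf.stalk x) := by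
      rw [Groth.Agent.Lib.helper3.JacDim.supportDim_stalk_eq F hF x]
      unfold topologicalKrullDim
      rw [Order.one_le_krullDim_iff]
      let x' : ↥{t : X | t ∈ CohB1.support F ∧ t ⤳ x} :=
        ⟨x, mem_support_of_isAssPoint F x hx, specializes_rfl⟩
      let y' : ↥{t : X | t ∈ CohB1.support F ∧ t ⤳ x} :=
        ⟨y, mem_support_of_isAssPoint F y hy, hyx⟩
      refine ⟨⟨closure {x'}, isIrreducible_singleton.closure, isClosed_closure⟩,
        ⟨closure {y'}, isIrreducible_singleton.closure, isClosed_closure⟩, ?_⟩
      have hyx' : y' ⤳ x' := (subtype_specializes_iff y' x').mpr hyx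
      refine lt_of_le_of_ne ?_ ?_
      · show closure {x'} ⊆ closure {y'}
        exact closure_minimal (Set.singleton_subset_iff.mpr (specializes_iff_mem_closure.mp hyx'))
          isClosed_closure
      · intro heq
        have h1 : (closure {x'} : Set _) = closure {y'} :=
          congrArg IrreducibleCloseds.carrier heq
        have h2 : y' ∈ closure {x'} := by rw [h1]; exact subset_closure rfl
        have h3 : x' ⤳ y' := specializes_iff_mem_closure.mpr h2
        have h4 : x ⤳ y := (subtype_specializes_iff x' y').mp h3
        exact hne' (hyx.antisymm h4).eq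
    have h2 := hS1 x
    rw [h0, min_eq_left hd] at h2
    exact absurd h2 (by decide)

end Groth.Agent.S8871
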