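import Groth.Statements.S8886
import Mathlib.AlgebraicGeometry.Morphisms.SchemeTheoreticallyDominant

set_option autoImplicit false
universe u
open CategoryTheory CategoryTheory.Limits AlgebraicGeometry TopologicalSpace
open SDiv

namespace Groth.Agent.S8886

/-- Let f : X ⟶ Y be a flat morphism of schemes with Y integral. If the scheme-theoretic fibre of f over
the generic point of Y is integral, then X is integral. -/
theorem result {X Y : Scheme.{u}} (f : X ⟶ Y) [Flat f] [IsIntegral Y]
    (h : IsIntegral (f.fiber (genericPoint ↥Y))) : IsIntegral X := by
  set η := genericPoint ↥Y with hη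
  set g := Y.fromSpecResidueField η with hg
  -- `g` is quasi-compact: its source is a single point
  have hqc : QuasiCompact g := by
    constructor
    intro U _ _
    exact (Set.toFinite _).isCompact
  -- `g` is dominant: its range is the generic point
  have hdom : IsDominant g := by
    constructor
    rw [DenseRange, Scheme.range_fromSpecResidueField]
    exact dense_iff_closure_eq.mpr (genericPoint_spec Y).def
  have hsd : IsSchemeTheoreticallyDominant g := .of_isDominant g
  have hsd' : IsSchemeTheoreticallyDominant (pullback.fst f g) := inferInstance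
  have hqc' : QuasiCompact (pullback.fst f g) := inferInstance
  set ι : f.fiber η ⟶ X := f.fiberι η with hι
  have hinj : ∀ U : X.Opens, Function.Injective (ι.app U) := fun U =>
    Scheme.Hom.app_injective (pullback.fst f g) U
  have hne : Nonempty X := (h.nonempty).map ι
  refine ⟨hne, fun U hU => ?_⟩
  by_cases hU' : Nonempty (ι ⁻¹ᵁ U)
  · have : IsDomain Γ(f.fiber η, ι ⁻¹ᵁ U) := h.component_integral _
    exact (hinj U).isDomain _
  · exfalso
    have hbot : ι ⁻¹ᵁ U = ⊥ := by
      ext x
      simp only [Opens.coe_bot, Set.mem_empty_iff_false, iff_false]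
      intro hx
      exact hU' ⟨⟨x, hx⟩⟩
    have hsub : Subsingleton Γ(f.fiber η, ι ⁻¹ᵁ U) := by
      rw [hbot]
      infer_instance
    have hsub' : Subsingleton Γ(X, U) := (hinj U).subsingleton
    obtain ⟨x, hx⟩ := hU
    have : Nontrivial Γ(X, U) := (X.presheaf.germ U x hx).hom.domain_nontrivial
    exact not_subsingleton _ hsub'
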