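import Groth.Statements.S8887
import Groth.Agent.Lib.Helper16.FLF7

set_option autoImplicit false
universe u
open CategoryTheory CategoryTheory.Limits AlgebraicGeometry TopologicalSpace
open SDiv

namespace Groth.Agent.S8887

/-- Let X be an integral scheme and F a quasi-coherent O_X-module of finite type, of rank r (r being the
finite dimension of the generic stalk of F as a vector space over the function field of X). Then one
can find an open subset U of X, not empty, on which the restriction of F is isomorphic to the free
module of rank r. -/
theorem result (X : Scheme.{u}) [IsIntegral X] (F : X.Modules) (hF : Coh.IsQCoh F)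
    (hft : CohB1.IsFT F) :
    ∃ U : X.Opens, (U : Set ↥X).Nonempty ∧
      Nonempty (F.restrict U.ι ≅ FlatMod.freeMod (↑U)
        (Module.finrank ↑(X.presheaf.stalk (genericPoint ↥X)) ↑(F.presheaf.stalk (genericPoint ↥X)))) := by
  open Groth.Agent.Lib.helper16.FLF in
  haveI : F.IsQuasicoherent := hF
  obtain ⟨U, t, hU, hηU, -, ht⟩ := exists_affine_generators F hft (genericPoint ↥X) ⊤ trivial
  have hfield : IsField (X.presheaf.stalk (genericPoint ↥X)) :=
    isField_stalk_of_closure_mem_irreducibleComponents X _
      (by simp [irreducibleComponents_eq_singleton])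
  have hmax : IsLocalRing.maximalIdeal (X.presheaf.stalk (genericPoint ↥X)) = ⊥ :=
    IsLocalRing.isField_iff_maximalIdeal_eq.1 hfield
  have hsurj : Function.Surjective (Fintype.linearCombination Γ(X, U) t) := by
    rw [← LinearMap.range_eq_top, Fintype.range_linearCombination, ht]
  have hinj : Function.Injective (Fintype.linearCombination Γ(X, U) t) := by
    rw [← LinearMap.ker_eq_bot, LinearMap.ker_eq_bot']
    intro k hk
    funext i
    apply germ_injective_of_isIntegral X (genericPoint ↥X) hηU
    rw [Pi.zero_apply, map_zero]
    haveI := finite_stalk_of_isFiniteType F hft (genericPoint ↥X)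
    have h1 := germ_linearCombination F t k (genericPoint ↥X) hηU
    rw [hk, map_zero] at h1
    have := residue_eq_zero_of_linearCombination_eq_zero (X.presheaf.stalk (genericPoint ↥X))
      (F.presheaf.stalk (genericPoint ↥X)) (fun i => (F.presheaf.germ U _ hηU).hom (t i))
      (span_germ_eq_top F hU t ht _ hηU) rfl
      (fun i => (X.presheaf.germ U _ hηU).hom (k i)) h1.symm i
    rwa [hmax, Ideal.mem_bot] at this
  obtain ⟨iso⟩ := restrict_iso_freeMod_of_sections F hU _
    (LinearEquiv.ofBijective _ ⟨hinj, hsurj⟩).symm
  have hrk := (free_stalk_of_restrict_iso_freeMod F _ iso _ hηU).2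
  refine ⟨U, ⟨_, hηU⟩, ?_⟩
  rw [hrk]
  exact ⟨iso⟩

end Groth.Agent.S8887
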