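import Groth.Statements.S8888
import Groth.Agent.Lib.Helper17.StalkPullback

set_option autoImplicit false
universe u
open CategoryTheory CategoryTheory.Limits AlgebraicGeometry TopologicalSpace
open SDiv

namespace Groth.Agent.S8888


open CategoryTheory CategoryTheory.Limits AlgebraicGeometry TopologicalSpace TensorProduct in
theorem rank_congr_point {Y : Scheme.{u}} (G : Y.Modules) (y y' : Y) (h : y = y') :
    Module.rank ↑(Y.presheaf.stalk y) ↑(G.presheaf.stalk y) =
      Module.rank ↑(Y.presheaf.stalk y') ↑(G.presheaf.stalk y') := by
  subst h; rfl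

open CategoryTheory CategoryTheory.Limits AlgebraicGeometry TopologicalSpace TensorProduct in
theorem map_genericPoint {X Y : Scheme.{u}} [IsIntegral X] [IsIntegral Y] (f : X ⟶ Y)
    [IsDominant f] : f.base (genericPoint ↥X) = genericPoint ↥Y := by
  have h1 : IsGenericPoint (f.base (genericPoint ↥X)) (closure (f.base '' Set.univ)) :=
    (genericPoint_spec X).image f.continuous
  rw [Set.image_univ, f.denseRange.closure_range] at h1
  exact h1.eq (genericPoint_spec Y)

open CategoryTheory CategoryTheory.Limits AlgebraicGeometry TopologicalSpace TensorProduct in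
theorem rank_baseChange_field {K L : Type u} [CommRing K] [CommRing L] (hK : IsField K)
    (hL : IsField L) [Algebra K L] {V W : Type u} [AddCommGroup V] [Module K V] [AddCommGroup W]
    [Module K W] [Module L W] [IsScalarTower K L W] (ψ : V →ₗ[K] W) (hψ : IsBaseChange L ψ) :
    Module.rank L W = Module.rank K V := by
  letI := hK.toField
  letI := hL.toField
  rw [← hψ.equiv.rank_eq, Module.rank_baseChange, Cardinal.lift_id]

/-- Let f : X ⟶ Y be a dominant morphism of integral schemes and G a quasi-coherent O_Y-module. Then the
rank of f^*G on X, the dimension of its stalk at the generic point of X over the function field of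
X, equals the rank of G on Y. -/
theorem result {X Y : Scheme.{u}} [IsIntegral X] [IsIntegral Y] (f : X ⟶ Y) [IsDominant f]
    (G : Y.Modules) (hG : Coh.IsQCoh G) :
    Module.rank ↑(X.presheaf.stalk (genericPoint ↥X)) ↑(((Scheme.Modules.pullback f).obj G).presheaf.stalk (genericPoint ↥X)) =
      Module.rank ↑(Y.presheaf.stalk (genericPoint ↥Y)) ↑(G.presheaf.stalk (genericPoint ↥Y)) := by
  haveI : G.IsQuasicoherent := hG
  have hgen := map_genericPoint f
  rw [← rank_congr_point G _ _ hgen]
  obtain ⟨ψ, hψ⟩ :=
    Groth.Agent.Lib.helper17.StalkPullback.exists_isBaseChange_stalk_pullback f G (genericPoint ↥X)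
  letI := (f.stalkMap (genericPoint ↥X)).hom.toAlgebra
  letI := FlatMod.moduleStalkOver f ((Scheme.Modules.pullback f).obj G) (genericPoint ↥X)
  haveI := Groth.Agent.Lib.helper17.StalkPullback.isScalarTower_moduleStalkOver f
    ((Scheme.Modules.pullback f).obj G) (genericPoint ↥X)
  have hL : IsField (X.presheaf.stalk (genericPoint ↥X)) :=
    Field.toIsField X.functionField
  have hK : IsField (Y.presheaf.stalk (f.base (genericPoint ↥X))) := by
    rw [hgen]; exact Field.toIsField Y.functionField
  exact rank_baseChange_field hK hL ψ hψ

end Groth.Agent.S8888
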