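import Groth.Statements.S8889
import Mathlib
import Groth.Agent.Lib.Helper16.QCohAss

set_option autoImplicit false
universe u
open CategoryTheory CategoryTheory.Limits AlgebraicGeometry TopologicalSpace
open SDiv

namespace Groth.Agent.S8889

section helpers
open CategoryTheory CategoryTheory.Limits AlgebraicGeometry TopologicalSpace

open Opposite
open Groth.Agent.Lib.helper16.QCohAss

theorem mono_of_injective_app {X : Scheme.{u}} {F G : X.Modules} (φ : F ⟶ G)
    (h : ∀ V : X.Opens, Function.Injective (φ.app V).hom) : Mono φ := by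
  apply (Scheme.Modules.toPresheaf X).mono_of_mono_map
  rw [NatTrans.mono_iff_mono_app]
  intro V
  rw [AddCommGrpCat.mono_iff_injective]
  exact h V.unop

theorem main (X : Scheme.{u}) {F G : X.Modules} (φ : F ⟶ G) (hF : Coh.IsQCoh F)
    (h : ∀ x : ↥X, Function.Injective ((TopCat.Presheaf.stalkFunctor AddCommGrpCat.{u} x).map (Scheme.Modules.Hom.mapPresheaf φ)) ∨ ¬ Curv2.IsWeakAssPoint F x) :
    Mono φ := by
  haveI : F.IsQuasicoherent := hF
  apply mono_of_injective_app
  intro V
  rw [injective_iff_map_eq_zero]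
  intro s hs
  apply section_eq_zero_of_germ_eq_zero F V s
  intro x hxV
  by_contra hne
  obtain ⟨_, ⟨W, hW, rfl⟩, hxW, hWV⟩ :=
    X.isBasis_affineOpens.exists_subset_of_mem_open (show x ∈ (V : Set X) from hxV) V.2
  have hWV' : W ≤ V := hWV
  set m := (F.presheaf.map (homOfLE hWV').op).hom s with hm
  have e1 : ∀ (y : X) (hy : y ∈ W), (F.presheaf.germ W y hy).hom m =
      (F.presheaf.germ V y (hWV' hy)).hom s := fun y hy =>
    TopCat.Presheaf.germ_res_apply F.presheaf (homOfLE hWV') y hy s
  have hm0 : (F.presheaf.germ W x hxW).hom m ≠ 0 := by rw [e1]; exact hne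
  obtain ⟨y, hyW, -, hy, hym⟩ := exists_weakAssPoint_specializes F hW x hxW m hm0
  rcases h y with hinj | hnot
  · apply hym
    rw [e1]
    apply hinj
    have h0 : ((TopCat.Presheaf.stalkFunctor AddCommGrpCat.{u} y).map
        (Scheme.Modules.Hom.mapPresheaf φ)).hom 0 = 0 := map_zero _
    refine Eq.trans ?_ h0.symm
    have := TopCat.Presheaf.stalkFunctor_map_germ_apply V y (hWV' hyW)
      (Scheme.Modules.Hom.mapPresheaf φ) s
    refine this.trans ?_
    have hs' : (φ.app V).hom s = 0 := hs
    change (G.presheaf.germ V y _).hom ((φ.app V).hom s) = 0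
    rw [hs', map_zero]
  · exact hnot hy


end helpers


/-- Let X be a scheme and φ : F ⟶ G a morphism of quasi-coherent O_X-modules. Assume that for every
point x of X either the stalk map F_x → G_x is injective or x is not a weakly associated point of F.
Then φ is injective. -/
theorem result (X : Scheme.{u}) {F G : X.Modules} (φ : F ⟶ G) (hF : Coh.IsQCoh F)
    (hG : Coh.IsQCoh G)
    (h : ∀ x : ↥X, Function.Injective ((TopCat.Presheaf.stalkFunctor AddCommGrpCat.{u} x).map (Scheme.Modules.Hom.mapPresheaf φ)) ∨ ¬ Curv2.IsWeakAssPoint F x) :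
    Mono φ := by
  exact main X φ hF h

end Groth.Agent.S8889
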