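import Groth.Statements.S8893
import Groth.Agent.LibFlatOfRegQuot29
import Groth.Agent.LibRegImmStalk29
import Groth.Agent.LibRelRegImmBC29
import Groth.Agent.LibQuasiRegNoeth29
-- import your own Groth.Agent.* helpers here

set_option autoImplicit false
universe u
open CategoryTheory CategoryTheory.Limits AlgebraicGeometry TopologicalSpace
open SDiv

namespace Groth.Agent.S8893

/-- Let f : X ⟶ S be a morphism of schemes and i : Z ⟶ X a relative quasi-regular immersion (a
quasi-regular immersion with Z flat over S). If z is a point of Z such that O_{X, i z} is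
Noetherian, then f is flat at i z. -/
theorem result {Z X S : Scheme.{u}} (f : X ⟶ S) (i : Z ⟶ X)
    (hi : RegImm.IsRelRegularImmersion RegImm.Kind.quasi f i) (z : ↥Z) [IsNoetherianRing ↑(X.presheaf.stalk (i z))] :
    (f.stalkMap (i z)).hom.Flat := by
  obtain ⟨⟨himm, hreg⟩, hflat⟩ := hi
  haveI := himm
  haveI := hflat
  obtain ⟨U, hzU, hcl, rs, hrs, hker⟩ := hreg z
  haveI := hcl
  obtain ⟨hV, hs⟩ := Groth.Agent.LibRegImmStalk29.affine_and_app_surjective_of_restrict i U.1 U.2
  have hcomap : (hV.primeIdealOf ⟨z, hzU⟩).asIdeal.comap (i.app U.1).hom =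
      (U.2.primeIdealOf ⟨i z, hzU⟩).asIdeal := by
    have := IsAffineOpen.comap_primeIdealOf_appLE (f := i) (x := z) U.1 U.2 (i ⁻¹ᵁ U.1) hV
      le_rfl hzU
    rw [Scheme.Hom.appLE_eq_app] at this
    exact congrArg PrimeSpectrum.asIdeal this
  have hle : RingHom.ker (i.app U.1).hom ≤ (U.2.primeIdealOf ⟨i z, hzU⟩).asIdeal := by
    intro a ha
    rw [← hcomap, Ideal.mem_comap, RingHom.mem_ker.mp ha]
    exact Ideal.zero_mem _
  letI := X.presheaf.algebra_section_stalk (⟨i z, hzU⟩ : U.1)
  haveI ip : IsLocalization.AtPrime (X.presheaf.stalk (i z))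
      (U.2.primeIdealOf ⟨i z, hzU⟩).asIdeal := U.2.isLocalization_stalk ⟨i z, hzU⟩
  have hgflat : (algebraMap Γ(X, U.1) (X.presheaf.stalk (i z))).Flat := by
    rw [RingHom.flat_algebraMap_iff]
    exact IsLocalization.flat _ (U.2.primeIdealOf ⟨i z, hzU⟩).asIdeal.primeCompl
  have hqL := Groth.Agent.LibRelRegImmBC29.seq_map_of_flat _ hgflat RegImm.Kind.quasi (Or.inr rfl)
    rs hrs
  set rsL : List (X.presheaf.stalk (i z)) :=
    rs.map (algebraMap Γ(X, U.1) (X.presheaf.stalk (i z))) with hrsL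
  have hm : ∀ y ∈ rsL, y ∈ IsLocalRing.maximalIdeal (X.presheaf.stalk (i z)) := by
    intro y hy
    obtain ⟨r, hr, rfl⟩ := List.mem_map.mp hy
    rw [IsLocalization.AtPrime.to_map_mem_maximal_iff _ (U.2.primeIdealOf ⟨i z, hzU⟩).asIdeal]
    apply hle
    rw [hker]
    exact Ideal.subset_span hr
  have hwr : RingTheory.Sequence.IsWeaklyRegular (X.presheaf.stalk (i z)) rsL := by
    have := Groth.Agent.LibQuasiRegNoeth29.isWeaklyRegular_of_isQuasiRegular rsL.length
      (X.presheaf.stalk (i z)) rsL.get hqL (fun j => hm _ (List.get_mem _ _))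
    rw [List.ofFn_get] at this
    exact this
  have hk : RingHom.ker (i.stalkMap z).hom = Ideal.ofList rsL := by
    rw [Groth.Agent.LibRegImmStalk29.ker_stalkMap_eq_map i U.1 U.2 hV hs z hzU, hker,
      Ideal.map_ofList]
    rfl
  have hcompflat : ((i.stalkMap z).hom.comp (f.stalkMap (i z)).hom).Flat := by
    have h1 := (Flat.iff_flat_stalkMap (i ≫ f)).mp inferInstance z
    rw [Scheme.Hom.stalkMap_comp] at h1
    exact h1
  have hfl := Groth.Agent.LibRelRegImmBC29.flat_mk_comp_of_surjective (f.stalkMap (i z)).hom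
    (i.stalkMap z).hom (i.stalkMap_surjective z) _ hk hcompflat
  letI := (f.stalkMap (i z)).hom.toAlgebra
  haveI hflatQ : Module.Flat (S.presheaf.stalk (f (i z)))
      (X.presheaf.stalk (i z) ⧸ Ideal.ofList rsL) := by
    have h2 : (Ideal.Quotient.mk (Ideal.ofList rsL)).comp (f.stalkMap (i z)).hom =
        algebraMap (S.presheaf.stalk (f (i z))) (X.presheaf.stalk (i z) ⧸ Ideal.ofList rsL) := rfl
    rw [h2, RingHom.flat_algebraMap_iff] at hfl
    exact hfl
  have := Groth.Agent.LibFlatOfRegQuot29.flat_of_isWeaklyRegular_of_flat_quot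
    (A := S.presheaf.stalk (f (i z))) rsL hm hwr hflatQ
  exact this

end Groth.Agent.S8893
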