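import Groth.Statements.S8895
import Groth.Agent.LibRelH1Reg29
import Groth.Agent.S8892
-- import your own Groth.Agent.* helpers here

set_option autoImplicit false
universe u
open CategoryTheory CategoryTheory.Limits AlgebraicGeometry TopologicalSpace
open SDiv

namespace Groth.Agent.S8895

/-- Let f : X ⟶ S be locally of finite presentation and i : Z ⟶ X a relative H_1-regular immersion. Then
(1) there is an open subscheme U ⊆ X containing the image of Z such that U ⟶ S is flat, and (2) i is
a regular immersion and remains one after any base change S' ⟶ S. -/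
theorem result {Z X S : Scheme.{u}} (f : X ⟶ S) [LocallyOfFinitePresentation f] (i : Z ⟶ X)
    (hi : RegImm.IsRelRegularImmersion RegImm.Kind.h1 f i) :
    (∃ U : X.Opens, Set.range (fun z : ↥Z => i z) ⊆ (U : Set ↥X) ∧ Flat (U.ι ≫ f)) ∧
      RegImm.IsRegularImmersion RegImm.Kind.regular i ∧
      ∀ (S' : Scheme.{u}) (g : S' ⟶ S), RegImm.IsRegularImmersion RegImm.Kind.regular (pullback.snd i (pullback.fst f g)) := by
  refine ⟨Groth.Agent.LibRelH1Reg29.exists_flat_nbhd_of_relH1 f i hi,
    Groth.Agent.LibRelH1Reg29.regular_of_relH1 f i hi, fun S' g => ?_⟩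
  exact Groth.Agent.LibRelH1Reg29.regular_of_relH1 (pullback.snd f g) _
    (Groth.Agent.S8892.result f i RegImm.Kind.h1 (Or.inl rfl) hi g)

end Groth.Agent.S8895
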