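import Groth.Statements.S8896
import Groth.Agent.LibFibQuasiImm29
-- import your own Groth.Agent.* helpers here

set_option autoImplicit false
universe u
open CategoryTheory CategoryTheory.Limits AlgebraicGeometry TopologicalSpace
open SDiv

namespace Groth.Agent.S8896

/-- Let φ : X ⟶ S be flat and locally of finite presentation and 𝓘 a quasi-coherent ideal sheaf on X
whose closed subscheme T is flat and locally of finite presentation over S. If for every point s of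
S the fibre T_s ⟶ X_s (base change of T ⟶ X to the scheme-theoretic fibre) is a quasi-regular
immersion, then T ⟶ X is a relative quasi-regular immersion. -/
theorem result {X S : Scheme.{u}} (φ : X ⟶ S) [Flat φ] [LocallyOfFinitePresentation φ]
    (𝓘 : X.IdealSheafData) [Flat (𝓘.subschemeι ≫ φ)] [LocallyOfFinitePresentation (𝓘.subschemeι ≫ φ)]
    (hfib : ∀ s : ↥S, RegImm.IsRegularImmersion RegImm.Kind.quasi (pullback.snd 𝓘.subschemeι (φ.fiberι s))) :
    RegImm.IsRelRegularImmersion RegImm.Kind.quasi φ 𝓘.subschemeι := by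
  refine ⟨⟨inferInstance, fun z => ?_⟩, inferInstance⟩
  obtain ⟨_, ⟨V0, hV0, rfl⟩, hxV0, -⟩ :=
    S.isBasis_affineOpens.exists_subset_of_mem_open (Set.mem_univ (φ (𝓘.subschemeι z))) isOpen_univ
  obtain ⟨_, ⟨U0, hU0, rfl⟩, hxU0, hU0V⟩ :=
    X.isBasis_affineOpens.exists_subset_of_mem_open
      (show 𝓘.subschemeι z ∈ ((φ ⁻¹ᵁ V0 : X.Opens) : Set X) from hxV0) (φ ⁻¹ᵁ V0).isOpen
  have hxz : φ.fiberι (φ (𝓘.subschemeι z)) (φ.asFiber (𝓘.subschemeι z)) = 𝓘.subschemeι z :=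
    φ.fiberι_asFiber _
  obtain ⟨w, -, hw2⟩ := Scheme.Pullback.exists_preimage_pullback z (φ.asFiber (𝓘.subschemeι z))
    hxz.symm
  have hz : φ.fiberι (φ (𝓘.subschemeι z)) (φ.asFiber (𝓘.subschemeι z)) ∈ U0 := by
    rw [hxz]; exact hxU0
  obtain ⟨D, e', hD, rs, hI, hRF⟩ := Groth.Agent.LibFibQuasiImm29.transRegular_of_fibre_quasi_aux φ 𝓘
    (φ (𝓘.subschemeι z)) (φ.asFiber (𝓘.subschemeι z)) w hw2 ((hfib (φ (𝓘.subschemeι z))).2 w)
    ⟨U0, hU0⟩ ⟨V0, hV0⟩ hU0V hz
  rw [hxz] at hD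
  refine ⟨D, hD, inferInstance, rs,
    Groth.Agent.LibFibQuasiImm29.quasi_of_isWeaklyRegular rs hRF.1, ?_⟩
  rw [𝓘.ker_subschemeι_app D]
  exact hI

end Groth.Agent.S8896
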