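import Groth.Statements.S8898
import Mathlib
import Groth.Agent.S1683
import Groth.Agent.S1571

set_option autoImplicit false
universe u
open CategoryTheory CategoryTheory.Limits AlgebraicGeometry TopologicalSpace
open SDiv

namespace Groth.Agent.S8898

section helpers
open CategoryTheory CategoryTheory.Limits AlgebraicGeometry


/-- a regular section over an open is a nonzerodivisor of the ring of sections -/
theorem nzd_of_regSub {X : Scheme.{u}} (U : X.Opens) (s : Γ(X, U)) (hs : s ∈ Mero.regSub X U) :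
    s ∈ nonZeroDivisors Γ(X, U) := by
  rw [mem_nonZeroDivisors_iff_right]
  intro a ha
  apply TopCat.Presheaf.section_ext X.sheaf U
  intro x hx
  have h1 : (X.presheaf.germ U x hx).hom a * (X.presheaf.germ U x hx).hom s = 0 := by
    rw [← map_mul, ha, map_zero]
  have h2 := (mem_nonZeroDivisors_iff_right.1 (hs ⟨x, hx⟩)) _ h1
  exact h2.trans (map_zero _).symm

/-- pulling back a nonzerodivisor on an affine open along a blowing up gives a nonzerodivisor on small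
affine opens -/
theorem nzd_pullback_of_isBlowUp {X' X'' : Scheme.{u}} (𝓙' : X'.IdealSheafData)
    (b' : X'' ⟶ X') (hb' : BlowUp.IsBlowUp b' 𝓙') (W' : X'.affineOpens) (e : Γ(X', W'.1))
    (he : e ∈ nonZeroDivisors Γ(X', W'.1)) (x : X'') (hxW' : b' x ∈ W'.1) :
    ∃ (W : X''.affineOpens) (_ : x ∈ W.1) (h2 : W.1 ≤ b' ⁻¹ᵁ W'.1),
      (b'.appLE W'.1 W.1 h2).hom e ∈ nonZeroDivisors Γ(X'', W.1) := by
  set V' : X'.Opens := 𝓙'.support.compl with hV'
  haveI : IsIso (b' ∣_ V') := Groth.Agent.S1682.isIso_off_center 𝓙' b' hb'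
  obtain ⟨W₀, hxW₀, g₀, hg₀, hIg₀⟩ := hb'.1 x
  obtain ⟨_, ⟨W, hW, rfl⟩, hxW, hWle⟩ :=
    X''.isBasis_affineOpens.exists_subset_of_mem_open
      (show x ∈ ((W₀.1 ⊓ b' ⁻¹ᵁ W'.1 : X''.Opens) : Set X'') from ⟨hxW₀, hxW'⟩) (W₀.1 ⊓ b' ⁻¹ᵁ W'.1).2
  have h1 : W ≤ W₀.1 := fun y hy => (hWle hy).1
  have h2 : W ≤ b' ⁻¹ᵁ W'.1 := fun y hy => (hWle hy).2
  set g := (X''.presheaf.map (homOfLE h1).op).hom g₀ with hg_def
  have hg : g ∈ nonZeroDivisors Γ(X'', W) := Groth.Agent.S1683.nzd_restrict W₀ ⟨W, hW⟩ h1 g₀ hg₀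
  have hIg : (𝓙'.comap b').ideal ⟨W, hW⟩ = Ideal.span {g} := by
    have e1 := (𝓙'.comap b').map_ideal (U := ⟨W, hW⟩) (V := W₀) h1
    rw [hIg₀, Ideal.map_span, Set.image_singleton] at e1
    exact e1.symm
  refine ⟨⟨W, hW⟩, hxW, h2, ?_⟩
  set D : X''.Opens := X''.basicOpen g with hD
  have hDaff : IsAffineOpen D := hW.basicOpen g
  have hDW : D ≤ W := X''.basicOpen_le g
  have hDV : D ≤ b' ⁻¹ᵁ V' := by
    intro y hy
    have := Groth.Agent.S8851.basicOpen_le_compl_support _ ⟨W, hW⟩ g hIg y hy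
    rw [Scheme.IdealSheafData.support_comap] at this
    exact this
  have hfac : D.ι ≫ b' = X''.homOfLE hDV ≫ (b' ∣_ V') ≫ V'.ι := by
    rw [morphismRestrict_ι, ← Category.assoc, Scheme.homOfLE_ι]
  haveI : IsOpenImmersion (D.ι ≫ b') := by rw [hfac]; infer_instance
  have hle : D ≤ b' ⁻¹ᵁ W'.1 := hDW.trans h2
  have hflat : (b'.appLE W'.1 D hle).hom.Flat := by
    haveI : IsAffine D.toScheme := hDaff
    have hle' : (⊤ : D.toScheme.Opens) ≤ (D.ι ≫ b') ⁻¹ᵁ W'.1 := by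
      intro y _
      show b' (D.ι y) ∈ W'.1
      exact hle y.2
    have := HasRingHomProperty.appLE (P := @Flat) (D.ι ≫ b') inferInstance W'
      ⟨⊤, isAffineOpen_top _⟩ hle'
    have e2 : (D.ι ≫ b').appLE W'.1 ⊤ hle' = b'.appLE W'.1 D hle ≫ D.topIso.inv := by
      have e0 : D.ι.appLE D ⊤ (by simp) = D.topIso.inv := by
        rw [Scheme.Opens.ι_appLE]
        rfl
      rw [← e0, Scheme.Hom.appLE_comp_appLE]
    rw [e2] at this
    simpa using (RingHom.Flat.respectsIso.cancel_right_isIso (b'.appLE W'.1 D hle) D.topIso.inv).1 this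
  haveI := hW.isLocalization_basicOpen g
  apply Groth.Agent.S1683.nzd_of_nzd_away (B := Γ(X'', D)) g hg
  have e3 : algebraMap Γ(X'', W) Γ(X'', D) ((b'.appLE W'.1 W h2).hom e) = (b'.appLE W'.1 D hle).hom e := by
    have := Scheme.Hom.appLE_map b' h2 (homOfLE hDW).op
    rw [← this]
    rfl
  rw [e3]
  algebraize [(b'.appLE W'.1 D hle).hom]
  have : Module.Flat Γ(X', W'.1) Γ(X'', D) := hflat
  exact Groth.Agent.S10855.nzd_map_of_flat he

theorem main {X X' : Scheme.{u}} (𝓘 : X.IdealSheafData) (b : X' ⟶ X) (hb : BlowUp.IsBlowUp b 𝓘) :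
    (∀ 𝓓 : X.IdealSheafData, BlowUp.IsEffCartierIdeal 𝓓 → BlowUp.IsEffCartierIdeal (𝓓.comap b)) ∧
      ∀ (U : X.Opens) (s : Γ(X, U)), s ∈ Mero.regSub X U → b.app U s ∈ Mero.regSub X' (b ⁻¹ᵁ U) := by
  refine ⟨fun 𝓓 h𝓓 => Groth.Agent.S1683.isEffCartierIdeal_comap_of_isBlowUp 𝓘 b hb 𝓓 h𝓓, ?_⟩
  intro U s hs x'
  obtain ⟨_, ⟨W', hW', rfl⟩, hxW', hW'U⟩ :=
    X.isBasis_affineOpens.exists_subset_of_mem_open (show b x'.1 ∈ (U : Set X) from x'.2) U.2
  have hW'U' : W' ≤ U := hW'U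
  set e := (X.presheaf.map (homOfLE hW'U').op).hom s with he_def
  have he : e ∈ nonZeroDivisors Γ(X, W') :=
    nzd_of_regSub W' e (Mero.regSub_res (homOfLE hW'U') hs)
  obtain ⟨W, hxW, h2, hnzd⟩ := nzd_pullback_of_isBlowUp 𝓘 b hb ⟨W', hW'⟩ e he x'.1 hxW'
  have hgerm := Groth.Agent.S1571.germ_nzd W.2 _ hnzd x'.1 hxW
  have hWU : W.1 ≤ b ⁻¹ᵁ U := h2.trans (fun y hy => hW'U hy)
  have e4 : (b.appLE W' W.1 h2).hom e = (X'.presheaf.map (homOfLE hWU).op).hom ((b.app U).hom s) := by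
    have h := Scheme.Hom.map_appLE b h2 (homOfLE hW'U').op
    have h' : (b.appLE W' W.1 h2).hom e = (b.appLE U W.1 hWU).hom s := by
      rw [← h]; rfl
    rw [h']
    rfl
  rw [e4] at hgerm
  change (X'.presheaf.germ (b ⁻¹ᵁ U) x'.1 x'.2).hom ((b.app U).hom s) ∈ _
  rw [← TopCat.Presheaf.germ_res_apply X'.presheaf (homOfLE hWU) x'.1 hxW]
  exact hgerm


end helpers


/-- Let X be a scheme, 𝓘 a quasi-coherent ideal sheaf and b : X' ⟶ X a blowing up of X in 𝓘. Then the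
pullback b⁻¹D is defined for every effective Cartier divisor D ⊆ X (the inverse image ideal of the
ideal of D is again the ideal of an effective Cartier divisor), and pullbacks of meromorphic
functions are defined for b (b carries regular sections of O_X, i.e. sections whose germs are
nonzerodivisors, to regular sections of O_{X'}). -/
theorem result {X X' : Scheme.{u}} (𝓘 : X.IdealSheafData) (b : X' ⟶ X) (hb : BlowUp.IsBlowUp b 𝓘) :
    (∀ 𝓓 : X.IdealSheafData, BlowUp.IsEffCartierIdeal 𝓓 → BlowUp.IsEffCartierIdeal (𝓓.comap b)) ∧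
      ∀ (U : X.Opens) (s : Γ(X, U)), s ∈ Mero.regSub X U → b.app U s ∈ Mero.regSub X' (b ⁻¹ᵁ U) := by
  exact main 𝓘 b hb

end Groth.Agent.S8898
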