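import Groth.Statements.S8899
import Mathlib
import Groth.Agent.Lib.Helper17.StalkPullback

set_option autoImplicit false
universe u
open CategoryTheory CategoryTheory.Limits AlgebraicGeometry TopologicalSpace
open SDiv

namespace Groth.Agent.S8899

open Opposite TensorProduct Groth.Agent.Lib.helper17.StalkPullback

/-- weakly associated primes along a flat local homomorphism whose closed fibre is a point -/
theorem weakAss_of_flat_local {A B M N : Type u} [CommRing A] [CommRing B] [IsLocalRing A]
    [IsLocalRing B] [Algebra A B] [IsLocalHom (algebraMap A B)] [Module.Flat A B]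
    [AddCommGroup M] [Module A M] [AddCommGroup N] [Module A N] [Module B N] [IsScalarTower A B N]
    (ψ : M →ₗ[A] N) (hψ : IsBaseChange B ψ) (e : M)
    (he : Ideal.radical (LinearMap.ker (LinearMap.toSpanSingleton A M e)) =
      IsLocalRing.maximalIdeal A)
    (H : ∀ q : Ideal B, q.IsPrime →
      (IsLocalRing.maximalIdeal A).map (algebraMap A B) ≤ q → q = IsLocalRing.maximalIdeal B) :
    Ideal.radical (LinearMap.ker (LinearMap.toSpanSingleton B N (ψ e))) =
      IsLocalRing.maximalIdeal B := by
  haveI : Module.FaithfullyFlat A B := Module.FaithfullyFlat.of_flat_of_isLocalHom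
  have he0 : e ≠ 0 := by
    rintro rfl
    have h1 : LinearMap.ker (LinearMap.toSpanSingleton A M 0) = ⊤ := by
      ext a
      simp
    rw [h1, Ideal.radical_top] at he
    exact (IsLocalRing.maximalIdeal.isMaximal A).ne_top he.symm
  have hψe : ψ e ≠ 0 := by
    intro h0
    apply he0
    have hinj := Module.FaithfullyFlat.tensorProduct_mk_injective (A := A) (B := B) M
    apply hinj
    rw [map_zero]
    apply hψ.equiv.injective
    rw [map_zero]
    show hψ.equiv ((1 : B) ⊗ₜ[A] e) = 0
    rw [IsBaseChange.equiv_tmul, one_smul]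
    exact h0
  have hI : LinearMap.ker (LinearMap.toSpanSingleton B N (ψ e)) ≠ ⊤ := by
    intro htop
    apply hψe
    have : (1 : B) ∈ LinearMap.ker (LinearMap.toSpanSingleton B N (ψ e)) := by
      rw [htop]; exact Submodule.mem_top
    rw [LinearMap.mem_ker, LinearMap.toSpanSingleton_apply, one_smul] at this
    exact this
  have hmap : (IsLocalRing.maximalIdeal A).map (algebraMap A B) ≤
      Ideal.radical (LinearMap.ker (LinearMap.toSpanSingleton B N (ψ e))) := by
    rw [Ideal.map_le_iff_le_comap]
    intro a ha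
    rw [← he] at ha
    obtain ⟨n, hn⟩ := ha
    rw [LinearMap.mem_ker, LinearMap.toSpanSingleton_apply] at hn
    refine ⟨n, ?_⟩
    rw [LinearMap.mem_ker, LinearMap.toSpanSingleton_apply, ← map_pow, algebraMap_smul,
      ← map_smul, hn, map_zero]
  apply le_antisymm
  · apply IsLocalRing.le_maximalIdeal
    intro htop
    exact hI ((Ideal.radical_eq_top).mp htop)
  · intro b hb
    rw [Ideal.radical_eq_sInf, Ideal.mem_sInf]
    rintro q ⟨hq, hqp⟩
    have hq' : q = IsLocalRing.maximalIdeal B :=
      H q hqp (hmap.trans (hqp.radical_le_iff.mpr hq))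
    rw [hq']
    exact hb

/-- Let f : X ⟶ S be a morphism of schemes, G a quasi-coherent O_S-module and x a point of X over s = f
x such that f is flat at x, no point of f⁻¹(s) other than x specialises to x (x is the generic point
of some irreducible component of the fibre X_s), and s is weakly associated to G. Then x is weakly
associated to f^*G. -/
theorem result {X S : Scheme.{u}} (f : X ⟶ S) (G : S.Modules) (hG : Coh.IsQCoh G)
    (x : ↥X) (hfl : (f.stalkMap x).hom.Flat) (hgen : ∀ y : ↥X, f y = f x → y ⤳ x → y = x)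
    (hs : Curv2.IsWeakAssPoint G (f x)) : Curv2.IsWeakAssPoint ((Scheme.Modules.pullback f).obj G) x := by
  haveI : G.IsQuasicoherent := hG
  letI := (f.stalkMap x).hom.toAlgebra
  letI := FlatMod.moduleStalkOver f ((Scheme.Modules.pullback f).obj G) x
  haveI := isScalarTower_moduleStalkOver f ((Scheme.Modules.pullback f).obj G) x
  obtain ⟨ψ, hψ⟩ := exists_isBaseChange_stalk_pullback f G x
  obtain ⟨e, he⟩ := hs
  refine ⟨ψ e, ?_⟩
  haveI : Module.Flat (S.presheaf.stalk (f x)) (X.presheaf.stalk x) := hfl
  haveI : IsLocalHom (algebraMap (S.presheaf.stalk (f x)) (X.presheaf.stalk x)) :=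
    inferInstanceAs (IsLocalHom (f.stalkMap x).hom)
  refine weakAss_of_flat_local ψ hψ e he ?_
  intro q hq hle
  have hyx : X.fromSpecStalk x ⟨q, hq⟩ ⤳ x := by
    have : X.fromSpecStalk x ⟨q, hq⟩ ∈ Set.range (X.fromSpecStalk x) := ⟨⟨q, hq⟩, rfl⟩
    rw [Scheme.range_fromSpecStalk] at this
    exact this
  have hfy : f (X.fromSpecStalk x ⟨q, hq⟩) = f x := by
    have h1 := Scheme.SpecMap_stalkMap_fromSpecStalk (f := f) (x := x)
    have h2 : f (X.fromSpecStalk x ⟨q, hq⟩) =
        S.fromSpecStalk (f x) (Spec.map (f.stalkMap x) ⟨q, hq⟩) := by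
      rw [← Scheme.Hom.comp_apply, ← Scheme.Hom.comp_apply, h1]
    rw [h2]
    have h3 : Spec.map (f.stalkMap x) ⟨q, hq⟩ = IsLocalRing.closedPoint (S.presheaf.stalk (f x)) := by
      apply PrimeSpectrum.ext
      show Ideal.comap (f.stalkMap x).hom q = IsLocalRing.maximalIdeal _
      refine ((IsLocalRing.maximalIdeal.isMaximal _).eq_of_le ?_ ?_).symm
      · exact (Ideal.comap_isPrime (f.stalkMap x).hom q).ne_top
      · exact Ideal.map_le_iff_le_comap.mp hle
    rw [h3]
    exact Scheme.fromSpecStalk_closedPoint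
  have hyeq := hgen _ hfy hyx
  have hinj : Function.Injective (X.fromSpecStalk x) :=
    (X.fromSpecStalk x).isEmbedding.injective
  have hQ : (⟨q, hq⟩ : PrimeSpectrum (X.presheaf.stalk x)) =
      IsLocalRing.closedPoint (X.presheaf.stalk x) :=
    hinj (hyeq.trans Scheme.fromSpecStalk_closedPoint.symm)
  exact congrArg PrimeSpectrum.asIdeal hQ

end Groth.Agent.S8899
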