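import Groth.Statements.S8900
import Mathlib
import Groth.Agent.Lib.Helper16.QCohAss
import Groth.Agent.Lib.Helper16.QCohPullback
import Groth.Agent.Lib.Helper17.FlatOver6
import Groth.Agent.Lib.Helper17.WeakAssField2

set_option autoImplicit false
universe u
open CategoryTheory CategoryTheory.Limits AlgebraicGeometry TopologicalSpace
open SDiv

namespace Groth.Agent.S8900

open Groth.Agent.Lib.Helper24.WeakAssBC Groth.Agent.Lib.helper17.WeakAssField
  Groth.Agent.Lib.helper16.QCohAss Groth.Agent.Lib.helper16.QCohPullback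
  Groth.Agent.Lib.helper17.FlatOver6

theorem W_comap_of_isField {k K : Type*} [CommRing k] [CommRing K] [Algebra k K]
    (hk : IsField k) (hK : IsField K)
    {R : Type*} [CommRing R] [Algebra k R] (RK : Type*) [CommRing RK]
    [Algebra k RK] [Algebra K RK] [Algebra R RK] [IsScalarTower k K RK] [IsScalarTower k R RK]
    [Algebra.IsPushout k K R RK] (M : Type*) [AddCommGroup M] [Module R M] (q : Ideal RK)
    [hq : q.IsPrime] (h : W RK q (TensorProduct R RK M)) : W R (q.comap (algebraMap R RK)) M := by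
  letI := hk.toField
  letI := hK.toField
  exact W_comap_of_field (k := k) (K := K) RK M q h

theorem W_iff_exists_minimal {B : Type u} [CommRing B] (q : Ideal B) [q.IsPrime] (N : Type u)
    [AddCommGroup N] [Module B N] :
    W B q N ↔ ∃ m : N, q ∈ (ann B m).minimalPrimes := by
  rw [← mem_weakAss_iff]
  have e : ∀ m : N, (Submodule.span B {m}).annihilator = ann B m := by
    intro m
    ext a
    rw [Submodule.mem_annihilator_span_singleton, mem_ann]
  constructor
  · rintro ⟨m, hm⟩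
    exact ⟨m, by rw [← e]; exact hm⟩
  · rintro ⟨m, hm⟩
    exact ⟨m, by rw [e]; exact hm⟩

theorem isField_Γ_Spec_top (k : Type u) [Field k] :
    IsField Γ(Spec (CommRingCat.of k), ⊤) :=
  MulEquiv.isField (Field.toIsField k)
    (Scheme.ΓSpecIso (CommRingCat.of k)).commRingCatIsoToRingEquiv.toMulEquiv

theorem opens_eq_top_of_mem (k : Type u) [Field k] (U : (Spec (CommRingCat.of k)).Opens)
    (s : Spec (CommRingCat.of k)) (hs : s ∈ U) : U = ⊤ := by
  apply Opens.ext
  apply Set.eq_univ_of_forall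
  intro t
  have : t = s := Subsingleton.elim (α := PrimeSpectrum k) t s
  rw [this]
  exact hs

theorem result' (k : Type u) [Field k] (K : Type u) [Field K] [Algebra k K] (X : Scheme.{u})
    [X.Over (Spec (CommRingCat.of k))] (F : X.Modules) (hF : Coh.IsQCoh F) (y : ↥(Curv2.bc k X K))
    (hy : Curv2.IsWeakAssPoint ((Scheme.Modules.pullback (Curv2.bcFst k X K)).obj F) y) :
    Curv2.IsWeakAssPoint F (Curv2.bcFst k X K y) := by
  haveI : F.IsQuasicoherent := hF
  have hc : IsPullback (Curv2.bcFst k X K) (Curv2.bcSnd k X K) (X ↘ Spec (CommRingCat.of k))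
      (Spec.map (CommRingCat.ofHom (algebraMap k K))) := IsPullback.of_hasPullback _ _
  obtain ⟨US, UT, UX, UY, hUST, hUSX, hUYX, hUYT, hUS, hUT, hUX, hUY, hy', hpo⟩ :=
    exists_affine_charts hc y
  have hx : Curv2.bcFst k X K y ∈ UX := hUYX hy'
  obtain rfl : US = ⊤ := opens_eq_top_of_mem k US _ (hUSX hx)
  obtain rfl : UT = ⊤ := opens_eq_top_of_mem K UT _ (hUYT hy')
  haveI : ((Scheme.Modules.pullback (Curv2.bcFst k X K)).obj F).IsQuasicoherent :=
    isQuasicoherent_pullback _ F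
  -- section rings
  letI algAB : Algebra Γ(Spec (CommRingCat.of k), ⊤) Γ(X, UX) :=
    ((X ↘ Spec (CommRingCat.of k)).appLE ⊤ UX hUSX).hom.toAlgebra
  letI algAA' : Algebra Γ(Spec (CommRingCat.of k), ⊤) Γ(Spec (CommRingCat.of K), ⊤) :=
    ((Spec.map (CommRingCat.ofHom (algebraMap k K))).appLE ⊤ ⊤ hUST).hom.toAlgebra
  letI algBB' : Algebra Γ(X, UX) Γ(Curv2.bc k X K, UY) :=
    ((Curv2.bcFst k X K).appLE UX UY hUYX).hom.toAlgebra
  letI algA'B' : Algebra Γ(Spec (CommRingCat.of K), ⊤) Γ(Curv2.bc k X K, UY) :=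
    ((Curv2.bcSnd k X K).appLE ⊤ UY hUYT).hom.toAlgebra
  letI algAB' : Algebra Γ(Spec (CommRingCat.of k), ⊤) Γ(Curv2.bc k X K, UY) :=
    (((Curv2.bcFst k X K).appLE UX UY hUYX).hom.comp
      ((X ↘ Spec (CommRingCat.of k)).appLE ⊤ UX hUSX).hom).toAlgebra
  haveI : IsScalarTower Γ(Spec (CommRingCat.of k), ⊤) Γ(X, UX) Γ(Curv2.bc k X K, UY) :=
    IsScalarTower.of_algebraMap_eq (fun _ => rfl)
  have hsq : ∀ a : Γ(Spec (CommRingCat.of k), ⊤),
      ((Curv2.bcFst k X K).appLE UX UY hUYX).hom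
        (((X ↘ Spec (CommRingCat.of k)).appLE ⊤ UX hUSX).hom a) =
      ((Curv2.bcSnd k X K).appLE ⊤ UY hUYT).hom
        (((Spec.map (CommRingCat.ofHom (algebraMap k K))).appLE ⊤ ⊤ hUST).hom a) := fun a =>
    congrArg (fun φ => φ.hom a) hpo.w
  haveI : IsScalarTower Γ(Spec (CommRingCat.of k), ⊤) Γ(Spec (CommRingCat.of K), ⊤)
      Γ(Curv2.bc k X K, UY) :=
    IsScalarTower.of_algebraMap_eq (fun a => hsq a)
  haveI hpush : Algebra.IsPushout Γ(Spec (CommRingCat.of k), ⊤) Γ(X, UX)
      Γ(Spec (CommRingCat.of K), ⊤) Γ(Curv2.bc k X K, UY) :=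
    CommRingCat.isPushout_iff_isPushout.mp hpo
  haveI hpush' : Algebra.IsPushout Γ(Spec (CommRingCat.of k), ⊤) Γ(Spec (CommRingCat.of K), ⊤)
      Γ(X, UX) Γ(Curv2.bc k X K, UY) := hpush.symm
  -- the primes
  have hpq : (hUX.primeIdealOf ⟨Curv2.bcFst k X K y, hx⟩).asIdeal =
      (hUY.primeIdealOf ⟨y, hy'⟩).asIdeal.comap (algebraMap Γ(X, UX) Γ(Curv2.bc k X K, UY)) :=
    congr($(IsAffineOpen.comap_primeIdealOf_appLE UX hUX UY hUY hUYX hy').1).symm
  rw [isWeakAssPoint_iff _ hUY y hy', ← W_iff_exists_minimal] at hy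
  rw [isWeakAssPoint_iff F hUX _ hx, ← W_iff_exists_minimal, hpq]
  let e := pullbackSectionsEquiv (Curv2.bcFst k X K) F hUX hUY hUYX
  have h1 := W_of_linearEquiv e _ hy
  exact W_comap_of_isField (isField_Γ_Spec_top k) (isField_Γ_Spec_top K) _ _ _ h1

/-- Let K/k be an extension of fields, X a scheme over k, F a quasi-coherent O_X-module, and y a point
of X_K = X ×_k Spec K with image x in X. If y is weakly associated to the pullback of F to X_K, then
x is weakly associated to F. -/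
theorem result (k : Type u) [Field k] (K : Type u) [Field K] [Algebra k K] (X : Scheme.{u})
    [X.Over (Spec (CommRingCat.of k))] (F : X.Modules) (hF : Coh.IsQCoh F) (y : ↥(Curv2.bc k X K))
    (hy : Curv2.IsWeakAssPoint ((Scheme.Modules.pullback (Curv2.bcFst k X K)).obj F) y) :
    Curv2.IsWeakAssPoint F (Curv2.bcFst k X K y) := by
  exact result' k K X F hF y hy

end Groth.Agent.S8900
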