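import Groth.Statements.S8901
import Mathlib
import Groth.Agent.Lib.Helper16.WeakAss
import Groth.Agent.S1684
import Groth.Agent.S1681
import Groth.Agent.S1571
import Groth.Agent.S17386

set_option autoImplicit false
universe u
open CategoryTheory CategoryTheory.Limits AlgebraicGeometry TopologicalSpace
open SDiv

namespace Groth.Agent.S8901

section helpers
open CategoryTheory CategoryTheory.Limits AlgebraicGeometry TopologicalSpace

open Groth.Agent.Lib.helper16.WeakAss

theorem nzd_of_regSub {X : Scheme.{u}} (U : X.Opens) (s : Γ(X, U)) (hs : s ∈ Mero.regSub X U) :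
    s ∈ nonZeroDivisors Γ(X, U) := by
  rw [mem_nonZeroDivisors_iff_right]
  intro a ha
  apply TopCat.Presheaf.section_ext X.sheaf U
  intro x hx
  have h1 : (X.presheaf.germ U x hx).hom a * (X.presheaf.germ U x hx).hom s = 0 := by
    rw [← map_mul, ha, map_zero]
  have h2 := (mem_nonZeroDivisors_iff_right.1 (hs ⟨x, hx⟩)) _ h1
  exact h2.trans (map_zero _).symm

theorem main {X Y : Scheme.{u}} (f : X ⟶ Y)
    (h : ∀ x : ↥X, Curv2.IsWeakAssPoint (Coh.structureModule X) x → ∀ y : ↥Y, y ⤳ f x → y = f x)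
    (U : Y.Opens) (s : Γ(Y, U)) (hs : s ∈ Mero.regSub Y U) : f.app U s ∈ Mero.regSub X (f ⁻¹ᵁ U) := by
  intro x'
  obtain ⟨_, ⟨W', hW', rfl⟩, hxW', hW'U⟩ :=
    Y.isBasis_affineOpens.exists_subset_of_mem_open (show f x'.1 ∈ (U : Set Y) from x'.2) U.2
  have hW'U' : W' ≤ U := hW'U
  set e := (Y.presheaf.map (homOfLE hW'U').op).hom s with he_def
  have he : e ∈ nonZeroDivisors Γ(Y, W') :=
    nzd_of_regSub W' e (Mero.regSub_res (homOfLE hW'U') hs)
  obtain ⟨_, ⟨W, hW, rfl⟩, hxW, hWle⟩ :=
    X.isBasis_affineOpens.exists_subset_of_mem_open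
      (show x'.1 ∈ ((f ⁻¹ᵁ W' : X.Opens) : Set X) from hxW') (f ⁻¹ᵁ W').2
  have h2 : W ≤ f ⁻¹ᵁ W' := hWle
  set r := (f.appLE W' W h2).hom e with hr
  have hnzd : r ∈ nonZeroDivisors Γ(X, W) := by
    rw [mem_nonZeroDivisors_iff_right]
    intro a ha
    by_contra hane
    have hr_ann : r ∈ ann a := by rw [mem_ann, mul_comm]; exact ha
    have hne : ann a ≠ ⊤ := by
      intro htop
      have : (1 : Γ(X, W)) ∈ ann a := htop ▸ Submodule.mem_top
      rw [mem_ann, one_mul] at this
      exact hane this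
    obtain ⟨M, hM, hle⟩ := Ideal.exists_le_maximal _ hne
    obtain ⟨p, hp, hpM⟩ := Ideal.exists_minimalPrimes_le (I := ann a) (J := M) hle
    have hp' : p.IsPrime := hp.1.1
    set Q : PrimeSpectrum Γ(X, W) := ⟨p, hp'⟩ with hQ
    set ξ := hW.fromSpec Q with hξ
    have hξW : ξ ∈ W := Groth.Agent.S1684.fromSpec_mem hW Q
    have hprime : hW.primeIdealOf ⟨ξ, hξW⟩ = Q := Groth.Agent.S1684.primeIdealOf_fromSpec hW Q hξW
    have hweak : Curv2.IsWeakAssPoint (Coh.structureModule X) ξ := by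
      apply isWeakAssPoint_of_minimal hW a ξ hξW
      rw [hprime]
      exact hp
    have hmax : Groth.Agent.S1681.IsMaxPt (f ξ) := h ξ hweak
    have hfξW' : f ξ ∈ W' := h2 hξW
    have hb : f ξ ∈ Y.basicOpen e :=
      Groth.Agent.S1681.mem_basicOpen_of_isMaxPt hW' e he (f ξ) hfξW' hmax
    have hb' : ξ ∈ X.basicOpen r := by
      have := Scheme.basicOpen_appLE f W W' h2 e
      rw [hr, this]
      exact ⟨hξW, hb⟩
    have := (Groth.Agent.S17386.mem_basicOpen_iff_notMem_primeIdealOf hW ξ hξW _).1 hb'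
    rw [hprime] at this
    exact this (hp.1.2 hr_ann)
  have hgerm := Groth.Agent.S1571.germ_nzd hW _ hnzd x'.1 hxW
  have hWU : W ≤ f ⁻¹ᵁ U := h2.trans (fun y hy => hW'U hy)
  have e4 : r = (X.presheaf.map (homOfLE hWU).op).hom ((f.app U).hom s) := by
    have h' := Scheme.Hom.map_appLE f h2 (homOfLE hW'U').op
    have h'' : (f.appLE W' W h2).hom e = (f.appLE U W hWU).hom s := by
      rw [← h']; rfl
    rw [hr, h'']
    rfl
  rw [e4] at hgerm
  change (X.presheaf.germ (f ⁻¹ᵁ U) x'.1 x'.2).hom ((f.app U).hom s) ∈ _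
  rw [← TopCat.Presheaf.germ_res_apply X.presheaf (homOfLE hWU) x'.1 hxW]
  exact hgerm


end helpers


/-- Let f : X ⟶ Y be a morphism of schemes under which each weakly associated point of X (of O_X) goes
to a point of Y with no proper generization (the generic point of some irreducible component of Y).
Then pullbacks of meromorphic functions are defined for f: for every open U ⊆ Y and every regular
section s of O_Y over U, the pulled-back section of O_X over f⁻¹U is regular. -/
theorem result {X Y : Scheme.{u}} (f : X ⟶ Y)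
    (h : ∀ x : ↥X, Curv2.IsWeakAssPoint (Coh.structureModule X) x → ∀ y : ↥Y, y ⤳ f x → y = f x)
    (U : Y.Opens) (s : Γ(Y, U)) (hs : s ∈ Mero.regSub Y U) : f.app U s ∈ Mero.regSub X (f ⁻¹ᵁ U) := by
  exact main f h U s hs

end Groth.Agent.S8901
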