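import Groth.Statements.S8903
import Mathlib
import Groth.Agent.Lib.Helper18.MeroTwist
import Groth.Agent.Lib.Helper26.KSections
import Groth.Agent.Lib.Helper7.QCohAffine

set_option autoImplicit false
universe u
open CategoryTheory CategoryTheory.Limits AlgebraicGeometry TopologicalSpace
open SDiv

namespace Groth.Agent.S8903

open Groth.Agent.Lib.Helper18.InvGen Groth.Agent.Lib.Helper18.MeroTwist
  Groth.Agent.Lib.helper26 Groth.Agent.Lib.helper7 Groth.Agent.Lib.helper16.FLF Opposite Mero

variable {X : Scheme.{u}}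

/-- stalks of an invertible module have no `S_y`-torsion -/
theorem eq_zero_of_mk_eq_zero {L : X.Modules} (hL : PicF.IsInvertible L) (y : X)
    (m : L.presheaf.stalk y) (b : regStalk X y)
    (h : (LocalizedModule.mk m b : MStalk L y) = 0) : m = 0 := by
  obtain ⟨W, ℓ, -, hyW, -, hℓ⟩ := exists_isGen hL y ⊤ trivial
  obtain ⟨a, ha⟩ := (hℓ y hyW).2 m
  have ha' : a • L.presheaf.germ W y hyW ℓ = m := ha
  have h1 : (LocalizedModule.mk a b : KStalk X y) • bas L ℓ y hyW = 0 := by
    rw [mk_smul_bas, ha']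
    exact h
  have h2 := bas_injective hℓ y hyW _ h1
  rw [← LocalizedModule.zero_mk (1 : regStalk X y), kstalk_mk_eq_mk_iff] at h2
  have h3 : a = 0 := by simpa using h2
  rw [← ha', h3, zero_smul]

/-- a meromorphic section of an invertible module over an affine open which vanishes on `D(f)` is
killed by a power of `f` -/
theorem exists_pow_smul_eq_zero {L : X.Modules} (hL : PicF.IsInvertible L) [L.IsQuasicoherent]
    {U : X.Opens} (hU : IsAffineOpen U) (f : Γ(X, U)) (t : Γ(merMod L, U))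
    (ht : ∀ (y : X) (hy : y ∈ U), y ∈ X.basicOpen f → t.1 ⟨y, hy⟩ = 0) :
    ∃ N : ℕ, ∀ (y : X) (hy : y ∈ U), (X.presheaf.germ U y hy f) ^ N • t.1 ⟨y, hy⟩ = 0 := by
  have hloc : ∀ x : U, ∃ (W : X.Opens) (_ : x.1 ∈ W) (hWU : W ≤ U) (n : ℕ),
      ∀ (y : X) (hy : y ∈ W), (X.presheaf.germ U y (hWU hy) f) ^ n • t.1 ⟨y, hWU hy⟩ = 0 := by
    intro x
    obtain ⟨V, hxV, i, m, b, w⟩ := t.2 x
    obtain ⟨W, hW, hxW, hWV⟩ := exists_isAffineOpen_mem_and_subset (x := x.1) (U := V) hxV
    have hWV' : W ≤ V := hWV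
    have hWU : W ≤ U := hWV'.trans i.le
    let mW : Γ(L, W) := L.presheaf.map (homOfLE hWV').op m
    let fW : Γ(X, W) := X.presheaf.map (homOfLE hWU).op f
    have hw : ∀ (y : X) (hy : y ∈ W), t.1 ⟨y, hWU hy⟩ =
        LocalizedModule.mk (L.presheaf.germ V y (hWV' hy) m) (regGerm ⟨y, hWV' hy⟩ b) :=
      fun y hy => w ⟨y, hWV' hy⟩
    have hgm : ∀ (y : X) (hy : y ∈ W), L.presheaf.germ W y hy mW = L.presheaf.germ V y (hWV' hy) m :=
      fun y hy => TopCat.Presheaf.germ_res_apply L.presheaf (homOfLE hWV') y hy m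
    have hgf : ∀ (y : X) (hy : y ∈ W), X.presheaf.germ W y hy fW = X.presheaf.germ U y (hWU hy) f :=
      fun y hy => TopCat.Presheaf.germ_res_apply X.presheaf (homOfLE hWU) y hy f
    have h0 : L.presheaf.map (homOfLE (X.basicOpen_le fW)).op mW = 0 := by
      refine TopCat.Presheaf.section_ext ⟨L.presheaf, L.isSheaf⟩ (X.basicOpen fW) _ _ (fun y hy => ?_)
      have hyW : y ∈ W := X.basicOpen_le fW hy
      have hyf : y ∈ X.basicOpen f := by
        have : X.basicOpen fW = W ⊓ X.basicOpen f := Scheme.basicOpen_res _ _ _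
        rw [this] at hy
        exact hy.2
      have e : L.presheaf.germ (X.basicOpen fW) y hy
          (L.presheaf.map (homOfLE (X.basicOpen_le fW)).op mW) = L.presheaf.germ W y hyW mW :=
        TopCat.Presheaf.germ_res_apply L.presheaf (homOfLE (X.basicOpen_le fW)) y hy mW
      refine (e.trans ?_).trans (map_zero _).symm
      rw [hgm y hyW]
      exact eq_zero_of_mk_eq_zero hL y _ _ ((hw y hyW).symm.trans (ht y (hWU hyW) hyf))
    obtain ⟨n, hn⟩ := exists_pow_smul_eq_zero_of_isAffineOpen hW L fW mW h0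
    refine ⟨W, hxW, hWU, n, fun y hy => ?_⟩
    rw [hw y hy, LocalizedModule.smul'_mk]
    have h1 := congrArg (L.presheaf.germ W y hy) hn
    rw [Mero.germ_smul, map_pow, hgf y hy, hgm y hy, map_zero] at h1
    rw [h1, LocalizedModule.zero_mk]
  choose W hxW hWU n hn using hloc
  obtain ⟨T, hT⟩ := hU.isCompact.elim_finite_subcover (fun x : U => ((W x : X.Opens) : Set X))
    (fun x => (W x).2) (fun y hy => Set.mem_iUnion.2 ⟨⟨y, hy⟩, hxW ⟨y, hy⟩⟩)
  refine ⟨T.sup n, fun y hy => ?_⟩
  obtain ⟨x, hxT, hyx⟩ := Set.mem_iUnion₂.1 (hT hy)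
  have hyW : y ∈ W x := hyx
  have hle : n x ≤ T.sup n := Finset.le_sup hxT
  rw [← Nat.sub_add_cancel hle, pow_add, mul_smul, hn x y hyW, smul_zero]

/-- membership in the ideal of denominators, unfolded -/
theorem mem_denomIdeal_iff (L : X.Modules) (s : Γ(merMod L, ⊤)) (U : X.Opens) (g : Γ(X, U)) :
    g ∈ denomIdeal L s U ↔ ∃ m : Γ(L, U), ∀ (y : X) (hy : y ∈ U),
      X.presheaf.germ U y hy g • s.1 ⟨y, Opens.mem_top y⟩ =
        (LocalizedModule.mk (L.presheaf.germ U y hy m) 1 : MStalk L y) :=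
  ⟨fun ⟨m, hm⟩ => ⟨m, fun y hy => hm ⟨y, hy⟩⟩, fun ⟨m, hm⟩ => ⟨m, fun y => hm y.1 y.2⟩⟩

/-- restriction maps the ideal of denominators into the ideal of denominators -/
theorem res_mem_denomIdeal (L : X.Modules) (s : Γ(merMod L, ⊤)) {U V : X.Opens} (h : V ≤ U)
    (g : Γ(X, U)) (hg : g ∈ denomIdeal L s U) :
    X.presheaf.map (homOfLE h).op g ∈ denomIdeal L s V := by
  rw [mem_denomIdeal_iff] at hg ⊢
  obtain ⟨m, hm⟩ := hg
  refine ⟨L.presheaf.map (homOfLE h).op m, fun y hy => ?_⟩
  have e1 : X.presheaf.germ V y hy (X.presheaf.map (homOfLE h).op g) = X.presheaf.germ U y (h hy) g :=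
    TopCat.Presheaf.germ_res_apply X.presheaf (homOfLE h) y hy g
  have e2 : L.presheaf.germ V y hy (L.presheaf.map (homOfLE h).op m) = L.presheaf.germ U y (h hy) m :=
    TopCat.Presheaf.germ_res_apply L.presheaf (homOfLE h) y hy m
  rw [e1, e2]
  exact hm y (h hy)

/-- the ideal of denominators is compatible with localization -/
theorem map_denomIdeal_basicOpen {L : X.Modules} (hL : PicF.IsInvertible L) [L.IsQuasicoherent]
    (s : Γ(merMod L, ⊤)) {U : X.Opens} (hU : IsAffineOpen U) (f : Γ(X, U)) :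
    (denomIdeal L s U).map (X.presheaf.map (homOfLE (X.basicOpen_le f)).op).hom =
      denomIdeal L s (X.basicOpen f) := by
  apply le_antisymm
  · rw [Ideal.map_le_iff_le_comap]
    intro g hg
    exact res_mem_denomIdeal L s (X.basicOpen_le f) g hg
  · intro g' hg'
    rw [mem_denomIdeal_iff] at hg'
    obtain ⟨m', hm'⟩ := hg'
    set fD : Γ(X, X.basicOpen f) := X.presheaf.map (homOfLE (X.basicOpen_le f)).op f with hfD
    have hfDu : IsUnit fD := RingedSpace.isUnit_res_basicOpen X.toRingedSpace f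
    -- clear denominators
    haveI := hU.isLocalization_basicOpen f
    obtain ⟨⟨g₀, ⟨_, k, rfl⟩⟩, hg₀⟩ := IsLocalization.surj (Submonoid.powers f) g'
    have hg₀' : g' * fD ^ k = X.presheaf.map (homOfLE (X.basicOpen_le f)).op g₀ := by
      have := hg₀
      simp only [map_pow] at this
      exact this
    obtain ⟨j, m₀, hm₀⟩ := exists_pow_smul_eq_map_of_isAffineOpen hU L f m'
    -- common exponent
    let G : Γ(X, U) := f ^ j * g₀
    let M : Γ(L, U) := f ^ k • m₀
    have hgermf : ∀ (y : X) (hy : y ∈ X.basicOpen f),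
        X.presheaf.germ (X.basicOpen f) y hy fD = X.presheaf.germ U y (X.basicOpen_le f hy) f :=
      fun y hy => TopCat.Presheaf.germ_res_apply X.presheaf (homOfLE (X.basicOpen_le f)) y hy f
    have hG : ∀ (y : X) (hy : y ∈ X.basicOpen f),
        X.presheaf.germ U y (X.basicOpen_le f hy) G =
          X.presheaf.germ U y (X.basicOpen_le f hy) f ^ (j + k) *
            X.presheaf.germ (X.basicOpen f) y hy g' := by
      intro y hy
      have h1 := congrArg (X.presheaf.germ (X.basicOpen f) y hy) hg₀'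
      rw [TopCat.Presheaf.germ_res_apply, map_mul, map_pow, hgermf y hy] at h1
      show X.presheaf.germ U y _ (f ^ j * g₀) = _
      rw [map_mul, map_pow, ← h1, pow_add]
      ring
    have hM : ∀ (y : X) (hy : y ∈ X.basicOpen f),
        L.presheaf.germ U y (X.basicOpen_le f hy) M =
          X.presheaf.germ U y (X.basicOpen_le f hy) f ^ (j + k) •
            L.presheaf.germ (X.basicOpen f) y hy m' := by
      intro y hy
      have h1 := congrArg (L.presheaf.germ (X.basicOpen f) y hy) hm₀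
      rw [TopCat.Presheaf.germ_res_apply, Mero.germ_smul, map_pow, hgermf y hy] at h1
      show L.presheaf.germ U y _ (f ^ k • m₀) = _
      rw [Mero.germ_smul, map_pow, h1, ← mul_smul, pow_add, mul_comm]
    -- the difference vanishes on D(f)
    let t : Γ(merMod L, U) :=
      G • (merMod L).presheaf.map (homOfLE (le_top : U ≤ ⊤)).op s - toMerFun L U M
    have ht_apply : ∀ (y : X) (hy : y ∈ U), t.1 ⟨y, hy⟩ =
        X.presheaf.germ U y hy G • s.1 ⟨y, Opens.mem_top y⟩ -
          (LocalizedModule.mk (L.presheaf.germ U y hy M) 1 : MStalk L y) := fun y hy => rfl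
    have ht0 : ∀ (y : X) (hy : y ∈ U), y ∈ X.basicOpen f → t.1 ⟨y, hy⟩ = 0 := by
      intro y hy hyf
      rw [ht_apply y hy, hG y hyf, hM y hyf, mul_smul, hm' y hyf, sub_eq_zero,
        LocalizedModule.smul'_mk]
    obtain ⟨N, hN⟩ := exists_pow_smul_eq_zero hL hU f t ht0
    -- f^N G is a denominator over U
    have hmem : f ^ N * G ∈ denomIdeal L s U := by
      rw [mem_denomIdeal_iff]
      refine ⟨f ^ N • M, fun y hy => ?_⟩
      have h1 := hN y hy
      rw [ht_apply y hy, smul_sub, sub_eq_zero, ← mul_smul, LocalizedModule.smul'_mk] at h1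
      rw [map_mul, map_pow, h1]
      refine mk_congr ?_ rfl
      rw [Mero.germ_smul L U y hy (f ^ N) M, map_pow]
    -- conclude
    have hmap : X.presheaf.map (homOfLE (X.basicOpen_le f)).op (f ^ N * G) ∈
        (denomIdeal L s U).map (X.presheaf.map (homOfLE (X.basicOpen_le f)).op).hom :=
      Ideal.mem_map_of_mem _ hmem
    have heq : X.presheaf.map (homOfLE (X.basicOpen_le f)).op (f ^ N * G) =
        g' * fD ^ (N + j + k) := by
      show X.presheaf.map (homOfLE (X.basicOpen_le f)).op (f ^ N * (f ^ j * g₀)) = _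
      rw [map_mul, map_mul, map_pow, map_pow, ← hg₀', ← hfD]
      ring
    rw [heq] at hmap
    exact (Ideal.mul_unit_mem_iff_mem _ (hfDu.pow _)).mp hmap

/-- Suppose X is a scheme, L is an O_X-module that is invertible, and s is a meromorphic section of L
which is regular. Then the ideal of denominators of s, U ↦ {f ∈ O_X(U) | f·s ∈ L(U)}, is a
quasi-coherent ideal sheaf: there is a quasi-coherent ideal sheaf I whose ideal on every affine open
U is the ideal of denominators over U; and the closed subset of X cut out by I (the support of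
O_X/I) is nowhere dense. The published statement also asserts that the cokernel of the map I → L
given by s is supported on a closed nowhere dense subset; this row does not state that part. -/
theorem result (X : Scheme.{u}) (L : X.Modules) (hL : PicF.IsInvertible L)
    (s : Γ(Mero.merMod L, ⊤)) (hs : Mero.IsRegularMero L s) :
    ∃ I : X.IdealSheafData, (∀ U : X.affineOpens, I.ideal U = Mero.denomIdeal L s U.1) ∧
      interior (I.support : Set ↥X) = ∅ := by
  have hM := (isInvertible_iff_isFinLocFreeOfRank_one L).1 hL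
  haveI := isQuasicoherent_of_isFinLocFree L (isFinLocFree_of_isFinLocFreeOfRank hM)
  let I : X.IdealSheafData :=
    { ideal := fun U => Mero.denomIdeal L s U.1
      map_ideal_basicOpen := fun U f => map_denomIdeal_basicOpen hL s U.2 f }
  refine ⟨I, fun U => rfl, ?_⟩
  rw [Set.eq_empty_iff_forall_notMem]
  intro x hx
  obtain ⟨W₀, hW₀, hW₀o, hxW₀⟩ := mem_interior.mp hx
  obtain ⟨V, hxV, i, m, b, w⟩ := s.2 ⟨x, trivial⟩
  obtain ⟨V', hV', hxV', hV'le⟩ := exists_isAffineOpen_mem_and_subset (x := x)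
    (U := V ⊓ ⟨W₀, hW₀o⟩) ⟨hxV, hxW₀⟩
  have hV'V : V' ≤ V := fun y hy => (hV'le hy).1
  have hV'W : ∀ y ∈ V', y ∈ W₀ := fun y hy => (hV'le hy).2
  let b' : Γ(X, V') := X.presheaf.map (homOfLE hV'V).op b.1
  have hgb : ∀ (y : X) (hy : y ∈ V'), X.presheaf.germ V' y hy b' = X.presheaf.germ V y (hV'V hy) b.1 :=
    fun y hy => TopCat.Presheaf.germ_res_apply X.presheaf (homOfLE hV'V) y hy b.1
  have hb' : b' ∈ Mero.denomIdeal L s V' := by
    rw [mem_denomIdeal_iff]
    refine ⟨L.presheaf.map (homOfLE hV'V).op m, fun y hy => ?_⟩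
    have hw : s.1 ⟨y, Opens.mem_top y⟩ =
        LocalizedModule.mk (L.presheaf.germ V y (hV'V hy) m) (regGerm ⟨y, hV'V hy⟩ b) :=
      w ⟨y, hV'V hy⟩
    have e2 : L.presheaf.germ V' y hy (L.presheaf.map (homOfLE hV'V).op m) =
        L.presheaf.germ V y (hV'V hy) m :=
      TopCat.Presheaf.germ_res_apply L.presheaf (homOfLE hV'V) y hy m
    rw [hw, hgb y hy, e2, LocalizedModule.smul'_mk, LocalizedModule.mk_eq]
    refine ⟨1, ?_⟩
    simp only [one_smul, Submonoid.smul_def]
  have hbot : X.basicOpen b' = ⊥ := by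
    rw [eq_bot_iff]
    intro y hy
    have hyV' : y ∈ V' := X.basicOpen_le b' hy
    have hysupp : y ∈ I.support := hW₀ (hV'W y hyV')
    rw [Scheme.IdealSheafData.mem_support_iff_of_mem (U := ⟨V', hV'⟩) hyV',
      Scheme.mem_zeroLocus_iff] at hysupp
    exact (hysupp b' hb' hy).elim
  obtain ⟨n, hn⟩ := (Scheme.isNilpotent_iff_basicOpen_eq_bot_of_isCompact hV'.isCompact b').mpr hbot
  have h1 := congrArg (X.presheaf.germ V' x hxV') hn
  rw [map_pow, map_zero] at h1
  have h2 : X.presheaf.germ V' x hxV' b' ∈ nonZeroDivisors (X.presheaf.stalk x) := by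
    rw [hgb x hxV']
    exact b.2 ⟨x, hV'V hxV'⟩
  have h3 := pow_mem h2 n
  rw [h1] at h3
  exact zero_notMem_nonZeroDivisors h3

end Groth.Agent.S8903
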