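import Groth.Statements.S8904
import Mathlib
import Groth.Agent.Lib.Helper18.RegAvoid2
import Groth.Agent.Lib.Helper18.MeroExt2
import Groth.Agent.Lib.Helper18.MeroDom
import Groth.Agent.Lib.Helper16.WeakAss
import Groth.Agent.Lib.Helper5.IrrCompCover
import Groth.Agent.Lib.Helper5.FlatMinimalPrimes
import Groth.Agent.S5085
import Groth.Agent.S12513

set_option autoImplicit false
universe u
open CategoryTheory CategoryTheory.Limits AlgebraicGeometry TopologicalSpace
open SDiv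

namespace Groth.Agent.S8904

open Groth.Agent.Lib.Helper18

theorem minimal_of_weakAss {X : Scheme.{u}}
    (ha : ∀ x : ↥X, Curv2.IsWeakAssPoint (Coh.structureModule X) x → ∀ y : ↥X, y ⤳ x → y = x)
    {W : X.Opens} (hW : IsAffineOpen W) (c : Γ(X, W)) (q : Ideal Γ(X, W))
    (hq : q ∈ (RegAvoid2.ann c).minimalPrimes) : q ∈ minimalPrimes Γ(X, W) := by
  haveI hqp : q.IsPrime := hq.1.1
  set y : X := hW.fromSpec ⟨q, hqp⟩ with hy
  have hyW : y ∈ W := by
    have h1 : y ∈ Set.range hW.fromSpec := ⟨_, rfl⟩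
    rw [hW.range_fromSpec] at h1
    exact h1
  have hprime : hW.primeIdealOf ⟨y, hyW⟩ = ⟨q, hqp⟩ := by
    apply hW.fromSpec.isOpenEmbedding.injective
    rw [hW.fromSpec_primeIdealOf]
  have hwa : Curv2.IsWeakAssPoint (Coh.structureModule X) y :=
    Groth.Agent.Lib.helper16.WeakAss.isWeakAssPoint_of_minimal hW c y hyW (by rw [hprime]; exact hq)
  refine ⟨⟨hqp, bot_le⟩, ?_⟩
  rintro r ⟨hrp, -⟩ hrq
  have hspec : (⟨r, hrp⟩ : PrimeSpectrum Γ(X, W)) ⤳ ⟨q, hqp⟩ :=
    (PrimeSpectrum.le_iff_specializes _ _).mp hrq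
  have hspec' : hW.fromSpec ⟨r, hrp⟩ ⤳ y := hspec.map hW.fromSpec.continuous
  have heq := ha y hwa _ hspec'
  have h2 : (⟨r, hrp⟩ : PrimeSpectrum Γ(X, W)) = ⟨q, hqp⟩ :=
    hW.fromSpec.isOpenEmbedding.injective heq
  have h3 : r = q := congrArg PrimeSpectrum.asIdeal h2
  exact h3 ▸ le_rfl

theorem finite_minimalPrimes {X : Scheme.{u}}
    (hb : ∀ U : X.Opens, IsCompact (U : Set ↥X) → (irreducibleComponents ↥(U : Scheme.{u})).Finite)
    {W : X.Opens} (hW : IsAffineOpen W) : (minimalPrimes Γ(X, W)).Finite := by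
  rw [← Groth.Agent.Lib.helper5.FlatMinPrimes.finite_irreducibleComponents_iff,
    ← Groth.Agent.Lib.helper5.IrrCover.finite_irreducibleComponents_affine_iff hW]
  exact hb W hW.isCompact

theorem mem_basicOpen_iff_notMem_primeIdealOf {X : Scheme.{u}} {W : X.Opens} (hW : IsAffineOpen W)
    (x : X) (hxW : x ∈ W) (d : Γ(X, W)) :
    x ∈ X.basicOpen d ↔ d ∉ (hW.primeIdealOf ⟨x, hxW⟩).asIdeal := by
  have hpx : hW.fromSpec (hW.primeIdealOf ⟨x, hxW⟩) = x := hW.fromSpec_primeIdealOf ⟨x, hxW⟩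
  have : (hW.primeIdealOf ⟨x, hxW⟩) ∈ hW.fromSpec ⁻¹ᵁ X.basicOpen d ↔
      d ∉ (hW.primeIdealOf ⟨x, hxW⟩).asIdeal := by
    rw [hW.fromSpec_preimage_basicOpen]
    rfl
  rw [← this]
  show x ∈ X.basicOpen d ↔ hW.fromSpec (hW.primeIdealOf ⟨x, hxW⟩) ∈ X.basicOpen d
  rw [hpx]

theorem regStalk_eq {X : Scheme.{u}}
    (ha : ∀ x : ↥X, Curv2.IsWeakAssPoint (Coh.structureModule X) x → ∀ y : ↥X, y ⤳ x → y = x)
    (hb : ∀ U : X.Opens, IsCompact (U : Set ↥X) → (irreducibleComponents ↥(U : Scheme.{u})).Finite)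
    (x : X) : Mero.regStalk X x = nonZeroDivisors ↑(X.presheaf.stalk x) := by
  apply le_antisymm (Mero.regStalk_le_nonZeroDivisors x)
  intro t ht
  obtain ⟨U, hxU, s, rfl⟩ := X.presheaf.exists_germ_eq t
  obtain ⟨_, ⟨W, hW, rfl⟩, hxW, hWU⟩ :=
    X.isBasis_affineOpens.exists_subset_of_mem_open (show x ∈ (U : Set X) from hxU) U.2
  have hWU' : W ≤ U := hWU
  set s' := (X.presheaf.map (homOfLE hWU').op).hom s with hs'
  have hgerm : (X.presheaf.germ W x hxW).hom s' = (X.presheaf.germ U x hxU).hom s :=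
    TopCat.Presheaf.germ_res_apply X.presheaf (homOfLE hWU') x hxW s
  set p := hW.primeIdealOf ⟨x, hxW⟩ with hp
  letI := TopCat.Presheaf.algebra_section_stalk X.presheaf (⟨x, hxW⟩ : W)
  haveI : IsLocalization.AtPrime (X.presheaf.stalk x) p.asIdeal := hW.isLocalization_stalk ⟨x, hxW⟩
  have halg : ∀ b : Γ(X, W), algebraMap Γ(X, W) (X.presheaf.stalk x) b =
      (X.presheaf.germ W x hxW).hom b := fun b => rfl
  have hfin := finite_minimalPrimes hb hW
  have hC := fun c q hq => minimal_of_weakAss ha hW c q hq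
  have hs : ∀ c : Γ(X, W), (∃ u ∉ p.asIdeal, u * c * s' = 0) → ∃ v ∉ p.asIdeal, v * c = 0 := by
    rintro c ⟨u, hu, huc⟩
    have h1 := congrArg (algebraMap Γ(X, W) (X.presheaf.stalk x)) huc
    rw [map_mul, map_mul, map_zero, halg s', hgerm] at h1
    have h2 := (mem_nonZeroDivisors_iff_right.1 ht) _ h1
    have hunit : IsUnit (algebraMap Γ(X, W) (X.presheaf.stalk x) u) :=
      IsLocalization.map_units (X.presheaf.stalk x) (⟨u, hu⟩ : p.asIdeal.primeCompl)
    have h3 : algebraMap Γ(X, W) (X.presheaf.stalk x) c = 0 := hunit.mul_right_eq_zero.mp h2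
    obtain ⟨m, hm⟩ := (IsLocalization.map_eq_zero_iff p.asIdeal.primeCompl (X.presheaf.stalk x) c).mp h3
    exact ⟨m.1, m.2, hm⟩
  obtain ⟨h, hhp, hh⟩ := RegAvoid2.exists_away_nzd Γ(X, W) hfin hC p.asIdeal s' hs
  set V := X.basicOpen h with hV
  have hVW : V ≤ W := X.basicOpen_le h
  set s'' := (X.presheaf.map (homOfLE hVW).op).hom s' with hs''
  have hxV : x ∈ V := (mem_basicOpen_iff_notMem_primeIdealOf hW x hxW h).2 hhp
  have hVaff : IsAffineOpen V := hW.basicOpen h
  have hunitV : IsUnit ((X.presheaf.map (homOfLE hVW).op).hom h) :=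
    RingedSpace.isUnit_res_basicOpen X.toRingedSpace h
  have hs''nzd : s'' ∈ nonZeroDivisors Γ(X, V) := by
    rw [mem_nonZeroDivisors_iff_right]
    intro b hb0
    obtain ⟨n, c, hc⟩ := exists_eq_pow_mul_of_isAffineOpen X W hW h b
    have hc' : (X.presheaf.map (homOfLE hVW).op).hom c =
        ((X.presheaf.map (homOfLE hVW).op).hom h) ^ n * b := hc
    have hcs : (X.presheaf.map (homOfLE hVW).op).hom (c * s') = 0 := by
      rw [map_mul, hc', mul_assoc]
      show _ * (b * s'') = 0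
      rw [hb0, mul_zero]
    obtain ⟨k, hk⟩ :=
      exists_pow_mul_eq_zero_of_res_basicOpen_eq_zero_of_isAffineOpen X hW (c * s') h hcs
    obtain ⟨m, hm⟩ := hh c ⟨k, by rw [mul_assoc]; exact hk⟩
    have h4 : ((X.presheaf.map (homOfLE hVW).op).hom h) ^ m *
        (X.presheaf.map (homOfLE hVW).op).hom c = 0 := by
      rw [← map_pow, ← map_mul, hm, map_zero]
    have h5 : (X.presheaf.map (homOfLE hVW).op).hom c = 0 :=
      (hunitV.pow m).mul_right_eq_zero.mp h4
    rw [h5] at hc'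
    exact (hunitV.pow n).mul_right_eq_zero.mp hc'.symm
  refine ⟨V, hxV, s'', MeroExt.mem_regSub_of_mem_nonZeroDivisors hVaff s'' hs''nzd, ?_⟩
  have e1 : (X.presheaf.germ V x hxV).hom s'' = (X.presheaf.germ W x hxW).hom s' :=
    TopCat.Presheaf.germ_res_apply X.presheaf (homOfLE hVW) x hxV s'
  exact e1.trans hgerm

open Mero in
theorem isLoc {X : Scheme.{u}}
    (ha : ∀ x : ↥X, Curv2.IsWeakAssPoint (Coh.structureModule X) x → ∀ y : ↥X, y ⤳ x → y = x)
    (hb : ∀ U : X.Opens, IsCompact (U : Set ↥X) → (irreducibleComponents ↥(U : Scheme.{u})).Finite)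
    (U : X.affineOpens) :
    @IsLocalization Γ(X, U.1) _ (nonZeroDivisors Γ(X, U.1)) Γ(Mero.kmod X, U.1) _ (Mero.toK X U.1).toAlgebra := by
  letI : Algebra Γ(X, U.1) Γ(Mero.kmod X, U.1) := (Mero.toK X U.1).toAlgebra
  have hfin := finite_minimalPrimes hb U.2
  have hC := fun c q hq => minimal_of_weakAss ha U.2 c q hq
  have halg : ∀ r : Γ(X, U.1), algebraMap Γ(X, U.1) Γ(Mero.kmod X, U.1) r = Mero.toK X U.1 r :=
    fun r => rfl
  have hreg : Mero.regSub X U.1 = nonZeroDivisors Γ(X, U.1) := Groth.Agent.S12513.result X U.1 U.2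
  show IsLocalization (nonZeroDivisors Γ(X, U.1)) Γ(Mero.kmod X, U.1)
  rw [isLocalization_iff]
  refine ⟨?_, ?_, ?_⟩
  · -- units
    rintro ⟨y, hy⟩
    have hy' : y ∈ Mero.regSub X U.1 := by rw [hreg]; exact hy
    let inv : Γ(Mero.kmod X, U.1) := ⟨fun x => LocalizedModule.mk 1 (regGerm x ⟨y, hy'⟩),
      fun x => ⟨U.1, x.2, 𝟙 _, 1, ⟨y, hy'⟩, fun z => mk_congr (map_one _).symm rfl⟩⟩
    rw [halg]
    refine IsUnit.of_mul_eq_one inv ?_
    refine Subtype.ext (funext fun x => ?_)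
    show (LocalizedModule.mk (X.presheaf.germ U.1 x.1 x.2 y) 1 : KStalk X x.1) *
      LocalizedModule.mk 1 (regGerm x ⟨y, hy'⟩) = 1
    refine LocalizedModule.mk_mul_mk.trans
      (Eq.trans (mk_congr ?_ ?_) (mk_self_eq_one (regGerm x ⟨y, hy'⟩)))
    · rw [mul_one]
    · rw [one_mul]
  · -- surjectivity
    intro z
    obtain ⟨D, hDU, hDmem, hDdense⟩ := MeroDom.domain z
    let zD : Γ(Mero.kmod X, D) := (Mero.kmod X).presheaf.map (homOfLE hDU).op z
    have hzD : ∀ y : D, zD.1 y = z.1 ⟨y.1, hDU y.2⟩ := fun y => rfl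
    have hs : ∀ y : D, zD.1 y ∈ (algebraMap (X.presheaf.stalk y.1) (Mero.KStalk X y.1)).range :=
      fun y => (hDmem y.1 (hDU y.2)).mp y.2
    obtain ⟨g, hg⟩ := MeroDom.exists_toK_eq zD hs
    obtain ⟨b₀, hb₀, hb₀D⟩ := MeroExt2.exists_regular_basicOpen_le' U.2 le_rfl hDdense
      (RegAvoid2.minimal_data Γ(X, U.1) hfin hC)
    obtain ⟨a, b, hab⟩ := MeroExt2.exists_local_rep_of_regular U.2 b₀ hb₀ hb₀D g
    have hb : b.1 ∈ nonZeroDivisors Γ(X, U.1) := by rw [← hreg]; exact b.2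
    refine ⟨(a, ⟨b.1, hb⟩), ?_⟩
    rw [halg, halg]
    apply Groth.Agent.S5085.result X U.1 D hDU hDdense
    refine Subtype.ext (funext fun y => ?_)
    show z.1 ⟨y.1, hDU y.2⟩ * (LocalizedModule.mk (X.presheaf.germ U.1 y.1 (hDU y.2) b.1) 1 : KStalk X y.1) =
      LocalizedModule.mk (X.presheaf.germ U.1 y.1 (hDU y.2) a) 1
    rw [← hzD y, ← hg]
    show (LocalizedModule.mk (X.presheaf.germ D y.1 y.2 g) 1 : KStalk X y.1) *
      LocalizedModule.mk (X.presheaf.germ U.1 y.1 (hDU y.2) b.1) 1 = _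
    refine LocalizedModule.mk_mul_mk.trans (mk_congr ?_ (by rw [one_mul]))
    rw [hab y.1 (hDU y.2) y.2, mul_comm]
  · -- injectivity
    intro x y hxy
    refine ⟨1, ?_⟩
    rw [halg, halg] at hxy
    have : x = y := by
      apply TopCat.Presheaf.section_ext X.sheaf U.1
      intro w hw
      have h1 := congrArg (fun f : Γ(Mero.kmod X, U.1) => f.1 ⟨w, hw⟩) hxy
      have h2 : (LocalizedModule.mk (X.presheaf.germ U.1 w hw x) 1 : KStalk X w) =
          LocalizedModule.mk (X.presheaf.germ U.1 w hw y) 1 := h1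
      rw [Groth.Agent.S5085.mk_eq_mk_iff] at h2
      have h3 : X.presheaf.germ U.1 w hw x = X.presheaf.germ U.1 w hw y := by simpa using h2
      exact h3
    rw [this]

/-- Let X be a scheme such that (a) each weakly associated point of X (of O_X) has no proper
generization, i.e. is the generic point of some irreducible component, and (b) every quasi-compact
open of X has finitely many irreducible components. Then for every point x the monoid S_x of germs
of regular sections is the set of all nonzerodivisors of O_{X,x} (so K_{X,x} is the total ring of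
fractions of O_{X,x}), and for every affine open U the ring K_X(U) is the total ring of fractions of
O_X(U). -/
theorem result (X : Scheme.{u})
    (ha : ∀ x : ↥X, Curv2.IsWeakAssPoint (Coh.structureModule X) x → ∀ y : ↥X, y ⤳ x → y = x)
    (hb : ∀ U : X.Opens, IsCompact (U : Set ↥X) → (irreducibleComponents ↥(U : Scheme.{u})).Finite) :
    (∀ x : ↥X, Mero.regStalk X x = nonZeroDivisors ↑(X.presheaf.stalk x)) ∧
      ∀ U : X.affineOpens,
        @IsLocalization Γ(X, U.1) _ (nonZeroDivisors Γ(X, U.1)) Γ(Mero.kmod X, U.1) _ (Mero.toK X U.1).toAlgebra := by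
  exact ⟨fun x => regStalk_eq ha hb x, fun U => isLoc ha hb U⟩

end Groth.Agent.S8904
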