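import Groth.Statements.S8911
import Groth.Agent.Lib.Helper16.FittStrictSheaf
import Groth.Agent.Lib.Helper7.FittPullback

set_option autoImplicit false
universe u
open CategoryTheory CategoryTheory.Limits AlgebraicGeometry TopologicalSpace
open SDiv

namespace Groth.Agent.S8911

open Groth.Agent.Lib.helper7.FittSheaf Groth.Agent.Lib.helper16.FittStrictSheaf
  Groth.Agent.Lib.helper16.QCohPullback

theorem result' (S : Scheme.{u}) (F : S.Modules) (hF : Coh.IsQCoh F) (hft : CohB1.IsFT F)
    (k : ℕ) {S' : Scheme.{u}} (b : S' ⟶ S) (hb : BlowUp.IsBlowUp b (Fitt.sheafIdeal F k)) (G : S'.Modules)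
    (π : (Scheme.Modules.pullback b).obj F ⟶ G) (hG : BlowUp.IsStrictTransform b (Fitt.sheafIdeal F k) F G π) (s' : ↥S') :
    ∃ U : S'.Opens, s' ∈ U ∧ ∃ q : FlatMod.freeMod (↑U) k ⟶ G.restrict U.ι, Epi q := by
  haveI : F.IsQuasicoherent := hF
  haveI : ((Scheme.Modules.pullback b).obj F).IsQuasicoherent := isQuasicoherent_pullback b F
  have hPft := isFiniteType_pullback b F hft
  have hEq : (Fitt.sheafIdeal F k).comap b = Fitt.sheafIdeal ((Scheme.Modules.pullback b).obj F) k :=
    sheafIdeal_comap b F hft k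
  have hE : BlowUp.IsEffCartierIdeal (Fitt.sheafIdeal ((Scheme.Modules.pullback b).obj F) k) :=
    hEq ▸ hb.1
  haveI := hG.1
  obtain ⟨hGq, hGft, htop⟩ := fitt_strict_eq_top _ G hPft k hE π (by rw [← hEq]; exact hG.2)
  haveI := hGq
  refine (exists_epi_freeMod_iff G hGft s' k).mpr ?_
  rw [htop, Scheme.IdealSheafData.support_top]
  exact fun h => h


/-- Let S be a scheme, F a quasi-coherent O_S-module of finite type, k ≥ 0, b : S' ⟶ S a blowing up of S
in the closed subscheme Z_k cut out by Fit_k(F), and π : b^*F ⟶ G the strict transform of F along b.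
Then G can locally be generated by at most k sections. -/
theorem result (S : Scheme.{u}) (F : S.Modules) (hF : Coh.IsQCoh F) (hft : CohB1.IsFT F)
    (k : ℕ) {S' : Scheme.{u}} (b : S' ⟶ S) (hb : BlowUp.IsBlowUp b (Fitt.sheafIdeal F k)) (G : S'.Modules)
    (π : (Scheme.Modules.pullback b).obj F ⟶ G) (hG : BlowUp.IsStrictTransform b (Fitt.sheafIdeal F k) F G π) (s' : ↥S') :
    ∃ U : S'.Opens, s' ∈ U ∧ ∃ q : FlatMod.freeMod (↑U) k ⟶ G.restrict U.ι, Epi q := by
  exact result' S F hF hft k b hb G π hG s'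

end Groth.Agent.S8911
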