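import Groth.Statements.S8912
import Groth.Agent.Lib.Helper16.FittStrictSheaf2

set_option autoImplicit false
universe u
open CategoryTheory CategoryTheory.Limits AlgebraicGeometry TopologicalSpace
open SDiv

namespace Groth.Agent.S8912

open Groth.Agent.Lib.helper7.FittSheaf Groth.Agent.Lib.helper16.FittStrictSheaf
  Groth.Agent.Lib.helper16.QCohPullback

theorem result' (S : Scheme.{u}) (F : S.Modules) (hF : Coh.IsQCoh F) (hft : CohB1.IsFT F)
    (k : ℕ) (hfree : FlatMod.IsFinLocFreeOfRank k (F.restrict (Scheme.Opens.ι (Fitt.sheafIdeal F k).support.compl)))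
    {S' : Scheme.{u}} (b : S' ⟶ S) (hb : BlowUp.IsBlowUp b (Fitt.sheafIdeal F k)) (G : S'.Modules)
    (π : (Scheme.Modules.pullback b).obj F ⟶ G) (hG : BlowUp.IsStrictTransform b (Fitt.sheafIdeal F k) F G π) :
    FlatMod.IsFinLocFreeOfRank k G := by
  haveI : F.IsQuasicoherent := hF
  haveI : ((Scheme.Modules.pullback b).obj F).IsQuasicoherent := isQuasicoherent_pullback b F
  have hPft := isFiniteType_pullback b F hft
  have hEq : (Fitt.sheafIdeal F k).comap b = Fitt.sheafIdeal ((Scheme.Modules.pullback b).obj F) k :=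
    sheafIdeal_comap b F hft k
  have hE : BlowUp.IsEffCartierIdeal (Fitt.sheafIdeal ((Scheme.Modules.pullback b).obj F) k) :=
    hEq ▸ hb.1
  haveI := hG.1
  exact isFinLocFreeOfRank_strict _ G hPft k hE
    (fun j hj => fitt_pullback_eq_bot F hft k hfree b hb.1 j hj) π (by rw [← hEq]; exact hG.2)


/-- Let S be a scheme, F a quasi-coherent O_S-module of finite type and k ≥ 0 such that F is locally
free of rank k on the complement of the closed subscheme Z_k cut out by Fit_k(F). Let b : S' ⟶ S be
a blowing up of S in Z_k and π : b^*F ⟶ G the strict transform of F. Then G is finite locally free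
of rank k. -/
theorem result (S : Scheme.{u}) (F : S.Modules) (hF : Coh.IsQCoh F) (hft : CohB1.IsFT F)
    (k : ℕ) (hfree : FlatMod.IsFinLocFreeOfRank k (F.restrict (Scheme.Opens.ι (Fitt.sheafIdeal F k).support.compl)))
    {S' : Scheme.{u}} (b : S' ⟶ S) (hb : BlowUp.IsBlowUp b (Fitt.sheafIdeal F k)) (G : S'.Modules)
    (π : (Scheme.Modules.pullback b).obj F ⟶ G) (hG : BlowUp.IsStrictTransform b (Fitt.sheafIdeal F k) F G π) :
    FlatMod.IsFinLocFreeOfRank k G := by
  exact result' S F hF hft k hfree b hb G π hG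

end Groth.Agent.S8912
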