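import Groth.Statements.S8913
import Groth.Agent.Lib.Helper16.FittStrictSheaf3

set_option autoImplicit false
universe u
open CategoryTheory CategoryTheory.Limits AlgebraicGeometry TopologicalSpace
open SDiv

namespace Groth.Agent.S8913

open Groth.Agent.Lib.helper7.FittSheaf Groth.Agent.Lib.helper16.FittStrictSheaf
  Groth.Agent.Lib.helper16.QCohPullback Groth.Agent.Lib.helper16.FLF
  Groth.Agent.Lib.helper15.FittLink

theorem result' (X : Scheme.{u}) (F : X.Modules) (hF : CohB1.IsFP F)
    (U : X.Opens) (hU : CInt.IsSchematicallyDense U) (r : ℕ) (hfree : FlatMod.IsFinLocFreeOfRank r (F.restrict U.ι)) :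
    BlowUp.IsAdmissibleFor U (Fitt.sheafIdeal F r) ∧
      ∀ (X' : Scheme.{u}) (b : X' ⟶ X), BlowUp.IsBlowUp b (Fitt.sheafIdeal F r) →
        ∀ (G : X'.Modules) (π : (Scheme.Modules.pullback b).obj F ⟶ G), BlowUp.IsStrictTransform b (Fitt.sheafIdeal F r) F G π →
          FlatMod.IsFinLocFreeOfRank r G ∧ CohB1.IsFP (kernel π) ∧ IsZero ((kernel π).restrict (b ⁻¹ᵁ U).ι) := by
  haveI : SheafOfModules.IsFinitePresentation (R := X.ringCatSheaf) F := hF
  haveI : F.IsQuasicoherent := inferInstance
  have hft : SheafOfModules.IsFiniteType (R := X.ringCatSheaf) F := inferInstance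
  have hftU : SheafOfModules.IsFiniteType (R := (↑U : Scheme.{u}).ringCatSheaf)
      (F.restrict U.ι) :=
    isFiniteType_of_isFinLocFree _ (isFinLocFree_of_isFinLocFreeOfRank hfree)
  have hfit := (isFinLocFreeOfRank_iff_fitt (F.restrict U.ι) hftU r).mp hfree
  -- local values of the Fitting ideals at points of `U`
  have hloc : ∀ x : X, x ∈ U → ∃ V : X.affineOpens, x ∈ V.1 ∧
      (∀ j, j < r → (Fitt.sheafIdeal F j).ideal V = ⊥) ∧ (Fitt.sheafIdeal F r).ideal V = ⊤ := by
    intro x hx
    obtain ⟨_, ⟨W', hW' : IsAffineOpen W', rfl⟩, hxW', -⟩ :=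
      (↑U : Scheme.{u}).isBasis_affineOpens.exists_subset_of_mem_open
        (Set.mem_univ (⟨x, hx⟩ : (↑U : Scheme.{u}))) isOpen_univ
    refine ⟨⟨U.ι ''ᵁ W', hW'.image_of_isOpenImmersion U.ι⟩, ⟨⟨x, hx⟩, hxW', rfl⟩, fun j hj => ?_, ?_⟩
    · rw [fitt_ideal_image F hft U hftU W' hW' j, hfit.1 j hj]; rfl
    · rw [fitt_ideal_image F hft U hftU W' hW' r, hfit.2 r le_rfl]; rfl
  have hdisj : Disjoint ((Fitt.sheafIdeal F r).support : Set X) (U : Set X) := by
    rw [Set.disjoint_left]
    intro x hxs hxU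
    obtain ⟨V, hxV, -, hV⟩ := hloc x hxU
    have := (Scheme.IdealSheafData.mem_support_iff_of_mem (U := V) hxV).mp hxs
    rw [Scheme.mem_zeroLocus_iff] at this
    refine this 1 (by rw [hV]; trivial) ?_
    rw [Scheme.basicOpen_of_isUnit _ isUnit_one]
    exact hxV
  have hbotF : ∀ j, j < r → Fitt.sheafIdeal F j = ⊥ := fun j hj =>
    eq_bot_of_locally_bot_of_schematicallyDense U hU _ fun x hx => by
      obtain ⟨V, hxV, hV, -⟩ := hloc x hx
      exact ⟨V, hxV, hV j hj⟩
  refine ⟨⟨fun V => ?_, hdisj⟩, ?_⟩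
  · rw [sheafIdeal_ideal F hft r V]
    haveI : Module.FinitePresentation Γ(X, V.1) Γ(F, V.1) :=
      Groth.Agent.Lib.helper16.CohFP.fp_sections_of_isFinitePresentation F hF V.2
    exact fitt_fg r
  · intro X' b hb G π hG
    haveI : ((Scheme.Modules.pullback b).obj F).IsQuasicoherent := isQuasicoherent_pullback b F
    have hPfp := Groth.Agent.Lib.helper16.QCohPullback2.isFinitePresentation_pullback b F hF
    have hPft := isFiniteType_pullback b F hft
    have hEq : ∀ j, (Fitt.sheafIdeal F j).comap b =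
        Fitt.sheafIdeal ((Scheme.Modules.pullback b).obj F) j := fun j => sheafIdeal_comap b F hft j
    have hE : BlowUp.IsEffCartierIdeal (Fitt.sheafIdeal ((Scheme.Modules.pullback b).obj F) r) :=
      hEq r ▸ hb.1
    have hbotP : ∀ j, j < r → Fitt.sheafIdeal ((Scheme.Modules.pullback b).obj F) j = ⊥ :=
      fun j hj => by rw [← hEq j, hbotF j hj, Scheme.IdealSheafData.comap_bot]
    haveI := hG.1
    have hπ : ∀ (V : X'.affineOpens) (m : Γ((Scheme.Modules.pullback b).obj F, V.1)),
        π.app V.1 m = 0 ↔ BlowUp.KilledByPowerNear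
          (Fitt.sheafIdeal ((Scheme.Modules.pullback b).obj F) r) _ V m := by
      rw [← hEq r]; exact hG.2
    refine ⟨isFinLocFreeOfRank_strict _ G hPft r hE hbotP π hπ,
      isFinitePresentation_kernel_strict _ G hPfp r hE hbotP π hπ,
      isZero_kernel_restrict _ _ G π (fun V m h => (hπ V m).mp h) (b ⁻¹ᵁ U) ?_⟩
    rw [← hEq r, Scheme.IdealSheafData.support_comap]
    rw [Set.disjoint_left]
    intro x' hx's hx'U
    exact Set.disjoint_left.mp hdisj hx's hx'U


/-- Let X be a scheme, F a finitely presented O_X-module and U ⊆ X an open subscheme which is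
scheme-theoretically dense and over which F is locally free of constant finite rank r. Then: (1)
Fit_r(F) is of finite type with support disjoint from U, so a blowing up b : X' ⟶ X of X in Fit_r(F)
is U-admissible; (2) the strict transform G of F along such b is locally free of rank r; (3) the
kernel of the surjection b^*F ⟶ G is finitely presented and restricts to zero over b⁻¹U. This row
does not assert that b^*F and the kernel are perfect of tor dimension at most one. -/
theorem result (X : Scheme.{u}) (F : X.Modules) (hF : CohB1.IsFP F)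
    (U : X.Opens) (hU : CInt.IsSchematicallyDense U) (r : ℕ) (hfree : FlatMod.IsFinLocFreeOfRank r (F.restrict U.ι)) :
    BlowUp.IsAdmissibleFor U (Fitt.sheafIdeal F r) ∧
      ∀ (X' : Scheme.{u}) (b : X' ⟶ X), BlowUp.IsBlowUp b (Fitt.sheafIdeal F r) →
        ∀ (G : X'.Modules) (π : (Scheme.Modules.pullback b).obj F ⟶ G), BlowUp.IsStrictTransform b (Fitt.sheafIdeal F r) F G π →
          FlatMod.IsFinLocFreeOfRank r G ∧ CohB1.IsFP (kernel π) ∧ IsZero ((kernel π).restrict (b ⁻¹ᵁ U).ι) := by
  exact result' X F hF U hU r hfree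

end Groth.Agent.S8913
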