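import Groth.Statements.S8922
import Groth.Agent.Lib.Helper16.LocPrincipal
import Groth.Agent.Lib.Helper8.PullbackUnit2
import Groth.Agent.Lib.Helper8.DevGen
import Groth.Agent.Lib.Helper16.QCohPullback

set_option autoImplicit false
universe u
open CategoryTheory CategoryTheory.Limits AlgebraicGeometry TopologicalSpace
open SDiv

namespace Groth.Agent.S8922

open Scheme.Modules Opposite Groth.Agent.Lib.helper16.LocPrincipal

/-- the square `X ×_S S' → Y ×_S S'` over `g : X → Y` is cartesian -/
theorem isPullback_map {X Y S S' : Scheme.{u}} (hX : X ⟶ S) (hY : Y ⟶ S) (g : X ⟶ Y)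
    (h : g ≫ hY = hX) (b : S' ⟶ S) :
    IsPullback (pullback.fst hX b) (pullback.map hX b hY b g (𝟙 S') (𝟙 S)
          ((Category.comp_id hX).trans h.symm) ((Category.comp_id b).trans (Category.id_comp b).symm))
      g (pullback.fst hY b) := by
  have hright : IsPullback (pullback.fst hY b) (pullback.snd hY b) hY b :=
    IsPullback.of_hasPullback hY b
  refine IsPullback.of_bot ?_ ?_ hright
  · have h1 : pullback.map hX b hY b g (𝟙 S') (𝟙 S)
        ((Category.comp_id hX).trans h.symm) ((Category.comp_id b).trans (Category.id_comp b).symm) ≫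
        pullback.snd hY b = pullback.snd hX b := by
      rw [pullback.lift_snd, Category.comp_id]
    rw [h1, h]
    exact IsPullback.of_hasPullback hX b
  · rw [pullback.lift_fst]

theorem exists_strictTransform_push {X Y X' Y' : Scheme.{u}} (g : X ⟶ Y) [IsAffineHom g]
    (pY : Y' ⟶ Y) (pX : X' ⟶ X) (g' : X' ⟶ Y') (sq : IsPullback pX g' g pY)
    (E : Y'.IdealSheafData) (hE : IsLocPrincipal E) (F : X.Modules) [F.IsQuasicoherent]
    (F' : X'.Modules) (π : (Scheme.Modules.pullback pX).obj F ⟶ F') (hπe : Epi π)
    (hπ : ∀ (V : X'.affineOpens) (m : Γ((Scheme.Modules.pullback pX).obj F, V.1)),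
      π.app V.1 m = 0 ↔
        BlowUp.KilledByPowerNear (E.comap g') ((Scheme.Modules.pullback pX).obj F) V m) :
    ∃ π' : (Scheme.Modules.pullback pY).obj ((pushforward g).obj F) ⟶ (pushforward g').obj F',
      Epi π' ∧ ∀ (V : Y'.affineOpens)
        (m : Γ((Scheme.Modules.pullback pY).obj ((pushforward g).obj F), V.1)),
        π'.app V.1 m = 0 ↔ BlowUp.KilledByPowerNear E
          ((Scheme.Modules.pullback pY).obj ((pushforward g).obj F)) V m := by
  haveI : IsAffineHom g' := MorphismProperty.of_isPullback sq inferInstance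
  haveI hq1 : ((Scheme.Modules.pullback pX).obj F).IsQuasicoherent :=
    Groth.Agent.Lib.helper16.QCohPullback.isQuasicoherent_pullback pX F
  haveI hq2 : F'.IsQuasicoherent :=
    isQuasicoherent_of_strictTransform (E.comap g') (isLocPrincipal_comap hE g') _ F' π hπ
  let β := ((pullbackPushforwardAdjunction pY).homEquiv ((pushforward g).obj F)
        ((pushforward g').obj ((Scheme.Modules.pullback pX).obj F))).symm
      ((pushforward g).map ((pullbackPushforwardAdjunction pX).unit.app F) ≫
        (pushforwardComp pX g).hom.app ((Scheme.Modules.pullback pX).obj F) ≫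
        (pushforwardCongr sq.w).hom.app ((Scheme.Modules.pullback pX).obj F) ≫
        (pushforwardComp g' pY).inv.app ((Scheme.Modules.pullback pX).obj F))
  haveI hβ : IsIso β :=
    Groth.Agent.Lib.helper8.PullbackUnit.isIso_baseChange_of_isAffineHom g pY pX g' sq F
  haveI : Epi ((pushforward g').map π) :=
    Groth.Agent.Lib.helper8.Dev.epi_pushforward_map g' π
  refine ⟨β ≫ (pushforward g').map π, epi_comp _ _, ?_⟩
  intro V m
  let W : X'.affineOpens := ⟨g' ⁻¹ᵁ V.1, V.2.preimage g'⟩
  let m' : Γ((Scheme.Modules.pullback pX).obj F, W.1) := β.app V.1 m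
  have h1 : ((β ≫ (pushforward g').map π).app V.1 m = 0) ↔ (π.app W.1 m' = 0) := Iff.rfl
  refine h1.trans ((hπ W m').trans ?_)
  -- injectivity of β on sections
  have hinj : ∀ x : Γ((Scheme.Modules.pullback pY).obj ((pushforward g).obj F), V.1),
      β.app V.1 x = 0 → x = 0 := by
    intro x hx
    have h2 : (inv β).app V.1 (β.app V.1 x) = x := by
      have := congrArg (fun φ => (Hom.app φ V.1) x) (IsIso.hom_inv_id β)
      exact this
    rw [← h2, hx, map_zero]
  -- semilinearity
  have hsemi : ∀ (a : Γ(Y', V.1)) (x : Γ((Scheme.Modules.pullback pY).obj ((pushforward g).obj F), V.1)),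
      (show Γ((Scheme.Modules.pullback pX).obj F, W.1) from β.app V.1 (a • x)) =
        (g'.app V.1).hom a • (show Γ((Scheme.Modules.pullback pX).obj F, W.1) from β.app V.1 x) := by
    intro a x
    exact Hom.app_smul β a x
  -- ideals
  have hid : ∀ n : ℕ, ((E.comap g') ^ n).ideal W =
      Ideal.map (g'.app V.1).hom ((E ^ n).ideal V) := by
    intro n
    rw [← Groth.Agent.Lib.helper16.IdealComapPow.comap_pow,
      Groth.Agent.Lib.helper7.IdealComap.ideal_comap g' (E ^ n) V.2 W.2 le_rfl,
      ← Scheme.Hom.app_eq_appLE]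
  unfold BlowUp.KilledByPowerNear
  refine exists_congr fun n => ?_
  rw [hid n]
  constructor
  · intro H a ha
    apply hinj
    have := hsemi a m
    refine this.trans ?_
    exact H _ (Ideal.mem_map_of_mem _ ha)
  · intro H
    let Ann : Ideal Γ(X', W.1) :=
      LinearMap.ker (LinearMap.toSpanSingleton Γ(X', W.1) _ m')
    have hle : Ideal.map (g'.app V.1).hom ((E ^ n).ideal V) ≤ Ann := by
      rw [Ideal.map_le_iff_le_comap]
      intro a ha
      show (g'.app V.1).hom a • m' = 0
      rw [← hsemi a m, H a ha, map_zero]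
      rfl
    intro a ha
    exact hle ha

theorem result' {X Y S S' : Scheme.{u}} (hX : X ⟶ S) (hY : Y ⟶ S) (g : X ⟶ Y) [IsAffineHom g]
    (h : g ≫ hY = hX) (𝓘 : S.IdealSheafData) (b : S' ⟶ S) (hb : BlowUp.IsBlowUp b 𝓘) (F : X.Modules) (hF : Coh.IsQCoh F)
    (F' : (pullback hX b).Modules) (π : (Scheme.Modules.pullback (pullback.fst hX b)).obj F ⟶ F')
    (hπ : BlowUp.IsStrictTransform (pullback.fst hX b) (𝓘.comap hX) F F' π) :
    ∃ π' : (Scheme.Modules.pullback (pullback.fst hY b)).obj ((Scheme.Modules.pushforward g).obj F) ⟶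
        (Scheme.Modules.pushforward (pullback.map hX b hY b g (𝟙 S') (𝟙 S)
          ((Category.comp_id hX).trans h.symm) ((Category.comp_id b).trans (Category.id_comp b).symm))).obj F',
      BlowUp.IsStrictTransform (pullback.fst hY b) (𝓘.comap hY) ((Scheme.Modules.pushforward g).obj F)
        ((Scheme.Modules.pushforward (pullback.map hX b hY b g (𝟙 S') (𝟙 S)
          ((Category.comp_id hX).trans h.symm) ((Category.comp_id b).trans (Category.id_comp b).symm))).obj F') π' := by
  haveI : F.IsQuasicoherent := hF
  have sq := isPullback_map hX hY g h b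
  have hEY : IsLocPrincipal (BlowUp.exceptional (pullback.fst hY b) (𝓘.comap hY)) := by
    have h1 : BlowUp.exceptional (pullback.fst hY b) (𝓘.comap hY) =
        (𝓘.comap b).comap (pullback.snd hY b) := by
      show (𝓘.comap hY).comap (pullback.fst hY b) = _
      rw [← Scheme.IdealSheafData.comap_comp, ← Scheme.IdealSheafData.comap_comp,
        pullback.condition]
    rw [h1]
    exact isLocPrincipal_comap (isLocPrincipal_of_isEffCartier hb.1) _
  have hEX : BlowUp.exceptional (pullback.fst hX b) (𝓘.comap hX) =
      (BlowUp.exceptional (pullback.fst hY b) (𝓘.comap hY)).comap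
        (pullback.map hX b hY b g (𝟙 S') (𝟙 S)
          ((Category.comp_id hX).trans h.symm)
          ((Category.comp_id b).trans (Category.id_comp b).symm)) := by
    show (𝓘.comap hX).comap (pullback.fst hX b) = ((𝓘.comap hY).comap (pullback.fst hY b)).comap _
    rw [← Scheme.IdealSheafData.comap_comp, ← Scheme.IdealSheafData.comap_comp,
      ← Scheme.IdealSheafData.comap_comp]
    congr 1
    rw [← sq.w, Category.assoc, h]
  obtain ⟨π', hπ'e, hπ'⟩ := exists_strictTransform_push g (pullback.fst hY b) (pullback.fst hX b) _ sq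
    _ hEY F F' π hπ.1 (by rw [← hEX]; exact hπ.2)
  exact ⟨π', hπ'e, hπ'⟩


/-- Let S be a scheme, 𝓘 a quasi-coherent ideal sheaf on S with closed subscheme Z, b : S' ⟶ S a blowing
up of S in Z, g : X ⟶ Y an affine morphism of schemes over S, F a quasi-coherent O_X-module, and π :
pr_X^*F ⟶ F' a strict transform of F along b (on X ×_S S'). Write g' : X ×_S S' ⟶ Y ×_S S' for the
base change of g. Then g'_*F' is a strict transform of g_*F along b: there is an epimorphism
pr_Y^*(g_*F) ⟶ g'_*F' whose kernel consists, affine-locally, exactly of the sections annihilated by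
a power of the inverse image of 𝓘. The published statement identifies g'_*F' with the strict
transform through the canonical base-change isomorphism; this row asserts only that some epimorphism
from pr_Y^*(g_*F) onto g'_*F' has the strict-transform property. -/
theorem result {X Y S S' : Scheme.{u}} (hX : X ⟶ S) (hY : Y ⟶ S) (g : X ⟶ Y) [IsAffineHom g]
    (h : g ≫ hY = hX) (𝓘 : S.IdealSheafData) (b : S' ⟶ S) (hb : BlowUp.IsBlowUp b 𝓘) (F : X.Modules) (hF : Coh.IsQCoh F)
    (F' : (pullback hX b).Modules) (π : (Scheme.Modules.pullback (pullback.fst hX b)).obj F ⟶ F')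
    (hπ : BlowUp.IsStrictTransform (pullback.fst hX b) (𝓘.comap hX) F F' π) :
    ∃ π' : (Scheme.Modules.pullback (pullback.fst hY b)).obj ((Scheme.Modules.pushforward g).obj F) ⟶
        (Scheme.Modules.pushforward (pullback.map hX b hY b g (𝟙 S') (𝟙 S)
          ((Category.comp_id hX).trans h.symm) ((Category.comp_id b).trans (Category.id_comp b).symm))).obj F',
      BlowUp.IsStrictTransform (pullback.fst hY b) (𝓘.comap hY) ((Scheme.Modules.pushforward g).obj F)
        ((Scheme.Modules.pushforward (pullback.map hX b hY b g (𝟙 S') (𝟙 S)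
          ((Category.comp_id hX).trans h.symm) ((Category.comp_id b).trans (Category.id_comp b).symm))).obj F') π' := by
  exact result' hX hY g h 𝓘 b hb F hF F' π hπ

end Groth.Agent.S8922
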