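import Groth.Statements.S8924
import Mathlib

set_option autoImplicit false
universe u v
open InjHull

namespace Groth.Agent.S8924

/-- For a submodule M of an R-module N, the inclusion of M into N is an essential injection if and only
if every nonzero element x of N has a multiple f • x which is a nonzero element of M. -/
theorem result (R : Type u) [CommRing R] (N : Type v) [AddCommGroup N] [Module R N] (M : Submodule R N) : InjHull.IsEssentialInj M.subtype ↔ ∀ x : N, x ≠ 0 → ∃ f : R, f • x ∈ M ∧ f • x ≠ 0 := by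
  constructor
  · intro h x hx
    have h1 := h.essential (Submodule.span R {x}) (by rwa [Ne, Submodule.span_singleton_eq_bot])
    obtain ⟨y, hy, hy0⟩ := Submodule.exists_mem_ne_zero_of_ne_bot h1
    obtain ⟨hy1, ⟨m, rfl⟩⟩ := hy
    obtain ⟨a, ha⟩ := Submodule.mem_span_singleton.mp hy1
    refine ⟨a, ?_, ?_⟩
    · rw [ha]; exact m.2
    · rw [ha]; exact hy0
  · intro h
    refine ⟨M.injective_subtype, fun N' hN' => ?_⟩
    obtain ⟨x, hx, hx0⟩ := Submodule.exists_mem_ne_zero_of_ne_bot hN'
    obtain ⟨a, ha, ha0⟩ := h x hx0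
    intro hbot
    have hmem : a • x ∈ N' ⊓ LinearMap.range M.subtype :=
      ⟨N'.smul_mem a hx, ⟨⟨a • x, ha⟩, rfl⟩⟩
    rw [hbot, Submodule.mem_bot] at hmem
    exact ha0 hmem

end Groth.Agent.S8924
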