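import Groth.Statements.S8926
import Mathlib.Algebra.Algebra.Epi
import Mathlib.Algebra.Module.Injective

set_option autoImplicit false
universe u
open InjHull

namespace Groth.Agent.S8926

/-- Suppose R → S is an epimorphism of rings and E is an S-module whose underlying R-module (via
restriction of scalars) is injective; then E is injective as an S-module as well. -/
theorem result (R S : Type u) [CommRing R] [CommRing S] [Algebra R S] [Algebra.IsEpi R S] (E : Type u) [AddCommGroup E] [Module S E] [Module R E] [IsScalarTower R S E] [Module.Injective R E] : Module.Injective S E := by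
  refine Module.Baer.injective ?_
  intro J g
  obtain ⟨h, hh⟩ := Module.Injective.extension_property R E J S
    ((Submodule.subtype J).restrictScalars R) Subtype.val_injective (g.restrictScalars R)
  -- the `R`-bilinear map `(s, t) ↦ s • h t`
  let Φ : TensorProduct R S S →ₗ[R] E := TensorProduct.lift
    (LinearMap.mk₂ R (fun s t : S => s • h t)
      (fun s₁ s₂ t => add_smul _ _ _)
      (fun r s t => smul_assoc _ _ _)
      (fun s t₁ t₂ => by rw [map_add, smul_add])
      (fun r s t => by rw [map_smul, smul_comm]))
  have hten : ∀ s t : S, (1 : S) ⊗ₜ[R] (s * t) = s ⊗ₜ[R] t := by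
    intro s t
    have h1 := (Algebra.isEpi_iff_forall_one_tmul_eq R S).1 inferInstance
    calc (1 : S) ⊗ₜ[R] (s * t) = (s * t) ⊗ₜ[R] (1 : S) := h1 _
      _ = (s ⊗ₜ[R] (1 : S)) * (t ⊗ₜ[R] (1 : S)) := by
        rw [Algebra.TensorProduct.tmul_mul_tmul, mul_one]
      _ = (s ⊗ₜ[R] (1 : S)) * ((1 : S) ⊗ₜ[R] t) := by rw [h1 t]
      _ = s ⊗ₜ[R] t := by rw [Algebra.TensorProduct.tmul_mul_tmul, mul_one, one_mul]
  have key : ∀ s t : S, h (s * t) = s • h t := by
    intro s t
    have := congrArg Φ (hten s t)
    simpa [Φ] using this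
  refine ⟨{ toFun := h, map_add' := h.map_add, map_smul' := fun s t => by simpa using key s t },
    fun x hx => ?_⟩
  exact congr($hh ⟨x, hx⟩)

end Groth.Agent.S8926
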