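import Groth.Statements.S8927
import Mathlib

set_option autoImplicit false
universe u
open Disc

namespace Groth.Agent.S8927

/-- For a map A → B of Noetherian rings such that the localization B_q is flat over A for every
associated prime q of B, every nonzerodivisor of A maps to a nonzerodivisor of B. -/
theorem result (A B : Type u) [CommRing A] [CommRing B] [IsNoetherianRing A] [IsNoetherianRing B] [Algebra A B] (h3 : ∀ (q : Ideal B) [q.IsPrime], IsAssociatedPrime q B → Module.Flat A (Localization.AtPrime q)) : nonZeroDivisors A ≤ (nonZeroDivisors B).comap (algebraMap A B) := by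
  intro a ha
  rw [Submonoid.mem_comap]
  by_contra hnot
  have hmem : algebraMap A B a ∈ ⋃ p ∈ associatedPrimes B B, (p : Set B) := by
    rw [biUnion_associatedPrimes_eq_compl_nonZeroDivisors]
    exact hnot
  simp only [Set.mem_iUnion] at hmem
  obtain ⟨q, hq, haq⟩ := hmem
  have hq' : IsAssociatedPrime q B := hq
  have hqp : q.IsPrime := hq'.isPrime
  obtain ⟨_, x, hx⟩ := (isAssociatedPrime_iff).mp hq'
  have hflat := h3 q hq'
  have hreg : IsSMulRegular (Localization.AtPrime q) a :=
    Module.Flat.isSMulRegular_of_nonZeroDivisors ha
  have hax : algebraMap A B a * x = 0 := by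
    have h1 : algebraMap A B a ∈ (Submodule.colon (⊥ : Submodule B B) {x}) := by
      rw [← hx]; exact haq
    rw [Submodule.mem_colon_singleton, Submodule.mem_bot] at h1
    simpa using h1
  have h0 : a • (algebraMap B (Localization.AtPrime q) x) = 0 := by
    rw [algebra_compatible_smul B a, Algebra.smul_def, ← map_mul, hax, map_zero]
  have h1 : algebraMap B (Localization.AtPrime q) x = 0 := hreg (by show a • _ = a • 0; rw [h0, smul_zero])
  rw [IsLocalization.map_eq_zero_iff q.primeCompl] at h1
  obtain ⟨s, hs⟩ := h1
  apply s.2
  show (s : B) ∈ q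
  have h2 : (s : B) ∈ (Submodule.colon (⊥ : Submodule B B) {x}) := by
    rw [Submodule.mem_colon_singleton, Submodule.mem_bot]
    simpa using hs
  exact hx ▸ h2

end Groth.Agent.S8927
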