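import Groth.Statements.S8928
import Mathlib.RingTheory.Flat.Localization
import Mathlib.RingTheory.Localization.BaseChange
import Mathlib.RingTheory.Localization.LocalizationLocalization
import Mathlib.RingTheory.Ideal.AssociatedPrime.Finiteness
-- import your own Groth.Agent.* helpers here

set_option autoImplicit false
universe u
open scoped TensorProduct
open Disc

namespace Groth.Agent.S8928

open TensorProduct in
lemma flat_atPrime_of_disjoint (A B : Type u) [CommRing A] [CommRing B] [Algebra A B]
    (h2 : Module.Flat (FractionRing A) (FractionRing A ⊗[A] B))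
    (q : Ideal B) [q.IsPrime] (hq : ∀ s ∈ nonZeroDivisors A, algebraMap A B s ∉ q) :
    Module.Flat A (Localization.AtPrime q) := by
  let _ : Algebra B (FractionRing A ⊗[A] B) := Algebra.TensorProduct.rightAlgebra
  have hloc : IsLocalization (Algebra.algebraMapSubmonoid B (nonZeroDivisors A))
      (FractionRing A ⊗[A] B) := IsLocalization.tensorRight (FractionRing A) (nonZeroDivisors A)
  have hle : Algebra.algebraMapSubmonoid B (nonZeroDivisors A) ≤ q.primeCompl := by
    rintro _ ⟨s, hs, rfl⟩
    exact hq s hs
  let _ : Algebra (FractionRing A ⊗[A] B) (Localization.AtPrime q) :=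
    IsLocalization.localizationAlgebraOfSubmonoidLe (FractionRing A ⊗[A] B)
      (Localization.AtPrime q) _ q.primeCompl hle
  have hst : IsScalarTower B (FractionRing A ⊗[A] B) (Localization.AtPrime q) :=
    IsLocalization.localization_isScalarTower_of_submonoid_le _ _ _ q.primeCompl hle
  have hloc2 : IsLocalization (q.primeCompl.map (algebraMap B (FractionRing A ⊗[A] B)))
      (Localization.AtPrime q) :=
    IsLocalization.isLocalization_of_submonoid_le (FractionRing A ⊗[A] B) _ _ q.primeCompl hle
  have hflat1 : Module.Flat (FractionRing A ⊗[A] B) (Localization.AtPrime q) :=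
    IsLocalization.flat _ (q.primeCompl.map (algebraMap B (FractionRing A ⊗[A] B)))
  let _ : Algebra (FractionRing A) (Localization.AtPrime q) :=
    ((algebraMap (FractionRing A ⊗[A] B) (Localization.AtPrime q)).comp
      (algebraMap (FractionRing A) (FractionRing A ⊗[A] B))).toAlgebra
  have hst2 : IsScalarTower (FractionRing A) (FractionRing A ⊗[A] B) (Localization.AtPrime q) := by
    refine ⟨fun x y z => ?_⟩
    rw [Algebra.smul_def (x • y) z, Algebra.smul_def y z, Algebra.smul_def x, Algebra.smul_def x y,
      map_mul, mul_assoc]
    rfl
  have hflat2 : Module.Flat (FractionRing A) (Localization.AtPrime q) :=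
    Module.Flat.trans (FractionRing A) (FractionRing A ⊗[A] B) _
  have hst3 : IsScalarTower A (FractionRing A) (Localization.AtPrime q) := by
    refine IsScalarTower.of_algebraMap_eq' ?_
    ext a
    rw [IsScalarTower.algebraMap_apply A B (Localization.AtPrime q)]
    rw [IsScalarTower.algebraMap_apply B (FractionRing A ⊗[A] B) (Localization.AtPrime q)]
    change _ = algebraMap (FractionRing A ⊗[A] B) (Localization.AtPrime q)
      (algebraMap (FractionRing A) (FractionRing A ⊗[A] B) (algebraMap A (FractionRing A) a))
    congr 1
    rw [Algebra.TensorProduct.algebraMap_apply, Algebra.TensorProduct.right_algebraMap_apply]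
    rw [Algebra.algebraMap_self, RingHom.id_apply, Algebra.algebraMap_eq_smul_one a,
      Algebra.algebraMap_eq_smul_one a, TensorProduct.smul_tmul]
  have hflat3 : Module.Flat A (FractionRing A) := IsLocalization.flat _ (nonZeroDivisors A)
  exact Module.Flat.trans A (FractionRing A) _

/-- Let A → B be a map of Noetherian rings such that nonzerodivisors of A map to nonzerodivisors of B
and Q(A) ⊗_A B is flat over the total ring of fractions Q(A). Then B_q is flat over A for every
associated prime q of B and for every prime q of B lying over an associated prime of A. -/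
theorem result (A B : Type u) [CommRing A] [CommRing B] [IsNoetherianRing A] [IsNoetherianRing B] [Algebra A B] (h1 : nonZeroDivisors A ≤ (nonZeroDivisors B).comap (algebraMap A B)) (h2 : Module.Flat (FractionRing A) (FractionRing A ⊗[A] B)) : (∀ (q : Ideal B) [q.IsPrime], IsAssociatedPrime q B → Module.Flat A (Localization.AtPrime q)) ∧ (∀ (q : Ideal B) [q.IsPrime], IsAssociatedPrime (q.comap (algebraMap A B)) A → Module.Flat A (Localization.AtPrime q)) := by
  constructor
  · intro q _ hq
    apply flat_atPrime_of_disjoint A B h2 q
    intro s hs hsq
    have h3 : algebraMap A B s ∈ ⋃ p ∈ associatedPrimes B B, (p : Set B) :=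
      Set.mem_biUnion (show q ∈ associatedPrimes B B from hq) hsq
    rw [biUnion_associatedPrimes_eq_compl_nonZeroDivisors] at h3
    exact h3 (h1 hs)
  · intro q _ hq
    apply flat_atPrime_of_disjoint A B h2 q
    intro s hs hsq
    have h3 : s ∈ ⋃ p ∈ associatedPrimes A A, (p : Set A) :=
      Set.mem_biUnion (show q.comap (algebraMap A B) ∈ associatedPrimes A A from hq) hsq
    rw [biUnion_associatedPrimes_eq_compl_nonZeroDivisors] at h3
    exact h3 hs

end Groth.Agent.S8928
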