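import Groth.Statements.S8929
import Mathlib.RingTheory.Flat.Localization
import Mathlib.RingTheory.Localization.BaseChange
import Mathlib.RingTheory.Localization.LocalizationLocalization
import Mathlib.RingTheory.Ideal.AssociatedPrime.Finiteness
-- import your own Groth.Agent.* helpers here

set_option autoImplicit false
universe u
open scoped TensorProduct
open Disc

namespace Groth.Agent.S8929

lemma flat_of_le (A B : Type u) [CommRing A] [CommRing B] [Algebra A B]
    (q q' : Ideal B) [q.IsPrime] [q'.IsPrime] (hle : q ≤ q')
    (h : Module.Flat A (Localization.AtPrime q')) : Module.Flat A (Localization.AtPrime q) := by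
  have hle' : q'.primeCompl ≤ q.primeCompl := fun x hx hxq => hx (hle hxq)
  let _ : Algebra (Localization.AtPrime q') (Localization.AtPrime q) :=
    IsLocalization.localizationAlgebraOfSubmonoidLe (Localization.AtPrime q')
      (Localization.AtPrime q) q'.primeCompl q.primeCompl hle'
  have hst : IsScalarTower B (Localization.AtPrime q') (Localization.AtPrime q) :=
    IsLocalization.localization_isScalarTower_of_submonoid_le _ _ _ q.primeCompl hle'
  have hloc2 : IsLocalization (q.primeCompl.map (algebraMap B (Localization.AtPrime q')))
      (Localization.AtPrime q) :=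
    IsLocalization.isLocalization_of_submonoid_le (Localization.AtPrime q') _ q'.primeCompl
      q.primeCompl hle'
  have hflat1 : Module.Flat (Localization.AtPrime q') (Localization.AtPrime q) :=
    IsLocalization.flat _ (q.primeCompl.map (algebraMap B (Localization.AtPrime q')))
  have hst3 : IsScalarTower A (Localization.AtPrime q') (Localization.AtPrime q) := by
    refine IsScalarTower.of_algebraMap_eq' ?_
    ext a
    rw [IsScalarTower.algebraMap_apply A B (Localization.AtPrime q),
      IsScalarTower.algebraMap_apply B (Localization.AtPrime q') (Localization.AtPrime q),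
      RingHom.comp_apply, IsScalarTower.algebraMap_apply A B (Localization.AtPrime q')]
  exact Module.Flat.trans A (Localization.AtPrime q') _

lemma flat_atPrime_of_disjoint' (A B : Type u) [CommRing A] [CommRing B] [IsNoetherianRing A]
    [Algebra A B] [Algebra.HasGoingUp A B]
    (h4 : ∀ (q : Ideal B) [q.IsPrime], IsAssociatedPrime (q.comap (algebraMap A B)) A →
      Module.Flat A (Localization.AtPrime q))
    (q : Ideal B) [q.IsPrime] (hq : ∀ s ∈ nonZeroDivisors A, algebraMap A B s ∉ q) :
    Module.Flat A (Localization.AtPrime q) := by
  have hdisj : Disjoint ((q.comap (algebraMap A B) : Ideal A) : Set A) (nonZeroDivisors A) := by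
    rw [Set.disjoint_left]
    intro s hs hs'
    exact hq s hs' hs
  obtain ⟨p', hp', hle⟩ : ∃ P ∈ associatedPrimes A A, q.comap (algebraMap A B) ≤ P :=
    ((q.comap (algebraMap A B)).subset_union_prime_finite (associatedPrimes.finite ..) (f := id) 0 0
      fun _ h _ _ ↦ h.1).1 <|
    biUnion_associatedPrimes_eq_compl_nonZeroDivisors A ▸ hdisj.subset_compl_right
  have : p'.IsPrime := hp'.isPrime
  have : q.LiesOver (q.comap (algebraMap A B)) := ⟨rfl⟩
  obtain ⟨q', hqq', hq'prime, hq'over⟩ :=
    Ideal.exists_ideal_ge_liesOver_of_le (p := q.comap (algebraMap A B)) (q := p') q hle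
  have h5 : Module.Flat A (Localization.AtPrime q') := by
    apply h4 q'
    rw [← Ideal.under_def, ← hq'over.over]
    exact hp'
  exact flat_of_le A B q q' hqq' h5

/-- Let A → B be a map of Noetherian rings with the going-up property. If B_q is flat over A for every
associated prime q of B and for every prime q of B lying over an associated prime of A, then Q(A)
⊗_A B is flat over the total ring of fractions Q(A). -/
theorem result (A B : Type u) [CommRing A] [CommRing B] [IsNoetherianRing A] [IsNoetherianRing B] [Algebra A B] [Algebra.HasGoingUp A B] (h3 : ∀ (q : Ideal B) [q.IsPrime], IsAssociatedPrime q B → Module.Flat A (Localization.AtPrime q)) (h4 : ∀ (q : Ideal B) [q.IsPrime], IsAssociatedPrime (q.comap (algebraMap A B)) A → Module.Flat A (Localization.AtPrime q)) : Module.Flat (FractionRing A) (FractionRing A ⊗[A] B) := by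
  let _ : Algebra B (FractionRing A ⊗[A] B) := Algebra.TensorProduct.rightAlgebra
  have hloc : IsLocalization (Algebra.algebraMapSubmonoid B (nonZeroDivisors A))
      (FractionRing A ⊗[A] B) := IsLocalization.tensorRight (FractionRing A) (nonZeroDivisors A)
  have hABB' : IsScalarTower A B (FractionRing A ⊗[A] B) := by
    refine IsScalarTower.of_algebraMap_eq fun a => ?_
    rw [Algebra.TensorProduct.algebraMap_apply, Algebra.TensorProduct.right_algebraMap_apply,
      Algebra.algebraMap_eq_smul_one a, Algebra.algebraMap_eq_smul_one a, TensorProduct.smul_tmul]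
  refine Module.flat_of_isLocalized_maximal (FractionRing A ⊗[A] B) (FractionRing A ⊗[A] B)
    (fun P _ => Localization.AtPrime P) (fun P _ => Algebra.linearMap _ _) ?_
  intro P hP
  have hqloc : IsLocalization.AtPrime (Localization.AtPrime P)
      (P.comap (algebraMap B (FractionRing A ⊗[A] B))) :=
    IsLocalization.isLocalization_isLocalization_atPrime_isLocalization
      (Algebra.algebraMapSubmonoid B (nonZeroDivisors A)) _ P
  have hq : ∀ s ∈ nonZeroDivisors A,
      algebraMap A B s ∉ P.comap (algebraMap B (FractionRing A ⊗[A] B)) := by
    intro s hs hsq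
    have hu : IsUnit (algebraMap B (FractionRing A ⊗[A] B) (algebraMap A B s)) :=
      IsLocalization.map_units _
        (⟨algebraMap A B s, ⟨s, hs, rfl⟩⟩ : Algebra.algebraMapSubmonoid B (nonZeroDivisors A))
    exact hP.ne_top (Ideal.eq_top_of_isUnit_mem _ hsq hu)
  have hflatq : Module.Flat A
      (Localization.AtPrime (P.comap (algebraMap B (FractionRing A ⊗[A] B)))) :=
    flat_atPrime_of_disjoint' A B h4 _ hq
  let e : Localization.AtPrime (P.comap (algebraMap B (FractionRing A ⊗[A] B))) ≃ₐ[B]
      Localization.AtPrime P :=
    IsLocalization.algEquiv (P.comap (algebraMap B (FractionRing A ⊗[A] B))).primeCompl _ _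
  have hABP : IsScalarTower A B (Localization.AtPrime P) := by
    refine IsScalarTower.of_algebraMap_eq fun a => ?_
    rw [IsScalarTower.algebraMap_apply A (FractionRing A ⊗[A] B) (Localization.AtPrime P),
      IsScalarTower.algebraMap_apply B (FractionRing A ⊗[A] B) (Localization.AtPrime P),
      IsScalarTower.algebraMap_apply A B (FractionRing A ⊗[A] B)]
  have hflatP : Module.Flat A (Localization.AtPrime P) :=
    Module.Flat.of_linearEquiv (e.symm.toLinearEquiv.restrictScalars A)
  exact (Module.flat_iff_of_isLocalization (FractionRing A) (nonZeroDivisors A) _).2 hflatP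

end Groth.Agent.S8929
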