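import Groth.Statements.S8930
import Mathlib

set_option autoImplicit false
universe u
open AlgebraicGeometry
open Disc

namespace Groth.Agent.S8930

open CategoryTheory CategoryTheory.Limits

lemma isPullback_of_mono' {C : Type*} [Category C] {X V Y : C} (σ : X ⟶ V) (m : V ⟶ Y) [Mono m] :
    IsPullback σ (𝟙 X) m (σ ≫ m) :=
  ⟨⟨by simp⟩, ⟨PullbackCone.IsLimit.mk _ (fun s => s.snd)
    (fun s => by rw [← cancel_mono m, Category.assoc, s.condition])
    (fun s => by simp)
    (fun s l _ h2 => by simpa using h2)⟩⟩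

/-- If `f ≫ g` is an open immersion, `g` is separated and `f` is quasi-compact and
scheme-theoretically dominant, then `f` is an open immersion. -/
theorem isOpenImmersion_of_comp_of_ker_eq_bot {X Y Z : Scheme.{u}} (f : X ⟶ Y) (g : Y ⟶ Z)
    [IsSeparated g] [IsOpenImmersion (f ≫ g)] [QuasiCompact f] (hker : f.ker = ⊥) :
    IsOpenImmersion f := by
  let h : X ⟶ Z := f ≫ g
  let pr₁ : pullback g h ⟶ Y := pullback.fst g h
  let pr₂ : pullback g h ⟶ X := pullback.snd g h
  haveI : IsOpenImmersion pr₁ := inferInstance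
  haveI : IsSeparated pr₂ := inferInstance
  let σ : X ⟶ pullback g h := pullback.lift f (𝟙 X) (by simp [h])
  have hσ1 : σ ≫ pr₁ = f := pullback.lift_fst _ _ _
  have hσ2 : σ ≫ pr₂ = 𝟙 X := pullback.lift_snd _ _ _
  haveI : IsClosedImmersion (σ ≫ pr₂) := by rw [hσ2]; infer_instance
  haveI : IsClosedImmersion σ := IsClosedImmersion.of_comp σ pr₂
  have H : IsPullback σ (𝟙 X) pr₁ f := by
    have := isPullback_of_mono' σ pr₁
    rwa [hσ1] at this
  have hkσ : σ.ker = ⊥ := by
    apply Scheme.IdealSheafData.ext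
    funext W
    rw [Scheme.ker_ideal_of_isPullback_of_isOpenImmersion f σ (𝟙 X) pr₁ H W, hker]
    simp only [Scheme.IdealSheafData.ideal_bot, Pi.bot_apply]
    refine (Ideal.comap_bot_of_injective _ ?_)
    exact (ConcreteCategory.bijective_of_isIso (pr₁.appIso W).inv).1
  haveI : IsIso σ := IsClosedImmersion.isIso_iff_ker_eq_bot.mpr hkσ
  rw [← hσ1]
  infer_instance

theorem ker_SpecMap_eq_bot {R T : CommRingCat.{u}} (φ : R ⟶ T) (hφ : Function.Injective φ.hom) :
    (Spec.map φ).ker = ⊥ := by
  apply Scheme.IdealSheafData.ext_of_isAffine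
  rw [Scheme.Hom.ker_apply, Scheme.IdealSheafData.ideal_bot, Pi.bot_apply, ← le_bot_iff]
  intro x hx
  rw [RingHom.mem_ker] at hx
  have h1 : (Spec.map φ).appTop ≫ (Scheme.ΓSpecIso T).hom = (Scheme.ΓSpecIso R).hom ≫ φ :=
    Scheme.ΓSpecIso_naturality φ
  have h2 : φ.hom ((Scheme.ΓSpecIso R).hom.hom x) = 0 := by
    have := congrArg (fun m => m.hom x) h1
    simp only [CommRingCat.hom_comp, RingHom.comp_apply] at this
    rw [← this]
    have hx' : (Spec.map φ).appTop.hom x = 0 := hx
    rw [hx', map_zero]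
  have h3 : (Scheme.ΓSpecIso R).hom.hom x = 0 := hφ (by rw [h2, map_zero])
  have h4 : x = 0 :=
    (ConcreteCategory.bijective_of_isIso (Scheme.ΓSpecIso R).hom).1 (by rw [h3, map_zero])
  exact h4


/-- Given two factorizations A → B' → B and A → B'' → B of a ring map with A → B' and A → B'' finite and
Spec(B) → Spec(B'), Spec(B) → Spec(B'') open immersions, there is an A-subalgebra C of B which is
finite over A, contains the images of B' and B'', and is such that Spec(B) → Spec(C) is an open
immersion. (Such an A → B is quasi-finite; that hypothesis of the published statement is implied by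
the factorizations and is not repeated.) -/
theorem result (A B B' B'' : Type u) [CommRing A] [CommRing B] [CommRing B'] [CommRing B''] [Algebra A B] [Algebra A B'] [Algebra A B''] [Algebra B' B] [Algebra B'' B] [IsScalarTower A B' B] [IsScalarTower A B'' B] [Module.Finite A B'] [Module.Finite A B''] (h' : IsOpenImmersion (Spec.map (CommRingCat.ofHom (algebraMap B' B)))) (h'' : IsOpenImmersion (Spec.map (CommRingCat.ofHom (algebraMap B'' B)))) : ∃ C : Subalgebra A B, Module.Finite A C ∧ Set.range (algebraMap B' B) ⊆ (C : Set B) ∧ Set.range (algebraMap B'' B) ⊆ (C : Set B) ∧ IsOpenImmersion (Spec.map (CommRingCat.ofHom C.val.toRingHom)) := by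
  let φ' : B' →ₐ[A] B := IsScalarTower.toAlgHom A B' B
  let φ'' : B'' →ₐ[A] B := IsScalarTower.toAlgHom A B'' B
  let C : Subalgebra A B := φ'.range ⊔ φ''.range
  haveI : Module.Finite A φ'.range :=
    Module.Finite.of_surjective φ'.rangeRestrict.toLinearMap φ'.rangeRestrict_surjective
  haveI : Module.Finite A φ''.range :=
    Module.Finite.of_surjective φ''.rangeRestrict.toLinearMap φ''.rangeRestrict_surjective
  haveI : Module.Finite A C := Subalgebra.finite_sup _ _
  have hC' : ∀ b : B', algebraMap B' B b ∈ C := fun b =>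
    (le_sup_left : φ'.range ≤ C) ⟨b, rfl⟩
  have hC'' : ∀ b : B'', algebraMap B'' B b ∈ C := fun b =>
    (le_sup_right : φ''.range ≤ C) ⟨b, rfl⟩
  refine ⟨C, inferInstance, ?_, ?_, ?_⟩
  · rintro _ ⟨b, rfl⟩; exact hC' b
  · rintro _ ⟨b, rfl⟩; exact hC'' b
  · let ψ : B' →+* C := (φ'.codRestrict C hC').toRingHom
    have hcomp : C.val.toRingHom.comp ψ = algebraMap B' B := by
      ext b; rfl
    let f : Spec (CommRingCat.of B) ⟶ Spec (CommRingCat.of C) :=
      Spec.map (CommRingCat.ofHom C.val.toRingHom)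
    let g : Spec (CommRingCat.of C) ⟶ Spec (CommRingCat.of B') := Spec.map (CommRingCat.ofHom ψ)
    have hfg : f ≫ g = Spec.map (CommRingCat.ofHom (algebraMap B' B)) := by
      rw [← Spec.map_comp, ← CommRingCat.ofHom_comp, hcomp]
    haveI : IsOpenImmersion (f ≫ g) := by rw [hfg]; exact h'
    haveI : IsSeparated g := inferInstance
    haveI : QuasiCompact f := inferInstance
    exact isOpenImmersion_of_comp_of_ker_eq_bot f g
      (ker_SpecMap_eq_bot _ (fun x y hxy => Subtype.ext hxy))

end Groth.Agent.S8930
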