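import Groth.Statements.S8931
import Mathlib
import Groth.Agent.Lib.Helper15.Fitting
import Groth.Agent.Lib.Helper15.FittLink

set_option autoImplicit false
universe u
open Disc

namespace Groth.Agent.S8931

open TensorProduct KaehlerDifferential
open Groth.Agent.Lib.helper15.Fitting Groth.Agent.Lib.helper15.FittLink

section aux
variable (A : Type u) [CommRing A] (n : ℕ) (f : Fin n → MvPolynomial (Fin n) A)

local notation "P" => MvPolynomial (Fin n) A
local notation "I" => Ideal.span (Set.range f)
local notation "B" => (MvPolynomial (Fin n) A ⧸ Ideal.span (Set.range f))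

/-- the generators dx_j -/
noncomputable def xb (j : Fin n) : Ω[B⁄A] := D A B (Ideal.Quotient.mk I (MvPolynomial.X j))

/-- the Jacobian rows -/
noncomputable def rows (i : Fin n) : Fin n → B := fun j => Ideal.Quotient.mk I (MvPolynomial.pderiv j (f i))

theorem D_eq (p : P) : D A P p = ∑ j, MvPolynomial.pderiv j p • D A P (MvPolynomial.X j) := by
  have h := (mvPolynomialBasis A (Fin n)).sum_repr (D A P p)
  rw [← h]
  refine Finset.sum_congr rfl fun j _ => ?_
  rw [mvPolynomialBasis_repr_apply, mvPolynomialBasis_apply]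

theorem D_mk (p : P) : D A B (Ideal.Quotient.mk I p) =
    ∑ j, Ideal.Quotient.mk I (MvPolynomial.pderiv j p) • xb A n f j := by
  have h := congrArg (KaehlerDifferential.map A A P B) (D_eq A n p)
  rw [KaehlerDifferential.map_D, map_sum] at h
  rw [show Ideal.Quotient.mk I p = algebraMap P B p from rfl, h]
  refine Finset.sum_congr rfl fun j _ => ?_
  rw [LinearMap.map_smul, KaehlerDifferential.map_D]
  rw [← algebraMap_smul B]
  rfl

theorem span_xb : Submodule.span B (Set.range (xb A n f)) = ⊤ := by
  rw [eq_top_iff, ← KaehlerDifferential.span_range_derivation, Submodule.span_le]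
  rintro _ ⟨b, rfl⟩
  obtain ⟨p, rfl⟩ := Ideal.Quotient.mk_surjective b
  rw [D_mk]
  exact Submodule.sum_mem _ fun j _ => Submodule.smul_mem _ _ (Submodule.subset_span ⟨j, rfl⟩)


/-- coefficient functional of dX_j on B ⊗[P] Ω[P/A] -/
noncomputable def coef (j : Fin n) : B ⊗[P] Ω[P⁄A] →ₗ[P] B :=
  (TensorProduct.rid P B).toLinearMap ∘ₗ
    LinearMap.lTensor B ((mvPolynomialBasis A (Fin n)).coord j)

theorem coef_tmul (j : Fin n) (b : B) (p : P) :
    coef A n f j (b ⊗ₜ[P] D A P p) = Ideal.Quotient.mk I (MvPolynomial.pderiv j p) * b := by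
  simp only [coef, LinearMap.coe_comp, LinearEquiv.coe_coe, Function.comp_apply,
    LinearMap.lTensor_tmul, TensorProduct.rid_tmul, Module.Basis.coord_apply,
    mvPolynomialBasis_repr_apply]
  rw [Algebra.smul_def (R := P) (A := B)]
  rfl

theorem rel_xb : rel B (xb A n f) = Submodule.span B (Set.range (rows A n f)) := by
  classical
  apply le_antisymm
  · intro v hv
    rw [mem_rel] at hv
    -- t
    set t : B ⊗[P] Ω[P⁄A] := ∑ j, v j ⊗ₜ[P] D A P (MvPolynomial.X j) with ht
    have hmap : KaehlerDifferential.mapBaseChange A P B t = 0 := by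
      rw [ht, map_sum, ← hv]
      refine Finset.sum_congr rfl fun j _ => ?_
      rw [KaehlerDifferential.mapBaseChange_tmul, KaehlerDifferential.map_D]
      rfl
    have hsurj : Function.Surjective (algebraMap P B) := Ideal.Quotient.mk_surjective
    obtain ⟨c, hc⟩ := (KaehlerDifferential.exact_kerCotangentToTensor_mapBaseChange A P B hsurj t).1 hmap
    obtain ⟨y, rfl⟩ := Ideal.toCotangent_surjective _ c
    rw [KaehlerDifferential.kerCotangentToTensor_toCotangent] at hc
    have hyI : (y : P) ∈ I := by
      have := y.2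
      rw [RingHom.mem_ker] at this
      exact Ideal.Quotient.eq_zero_iff_mem.1 this
    obtain ⟨a, ha⟩ := (Ideal.mem_span_range_iff_exists_fun).1 hyI
    -- coefficients
    have hvj : ∀ j, v j = ∑ i, Ideal.Quotient.mk I (a i) * rows A n f i j := by
      intro j
      have h1 := congrArg (coef A n f j) hc
      rw [coef_tmul, ht, map_sum] at h1
      have h2 : ∑ k, coef A n f j (v k ⊗ₜ[P] D A P (MvPolynomial.X k)) = v j := by
        rw [Finset.sum_eq_single j]
        · rw [coef_tmul, MvPolynomial.pderiv_X_self, map_one, one_mul]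
        · intro k _ hkj
          rw [coef_tmul, MvPolynomial.pderiv_X_of_ne hkj, map_zero, zero_mul]
        · intro h; exact absurd (Finset.mem_univ j) h
      rw [h2, mul_one] at h1
      rw [← h1, ← ha, map_sum, map_sum]
      refine Finset.sum_congr rfl fun i _ => ?_
      rw [Derivation.leibniz, map_add, smul_eq_mul, smul_eq_mul, map_mul, map_mul]
      have hfi : Ideal.Quotient.mk I (f i) = 0 :=
        Ideal.Quotient.eq_zero_iff_mem.2 (Ideal.subset_span ⟨i, rfl⟩)
      rw [hfi, zero_mul, add_zero]
      rfl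
    have : v = ∑ i, Ideal.Quotient.mk I (a i) • rows A n f i := by
      ext j
      rw [hvj j, Finset.sum_apply]
      rfl
    rw [this]
    exact Submodule.sum_mem _ fun i _ => Submodule.smul_mem _ _ (Submodule.subset_span ⟨i, rfl⟩)
  · rw [Submodule.span_le]
    rintro _ ⟨i, rfl⟩
    show rows A n f i ∈ rel B (xb A n f)
    rw [mem_rel]
    have := D_mk A n f (f i)
    have hfi : Ideal.Quotient.mk I (f i) = 0 :=
      Ideal.Quotient.eq_zero_iff_mem.2 (Ideal.subset_span ⟨i, rfl⟩)
    rw [hfi, map_zero] at this
    exact this.symm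

end aux


/-- For a ring A, n ≥ 1 and f_1, …, f_n in A[x_1, …, x_n], with B = A[x_1, …, x_n]/(f_1, …, f_n), the
zeroth Fitting ideal of Ω_{B/A} (the Kähler different of B over A) is generated by the image in B of
the Jacobian determinant det(∂f_i/∂x_j). -/
theorem result (A : Type u) [CommRing A] (n : ℕ) (hn : 1 ≤ n) (f : Fin n → MvPolynomial (Fin n) A) : Fitt.ideal (MvPolynomial (Fin n) A ⧸ Ideal.span (Set.range f)) (KaehlerDifferential A (MvPolynomial (Fin n) A ⧸ Ideal.span (Set.range f))) 0 = Ideal.span {Ideal.Quotient.mk (Ideal.span (Set.range f)) (Matrix.det (Matrix.of fun i j : Fin n => MvPolynomial.pderiv j (f i)))} := by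
  classical
  rw [fitt_eq (xb A n f) (span_xb A n f) 0, Nat.sub_zero, rel_xb, detIdeal_span]
  set Jb : Matrix (Fin n) (Fin n) (MvPolynomial (Fin n) A ⧸ Ideal.span (Set.range f)) :=
    Matrix.of fun i j => Ideal.Quotient.mk (Ideal.span (Set.range f)) (MvPolynomial.pderiv j (f i)) with hJb
  have hdet : Ideal.Quotient.mk (Ideal.span (Set.range f))
      (Matrix.det (Matrix.of fun i j : Fin n => MvPolynomial.pderiv j (f i))) = Jb.det := by
    rw [RingHom.map_det]
    rfl
  rw [hdet]
  apply le_antisymm
  · rw [Ideal.span_le]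
    rintro d ⟨z, e, hz, rfl⟩
    choose σ hσ using hz
    have h1 : (Matrix.of fun a b => z b (e a)) = (Jb.submatrix σ e).transpose := by
      ext a b
      simp only [Matrix.of_apply, Matrix.transpose_apply, Matrix.submatrix_apply, hJb]
      rw [← hσ b]
      rfl
    rw [h1, Matrix.det_transpose]
    have h2 : Jb.submatrix σ e =
        (1 : Matrix (Fin n) (Fin n) _).submatrix σ id * Jb.submatrix id id *
          (1 : Matrix (Fin n) (Fin n) _).submatrix id e := by
      rw [← Matrix.submatrix_mul _ _ σ id id Function.bijective_id,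
        ← Matrix.submatrix_mul _ _ σ id e Function.bijective_id, Matrix.one_mul, Matrix.mul_one]
    rw [h2, Matrix.det_mul, Matrix.det_mul, Matrix.submatrix_id_id]
    exact Ideal.mul_mem_right _ _ (Ideal.mul_mem_left _ _ (Ideal.mem_span_singleton_self _))
  · rw [Ideal.span_le, Set.singleton_subset_iff]
    apply Ideal.subset_span
    refine ⟨rows A n f, id, fun b => ⟨b, rfl⟩, ?_⟩
    rw [← Matrix.det_transpose]
    rfl

end Groth.Agent.S8931
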