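import Groth.Statements.S8932
import Mathlib
import Groth.Agent.Lib.Helper23.FieldBC1
import Groth.Agent.Lib.Helper23.RelDual7
-- import your own Groth.Agent.* helpers here

set_option autoImplicit false
universe u
open CategoryTheory
open scoped TensorProduct
attribute [local instance] HasDerivedCategory.standard
open Dual

namespace Groth.Agent.S8932

/-- For a field extension K/k, a finite type k-algebra A and a dualizing complex ω for A, the derived
base change of ω along A → K ⊗_k A is a dualizing complex for K ⊗_k A (the derived base change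
functor being assumed to exist). -/
theorem result (k K : Type u) [Field k] [Field K] [Algebra k K] (A : Type u) [CommRing A] [Algebra k A] [Algebra.FiniteType k A] [DRing.HasLBaseChange (Algebra.TensorProduct.includeRight : A →ₐ[k] K ⊗[k] A).toRingHom] (ω : Dual.D A) (hω : Dual.IsDualizing A ω) : Dual.IsDualizing (K ⊗[k] A) ((DRing.LBaseChange (Algebra.TensorProduct.includeRight : A →ₐ[k] K ⊗[k] A).toRingHom).obj ω) := by
  classical
  haveI : IsNoetherianRing A := Algebra.FiniteType.isNoetherianRing k A
  obtain ⟨n, ψ, hψ⟩ := Algebra.FiniteType.iff_quotient_mvPolynomial''.1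
    (inferInstance : Algebra.FiniteType k A)
  obtain ⟨Rψ, ⟨adj⟩⟩ := Groth.Agent.Lib.helper23.RHomEx.exists_rightAdjoint_restrictD ψ.toRingHom
  haveI : DRing.HasLBaseChange (algebraMap k (MvPolynomial (Fin n) k)) :=
    Groth.Agent.Lib.helper13.RKF.hasLBaseChange _
  let ω₀ : Dual.D A := Dual2.shriekVia n Rψ (Dual.inD k k)
  have hω₀ : Dual.IsDualizing A ω₀ :=
    Groth.Agent.S1782.result k A n ψ hψ Rψ adj (Dual.inD k k)
      (Groth.Agent.Lib.helper23.RelDual.isDualizing_field k)
  let B := K ⊗[k] A
  obtain ⟨ψ'', hψ''⟩ :=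
    Groth.Agent.Lib.helper23.RelDual.exists_presentation_baseChange k K A n ψ hψ
  haveI : IsNoetherianRing B := isNoetherianRing_of_surjective _ _ ψ''.toRingHom hψ''
  have h₀' : Dual.IsDualizing B ((DRing.LBaseChange
      (Algebra.TensorProduct.includeRight : A →ₐ[k] K ⊗[k] A).toRingHom).obj ω₀) :=
    Groth.Agent.Lib.helper23.RelDual.isDualizing_baseChange_field k A n ψ hψ Rψ adj K
  letI : Algebra A B := Algebra.TensorProduct.rightAlgebra
  haveI : Algebra.IsPushout k A K B := TensorProduct.isPushout'
  haveI : Module.Flat A B := Module.Flat.isBaseChange k A K B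
    (Algebra.IsPushout.out (R := k) (S := A) (R' := K) (S' := B))
  letI : Limits.PreservesFiniteLimits (ModuleCat.extendScalars.{u, u, u} (algebraMap A B)) :=
    Groth.Agent.Lib.helper23.FlatBC.preservesFiniteLimits_extendScalars_algebraMap
  have h₀ : Dual.IsDualizing B ((Groth.Agent.Lib.helper23.FBC.EE A B).obj ω₀) :=
    Groth.Agent.Lib.helper23.FBC.isDualizing_of_iso
      ((Groth.Agent.Lib.helper23.FlatBC.lbcIso (algebraMap A B)).app ω₀) h₀'
  have hdimB : ringKrullDim B < ⊤ := by
    have h1 : ringKrullDim B ≤ ringKrullDim (MvPolynomial (Fin n) K) :=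
      ringKrullDim_le_of_surjective ψ''.toRingHom hψ''
    have h2 : ringKrullDim (MvPolynomial (Fin n) K) = ringKrullDim K + Nat.card (Fin n) :=
      MvPolynomial.ringKrullDim_of_isNoetherianRing
    refine lt_of_le_of_lt h1 ?_
    rw [h2, ringKrullDim_eq_zero_of_field, zero_add]
    exact WithBot.coe_lt_coe.2 (WithTop.coe_lt_top _)
  have h := Groth.Agent.Lib.helper23.FieldBC.isDualizing_EE_of_exists hdimB ω₀ hω₀ h₀ ω hω
  exact Groth.Agent.Lib.helper23.FBC.isDualizing_of_iso
    ((Groth.Agent.Lib.helper23.FlatBC.lbcIso (algebraMap A B)).app ω).symm h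

end Groth.Agent.S8932
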