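import Groth.Statements.S8946
import Mathlib
import Groth.Agent.Lib.Helper19.HTSeq7

set_option autoImplicit false
universe u
open CategoryTheory
open LocCoh

namespace Groth.Agent.S8946




/-- Let A be a Noetherian ring of finite dimension, T ⊆ Spec A a specialization-stable subset, (M_n) an
inverse system of A-modules and i ≥ 0. Suppose m′(m) ≥ m is such that for every p ∈ T: the maps
H^{i-1}_{pA_p}(M_{k,p}) → H^{i-1}_{pA_p}(M_{m,p}) vanish for k ≥ m′(m) (no condition when i = 0),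
and the maps H^i_{pA_p}(M_{k,p}) → H^i_{pA_p}(M_{m,p}) have the same image for all k ≥ m′(m), this
image mapping injectively into H^i_{pA_p}(M_{0,p}). Then there is m₀ such that for every m ≥ m₀
there is m″ ≥ m such that for k ≥ m″ the image of H^i_T(M_k) → H^i_T(M_m) maps injectively into
H^i_T(M_{m₀}). -/
theorem result (A : Type u) [CommRing A] [IsNoetherianRing A] (hA : ringKrullDim A < ⊤) (T : Set (PrimeSpectrum A)) (hT : StableUnderSpecialization T) (M : ℕ → Type u) [∀ n, AddCommGroup (M n)] [∀ n, Module A (M n)] (φ : ∀ k m : ℕ, m ≤ k → (M k →ₗ[A] M m)) (hφ : ∀ (k l m : ℕ) (h₁ : m ≤ l) (h₂ : l ≤ k), φ k m (h₁.trans h₂) = φ l m h₁ ∘ₗ φ k l h₂) (i : ℕ) (m' : ℕ → ℕ) (hm' : ∀ m, m ≤ m' m) (h1 : 0 < i → ∀ (p : PrimeSpectrum A), p ∈ T → ∀ (m k : ℕ) (h : m ≤ k), m' m ≤ k → (localCohomology (IsLocalRing.maximalIdeal (Localization.AtPrime p.asIdeal)) (i - 1)).map (ModuleCat.ofHom (LocalizedModule.map p.asIdeal.primeCompl (φ k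 m h))) = 0) (h2 : ∀ (p : PrimeSpectrum A), p ∈ T → ∀ (m k : ℕ) (h : m ≤ k), m' m ≤ k → LinearMap.range ((localCohomology (IsLocalRing.maximalIdeal (Localization.AtPrime p.asIdeal)) i).map (ModuleCat.ofHom (LocalizedModule.map p.asIdeal.primeCompl (φ k m h)))).hom = LinearMap.range ((localCohomology (IsLocalRing.maximalIdeal (Localization.AtPrime p.asIdeal)) i).map (ModuleCat.ofHom (LocalizedModule.map p.asIdeal.primeCompl (φ (m' m) m (hm' m))))).hom) (h3 : ∀ (p : PrimeSpectrum A), p ∈ T → ∀ (m : ℕ) (x : ↑((localCohomology (IsLocalRing.maximalIdeal (Localization.AtPrime p.asIdeal)) i).obj (ModuleCat.of (Localization.AtPrime p.asIdeal) (LocalizedModule p.asIdeal.primeCompl (M m))))), x ∈ LinearMap.range ((localCohomology (IsLocalRing.maximalIdeal (Localization.AtPrime p.asIdeal)) i).map (ModuleCat.ofHom (LocalizedModule.map p.asIdeal.primeCompl (φ (m' m) m (hm' m))))).hom → ((localCohomology (IsLocalRing.maximalIdeal (Localization.AtPrime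 p.asIdeal)) i).map (ModuleCat.ofHom (LocalizedModule.map p.asIdeal.primeCompl (φ m 0 (Nat.zero_le m))))).hom x = 0 → x = 0) : ∃ m₀ : ℕ, ∀ m : ℕ, ∀ (hm : m₀ ≤ m), ∃ m'' : ℕ, m ≤ m'' ∧ ∀ (k : ℕ) (h : m ≤ k), m'' ≤ k → ∀ x : ↑((localCohomology.ofDiagram (Dual2.idealsInDiagram T) i).obj (ModuleCat.of A (M m))), x ∈ LinearMap.range ((localCohomology.ofDiagram (Dual2.idealsInDiagram T) i).map (ModuleCat.ofHom (φ k m h))).hom → ((localCohomology.ofDiagram (Dual2.idealsInDiagram T) i).map (ModuleCat.ofHom (φ m m₀ hm))).hom x = 0 → x = 0 := by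
  classical
  obtain ⟨e, he⟩ : ∃ e : ℕ, Order.krullDim ↥T ≤ (e : WithBot ℕ∞) := by
    have h1' : Order.krullDim ↥T ≤ ringKrullDim A :=
      Order.krullDim_le_of_strictMono (fun x : ↥T => (x : PrimeSpectrum A)) (fun _ _ h => h)
    have h2' : Order.krullDim ↥T < ⊤ := lt_of_le_of_lt h1' hA
    cases hd : Order.krullDim ↥T with
    | bot => exact ⟨0, bot_le⟩
    | coe n =>
      rw [hd] at h2'
      have hn : n ≠ ⊤ := by
        rintro rfl
        exact (lt_irrefl _ h2')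
      obtain ⟨e, rfl⟩ := ENat.ne_top_iff_exists.1 hn
      exact ⟨e, le_rfl⟩
  have hchain := Groth.Agent.Lib.helper19.HTSeq6.chainLT_of_krullDim_le T e he
  have hA1 : ∀ j : ℕ, i = j + 1 → ∀ p ∈ T, ∀ (m k : ℕ) (h : m ≤ k), m' m ≤ k →
      (Groth.Agent.Lib.helper19.HTSeq1.HTf (Groth.Agent.Lib.helper19.HTSeq5.Tp p) j).map
        ((Groth.Agent.Lib.helper19.HTSeq3.Lf p.asIdeal.primeCompl).map
          (ModuleCat.ofHom (φ k m h))) = 0 := by
    intro j hj p hp m k h hk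
    subst hj
    exact Groth.Agent.Lib.helper19.HTSeq6.HTf_Tp_map_eq_zero p j _
      (h1 (Nat.succ_pos j) p hp m k h hk)
  have hD : ∀ p ∈ T, ∀ (m k : ℕ) (h : m ≤ k), m' m ≤ k →
      ∀ y : ((Groth.Agent.Lib.helper19.HTSeq1.HTf (Groth.Agent.Lib.helper19.HTSeq5.Tp p) i).obj
        ((Groth.Agent.Lib.helper19.HTSeq3.Lf p.asIdeal.primeCompl).obj (ModuleCat.of A (M k))) :
        ModuleCat.{u} (Localization p.asIdeal.primeCompl)),
      ((Groth.Agent.Lib.helper19.HTSeq1.HTf (Groth.Agent.Lib.helper19.HTSeq5.Tp p) i).map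
        ((Groth.Agent.Lib.helper19.HTSeq3.Lf p.asIdeal.primeCompl).map
          (ModuleCat.ofHom (φ m 0 (Nat.zero_le m)))))
        (((Groth.Agent.Lib.helper19.HTSeq1.HTf (Groth.Agent.Lib.helper19.HTSeq5.Tp p) i).map
          ((Groth.Agent.Lib.helper19.HTSeq3.Lf p.asIdeal.primeCompl).map
            (ModuleCat.ofHom (φ k m h)))) y) = 0 →
      ((Groth.Agent.Lib.helper19.HTSeq1.HTf (Groth.Agent.Lib.helper19.HTSeq5.Tp p) i).map
        ((Groth.Agent.Lib.helper19.HTSeq3.Lf p.asIdeal.primeCompl).map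
          (ModuleCat.ofHom (φ k m h)))) y = 0 := by
    intro p hp m k h hk y hy
    exact Groth.Agent.Lib.helper19.HTSeq7.HTf_Tp_inj p i _
      (ModuleCat.ofHom (LocalizedModule.map p.asIdeal.primeCompl (φ (m' m) m (hm' m)))) _
      (h2 p hp m k h hk) (h3 p hp m) y hy
  obtain ⟨m₀, H⟩ := Groth.Agent.Lib.helper19.HTSeq7.injProp M φ hφ i m' hm' (e + 1) T hchain hA1 hD
  refine ⟨m₀, fun m hm => ?_⟩
  obtain ⟨m'', hmm'', H'⟩ := H m hm
  refine ⟨m'', hmm'', fun k h hk x hx hx0 => ?_⟩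
  obtain ⟨y, rfl⟩ := hx
  exact H' k h hk y hx0

end Groth.Agent.S8946
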