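import Groth.Statements.S8947
import Mathlib
import Groth.Agent.Lib.Helper3.TdSpecBridge
import Groth.Agent.Lib.Helper19.ShriekCM4

set_option autoImplicit false
universe u
open CategoryTheory AlgebraicGeometry
attribute [local instance] HasDerivedCategory.standard
open Dual2

namespace Groth.Agent.S8947




/-- Let R → A be a finite type map of Noetherian rings with relative dualizing complex ω_{A/R} =
φ^!(R[0]) (computed through a presentation ψ : R[x_1, …, x_n] → A as RHom_P(A, R ⊗^L_R P)[n], the
derived base change being assumed to exist and RHom_P(A, −) being a right adjoint of restriction of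
scalars). Let p be a prime of R such that R_p is Cohen–Macaulay, and r a natural number bounding the
transcendence degree of κ(q) over κ(R ∩ q) for every minimal prime q of A. Then, S denoting the
image of R ∖ p in A, the localization S⁻¹H^i(ω_{A/R}) is nonzero only if −r ≤ i, and
S⁻¹H^{−r}(ω_{A/R}) satisfies Serre's condition (S_2) as an S⁻¹A-module. -/
theorem result (R A : Type u) [CommRing R] [CommRing A] [IsNoetherianRing R] [IsNoetherianRing A] [Algebra R A] (n : ℕ) (ψ : MvPolynomial (Fin n) R →ₐ[R] A) (hψ : Function.Surjective ψ) [DRing.HasLBaseChange (algebraMap R (MvPolynomial (Fin n) R))] (Rψ : Dual.D (MvPolynomial (Fin n) R) ⥤ Dual.D A) (adj : DRing.restrictD ψ.toRingHom ⊣ Rψ) (p : Ideal R) [p.IsPrime] [LocCoh.IsCohenMacaulayLocalRing (Localization.AtPrime p)] (r : ℕ) (hr : ∀ q : PrimeSpectrum A, q.asIdeal ∈ minimalPrimes A → Dual3.resTrdeg (Spec.map (CommRingCat.ofHom (algebraMap R A))) q ≤ (r : Cardinal.{u})) : (∀ i : ℤ, Nontrivial (LocalizedModule (Algebra.algebraMapSubmonoid A p.primeCompl) (Dual.HD A (Dual2.shriekVia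 n Rψ (Dual.inD R R)) i)) → -(r : ℤ) ≤ i) ∧ LocCoh.HasSk 2 (Localization (Algebra.algebraMapSubmonoid A p.primeCompl)) (LocalizedModule (Algebra.algebraMapSubmonoid A p.primeCompl) (Dual.HD A (Dual2.shriekVia n Rψ (Dual.inD R R)) (-(r : ℤ)))) := by
  classical
  have hr' : ∀ q : PrimeSpectrum A, q.asIdeal ∈ minimalPrimes A →
      Groth.Agent.Lib.helper3.DimIneq.td (Ideal.quotientMap q.asIdeal (algebraMap R A) le_rfl) ≤
        (r : Cardinal.{u}) := by
    intro q hq
    rw [← Groth.Agent.Lib.helper3.DimIneq.td_residueFieldMap_Spec (algebraMap R A) q]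
    exact hr q hq
  refine ⟨fun i hnt => ?_, ?_⟩
  · by_contra hlt
    have hi : i + (r : ℤ) < 0 := by omega
    haveI := Groth.Agent.Lib.helper19.ShriekCM2.subsingleton_localizedModule_HD_of_cm R A n ψ hψ p r hr'
      Rψ adj i hi
    exact not_subsingleton _ ‹_›
  · exact Groth.Agent.Lib.helper19.ShriekCM4.hasSk_localization R A n ψ Rψ adj hψ p r hr'

end Groth.Agent.S8947
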