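import Groth.Statements.S8949
import Mathlib
import Groth.Agent.Lib.Helper17.GorFibComp
import Groth.Agent.S0342

set_option autoImplicit false
set_option linter.style.haveILetI false
universe u
open scoped TensorProduct
open Goren

namespace Groth.Agent.S8949

/-- Gorenstein fibres are preserved by composing with a regular map. For flat maps A → B → C of
Noetherian rings, if the fibres of A → B are Gorenstein rings and B → C is regular, then the fibres
of A → C are Gorenstein rings. -/
theorem result (A B C : Type u) [CommRing A] [CommRing B] [CommRing C] [IsNoetherianRing A] [IsNoetherianRing B] [IsNoetherianRing C] [Algebra A B] [Algebra B C] [Algebra A C] [IsScalarTower A B C] [Module.Flat A B] [Module.Flat B C] (hAB : ∀ (q : Ideal A) [q.IsPrime], LocCoh.IsGorensteinRing (q.Fiber B)) (hBC : CAlg.IsRegularHom B C) : ∀ (q : Ideal A) [q.IsPrime], LocCoh.IsGorensteinRing (q.Fiber C) := by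
  intro q hq
  refine Groth.Agent.Lib.helper17.GorFibComp.gor_fiber_comp A B C q (hAB q) ?_
  intro p hp
  obtain ⟨hN, hGR⟩ := hBC.2 p
  have h1 := hGR p.ResidueField (Module.Finite.self _)
  haveI : IsRegularRing (p.Fiber C) :=
    @IsRegularRing.of_ringEquiv (p.ResidueField ⊗[p.ResidueField] p.Fiber C) _ (p.Fiber C) _
      (Algebra.TensorProduct.lid p.ResidueField (p.Fiber C)).toRingEquiv h1
  refine { isGorensteinLocalRing_localization := fun P hP => ?_ }
  exact Groth.Agent.S0342.result _

end Groth.Agent.S8949
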