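import Groth.Statements.S8954
import Groth.Agent.LibFiniteSynt29
import Groth.Agent.S9147
-- import your own Groth.Agent.* helpers here

set_option autoImplicit false
universe u
open Synt

namespace Groth.Agent.S8954

lemma exists_pres (A B : Type u) [CommRing A] [CommRing B] [Algebra A B]
    [hfp : Algebra.FinitePresentation A B] :
    ∃ (n c : ℕ) (G : Fin c → MvPolynomial (Fin n) A),
      Nonempty (Synt.RelGCIRing A n c G ≃ₐ[A] B) := by
  classical
  obtain ⟨n, φ, hφ, hker⟩ := hfp
  obtain ⟨s, hs⟩ := hker
  refine ⟨n, s.card, fun i => (s.equivFin.symm i).1, ?_⟩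
  have hrange : Set.range (fun i => ((s.equivFin.symm i).1 : MvPolynomial (Fin n) A)) = (s : Set _) := by
    ext x
    constructor
    · rintro ⟨i, rfl⟩; exact (s.equivFin.symm i).2
    · intro hx; exact ⟨s.equivFin ⟨x, hx⟩, by simp⟩
  have hI : Ideal.span (Set.range (fun i => ((s.equivFin.symm i).1 : MvPolynomial (Fin n) A))) =
      RingHom.ker φ := by
    rw [hrange]; exact hs
  exact ⟨(Ideal.quotientEquivAlgOfEq A hI).trans (Ideal.quotientKerAlgEquivOfSurjective hφ)⟩


/-- The equivalence of being finite syntomic with having a square presentation, stated over a local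
base. For a local ring A and a finite A-algebra B, the map A → B is syntomic if and only if B ≅
A[x_1, …, x_n]/(f_1, …, f_n) as A-algebras for some n and f_1, …, f_n ∈ A[x_1, …, x_n]. (The
published statement is for a finite morphism of schemes and asserts such a presentation over some
affine open neighbourhood of each point of the base; over a local base that neighbourhood is the
whole spectrum.) -/
theorem result (A B : Type u) [CommRing A] [IsLocalRing A] [CommRing B] [Algebra A B] [Module.Finite A B] : Synt.IsSyntomic A B ↔ ∃ (n : ℕ) (F : Fin n → MvPolynomial (Fin n) A), Nonempty (B ≃ₐ[A] Synt.RelGCIRing A n n F) := by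
  constructor
  · intro h
    have : Algebra.FinitePresentation A B := h.2.1
    obtain ⟨n, c, G, ⟨e⟩⟩ := exists_pres A B
    have : Module.Finite A (Synt.RelGCIRing A n c G) := Module.Finite.equiv e.symm.toLinearEquiv
    have h' : Synt.IsSyntomic A (Synt.RelGCIRing A n c G) :=
      LibSyntTransport29.isSyntomic_of_algEquiv e.symm h
    obtain ⟨F, ⟨e'⟩⟩ := LibFiniteSynt29.exists_square_presentation n c G h'
    exact ⟨n + 1, F, ⟨e.symm.trans e'⟩⟩
  · rintro ⟨n, F, ⟨e⟩⟩
    have : Module.Finite A (Synt.RelGCIRing A n n F) := Module.Finite.equiv e.toLinearEquiv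
    have hrel : Synt.IsRelGCI A n n F := by
      intro p hp
      refine ⟨le_rfl, ?_⟩
      have : Module.Finite p.asIdeal.ResidueField (p.asIdeal.Fiber (Synt.RelGCIRing A n n F)) :=
        Module.Finite.base_change A p.asIdeal.ResidueField (Synt.RelGCIRing A n n F)
      have e2 := LibRelGCI29.tensorEquiv p.asIdeal.ResidueField F
      have : Module.Finite p.asIdeal.ResidueField
          (MvPolynomial (Fin n) p.asIdeal.ResidueField ⧸
            Ideal.span (Set.range (LibRelGCI29.Fbar p.asIdeal.ResidueField F))) :=
        Module.Finite.equiv e2.toLinearEquiv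
      have : Nontrivial (MvPolynomial (Fin n) p.asIdeal.ResidueField ⧸
            Ideal.span (Set.range (LibRelGCI29.Fbar p.asIdeal.ResidueField F))) :=
        e2.symm.toEquiv.nontrivial
      have : IsArtinianRing (MvPolynomial (Fin n) p.asIdeal.ResidueField ⧸
            Ideal.span (Set.range (LibRelGCI29.Fbar p.asIdeal.ResidueField F))) :=
        IsArtinianRing.of_finite p.asIdeal.ResidueField _
      rw [Nat.sub_self, ringKrullDim_eq_of_ringEquiv
        (R := p.asIdeal.Fiber (Synt.RelGCIRing A n n F))
        (S := MvPolynomial (Fin n) p.asIdeal.ResidueField ⧸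
            Ideal.span (Set.range (LibRelGCI29.Fbar p.asIdeal.ResidueField F))) e2.toRingEquiv]
      exact ringKrullDimZero_iff_ringKrullDim_eq_zero.mp inferInstance
    exact LibSyntTransport29.isSyntomic_of_algEquiv e.symm (S9147.result A n n F hrel)

end Groth.Agent.S8954
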