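import Groth.Statements.S8960
import Mathlib

set_option autoImplicit false
universe u
open QFDual

namespace Groth.Agent.S8960

section helpers

open TensorProduct in
theorem main (A K B L : Type u) [CommRing A] [CommRing K] [CommRing B] [CommRing L] [Algebra A K]
    [Algebra A B] [Algebra B L] [Algebra K L] [Algebra A L] [IsScalarTower A K L]
    [IsScalarTower A B L] (h : QFDual.IsDedekindDefined A K B L) [Module.Flat A B] :
    (1 : L) ∈ QFDual.complementary A K B L := by
  have := h.isFractionRing
  have := h.isLocalization
  have := h.free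
  have := h.finiteKL
  have := h.isNoetherianRing
  have := h.finite
  have hfp : Module.FinitePresentation A B := Module.finitePresentation_of_finite A B
  have hproj : Module.Projective A B := Module.Flat.projective_of_finitePresentation
  obtain ⟨n, f, g, -, -, hfg⟩ := Module.Finite.exists_comp_eq_id_of_projective A B
  -- dual coordinate system
  let bb : Fin n → B := fun i => f (Pi.single i 1)
  let ff : Fin n → (B →ₗ[A] A) := fun i => (LinearMap.proj i) ∘ₗ g
  have hsum : ∀ x : B, ∑ i, ff i x • bb i = x := by
    intro x
    have h1 : f (g x) = x := LinearMap.congr_fun hfg x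
    conv_rhs => rw [← h1]
    have h2 : g x = ∑ i, (g x i) • (Pi.single i (1 : A) : Fin n → A) := by
      ext j
      simp [Finset.sum_apply, Pi.single_apply]
    conv_rhs => rw [h2, map_sum]
    refine Finset.sum_congr rfl fun i _ => ?_
    rw [map_smul]
    rfl
  have hlocL : IsLocalizedModule (nonZeroDivisors A) (IsScalarTower.toAlgHom A B L).toLinearMap :=
    isLocalizedModule_iff_isLocalization.mpr inferInstance
  let fK : Fin n → (L →ₗ[K] K) := fun i =>
    LinearMap.extendScalarsOfIsLocalization (nonZeroDivisors A) K <|
      IsLocalizedModule.map (nonZeroDivisors A) (IsScalarTower.toAlgHom A B L).toLinearMap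
        (Algebra.linearMap A K) (ff i)
  have hfK : ∀ i (b : B), fK i (algebraMap B L b) = algebraMap A K (ff i b) := by
    intro i b
    exact IsLocalizedModule.map_apply (nonZeroDivisors A)
      (IsScalarTower.toAlgHom A B L).toLinearMap (Algebra.linearMap A K) (ff i) b
  -- every element of L is b / s
  have hfrac : ∀ l : L, ∃ (b : B) (s : A), s ∈ nonZeroDivisors A ∧
      algebraMap A L s * l = algebraMap B L b := by
    intro l
    obtain ⟨⟨b, m⟩, hm⟩ := IsLocalization.surj (Algebra.algebraMapSubmonoid B (nonZeroDivisors A)) l
    obtain ⟨s, hs, hsm⟩ := m.2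
    refine ⟨b, s, hs, ?_⟩
    rw [← hm, mul_comm, IsScalarTower.algebraMap_apply A B L, hsm]
  have himg : ∀ (r : A) (y : B), algebraMap B L (r • y) = r • algebraMap B L y := by
    intro r y
    rw [Algebra.smul_def, RingHom.map_mul, ← IsScalarTower.algebraMap_apply, ← Algebra.smul_def]
  -- K-linear maps on L agreeing on B are equal
  have hext : ∀ (g₁ g₂ : L →ₗ[K] L), (∀ b : B, g₁ (algebraMap B L b) = g₂ (algebraMap B L b)) →
      g₁ = g₂ := by
    intro g₁ g₂ hg
    apply LinearMap.ext
    intro l
    obtain ⟨b, s, hs, hsl⟩ := hfrac l
    have hu : IsUnit (algebraMap A K s) := IsLocalization.map_units K ⟨s, hs⟩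
    have h1 : algebraMap A K s • g₁ l = algebraMap A K s • g₂ l := by
      rw [← map_smul, ← map_smul, Algebra.smul_def, ← IsScalarTower.algebraMap_apply A K L, hsl,
        hg]
    exact hu.smul_left_cancel.mp h1
  intro x
  rw [one_mul]
  refine ⟨∑ i, ff i (x * bb i), ?_⟩
  -- multiplication by x as a dualTensorHom
  have hmul : LinearMap.mulLeft K (algebraMap B L x) =
      dualTensorHom K L L (∑ i, (fK i) ⊗ₜ[K] (algebraMap B L (x * bb i))) := by
    apply hext
    intro b
    rw [LinearMap.mulLeft_apply, map_sum, LinearMap.sum_apply]
    simp only [dualTensorHom_apply, hfK]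
    have h3 : ∀ i, algebraMap A K (ff i b) • algebraMap B L (x * bb i) =
        algebraMap B L (x * (ff i b • bb i)) := by
      intro i
      rw [algebraMap_smul, mul_smul_comm, himg]
    simp_rw [h3]
    rw [← map_sum, ← Finset.mul_sum, hsum, RingHom.map_mul]
  have htr : Algebra.trace K L (algebraMap B L x) =
      LinearMap.trace K L (LinearMap.mulLeft K (algebraMap B L x)) := rfl
  rw [htr, hmul, LinearMap.trace_eq_contract_apply, map_sum, map_sum]
  refine Finset.sum_congr rfl fun i _ => ?_
  rw [contractLeft_apply, hfK]


end helpers

/-- Suppose the Dedekind different of A → B is defined: A is Noetherian, B is a finite A-algebra,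
nonzerodivisors of A are nonzerodivisors on B, and with K = Q(A) the total ring of fractions and L =
B ⊗_A K the map K → L is étale (here with L finite free over K). If A → B is flat, then
Trace_{L/K}(b) lies in A for every b ∈ B; equivalently 1 ∈ 𝓛_{B/A}, the Dedekind complementary
module. -/
theorem result (A K B L : Type u) [CommRing A] [CommRing K] [CommRing B] [CommRing L] [Algebra A K] [Algebra A B] [Algebra B L] [Algebra K L] [Algebra A L] [IsScalarTower A K L] [IsScalarTower A B L] (h : QFDual.IsDedekindDefined A K B L) [Module.Flat A B] : (1 : L) ∈ QFDual.complementary A K B L := by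
  exact main A K B L h

end Groth.Agent.S8960
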