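import Groth.Statements.S8962
import Mathlib
import Groth.Agent.Lib.Helper22.TraceSep

set_option autoImplicit false
universe u
open QFDual

namespace Groth.Agent.S8962

section helpers

open Groth.Agent.Lib.helper22 in
theorem main (A K B L : Type u) [CommRing A] [CommRing K] [CommRing B] [CommRing L] [Algebra A K]
    [Algebra A B] [Algebra B L] [Algebra K L] [Algebra A L] [IsScalarTower A K L]
    [IsScalarTower A B L] (h : QFDual.IsDedekindDefined A K B L) :
    ∃ e : QFDual.complementary A K B L ≃ₗ[B] Disc.Omega A B,
      ∀ (x : QFDual.complementary A K B L) (b : B),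
        algebraMap A K ((e x).toLinearMap b) = Algebra.trace K L ((x : L) * algebraMap B L b) := by
  have := h.isFractionRing
  have := h.isLocalization
  have := h.free
  have := h.finiteKL
  have := h.etale
  have inj : Function.Injective (algebraMap A K) := IsFractionRing.injective A K
  have hΘ : Function.Bijective (TraceSep.Θ (K := K) (L := L)) :=
    TraceSep.Θ_bijective_of_formallyUnramified
  -- the underlying function
  have hex : ∀ (x : QFDual.complementary A K B L) (b : B),
      ∃ a : A, algebraMap A K a = Algebra.trace K L ((x : L) * algebraMap B L b) :=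
    fun x b => x.2 b
  choose a ha using hex
  have hadd : ∀ x b c, a x (b + c) = a x b + a x c := by
    intro x b c
    apply inj
    rw [map_add, ha, ha, ha, map_add, mul_add, map_add]
  have hsmul : ∀ x (r : A) b, a x (r • b) = r • a x b := by
    intro x r b
    apply inj
    have h1 : algebraMap B L (r • b) = r • algebraMap B L b := by
      rw [Algebra.smul_def, RingHom.map_mul, ← IsScalarTower.algebraMap_apply, ← Algebra.smul_def]
    rw [smul_eq_mul, RingHom.map_mul, ha, ha, h1, mul_smul_comm, ← algebraMap_smul K r,
      LinearMap.map_smul, smul_eq_mul]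
  let e₀fun : QFDual.complementary A K B L → Disc.Omega A B := fun x =>
    ⟨{ toFun := a x, map_add' := hadd x, map_smul' := hsmul x }⟩
  have he₀ : ∀ x b, algebraMap A K ((e₀fun x).toLinearMap b) =
      Algebra.trace K L ((x : L) * algebraMap B L b) := fun x b => ha x b
  let e₀ : QFDual.complementary A K B L →ₗ[B] Disc.Omega A B :=
    { toFun := e₀fun
      map_add' := fun x y => by
        apply Disc.Omega.ext
        apply LinearMap.ext
        intro b
        apply inj
        rw [he₀, Disc.Omega.add_toLinearMap, LinearMap.add_apply, map_add, he₀, he₀,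
          Submodule.coe_add, add_mul, map_add]
      map_smul' := fun c x => by
        apply Disc.Omega.ext
        apply LinearMap.ext
        intro b
        apply inj
        rw [he₀, RingHom.id_apply, Disc.Omega.smul_toLinearMap_apply, he₀, Submodule.coe_smul,
          Algebra.smul_def, RingHom.map_mul]
        congr 1
        ring }
  have he₀' : ∀ x b, algebraMap A K ((e₀ x).toLinearMap b) =
      Algebra.trace K L ((x : L) * algebraMap B L b) := he₀
  -- every element of L is b / s
  have hfrac : ∀ l : L, ∃ (b : B) (s : A), s ∈ nonZeroDivisors A ∧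
      algebraMap A L s * l = algebraMap B L b := by
    intro l
    obtain ⟨⟨b, m⟩, hm⟩ := IsLocalization.surj (Algebra.algebraMapSubmonoid B (nonZeroDivisors A)) l
    obtain ⟨s, hs, hsm⟩ := m.2
    refine ⟨b, s, hs, ?_⟩
    rw [← hm, mul_comm, IsScalarTower.algebraMap_apply A B L, hsm]
  have hinj : Function.Injective e₀ := by
    rw [← LinearMap.ker_eq_bot, LinearMap.ker_eq_bot']
    intro x hx
    apply Subtype.ext
    rw [Submodule.coe_zero]
    apply hΘ.1
    rw [map_zero]
    apply LinearMap.ext
    intro l
    rw [TraceSep.Θ_apply, LinearMap.zero_apply]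
    obtain ⟨b, s, hs, hsl⟩ := hfrac l
    have h1 : Algebra.trace K L ((x : L) * algebraMap B L b) = 0 := by
      rw [← he₀', hx]
      simp
    have h2 : algebraMap A K s * Algebra.trace K L ((x : L) * l) = 0 := by
      rw [← smul_eq_mul, ← map_smul, Algebra.smul_def, ← IsScalarTower.algebraMap_apply A K L,
        mul_left_comm, hsl, h1]
    have hu : IsUnit (algebraMap A K s) := IsLocalization.map_units K ⟨s, hs⟩
    exact (hu.mul_right_eq_zero).mp h2
  have hsurj : Function.Surjective e₀ := by
    intro φ
    have hlocL : IsLocalizedModule (nonZeroDivisors A) (IsScalarTower.toAlgHom A B L).toLinearMap :=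
      isLocalizedModule_iff_isLocalization.mpr inferInstance
    let φK : L →ₗ[K] K := LinearMap.extendScalarsOfIsLocalization (nonZeroDivisors A) K <|
      IsLocalizedModule.map (nonZeroDivisors A) (IsScalarTower.toAlgHom A B L).toLinearMap
        (Algebra.linearMap A K) φ.toLinearMap
    have hφK : ∀ b : B, φK (algebraMap B L b) = algebraMap A K (φ.toLinearMap b) := by
      intro b
      exact IsLocalizedModule.map_apply (nonZeroDivisors A)
        (IsScalarTower.toAlgHom A B L).toLinearMap (Algebra.linearMap A K) φ.toLinearMap b
    obtain ⟨x, hx⟩ := hΘ.2 φK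
    have hxtr : ∀ l, Algebra.trace K L (x * l) = φK l := fun l => by
      rw [← hx]; rfl
    have hxmem : x ∈ QFDual.complementary A K B L := by
      intro b
      exact ⟨φ.toLinearMap b, by rw [hxtr, hφK]⟩
    refine ⟨⟨x, hxmem⟩, ?_⟩
    apply Disc.Omega.ext
    apply LinearMap.ext
    intro b
    apply inj
    rw [he₀', hxtr, hφK]
  exact ⟨LinearEquiv.ofBijective e₀ ⟨hinj, hsurj⟩, he₀'⟩


end helpers

/-- If the Dedekind different of A → B is defined (A Noetherian, B a finite A-algebra, nonzerodivisors
of A nonzerodivisors on B, K = Q(A) → L = B ⊗_A K étale, here with L finite free over K), then x ↦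
(b ↦ Trace_{L/K}(x b)) is a B-linear isomorphism from the Dedekind complementary module 𝓛_{B/A} onto
ω_{B/A} = Hom_A(B, A), the latter with B acting through the argument. Stated as the existence of a
B-linear equivalence e with algebraMap (e(x)(b)) = Trace_{L/K}(x b) in K for all x and b, which
determines e since A → K is injective. -/
theorem result (A K B L : Type u) [CommRing A] [CommRing K] [CommRing B] [CommRing L] [Algebra A K] [Algebra A B] [Algebra B L] [Algebra K L] [Algebra A L] [IsScalarTower A K L] [IsScalarTower A B L] (h : QFDual.IsDedekindDefined A K B L) : ∃ e : QFDual.complementary A K B L ≃ₗ[B] Disc.Omega A B, ∀ (x : QFDual.complementary A K B L) (b : B), algebraMap A K ((e x).toLinearMap b) = Algebra.trace K L ((x : L) * algebraMap B L b) := by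
  exact main A K B L h

end Groth.Agent.S8962
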