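import Groth.Statements.S8964
import Mathlib
import Groth.Agent.Lib.Helper19.QFSynt2
import Groth.Agent.Lib.Helper19.QFSynt4

set_option autoImplicit false
universe u
open TensorProduct
open QFDual

namespace Groth.Agent.S8964




/-- A quasi-finite syntomic map has an invertible relative dualizing module. Let A be a Noetherian ring
and A → B a syntomic ring map (flat, of finite presentation, with fibres local complete
intersections), and suppose it factors through an intermediate ring B', with A → B' a finite map and
the induced morphism Spec B → Spec B' an open immersion, so that A → B is quasi-finite and ω_{B/A} =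
B ⊗_{B'} Hom_A(B', A). Then ω_{B/A} is an invertible B-module. (The published statement is for a
locally quasi-finite syntomic morphism of locally Noetherian schemes and the sheaf ω_{Y/X}; this row
is its form over a pair of affine opens.) -/
theorem result (A B' B : Type u) [CommRing A] [CommRing B'] [CommRing B] [IsNoetherianRing A] [Algebra A B'] [Algebra B' B] [Algebra A B] [IsScalarTower A B' B] (hf : QFDual.IsQFFactor A B' B) (hs : Synt.IsSyntomic A B) : Module.Invertible B (QFDual.omega A B' B) := by
  classical
  obtain ⟨hflat, hfp, hfib⟩ := hs
  haveI := hflat
  haveI := hfp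
  haveI := hf.finite
  haveI : Algebra.FiniteType A B := inferInstance
  haveI : IsNoetherianRing B := Algebra.FiniteType.isNoetherianRing A B
  obtain ⟨n, ψ, hψ⟩ := Algebra.FiniteType.iff_quotient_mvPolynomial''.mp
    (inferInstance : Algebra.FiniteType A B)
  refine Groth.Agent.Lib.helper19.QFSynt4.invertible_omega_of_gorenstein_fibres A B B'
    hf.isOpenImmersion n ψ hψ (fun p => ?_)
  have hG := Groth.Agent.Lib.helper19.QFSynt2.isGorensteinRing_of_isLCIOver
    p.asIdeal.ResidueField (p.asIdeal.Fiber B) (hfib p)
  haveI := hG
  exact Groth.Agent.Lib.helper17.GorRing.isGorensteinRing_of_ringEquiv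
    (Algebra.TensorProduct.comm A p.asIdeal.ResidueField B).toRingEquiv

end Groth.Agent.S8964
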