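import Groth.Statements.S8965
import Mathlib
import Groth.Agent.S8962

set_option autoImplicit false
universe u
open QFDual

namespace Groth.Agent.S8965

section helpers

theorem main (A K B L : Type u) [CommRing A] [CommRing K] [CommRing B] [CommRing L] [Algebra A K]
    [Algebra A B] [Algebra B L] [Algebra K L] [Algebra A L] [IsScalarTower A K L]
    [IsScalarTower A B L] (h : QFDual.IsDedekindDefined A K B L) [Module.Finite A B]
    [Module.Free A B] :
    QFDual.dedekindDifferent A K B L =
      Submodule.map (Algebra.linearMap B L) (QFDual.different B (Disc.Omega.trace A B)) := by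
  have := h.isFractionRing
  have := h.isLocalization
  have inj : Function.Injective (algebraMap A K) := IsFractionRing.injective A K
  obtain ⟨e, he⟩ := Groth.Agent.S8962.result A K B L h
  -- the image of B lies in the complementary module
  have htr : ∀ b : B, Algebra.trace K L (algebraMap B L b) =
      algebraMap A K (Algebra.trace A B b) := fun b =>
    Algebra.trace_localization A (nonZeroDivisors A) b
  have hBmem : ∀ c : B, algebraMap B L c ∈ QFDual.complementary A K B L := by
    intro c b
    rw [← RingHom.map_mul, htr]
    exact ⟨_, rfl⟩
  have heB : ∀ c : B, e ⟨algebraMap B L c, hBmem c⟩ = c • Disc.Omega.trace A B := by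
    intro c
    apply Disc.Omega.ext
    apply LinearMap.ext
    intro b
    apply inj
    rw [he]
    show Algebra.trace K L (algebraMap B L c * algebraMap B L b) =
      algebraMap A K ((c • Disc.Omega.trace A B).toLinearMap b)
    rw [Disc.Omega.smul_toLinearMap_apply, ← RingHom.map_mul, htr]
    rfl
  have hsmulmem : ∀ (c : B) (y : QFDual.complementary A K B L),
      ((c • y : QFDual.complementary A K B L) : L) = algebraMap B L c * (y : L) := by
    intro c y
    rw [Submodule.coe_smul, Algebra.smul_def]
  apply le_antisymm
  · intro x hx
    have hx1 := hx 1 (by simpa using hBmem 1)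
    rw [mul_one] at hx1
    obtain ⟨b₀, rfl⟩ := hx1
    refine ⟨b₀, ?_, rfl⟩
    show b₀ ∈ QFDual.different B (Disc.Omega.trace A B)
    rw [QFDual.mem_different_iff]
    intro ω
    obtain ⟨y, rfl⟩ := e.surjective ω
    obtain ⟨c, hc⟩ := hx y y.2
    refine ⟨c, ?_⟩
    rw [← heB, ← map_smul]
    congr 1
    apply Subtype.ext
    rw [hsmulmem]
    exact hc
  · rintro _ ⟨b, hb, rfl⟩
    have hb' : b ∈ QFDual.different B (Disc.Omega.trace A B) := hb
    rw [QFDual.mem_different_iff] at hb'
    intro y hy
    obtain ⟨c, hc⟩ := hb' (e ⟨y, hy⟩)
    refine ⟨c, ?_⟩
    rw [← heB, ← map_smul] at hc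
    have h1 := congrArg Subtype.val (e.injective hc)
    rw [hsmulmem] at h1
    exact h1


end helpers

/-- Suppose the Dedekind different of A → B is defined (A Noetherian, B a finite A-algebra,
nonzerodivisors of A nonzerodivisors on B, K = Q(A) → L = B ⊗_A K étale, here with L finite free
over K) and that B is free as an A-module. Then the Dedekind different 𝔇_{B/A} ⊆ L is the image
under B → L of the ideal of b ∈ B with b · Hom_A(B, A) ⊆ B · Trace_{B/A}, where B acts on Hom_A(B,
A) through the argument. (The published statement assumes only A → B flat, with the trace element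
τ_{B/A} of the relative dualizing module ω_{B/A}; for B finite free these are Trace_{B/A} and
Hom_A(B, A), the case taken here.) -/
theorem result (A K B L : Type u) [CommRing A] [CommRing K] [CommRing B] [CommRing L] [Algebra A K] [Algebra A B] [Algebra B L] [Algebra K L] [Algebra A L] [IsScalarTower A K L] [IsScalarTower A B L] (h : QFDual.IsDedekindDefined A K B L) [Module.Finite A B] [Module.Free A B] : QFDual.dedekindDifferent A K B L = Submodule.map (Algebra.linearMap B L) (QFDual.different B (Disc.Omega.trace A B)) := by
  exact main A K B L h

end Groth.Agent.S8965
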