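import Groth.Statements.S8975
import Mathlib

set_option autoImplicit false
universe u
open TensorProduct
open QFDual

namespace Groth.Agent.S8975

section
variable {A B' C' : Type u} [CommRing A] [CommRing B'] [CommRing C'] [Algebra A B'] [Algebra A C']

/-- restriction of a functional on `B' × C'` to the first factor -/
def Finl : Disc.Omega A (B' × C') →+ Disc.Omega A B' :=
  AddMonoidHom.mk' (fun φ => Disc.Omega.mk (φ.toLinearMap ∘ₗ LinearMap.inl A B' C'))
    (fun φ ψ => by apply Disc.Omega.ext; ext x; simp)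

def Finr : Disc.Omega A (B' × C') →+ Disc.Omega A C' :=
  AddMonoidHom.mk' (fun φ => Disc.Omega.mk (φ.toLinearMap ∘ₗ LinearMap.inr A B' C'))
    (fun φ ψ => by apply Disc.Omega.ext; ext x; simp)

def Gl : Disc.Omega A B' →+ Disc.Omega A (B' × C') :=
  AddMonoidHom.mk' (fun φ => Disc.Omega.mk (φ.toLinearMap ∘ₗ LinearMap.fst A B' C'))
    (fun φ ψ => by apply Disc.Omega.ext; apply LinearMap.ext; intro x; simp)

def Gr : Disc.Omega A C' →+ Disc.Omega A (B' × C') :=
  AddMonoidHom.mk' (fun φ => Disc.Omega.mk (φ.toLinearMap ∘ₗ LinearMap.snd A B' C'))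
    (fun φ ψ => by apply Disc.Omega.ext; apply LinearMap.ext; intro x; simp)

lemma Finl_apply (φ : Disc.Omega A (B' × C')) (x : B') :
    (Finl φ).toLinearMap x = φ.toLinearMap (x, 0) := rfl
lemma Finr_apply (φ : Disc.Omega A (B' × C')) (x : C') :
    (Finr φ).toLinearMap x = φ.toLinearMap (0, x) := rfl
lemma Gl_apply (φ : Disc.Omega A B') (x : B' × C') :
    (Gl (C' := C') φ).toLinearMap x = φ.toLinearMap x.1 := rfl
lemma Gr_apply (φ : Disc.Omega A C') (x : B' × C') :
    (Gr (B' := B') φ).toLinearMap x = φ.toLinearMap x.2 := rfl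

lemma Finl_smul (x : B' × C') (φ : Disc.Omega A (B' × C')) : Finl (x • φ) = x.1 • Finl φ := by
  apply Disc.Omega.ext; ext y
  simp only [Finl_apply, Disc.Omega.smul_toLinearMap_apply]
  congr 1
  ext <;> simp
lemma Finr_smul (x : B' × C') (φ : Disc.Omega A (B' × C')) : Finr (x • φ) = x.2 • Finr φ := by
  apply Disc.Omega.ext; ext y
  simp only [Finr_apply, Disc.Omega.smul_toLinearMap_apply]
  congr 1
  ext <;> simp
lemma Gl_smul (b : B') (c : C') (φ : Disc.Omega A B') :
    Gl (C' := C') (b • φ) = ((b, c) : B' × C') • Gl φ := by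
  apply Disc.Omega.ext; apply LinearMap.ext; intro y
  simp [Gl_apply]
lemma Gr_smul (b : B') (c : C') (φ : Disc.Omega A C') :
    Gr (B' := B') (c • φ) = ((b, c) : B' × C') • Gr φ := by
  apply Disc.Omega.ext; apply LinearMap.ext; intro y
  simp [Gr_apply]
lemma Finl_Gl (φ : Disc.Omega A B') : Finl (Gl (C' := C') φ) = φ := by
  apply Disc.Omega.ext; ext y
  simp [Finl_apply, Gl_apply]
lemma Finr_Gr (φ : Disc.Omega A C') : Finr (Gr (B' := B') φ) = φ := by
  apply Disc.Omega.ext; ext y
  simp [Finr_apply, Gr_apply]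
lemma Finl_Gr (φ : Disc.Omega A C') : Finl (Gr (B' := B') φ) = 0 := by
  apply Disc.Omega.ext; ext y
  simp [Finl_apply, Gr_apply]
lemma Finr_Gl (φ : Disc.Omega A B') : Finr (Gl (C' := C') φ) = 0 := by
  apply Disc.Omega.ext; ext y
  simp [Finr_apply, Gl_apply]
lemma Gl_Finl (φ : Disc.Omega A (B' × C')) : Gl (Finl φ) = ((1, 0) : B' × C') • φ := by
  apply Disc.Omega.ext; apply LinearMap.ext; intro y
  simp only [Finl_apply, Gl_apply, Disc.Omega.smul_toLinearMap_apply]
  congr 1
  ext <;> simp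
lemma Gr_Finr (φ : Disc.Omega A (B' × C')) : Gr (Finr φ) = ((0, 1) : B' × C') • φ := by
  apply Disc.Omega.ext; apply LinearMap.ext; intro y
  simp only [Finr_apply, Gr_apply, Disc.Omega.smul_toLinearMap_apply]
  congr 1
  ext <;> simp
end

/-- The relative dualizing module of a product. Suppose A, B, C are Noetherian rings and the ring maps A
→ B, A → C are quasi-finite, presented by factorizations A → B' → B and A → C' → C with A → B', A →
C' finite and Spec B → Spec B', Spec C → Spec C' open immersions, and let B × C carry the product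
algebra structure over B' × C' (so that A → B' × C' → B × C is a factorization of the same kind).
Then ω_{(B × C)/A} = (B × C) ⊗_{B' × C'} Hom_A(B' × C', A) is identified with ω_{B/A} × ω_{C/A}:
there is an A-linear isomorphism sending (b, c) ⊗ φ to (b ⊗ φ∘ι_{B'}, c ⊗ φ∘ι_{C'}), where ι_{B'},
ι_{C'} are the inclusions of the factors; this formula determines the isomorphism and makes it (B ×
C)-linear. -/
theorem result (A B' B C' C : Type u) [CommRing A] [CommRing B'] [CommRing B] [CommRing C'] [CommRing C] [IsNoetherianRing A] [IsNoetherianRing B] [IsNoetherianRing C] [Algebra A B'] [Algebra B' B] [Algebra A B] [IsScalarTower A B' B] [Algebra A C'] [Algebra C' C] [Algebra A C] [IsScalarTower A C' C] (hB : QFDual.IsQFFactor A B' B) (hC : QFDual.IsQFFactor A C' C) [Algebra (B' × C') (B × C)] [IsScalarTower A (B' × C') (B × C)] (halg : algebraMap (B' × C') (B × C) = (algebraMap B' B).prodMap (algebraMap C' C)) : ∃ e : QFDual.omega A (B' × C') (B × C) ≃ₗ[A] QFDual.omega A B' B ×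 QFDual.omega A C' C, ∀ (b : B) (c : C) (φ : Disc.Omega A (B' × C')), e ((b, c) ⊗ₜ[B' × C'] φ) = (b ⊗ₜ[B'] Disc.Omega.mk (φ.toLinearMap ∘ₗ LinearMap.inl A B' C'), c ⊗ₜ[C'] Disc.Omega.mk (φ.toLinearMap ∘ₗ LinearMap.inr A B' C')) := by
  classical
  have hsm : ∀ (x : B' × C') (y : B × C), x • y = (x.1 • y.1, x.2 • y.2) := by
    intro x y
    rw [Algebra.smul_def, halg]
    ext <;> simp [Algebra.smul_def]
  let fwd : (B × C) ⊗[B' × C'] Disc.Omega A (B' × C') →+
      (B ⊗[B'] Disc.Omega A B') × (C ⊗[C'] Disc.Omega A C') :=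
    TensorProduct.liftAddHom
      (AddMonoidHom.mk' (fun y : B × C =>
        AddMonoidHom.mk' (fun φ : Disc.Omega A (B' × C') =>
          ((y.1 ⊗ₜ[B'] Finl φ, y.2 ⊗ₜ[C'] Finr φ) :
            (B ⊗[B'] Disc.Omega A B') × (C ⊗[C'] Disc.Omega A C')))
          (fun φ ψ => by simp [tmul_add]))
        (fun y z => by ext φ <;> simp [add_tmul]))
      (by
        intro r m n
        change (((r • m).1 ⊗ₜ[B'] Finl n, (r • m).2 ⊗ₜ[C'] Finr n) :
            (B ⊗[B'] Disc.Omega A B') × (C ⊗[C'] Disc.Omega A C')) =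
          (m.1 ⊗ₜ[B'] Finl (r • n), m.2 ⊗ₜ[C'] Finr (r • n))
        rw [hsm, Finl_smul, Finr_smul, smul_tmul, smul_tmul])
  have hfwd : ∀ (y : B × C) (φ : Disc.Omega A (B' × C')),
      fwd (y ⊗ₜ φ) = (y.1 ⊗ₜ[B'] Finl φ, y.2 ⊗ₜ[C'] Finr φ) := fun y φ => rfl
  let bwdL : B ⊗[B'] Disc.Omega A B' →+ (B × C) ⊗[B' × C'] Disc.Omega A (B' × C') :=
    TensorProduct.liftAddHom
      (AddMonoidHom.mk' (fun b : B =>
        AddMonoidHom.mk' (fun φ : Disc.Omega A B' =>
          (((b, 0) : B × C) ⊗ₜ[B' × C'] Gl φ))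
          (fun φ ψ => by simp [tmul_add]))
        (fun y z => by
          ext φ
          change ((y + z, (0 : C)) : B × C) ⊗ₜ[B' × C'] Gl φ = (y, 0) ⊗ₜ Gl φ + (z, 0) ⊗ₜ Gl φ
          rw [← add_tmul]
          simp))
      (by
        intro r m n
        change ((r • m, (0 : C)) : B × C) ⊗ₜ[B' × C'] Gl n = (m, 0) ⊗ₜ Gl (r • n)
        rw [Gl_smul r (1 : C'), ← smul_tmul, hsm]
        simp)
  let bwdR : C ⊗[C'] Disc.Omega A C' →+ (B × C) ⊗[B' × C'] Disc.Omega A (B' × C') :=
    TensorProduct.liftAddHom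
      (AddMonoidHom.mk' (fun c : C =>
        AddMonoidHom.mk' (fun φ : Disc.Omega A C' =>
          (((0, c) : B × C) ⊗ₜ[B' × C'] Gr φ))
          (fun φ ψ => by simp [tmul_add]))
        (fun y z => by
          ext φ
          change (((0 : B), y + z) : B × C) ⊗ₜ[B' × C'] Gr φ = (0, y) ⊗ₜ Gr φ + (0, z) ⊗ₜ Gr φ
          rw [← add_tmul]
          simp))
      (by
        intro r m n
        change (((0 : B), r • m) : B × C) ⊗ₜ[B' × C'] Gr n = (0, m) ⊗ₜ Gr (r • n)
        rw [Gr_smul (1 : B') r, ← smul_tmul, hsm]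
        simp)
  have hbwdL : ∀ (b : B) (φ : Disc.Omega A B'), bwdL (b ⊗ₜ φ) = ((b, 0) : B × C) ⊗ₜ Gl φ :=
    fun b φ => rfl
  have hbwdR : ∀ (c : C) (φ : Disc.Omega A C'), bwdR (c ⊗ₜ φ) = ((0, c) : B × C) ⊗ₜ Gr φ :=
    fun c φ => rfl
  have hleft : ∀ t, bwdL (fwd t).1 + bwdR (fwd t).2 = t := by
    intro t
    induction t using TensorProduct.induction_on with
    | zero => simp
    | add x y hx hy =>
      rw [map_add, Prod.fst_add, Prod.snd_add, map_add, map_add, add_add_add_comm, hx, hy]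
    | tmul y φ =>
      rw [hfwd, hbwdL, hbwdR, Gl_Finl, Gr_Finr, ← smul_tmul, ← smul_tmul, hsm, hsm, ← add_tmul]
      congr 1
      ext <;> simp
  have hrightL : ∀ p, fwd (bwdL p) = (p, 0) := by
    intro p
    induction p using TensorProduct.induction_on with
    | zero => rw [map_zero, map_zero]; rfl
    | add x y hx hy => rw [map_add, map_add, hx, hy]; simp
    | tmul b φ =>
      rw [hbwdL, hfwd, Finl_Gl, Finr_Gl]
      simp
  have hrightR : ∀ p, fwd (bwdR p) = (0, p) := by
    intro p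
    induction p using TensorProduct.induction_on with
    | zero => rw [map_zero, map_zero]; rfl
    | add x y hx hy => rw [map_add, map_add, hx, hy]; simp
    | tmul b φ =>
      rw [hbwdR, hfwd, Finl_Gr, Finr_Gr]
      simp
  have hsmul : ∀ (a : A) t, fwd (a • t) = a • fwd t := by
    intro a t
    induction t using TensorProduct.induction_on with
    | zero => simp
    | add x y hx hy => rw [smul_add, map_add, map_add, smul_add, hx, hy]
    | tmul y φ =>
      rw [smul_tmul', hfwd, hfwd]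
      simp [smul_tmul']
  let e : QFDual.omega A (B' × C') (B × C) ≃ₗ[A] QFDual.omega A B' B × QFDual.omega A C' C :=
    { toFun := fwd
      map_add' := map_add fwd
      map_smul' := hsmul
      invFun := fun pq => bwdL pq.1 + bwdR pq.2
      left_inv := hleft
      right_inv := fun pq => by
        change fwd (bwdL pq.1 + bwdR pq.2) = pq
        rw [map_add, hrightL, hrightR]
        simp }
  exact ⟨e, fun b c φ => rfl⟩

end Groth.Agent.S8975
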