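import Groth.Statements.S8979
import Groth.Agent.S7468
-- import your own Groth.Agent.* helpers here

set_option autoImplicit false
universe w u
open HTop

namespace Groth.Agent.S8979

open CategoryTheory CategoryTheory.Limits AlgebraicGeometry

/-- A quasi-compact proper surjective morphism as a singleton is a V covering. -/
theorem isVCover_singleton_of_proper_surjective {X Y : Scheme.{u}} (f : Y ⟶ X) [IsProper f]
    [Surjective f] : HTop.IsVCover (PreZeroHypercover.singleton.{w} f) := by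
  classical
  intro U
  have hcomp : IsCompact ((f ⁻¹ᵁ U.1 : Y.Opens) : Set Y) :=
    f.isCompact_preimage U.2.isCompact
  have h2 : ∀ x : (f ⁻¹ᵁ U.1 : Y.Opens), ∃ O : Y.Opens, IsAffineOpen O ∧ (x : Y) ∈ O ∧
      O ≤ f ⁻¹ᵁ U.1 := fun x => by
    obtain ⟨_, ⟨O, hO, rfl⟩, hx, hle⟩ :=
      Y.isBasis_affineOpens.exists_subset_of_mem_open x.2 (f ⁻¹ᵁ U.1).2
    exact ⟨O, hO, hx, hle⟩
  choose O hOaff hxO hOle using h2
  obtain ⟨t, ht⟩ := hcomp.elim_finite_subcover (fun x => (O x : Set Y))
    (fun x => (O x).2) (fun x hx => Set.mem_iUnion.2 ⟨⟨x, hx⟩, hxO _⟩)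
  let e : Fin t.card ≃ t := t.equivFin.symm
  let pt : Fin t.card → (f ⁻¹ᵁ U.1 : Y.Opens) := fun k => (e k).1
  let F : PreZeroHypercover.{0} (U.1 : Scheme.{u}) :=
    ⟨Fin t.card, fun k => (O (pt k) : Scheme.{u}), fun k => f.resLE U.1 (O (pt k)) (hOle (pt k))⟩
  have : IsAffine (U.1 : Scheme.{u}) := U.2
  have hsurjU : Surjective (f ∣_ U.1) := by
    have h := MorphismProperty.of_isPullback (P := @Surjective)
      (isPullback_morphismRestrict f U.1).flip inferInstance
    exact h
  have hF : IsStandardPh F := by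
    refine ⟨inferInstance, inferInstanceAs (Finite (Fin t.card)), fun k => hOaff (pt k),
      (f ⁻¹ᵁ U.1 : Y.Opens), f ∣_ U.1, fun k => Y.homOfLE (hOle (pt k)), inferInstance,
      inferInstance, fun k => inferInstance, fun k => ?_, fun x => ?_⟩
    · show Y.homOfLE (hOle (pt k)) ≫ f ∣_ U.1 = f.resLE U.1 (O (pt k)) (hOle (pt k))
      rw [← Scheme.Hom.resLE_eq_morphismRestrict, Scheme.Hom.map_resLE]
    · have hx := ht x.2
      simp only [Set.mem_iUnion] at hx
      obtain ⟨y, hy, hxy⟩ := hx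
      refine ⟨e.symm ⟨y, hy⟩, ⟨⟨x.1, by simpa [pt] using hxy⟩, ?_⟩⟩
      apply Subtype.ext
      rw [← Scheme.Opens.ι_apply, ← Scheme.Hom.comp_apply, Scheme.homOfLE_ι]
      rfl
  refine ⟨F, Groth.Agent.S7468.result F hF, fun k => ⟨⟨⟩, (O (pt k)).ι, ?_⟩⟩
  show (O (pt k)).ι ≫ f = f.resLE U.1 (O (pt k)) (hOle (pt k)) ≫ U.1.ι
  rw [Scheme.Hom.resLE_comp_ι]

/-- A surjective proper morphism of finite presentation, as a one-member family, is an h covering of its
target. -/
theorem result {X Y : Scheme.{u}} (f : Y ⟶ X) [IsProper f] [Surjective f] [LocallyOfFinitePresentation f] : HTop.IsHCover (PreZeroHypercover.singleton.{0} f) := by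
  refine ⟨fun _ => ?_, isVCover_singleton_of_proper_surjective f⟩
  show LocallyOfFinitePresentation f
  infer_instance

end Groth.Agent.S8979
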