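import Groth.Statements.S8982
import Groth.Agent.Lib.Helper16.StrictClosed

set_option autoImplicit false
universe u
open HTop

namespace Groth.Agent.S8982

section helpers
open CategoryTheory CategoryTheory.Limits AlgebraicGeometry TopologicalSpace
open Groth.Agent.Lib.helper16.StrictClosed Groth.Agent.Lib.helper16.LocPrincipal

theorem ker_of_isPullback {Z X Y Z₁ : Scheme.{u}} {i : Z ⟶ X} [IsClosedImmersion i] {g : Y ⟶ X}
    {i₁ : Z₁ ⟶ Y} {gZ : Z₁ ⟶ Z} (hZ : IsPullback gZ i₁ i g) : i₁.ker = i.ker.comap g := by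
  rw [← Scheme.IdealSheafData.ker_fst_of_isClosedImmersion i g]
  have : i₁ = hZ.flip.isoPullback.hom ≫ pullback.fst g i := by simp
  rw [this, Scheme.Hom.ker_comp_of_isIso]

theorem supportedOn_eq {X : Scheme.{u}} (𝓘 : X.IdealSheafData) :
    HTop.supportedOn 𝓘 = torsionIdeal 𝓘 := rfl

theorem main {E Z X' X Y E₁ Z₁ X₁ : Scheme.{u}} {e : E ⟶ X'} {π : E ⟶ Z} {b : X' ⟶ X} {i : Z ⟶ X} (h : HTop.IsAlmostBlowUpSquare e π b i) (g : Y ⟶ X) {b₁ : X₁ ⟶ Y} {gX : X₁ ⟶ X'} (hX : IsPullback gX b₁ b g) {i₁ : Z₁ ⟶ Y} {gZ : Z₁ ⟶ Z} (hZ : IsPullback gZ i₁ i g) {e₁ : E₁ ⟶ X₁} {gE : E₁ ⟶ E} (hE : IsPullback gE e₁ e gX) {π₁ : E₁ ⟶ Z₁} (hπ : π₁ ≫ i₁ = e₁ ≫ b₁) : HTop.IsAlmostBlowUpSquare e₁ π₁ b₁ i₁ := by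
  haveI := h.isClosedImmersion
  haveI := h.finitePresentation_base
  haveI := h.isProper
  haveI := h.finitePresentation
  haveI : IsClosedImmersion i₁ := MorphismProperty.of_isPullback hZ h.isClosedImmersion
  have hker : i₁.ker = i.ker.comap g := ker_of_isPullback hZ
  have hJ : i₁.ker.comap b₁ = (i.ker.comap b).comap gX := by
    rw [hker, ← Scheme.IdealSheafData.comap_comp, ← Scheme.IdealSheafData.comap_comp, hX.w]
  have hLP : Groth.Agent.Lib.helper16.LocPrincipal.IsLocPrincipal (i₁.ker.comap b₁) := by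
    rw [hJ]; exact isLocPrincipal_comap h.locPrincipal gX
  have hLP0 : Groth.Agent.Lib.helper16.LocPrincipal.IsLocPrincipal (i.ker.comap b) := h.locPrincipal
  refine ⟨inferInstance, MorphismProperty.of_isPullback hZ h.finitePresentation_base, ?_, hLP,
    MorphismProperty.of_isPullback hX h.isProper,
    MorphismProperty.of_isPullback hX h.finitePresentation, ?_⟩
  · -- pullback square
    have hcomm : π₁ ≫ gZ = gE ≫ π := by
      rw [← cancel_mono i, Category.assoc, Category.assoc, hZ.w, ← Category.assoc, hπ,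
        Category.assoc, ← hX.w, ← h.isPullback.w, ← Category.assoc, ← Category.assoc, hE.w]
    have h1 : IsPullback (gE ≫ π) e₁ i (gX ≫ b) := hE.paste_horiz h.isPullback.flip
    rw [← hcomm, hX.w] at h1
    exact (IsPullback.of_right h1 hπ hZ).flip
  · -- blow-up
    rw [supportedOn_eq]
    set 𝓙₁ := i₁.ker.comap b₁ with h𝓙₁
    set 𝓙 := i.ker.comap b with h𝓙
    have hb := h.isBlowUp
    rw [supportedOn_eq] at hb
    refine ⟨?_, ?_⟩
    · rw [Scheme.IdealSheafData.comap_comp]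
      exact isEffCartier_comap_torsion 𝓙₁ hLP
    · intro T t ht
      have ht' : BlowUp.IsEffCartierIdeal (i.ker.comap (t ≫ g)) := by
        rw [Scheme.IdealSheafData.comap_comp, ← hker]; exact ht
      obtain ⟨h₀, hh₀, hu₀⟩ := hb.2 T (t ≫ g) ht'
      -- lift to X₁
      let h₁ : T ⟶ X₁ := hX.lift (h₀ ≫ (torsionIdeal 𝓙).subschemeι) t (by
        rw [Category.assoc, hh₀])
      have h₁X : h₁ ≫ gX = h₀ ≫ (torsionIdeal 𝓙).subschemeι := hX.lift_fst _ _ _
      have h₁b : h₁ ≫ b₁ = t := hX.lift_snd _ _ _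
      have hEC : BlowUp.IsEffCartierIdeal (𝓙₁.comap h₁) := by
        rw [h𝓙₁, ← Scheme.IdealSheafData.comap_comp, h₁b]; exact ht
      obtain ⟨l, hl⟩ := exists_lift_torsion 𝓙₁ hLP h₁ hEC
      refine ⟨l, ?_, ?_⟩
      · show l ≫ (torsionIdeal 𝓙₁).subschemeι ≫ b₁ = t
        rw [← Category.assoc, hl, h₁b]
      · intro l' hl'
        have hl'' : l' ≫ (torsionIdeal 𝓙₁).subschemeι ≫ b₁ = t := hl'
        -- the map X₁'' → X'' 
        have hEC' : BlowUp.IsEffCartierIdeal (𝓙.comap ((torsionIdeal 𝓙₁).subschemeι ≫ gX)) := by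
          rw [Scheme.IdealSheafData.comap_comp, ← hJ]
          exact isEffCartier_comap_torsion 𝓙₁ hLP
        obtain ⟨k, hk⟩ := exists_lift_torsion 𝓙 hLP0 _ hEC'
        rw [← cancel_mono (torsionIdeal 𝓙₁).subschemeι, hl]
        apply hX.hom_ext
        · rw [h₁X, Category.assoc, ← hk, ← Category.assoc]
          congr 1
          apply hu₀
          show (l' ≫ k) ≫ (torsionIdeal 𝓙).subschemeι ≫ b = t ≫ g
          rw [Category.assoc, ← Category.assoc k, hk, Category.assoc, hX.w, ← Category.assoc,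
            ← Category.assoc, Category.assoc l', hl'']
        · rw [h₁b, Category.assoc, hl'']

end helpers

open CategoryTheory CategoryTheory.Limits AlgebraicGeometry in
/-- The base change of an almost blow up square along an arbitrary morphism Y → X is an almost blow up
square over Y. The base-changed corners are introduced through fibre-product squares; the morphism
from the new exceptional corner to the new centre is the one compatible with them. -/
theorem result {E Z X' X Y E₁ Z₁ X₁ : Scheme.{u}} {e : E ⟶ X'} {π : E ⟶ Z} {b : X' ⟶ X} {i : Z ⟶ X} (h : HTop.IsAlmostBlowUpSquare e π b i) (g : Y ⟶ X) {b₁ : X₁ ⟶ Y} {gX : X₁ ⟶ X'} (hX : IsPullback gX b₁ b g) {i₁ : Z₁ ⟶ Y} {gZ : Z₁ ⟶ Z} (hZ : IsPullback gZ i₁ i g) {e₁ : E₁ ⟶ X₁} {gE : E₁ ⟶ E} (hE : IsPullback gE e₁ e gX) {π₁ : E₁ ⟶ Z₁} (hπ : π₁ ≫ i₁ = e₁ ≫ b₁) : HTop.IsAlmostBlowUpSquare e₁ π₁ b₁ i₁ := by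
  exact main h g hX hZ hE hπ

end Groth.Agent.S8982
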