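import Groth.Statements.S8991
import Mathlib

set_option autoImplicit false
universe u
open HTop

namespace Groth.Agent.S8991

open CategoryTheory CategoryTheory.Limits AlgebraicGeometry Opposite in
/-- sections of a sheaf along a monomorphism that generates a covering sieve. -/
theorem bijective_of_mono_of_covering {C : Type*} [Category C] (J : GrothendieckTopology C)
    (F : Sheaf J (Type*)) {X X' : C} (f : X ⟶ X') [Mono f]
    (hcov : Sieve.generate (Presieve.singleton f) ∈ J X') :
    Function.Bijective (F.obj.map f.op) := by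
  have hsheaf : Presieve.IsSheafFor F.obj (Presieve.singleton f) := by
    rw [Presieve.isSheafFor_iff_generate]
    exact ((isSheaf_iff_isSheaf_of_type _ _).1 F.property) _ hcov
  rw [Presieve.isSheafFor_singleton] at hsheaf
  have key : ∀ x : F.obj.obj (op X), ∃! y, F.obj.map f.op y = x := by
    intro x
    refine hsheaf x ?_
    intro Z p₁ p₂ h
    rw [(cancel_mono f).1 h]
  refine ⟨fun a b hab => ?_, fun x => ?_⟩
  · obtain ⟨y, -, hy⟩ := key (F.obj.map f.op a)
    rw [hy a rfl, hy b hab.symm]
  · obtain ⟨y, hy, -⟩ := key x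
    exact ⟨y, hy⟩

open CategoryTheory CategoryTheory.Limits AlgebraicGeometry Opposite in
/-- the sieve generated by a morphism of `Over S`, in terms of the underlying morphism. -/
theorem generate_singleton_mem_over {S : Scheme.{u}} (J : GrothendieckTopology Scheme.{u})
    {X X' : Over S} (f : X ⟶ X')
    (h : Sieve.generate (Presieve.singleton f.left) ∈ J X'.left) :
    Sieve.generate (Presieve.singleton f) ∈ J.over S X' := by
  rw [GrothendieckTopology.mem_over_iff]
  refine J.superset_covering ?_ h
  intro Z g hg
  obtain ⟨W, k, l, hl, rfl⟩ := hg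
  obtain ⟨⟩ := hl
  rw [Sieve.overEquiv_iff]
  have hk : k ≫ X.hom = (k ≫ f.left) ≫ X'.hom := by
    rw [Category.assoc, Over.w f]
  refine ⟨X, (Over.homMk k hk : Over.mk ((k ≫ f.left) ≫ X'.hom) ⟶ X), f,
    Presieve.singleton_self f, ?_⟩
  ext
  simp

open CategoryTheory CategoryTheory.Limits AlgebraicGeometry Opposite in
/-- A ph sheaf on schemes over S takes the same sections on an S-scheme and on any thickening of it. -/
theorem result (S : Scheme.{u}) (F : HTop.ShPh S) {X X' : Over S} (f : X ⟶ X') (hf : MoreMor.IsThickening f.left) : Function.Bijective (F.obj.map f.op) := by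
  obtain ⟨hci, hsurj⟩ := hf
  haveI : Mono f.left := inferInstance
  haveI : Mono f := (Over.forget S).mono_of_mono_map ‹_›
  refine bijective_of_mono_of_covering (HTop.Jph S) F f ?_
  apply generate_singleton_mem_over
  apply Precoverage.generate_mem_toGrothendieck
  have h1 : (PreZeroHypercover.singleton.{0} f.left).presieve₀ = Presieve.singleton f.left :=
    PreZeroHypercover.presieve₀_singleton _
  rw [← h1, HTop.presieve₀_mem_phPrecoverage_iff]
  refine ⟨fun _ => ?_, fun U => ?_⟩
  · show LocallyOfFiniteType f.left
    infer_instance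
  · -- the standard ph covering of `U` given by the restriction of `f`
    haveI : IsAffine ((U : X'.left.Opens) : Scheme.{u}) := U.2
    haveI : IsClosedImmersion (f.left ∣_ (U : X'.left.Opens)) := inferInstance
    haveI : Surjective (f.left ∣_ (U : X'.left.Opens)) :=
      IsZariskiLocalAtTarget.restrict hsurj (U : X'.left.Opens)
    haveI : IsAffine ((f.left ⁻¹ᵁ (U : X'.left.Opens) : X.left.Opens) : Scheme.{u}) :=
      isAffine_of_isAffineHom (f.left ∣_ (U : X'.left.Opens))
    refine ⟨PreZeroHypercover.singleton (f.left ∣_ (U : X'.left.Opens)), ?_, ?_⟩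
    · refine ⟨inferInstance, inferInstanceAs (Finite PUnit), fun _ => ?_, ?_⟩
      · show IsAffine ((f.left ⁻¹ᵁ (U : X'.left.Opens) : X.left.Opens) : Scheme.{u})
        infer_instance
      · refine ⟨_, f.left ∣_ (U : X'.left.Opens), fun _ => 𝟙 _, inferInstance, inferInstance,
          fun _ => ?_, fun _ => ?_, fun x => ⟨PUnit.unit, ?_⟩⟩
        · show IsOpenImmersion (𝟙 ((f.left ⁻¹ᵁ (U : X'.left.Opens) : X.left.Opens) : Scheme.{u}))
          infer_instance
        · exact Category.id_comp _
        · exact ⟨x, rfl⟩
    · intro j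
      refine ⟨PUnit.unit, (f.left ⁻¹ᵁ (U : X'.left.Opens)).ι, ?_⟩
      exact (morphismRestrict_ι f.left (U : X'.left.Opens)).symm

end Groth.Agent.S8991
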