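import Groth.Statements.S8988
import Mathlib
import Groth.Agent.S8991

set_option autoImplicit false
universe u
open HTop

namespace Groth.Agent.S8988

open CategoryTheory CategoryTheory.Limits AlgebraicGeometry Opposite in
/-- a morphism from a reduced scheme lifts through a surjective closed immersion. -/
theorem exists_lift_of_isReduced {Z X X' : Scheme.{u}} [IsReduced Z] (f : X ⟶ X')
    [IsClosedImmersion f] [Surjective f] (g : Z ⟶ X') : ∃ g' : Z ⟶ X, g' ≫ f = g := by
  haveI : IsClosedImmersion (pullback.snd f g) := inferInstance
  haveI : Surjective (pullback.snd f g) := inferInstance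
  haveI : IsIso (pullback.snd f g) := isIso_of_isClosedImmersion_of_surjective _
  refine ⟨inv (pullback.snd f g) ≫ pullback.fst f g, ?_⟩
  rw [Category.assoc, pullback.condition, IsIso.inv_hom_id_assoc]

open CategoryTheory CategoryTheory.Limits AlgebraicGeometry Opposite in
/-- An h sheaf on schemes over S takes the same sections on an S-scheme and on any thickening of it of
finite presentation. -/
theorem result (S : Scheme.{u}) (F : HTop.ShH S) {X X' : Over S} (f : X ⟶ X') (hf : MoreMor.IsThickening f.left) [LocallyOfFinitePresentation f.left] : Function.Bijective (F.obj.map f.op) := by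
  obtain ⟨hci, hsurj⟩ := hf
  haveI : Mono f.left := inferInstance
  haveI : Mono f := (Over.forget S).mono_of_mono_map ‹_›
  refine Groth.Agent.S8991.bijective_of_mono_of_covering (HTop.Jh S) F f ?_
  apply Groth.Agent.S8991.generate_singleton_mem_over
  apply Precoverage.generate_mem_toGrothendieck
  have h1 : (PreZeroHypercover.singleton.{0} f.left).presieve₀ = Presieve.singleton f.left :=
    PreZeroHypercover.presieve₀_singleton _
  rw [← h1, HTop.presieve₀_mem_hPrecoverage_iff]
  refine ⟨fun _ => ?_, fun U => ?_⟩
  · show LocallyOfFinitePresentation f.left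
    infer_instance
  · haveI : IsAffine ((U : X'.left.Opens) : Scheme.{u}) := U.2
    haveI : IsClosedImmersion (f.left ∣_ (U : X'.left.Opens)) := inferInstance
    haveI : Surjective (f.left ∣_ (U : X'.left.Opens)) :=
      IsZariskiLocalAtTarget.restrict hsurj (U : X'.left.Opens)
    haveI : IsAffine ((f.left ⁻¹ᵁ (U : X'.left.Opens) : X.left.Opens) : Scheme.{u}) :=
      isAffine_of_isAffineHom (f.left ∣_ (U : X'.left.Opens))
    refine ⟨PreZeroHypercover.singleton (f.left ∣_ (U : X'.left.Opens)), ?_, ?_⟩
    · refine ⟨inferInstance, inferInstanceAs (Finite PUnit), fun _ => ?_, ?_⟩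
      · show IsAffine ((f.left ⁻¹ᵁ (U : X'.left.Opens) : X.left.Opens) : Scheme.{u})
        infer_instance
      · intro V _ _ g
        refine ⟨V, inferInstance, inferInstance, 𝟙 V, ⟨fun a b h => h, ?_⟩, PUnit.unit, ?_⟩
        · exact ⟨fun a h => h⟩
        · haveI : IsReduced (Spec V) := inferInstance
          obtain ⟨g', hg'⟩ := exists_lift_of_isReduced (f.left ∣_ (U : X'.left.Opens)) g
          refine ⟨g', ?_⟩
          rw [Spec.map_id, Category.id_comp]
          exact hg'
    · intro j
      refine ⟨PUnit.unit, (f.left ⁻¹ᵁ (U : X'.left.Opens)).ι, ?_⟩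
      exact (morphismRestrict_ι f.left (U : X'.left.Opens)).symm

end Groth.Agent.S8988
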