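import Groth.Statements.S8990
import Groth.Agent.Lib.Helper16.HCart3

set_option autoImplicit false
universe u
open HTop

namespace Groth.Agent.S8990

section helpers
open CategoryTheory CategoryTheory.Limits AlgebraicGeometry Opposite TopologicalSpace
open Groth.Agent.Lib.helper16.HCart

theorem fg_ker {Z X : Scheme.{u}} (i : Z ⟶ X) [IsClosedImmersion i]
    [LocallyOfFinitePresentation i] (U : X.affineOpens) : (i.ker.ideal U).FG := by
  rw [Scheme.Hom.ker_apply]
  have hV : IsAffineOpen (i ⁻¹ᵁ U.1) := U.2.preimage i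
  have hfp : (i.app U.1).hom.FinitePresentation := by
    have := HasRingHomProperty.appLE (P := @LocallyOfFinitePresentation) i inferInstance U
      ⟨_, hV⟩ le_rfl
    rwa [← Scheme.Hom.app_eq_appLE] at this
  have hsurj : Function.Surjective (i.app U.1).hom := i.app_surjective U.1 U.2
  algebraize [(i.app U.1).hom]
  haveI : Algebra.FinitePresentation Γ(X, U.1) Γ(Z, i ⁻¹ᵁ U.1) := hfp
  exact Algebra.FinitePresentation.ker_fG_of_surjective
    (Algebra.ofId Γ(X, U.1) Γ(Z, i ⁻¹ᵁ U.1)) hsurj

theorem main (S : Scheme.{u}) (F : HTop.ShPh S) {E Z X' X : Over S} (e : E ⟶ X') (π : E ⟶ Z) (b : X' ⟶ X) (i : Z ⟶ X) [IsClosedImmersion i.left] [LocallyOfFinitePresentation i.left] (hb : BlowUp.IsBlowUp b.left i.left.ker) (hE : IsPullback e.left π.left b.left i.left) (t : F.obj.obj (op Z)) (s' : F.obj.obj (op X')) (hts : F.obj.map π.op t = F.obj.map e.op s') : ∃! s : F.obj.obj (op X), F.obj.map i.op s = t ∧ F.obj.map b.op s = s' := by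
  haveI : IsProper b.left :=
    Groth.Agent.Lib.helper16.BlowUpProper.isProper_of_isBlowUp i.left.ker b.left hb (fun x => by
      obtain ⟨_, ⟨V, hV, rfl⟩, hxV, -⟩ :=
        (X.left.isBasis_affineOpens).exists_subset_of_mem_open (Set.mem_univ x) isOpen_univ
      exact ⟨⟨V, hV⟩, hxV, fg_ker i.left ⟨V, hV⟩⟩)
  have hcl : IsClosed (Set.range i.left) := i.left.isClosedEmbedding.isClosed_range
  let V : X.left.Opens := ⟨(Set.range i.left)ᶜ, hcl.isOpen_compl⟩
  have hsupp : (i.left.ker.support : Set X.left) = Set.range i.left := by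
    rw [Scheme.Hom.support_ker]
    exact hcl.closure_eq
  have hiso : IsIso (b.left ∣_ V) :=
    isIso_morphismRestrict_of_isBlowUp i.left.ker b.left hb V (by
      rw [hsupp]; exact disjoint_compl_right)
  exact ph_cartesian S F e π b i hE V rfl hiso t s' hts

end helpers

open CategoryTheory CategoryTheory.Limits AlgebraicGeometry Opposite in
/-- A ph sheaf on schemes over S turns every blow up square (centre a closed subscheme of finite
presentation, X' → X the blowing up, E the inverse image of the centre) into a cartesian square of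
sets of sections. -/
theorem result (S : Scheme.{u}) (F : HTop.ShPh S) {E Z X' X : Over S} (e : E ⟶ X') (π : E ⟶ Z) (b : X' ⟶ X) (i : Z ⟶ X) [IsClosedImmersion i.left] [LocallyOfFinitePresentation i.left] (hb : BlowUp.IsBlowUp b.left i.left.ker) (hE : IsPullback e.left π.left b.left i.left) (t : F.obj.obj (op Z)) (s' : F.obj.obj (op X')) (hts : F.obj.map π.op t = F.obj.map e.op s') : ∃! s : F.obj.obj (op X), F.obj.map i.op s = t ∧ F.obj.map b.op s = s' := by
  exact main S F e π b i hb hE t s' hts

end Groth.Agent.S8990
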