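import Groth.Statements.S8998
import Groth.Agent.Lib.Helper26.Purity27

set_option linter.style.haveILetI false

set_option autoImplicit false
universe u
open FlatMor

namespace Groth.Agent.S8998

/-- For an affine finite type morphism Spec B → Spec A: if the local ring of A at the prime p is
Noetherian, then a finite B-module is pure along the fibre over p if and only if it is universally
pure along it. -/
theorem result {A B : Type u} [CommRing A] [CommRing B] [Algebra A B] [Algebra.FiniteType A B] (N : Type u) [AddCommGroup N] [Module B N] [Module.Finite B N] (p : Ideal A) [p.IsPrime] [IsNoetherianRing (Localization.AtPrime p)] : FlatCA.IsPureAlong A B N p ↔ FlatCA.IsUnivPureAlong A B N p := by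
  classical
  refine ⟨fun hpure => ?_, fun huniv => ?_⟩
  swap
  · intro A' B' N' _ _ _ _ _ _ _ _ _ _ _ _ _ _ f t' t _ _ P _ _ himp
    exact huniv A' B' N' f t' t P himp
  letI := Algebra.TensorProduct.rightAlgebra (R := A) (A := Localization.AtPrime p) (B := B)
  refine Groth.Agent.Lib.helper26.Purity.isUnivPureAlong_of_isPureAlong_of_noetherian_localization
    N p (TensorProduct A (Localization.AtPrime p) B)
    (TensorProduct B (TensorProduct A (Localization.AtPrime p) B) N) ?f ?hf hpure
  case f => exact TensorProduct.mk B (TensorProduct A (Localization.AtPrime p) B) N 1
  case hf =>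
    have := TensorProduct.isBaseChange B N (TensorProduct A (Localization.AtPrime p) B)
    exact this

end Groth.Agent.S8998
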