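import Groth.Statements.S9008
import Groth.Agent.Lib.Helper26.Purity4

set_option autoImplicit false
set_option linter.style.haveILetI false
universe u
open FlatMor

namespace Groth.Agent.S9008

/-- For Spec B → Spec A affine of finite type: a finite B-module is universally pure along the fibre
over a prime p of A exactly when every base change of it along a ring map A → A' is pure along the
fibre over every prime of A' above p. -/
theorem result {A B : Type u} [CommRing A] [CommRing B] [Algebra A B] [Algebra.FiniteType A B] (N : Type u) [AddCommGroup N] [Module B N] [Module.Finite B N] (p : Ideal A) [p.IsPrime] : FlatCA.IsUnivPureAlong A B N p ↔ ∀ (A' B' N' : Type u) [CommRing A'] [CommRing B'] [Algebra A A'] [Algebra B B'] [Algebra A' B'] [Algebra A B'] [IsScalarTower A B B'] [IsScalarTower A A' B'] [Algebra.IsPushout A B A' B'] [AddCommGroup N'] [Module B' N'] [Module B N'] [IsScalarTower B B' N'] (g : N →ₗ[B] N'), IsBaseChange B' g → ∀ (p' : Ideal A') [p'.IsPrime], p'.LiesOver p → FlatCA.IsPureAlong A' B' N' p' := by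
  constructor
  · intro h A' B' N' _ _ _ _ _ _ _ _ _ _ _ _ _ g hg p' _ hp'
    intro A'' B'' N'' _ _ _ _ _ _ _ _ _ _ _ _ _ _ f' t' t _ _ P _ het himp
    haveI := hp'
    letI : Algebra A A'' := ((algebraMap A' A'').comp (algebraMap A A')).toAlgebra
    haveI : IsScalarTower A A' A'' := IsScalarTower.of_algebraMap_eq' rfl
    letI : Algebra B B'' := ((algebraMap B' B'').comp (algebraMap B B')).toAlgebra
    haveI : IsScalarTower B B' B'' := IsScalarTower.of_algebraMap_eq' rfl
    letI : Algebra A B'' := ((algebraMap A'' B'').comp (algebraMap A A'')).toAlgebra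
    haveI : IsScalarTower A A'' B'' := IsScalarTower.of_algebraMap_eq' rfl
    haveI : IsScalarTower A B B'' := IsScalarTower.of_algebraMap_eq fun x => by
      change algebraMap A'' B'' (algebraMap A' A'' (algebraMap A A' x)) =
        algebraMap B' B'' (algebraMap B B' (algebraMap A B x))
      rw [← IsScalarTower.algebraMap_apply A B B', IsScalarTower.algebraMap_apply A A' B',
        ← IsScalarTower.algebraMap_apply A' B' B'', ← IsScalarTower.algebraMap_apply A' A'' B'']
    letI : Module B N'' := Module.compHom N'' (algebraMap B B'')
    haveI : IsScalarTower B B'' N'' := ⟨fun b b'' n => by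
      change (b • b'') • n = algebraMap B B'' b • (b'' • n)
      rw [Algebra.smul_def, mul_smul]⟩
    haveI : IsScalarTower B B' N'' := ⟨fun b b' n => by
      change (b • b') • n = algebraMap B' B'' (algebraMap B B' b) • (b' • n)
      rw [Algebra.smul_def, mul_smul, algebraMap_smul B'' (algebraMap B B' b)]⟩
    exact h A'' B'' N'' ((f'.restrictScalars B).comp g) t' t P
      (Groth.Agent.Lib.helper26.Purity.isImpurity_comp N p A' B' N' g hg p' A'' B'' N'' f' t' t P
        himp)
  · intro h A' B' N' _ _ _ _ _ _ _ _ _ _ _ _ _ _ f t' t _ _ P _ himp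
    haveI := himp.1
    have htp : t.LiesOver p := himp.2.2.2.1
    exact h A' B' N' f himp.2.1 t htp A' B' N' LinearMap.id t' t P
      (Groth.Agent.Lib.helper26.Purity.isEtaleNhd_self A' t)
      (Groth.Agent.Lib.helper26.Purity.isImpurity_self N p A' B' N' f t' t P himp)

end Groth.Agent.S9008
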