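import Groth.Statements.S9033
import Mathlib
import Groth.Agent.Lib.Helper16.CpctLib


set_option autoImplicit false
universe u
open Cpct

namespace Groth.Agent.S9033


open CategoryTheory CategoryTheory.Limits AlgebraicGeometry Opposite
open Groth.Agent.Lib.helper16.CpctLib

theorem result' (S : Scheme.{u}) [CompactSpace S] [QuasiSeparatedSpace S] :
    (Cpct.isoOpen S).HasRightCalculusOfFractions where
  id_mem A := by
    show IsIso (restr (𝟙 A))
    rw [restr_id]
    infer_instance
  comp_mem f g hf hg := by
    show IsIso (restr (f ≫ g))
    rw [restr_comp]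
    haveI : IsIso (restr f) := hf
    haveI : IsIso (restr g) := hg
    infer_instance
  exists_rightFraction := by
    intro X Y φ
    exact ⟨⟨fibFst φ.f φ.s, isIso_restr_fibFst φ.f φ.s φ.hs, fibSnd φ.f φ.s⟩, fib_comm φ.f φ.s⟩
  ext := by
    intro X Y Z f₁ f₂ s hs h
    haveI : IsIso (restr s) := hs
    have h' : restr f₁ = restr f₂ := by
      rw [← cancel_mono (restr s), ← restr_comp, ← restr_comp, h]
    exact ⟨eqPair f₁ f₂, eqι f₁ f₂, isIso_restr_eqι f₁ f₂ h', eqι_comp f₁ f₂⟩



open CategoryTheory CategoryTheory.Limits AlgebraicGeometry Opposite in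
/-- Let S be a quasi-compact and quasi-separated scheme. In the category of compactifications over S —
objects the pairs (X, X̄) with X̄ proper over S and X a quasi-compact open of X̄, morphisms the
morphisms X̄' → X̄ over S mapping X' into X — the collection of morphisms (u, ū) : (X', X̄') → (X,
X̄) with u : X' → X an isomorphism is a right multiplicative system: it contains the identities and
is closed under composition; for f : (Y, Ȳ) → (X, X̄) and (u, ū) : (X', X̄') → (X, X̄) in the
collection there are (v, v̄) : (Y', Ȳ') → (Y, Ȳ) in the collection and g : (Y', Ȳ') → (X', X̄') with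
f ∘ (v, v̄) = (u, ū) ∘ g; and if two morphisms (X, X̄) → (Y, Ȳ) become equal after composing with
some (Y, Ȳ) → (Y', Ȳ') of the collection, they become equal after precomposing with some (X', X̄') →
(X, X̄) of the collection. -/
theorem result (S : Scheme.{u}) [CompactSpace S] [QuasiSeparatedSpace S] :
    (Cpct.isoOpen S).HasRightCalculusOfFractions := by
  exact result' S

end Groth.Agent.S9033
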