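import Groth.Statements.S9034
import Mathlib
import Groth.Agent.Lib.Helper16.CpctLib2
import Groth.Agent.Lib.Helper16.LocSlice
import Groth.Agent.S9033


set_option autoImplicit false
universe u
open Cpct

namespace Groth.Agent.S9034


open CategoryTheory CategoryTheory.Limits AlgebraicGeometry Opposite
open Groth.Agent.Lib.helper16.CpctLib Groth.Agent.Lib.helper16.CpctLib2
  Groth.Agent.Lib.helper16.LocSlice

theorem inverts (S : Scheme.{u}) : (Cpct.isoOpen S).IsInvertedBy (Cpct.openFunctor S) := by
  intro A B f hf
  haveI : IsIso (restr f) := hf
  haveI : IsIso ((Over.forget S).map (openOver.map f)) := by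
    show IsIso (restr f)
    infer_instance
  haveI : IsIso (openOver.map f) := isIso_of_reflects_iso _ (Over.forget S)
  exact (ObjectProperty.isIso_hom_iff ((Cpct.openFunctor S).map f)).mp
    (inferInstanceAs (IsIso (openOver.map f)))

theorem result' (S : Scheme.{u}) [CompactSpace S] [QuasiSeparatedSpace S] :
    (Cpct.openFunctor S).IsLocalization (Cpct.isoOpen S) := by
  haveI := Groth.Agent.S9033.result' S
  let Φ : (Cpct.isoOpen S).Localization ⥤ Cfy S :=
    Localization.lift (Cpct.openFunctor S) (inverts S) (Cpct.isoOpen S).Q
  let e : (Cpct.isoOpen S).Q ⋙ Φ ≅ Cpct.openFunctor S :=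
    Localization.fac (Cpct.openFunctor S) (inverts S) (Cpct.isoOpen S).Q
  haveI : (Cpct.openFunctor S).EssSurj := ⟨fun X => by
    obtain ⟨A, ⟨i⟩⟩ := X.property
    exact ⟨A, ⟨ObjectProperty.isoMk _ i⟩⟩⟩
  haveI : Φ.IsEquivalence :=
    { faithful := faithful_of (Cpct.isoOpen S) (Cpct.isoOpen S).Q (Cpct.openFunctor S) Φ e (by
        intro x y f g hfg
        have h' : restr f = restr g := congrArg (fun t => t.hom.left) hfg
        exact ⟨eqPair f g, eqι f g, isIso_restr_eqι f g h', eqι_comp f g⟩)
      full := full_of (Cpct.isoOpen S) (Cpct.isoOpen S).Q (Cpct.openFunctor S) Φ e (by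
        intro x y ψ
        have hS : ψ.hom.left ≫ y.U.ι ≫ y.bar.hom = x.U.ι ≫ x.bar.hom := Over.w ψ.hom
        obtain ⟨h1, h2⟩ := P1_main ψ.hom.left hS
        refine ⟨gz ψ.hom.left hS, gσ ψ.hom.left hS, h1, gφ ψ.hom.left hS, ?_⟩
        apply ObjectProperty.hom_ext
        apply Over.OverMorphism.ext
        exact h2)
      essSurj := essSurj_of (Cpct.isoOpen S).Q (Cpct.openFunctor S) Φ e }
  exact Functor.IsLocalization.of_equivalence_target (Cpct.isoOpen S).Q (Cpct.isoOpen S)
    (Cpct.openFunctor S) Φ.asEquivalence e



open CategoryTheory CategoryTheory.Limits AlgebraicGeometry Opposite in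
/-- Fix a scheme S which is quasi-separated and quasi-compact. Sending a pair (X, X̄) to X gives a
functor from the category of compactifications over S (pairs of a scheme X̄ proper over S and a
quasi-compact open X ⊆ X̄, with morphisms the S-morphisms X̄' → X̄ sending X' into X) to the
category of compactifyable schemes over S (the full subcategory of schemes over S that are the open
part of such a pair), and this functor is a localization functor for the class of morphisms whose
open part X' → X is an isomorphism: it inverts that class and the induced functor from the localized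
category is an equivalence. -/
theorem result (S : Scheme.{u}) [CompactSpace S] [QuasiSeparatedSpace S] :
    (Cpct.openFunctor S).IsLocalization (Cpct.isoOpen S) := by
  exact result' S

end Groth.Agent.S9034
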