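import Groth.Statements.S9037
import Groth.Agent.Lib.Helper1.CompactCd
import Groth.Agent.Lib.Helper1.QcSections
import Groth.Agent.Lib.Helper1.ExtFreeOn
import Groth.Agent.Lib.Helper25.KInjMain
import Groth.Agent.S0905

set_option autoImplicit false
universe u
open CategoryTheory CategoryTheory.Limits Opposite
open ModSite

namespace Groth.Agent.S9037

open Groth.Agent.H1.HomSum

theorem main {C : Type u} [SmallCategory C] {J : GrothendieckTopology C} (O : Sheaf J CommRingCat.{u})
    [HasDerivedCategory.{u} (ModSite.Mod O)] [HasCoproducts.{u} (DerivedCategory (ModSite.Mod O))]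
    (U : C) (hqc : CohCx.IsQcObject ((presheafToSheaf J (Type u)).obj (yoneda.obj U)))
    (hwc : CohSite.IsWeaklyContractible J U) :
    CohDer.IsCompactObject ((DerivedCategory.singleFunctor (ModSite.Mod O) 0).obj (ModSite.freeOn O U)) := by
  have hG := Groth.Agent.Lib.Helper21.ModGroth.isGrothendieckAbelian_mod (ModSite.ringSh O)
  have hvan : ∀ (F : ModSite.Mod O) (k : ℕ), 0 < k →
      Subsingleton (Abelian.Ext.{u} (ModSite.freeOn O U) F k) := by
    intro F k hk
    obtain ⟨k', rfl⟩ : ∃ k', k = k' + 1 := ⟨k - 1, by omega⟩
    obtain ⟨e⟩ := Groth.Agent.H1.ExtFreeOn.ext_freeOn_equiv_HU O U F (k' + 1)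
    have : Subsingleton (ModSite.HU O F (k' + 1) U) :=
      (Groth.Agent.S0905.result J U hwc).2 (ModSite.toAb F) k'
    exact e.toEquiv.subsingleton
  intro ι X
  rw [homSumToHomCoprod_eq]
  exact Groth.Agent.H1.CompactCd.bijective_homSum_of_cd
    (fun K => by
      obtain ⟨I, f, hI, hf, -, hinj⟩ :=
        Groth.Agent.Lib.Helper25.KInjMain.exists_kInjective_resolution K
      exact ⟨I, f, hI, hf, hinj⟩)
    (ModSite.freeOn O U) 0 (fun F k hk => hvan F k hk)
    (fun Y => Groth.Agent.H1.QcSections.bijective_homSum_of_isQcObject O Y U hqc)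
    (fun Y k hk _ => hvan _ k hk) 0 (by norm_num) X

/-- On a ringed site (C, O), if U is a quasi-compact object (h_U^# is a quasi-compact object of the
topos, which is equivalent to the site-level notion) which is weakly contractible, then j_{U!} O_U,
placed in degree zero, is a compact object of the derived category D(O). The derived category of
O-modules and direct sums in it are instance hypotheses. -/
theorem result
    {C : Type u} [SmallCategory C] {J : GrothendieckTopology C} (O : Sheaf J CommRingCat.{u})
    [HasDerivedCategory.{u} (ModSite.Mod O)] [HasCoproducts.{u} (DerivedCategory (ModSite.Mod O))]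
    (U : C) (hqc : CohCx.IsQcObject ((presheafToSheaf J (Type u)).obj (yoneda.obj U)))
    (hwc : CohSite.IsWeaklyContractible J U) :
    CohDer.IsCompactObject ((DerivedCategory.singleFunctor (ModSite.Mod O) 0).obj (ModSite.freeOn O U)) := by
  exact main O U hqc hwc

end Groth.Agent.S9037
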