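import Groth.Statements.S9042
import Groth.Agent.Lib.Helper1.TruncTower2

set_option autoImplicit false
universe u
open CategoryTheory CategoryTheory.Limits Opposite
open ModSite

namespace Groth.Agent.S9042

/-- every covering sieve can be refined by a covering family of members of `B` -/
lemma exists_refinement {C : Type u} [SmallCategory C] {J : GrothendieckTopology C} (B : Set C)
    (hB : ∀ U : C, ∃ (ι : Type u) (Y : ι → C) (f : ∀ i, Y i ⟶ U),
      Sieve.ofArrows Y f ∈ J U ∧ ∀ i, Y i ∈ B)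
    (V : C) (T : Sieve V) (hT : T ∈ J V) :
    ∃ (ι' : Type u) (Y : ι' → C) (g : ∀ l, Y l ⟶ V),
      (∀ l, T.arrows (g l)) ∧ Sieve.ofArrows Y g ∈ J V ∧ ∀ l, Y l ∈ B := by
  choose ι Y f hcov hYB using hB
  let ι' : Type u := Σ (a : Σ (W : C), {φ : W ⟶ V // T.arrows φ}), ι a.1
  refine ⟨ι', fun l => Y l.1.1 l.2, fun l => f l.1.1 l.2 ≫ l.1.2.1, ?_, ?_, fun l => hYB _ _⟩
  · intro l
    exact T.downward_closed l.1.2.2 _
  · refine J.transitive hT _ ?_
    intro W φ hφ
    refine J.superset_covering ?_ (hcov W)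
    intro Z ψ hψ
    obtain ⟨i, u, rfl⟩ := (Sieve.mem_ofArrows_iff (Y W) (f W) ψ).1 hψ
    change (Sieve.ofArrows _ _).arrows ((u ≫ f W i) ≫ φ)
    rw [Category.assoc]
    apply Sieve.downward_closed
    exact Sieve.ofArrows_mk _ _ (⟨⟨W, φ, hφ⟩, i⟩ : ι')

theorem main
    {C : Type u} [SmallCategory C] {J : GrothendieckTopology C} (O : Sheaf J CommRingCat.{u})
    [HasDerivedCategory.{u} (ModSite.Mod O)] (E : DerivedCategory (ModSite.Mod O))
    [HasProduct (CohCx.truncTower E)] (B : Set C)
    (hB : ∀ U : C, ∃ (ι : Type u) (Y : ι → C) (f : ∀ i, Y i ⟶ U), Sieve.ofArrows Y f ∈ J U ∧ ∀ i, Y i ∈ B)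
    (p : ℤ → ℤ)
    (h : ∀ V ∈ B, ∀ (m : ℤ) (k : ℕ), p m < k →
      Subsingleton (ModSite.HU O ((DerivedCategory.homologyFunctor (ModSite.Mod O) (m - k)).obj E) k V)) :
    CohCx.IsRlimVia (CohCx.truncTower E) (CohCx.truncTowerMap E) E (CohCx.toTruncTower E) := by
  apply Groth.Agent.H1.TruncTower2.isRlimVia_truncTower_of_pointwise
  intro j U
  obtain ⟨ι, V, gV, hcov, hVB⟩ := hB U
  refine ⟨ι, V, gV, hcov, fun i => ?_⟩
  refine ⟨(max (max (p (j - 1)) (p j)) (p (j + 1)) - j + 1).toNat, fun T hT => ?_⟩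
  obtain ⟨ι', Y, g, h1, h2, h3⟩ := exists_refinement B hB (V i) T hT
  refine ⟨ι', Y, g, h1, h2, fun l m hm j' hj1 hj2 b hb hbj => ?_⟩
  have hk : ((j' - b).toNat : ℤ) = j' - b := by omega
  have key := h (Y l) (h3 l) (j' - b - m - 1) (j' - b).toNat
  have e : j' - b - (m : ℤ) - 1 - ((j' - b).toNat : ℤ) = -(m : ℤ) - 1 := by omega
  rw [e] at key
  apply key
  have h4 : p (j - 1) ≤ max (max (p (j - 1)) (p j)) (p (j + 1)) :=
    le_trans (le_max_left _ _) (le_max_left _ _)
  have h5 : p j ≤ max (max (p (j - 1)) (p j)) (p (j + 1)) :=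
    le_trans (le_max_right _ _) (le_max_left _ _)
  have h6 : p (j + 1) ≤ max (max (p (j - 1)) (p j)) (p (j + 1)) := le_max_right _ _
  have h7 : max (max (p (j - 1)) (p j)) (p (j + 1)) - j + 1 ≤ (m : ℤ) := by omega
  rw [hk]
  rcases hb with hb | hb
  · -- `b = -m - 2`, so the total degree is `j' + 1`
    have e1 : j' - b - (m : ℤ) - 1 = j' + 1 := by omega
    rw [e1]
    rcases (show j' = j - 1 ∨ j' = j by omega) with rfl | rfl
    · have e2 : j - 1 + 1 = j := by omega
      rw [e2]
      omega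
    · omega
  · have e1 : j' - b - (m : ℤ) - 1 = j' := by omega
    rw [e1]
    rcases (show j' = j - 1 ∨ j' = j by omega) with rfl | rfl
    · omega
    · omega

/-- Let (C, O) be a ringed site, E an object of D(O), B a class of objects such that every object has a
covering by members of B, and p : ℤ → ℤ a function such that H^k(V, H^{m-k}(E)) = 0 for every V in
B, every m and every k > p(m). Then the canonical map from E to the derived limit of its truncations
τ_{≥ -n} E is an isomorphism, i.e. E is a derived limit of that tower through the canonical maps.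
The derived category of O-modules and the product of the truncations are instance hypotheses; H^k(V,
-) of an O-module is the cohomology of its underlying abelian sheaf. -/
theorem result
    {C : Type u} [SmallCategory C] {J : GrothendieckTopology C} (O : Sheaf J CommRingCat.{u})
    [HasDerivedCategory.{u} (ModSite.Mod O)] (E : DerivedCategory (ModSite.Mod O))
    [HasProduct (CohCx.truncTower E)] (B : Set C)
    (hB : ∀ U : C, ∃ (ι : Type u) (Y : ι → C) (f : ∀ i, Y i ⟶ U), Sieve.ofArrows Y f ∈ J U ∧ ∀ i, Y i ∈ B)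
    (p : ℤ → ℤ)
    (h : ∀ V ∈ B, ∀ (m : ℤ) (k : ℕ), p m < k →
      Subsingleton (ModSite.HU O ((DerivedCategory.homologyFunctor (ModSite.Mod O) (m - k)).obj E) k V)) :
    CohCx.IsRlimVia (CohCx.truncTower E) (CohCx.truncTowerMap E) E (CohCx.toTruncTower E) := by
  exact main O E B hB p h

end Groth.Agent.S9042
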