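import Groth.Statements.S9069
import Groth.Agent.Lib.Helper1.AdjExact
import Groth.Agent.Lib.Helper1.WayOutCoh

set_option autoImplicit false
universe u
open CategoryTheory CategoryTheory.Limits Opposite
attribute [local instance] HasDerivedCategory.standard
open SiteCmp

namespace Groth.Agent.S9069

open Groth.Agent.H1.AdjExact Groth.Agent.H1.WayOutCoh Groth.Agent.H1.WSerreTri
  Groth.Agent.H1.TriNat DerivedCategory

set_option linter.style.haveILetI false

theorem main
    {C : Type u} [SmallCategory C] {J : GrothendieckTopology C} {O_C : Sheaf J CommRingCat.{u}}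
    {D : Type u} [SmallCategory D] {K : GrothendieckTopology D} {O_D : Sheaf K CommRingCat.{u}}
    (f : ModSite.RMor O_C O_D) [PreservesFiniteLimits f.pull] [SiteCmp.HasRpushD f]
    (adj : SiteCmp.pullD f ⊣ SiteCmp.RpushD f)
    (A : ObjectProperty (ModSite.Mod O_C)) [WSerre.IsWeakSerre A]
    (A' : ObjectProperty (ModSite.Mod O_D)) [WSerre.IsWeakSerre A']
    (h2a : ∀ F' : ModSite.Mod O_D, A' F' → A (f.pull.obj F'))
    (h2c : ∀ F : ModSite.Mod O_C, A F → ∃ F' : ModSite.Mod O_D, A' F' ∧ Nonempty (f.pull.obj F' ≅ F))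
    (h3 : ∀ F' : ModSite.Mod O_D, A' F' → IsIso (adj.unit.app (SiteCmp.inD O_D F'))) :
    (∀ Y : DerivedCategory (ModSite.Mod O_D), WSerre.cohInPlus A' Y →
      WSerre.cohInPlus A ((SiteCmp.pullD f).obj Y) ∧ IsIso (adj.unit.app Y)) ∧
    (∀ X : DerivedCategory (ModSite.Mod O_C), WSerre.cohInPlus A X →
      WSerre.cohInPlus A' ((SiteCmp.RpushD f).obj X) ∧ IsIso (adj.counit.app X)) := by
  letI : (SiteCmp.RpushD f).CommShift ℤ := adj.rightAdjointCommShift ℤ
  haveI : adj.CommShift ℤ := adj.commShift_of_leftAdjoint ℤ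
  haveI : (SiteCmp.RpushD f).IsTriangulated := adj.isTriangulated_rightAdjoint
  -- for `F ∈ A`: the counit at `F[0]` is iso and `R(F[0])` has cohomology in `A'`
  have key : ∀ F : ModSite.Mod O_C, A F →
      IsIso (adj.counit.app (SiteCmp.inD O_C F)) ∧
        WSerre.cohIn A' ((SiteCmp.RpushD f).obj (SiteCmp.inD O_C F)) := by
    intro F hF
    obtain ⟨F', hF', ⟨e⟩⟩ := h2c F hF
    have hu := h3 F' hF'
    -- `L(F'[0]) ≅ F[0]`
    let e' : (SiteCmp.pullD f).obj (SiteCmp.inD O_D F') ≅ SiteCmp.inD O_C F :=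
      (f.pull.mapDerivedCategorySingleFunctor 0).app F' ≪≫ (singleFunctor _ 0).mapIso e
    have h1 : IsIso (adj.counit.app ((SiteCmp.pullD f).obj (SiteCmp.inD O_D F'))) := by
      have tri := adj.left_triangle_components (SiteCmp.inD O_D F')
      have : IsIso ((SiteCmp.pullD f).map (adj.unit.app (SiteCmp.inD O_D F'))) := inferInstance
      exact IsIso.of_isIso_fac_left tri
    refine ⟨isIso_app_of_iso adj.counit e' h1, ?_⟩
    have e'' : (SiteCmp.RpushD f).obj (SiteCmp.inD O_C F) ≅ SiteCmp.inD O_D F' :=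
      (SiteCmp.RpushD f).mapIso e'.symm ≪≫ (asIso (adj.unit.app (SiteCmp.inD O_D F'))).symm
    exact cohIn_of_iso A' e''.symm (cohIn_single A' F' hF')
  constructor
  · rintro Y ⟨hY, n, hn⟩
    refine ⟨⟨?_, n, isGE_map f.pull Y n hn⟩, ?_⟩
    · intro i
      exact A.prop_of_iso (homologyMapIso f.pull Y i).symm (h2a _ (hY i))
    · exact isIso_unit_app adj Y n hn (fun q => h3 _ (hY q))
  · rintro X ⟨hX, n, hn⟩
    refine ⟨⟨?_, n, isGE_rightAdjoint adj X n hn⟩, ?_⟩
    · haveI : X.IsGE n := hn
      exact cohIn_map_of_isGE (SiteCmp.RpushD f) A' (fun X n h => isGE_rightAdjoint adj X n h)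
        X n (fun i => (key _ (hX i)).2)
    · exact isIso_counit_app adj X n hn (fun q => (key _ (hX q)).1)

/-- Let f be a flat morphism from the ringed site (C, O_C) to the ringed site (D, O_D) and A ⊂ Mod(O_C),
A' ⊂ Mod(O_D) weak Serre subcategories such that f^* induces an equivalence of categories A' → A and
F' → Rf_*f^*F' is an isomorphism for every F' ∈ A'. Then f^* : D^+_{A'}(O_D) → D^+_A(O_C) is an
equivalence with quasi-inverse Rf_*: on bounded below objects with cohomology sheaves in A' (resp.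
A) the functor f^* (resp. Rf_*) lands in bounded below objects with cohomology sheaves in A (resp.
A'), and the unit (resp. counit) of the adjunction is an isomorphism there. The adjunction f^* ⊣
Rf_* on unbounded derived categories is a hypothesis; f^* is exact, so it is its own derived
functor. Stated for ringed sites; the published statement is for ringed topoi. -/
theorem result
    {C : Type u} [SmallCategory C] {J : GrothendieckTopology C} {O_C : Sheaf J CommRingCat.{u}}
    {D : Type u} [SmallCategory D] {K : GrothendieckTopology D} {O_D : Sheaf K CommRingCat.{u}}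
    (f : ModSite.RMor O_C O_D) [PreservesFiniteLimits f.pull] [SiteCmp.HasRpushD f]
    (adj : SiteCmp.pullD f ⊣ SiteCmp.RpushD f)
    (A : ObjectProperty (ModSite.Mod O_C)) [WSerre.IsWeakSerre A]
    (A' : ObjectProperty (ModSite.Mod O_D)) [WSerre.IsWeakSerre A']
    (h2a : ∀ F' : ModSite.Mod O_D, A' F' → A (f.pull.obj F'))
    (h2b : ∀ F' G' : ModSite.Mod O_D, A' F' → A' G' →
      Function.Bijective (fun φ : F' ⟶ G' => f.pull.map φ))
    (h2c : ∀ F : ModSite.Mod O_C, A F → ∃ F' : ModSite.Mod O_D, A' F' ∧ Nonempty (f.pull.obj F' ≅ F))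
    (h3 : ∀ F' : ModSite.Mod O_D, A' F' → IsIso (adj.unit.app (SiteCmp.inD O_D F'))) :
    (∀ Y : DerivedCategory (ModSite.Mod O_D), WSerre.cohInPlus A' Y →
      WSerre.cohInPlus A ((SiteCmp.pullD f).obj Y) ∧ IsIso (adj.unit.app Y)) ∧
    (∀ X : DerivedCategory (ModSite.Mod O_C), WSerre.cohInPlus A X →
      WSerre.cohInPlus A' ((SiteCmp.RpushD f).obj X) ∧ IsIso (adj.counit.app X)) := by
  exact main f adj A A' h2a h2c h3

end Groth.Agent.S9069
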