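import Groth.Statements.S9070
import Groth.Agent.S9069
import Groth.Agent.Lib.Helper1.TruncTower
import Groth.Agent.Lib.Helper1.RlimAdj

set_option autoImplicit false
universe u
open CategoryTheory CategoryTheory.Limits Opposite
attribute [local instance] HasDerivedCategory.standard
open SiteCmp

namespace Groth.Agent.S9070

open Groth.Agent.H1.AdjExact Groth.Agent.H1.WayOutCoh Groth.Agent.H1.WSerreTri
  Groth.Agent.H1.TriNat DerivedCategory Groth.Agent.H1.TruncTower Groth.Agent.H1.RlimAdj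
  Groth.Agent.H1.RlimCoh Groth.Agent.H1.GoodCd

set_option linter.style.haveILetI false

/-- a functor which is fully faithful on a class reflects isomorphisms between its members -/
lemma isIso_of_map_isIso {𝒜 ℬ : Type*} [Category 𝒜] [Category ℬ] (Φ : ℬ ⥤ 𝒜)
    (P : ObjectProperty ℬ)
    (hff : ∀ F' G' : ℬ, P F' → P G' → Function.Bijective (fun φ : F' ⟶ G' => Φ.map φ))
    {F' G' : ℬ} (hF' : P F') (hG' : P G') (φ : F' ⟶ G') (h : IsIso (Φ.map φ)) : IsIso φ := by
  obtain ⟨ψ, hψ⟩ := (hff G' F' hG' hF').2 (inv (Φ.map φ))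
  dsimp only at hψ
  refine ⟨ψ, ?_, ?_⟩
  · apply (hff F' F' hF' hF').1
    dsimp only
    rw [Functor.map_comp, hψ, IsIso.hom_inv_id, CategoryTheory.Functor.map_id]
  · apply (hff G' G' hG' hG').1
    dsimp only
    rw [Functor.map_comp, hψ, IsIso.inv_hom_id, CategoryTheory.Functor.map_id]

theorem main
    {C : Type u} [SmallCategory C] {J : GrothendieckTopology C} {O_C : Sheaf J CommRingCat.{u}}
    {D : Type u} [SmallCategory D] {K : GrothendieckTopology D} {O_D : Sheaf K CommRingCat.{u}}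
    (f : ModSite.RMor O_C O_D) [PreservesFiniteLimits f.pull] [SiteCmp.HasRpushD f]
    (adj : SiteCmp.pullD f ⊣ SiteCmp.RpushD f)
    (A : ObjectProperty (ModSite.Mod O_C)) [WSerre.IsWeakSerre A]
    (A' : ObjectProperty (ModSite.Mod O_D)) [WSerre.IsWeakSerre A']
    (h2a : ∀ F' : ModSite.Mod O_D, A' F' → A (f.pull.obj F'))
    (h2b : ∀ F' G' : ModSite.Mod O_D, A' F' → A' G' →
      Function.Bijective (fun φ : F' ⟶ G' => f.pull.map φ))
    (h2c : ∀ F : ModSite.Mod O_C, A F → ∃ F' : ModSite.Mod O_D, A' F' ∧ Nonempty (f.pull.obj F' ≅ F))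
    (h3 : ∀ F' : ModSite.Mod O_D, A' F' → IsIso (adj.unit.app (SiteCmp.inD O_D F')))
    (B : Set C) (B' : Set D)
    (hB : ∀ U : C, ∃ (ι : Type u) (Y : ι → C) (g : ∀ i, Y i ⟶ U), Sieve.ofArrows Y g ∈ J U ∧ ∀ i, Y i ∈ B)
    (hA : ∀ V ∈ B, ∃ d : ℕ, ∀ T ∈ J V, ∃ (ι : Type u) (Y : ι → C) (g : ∀ i, Y i ⟶ V),
      (∀ i, T.arrows (g i)) ∧ Sieve.ofArrows Y g ∈ J V ∧ ∀ i, GoodFor O_C A d (Y i))
    (hB' : ∀ U : D, ∃ (ι : Type u) (Y : ι → D) (g : ∀ i, Y i ⟶ U), Sieve.ofArrows Y g ∈ K U ∧ ∀ i, Y i ∈ B')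
    (hA' : ∀ V ∈ B', ∃ d : ℕ, ∀ T ∈ K V, ∃ (ι : Type u) (Y : ι → D) (g : ∀ i, Y i ⟶ V),
      (∀ i, T.arrows (g i)) ∧ Sieve.ofArrows Y g ∈ K V ∧ ∀ i, GoodFor O_D A' d (Y i)) :
    (∀ Y : DerivedCategory (ModSite.Mod O_D), WSerre.cohIn A' Y →
      WSerre.cohIn A ((SiteCmp.pullD f).obj Y) ∧ IsIso (adj.unit.app Y)) ∧
    (∀ X : DerivedCategory (ModSite.Mod O_C), WSerre.cohIn A X →
      WSerre.cohIn A' ((SiteCmp.RpushD f).obj X) ∧ IsIso (adj.counit.app X)) := by
  letI : (SiteCmp.RpushD f).CommShift ℤ := adj.rightAdjointCommShift ℤ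
  haveI : adj.CommShift ℤ := adj.commShift_of_leftAdjoint ℤ
  haveI : (SiteCmp.RpushD f).IsTriangulated := adj.isTriangulated_rightAdjoint
  haveI : (SiteCmp.RpushD f).Additive := adj.right_adjoint_additive
  obtain ⟨plusY, plusX⟩ := Groth.Agent.S9069.main f adj A A' h2a h2c h3
  have cons : ∀ {F' G' : ModSite.Mod O_D} (_ : A' F') (_ : A' G') (φ : F' ⟶ G'),
      IsIso (f.pull.map φ) → IsIso φ :=
    fun hF' hG' φ h => isIso_of_map_isIso f.pull A' h2b hF' hG' φ h
  have p1 : ∀ Y : DerivedCategory (ModSite.Mod O_D), WSerre.cohIn A' Y →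
      WSerre.cohIn A ((SiteCmp.pullD f).obj Y) :=
    fun Y hY i => A.prop_of_iso (homologyMapIso f.pull Y i).symm (h2a _ (hY i))
  have p2 : ∀ X : DerivedCategory (ModSite.Mod O_C), WSerre.cohIn A X →
      WSerre.cohIn A' ((SiteCmp.RpushD f).obj X) ∧ IsIso (adj.counit.app X) := by
    intro X hX
    have hP : HasProduct (CohCx.truncTower X) := hasProduct_nat _
    have hL := isRlimVia_truncTower (B := B) hB hA X hX
    have hP' : HasProduct (fun n => (SiteCmp.RpushD f).obj (CohCx.truncTower X n)) :=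
      hasProduct_nat _
    have hpres : PreservesLimitsOfSize.{0, 0} (SiteCmp.RpushD f) :=
      adj.rightAdjoint_preservesLimits
    have hRL := isRlimVia_map (SiteCmp.RpushD f) (CohCx.truncTower X) (CohCx.truncTowerMap X)
      X (CohCx.toTruncTower X) hL
    have hKplus : ∀ n, WSerre.cohInPlus A (CohCx.truncTower X n) :=
      cohInPlus_truncTower A X hX
    have hRK := fun n => plusX _ (hKplus n)
    -- the transition maps downstairs are eventually isomorphisms on cohomology
    have hRt : ∀ (i : ℤ) (n : ℕ), (-i).toNat ≤ n →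
        IsIso ((homologyFunctor (ModSite.Mod O_D) i).map
          ((SiteCmp.RpushD f).map (CohCx.truncTowerMap X n))) := by
      intro i n hn
      apply cons ((hRK (n + 1)).1.1 i) ((hRK n).1.1 i)
      rw [← isIso_homology_map_iff f.pull]
      have nat := adj.counit_naturality (CohCx.truncTowerMap X n)
      have h1 : IsIso (adj.counit.app (CohCx.truncTower X n)) := (hRK n).2
      have h2 : IsIso (adj.counit.app (CohCx.truncTower X (n + 1))) := (hRK (n + 1)).2
      have h3 : IsIso ((homologyFunctor (ModSite.Mod O_C) i).map (CohCx.truncTowerMap X n)) :=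
        isIso_homology_truncTowerMap X n i (by omega)
      have h4 := congrArg (fun φ => (homologyFunctor (ModSite.Mod O_C) i).map φ) nat
      rw [Functor.map_comp, Functor.map_comp] at h4
      have h5 : IsIso ((homologyFunctor (ModSite.Mod O_C) i).map
          ((SiteCmp.pullD f).map ((SiteCmp.RpushD f).map (CohCx.truncTowerMap X n))) ≫
          (homologyFunctor (ModSite.Mod O_C) i).map (adj.counit.app (CohCx.truncTower X n))) := by
        rw [h4]
        infer_instance
      exact IsIso.of_isIso_comp_right _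
        ((homologyFunctor (ModSite.Mod O_C) i).map (adj.counit.app (CohCx.truncTower X n)))
    have hRπ : ∀ (i : ℤ) (n : ℕ), (-i).toNat ≤ n →
        IsIso ((homologyFunctor (ModSite.Mod O_D) i).map
          ((SiteCmp.RpushD f).map (CohCx.toTruncTower X n))) := fun i n hn =>
      isIso_homology_a (B := B') hB' hA' (fun n => (hRK n).1) (fun i => (-i).toNat) hRt
        ((SiteCmp.RpushD f).obj X) _ hRL i n hn
    constructor
    · intro i
      have := hRπ i (-i).toNat le_rfl
      exact A'.prop_of_iso (asIso ((homologyFunctor (ModSite.Mod O_D) i).map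
        ((SiteCmp.RpushD f).map (CohCx.toTruncTower X (-i).toNat)))).symm ((hRK _).1.1 i)
    · rw [DerivedCategory.isIso_iff]
      intro i
      have nat := adj.counit_naturality (CohCx.toTruncTower X (-i).toNat)
      have h1 : IsIso (adj.counit.app (CohCx.truncTower X (-i).toNat)) := (hRK _).2
      have h3 : IsIso ((homologyFunctor (ModSite.Mod O_C) i).map
          (CohCx.toTruncTower X (-i).toNat)) :=
        isIso_homology_toTruncTower X _ i (by omega)
      have h6 : IsIso ((homologyFunctor (ModSite.Mod O_C) i).map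
          ((SiteCmp.pullD f).map ((SiteCmp.RpushD f).map (CohCx.toTruncTower X (-i).toNat)))) := by
        rw [isIso_homology_map_iff f.pull]
        have := hRπ i (-i).toNat le_rfl
        infer_instance
      have h4 := congrArg (fun φ => (homologyFunctor (ModSite.Mod O_C) i).map φ) nat
      rw [Functor.map_comp, Functor.map_comp] at h4
      have h5 : IsIso ((homologyFunctor (ModSite.Mod O_C) i).map (adj.counit.app X) ≫
          (homologyFunctor (ModSite.Mod O_C) i).map (CohCx.toTruncTower X (-i).toNat)) := by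
        rw [← h4]
        infer_instance
      exact IsIso.of_isIso_comp_right _
        ((homologyFunctor (ModSite.Mod O_C) i).map (CohCx.toTruncTower X (-i).toNat))
  refine ⟨fun Y hY => ⟨p1 Y hY, ?_⟩, p2⟩
  obtain ⟨hRX, hε⟩ := p2 _ (p1 Y hY)
  have tri := adj.left_triangle_components Y
  have hLη : IsIso ((SiteCmp.pullD f).map (adj.unit.app Y)) := by
    have h7 : (SiteCmp.pullD f).map (adj.unit.app Y) =
        inv (adj.counit.app ((SiteCmp.pullD f).obj Y)) := by
      rw [← cancel_mono (adj.counit.app ((SiteCmp.pullD f).obj Y)), tri, IsIso.inv_hom_id]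
      rfl
    rw [h7]
    infer_instance
  rw [DerivedCategory.isIso_iff]
  intro i
  apply cons (hY i) (hRX i)
  rw [← isIso_homology_map_iff f.pull]
  infer_instance

/-- Let f be a flat morphism from the ringed site (C, O_C) to the ringed site (D, O_D) and A ⊂ Mod(O_C),
A' ⊂ Mod(O_D) weak Serre subcategories such that (2) f^* restricts to an equivalence from A' onto A,
(3) the unit F' → Rf_*f^*F' is invertible for each F' ∈ A', and (4), (5) each of C, O_C, A and D,
O_D, A' admits a set of objects covering everything, every member V having an integer d_V and a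
cofinal system of coverings {V_i → V} with H^p(V_i, F) = 0 for F in the subcategory and p > d_V.
Then f^* : D_{A'}(O_D) → D_A(O_C) is an equivalence with quasi-inverse Rf_*: on objects with
cohomology sheaves in A' (resp. A) the functor f^* (resp. Rf_*) lands in objects with cohomology
sheaves in A (resp. A') and the unit (resp. counit) is an isomorphism there. The adjunction f^* ⊣
Rf_* on unbounded derived categories is a hypothesis; f^* is exact, so it is its own derived
functor. Stated for ringed sites; the published statement is for ringed topoi. -/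
theorem result
    {C : Type u} [SmallCategory C] {J : GrothendieckTopology C} {O_C : Sheaf J CommRingCat.{u}}
    {D : Type u} [SmallCategory D] {K : GrothendieckTopology D} {O_D : Sheaf K CommRingCat.{u}}
    (f : ModSite.RMor O_C O_D) [PreservesFiniteLimits f.pull] [SiteCmp.HasRpushD f]
    (adj : SiteCmp.pullD f ⊣ SiteCmp.RpushD f)
    (A : ObjectProperty (ModSite.Mod O_C)) [WSerre.IsWeakSerre A]
    (A' : ObjectProperty (ModSite.Mod O_D)) [WSerre.IsWeakSerre A']
    (h2a : ∀ F' : ModSite.Mod O_D, A' F' → A (f.pull.obj F'))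
    (h2b : ∀ F' G' : ModSite.Mod O_D, A' F' → A' G' →
      Function.Bijective (fun φ : F' ⟶ G' => f.pull.map φ))
    (h2c : ∀ F : ModSite.Mod O_C, A F → ∃ F' : ModSite.Mod O_D, A' F' ∧ Nonempty (f.pull.obj F' ≅ F))
    (h3 : ∀ F' : ModSite.Mod O_D, A' F' → IsIso (adj.unit.app (SiteCmp.inD O_D F')))
    (B : Set C) (B' : Set D)
    (hB : ∀ U : C, ∃ (ι : Type u) (Y : ι → C) (g : ∀ i, Y i ⟶ U), Sieve.ofArrows Y g ∈ J U ∧ ∀ i, Y i ∈ B)
    (hA : ∀ V ∈ B, ∃ d : ℕ, ∀ T ∈ J V, ∃ (ι : Type u) (Y : ι → C) (g : ∀ i, Y i ⟶ V),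
      (∀ i, T.arrows (g i)) ∧ Sieve.ofArrows Y g ∈ J V ∧
      ∀ (i : ι) (F : ModSite.Mod O_C), A F → ∀ k : ℕ, d < k → Subsingleton (ModSite.HU O_C F k (Y i)))
    (hB' : ∀ U : D, ∃ (ι : Type u) (Y : ι → D) (g : ∀ i, Y i ⟶ U), Sieve.ofArrows Y g ∈ K U ∧ ∀ i, Y i ∈ B')
    (hA' : ∀ V ∈ B', ∃ d : ℕ, ∀ T ∈ K V, ∃ (ι : Type u) (Y : ι → D) (g : ∀ i, Y i ⟶ V),
      (∀ i, T.arrows (g i)) ∧ Sieve.ofArrows Y g ∈ K V ∧
      ∀ (i : ι) (F : ModSite.Mod O_D), A' F → ∀ k : ℕ, d < k → Subsingleton (ModSite.HU O_D F k (Y i))) :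
    (∀ Y : DerivedCategory (ModSite.Mod O_D), WSerre.cohIn A' Y →
      WSerre.cohIn A ((SiteCmp.pullD f).obj Y) ∧ IsIso (adj.unit.app Y)) ∧
    (∀ X : DerivedCategory (ModSite.Mod O_C), WSerre.cohIn A X →
      WSerre.cohIn A' ((SiteCmp.RpushD f).obj X) ∧ IsIso (adj.counit.app X)) := by
  exact main f adj A A' h2a h2b h2c h3 B B' hB hA hB' hA'

end Groth.Agent.S9070
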