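import Groth.Statements.S9080
import Groth.Agent.S9070
import Groth.Agent.S6153

set_option autoImplicit false
universe u
open CategoryTheory CategoryTheory.Limits Opposite
attribute [local instance] HasDerivedCategory.standard
open SiteCmp

namespace Groth.Agent.S9080

open Groth.Agent.H1.AdjExact Groth.Agent.H1.WayOutCoh Groth.Agent.H1.WSerreTri
  Groth.Agent.H1.TriNat DerivedCategory Groth.Agent.H1.TruncTower Groth.Agent.H1.RlimAdj
  Groth.Agent.H1.RlimCoh Groth.Agent.H1.GoodCd Groth.Agent.H1.SingleVanish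

set_option linter.style.haveILetI false

lemma goodFor_of_extVanish {C : Type u} [SmallCategory C] {J : GrothendieckTopology C}
    {O : Sheaf J CommRingCat.{u}} {A : ObjectProperty (ModSite.Mod O)} {d : ℕ} {W : C}
    (h : ExtVanish (ModSite.freeOn O W) A d) : GoodFor O A d W := by
  intro F hF k hk
  have := Groth.Agent.Lib.Helper21.ModGroth.isGrothendieckAbelian_mod (ModSite.ringSh O)
  obtain ⟨e⟩ := Groth.Agent.H1.ExtFreeOn.ext_freeOn_equiv_HU O W F k
  have hs : Subsingleton (Abelian.Ext.{u} (ModSite.freeOn O W) F k) := by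
    refine ⟨fun x y => ?_⟩
    apply (Abelian.Ext.homEquiv (X := ModSite.freeOn O W) (Y := F) (n := k)).injective
    rw [h F hF k hk (Abelian.Ext.homEquiv x), h F hF k hk (Abelian.Ext.homEquiv y)]
  exact e.symm.toEquiv.subsingleton

theorem goodFor_down
    {C : Type u} [SmallCategory C] {J : GrothendieckTopology C} {O_C : Sheaf J CommRingCat.{u}}
    {D : Type u} [SmallCategory D] {K : GrothendieckTopology D} {O_D : Sheaf K CommRingCat.{u}}
    (f : ModSite.RMor O_C O_D) [PreservesFiniteLimits f.pull] [SiteCmp.HasRpushD f]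
    (adj : SiteCmp.pullD f ⊣ SiteCmp.RpushD f)
    (A : ObjectProperty (ModSite.Mod O_C))
    (A' : ObjectProperty (ModSite.Mod O_D))
    (h2a : ∀ F' : ModSite.Mod O_D, A' F' → A (f.pull.obj F'))
    (h3 : ∀ F' : ModSite.Mod O_D, A' F' → IsIso (adj.unit.app (SiteCmp.inD O_D F')))
    {d : ℕ} {V' : D} (h : GoodFor O_C A d (f.fn.obj V')) : GoodFor O_D A' d V' := by
  letI : (SiteCmp.RpushD f).CommShift ℤ := adj.rightAdjointCommShift ℤ
  haveI : adj.CommShift ℤ := adj.commShift_of_leftAdjoint ℤ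
  haveI : (SiteCmp.RpushD f).IsTriangulated := adj.isTriangulated_rightAdjoint
  haveI : (SiteCmp.RpushD f).Additive := adj.right_adjoint_additive
  apply goodFor_of_extVanish
  intro F' hF' k hk τ
  have hup := extVanish_of_goodFor h
  obtain ⟨e0⟩ := Groth.Agent.S6153.result f V'
  let iso1 : (SiteCmp.pullD f).obj ((singleFunctor _ 0).obj (ModSite.freeOn O_D V')) ≅
      (singleFunctor _ 0).obj (ModSite.freeOn O_C (f.fn.obj V')) :=
    (f.pull.mapDerivedCategorySingleFunctor 0).app _ ≪≫ (singleFunctor _ 0).mapIso e0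
  let iso2 : (SiteCmp.pullD f).obj (((singleFunctor _ 0).obj F')⟦(k : ℤ)⟧) ≅
      ((singleFunctor _ 0).obj (f.pull.obj F'))⟦(k : ℤ)⟧ :=
    ((SiteCmp.pullD f).commShiftIso (k : ℤ)).app _ ≪≫
      (shiftFunctor _ (k : ℤ)).mapIso ((f.pull.mapDerivedCategorySingleFunctor 0).app F')
  have h0 : iso1.inv ≫ (SiteCmp.pullD f).map τ ≫ iso2.hom = 0 :=
    hup (f.pull.obj F') (h2a F' hF') k hk _
  have hLτ : (SiteCmp.pullD f).map τ = 0 := by
    have : (SiteCmp.pullD f).map τ =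
        iso1.hom ≫ (iso1.inv ≫ (SiteCmp.pullD f).map τ ≫ iso2.hom) ≫ iso2.inv := by simp
    rw [this, h0, zero_comp, comp_zero]
  have hη : IsIso (adj.unit.app (((singleFunctor _ 0).obj F')⟦(k : ℤ)⟧)) :=
    isIso_app_shift adj.unit _ (k : ℤ) (h3 F' hF')
  have nat := adj.unit_naturality τ
  rw [hLτ, Functor.map_zero, comp_zero] at nat
  rw [← cancel_mono (adj.unit.app (((singleFunctor _ 0).obj F')⟦(k : ℤ)⟧)), ← nat, zero_comp]

theorem main
    {C : Type u} [SmallCategory C] {J : GrothendieckTopology C} {O_C : Sheaf J CommRingCat.{u}}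
    {D : Type u} [SmallCategory D] {K : GrothendieckTopology D} {O_D : Sheaf K CommRingCat.{u}}
    (f : ModSite.RMor O_C O_D) [PreservesFiniteLimits f.pull] [SiteCmp.HasRpushD f]
    (adj : SiteCmp.pullD f ⊣ SiteCmp.RpushD f)
    (A : ObjectProperty (ModSite.Mod O_C)) [WSerre.IsWeakSerre A]
    (A' : ObjectProperty (ModSite.Mod O_D)) [WSerre.IsWeakSerre A']
    (h2a : ∀ F' : ModSite.Mod O_D, A' F' → A (f.pull.obj F'))
    (h2b : ∀ F' G' : ModSite.Mod O_D, A' F' → A' G' →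
      Function.Bijective (fun φ : F' ⟶ G' => f.pull.map φ))
    (h2c : ∀ F : ModSite.Mod O_C, A F → ∃ F' : ModSite.Mod O_D, A' F' ∧ Nonempty (f.pull.obj F' ≅ F))
    (h3 : ∀ F' : ModSite.Mod O_D, A' F' → IsIso (adj.unit.app (SiteCmp.inD O_D F')))
    (B : Set C) (B' : Set D)
    (hB : ∀ U : C, ∃ (ι : Type u) (Y : ι → C) (g : ∀ i, Y i ⟶ U), Sieve.ofArrows Y g ∈ J U ∧ ∀ i, Y i ∈ B)
    (hA : ∀ V ∈ B, ∃ d : ℕ, ∀ T ∈ J V, ∃ (ι : Type u) (Y : ι → C) (g : ∀ i, Y i ⟶ V),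
      (∀ i, T.arrows (g i)) ∧ Sieve.ofArrows Y g ∈ J V ∧ ∀ i, GoodFor O_C A d (Y i))
    (hB' : ∀ U : D, ∃ (ι : Type u) (Y : ι → D) (g : ∀ i, Y i ⟶ U), Sieve.ofArrows Y g ∈ K U ∧ ∀ i, Y i ∈ B')
    (hA' : ∀ V ∈ B', ∃ d : ℕ, ∀ T ∈ K V, ∃ (ι : Type u) (Y : ι → D) (g : ∀ i, Y i ⟶ V),
      (∀ i, T.arrows (g i)) ∧ Sieve.ofArrows Y g ∈ K V ∧
      ∀ i, GoodFor O_C A d (f.fn.obj (Y i))) :
    (∀ Y : DerivedCategory (ModSite.Mod O_D), WSerre.cohIn A' Y →
      WSerre.cohIn A ((SiteCmp.pullD f).obj Y) ∧ IsIso (adj.unit.app Y)) ∧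
    (∀ X : DerivedCategory (ModSite.Mod O_C), WSerre.cohIn A X →
      WSerre.cohIn A' ((SiteCmp.RpushD f).obj X) ∧ IsIso (adj.counit.app X)) := by
  refine Groth.Agent.S9070.main f adj A A' h2a h2b h2c h3 B B' hB hA hB' ?_
  intro V hV
  obtain ⟨d, hd⟩ := hA' V hV
  refine ⟨d, fun T hT => ?_⟩
  obtain ⟨ι, Y, g, h1, h2, h4⟩ := hd T hT
  exact ⟨ι, Y, g, h1, h2, fun i => goodFor_down f adj A A' h2a h3 (h4 i)⟩

/-- Let f be a flat morphism from the ringed site (C, O_C) to the ringed site (D, O_D), with underlying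
continuous functor u : D → C, and A ⊂ Mod(O_C), A' ⊂ Mod(O_D) weak Serre subcategories such that (2)
f^* restricts to an equivalence from A' onto A, (3) the unit F' → Rf_*f^*F' is invertible for each
F' ∈ A', (4) the data C, O_C, A admit a set B of objects covering everything, every V ∈ B having an
integer d_V and a cofinal system of coverings {V_i → V} with H^p(V_i, F) = 0 for F ∈ A and p > d_V,
and (5) there is a set B' of objects of D covering everything, every V' ∈ B' having an integer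
d_{V'} and a cofinal system of coverings {V'_i → V'} with H^p(u(V'_i), F) = 0 for F ∈ A and p >
d_{V'}. Then f^* : D_{A'}(O_D) → D_A(O_C) is an equivalence with quasi-inverse Rf_*: on objects with
cohomology sheaves in A' (resp. A) the functor f^* (resp. Rf_*) lands in objects with cohomology
sheaves in A (resp. A') and the unit (resp. counit) is an isomorphism there. The adjunction f^* ⊣
Rf_* on unbounded derived categories is a hypothesis; f^* is exact, so it is its own derived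
functor. -/
theorem result
    {C : Type u} [SmallCategory C] {J : GrothendieckTopology C} {O_C : Sheaf J CommRingCat.{u}}
    {D : Type u} [SmallCategory D] {K : GrothendieckTopology D} {O_D : Sheaf K CommRingCat.{u}}
    (f : ModSite.RMor O_C O_D) [PreservesFiniteLimits f.pull] [SiteCmp.HasRpushD f]
    (adj : SiteCmp.pullD f ⊣ SiteCmp.RpushD f)
    (A : ObjectProperty (ModSite.Mod O_C)) [WSerre.IsWeakSerre A]
    (A' : ObjectProperty (ModSite.Mod O_D)) [WSerre.IsWeakSerre A']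
    (h2a : ∀ F' : ModSite.Mod O_D, A' F' → A (f.pull.obj F'))
    (h2b : ∀ F' G' : ModSite.Mod O_D, A' F' → A' G' →
      Function.Bijective (fun φ : F' ⟶ G' => f.pull.map φ))
    (h2c : ∀ F : ModSite.Mod O_C, A F → ∃ F' : ModSite.Mod O_D, A' F' ∧ Nonempty (f.pull.obj F' ≅ F))
    (h3 : ∀ F' : ModSite.Mod O_D, A' F' → IsIso (adj.unit.app (SiteCmp.inD O_D F')))
    (B : Set C) (B' : Set D)
    (hB : ∀ U : C, ∃ (ι : Type u) (Y : ι → C) (g : ∀ i, Y i ⟶ U), Sieve.ofArrows Y g ∈ J U ∧ ∀ i, Y i ∈ B)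
    (hA : ∀ V ∈ B, ∃ d : ℕ, ∀ T ∈ J V, ∃ (ι : Type u) (Y : ι → C) (g : ∀ i, Y i ⟶ V),
      (∀ i, T.arrows (g i)) ∧ Sieve.ofArrows Y g ∈ J V ∧
      ∀ (i : ι) (F : ModSite.Mod O_C), A F → ∀ k : ℕ, d < k → Subsingleton (ModSite.HU O_C F k (Y i)))
    (hB' : ∀ U : D, ∃ (ι : Type u) (Y : ι → D) (g : ∀ i, Y i ⟶ U), Sieve.ofArrows Y g ∈ K U ∧ ∀ i, Y i ∈ B')
    (hA' : ∀ V ∈ B', ∃ d : ℕ, ∀ T ∈ K V, ∃ (ι : Type u) (Y : ι → D) (g : ∀ i, Y i ⟶ V),
      (∀ i, T.arrows (g i)) ∧ Sieve.ofArrows Y g ∈ K V ∧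
      ∀ (i : ι) (F : ModSite.Mod O_C), A F → ∀ k : ℕ, d < k → Subsingleton (ModSite.HU O_C F k (f.fn.obj (Y i)))) :
    (∀ Y : DerivedCategory (ModSite.Mod O_D), WSerre.cohIn A' Y →
      WSerre.cohIn A ((SiteCmp.pullD f).obj Y) ∧ IsIso (adj.unit.app Y)) ∧
    (∀ X : DerivedCategory (ModSite.Mod O_C), WSerre.cohIn A X →
      WSerre.cohIn A' ((SiteCmp.RpushD f).obj X) ∧ IsIso (adj.counit.app X)) := by
  exact main f adj A A' h2a h2b h2c h3 B B' hB hA hB' hA'

end Groth.Agent.S9080
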