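import Groth.Statements.S9075
import Groth.Agent.Lib.Helper27.CmpKill
-- import your own Groth.Agent.* helpers here

set_option autoImplicit false
universe u
open CategoryTheory CategoryTheory.Limits Opposite
open SiteCmp

namespace Groth.Agent.S9075

/-- Setting (two topologies τ' coarser than τ on a category C, rendered as J' ≤ J with J the finer one;
for each object X the comparison morphism ε_X between the localised sites C_τ/X and C_τ'/X, whose
direct image ε_{X,*} regards a τ-sheaf as a τ'-sheaf): P is a class of arrows of C and for every X a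
weak Serre subcategory A'_X of the abelian τ'-sheaves on C/X is given, such that (1) arrows of P
admit all base changes and these stay in P; (2) restriction along any f : X → Y sends A'_Y into
A'_X; (3) members of A'_X satisfy the sheaf condition for τ; (4) for f : X → Y in P the higher
direct images R^i f_{τ',*} (right derived functors of the relocalisation pushforward on τ'-sheaves)
send A'_X into A'_Y for all i ≥ 0; (5) every τ-covering of any U is refined by a family obtained
from a τ'-covering {V_j → U}, single arrows W_j → V_j in P that are τ-coverings, and τ'-coverings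
{W_jk → W_j}. Write A_X for the abelian τ-sheaves F on C/X with ε_{X,*}F in A'_X. Let f : X → Y be
in P such that {X → Y} is a τ-covering, F' in A'_Y, n ≥ 0, and θ ∈ H^{n+1}_{τ'}(X, F') a class whose
two restrictions to X ×_Y X coincide. Then there is a τ'-covering {Y_i → Y} such that θ restricts to
zero in H^{n+1}_{τ'}(Y_i ×_Y X, F') for every i. Cohomology over an object Z → Y of C/Y is that of
the τ'-sheaf F' on the localised site at that object; fibre products are expressed through pullback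
squares. -/
theorem result
    {C : Type u} [SmallCategory C] {J J' : GrothendieckTopology C} (h : J' ≤ J)
    (P : MorphismProperty C)
    (A' : ∀ X : C, ObjectProperty (Sheaf (J'.over X) AddCommGrpCat.{u})) [∀ X : C, WSerre.IsWeakSerre (A' X)]
    (h1 : ∀ ⦃X Y : C⦄ (f : X ⟶ Y), P f → ∀ ⦃Y' : C⦄ (g : Y' ⟶ Y),
      ∃ (W : C) (p : W ⟶ Y') (q : W ⟶ X), IsPullback p q g f ∧ P p)
    (h2 : ∀ ⦃X Y : C⦄ (f : X ⟶ Y) (F' : Sheaf (J'.over Y) AddCommGrpCat.{u}), A' Y F' →
      A' X ((CohSite.push (J'.over Y) (J'.over X) (Over.map f)).obj F'))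
    (h3 : ∀ (X : C) (F' : Sheaf (J'.over X) AddCommGrpCat.{u}), A' X F' → Presheaf.IsSheaf (J.over X) F'.obj)
    (h4 : ∀ ⦃X Y : C⦄ (f : X ⟶ Y)
      [((Over.map f).sheafPushforwardCocontinuous AddCommGrpCat.{u} (J'.over X) (J'.over Y)).Additive],
      P f → ∀ (F' : Sheaf (J'.over X) AddCommGrpCat.{u}), A' X F' → ∀ i : ℕ,
        A' Y ((((Over.map f).sheafPushforwardCocontinuous AddCommGrpCat.{u} (J'.over X) (J'.over Y)).rightDerived i).obj F'))
    (h5 : ∀ (U : C) (S : Sieve U), S ∈ J U → ∃ (ι : Type u) (V : ι → C) (v : ∀ j, V j ⟶ U),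
      Sieve.ofArrows V v ∈ J' U ∧ ∀ j, ∃ (W : C) (w : W ⟶ V j), P w ∧
        Sieve.ofArrows (fun _ : PUnit.{u + 1} => W) (fun _ => w) ∈ J (V j) ∧
        ∃ (κ : Type u) (Wk : κ → C) (wk : ∀ k, Wk k ⟶ W), Sieve.ofArrows Wk wk ∈ J' W ∧
          ∀ k, S.arrows (wk k ≫ w ≫ v j))
    {X Y : C} (f : X ⟶ Y) (hf : P f) (hcov : Sieve.ofArrows (fun _ : PUnit.{u + 1} => X) (fun _ => f) ∈ J Y)
    (F' : Sheaf (J'.over Y) AddCommGrpCat.{u}) (hF' : A' Y F') (n : ℕ)
    (θ : CohSite.HU F' (n + 1) (Over.mk f))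
    (hθ : ∀ (W : C) (p q : W ⟶ X) (hW : IsPullback p q f f),
      CohSite.res F' (n + 1) (Over.homMk p rfl : Over.mk (p ≫ f) ⟶ Over.mk f) θ =
        CohSite.res F' (n + 1) (Over.homMk q hW.w.symm : Over.mk (p ≫ f) ⟶ Over.mk f) θ) :
    ∃ (ι : Type u) (Z : ι → C) (g : ∀ i, Z i ⟶ Y), Sieve.ofArrows Z g ∈ J' Y ∧
      ∀ (i : ι) (W : C) (p : W ⟶ Z i) (q : W ⟶ X), IsPullback p q (g i) f →
        CohSite.res F' (n + 1) (Over.homMk q rfl : Over.mk (q ≫ f) ⟶ Over.mk f) θ = 0 := by
  classical
  haveI : HasPullbacksAlong f := fun {W} g => by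
    obtain ⟨W', p, q, hpb, _⟩ := h1 f hf g
    exact hpb.hasPullback
  have hFX := h2 f F' hF'
  haveI : ((Over.map f).sheafPushforwardCocontinuous AddCommGrpCat.{u} (J'.over X)
      (J'.over Y)).Additive := Groth.Agent.Lib.helper27.OvPush.additive_fStar J' f
  have hR := h4 f hf _ hFX (n + 1)
  have hSh0 := h3 Y _ hR
  obtain ⟨e⟩ := Groth.Agent.Lib.helper27.OvPush.main J' f F' (n + 1)
  have hSh : Presheaf.IsSheaf (J.over Y) ((presheafToSheaf (J'.over Y) AddCommGrpCat.{u}).obj
      ((Groth.Agent.Lib.helper27.OvPush.uu f).op ⋙ F'.cohomologyPresheaf (n + 1))).obj :=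
    (Presheaf.isSheaf_of_iso_iff ((sheafToPresheaf _ _).mapIso e)).1 hSh0
  have hpb : IsPullback (pullback.snd f f) (pullback.fst f f) f f :=
    (IsPullback.of_hasPullback f f).flip
  have hθ' := hθ _ _ _ hpb
  have e1 : Groth.Agent.Lib.helper27.CmpKill.sndMap f (Over.mk f) =
      (Over.homMk (pullback.snd f f) rfl : Over.mk (pullback.snd f f ≫ f) ⟶ Over.mk f) := rfl
  have e2 : Groth.Agent.Lib.helper27.CmpKill.fstMap f (Over.mk f) =
      (Over.homMk (pullback.fst f f) hpb.w.symm : Over.mk (pullback.snd f f ≫ f) ⟶ Over.mk f) :=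
    Over.OverMorphism.ext (Groth.Agent.Lib.helper27.CmpKill.fstMap_left f (Over.mk f))
  obtain ⟨S, hS, hkill⟩ := Groth.Agent.Lib.helper27.CmpKill.main (J := J) (J' := J') f hcov F' n hSh θ (by
    rw [e1, e2]
    exact hθ')
  refine ⟨Σ (T : Over Y), {s : T ⟶ Over.mk (𝟙 Y) // S s}, fun i => i.1.left, fun i => i.1.hom,
    ?_, ?_⟩
  · have hS' := (GrothendieckTopology.mem_over_iff _ _).1 hS
    refine J'.superset_covering ?_ hS'
    intro V v hv
    rw [Sieve.overEquiv_iff] at hv
    have := Sieve.ofArrows_mk (fun i : Σ (T : Over Y), {s : T ⟶ Over.mk (𝟙 Y) // S s} => i.1.left)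
      (fun i => i.1.hom) ⟨_, _, hv⟩
    simpa using this
  · rintro ⟨T, s, hs⟩ W p q hW
    have h0 := hkill s hs
    let w := hW.isoPullback
    let ω : Over.mk (q ≫ f) ⟶ (Groth.Agent.Lib.helper27.OvPush.uu f).obj T := Over.homMk w.hom (by
      show w.hom ≫ pullback.snd T.hom f ≫ f = q ≫ f
      rw [← Category.assoc, hW.isoPullback_hom_snd])
    have hfac : (Over.homMk q rfl : Over.mk (q ≫ f) ⟶ Over.mk f) = ω ≫ Groth.Agent.Lib.helper27.CmpKill.sndMap f T := by
      apply Over.OverMorphism.ext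
      show q = w.hom ≫ pullback.snd T.hom f
      exact hW.isoPullback_hom_snd.symm
    show (F'.cohomologyPresheaf (n + 1)).map (Over.homMk q rfl : Over.mk (q ≫ f) ⟶ Over.mk f).op θ = 0
    rw [hfac, op_comp, Functor.map_comp, ConcreteCategory.comp_apply, h0, map_zero]

end Groth.Agent.S9075
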