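import Groth.Statements.S9089
import Mathlib
-- import your own Groth.Agent.* helpers here

set_option autoImplicit false
universe u
open CategoryTheory Opposite
open ModSite

namespace Groth.Agent.S9089

variable {C : Type u} [SmallCategory C] (O : Cᵒᵖ ⥤ CommRingCat.{u})

theorem map_comp_apply {U V W : C} (g : V ⟶ U) (h : W ⟶ V) (x : O.obj (op U)) :
    (O.map (h ≫ g).op).hom x = (O.map h.op).hom ((O.map g.op).hom x) := by
  rw [op_comp, O.map_comp]; rfl

/-- the sieve of arrows on which some `f i` becomes a unit -/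
def unitSieve {U : C} {n : ℕ} (f : Fin n → O.obj (op U)) : Sieve U where
  arrows V g := ∃ i, IsUnit ((O.map g.op).hom (f i))
  downward_closed := by
    rintro V W g ⟨i, hi⟩ h
    refine ⟨i, ?_⟩
    rw [map_comp_apply]
    exact hi.map _

theorem unitSieve_mem (J : GrothendieckTopology C)
    (H : ∀ (U : C) (f : O.obj (op U)), ∃ S ∈ J U, ∀ ⦃V : C⦄ (g : V ⟶ U), S g →
        IsUnit ((O.map g.op).hom f) ∨ IsUnit ((O.map g.op).hom (1 - f)))
    (n : ℕ) (hn : 1 ≤ n) : ∀ (U : C) (f : Fin n → O.obj (op U)),
      Ideal.span (Set.range f) = ⊤ → unitSieve O f ∈ J U := by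
  induction n, hn using Nat.le_induction with
  | base =>
    intro U f hf
    have h0 : Set.range f = {f 0} := by
      ext x; constructor
      · rintro ⟨i, rfl⟩; rw [Subsingleton.elim i 0]; rfl
      · rintro rfl; exact ⟨0, rfl⟩
    rw [h0, Ideal.span_singleton_eq_top] at hf
    have : unitSieve O f = ⊤ := by
      ext V g
      simp only [Sieve.top_apply, iff_true]
      exact ⟨0, hf.map _⟩
    rw [this]; exact J.top_mem U
  | succ n hn ih =>
    intro U f hf
    have h1 : (1 : O.obj (op U)) ∈ Ideal.span (Set.range f) := by rw [hf]; trivial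
    obtain ⟨a, ha⟩ := (Ideal.mem_span_range_iff_exists_fun).1 h1
    rw [Fin.sum_univ_castSucc] at ha
    set e := a (Fin.last n) * f (Fin.last n) with he
    have h1e : 1 - e = ∑ i : Fin n, a i.castSucc * f i.castSucc := by
      rw [← ha]; ring
    obtain ⟨S, hS, hS'⟩ := H U e
    refine J.transitive hS _ (fun V g hg => ?_)
    rcases hS' g hg with hu | hu
    · have : unitSieve O f g := by
        refine ⟨Fin.last n, ?_⟩
        rw [he, map_mul] at hu
        exact isUnit_of_mul_isUnit_right hu
      rw [Sieve.pullback_eq_top_of_mem _ this]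
      exact J.top_mem V
    · have hspan : Ideal.span (Set.range
          (fun i : Fin n => (O.map g.op).hom (f i.castSucc))) = ⊤ := by
        refine Ideal.eq_top_of_isUnit_mem _ ?_ hu
        rw [h1e, map_sum]
        refine Ideal.sum_mem _ (fun i _ => ?_)
        rw [map_mul]
        exact Ideal.mul_mem_left _ _ (Ideal.subset_span ⟨i, rfl⟩)
      refine J.superset_covering ?_ (ih V _ hspan)
      rintro W h ⟨i, hi⟩
      refine ⟨i.castSucc, ?_⟩
      rw [map_comp_apply]
      exact hi


/-- Part (1): ⇔ (2), for a ringed site (C, O) with C small and O a sheaf of commutative rings: the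
following are equivalent. (1) For every object U and every section f of O over U there is a covering
sieve on U on each of whose arrows either f or 1 - f restricts to a unit. (2) For every object U,
every n ≥ 1 and all sections f₁, …, fₙ of O over U generating the unit ideal of O(U), there is a
covering sieve on U on each of whose arrows some fᵢ restricts to a unit. -/
theorem result {C : Type u} [SmallCategory C] (J : GrothendieckTopology C)
    (O : Sheaf J CommRingCat.{u}) :
    (∀ (U : C) (f : O.obj.obj (op U)), ∃ S ∈ J U, ∀ ⦃V : C⦄ (g : V ⟶ U), S g →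
        IsUnit ((O.obj.map g.op).hom f) ∨ IsUnit ((O.obj.map g.op).hom (1 - f))) ↔
    (∀ (U : C) (n : ℕ) (f : Fin n → O.obj.obj (op U)), 1 ≤ n → Ideal.span (Set.range f) = ⊤ →
        ∃ S ∈ J U, ∀ ⦃V : C⦄ (g : V ⟶ U), S g → ∃ i, IsUnit ((O.obj.map g.op).hom (f i))) := by
  constructor
  · intro H U n f hn hf
    exact ⟨unitSieve O.obj f, unitSieve_mem O.obj J H n hn U f hf, fun V g hg => hg⟩
  · intro H U f
    have hspan : Ideal.span (Set.range ![f, 1 - f]) = ⊤ := by
      refine Ideal.eq_top_of_isUnit_mem _ ?_ isUnit_one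
      have h2 : f + (1 - f) ∈ Ideal.span (Set.range ![f, 1 - f]) :=
        Ideal.add_mem _ (Ideal.subset_span ⟨0, rfl⟩) (Ideal.subset_span ⟨1, rfl⟩)
      have : f + (1 - f) = (1 : O.obj.obj (op U)) := by ring
      rwa [this] at h2
    obtain ⟨S, hS, hS'⟩ := H U 2 ![f, 1 - f] (by norm_num) hspan
    refine ⟨S, hS, fun V g hg => ?_⟩
    obtain ⟨i, hi⟩ := hS' g hg
    fin_cases i
    · exact Or.inl hi
    · exact Or.inr hi

end Groth.Agent.S9089
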