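import Groth.Statements.S9091


set_option autoImplicit false
universe u
open CategoryTheory Opposite
open ModSite

namespace Groth.Agent.S9091

/-- if the germ of `a` at `(U, x)` is a unit in the stalk, `a` restricts to a unit on a
neighbourhood -/
theorem exists_isUnit_of_isUnit_germ {C : Type u} [SmallCategory C] {J : GrothendieckTopology C}
    (O : Sheaf J CommRingCat.{u}) (p : GrothendieckTopology.Point.{u} J) (U : C)
    (x : p.fiber.obj U) (a : O.obj.obj (op U))
    (ha : IsUnit (ModSite.germRing p U x a)) :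
    ∃ (Y : C) (g : Y ⟶ U) (y : p.fiber.obj Y), p.fiber.map g y = x ∧
      IsUnit ((O.obj.map g.op).hom a) := by
  obtain ⟨t, ht⟩ := ha.exists_right_inv
  obtain ⟨V, v, t₀, rfl⟩ := p.toPresheafFiber_jointly_surjective (P := O.obj) t
  let W := IsCofiltered.min (Functor.elementsMk p.fiber U x) (Functor.elementsMk p.fiber V v)
  let gX := IsCofiltered.minToLeft (Functor.elementsMk p.fiber U x) (Functor.elementsMk p.fiber V v)
  let gY := IsCofiltered.minToRight (Functor.elementsMk p.fiber U x) (Functor.elementsMk p.fiber V v)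
  have hX : (p.toPresheafFiber U x O.obj).hom a =
      (p.toPresheafFiber W.1 W.2 O.obj).hom ((O.obj.map gX.1.op).hom a) :=
    ((congrArg (fun t => (p.toPresheafFiber U t O.obj).hom a) gX.2).symm).trans
      (p.toPresheafFiber_w_apply gX.1 W.2 O.obj a).symm
  have hY : (p.toPresheafFiber V v O.obj).hom t₀ =
      (p.toPresheafFiber W.1 W.2 O.obj).hom ((O.obj.map gY.1.op).hom t₀) :=
    ((congrArg (fun t => (p.toPresheafFiber V t O.obj).hom t₀) gY.2).symm).trans
      (p.toPresheafFiber_w_apply gY.1 W.2 O.obj t₀).symm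
  have h1 : (p.toPresheafFiber W.1 W.2 O.obj).hom
      ((O.obj.map gX.1.op).hom a * (O.obj.map gY.1.op).hom t₀) =
      (p.toPresheafFiber W.1 W.2 O.obj).hom 1 := by
    rw [map_mul, map_one, ← hX, ← hY]
    exact ht
  obtain ⟨Y, g, y, hy, hY'⟩ := (p.toPresheafFiber_eq_iff' (P := O.obj) W.1 W.2 _ _).mp h1
  refine ⟨Y, g ≫ gX.1, y, ?_, ?_⟩
  · rw [Functor.map_comp]
    change p.fiber.map gX.1 (p.fiber.map g y) = x
    rw [hy]
    exact gX.2
  · have h2 : (O.obj.map g.op).hom ((O.obj.map gX.1.op).hom a) *
        (O.obj.map g.op).hom ((O.obj.map gY.1.op).hom t₀) = 1 := by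
      rw [← map_mul]
      exact hY'.trans (map_one _)
    have h3 : (O.obj.map (g ≫ gX.1).op).hom a = (O.obj.map g.op).hom ((O.obj.map gX.1.op).hom a) := by
      rw [op_comp, Functor.map_comp]
      rfl
    rw [h3]
    exact IsUnit.of_mul_eq_one _ h2


/-- Part (2): ⇒ (1) when the site has enough points, for a ringed site (C, O) with C small and O a sheaf
of commutative rings: if at every point p of the site the stalk O_p is the zero ring or is local,
then for every object U and every section f of O over U there is a covering sieve on U on each of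
whose arrows either f or 1 - f restricts to a unit. -/
theorem result {C : Type u} [SmallCategory C] {J : GrothendieckTopology C}
    (O : Sheaf J CommRingCat.{u}) [GrothendieckTopology.HasEnoughPoints.{u} J]
    (h : ∀ p : GrothendieckTopology.Point.{u} J, Subsingleton (ModSite.stalkRing p O) ∨ IsLocalRing (ModSite.stalkRing p O))
    (U : C) (f : O.obj.obj (op U)) :
    ∃ S ∈ J U, ∀ ⦃V : C⦄ (g : V ⟶ U), S g →
        IsUnit ((O.obj.map g.op).hom f) ∨ IsUnit ((O.obj.map g.op).hom (1 - f)) := by
  classical
  obtain ⟨P, hPsmall, hP⟩ := GrothendieckTopology.HasEnoughPoints.exists_objectProperty.{u} J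
  let ι : Type u := Σ V : C, {g : V ⟶ U //
    IsUnit ((O.obj.map g.op).hom f) ∨ IsUnit ((O.obj.map g.op).hom (1 - f))}
  let V : ι → C := fun i => i.1
  let gg : ∀ i : ι, V i ⟶ U := fun i => i.2.1
  refine ⟨Sieve.ofArrows V gg, ?_, ?_⟩
  · rw [hP.jointly_reflect_ofArrows_mem_of_small]
    intro Φ x
    rcases h Φ.obj with hsub | hloc
    · have h1 : (Φ.obj.toPresheafFiber U x O.obj).hom 1 = (Φ.obj.toPresheafFiber U x O.obj).hom 0 :=
        @Subsingleton.elim _ hsub _ _
      obtain ⟨Y, g, y, hy, hY⟩ := (Φ.obj.toPresheafFiber_eq_iff' (P := O.obj) U x _ _).mp h1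
      have h10 : (1 : O.obj.obj (op Y)) = 0 := by
        have := hY
        rw [map_one, map_zero] at this
        exact this
      haveI : Subsingleton (O.obj.obj (op Y)) := subsingleton_of_zero_eq_one h10.symm
      exact ⟨⟨Y, g, Or.inl (isUnit_of_subsingleton _)⟩, y, hy⟩
    · rcases IsLocalRing.isUnit_or_isUnit_one_sub_self (ModSite.germRing Φ.obj U x f) with hu | hu
      · obtain ⟨Y, g, y, hy, hY⟩ := exists_isUnit_of_isUnit_germ O Φ.obj U x f hu
        exact ⟨⟨Y, g, Or.inl hY⟩, y, hy⟩
      · have hu' : IsUnit (ModSite.germRing Φ.obj U x (1 - f)) := by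
          have : ModSite.germRing Φ.obj U x (1 - f) = 1 - ModSite.germRing Φ.obj U x f :=
            (map_sub (Φ.obj.toPresheafFiber U x O.obj).hom 1 f).trans
              (congrArg (· - ModSite.germRing Φ.obj U x f)
                (map_one (Φ.obj.toPresheafFiber U x O.obj).hom))
          rw [this]
          exact hu
        obtain ⟨Y, g, y, hy, hY⟩ := exists_isUnit_of_isUnit_germ O Φ.obj U x (1 - f) hu'
        exact ⟨⟨Y, g, Or.inr hY⟩, y, hy⟩
  · rintro W g ⟨Y, h', _, ⟨i⟩, rfl⟩
    have hres : ∀ a : O.obj.obj (op U), (O.obj.map (h' ≫ gg i).op).hom a =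
        (O.obj.map h'.op).hom ((O.obj.map (gg i).op).hom a) := fun a => by
      rw [op_comp, Functor.map_comp]
      rfl
    rcases i.2.2 with hu | hu
    · left
      rw [hres]
      exact hu.map _
    · right
      rw [hres]
      exact hu.map _

end Groth.Agent.S9091
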