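import Groth.Statements.S9097
import Mathlib

set_option autoImplicit false
universe u
open CategoryTheory Opposite
open CohSite

namespace Groth.Agent.S9097

open CategoryTheory.Limits

variable {C : Type u} [SmallCategory C] (J : GrothendieckTopology C)

instance instPFL1 : PreservesFiniteLimits (constantSheaf J AddCommGrpCat.{u}) := by
  unfold constantSheaf; infer_instance

instance instPFL2 (U : C) : PreservesFiniteLimits ((sheafSections J AddCommGrpCat.{u}).obj (op U)) :=
  preservesFiniteLimits_of_natIso
    (sheafSectionsNatIsoEvaluation (J := J) (A := AddCommGrpCat.{u}) (X := U)).symm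

/-- sections of constant sheaves preserve surjections (set-theoretic section trick) -/
theorem surjective_sections {X₂ X₃ : AddCommGrpCat.{u}} (g : X₂ ⟶ X₃)
    (hg : Function.Surjective g) (U : C) :
    Function.Surjective
      (((constantSheaf J AddCommGrpCat.{u}).map g).hom.app (op U)) := by
  let U' := forget AddCommGrpCat.{u}
  let e := constantCommuteCompose J U'
  let s : U'.obj X₃ ⟶ U'.obj X₂ := ↾(Function.surjInv hg)
  have hs : s ≫ U'.map g = 𝟙 _ := by
    ext y
    exact Function.surjInv_eq hg y
  let σ : (sheafCompose J U').obj ((constantSheaf J AddCommGrpCat.{u}).obj X₃) ⟶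
      (sheafCompose J U').obj ((constantSheaf J AddCommGrpCat.{u}).obj X₂) :=
    e.hom.app X₃ ≫ (constantSheaf J (Type u)).map s ≫ e.inv.app X₂
  have hσ : σ ≫ (constantSheaf J AddCommGrpCat.{u} ⋙ sheafCompose J U').map g = 𝟙 _ := by
    have nat := e.inv.naturality g
    simp only [σ, Category.assoc]
    rw [← nat]
    simp only [Functor.comp_map]
    rw [← Category.assoc ((constantSheaf J (Type u)).map s), ← Functor.map_comp, hs,
      CategoryTheory.Functor.map_id, Category.id_comp]
    exact (e.app X₃).hom_inv_id
  have hσU := congrArg (fun φ => φ.hom.app (op U)) hσ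
  intro y
  refine ⟨σ.hom.app (op U) y, ?_⟩
  have := ConcreteCategory.congr_hom hσU y
  exact this

/-- If 0 → A → B → C → 0 is short exact in the category of abelian groups then, for every object U, the
sequence 0 → A̲(U) → B̲(U) → C̲(U) → 0 of sections of the constant abelian sheaves is short exact;
in other words the sequence of constant sheaves is exact even as a sequence of abelian presheaves.
The instance binder on the sections-of-constant-sheaf functor (it preserves zero morphisms) always
holds and is only needed to form the complex. -/
theorem result {C : Type u} [SmallCategory C] (J : GrothendieckTopology C)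
    (S : ShortComplex AddCommGrpCat.{u}) (hS : S.ShortExact) (U : C)
    [(constantSheaf J AddCommGrpCat.{u} ⋙ (sheafSections J AddCommGrpCat.{u}).obj (op U)).PreservesZeroMorphisms] :
    (S.map (constantSheaf J AddCommGrpCat.{u} ⋙ (sheafSections J AddCommGrpCat.{u}).obj (op U))).ShortExact := by
  have := hS.mono_f
  have := hS.epi_g
  have hex : (S.map (constantSheaf J AddCommGrpCat.{u} ⋙
      (sheafSections J AddCommGrpCat.{u}).obj (op U))).Exact :=
    hS.exact.map_of_mono_of_preservesKernel _ inferInstance inferInstance
  have hmono : Mono (S.map (constantSheaf J AddCommGrpCat.{u} ⋙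
      (sheafSections J AddCommGrpCat.{u}).obj (op U))).f :=
    (inferInstance : Mono ((constantSheaf J AddCommGrpCat.{u} ⋙
      (sheafSections J AddCommGrpCat.{u}).obj (op U)).map S.f))
  have hepi : Epi (S.map (constantSheaf J AddCommGrpCat.{u} ⋙
      (sheafSections J AddCommGrpCat.{u}).obj (op U))).g := by
    change Epi (((constantSheaf J AddCommGrpCat.{u}).map S.g).hom.app (op U))
    rw [AddCommGrpCat.epi_iff_surjective]
    exact surjective_sections J S.g ((AddCommGrpCat.epi_iff_surjective _).mp hS.epi_g) U
  exact { exact := hex, mono_f := hmono, epi_g := hepi }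

end Groth.Agent.S9097
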