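import Groth.Statements.S9102
import Groth.Agent.Lib.Helper1.QcSections
import Groth.Agent.Lib.Helper1.CoyonedaCoprod

set_option autoImplicit false
universe u
open CategoryTheory Opposite
open ModSite

namespace Groth.Agent.S9102

open CategoryTheory.Limits Groth.Agent.H1.FreeOnLoc Groth.Agent.Lib.Helper21.ModFree
  Groth.Agent.H1.HomSum

variable {C : Type u} [SmallCategory C] {J : GrothendieckTopology C} (O : Sheaf J CommRingCat.{u})

lemma freeOnHomEquiv_add (X : C) (M : ModSite.Mod O) (s s' : ModSite.freeOn O X ⟶ M) :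
    freeOnHomEquiv O X M (s + s') = freeOnHomEquiv O X M s + freeOnHomEquiv O X M s' := by
  rw [freeOnHomEquiv_eq, freeOnHomEquiv_eq, freeOnHomEquiv_eq]
  simp

open scoped Classical in
lemma key (W : C) (hW : CohCx.IsQcObject ((presheafToSheaf J (Type u)).obj (yoneda.obj W)))
    {ι : Type u} (Y : ι → ModSite.Mod O) :
    Function.Bijective (DirectSum.toAddMonoid (fun i =>
      ((SheafOfModules.toSheaf (ModSite.ringSh O) ⋙
        (sheafSections J AddCommGrpCat.{u}).obj (op W)).map (Sigma.ι Y i)).hom) :
      DirectSum ι (fun i => (SheafOfModules.toSheaf (ModSite.ringSh O) ⋙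
        (sheafSections J AddCommGrpCat.{u}).obj (op W)).obj (Y i)) →+
      (SheafOfModules.toSheaf (ModSite.ringSh O) ⋙
        (sheafSections J AddCommGrpCat.{u}).obj (op W)).obj (∐ Y)) := by
  let Φ := SheafOfModules.toSheaf (ModSite.ringSh O) ⋙
    (sheafSections J AddCommGrpCat.{u}).obj (op W)
  let E : ∀ M : ModSite.Mod O, (ModSite.freeOn O W ⟶ M) ≃+ Φ.obj M := fun M =>
    { toEquiv := freeOnHomEquiv O W M
      map_add' := freeOnHomEquiv_add O W M }
  let ψ : DirectSum ι (fun i => Φ.obj (Y i)) →+ Φ.obj (∐ Y) :=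
    DirectSum.toAddMonoid (fun i => (Φ.map (Sigma.ι Y i)).hom)
  let m : DirectSum ι (fun i => ModSite.freeOn O W ⟶ Y i) →+ DirectSum ι (fun i => Φ.obj (Y i)) :=
    DirectSum.map (fun i => (E (Y i)).toAddMonoidHom)
  have hm : Function.Bijective m := by
    constructor
    · exact (DirectSum.map_injective _).2 (fun i => (E (Y i)).injective)
    · exact (DirectSum.map_surjective _).2 (fun i => (E (Y i)).surjective)
  have hcomp : ψ.comp m = (E (∐ Y)).toAddMonoidHom.comp
      (homSum (ModSite.freeOn O W) Y (Cofan.mk (∐ Y) (Sigma.ι Y))) := by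
    apply DirectSum.addHom_ext
    intro i σ
    change ψ (m (DirectSum.of (fun i => ModSite.freeOn O W ⟶ Y i) i σ)) =
      E (∐ Y) (homSum _ Y _ (DirectSum.of (fun i => ModSite.freeOn O W ⟶ Y i) i σ))
    rw [homSum_of]
    change ψ (DirectSum.map _ (DirectSum.of (fun i => ModSite.freeOn O W ⟶ Y i) i σ)) = _
    rw [DirectSum.map_of, DirectSum.toAddMonoid_of]
    exact (freeOnHomEquiv_comp O W σ (Sigma.ι Y i)).symm
  have h2 : Function.Bijective (ψ ∘ m) := by
    have : (ψ ∘ m) = (E (∐ Y)) ∘ (homSum (ModSite.freeOn O W) Y (Cofan.mk (∐ Y) (Sigma.ι Y))) := by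
      funext s
      exact congrArg (fun f => f s) hcomp
    rw [this]
    exact (E (∐ Y)).bijective.comp
      (Groth.Agent.H1.QcSections.bijective_homSum_of_isQcObject O Y W hW)
  exact (Function.Bijective.of_comp_iff _ hm).1 h2

theorem main (W : C)
    (hW : CohCx.IsQcObject ((presheafToSheaf J (Type u)).obj (yoneda.obj W))) (ι : Type u) :
    PreservesColimitsOfShape (Discrete ι)
      (SheafOfModules.toSheaf (ModSite.ringSh O) ⋙ (sheafSections J AddCommGrpCat.{u}).obj (op W)) := by
  refine ⟨fun {K} => ?_⟩
  have hY : PreservesColimit (Discrete.functor (K.obj ∘ Discrete.mk))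
      (SheafOfModules.toSheaf (ModSite.ringSh O) ⋙
        (sheafSections J AddCommGrpCat.{u}).obj (op W)) := by
    apply preservesColimit_of_preserves_colimit_cocone
      (coproductIsCoproduct (K.obj ∘ Discrete.mk))
    refine (isColimitMapCoconeCofanMkEquiv _ _ _).symm ?_
    apply Groth.Agent.H1.CoyonedaCoprod.isColimitOfBijective
    exact key O W hW (K.obj ∘ Discrete.mk)
  exact preservesColimit_of_iso_diagram _ (Discrete.natIsoFunctor (F := K)).symm

open CategoryTheory.Limits in
/-- Part (2): on a small ringed site (C, O) with O commutative: let W be an object of C which is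
quasi-compact, in the sense that the sheaf of sets h_W^# associated to W is a quasi-compact object
of the topos. Then the functor F ↦ F(W) from O-modules to abelian groups commutes with arbitrary
direct sums (coproducts indexed by a small type). -/
theorem result {C : Type u} [SmallCategory C] {J : GrothendieckTopology C}
    (O : Sheaf J CommRingCat.{u}) (W : C)
    (hW : CohCx.IsQcObject ((presheafToSheaf J (Type u)).obj (yoneda.obj W))) (ι : Type u) :
    PreservesColimitsOfShape (Discrete ι)
      (SheafOfModules.toSheaf (ModSite.ringSh O) ⋙ (sheafSections J AddCommGrpCat.{u}).obj (op W)) := by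
  exact main O W hW ι

end Groth.Agent.S9102
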