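import Groth.Statements.S9105


set_option autoImplicit false
universe u
open CategoryTheory
open ModSite

namespace Groth.Agent.S9105

/-- If (C, O) is a locally ringed site (C small, O a sheaf of commutative rings) and U is an object of
C, then the localised ringed site (C/U, O_U) is again locally ringed. -/
theorem result {C : Type u} [SmallCategory C] {J : GrothendieckTopology C} (O : Sheaf J CommRingCat.{u})
    (hO : ModSite.IsLocallyRinged J O) (U : C) : ModSite.IsLocallyRinged (J.over U) (O.over U) := by
  obtain ⟨ha, hb⟩ := hO
  refine ⟨fun V f => ?_, fun V h01 => ?_⟩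
  · obtain ⟨T, hT, hTf⟩ := ha V.left f
    refine ⟨(Sieve.overEquiv V).symm T, J.overEquiv_symm_mem_over V T hT, fun W g hg => ?_⟩
    exact hTf g.left ((Sieve.overEquiv_symm_iff T g).mp hg)
  · have h := hb V.left h01
    rw [GrothendieckTopology.mem_over_iff]
    have : Sieve.overEquiv V (⊥ : Sieve V) = ⊥ := (Sieve.overEquiv V).map_bot
    rw [this]
    exact h

end Groth.Agent.S9105
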