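import Groth.Statements.S9107
import Mathlib.Algebra.Category.ModuleCat.Sheaf.Colimits
import Mathlib.Algebra.Category.ModuleCat.Presheaf.Sheafification

set_option autoImplicit false
universe u
open CategoryTheory
open ModSite

namespace Groth.Agent.S9107

open CategoryTheory.Limits in
/-- If `L ⊣ i` is a reflection (counit iso) and `L ⋙ T` preserves colimits of shape `K`, so does `T`. -/
lemma preservesColimitsOfShape_of_reflective {A B D K : Type*} [Category A] [Category B]
    [Category D] [Category K] (L : A ⥤ B) (i : B ⥤ A) (adj : L ⊣ i) [IsIso adj.counit]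
    (T : B ⥤ D) [PreservesColimitsOfShape K (L ⋙ T)] [HasColimitsOfShape K A] :
    PreservesColimitsOfShape K T := by
  constructor
  intro F
  have : PreservesColimitsOfSize L := adj.leftAdjoint_preservesColimits
  let e : F ≅ (F ⋙ i) ⋙ L :=
    (Functor.rightUnitor F).symm ≪≫ Functor.isoWhiskerLeft F (asIso adj.counit).symm ≪≫
      (Functor.associator _ _ _).symm
  let c' := colimit.cocone (F ⋙ i)
  have hc' : IsColimit c' := colimit.isColimit (F ⋙ i)
  have hL : IsColimit (L.mapCocone c') := isColimitOfPreserves L hc'
  let c : Cocone F := (Cocone.precompose e.hom).obj (L.mapCocone c')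
  have hc : IsColimit c := (IsColimit.precomposeHomEquiv e _).symm hL
  apply preservesColimit_of_preserves_colimit_cocone hc
  have h2 : IsColimit ((L ⋙ T).mapCocone c') := isColimitOfPreserves (L ⋙ T) hc'
  refine IsColimit.ofIsoColimit
    ((IsColimit.precomposeHomEquiv (Functor.isoWhiskerRight e T ≪≫ Functor.associator _ _ _)
      _).symm h2) ?_
  exact Cocone.ext (Iso.refl _) (by intro j; simp [c])

open CategoryTheory.Limits in
/-- Last assertion, on a small ringed site (C, O) with O commutative: filtered colimits are exact in the
category Mod(O) of sheaves of O-modules, i.e. for every small filtered category Λ the colimit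
functor on Λ-shaped diagrams of O-modules preserves finite limits. -/
theorem result {C : Type u} [SmallCategory C] {J : GrothendieckTopology C}
    (O : Sheaf J CommRingCat.{u}) (Λ : Type u) [SmallCategory Λ] [IsFiltered Λ] :
    HasExactColimitsOfShape Λ (ModSite.Mod O) := by
  have h1 : Limits.PreservesColimitsOfShape Λ
      (PresheafOfModules.sheafification.{u} (𝟙 (ringSh O).obj) ⋙
        SheafOfModules.toSheaf (ringSh O)) := by
    change Limits.PreservesColimitsOfShape Λ
      (PresheafOfModules.toPresheaf _ ⋙ presheafToSheaf J AddCommGrpCat)
    infer_instance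
  have h2 : Limits.PreservesColimitsOfShape Λ (SheafOfModules.toSheaf (ringSh O)) :=
    preservesColimitsOfShape_of_reflective
      (PresheafOfModules.sheafification.{u} (𝟙 (ringSh O).obj)) _
      (PresheafOfModules.sheafificationAdjunction (𝟙 (ringSh O).obj)) _
  exact HasExactColimitsOfShape.domain_of_functor Λ (SheafOfModules.toSheaf (ringSh O))

end Groth.Agent.S9107
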