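import Groth.Statements.S9109
import Mathlib

set_option autoImplicit false
universe u
open CategoryTheory CategoryTheory.Limits
open CohSite

namespace Groth.Agent.S9109



/-- Part (1): on a small site (C, J) with a point p: the skyscraper functor p_* from abelian groups to
abelian sheaves on C (right adjoint to the stalk functor at p; its value on A is the sheaf U ↦ ∏_{x
∈ p⁻¹U} A) is exact. As a right adjoint it preserves limits; the statement here is that it also
preserves finite colimits. -/
theorem result {C : Type u} [SmallCategory C] {J : GrothendieckTopology C}
    (p : GrothendieckTopology.Point.{u} J) :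
    PreservesFiniteColimits (p.skyscraperSheafFunctor (A := AddCommGrpCat.{u})) := by
  have hadd : (p.skyscraperSheafFunctor (A := AddCommGrpCat.{u})).Additive :=
    Functor.additive_of_preserves_binary_products _
  refine ((Functor.preservesFiniteColimits_tfae
    (p.skyscraperSheafFunctor (A := AddCommGrpCat.{u}))).out 0 3).mp ?_
  intro S hS
  have := hS.mono_f
  have := hS.epi_g
  refine ⟨hS.exact.map_of_mono_of_preservesKernel _ inferInstance inferInstance, ?_⟩
  apply (sheafToPresheaf J AddCommGrpCat.{u}).epi_of_epi_map
  apply (config := {allowSynthFailures := true}) NatTrans.epi_of_epi_app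
  intro X
  change Epi (lim.map (Discrete.natTrans
    (F := Discrete.functor fun _ : p.fiber.obj X.unop => S.X₂)
    (G := Discrete.functor fun _ : p.fiber.obj X.unop => S.X₃) (fun _ => S.g)))
  have h1 : Epi (Discrete.natTrans
      (F := Discrete.functor fun _ : p.fiber.obj X.unop => S.X₂)
      (G := Discrete.functor fun _ : p.fiber.obj X.unop => S.X₃) (fun _ => S.g)) := by
    apply (config := {allowSynthFailures := true}) NatTrans.epi_of_epi_app
    intro j
    exact hS.epi_g
  have h2 : (lim : (Discrete (p.fiber.obj X.unop) ⥤ AddCommGrpCat.{u}) ⥤ _).PreservesEpimorphisms :=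
    inferInstance
  exact Functor.map_epi _ _

end Groth.Agent.S9109
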