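import Groth.Statements.S9111
import Mathlib
-- import your own Groth.Agent.* helpers here

set_option autoImplicit false
universe u
open CategoryTheory CategoryTheory.Limits
open ModSite

namespace Groth.Agent.S9111

open TensorProduct LinearMap MonoidalCategory in
/-- Variant of `LinearMap.lTensor_injective_of_exact_of_flat` where flatness of `P` is only
assumed against one flat presentation of `A`. -/
lemma lTensor_injective_of_exact {R : Type*} [CommRing R] {M N P A Q K : Type*}
    [AddCommGroup M] [Module R M] [AddCommGroup N] [Module R N] [AddCommGroup P] [Module R P]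
    [AddCommGroup A] [Module R A] [AddCommGroup Q] [Module R Q] [AddCommGroup K] [Module R K]
    (f : N →ₗ[R] P) (hf : Function.Surjective f) (g : M →ₗ[R] N) (hg : Function.Injective g)
    (H : Function.Exact g f)
    (π : Q →ₗ[R] A) (hπ : Function.Surjective π) (ι : K →ₗ[R] Q)
    (Hι : Function.Exact ι π) [Module.Flat R Q]
    (hP : Function.Injective (ι.rTensor P)) :
    Function.Injective (g.lTensor A) := by
  have := SnakeLemma.exact_δ'_left (ι.rTensor M) (ι.rTensor N) (ι.rTensor P)
    (g.lTensor K) (f.lTensor K) (lTensor_exact K H hf) (g.lTensor Q) (f.lTensor Q)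
    (lTensor_exact Q H hf) (by simp) (by simp) (K₃ := Unit) 0
    (by simpa using hP)
    (π.rTensor M) (rTensor_exact _ Hι hπ) (π.rTensor N)
    (rTensor_exact _ Hι hπ) (lTensor_surjective K hf)
    (Module.Flat.lTensor_preserves_injective_linearMap _ hg) (g.lTensor A)
    (by simp) (rTensor_surjective _ hπ)
  rw [Subsingleton.elim (SnakeLemma.δ' ..) 0] at this
  simpa using this

open TensorProduct LinearMap in
lemma rTensor_injective_of_exact {R : Type*} [CommRing R] {M N P A Q K : Type*}
    [AddCommGroup M] [Module R M] [AddCommGroup N] [Module R N] [AddCommGroup P] [Module R P]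
    [AddCommGroup A] [Module R A] [AddCommGroup Q] [Module R Q] [AddCommGroup K] [Module R K]
    (f : N →ₗ[R] P) (hf : Function.Surjective f) (g : M →ₗ[R] N) (hg : Function.Injective g)
    (H : Function.Exact g f)
    (π : Q →ₗ[R] A) (hπ : Function.Surjective π) (ι : K →ₗ[R] Q)
    (Hι : Function.Exact ι π) [Module.Flat R Q]
    (hP : Function.Injective (ι.rTensor P)) :
    Function.Injective (g.rTensor A) :=
  (g.lTensor_inj_iff_rTensor_inj A).1 (lTensor_injective_of_exact f hf g hg H π hπ ι Hι hP)


/-- Let C be a small category and O a presheaf of commutative rings on C. If 0 → F'' → F' → F → 0 is a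
short exact sequence of presheaves of O-modules whose right-hand term F is flat (the sectionwise
tensor product functor - ⊗_{p,O} F is exact), then for every presheaf of O-modules G the tensored
sequence 0 → F'' ⊗_{p,O} G → F' ⊗_{p,O} G → F ⊗_{p,O} G → 0 is short exact. The instance binder (the
functor - ⊗_{p,O} G preserves zero morphisms) always holds and is only needed to form the complex. -/
theorem result {C : Type u} [SmallCategory C] (O : Cᵒᵖ ⥤ CommRingCat.{u})
    (S : ShortComplex (PresheafOfModules.{u} (O ⋙ forget₂ CommRingCat.{u} RingCat.{u}))) (hS : S.ShortExact)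
    (hF : PreservesFiniteLimits (MonoidalCategory.tensorRight S.X₃) ∧ PreservesFiniteColimits (MonoidalCategory.tensorRight S.X₃))
    (G : PresheafOfModules.{u} (O ⋙ forget₂ CommRingCat.{u} RingCat.{u})) [(MonoidalCategory.tensorRight G).PreservesZeroMorphisms] :
    (S.map (MonoidalCategory.tensorRight G)).ShortExact := by
  obtain ⟨hL, -⟩ := hF
  haveI := hS.mono_f
  haveI := hS.epi_g
  have hex : (S.map (MonoidalCategory.tensorRight G)).Exact :=
    hS.exact.map_of_epi_of_preservesCokernel (MonoidalCategory.tensorRight G) inferInstance
      inferInstance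
  haveI : Epi (S.map (MonoidalCategory.tensorRight G)).g := by
    show Epi ((MonoidalCategory.tensorRight G).map S.g); infer_instance
  haveI : Mono (S.map (MonoidalCategory.tensorRight G)).f := by
    show Mono ((MonoidalCategory.tensorRight G).map S.f)
    refine PresheafOfModules.mono_of_injective (fun X => ?_)
    -- the free presentation of G
    let Fr : PresheafOfModules.{u} (O ⋙ forget₂ CommRingCat.{u} RingCat.{u}) :=
      PresheafOfModules.freeObj (G.presheaf ⋙ forget _)
    let π : Fr ⟶ G := PresheafOfModules.freeObjDesc (𝟙 _)
    let ι := kernel.ι π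
    haveI : Mono ((MonoidalCategory.tensorRight S.X₃).map ι) := inferInstance
    have h1 := PresheafOfModules.injective_of_mono ((MonoidalCategory.tensorRight S.X₃).map ι) X
    have hπ : Function.Surjective (π.app X).hom := by
      intro g
      exact ⟨ModuleCat.freeMk g, ModuleCat.freeDesc_apply _ g⟩
    have e1 : Function.Exact (S.f.app X).hom (S.g.app X).hom := by
      have := hS.exact.map (PresheafOfModules.evaluation _ X)
      exact (ShortComplex.ShortExact.moduleCat_exact_iff_function_exact _).1 this
    have e2 : Function.Exact (ι.app X).hom (π.app X).hom := by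
      have h0 : (ShortComplex.mk ι π (kernel.condition π)).Exact :=
        ShortComplex.exact_of_f_is_kernel _ (kernelIsKernel π)
      have := h0.map (PresheafOfModules.evaluation _ X)
      exact (ShortComplex.ShortExact.moduleCat_exact_iff_function_exact _).1 this
    haveI : Module.Flat (O.obj X) (Fr.obj X) := by
      show Module.Flat (O.obj X) ((G.presheaf ⋙ forget _).obj X →₀ O.obj X)
      infer_instance
    exact rTensor_injective_of_exact (R := O.obj X) (S.g.app X).hom
      (PresheafOfModules.surjective_of_epi S.g X) (S.f.app X).hom
      (PresheafOfModules.injective_of_mono S.f X) e1 (π.app X).hom hπ (ι.app X).hom e2 h1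
  exact { exact := hex }

end Groth.Agent.S9111
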