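import Groth.Statements.S9112
import Mathlib
import Groth.Agent.Lib.Helper21.ModSh
-- import your own Groth.Agent.* helpers here

set_option autoImplicit false
universe u
open CategoryTheory
open ModSite

namespace Groth.Agent.S9112

/-- Part (1): on a small ringed site (C, O) with O commutative, for a point p of the site: the stalk
functor F ↦ F_p from O-modules to O_p-modules is exact. Stated on a short exact sequence 0 → F₁ → F₂
→ F₃ → 0 of O-modules: the induced O_p-linear map F₁,p → F₂,p is injective, F₂,p → F₃,p is
surjective, and the range of the first is the kernel of the second. -/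
theorem result {C : Type u} [SmallCategory C] {J : GrothendieckTopology C}
    (O : Sheaf J CommRingCat.{u}) (S : ShortComplex (ModSite.Mod O)) (hS : S.ShortExact)
    (p : GrothendieckTopology.Point.{u} J) :
    Function.Injective (ModSite.stalkMap p S.f).hom ∧ Function.Surjective (ModSite.stalkMap p S.g).hom ∧
      LinearMap.range (ModSite.stalkMap p S.f).hom = LinearMap.ker (ModSite.stalkMap p S.g).hom := by
  let T : ModSite.Mod O ⥤ AddCommGrpCat.{u} :=
    SheafOfModules.toSheaf.{u} (ModSite.ringSh O) ⋙ p.sheafFiber (A := AddCommGrpCat.{u})
  have hlim := Groth.Agent.Lib.Helper21.ModSh.toSheaf_preservesLimits (ModSite.ringSh O)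
  have hcolim := Groth.Agent.Lib.Helper21.ModSh.toSheaf_preservesColimits (ModSite.ringSh O)
  haveI : Limits.PreservesFiniteLimits (SheafOfModules.toSheaf.{u} (ModSite.ringSh O)) :=
    Limits.PreservesLimitsOfSize.preservesFiniteLimits _
  haveI : Limits.PreservesFiniteLimits T := Limits.comp_preservesFiniteLimits _ _
  haveI : T.PreservesZeroMorphisms := inferInstance
  have hmf := hS.mono_f
  have heg := hS.epi_g
  have hex : (S.map T).Exact := hS.exact.map_of_mono_of_preservesKernel T hS.mono_f inferInstance
  have hmono : Mono (T.map S.f) := inferInstance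
  have hinj : Function.Injective (T.map S.f).hom := (AddCommGrpCat.mono_iff_injective _).1 hmono
  have hfe : Function.Exact (T.map S.f).hom (T.map S.g).hom :=
    (ShortComplex.ab_exact_iff_function_exact _).1 hex
  haveI : Epi ((SheafOfModules.toSheaf.{u} (ModSite.ringSh O)).map S.g) := inferInstance
  haveI : Sheaf.IsLocallySurjective ((SheafOfModules.toSheaf.{u} (ModSite.ringSh O)).map S.g) :=
    (Sheaf.isLocallySurjective_iff_epi' _ _).2 inferInstance
  have hsurj : Function.Surjective (T.map S.g).hom :=
    p.toPresheafFiber_map_surjective ((SheafOfModules.toSheaf.{u} (ModSite.ringSh O)).map S.g).hom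
  refine ⟨hinj, hsurj, ?_⟩
  ext x
  rw [LinearMap.mem_range, LinearMap.mem_ker]
  exact (hfe x).symm

end Groth.Agent.S9112
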