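import Groth.Statements.S9121
import Mathlib
-- import your own Groth.Agent.* helpers here

set_option autoImplicit false
universe u
open CategoryTheory CategoryTheory.Limits
open CohSite

namespace Groth.Agent.S9121

/-- Part (1): for the morphism of topoi f : Sh(C) → Sh(D) attached to a continuous functor u : D ⥤ C
between small sites whose induced pullback of sheaves of sets is exact (f_* is restriction along u):
if f_* transforms epimorphisms of sheaves of sets into epimorphisms, then f_* on abelian sheaves is
exact; being a right adjoint it preserves finite limits, and the statement is that it also preserves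
finite colimits. -/
theorem result {C D : Type u} [SmallCategory C] [SmallCategory D]
    (J : GrothendieckTopology C) (K : GrothendieckTopology D) (u : D ⥤ C) [u.IsContinuous K J]
    [PreservesFiniteLimits (u.sheafPullback (Type u) K J)]
    [(u.sheafPushforwardContinuous (Type u) K J).PreservesEpimorphisms] :
    PreservesFiniteColimits (u.sheafPushforwardContinuous AddCommGrpCat.{u} K J) := by
  let GA := u.sheafPushforwardContinuous AddCommGrpCat.{u} K J
  let GS := u.sheafPushforwardContinuous (Type u) K J
  have adj : u.sheafPullback AddCommGrpCat.{u} K J ⊣ GA := u.sheafAdjunctionContinuous AddCommGrpCat.{u} K J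
  haveI : PreservesLimitsOfSize.{0, 0} GA := adj.rightAdjoint_preservesLimits
  haveI : PreservesFiniteLimits GA := inferInstance
  haveI : GA.Additive := Functor.additive_of_preserves_binary_products _
  haveI : GA.PreservesEpimorphisms := by
    constructor
    intro F F' φ hφ
    haveI : Sheaf.IsLocallySurjective φ := (CategoryTheory.Sheaf.isLocallySurjective_iff_epi' (φ := φ)).2 hφ
    haveI h1 : Epi ((sheafCompose J (forget AddCommGrpCat.{u})).map φ) := inferInstance
    haveI h2 : Epi (GS.map ((sheafCompose J (forget AddCommGrpCat.{u})).map φ)) := inferInstance
    have h3 : Sheaf.IsLocallySurjective (GS.map ((sheafCompose J (forget AddCommGrpCat.{u})).map φ)) :=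
      (Sheaf.isLocallySurjective_iff_epi _).2 h2
    have h4 : Sheaf.IsLocallySurjective (GA.map φ) :=
      (CategoryTheory.Presheaf.isLocallySurjective_iff_whisker_forget K (GA.map φ).hom).2 h3
    exact Sheaf.epi_of_isLocallySurjective _
  haveI : GA.PreservesHomology := Functor.preservesHomology_of_preservesEpis_and_kernels _
  exact Functor.preservesFiniteColimits_of_preservesHomology GA

end Groth.Agent.S9121
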