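import Groth.Statements.S9127
import Mathlib
import Groth.Agent.Lib.Helper28.Catenary
import Groth.Agent.S9125
-- import your own Groth.Agent.* helpers here

set_option autoImplicit false
universe u
open CAlg

namespace Groth.Agent.S9127

/-- A Noetherian ring is catenary if and only if its quotient by every minimal prime is catenary. -/
theorem result (R : Type u) [CommRing R] [IsNoetherianRing R] :
    CAlg.IsCatenary R ↔ ∀ p ∈ minimalPrimes R, CAlg.IsCatenary (R ⧸ p) := by
  constructor
  · intro h p _
    exact Groth.Agent.S9125.result R p h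
  · intro h
    rw [Groth.Agent.Lib.helper28.isCatenary_iff_orderCat]
    apply Groth.Agent.Lib.helper28.OrderCat.of_cover
    intro q
    obtain ⟨p0, hp0, hle⟩ := Ideal.exists_minimalPrimes_le (I := (⊥ : Ideal R)) (J := q.asIdeal) bot_le
    refine ⟨PrimeSpectrum (R ⧸ p0), inferInstance, Groth.Agent.Lib.helper28.quotEmb p0, ?_, ?_, ?_⟩
    · rw [Groth.Agent.Lib.helper28.range_quotEmb]
      exact Groth.Agent.Lib.helper28.isUpperSet_zeroLocus p0
    · rw [Groth.Agent.Lib.helper28.range_quotEmb]
      exact hle
    · exact (Groth.Agent.Lib.helper28.isCatenary_iff_orderCat _).mp (h p0 hp0)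

end Groth.Agent.S9127
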