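import Groth.Statements.S9129
import Groth.Agent.Lib.Helper24.FlatDimFormula
import Groth.Agent.Lib.Helper24.DepthFlat2
import Groth.Agent.Lib.Helper24.HensDepth
-- import your own Groth.Agent.* helpers here

set_option autoImplicit false
universe u
open CAlg

namespace Groth.Agent.S9129

theorem aux_le_zero (a b : WithBot ℕ∞) (h0 : 0 ≤ a) (ht : a < ⊤) (h : a + b ≤ a) : b ≤ 0 := by
  induction b with
  | bot => exact bot_le
  | coe d =>
    induction a with
    | bot => simp at h0
    | coe c =>
      have hc : c ≠ ⊤ := by
        rintro rfl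
        exact (lt_irrefl _ ht)
      norm_cast at h ⊢
      lift c to ℕ using hc
      have : (c : ℕ∞) + d ≤ c + 0 := by simpa using h
      exact (ENat.add_le_add_iff_left (ENat.natCast_ne_top c)).mp this

open IsLocalRing in
/-- If the closed fibre is Artinian, some power of `m_S` lies in `m_R S`. -/
theorem exists_pow_le_of_isArtinianRing (R S : Type u) [CommRing R] [CommRing S] [IsLocalRing R]
    [IsLocalRing S] [IsNoetherianRing S] [Algebra R S] [IsLocalHom (algebraMap R S)]
    (hA : IsArtinianRing (S ⧸ (maximalIdeal R).map (algebraMap R S))) :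
    ∃ n : ℕ, maximalIdeal S ^ n ≤ (maximalIdeal R).map (algebraMap R S) := by
  letI := Groth.Agent.Lib.Helper24.FlatDimFormula.isLocalRing_quotient R S
  obtain ⟨n, hn⟩ := (isArtinianRing_iff_isNilpotent_maximalIdeal _).mp hA
  refine ⟨n, ?_⟩
  rw [Groth.Agent.Lib.Helper24.FlatDimFormula.maximalIdeal_quotient R S, ← Ideal.map_pow,
    Ideal.zero_eq_bot, Ideal.map_eq_bot_iff_le_ker, Ideal.mk_ker] at hn
  exact hn


/-- Suppose R → S is a flat local homomorphism between Noetherian local rings, with R Cohen–Macaulay.
Assume either that S is finite over R or that the Krull dimension of S is at most that of R. Then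
the two rings have equal dimension and S is itself Cohen–Macaulay. -/
theorem result (R S : Type u) [CommRing R] [CommRing S]
    [LocCoh.IsCohenMacaulayLocalRing R] [IsNoetherianRing S] [IsLocalRing S] [Algebra R S]
    [IsLocalHom (algebraMap R S)] [Module.Flat R S]
    (h : Module.Finite R S ∨ ringKrullDim S ≤ ringKrullDim R) :
    LocCoh.IsCohenMacaulayLocalRing S ∧ ringKrullDim R = ringKrullDim S := by
  classical
  haveI : IsNoetherianRing R := inferInstance
  haveI : IsLocalRing R := inferInstance
  letI := Groth.Agent.Lib.Helper24.FlatDimFormula.isLocalRing_quotient R S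
  have hdimF := Groth.Agent.Lib.Helper24.FlatDimFormula.ringKrullDim_eq_add_of_flat R S
  have hA : IsArtinianRing (S ⧸ (IsLocalRing.maximalIdeal R).map (algebraMap R S)) := by
    rcases h with hfin | hle
    · haveI : Module.Finite R (S ⧸ (IsLocalRing.maximalIdeal R).map (algebraMap R S)) :=
        Module.Finite.of_surjective
          (Ideal.Quotient.mkₐ R ((IsLocalRing.maximalIdeal R).map (algebraMap R S))).toLinearMap
          Ideal.Quotient.mk_surjective
      haveI : Module.Finite (R ⧸ IsLocalRing.maximalIdeal R)
          (S ⧸ (IsLocalRing.maximalIdeal R).map (algebraMap R S)) :=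
        Module.Finite.of_restrictScalars_finite R _ _
      letI : Field (R ⧸ IsLocalRing.maximalIdeal R) := Ideal.Quotient.field _
      exact IsArtinianRing.of_finite (R ⧸ IsLocalRing.maximalIdeal R) _
    · rw [isArtinianRing_iff_krullDimLE_zero, Ring.krullDimLE_iff]
      have hfinR : ringKrullDim R < ⊤ := ringKrullDim_lt_top
      have h0R : 0 ≤ ringKrullDim R := ringKrullDim_nonneg_of_nontrivial
      rw [hdimF] at hle
      exact aux_le_zero _ _ h0R hfinR hle
  have hm := exists_pow_le_of_isArtinianRing R S hA
  have hdim := Groth.Agent.Lib.Helper24.DepthFlat.ringKrullDim_eq_of_flat' R S hm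
  have hdepth := Groth.Agent.Lib.Helper24.DepthFlat.depth_eq_of_flat' R S hm
  exact ⟨(Groth.Agent.Lib.Helper24.HensDepth.cm_iff R S hdim hdepth).mpr inferInstance, hdim.symm⟩

end Groth.Agent.S9129
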