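import Groth.Statements.S9130
import Groth.Agent.Lib.Helper26.DimFormula6

set_option autoImplicit false
universe u
open CAlg

namespace Groth.Agent.S9130

/-- Let A ⊆ B be domains with B of finite type over A and A Noetherian, and assume every element of B is
algebraic over A. For a height-one prime p of A, only finitely many primes of B lie over p and each
of them has height one. (The published statement assumes that Frac(B) is finite over Frac(A); this
row assumes B algebraic over A, which is equivalent for a finite type extension of domains.) -/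
theorem result (A B : Type u) [CommRing A] [IsDomain A]
    [IsNoetherianRing A] [CommRing B] [IsDomain B] [Algebra A B] [FaithfulSMul A B]
    [Algebra.FiniteType A B] [Algebra.IsAlgebraic A B] (p : Ideal A) [p.IsPrime]
    (hp : p.height = 1) :
    (p.primesOver B).Finite ∧ ∀ q ∈ p.primesOver B, q.height = 1 := by
  classical
  haveI : IsNoetherianRing B := Algebra.FiniteType.isNoetherianRing A B
  have hinj : Function.Injective (algebraMap A B) := FaithfulSMul.algebraMap_injective A B
  have hpne : p ≠ ⊥ := by
    rintro rfl
    rw [Ideal.height_bot] at hp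
    exact zero_ne_one hp
  have hht : ∀ q ∈ p.primesOver B, q.height = 1 := by
    rintro q ⟨hq, hqp⟩
    have h1 := Groth.Agent.Lib.helper26.DimFormula.dimension_inequality A B p q
    rw [hp, (trdeg_eq_zero : Algebra.trdeg A B = 0), add_zero] at h1
    have h2 : (q.height : Cardinal.{u}) ≤ 1 := le_trans (le_add_right le_rfl) h1
    have h3 : q.height ≤ 1 := by
      rw [← Cardinal.ofENat_one] at h2
      exact Cardinal.ofENat_le_ofENat.mp h2
    refine le_antisymm h3 ?_
    rw [Order.one_le_iff_ne_zero]
    intro h0
    rw [Ideal.height_eq_zero_iff_eq_bot] at h0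
    apply hpne
    have h4 := hqp.over
    rw [h0] at h4
    rw [h4, Ideal.under_def, Ideal.comap_bot_of_injective _ hinj]
  refine ⟨?_, hht⟩
  refine (Ideal.finite_minimalPrimes_of_isNoetherianRing B (p.map (algebraMap A B))).subset ?_
  rintro q ⟨hq, hqp⟩
  have hle : p.map (algebraMap A B) ≤ q := by
    rw [Ideal.map_le_iff_le_comap, ← Ideal.under_def, ← hqp.over]
  refine ⟨⟨hq, hle⟩, ?_⟩
  rintro q' ⟨hq', hle'⟩ hq'q
  by_contra hnot
  have hlt : q' < q := lt_of_le_of_ne hq'q (fun h => hnot (h ▸ le_rfl))
  haveI := hq'
  have h1 : q'.height < q.height := Ideal.height_strict_mono_of_isPrime hlt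
  rw [hht q ⟨hq, hqp⟩, Order.lt_one_iff, Ideal.height_eq_zero_iff_eq_bot] at h1
  obtain ⟨a, hap, ha0⟩ := Submodule.exists_mem_ne_zero_of_ne_bot hpne
  have h2 : algebraMap A B a ∈ q' := hle' (Ideal.mem_map_of_mem _ hap)
  rw [h1, Ideal.mem_bot] at h2
  exact ha0 (hinj (by rw [h2, map_zero]))

end Groth.Agent.S9130
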