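import Groth.Statements.S9133
import Mathlib
import Groth.Agent.Lib.Helper13.KA3
-- import your own Groth.Agent.* helpers here

set_option autoImplicit false
universe u
open CAlg

namespace Groth.Agent.S9133

/-- Let R → S be a homomorphism of domains compatible with field maps K → L of their fraction fields (so
R → S is injective), where R is Noetherian local of dimension one and L is finite over K. Then each
prime n of S whose contraction to R is the maximal ideal of R is a maximal ideal of S, only finitely
many such n exist, and each quotient S/n is a finite R-module (its residue field is a finite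
extension of that of R). -/
theorem result (R S K L : Type u)
    [CommRing R] [IsDomain R] [IsNoetherianRing R] [IsLocalRing R] (hdim : ringKrullDim R = 1)
    [CommRing S] [IsDomain S] [Algebra R S] [Field K] [Field L] [Algebra R K] [IsFractionRing R K]
    [Algebra S L] [IsFractionRing S L] [Algebra K L] [Algebra R L] [IsScalarTower R K L]
    [IsScalarTower R S L] [FiniteDimensional K L] :
    (∀ n ∈ (IsLocalRing.maximalIdeal R).primesOver S, n.IsMaximal) ∧
      ((IsLocalRing.maximalIdeal R).primesOver S).Finite ∧
      ∀ n ∈ (IsLocalRing.maximalIdeal R).primesOver S, Module.Finite R (S ⧸ n) := by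
  have hK1 : Ring.KrullDimLE 1 R := Ring.krullDimLE_iff.mpr (by rw [hdim]; rfl)
  have hS : Function.Injective (algebraMap S L) := IsFractionRing.injective S L
  obtain ⟨x, hxm, hx0⟩ : ∃ x ∈ IsLocalRing.maximalIdeal R, x ≠ 0 := by
    by_contra hcon
    push Not at hcon
    have h1 : IsLocalRing.maximalIdeal R = ⊥ := by
      rw [eq_bot_iff]
      intro y hy
      exact hcon y hy
    have hf : IsField R := IsLocalRing.isField_iff_maximalIdeal_eq.mpr h1
    have h2 : ringKrullDim R = 0 := ringKrullDim_eq_zero_of_isField hf
    rw [hdim] at h2
    exact one_ne_zero h2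
  have hmem : ∀ n ∈ (IsLocalRing.maximalIdeal R).primesOver S, algebraMap R S x ∈ n := by
    rintro n ⟨hn, hlo⟩
    have h3 : x ∈ n.under R := by
      rw [← hlo.over]
      exact hxm
    exact h3
  refine ⟨?_, ?_, ?_⟩
  · rintro n hn
    have := hn.1
    exact Groth.Agent.Lib.helper13.KA.isMaximal_of_isPrime_of_mem R K L S hS hx0 n (hmem n hn)
  · exact (Groth.Agent.Lib.helper13.KA.finite_setOf_isPrime_mem R K L S hS hx0).subset
      (fun n hn => ⟨hn.1, hmem n hn⟩)
  · intro n hn
    exact Groth.Agent.Lib.helper13.KA.finite_quotient R K L S hS hx0 n (hmem n hn)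

end Groth.Agent.S9133
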