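import Groth.Statements.S9135
import Mathlib

set_option autoImplicit false
universe u
open CAlg

namespace Groth.Agent.S9135

open IsLocalRing
open scoped TensorProduct

lemma isIntegral_of_quasiFinite_of_nil {R S : Type*} [CommRing R] [CommRing S] [Algebra R S]
    [IsLocalRing R] (hnil : ∀ x ∈ maximalIdeal R, IsNilpotent x) [Algebra.QuasiFinite R S] :
    Algebra.IsIntegral R S := by
  let e : (maximalIdeal R).Fiber S ≃ₐ[R] S ⧸ (maximalIdeal R).map (algebraMap R S) :=
    (Algebra.TensorProduct.congr (.symm <| .ofBijective _
      (Ideal.bijective_algebraMap_quotient_residueField (maximalIdeal R))) .refl).trans <|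
    (Algebra.TensorProduct.comm _ _ _).trans
    ((Algebra.TensorProduct.quotIdealMapEquivTensorQuot S (maximalIdeal R)).symm.restrictScalars _)
  have hfin : Module.Finite R (S ⧸ (maximalIdeal R).map (algebraMap R S)) :=
    have : Module.Finite R ((maximalIdeal R).Fiber S) :=
      .trans (maximalIdeal R).ResidueField _
    .of_surjective e.toLinearMap e.surjective
  have hint : Algebra.IsIntegral R (S ⧸ (maximalIdeal R).map (algebraMap R S)) := inferInstance
  have hnilS : ∀ y ∈ (maximalIdeal R).map (algebraMap R S), IsNilpotent y := by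
    intro y hy
    have : (maximalIdeal R).map (algebraMap R S) ≤ nilradical S := by
      rw [Ideal.map_le_iff_le_comap]
      intro x hx
      exact (hnil x hx).map _
    exact this hy
  refine ⟨fun s => ?_⟩
  obtain ⟨P, hP, hPs⟩ := hint.isIntegral (Ideal.Quotient.mk _ s)
  have h1 : Polynomial.aeval s P ∈ (maximalIdeal R).map (algebraMap R S) := by
    rw [← Ideal.Quotient.eq_zero_iff_mem]
    rw [← hPs, ← Polynomial.aeval_def]
    have := Polynomial.aeval_algHom_apply (Ideal.Quotient.mkₐ R ((maximalIdeal R).map (algebraMap R S))) s P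
    simpa using this.symm
  obtain ⟨m, hm⟩ := hnilS _ h1
  refine ⟨P ^ m, hP.pow m, ?_⟩
  rw [← Polynomial.aeval_def, map_pow, hm]

attribute [local instance] Algebra.TensorProduct.rightAlgebra in
lemma quasiFinite_loc {R S : Type*} [CommRing R] [CommRing S] [Algebra R S]
    [Algebra.FiniteType R S] (p : Ideal R) [p.IsPrime] (hp : p ∈ minimalPrimes R)
    (hfin : (p.primesOver S).Finite) :
    Algebra.QuasiFinite (Localization.AtPrime p) (Localization.AtPrime p ⊗[R] S) := by
  have : Ring.KrullDimLE 0 (Localization.AtPrime p) := Ring.KrullDimLE.of_isLocalization p hp _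
  rw [Algebra.QuasiFinite.iff_finite_primesOver]
  intro I hI
  have hIeq : I = maximalIdeal (Localization.AtPrime p) :=
    Ring.KrullDimLE.eq_maximalIdeal_of_isPrime I
  refine Set.Finite.of_injOn
    (f := fun Q => Q.comap (algebraMap S (Localization.AtPrime p ⊗[R] S))) ?_ ?_ hfin
  · rintro Q ⟨hQ, hQI⟩
    refine ⟨Ideal.IsPrime.comap _, ⟨?_⟩⟩
    change p = Ideal.comap (algebraMap R S) (Ideal.comap (algebraMap S _) Q)
    rw [Ideal.comap_comap, ← IsScalarTower.algebraMap_eq,
      IsScalarTower.algebraMap_eq R (Localization.AtPrime p) (Localization.AtPrime p ⊗[R] S),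
      ← Ideal.comap_comap]
    have : Ideal.comap (algebraMap (Localization.AtPrime p) (Localization.AtPrime p ⊗[R] S)) Q = I :=
      hQI.over.symm
    rw [this, hIeq]
    exact (IsLocalization.AtPrime.comap_maximalIdeal (Localization.AtPrime p) p).symm
  · intro Q1 _ Q2 _ h
    have h1 := IsLocalization.map_comap (Algebra.algebraMapSubmonoid S p.primeCompl)
      (Localization.AtPrime p ⊗[R] S) Q1
    have h2 := IsLocalization.map_comap (Algebra.algebraMapSubmonoid S p.primeCompl)
      (Localization.AtPrime p ⊗[R] S) Q2
    rw [← h1, ← h2]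
    exact congrArg _ h

attribute [local instance] Algebra.TensorProduct.rightAlgebra in
lemma exists_mul_integral {R S : Type*} [CommRing R] [CommRing S] [Algebra R S]
    (p : Ideal R) [p.IsPrime]
    [Algebra.IsIntegral (Localization.AtPrime p) (Localization.AtPrime p ⊗[R] S)] (x : S) :
    ∃ t ∈ p.primeCompl, IsIntegral R (t • x) := by
  have h1 : IsIntegral (Localization.AtPrime p) ((1 : Localization.AtPrime p) ⊗ₜ[R] x) :=
    Algebra.IsIntegral.isIntegral _
  obtain ⟨m, hm⟩ := IsIntegral.exists_multiple_integral_of_isLocalization p.primeCompl _ h1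
  have e : (m : R) • ((1 : Localization.AtPrime p) ⊗ₜ[R] x) =
      algebraMap S (Localization.AtPrime p ⊗[R] S) ((m : R) • x) := by
    change _ = (1 : Localization.AtPrime p) ⊗ₜ[R] ((m : R) • x)
    rw [TensorProduct.tmul_smul]
  rw [Submonoid.smul_def, e] at hm
  obtain ⟨m', hm', hint⟩ :=
    IsLocalization.exists_isIntegral_smul_of_isIntegral_map p.primeCompl hm
  exact ⟨m' * m, mul_mem hm' m.2, by rwa [mul_smul]⟩

lemma finite_awayMap_of_integral_multiples {R S : Type u} [CommRing R] [CommRing S] [Algebra R S]
    (s : Finset S) (hs : Algebra.adjoin R (s : Set S) = ⊤) (t : S → R)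
    (ht : ∀ x ∈ s, IsIntegral R (t x • x)) :
    (Localization.awayMap (algebraMap R S) (∏ x ∈ s, t x)).Finite := by
  classical
  set g := ∏ x ∈ s, t x with hg
  let T : Subalgebra R S := Algebra.adjoin R ((fun x => t x • x) '' (s : Set S))
  have hTfin : Module.Finite R T := by
    have h : T.toSubmodule.FG := by
      refine fg_adjoin_of_finite (s.finite_toSet.image _) ?_
      rintro _ ⟨x, hx, rfl⟩
      exact ht x hx
    exact ⟨(Submodule.fg_top T.toSubmodule).mpr h⟩
  have hmem : ∀ a : S, ∃ n : ℕ, g ^ n • a ∈ T := by
    intro a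
    have ha : a ∈ Algebra.adjoin R (s : Set S) := by rw [hs]; trivial
    induction ha using Algebra.adjoin_induction with
    | mem x hx =>
      refine ⟨1, ?_⟩
      have hx' : x ∈ s := hx
      have : g = (∏ y ∈ s.erase x, t y) * t x := by
        rw [hg, ← Finset.prod_erase_mul s t hx']
      rw [pow_one, this, mul_smul]
      exact T.smul_mem (Algebra.subset_adjoin ⟨x, hx, rfl⟩) _
    | algebraMap r =>
      exact ⟨0, by simpa using T.algebraMap_mem r⟩
    | add a b _ _ ha hb =>
      obtain ⟨n1, h1⟩ := ha
      obtain ⟨n2, h2⟩ := hb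
      refine ⟨n1 + n2, ?_⟩
      rw [smul_add]
      refine T.add_mem ?_ ?_
      · rw [pow_add, mul_comm, mul_smul]; exact T.smul_mem h1 _
      · rw [pow_add, mul_smul]; exact T.smul_mem h2 _
    | mul a b _ _ ha hb =>
      obtain ⟨n1, h1⟩ := ha
      obtain ⟨n2, h2⟩ := hb
      refine ⟨n1 + n2, ?_⟩
      have : g ^ (n1 + n2) • (a * b) = (g ^ n1 • a) * (g ^ n2 • b) := by
        rw [pow_add, mul_smul, smul_mul_smul_comm, mul_smul]
      rw [this]
      exact T.mul_mem h1 h2
  have hf1 : (IsLocalization.Away.map (Localization.Away g) (Localization.Away (algebraMap R T g))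
      (algebraMap R T) g).Finite :=
    RingHom.localization_away_map_finite R T _ _ (algebraMap R T) g
      (RingHom.finite_algebraMap.mpr hTfin)
  have hf2 : Function.Surjective (Localization.awayMap T.val.toRingHom (algebraMap R T g)) := by
    rw [Localization.awayMap_surjective_iff]
    intro a
    obtain ⟨n, hn⟩ := hmem a
    refine ⟨⟨_, hn⟩, n, ?_⟩
    simp [Algebra.smul_def]
  have key : Localization.awayMap (algebraMap R S) g =
      (Localization.awayMap T.val.toRingHom (algebraMap R T g)).comp
        (IsLocalization.Away.map (Localization.Away g) (Localization.Away (algebraMap R T g))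
      (algebraMap R T) g) := by
    apply IsLocalization.ringHom_ext (Submonoid.powers g)
    ext r
    change (Localization.awayMap (algebraMap R S) g) (algebraMap R (Localization.Away g) r) =
      (Localization.awayMap T.val.toRingHom (algebraMap R T g))
        ((IsLocalization.Away.map (Localization.Away g) (Localization.Away (algebraMap R T g))
          (algebraMap R T) g) (algebraMap R (Localization.Away g) r))
    rw [IsLocalization.Away.map, IsLocalization.map_eq, Localization.awayMap,
      IsLocalization.Away.map, IsLocalization.map_eq, Localization.awayMap,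
      IsLocalization.Away.map, IsLocalization.map_eq]
    rfl
  rw [key]
  exact (RingHom.Finite.of_surjective _ hf2).comp hf1


/-- Let R → S be of finite type and p a minimal prime of R over which only finitely many primes of S
lie. Then for some g ∈ R outside p the localized map R_g → S_g is finite. -/
theorem result (R S : Type u) [CommRing R] [CommRing S]
    [Algebra R S] [Algebra.FiniteType R S] (p : Ideal R) (hp : p ∈ minimalPrimes R)
    (hfin : (p.primesOver S).Finite) :
    ∃ g : R, g ∉ p ∧ (Localization.awayMap (algebraMap R S) g).Finite := by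
  classical
  have := hp.1.1
  have : Ring.KrullDimLE 0 (Localization.AtPrime p) := Ring.KrullDimLE.of_isLocalization p hp _
  have := quasiFinite_loc p hp hfin
  have hnil : ∀ x ∈ maximalIdeal (Localization.AtPrime p), IsNilpotent x := by
    intro x hx
    rw [← Ring.KrullDimLE.nilradical_eq_maximalIdeal] at hx
    exact hx
  have : Algebra.IsIntegral (Localization.AtPrime p) (TensorProduct R (Localization.AtPrime p) S) :=
    isIntegral_of_quasiFinite_of_nil hnil
  obtain ⟨s, hs⟩ := (Algebra.FiniteType.out : (⊤ : Subalgebra R S).FG)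
  choose t ht1 ht2 using fun x : S => exists_mul_integral p x
  refine ⟨∏ x ∈ s, t x, ?_, finite_awayMap_of_integral_multiples s hs t (fun x _ => ht2 x)⟩
  exact (Submonoid.prod_mem p.primeCompl (fun x _ => ht1 x))

end Groth.Agent.S9135
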