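import Groth.Statements.S9137
import Mathlib

set_option autoImplicit false
universe u
open CAlg

namespace Groth.Agent.S9137

open IsLocalRing in
/-- the closed fibre is a finite `R`-module -/
theorem finite_fibre (R S : Type u) [CommRing R] [CommRing S]
    [IsLocalRing R] [IsLocalRing S] [Algebra R S] [IsLocalHom (algebraMap R S)]
    [Algebra.EssFiniteType R S]
    (hres : Module.Finite (ResidueField R) (ResidueField S))
    (hdim : ringKrullDim (S ⧸ (maximalIdeal R).map (algebraMap R S)) = 0) :
    Module.Finite R (S ⧸ (maximalIdeal R).map (algebraMap R S)) := by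
  have hnt : Nontrivial (S ⧸ (maximalIdeal R).map (algebraMap R S)) := by
    by_contra h
    rw [not_nontrivial_iff_subsingleton] at h
    rw [ringKrullDim_eq_bot_of_subsingleton] at hdim
    exact absurd hdim (by decide)
  let _ : Field (R ⧸ maximalIdeal R) := Ideal.Quotient.field _
  have hnoeth : IsNoetherianRing (S ⧸ (maximalIdeal R).map (algebraMap R S)) :=
    Algebra.EssFiniteType.isNoetherianRing (R ⧸ maximalIdeal R) _
  have hkd : Ring.KrullDimLE 0 (S ⧸ (maximalIdeal R).map (algebraMap R S)) :=
    Ring.krullDimLE_iff.mpr (le_of_eq hdim)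
  have hart : IsArtinianRing (S ⧸ (maximalIdeal R).map (algebraMap R S)) :=
    isArtinianRing_iff_isNoetherianRing_krullDimLE_zero.mpr ⟨hnoeth, hkd⟩
  have hloc : IsLocalRing (S ⧸ (maximalIdeal R).map (algebraMap R S)) :=
    IsLocalRing.of_surjective' (Ideal.Quotient.mk _) Ideal.Quotient.mk_surjective
  -- residue field of `S` is finite over `R`
  have hfinR : Module.Finite R (ResidueField R) :=
    Module.Finite.of_surjective (Algebra.linearMap R (ResidueField R))
      (residue_surjective (R := R))
  have hfinS : Module.Finite R (ResidueField S) := Module.Finite.trans (ResidueField R) _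
  -- the map `κ(S) → F / Jac F`
  let π₁ : S →ₐ[R] S ⧸ (maximalIdeal R).map (algebraMap R S) := Ideal.Quotient.mkₐ R _
  let π₂ : (S ⧸ (maximalIdeal R).map (algebraMap R S)) →ₐ[R]
      (S ⧸ (maximalIdeal R).map (algebraMap R S)) ⧸
        Ring.jacobson (S ⧸ (maximalIdeal R).map (algebraMap R S)) := Ideal.Quotient.mkₐ R _
  have hker : ∀ a ∈ maximalIdeal S, (π₂.comp π₁) a = 0 := by
    intro a ha
    show π₂ (π₁ a) = 0
    have : π₁ a ∈ Ring.jacobson (S ⧸ (maximalIdeal R).map (algebraMap R S)) := by
      rw [ringJacobson_eq_maximalIdeal, mem_maximalIdeal, mem_nonunits_iff]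
      intro hu
      have hl : IsLocalHom (Ideal.Quotient.mk ((maximalIdeal R).map (algebraMap R S))) :=
        IsLocalHom.of_surjective _ Ideal.Quotient.mk_surjective
      have : IsUnit a := hl.map_nonunit a hu
      exact ha this
    exact Ideal.Quotient.eq_zero_iff_mem.mpr this
  let ψ : ResidueField S →ₐ[R] (S ⧸ (maximalIdeal R).map (algebraMap R S)) ⧸
        Ring.jacobson (S ⧸ (maximalIdeal R).map (algebraMap R S)) :=
    Ideal.Quotient.liftₐ (maximalIdeal S) (π₂.comp π₁) hker
  have hψ : Function.Surjective ψ := by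
    intro y
    obtain ⟨y', rfl⟩ := Ideal.Quotient.mk_surjective y
    obtain ⟨s, rfl⟩ := Ideal.Quotient.mk_surjective y'
    exact ⟨Ideal.Quotient.mk _ s, rfl⟩
  have hfinJ : Module.Finite R ((S ⧸ (maximalIdeal R).map (algebraMap R S)) ⧸
        Ring.jacobson (S ⧸ (maximalIdeal R).map (algebraMap R S))) :=
    Module.Finite.of_surjective ψ.toLinearMap hψ
  exact IsSemiprimaryRing.finite_of_isArtinian R (S ⧸ (maximalIdeal R).map (algebraMap R S)) _

open IsLocalRing in
/-- a local ring essentially of finite type is the localization of a finite type algebra at a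
prime -/
theorem isLocalization_atPrime (R S : Type u) [CommRing R] [CommRing S]
    [IsLocalRing S] [Algebra R S] [Algebra.EssFiniteType R S] :
    IsLocalization.AtPrime S
      ((maximalIdeal S).comap (algebraMap (Algebra.EssFiniteType.subalgebra R S) S)) := by
  have h : Algebra.EssFiniteType.submonoid R S =
      ((maximalIdeal S).comap (algebraMap (Algebra.EssFiniteType.subalgebra R S) S)).primeCompl := by
    ext x
    rw [Algebra.EssFiniteType.submonoid, Submonoid.mem_comap, IsUnit.mem_submonoid_iff,
      Ideal.mem_primeCompl_iff, Ideal.mem_comap, mem_maximalIdeal, mem_nonunits_iff, not_not]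
  have h2 : IsLocalization (Algebra.EssFiniteType.submonoid R S) S := inferInstance
  rw [h] at h2
  exact h2

open IsLocalRing in
theorem weaklyQuasiFiniteAt (R S : Type u) [CommRing R] [CommRing S]
    [IsLocalRing R] [IsLocalRing S] [Algebra R S] [IsLocalHom (algebraMap R S)]
    [Algebra.EssFiniteType R S]
    (hfin : Module.Finite R (S ⧸ (maximalIdeal R).map (algebraMap R S))) :
    Algebra.WeaklyQuasiFiniteAt R
      ((maximalIdeal S).comap (algebraMap (Algebra.EssFiniteType.subalgebra R S) S)) := by
  have hloc := isLocalization_atPrime R S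
  rw [Algebra.weaklyQuasiFiniteAt_iff]
  have hunder : ((maximalIdeal S).comap (algebraMap (Algebra.EssFiniteType.subalgebra R S) S)).under R =
      maximalIdeal R := by
    rw [Ideal.under, Ideal.comap_comap, ← IsScalarTower.algebraMap_eq]
    exact maximalIdeal_comap (algebraMap R S)
  rw [hunder]
  let e : Localization.AtPrime
      ((maximalIdeal S).comap (algebraMap (Algebra.EssFiniteType.subalgebra R S) S)) ≃ₐ[R] S :=
    (IsLocalization.algEquiv ((maximalIdeal S).comap
      (algebraMap (Algebra.EssFiniteType.subalgebra R S) S)).primeCompl _ _).restrictScalars R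
  have hIJ : (maximalIdeal R).map (algebraMap R S) =
      ((maximalIdeal R).map (algebraMap R (Localization.AtPrime
        ((maximalIdeal S).comap (algebraMap (Algebra.EssFiniteType.subalgebra R S) S))))).map
        (e : Localization.AtPrime ((maximalIdeal S).comap
          (algebraMap (Algebra.EssFiniteType.subalgebra R S) S)) →+* S) := by
    rw [Ideal.map_map]
    congr 1
    ext r
    exact (e.commutes r).symm
  let e' := Ideal.quotientEquivAlg _ _ e hIJ
  have : Algebra.QuasiFinite R (S ⧸ (maximalIdeal R).map (algebraMap R S)) := inferInstance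
  exact (Algebra.QuasiFinite.iff_of_algEquiv e').mpr this

/-- transfer of localization along a subalgebra with surjective `awayMap` -/
theorem isLocalization_of_awayMap {R S₀ S : Type u} [CommRing R] [CommRing S₀] [CommRing S]
    [Algebra R S₀] [Algebra S₀ S] (q₀ : Ideal S₀) [q₀.IsPrime] [IsLocalization.AtPrime S q₀]
    (S' : Subalgebra R S₀) (r : S') (hr : r.1 ∉ q₀)
    (hsurj : Function.Surjective (Localization.awayMap S'.val.toRingHom r))
    [Algebra S' S] (halg : ∀ x : S', algebraMap S' S x = algebraMap S₀ S x.1)
    [(q₀.comap S'.val.toRingHom).IsPrime] :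
    IsLocalization.AtPrime S (q₀.comap S'.val.toRingHom) := by
  have key : ∀ a : S₀, ∃ (a' : S') (m : ℕ), (a' : S₀) = r.1 ^ m * a := by
    intro a
    obtain ⟨b, m, hb⟩ := Localization.awayMap_surjective_iff.mp hsurj a
    exact ⟨b, m, hb⟩
  have hrm : ∀ m : ℕ, r.1 ^ m ∉ q₀ := fun m h => hr (Ideal.IsPrime.mem_of_pow_mem inferInstance m h)
  rw [IsLocalization.AtPrime, isLocalization_iff]
  refine ⟨?_, ?_, ?_⟩
  · intro y
    rw [halg]
    have hy : (y : S').1 ∉ q₀ := y.2
    exact IsLocalization.map_units S (⟨(y : S').1, hy⟩ : q₀.primeCompl)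
  · intro z
    obtain ⟨⟨a, b⟩, hab⟩ := IsLocalization.surj q₀.primeCompl z
    obtain ⟨a', m, ha'⟩ := key a
    obtain ⟨b', n, hb'⟩ := key b
    have hb'q : (b' * r ^ m : S').1 ∉ q₀ := by
      show (b' : S₀) * r.1 ^ m ∉ q₀
      rw [hb']
      intro h
      rcases Ideal.IsPrime.mem_or_mem inferInstance h with h1 | h1
      · rcases Ideal.IsPrime.mem_or_mem inferInstance h1 with h2 | h2
        · exact hrm n h2
        · exact b.2 h2
      · exact hrm m h1
    refine ⟨(a' * r ^ n, ⟨b' * r ^ m, hb'q⟩), ?_⟩
    show z * algebraMap S' S (b' * r ^ m) = algebraMap S' S (a' * r ^ n)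
    rw [halg, halg]
    show z * algebraMap S₀ S ((b' : S₀) * r.1 ^ m) = algebraMap S₀ S ((a' : S₀) * r.1 ^ n)
    rw [ha', hb']
    have hab' : z * algebraMap S₀ S (b : S₀) = algebraMap S₀ S a := hab
    calc z * algebraMap S₀ S (r.1 ^ n * (b : S₀) * r.1 ^ m)
        = (z * algebraMap S₀ S (b : S₀)) * algebraMap S₀ S (r.1 ^ n * r.1 ^ m) := by
          rw [mul_assoc z, ← map_mul]
          congr 2
          ring
      _ = algebraMap S₀ S (r.1 ^ m * a * r.1 ^ n) := by
          rw [hab', ← map_mul]
          congr 1
          ring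
  · intro x y hxy
    rw [halg, halg] at hxy
    obtain ⟨c, hc⟩ := IsLocalization.exists_of_eq (M := q₀.primeCompl) hxy
    obtain ⟨c', m, hc'⟩ := key c
    have hc'q : (c' : S').1 ∉ q₀ := by
      rw [hc']
      intro h
      rcases Ideal.IsPrime.mem_or_mem inferInstance h with h1 | h1
      · exact hrm m h1
      · exact c.2 h1
    refine ⟨⟨c', hc'q⟩, ?_⟩
    apply Subtype.ext
    show (c' : S₀) * x.1 = (c' : S₀) * y.1
    rw [hc', mul_assoc, mul_assoc, hc]


/-- Let R → S be a local ring homomorphism between local rings, essentially of finite type, such that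
the residue field of S is finite over that of R and S/m_R S has dimension zero. Then S is, as an
R-algebra, the localization of a finite R-algebra at a prime. -/
theorem result (R S : Type u) [CommRing R] [CommRing S]
    [IsLocalRing R] [IsLocalRing S] [Algebra R S] [IsLocalHom (algebraMap R S)]
    [Algebra.EssFiniteType R S]
    (hres : Module.Finite (IsLocalRing.ResidueField R) (IsLocalRing.ResidueField S))
    (hdim : ringKrullDim (S ⧸ (IsLocalRing.maximalIdeal R).map (algebraMap R S)) = 0) :
    ∃ (S' : Type u) (_ : CommRing S') (_ : Algebra R S') (_ : Algebra S' S) (_ : IsScalarTower R S' S)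
      (q : Ideal S') (_ : q.IsPrime), Module.Finite R S' ∧ IsLocalization.AtPrime S q := by
  have hfin := finite_fibre R S hres hdim
  have hwq := weaklyQuasiFiniteAt R S hfin
  have hloc := isLocalization_atPrime R S
  obtain ⟨S', hS', r, hr, hbij⟩ :=
    Algebra.QuasiFiniteAt.exists_fg_and_exists_notMem_and_awayMap_bijective (R := R)
      ((IsLocalRing.maximalIdeal S).comap (algebraMap (Algebra.EssFiniteType.subalgebra R S) S))
  have hfinS' : Module.Finite R S' := ⟨(Submodule.fg_top _).mpr hS'⟩
  let _ : Algebra S' S :=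
    ((algebraMap (Algebra.EssFiniteType.subalgebra R S) S).comp S'.val.toRingHom).toAlgebra
  have htower : IsScalarTower R S' S := by
    refine IsScalarTower.of_algebraMap_eq (R := R) (S := S') ?_
    intro x
    rfl
  have hprime : (((IsLocalRing.maximalIdeal S).comap
      (algebraMap (Algebra.EssFiniteType.subalgebra R S) S)).comap S'.val.toRingHom).IsPrime :=
    Ideal.comap_isPrime _ _
  exact ⟨S', inferInstance, inferInstance, inferInstance, htower, _, hprime, hfinS',
    isLocalization_of_awayMap _ S' r hr hbij.2 (fun x => rfl)⟩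


end Groth.Agent.S9137
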