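import Groth.Statements.S9139
import Mathlib.RingTheory.FiniteType
import Mathlib.RingTheory.Noetherian.Nilpotent
import Mathlib.RingTheory.Ideal.Maps
import Mathlib.Tactic.Ring

set_option autoImplicit false
universe u
open CAlg

namespace Groth.Agent.S9139

lemma core {R S' : Type*} [CommRing R] [CommRing S'] [Algebra R S'] (T : Subalgebra R S')
    (J : Ideal R) (hJ : IsNilpotent J)
    (hA : ∀ x : S', ∃ t ∈ T, x - t ∈ J.map (algebraMap R S')) : ∀ x : S', x ∈ T := by
  set K := J.map (algebraMap R S') with hK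
  have step : ∀ m : ℕ, ∀ z ∈ K ^ m, ∀ y : S', ∃ t ∈ T, y * z - t ∈ K ^ (m + 1) := by
    intro m z hz
    rw [hK, ← Ideal.map_pow] at hz
    change z ∈ Submodule.span S' (algebraMap R S' '' ((J ^ m : Ideal R) : Set R)) at hz
    refine Submodule.span_induction
      (p := fun z _ => ∀ y : S', ∃ t ∈ T, y * z - t ∈ K ^ (m + 1)) ?_ ?_ ?_ ?_ hz
    · rintro _ ⟨a, ha, rfl⟩ y
      obtain ⟨t, ht, hyt⟩ := hA y
      refine ⟨a • t, T.smul_mem ht a, ?_⟩
      have h1 : y * algebraMap R S' a - a • t = algebraMap R S' a * (y - t) := by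
        rw [Algebra.smul_def]; ring
      rw [h1, pow_succ]
      refine Ideal.mul_mem_mul ?_ hyt
      rw [hK, ← Ideal.map_pow]
      exact Ideal.mem_map_of_mem _ ha
    · intro y
      exact ⟨0, T.zero_mem, by simp⟩
    · intro z z' _ _ hz hz' y
      obtain ⟨t, ht, h1⟩ := hz y
      obtain ⟨t', ht', h2⟩ := hz' y
      refine ⟨t + t', T.add_mem ht ht', ?_⟩
      have h3 : y * (z + z') - (t + t') = (y * z - t) + (y * z' - t') := by ring
      rw [h3]
      exact Ideal.add_mem _ h1 h2
    · intro y' z _ hz y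
      obtain ⟨t, ht, h1⟩ := hz (y * y')
      refine ⟨t, ht, ?_⟩
      have h3 : y * (y' • z) - t = y * y' * z - t := by rw [smul_eq_mul]; ring
      rw [h3]
      exact h1
  have claimB : ∀ m : ℕ, ∀ x : S', ∃ t ∈ T, x - t ∈ K ^ m := by
    intro m
    induction m with
    | zero =>
      intro x
      exact ⟨0, T.zero_mem, by simp⟩
    | succ m ih =>
      intro x
      obtain ⟨t, ht, h1⟩ := ih x
      obtain ⟨t', ht', h2⟩ := step m _ h1 1
      refine ⟨t + t', T.add_mem ht ht', ?_⟩
      have h3 : x - (t + t') = 1 * (x - t) - t' := by ring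
      rw [h3]
      exact h2
  obtain ⟨N, hN⟩ := hJ
  intro x
  obtain ⟨t, ht, h1⟩ := claimB N x
  have hKN : K ^ N = ⊥ := by
    rw [hK, ← Ideal.map_pow, hN, Ideal.zero_eq_bot, Ideal.map_bot]
  rw [hKN, Ideal.mem_bot, sub_eq_zero] at h1
  rw [h1]
  exact ht

lemma finite_sub {R S' : Type*} [CommRing R] [CommRing S'] [Algebra R S'] (I : Ideal R)
    (z : S') (hz : z ∈ I.map (algebraMap R S')) :
    ∃ F : Finset R, (F : Set R) ⊆ I ∧ z ∈ (Ideal.span (F : Set R)).map (algebraMap R S') := by
  classical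
  change z ∈ Submodule.span S' (algebraMap R S' '' (I : Set R)) at hz
  obtain ⟨T', hT', hzT'⟩ := Submodule.mem_span_finite_of_mem_span hz
  obtain ⟨F, hF, rfl⟩ := Finset.subset_set_image_iff.mp hT'
  refine ⟨F, hF, ?_⟩
  have hle : Submodule.span S' ((F.image (algebraMap R S') : Finset S') : Set S') ≤
      (Ideal.span (F : Set R)).map (algebraMap R S') := by
    rw [Submodule.span_le]
    intro w hw
    rw [Finset.coe_image] at hw
    obtain ⟨a, ha, rfl⟩ := hw
    exact Ideal.mem_map_of_mem _ (Ideal.subset_span ha)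
  exact hle hzT'

/-- Let I be a locally nilpotent ideal of a ring R (every element of I is nilpotent) and S → S' a map of
R-algebras with S' of finite type over R. If S → S'/IS' is surjective then so is S → S'. -/
theorem result (R S S' : Type u) [CommRing R] [CommRing S]
    [CommRing S'] [Algebra R S] [Algebra R S'] [Algebra.FiniteType R S'] (I : Ideal R)
    (hI : ∀ x ∈ I, IsNilpotent x) (f : S →ₐ[R] S')
    (hf : Function.Surjective ((Ideal.Quotient.mk (I.map (algebraMap R S'))).comp f.toRingHom)) :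
    Function.Surjective f := by
  classical
  obtain ⟨G, hG⟩ := (Algebra.FiniteType.out : (⊤ : Subalgebra R S').FG)
  have hex : ∀ x : S', ∃ s : S, x - f s ∈ I.map (algebraMap R S') := by
    intro x
    obtain ⟨s, hs⟩ := hf (Ideal.Quotient.mk _ x)
    refine ⟨s, ?_⟩
    rw [← Ideal.Quotient.eq]
    exact hs.symm
  choose s hs using hex
  choose F hF1 hF2 using fun x => finite_sub I (x - f (s x)) (hs x)
  let J : Ideal R := Ideal.span ((G.biUnion F : Finset R) : Set R)
  have hJI : J ≤ I := by
    rw [Ideal.span_le]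
    intro a ha
    rw [Finset.mem_coe, Finset.mem_biUnion] at ha
    obtain ⟨g, _, hag⟩ := ha
    exact hF1 g hag
  have hJfg : J.FG := ⟨G.biUnion F, rfl⟩
  have hJnil : IsNilpotent J := by
    rw [hJfg.isNilpotent_iff_le_nilradical]
    intro a ha
    exact hI a (hJI ha)
  have hA : ∀ x : S', ∃ t ∈ f.range, x - t ∈ J.map (algebraMap R S') := by
    intro x
    have hx : x ∈ Algebra.adjoin R (G : Set S') := by rw [hG]; trivial
    induction hx using Algebra.adjoin_induction with
    | mem g hg =>
      refine ⟨f (s g), ⟨s g, rfl⟩, ?_⟩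
      have hle : (Ideal.span (F g : Set R)).map (algebraMap R S') ≤ J.map (algebraMap R S') := by
        apply Ideal.map_mono
        apply Ideal.span_mono
        intro a ha
        rw [Finset.mem_coe, Finset.mem_biUnion]
        exact ⟨g, hg, ha⟩
      exact hle (hF2 g)
    | algebraMap r =>
      exact ⟨algebraMap R S' r, f.range.algebraMap_mem r, by simp⟩
    | add x y _ _ hx hy =>
      obtain ⟨t, ht, h1⟩ := hx
      obtain ⟨t', ht', h2⟩ := hy
      refine ⟨t + t', f.range.add_mem ht ht', ?_⟩
      have h3 : x + y - (t + t') = (x - t) + (y - t') := by ring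
      rw [h3]
      exact Ideal.add_mem _ h1 h2
    | mul x y _ _ hx hy =>
      obtain ⟨t, ht, h1⟩ := hx
      obtain ⟨t', ht', h2⟩ := hy
      refine ⟨t * t', f.range.mul_mem ht ht', ?_⟩
      have h3 : x * y - t * t' = (x - t) * y + t * (y - t') := by ring
      rw [h3]
      exact Ideal.add_mem _ (Ideal.mul_mem_right _ _ h1) (Ideal.mul_mem_left _ _ h2)
  intro x
  obtain ⟨y, hy⟩ := core f.range J hJnil hA x
  exact ⟨y, hy⟩

end Groth.Agent.S9139
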