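import Groth.Statements.S9140
import Mathlib

set_option autoImplicit false
universe u
open CAlg
open scoped TensorProduct

namespace Groth.Agent.S9140

section aux

variable {R S S' : Type u} [CommRing R] [CommRing S] [CommRing S'] [Algebra R S] [Algebra R S']

lemma exists_fg_le (I : Ideal R) (z : S') (hz : z ∈ I.map (algebraMap R S')) :
    ∃ I₀ : Ideal R, I₀.FG ∧ I₀ ≤ I ∧ z ∈ I₀.map (algebraMap R S') := by
  unfold Ideal.map at hz
  induction hz using Submodule.span_induction with
  | mem z hz =>
    obtain ⟨i, hi, rfl⟩ := hz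
    refine ⟨Ideal.span {i}, ⟨{i}, by simp⟩, (Ideal.span_singleton_le_iff_mem _).mpr hi, ?_⟩
    exact Ideal.mem_map_of_mem _ (Ideal.mem_span_singleton_self i)
  | zero => exact ⟨⊥, Submodule.fg_bot, bot_le, Submodule.zero_mem _⟩
  | add a b _ _ ha hb =>
    obtain ⟨Ia, hIa, hIaI, ha⟩ := ha
    obtain ⟨Ib, hIb, hIbI, hb⟩ := hb
    refine ⟨Ia ⊔ Ib, Submodule.FG.sup hIa hIb, sup_le hIaI hIbI, ?_⟩
    exact Ideal.add_mem _ (Ideal.map_mono le_sup_left ha) (Ideal.map_mono le_sup_right hb)
  | smul c a _ ha =>
    obtain ⟨Ia, hIa, hIaI, ha⟩ := ha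
    exact ⟨Ia, hIa, hIaI, Ideal.mul_mem_left _ _ ha⟩

/-- nilpotent Nakayama without finiteness -/
lemma eq_bot_of_top_le_smul {Q : Type u} [AddCommGroup Q] [Module R Q] (I₀ : Ideal R) (n : ℕ)
    (hn : I₀ ^ n = ⊥) (h : (⊤ : Submodule R Q) ≤ I₀ • ⊤) : (⊤ : Submodule R Q) = ⊥ := by
  have key : ∀ k : ℕ, (⊤ : Submodule R Q) ≤ I₀ ^ k • ⊤ := by
    intro k
    induction k with
    | zero => rw [pow_zero, Ideal.one_eq_top, Submodule.top_smul]
    | succ k ih =>
      calc (⊤ : Submodule R Q) ≤ I₀ ^ k • ⊤ := ih
        _ ≤ I₀ ^ k • (I₀ • ⊤) := smul_mono_right _ h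
        _ = I₀ ^ (k + 1) • ⊤ := by rw [← Submodule.mul_smul, pow_succ]
  have := key n
  rw [hn, Submodule.bot_smul] at this
  exact eq_bot_iff.mpr this

end aux

/-- Let I be a locally nilpotent ideal of a ring R and S → S' a map of R-algebras with S of finite type
over R and S' of finite presentation and flat over R. If the induced map S/IS → S'/IS' is bijective
(stated as: S → S'/IS' is surjective with kernel IS), then S → S' is bijective. -/
theorem result (R S S' : Type u)
    [CommRing R] [CommRing S] [CommRing S'] [Algebra R S] [Algebra R S'] [Algebra.FiniteType R S]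
    [Algebra.FinitePresentation R S'] [Module.Flat R S'] (I : Ideal R) (hI : ∀ x ∈ I, IsNilpotent x)
    (f : S →ₐ[R] S')
    (hsurj : Function.Surjective ((Ideal.Quotient.mk (I.map (algebraMap R S'))).comp f.toRingHom))
    (hker : ∀ s : S, f s ∈ I.map (algebraMap R S') → s ∈ I.map (algebraMap R S)) :
    Function.Bijective f := by
  classical
  -- Step 1: surjectivity
  have hfsurj : Function.Surjective f := by
    obtain ⟨t, ht⟩ := (Algebra.FiniteType.out : (⊤ : Subalgebra R S').FG)
    have hchoose : ∀ y : S', ∃ s : S, ∃ Iy : Ideal R, Iy.FG ∧ Iy ≤ I ∧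
        y - f s ∈ Iy.map (algebraMap R S') := by
      intro y
      obtain ⟨s, hs⟩ := hsurj (Ideal.Quotient.mk _ y)
      have : y - f s ∈ I.map (algebraMap R S') := by
        rw [← Ideal.Quotient.eq]
        exact hs.symm
      obtain ⟨Iy, h1, h2, h3⟩ := exists_fg_le I _ this
      exact ⟨s, Iy, h1, h2, h3⟩
    choose sy Iy hIyfg hIyI hIymem using hchoose
    set I₀ : Ideal R := t.sup Iy with hI₀
    have hI₀fg : I₀.FG := Submodule.fg_finset_sup _ _ (fun y _ => hIyfg y)
    have hI₀I : I₀ ≤ I := Finset.sup_le (fun y _ => hIyI y)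
    have hI₀nil : IsNilpotent I₀ := by
      rw [Ideal.FG.isNilpotent_iff_le_nilradical hI₀fg]
      intro x hx
      exact hI x (hI₀I hx)
    obtain ⟨n, hn⟩ := hI₀nil
    set J : Ideal S' := I₀.map (algebraMap R S') with hJ
    -- every element is congruent to an element of the range mod J
    have hcong : ∀ z : S', ∃ s : S, z - f s ∈ J := by
      intro z
      have hz : z ∈ Algebra.adjoin R (t : Set S') := by rw [ht]; exact Algebra.mem_top
      induction hz using Algebra.adjoin_induction with
      | mem y hy =>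
        refine ⟨sy y, ?_⟩
        exact Ideal.map_mono (Finset.le_sup (f := Iy) hy) (hIymem y)
      | algebraMap r =>
        exact ⟨algebraMap R S r, by rw [AlgHom.commutes, sub_self]; exact Submodule.zero_mem _⟩
      | add a b _ _ ha hb =>
        obtain ⟨sa, ha⟩ := ha
        obtain ⟨sb, hb⟩ := hb
        refine ⟨sa + sb, ?_⟩
        have : a + b - f (sa + sb) = (a - f sa) + (b - f sb) := by rw [map_add]; ring
        rw [this]
        exact Ideal.add_mem _ ha hb
      | mul a b _ _ ha hb =>
        obtain ⟨sa, ha⟩ := ha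
        obtain ⟨sb, hb⟩ := hb
        refine ⟨sa * sb, ?_⟩
        have : a * b - f (sa * sb) = (a - f sa) * b + f sa * (b - f sb) := by rw [map_mul]; ring
        rw [this]
        exact Ideal.add_mem _ (Ideal.mul_mem_right _ _ ha) (Ideal.mul_mem_left _ _ hb)
    -- the quotient module
    set N : Submodule R S' := LinearMap.range f.toLinearMap with hN
    have htop : (⊤ : Submodule R (S' ⧸ N)) ≤ I₀ • ⊤ := by
      intro q _
      obtain ⟨z, rfl⟩ := Submodule.Quotient.mk_surjective N q
      obtain ⟨s, hs⟩ := hcong z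
      have h1 : (Submodule.Quotient.mk z : S' ⧸ N) = Submodule.Quotient.mk (z - f s) := by
        rw [Submodule.Quotient.eq]
        exact ⟨s, by simp⟩
      rw [h1]
      have h2 : z - f s ∈ (I₀ • ⊤ : Submodule R S') := by
        have := Ideal.smul_top_eq_map (R := R) (S := S') I₀
        have h3 : z - f s ∈ (I₀.map (algebraMap R S')).restrictScalars R := hs
        rw [← this] at h3
        exact h3
      have h4 : N.mkQ (z - f s) ∈ Submodule.map N.mkQ (I₀ • ⊤ : Submodule R S') :=
        Submodule.mem_map_of_mem h2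
      rw [Submodule.map_smul''] at h4
      exact (smul_mono_right I₀ (le_top : Submodule.map N.mkQ ⊤ ≤ ⊤)) h4
    have hbot := eq_bot_of_top_le_smul I₀ n hn htop
    intro z
    have : (Submodule.Quotient.mk z : S' ⧸ N) = 0 := by
      have : (Submodule.Quotient.mk z : S' ⧸ N) ∈ (⊤ : Submodule R (S' ⧸ N)) := Submodule.mem_top
      rw [hbot] at this
      exact (Submodule.mem_bot R).mp this
    rw [Submodule.Quotient.mk_eq_zero] at this
    obtain ⟨s, hs⟩ := this
    exact ⟨s, hs⟩
  refine ⟨?_, hfsurj⟩
  -- Step 2: injectivity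
  set K : Ideal S := RingHom.ker f.toRingHom with hK
  have hKfg : K.FG := by
    obtain ⟨m, g, hg⟩ := Algebra.FiniteType.iff_quotient_mvPolynomial''.mp
      (inferInstance : Algebra.FiniteType R S)
    have h1 := Algebra.FinitePresentation.ker_fg_of_mvPolynomial (f.comp g) (hfsurj.comp hg)
    have h2 := h1.map g.toRingHom
    convert h2 using 1
    simp_rw [hK, RingHom.ker_eq_comap_bot, AlgHom.toRingHom_eq_coe, AlgHom.comp_toRingHom]
    rw [← Ideal.comap_comap, Ideal.map_comap_of_surjective (g : MvPolynomial (Fin m) R →+* S) hg]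
  set IS : Ideal S := I.map (algebraMap R S) with hIS
  have hISjac : IS ≤ (⊥ : Ideal S).jacobson := by
    refine le_trans ?_ Ideal.radical_le_jacobson
    rw [hIS, Ideal.map_le_iff_le_comap]
    intro i hi
    rw [Ideal.mem_comap]
    exact (hI i hi).map (algebraMap R S)
  set Ksub : Submodule R S := K.restrictScalars R with hKsub
  have hexact : Function.Exact Ksub.subtype f.toLinearMap := by
    intro y
    constructor
    · intro hy
      exact ⟨⟨y, hy⟩, rfl⟩
    · rintro ⟨k, rfl⟩
      exact k.2
  have hinj := LinearMap.lTensor_injective_of_exact_of_flat f.toLinearMap hfsurj Ksub.subtype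
    Subtype.val_injective hexact (R ⧸ I)
  have hKle : K ≤ IS • K := by
    intro x hx
    have hxIS : x ∈ IS := hker x (by
      have : f x = 0 := hx
      rw [this]; exact Submodule.zero_mem _)
    -- 1 ⊗ x = 0 in (R/I) ⊗ S
    have h1 : ((1 : R ⧸ I) ⊗ₜ[R] x : TensorProduct R (R ⧸ I) S) = 0 := by
      apply (TensorProduct.quotTensorEquivQuotSMul S I).injective
      rw [map_zero]
      have := TensorProduct.quotTensorEquivQuotSMul_mk_tmul I (1 : R) x
      rw [map_one] at this
      rw [this, one_smul, Submodule.Quotient.mk_eq_zero]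
      have h2 := Ideal.smul_top_eq_map (R := R) (S := S) I
      have h3 : x ∈ (I.map (algebraMap R S)).restrictScalars R := hxIS
      rw [← h2] at h3
      exact h3
    have h4 : ((1 : R ⧸ I) ⊗ₜ[R] (⟨x, hx⟩ : Ksub) : TensorProduct R (R ⧸ I) Ksub) = 0 := by
      apply hinj
      rw [map_zero, LinearMap.lTensor_tmul]
      exact h1
    have h5 : (⟨x, hx⟩ : Ksub) ∈ (I • ⊤ : Submodule R Ksub) := by
      have := TensorProduct.quotTensorEquivQuotSMul_mk_tmul I (1 : R) (⟨x, hx⟩ : Ksub)
      rw [map_one, h4, map_zero, one_smul] at this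
      exact (Submodule.Quotient.mk_eq_zero _).mp this.symm
    have h6 : ∀ k : Ksub, k ∈ (I • ⊤ : Submodule R Ksub) → (k : S) ∈ IS • K := by
      intro k hk
      refine Submodule.smul_induction_on hk ?_ ?_
      · intro i hi k _
        have : ((i • k : Ksub) : S) = algebraMap R S i • (k : S) := by
          rw [Submodule.coe_smul, Algebra.smul_def, smul_eq_mul]
        rw [this]
        exact Submodule.smul_mem_smul (Ideal.mem_map_of_mem _ hi) k.2
      · intro a b ha hb
        rw [Submodule.coe_add]
        exact Submodule.add_mem _ ha hb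
    exact h6 _ h5
  have hKbot : K = ⊥ := Submodule.eq_bot_of_le_smul_of_le_jacobson_bot IS K hKfg hKle hISjac
  exact (RingHom.injective_iff_ker_eq_bot f.toRingHom).mpr hKbot

end Groth.Agent.S9140
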