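import Groth.Statements.S9143
import Mathlib
import Groth.Agent.Lib.Helper17.CIField8

set_option autoImplicit false
set_option linter.style.haveILetI false
universe u
open Synt

namespace Groth.Agent.S9143

/-- For a local k-algebra S which is essentially of finite type over a field k, being a complete
intersection over k is equivalent to each of: (2) whenever a regular local ring R, essentially of
finite type over k, maps onto S by a surjective k-algebra map, the kernel is generated by a regular
sequence; (3) some regular local ring R, essentially of finite type over k, maps onto S by a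
surjective k-algebra map whose kernel is generated by a list of dim R − dim S elements (stated as
dim R = dim S + the length of the list); (4) S is isomorphic over k to a localization at a prime of
a global complete intersection over k; (5) the same with a local complete intersection over k. -/
theorem result (k S : Type u) [Field k] [CommRing S]
    [IsLocalRing S] [Algebra k S] [Algebra.EssFiniteType k S] :
    (Synt.IsCIOver k S ↔
        ∀ (R : Type u) [CommRing R] [IsRegularLocalRing R] [Algebra k R], Algebra.EssFiniteType k R →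
          ∀ π : R →ₐ[k] S, Function.Surjective π →
            ∃ rs : List R, RingTheory.Sequence.IsRegular R rs ∧ RingHom.ker π.toRingHom = Ideal.ofList rs) ∧
      (Synt.IsCIOver k S ↔
        ∃ (R : Type u) (_ : CommRing R) (_ : IsRegularLocalRing R) (_ : Algebra k R),
          Algebra.EssFiniteType k R ∧ ∃ π : R →ₐ[k] S, Function.Surjective π ∧
            ∃ rs : List R, RingHom.ker π.toRingHom = Ideal.ofList rs ∧
              ringKrullDim R = ringKrullDim S + (rs.length : WithBot ℕ∞)) ∧
      (Synt.IsCIOver k S ↔
        ∃ (A : Type u) (_ : CommRing A) (_ : Algebra k A) (a : Ideal A) (_ : a.IsPrime),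
          Algebra.FiniteType k A ∧ Synt.IsGlobalCI k A ∧ Nonempty (S ≃ₐ[k] Localization.AtPrime a)) ∧
      (Synt.IsCIOver k S ↔
        ∃ (A : Type u) (_ : CommRing A) (_ : Algebra k A) (a : Ideal A) (_ : a.IsPrime),
          Synt.IsLCIOver k A ∧ Nonempty (S ≃ₐ[k] Localization.AtPrime a)) := by
  classical
  refine ⟨⟨?_, ?_⟩, ⟨?_, ?_⟩, ⟨?_, ?_⟩, ⟨?_, ?_⟩⟩
  · intro h R _ _ _ hess π hπ
    haveI := hess
    exact Groth.Agent.Lib.helper17.CIField.kerReg_of_isCIOver k S R π hπ h
  · intro h
    obtain ⟨ι, hι, ψ, hψ⟩ := Groth.Agent.Lib.helper17.CIField.exists_cover k S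
    have hess : Algebra.EssFiniteType k
        (Localization.AtPrime (Groth.Agent.Lib.helper17.CIField.primeOf k S ψ)) := inferInstance
    have hk := h (Localization.AtPrime (Groth.Agent.Lib.helper17.CIField.primeOf k S ψ)) hess
      (Groth.Agent.Lib.helper17.CIField.locMapₐ k S ψ) hψ
    exact Groth.Agent.Lib.helper17.CIField.isCIOver_of_kerReg k S _
      (Groth.Agent.Lib.helper17.CIField.locMapₐ k S ψ) hψ hk
  · rintro ⟨R, _, _, _, hess, rs, hmem, hreg, ⟨e⟩⟩
    let π : R →ₐ[k] S := e.symm.toAlgHom.comp (Ideal.Quotient.mkₐ k (Ideal.ofList rs))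
    have hπ : Function.Surjective π :=
      e.symm.surjective.comp (Ideal.Quotient.mkₐ_surjective k _)
    have hker : RingHom.ker π.toRingHom = Ideal.ofList rs := by
      ext x
      rw [RingHom.mem_ker]
      change e.symm (Ideal.Quotient.mk _ x) = 0 ↔ _
      rw [map_eq_zero_iff _ e.symm.injective, Ideal.Quotient.eq_zero_iff_mem]
    refine ⟨R, inferInstance, inferInstance, inferInstance, hess, π, hπ, rs, hker, ?_⟩
    rw [ringKrullDim_eq_of_ringEquiv e.toRingEquiv]
    exact (ringKrullDim_add_length_eq_ringKrullDim_of_isRegular rs hreg).symm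
  · rintro ⟨R, _, _, _, hess, π, hπ, rs, hker, hdim⟩
    haveI := hess
    have hne : RingHom.ker π.toRingHom ≠ ⊤ := RingHom.ker_ne_top _
    have hle : RingHom.ker π.toRingHom ≤ IsLocalRing.maximalIdeal R :=
      IsLocalRing.le_maximalIdeal hne
    have hmem : ∀ r ∈ rs, r ∈ IsLocalRing.maximalIdeal R := by
      intro r hr
      apply hle
      rw [hker]
      exact Ideal.subset_span hr
    have hreg := Groth.Agent.Lib.helper17.CIField.isRegular_of_dim_quot R rs hmem (by
      rw [hdim, ← ringKrullDim_eq_of_ringEquiv ((Ideal.quotEquivOfEq hker).symm.trans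
        (RingHom.quotientKerEquivOfSurjective (f := π.toRingHom) hπ))])
    exact Groth.Agent.Lib.helper17.CIField.isCIOver_of_kerReg k S R π hπ ⟨rs, hreg, hker⟩
  · intro h
    exact Groth.Agent.Lib.helper17.CIField.exists_isGlobalCI_atPrime_of_isCIOver k S h
  · rintro ⟨A, _, _, a, _, hft, hG, ⟨e⟩⟩
    exact Groth.Agent.Lib.helper17.CIField.isCIOver_of_algEquiv k _ _ e.symm
      (Groth.Agent.Lib.helper17.CIField.isCIOver_atPrime_of_isGlobalCI k hG a)
  · intro h
    obtain ⟨A, _, _, a, ha, hft, hG, he⟩ :=
      Groth.Agent.Lib.helper17.CIField.exists_isGlobalCI_atPrime_of_isCIOver k S h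
    exact ⟨A, inferInstance, inferInstance, a, ha,
      Groth.Agent.Lib.helper17.CIField.isLCIOver_of_isGlobalCI k hG, he⟩
  · rintro ⟨A, _, _, a, _, hL, ⟨e⟩⟩
    exact Groth.Agent.Lib.helper17.CIField.isCIOver_of_algEquiv k _ _ e.symm
      (Groth.Agent.Lib.helper17.CIField.isCIOver_atPrime_of_isLCIOver k hL a)

end Groth.Agent.S9143
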