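import Groth.Statements.S9144
import Mathlib
import Groth.Agent.Lib.Helper17.CIField6

set_option autoImplicit false
set_option linter.style.haveILetI false
universe u
open Synt

namespace Groth.Agent.S9144

/-- For a finite type algebra S over a field k and a prime q of S, the local ring S_q is a complete
intersection over k if and only if some basic open neighbourhood S_g (g ∉ q) is a local complete
intersection over k, if and only if some S_g (g ∉ q) is a global complete intersection over k. -/
theorem result (k S : Type u) [Field k] [CommRing S] [Algebra k S]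
    [Algebra.FiniteType k S] (q : Ideal S) [q.IsPrime] :
    (Synt.IsCIOver k (Localization.AtPrime q) ↔ ∃ g : S, g ∉ q ∧ Synt.IsLCIOver k (Localization.Away g)) ∧
      (Synt.IsCIOver k (Localization.AtPrime q) ↔
        ∃ g : S, g ∉ q ∧ Synt.IsGlobalCI k (Localization.Away g)) := by
  refine ⟨⟨fun h => ?_, fun ⟨g, hg, h⟩ =>
    Groth.Agent.Lib.helper17.CIField.isCIOver_atPrime_of_isLCIOver_away k g q hg h⟩,
    Groth.Agent.Lib.helper17.CIField.isCIOver_atPrime_iff_exists_isGlobalCI_away k q⟩
  obtain ⟨g, hg, hG⟩ :=
    (Groth.Agent.Lib.helper17.CIField.isCIOver_atPrime_iff_exists_isGlobalCI_away k q).mp h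
  haveI : Algebra.FiniteType k (Localization.Away g) :=
    Algebra.FiniteType.trans (S := S) inferInstance inferInstance
  exact ⟨g, hg, Groth.Agent.Lib.helper17.CIField.isLCIOver_of_isGlobalCI k hG⟩

end Groth.Agent.S9144
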