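import Groth.Statements.S9148
import Groth.Agent.LibRelGCIDescent29
-- import your own Groth.Agent.* helpers here

set_option autoImplicit false
universe u
open Synt

namespace Groth.Agent.S9148

open Groth.Agent.LibASys29 MvPolynomial

/-- the system of finitely generated `ℤ`-subalgebras of a ring. -/
theorem asys_adjoin (R : Type u) [CommRing R] :
    ASys ℤ (fun s : Finset R => ↥(Algebra.adjoin ℤ (s : Set R)))
      (fun s => (Algebra.adjoin ℤ (s : Set R)).val) where
  nonempty := ⟨∅⟩
  surj := fun a => ⟨{a}, ⟨a, Algebra.subset_adjoin (by simp)⟩, rfl⟩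
  dir := fun s t => by
    classical
    refine ⟨s ∪ t, Subalgebra.inclusion (Algebra.adjoin_mono (by simp)),
      Subalgebra.inclusion (Algebra.adjoin_mono (by simp)), ?_, ?_⟩ <;>
    · ext x; rfl
  ker := fun s x hx => by
    refine ⟨s, AlgHom.id ℤ _, by ext; rfl, ?_⟩
    exact Subtype.ext hx


/-- A relative global complete intersection over a ring R descends to a relative global complete
intersection over a finite type ℤ-subalgebra of R containing the coefficients. -/
theorem result (R : Type u) [CommRing R] (n c : ℕ)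
    (F : Fin c → MvPolynomial (Fin n) R) (h : Synt.IsRelGCI R n c F) :
    ∃ (R₀ : Subalgebra ℤ R) (F₀ : Fin c → MvPolynomial (Fin n) R₀), Algebra.FiniteType ℤ R₀ ∧
      (∀ i, MvPolynomial.map (algebraMap R₀ R) (F₀ i) = F i) ∧ Synt.IsRelGCI R₀ n c F₀ := by
  obtain ⟨k, F₀, hF₀, hk⟩ := (asys_adjoin R).exists_isRelGCI' n c F h
  exact ⟨Algebra.adjoin ℤ (k : Set R), F₀,
    (Subalgebra.fg_iff_finiteType _).mp (Subalgebra.fg_adjoin_finset k), hF₀, hk⟩

end Groth.Agent.S9148
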