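import Groth.Statements.S9149
import Groth.Agent.S18934
import Groth.Agent.LibSyntComp29
import Groth.Agent.S9699
-- import your own Groth.Agent.* helpers here

set_option autoImplicit false
universe u
open Synt

namespace Groth.Agent.S9149

open Polynomial

/-- adjoining a root of a monic polynomial of positive degree is syntomic, finite free and
faithfully flat. -/
theorem adjoinRoot_props (A : Type u) [CommRing A] [Nontrivial A] (g : A[X]) (hg : g.Monic)
    (hdeg : 0 < g.natDegree) :
    Synt.IsSyntomic A (AdjoinRoot g) ∧ Module.Finite A (AdjoinRoot g) ∧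
      Module.Free A (AdjoinRoot g) ∧ Module.FaithfullyFlat A (AdjoinRoot g) ∧
      Nontrivial (AdjoinRoot g) := by
  have : Module.Free A (AdjoinRoot g) := hg.free_adjoinRoot
  have : Module.Finite A (AdjoinRoot g) := hg.finite_adjoinRoot
  have : Nontrivial (AdjoinRoot g) :=
    Module.nontrivial_of_finrank_pos (R := A) (by
      rw [(AdjoinRoot.powerBasis' hg).finrank, AdjoinRoot.powerBasis'_dim]; exact hdeg)
  refine ⟨⟨inferInstance, ?_, fun q => ?_⟩, inferInstance, inferInstance, inferInstance,
    inferInstance⟩
  · exact Algebra.FinitePresentation.quotient (Submodule.fg_span_singleton _)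
  · exact Groth.Agent.S18934.isLCIOver_aux A q.asIdeal.ResidueField _ hg hdeg

theorem aux (d : ℕ) : ∀ (A : Type u) [CommRing A] (P : A[X]), P.Monic → P.natDegree = d →
    ∃ (A' : Type u) (_ : CommRing A') (_ : Algebra A A'),
      Synt.IsSyntomic A A' ∧ Module.Finite A A' ∧ Module.Free A A' ∧ Module.FaithfullyFlat A A' ∧
        ∃ s : Multiset A', P.map (algebraMap A A') = (s.map fun b => X - C b).prod := by
  induction d with
  | zero =>
    intro A _ P hP hd
    refine ⟨A, inferInstance, inferInstance, Groth.Agent.S9699.isSyntomic_of_smooth A A,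
      inferInstance, inferInstance, inferInstance, 0, ?_⟩
    have h1 : P = 1 := hP.natDegree_eq_zero.mp hd
    simp [h1]
  | succ d ih =>
    intro A _ P hP hd
    rcases subsingleton_or_nontrivial A with hA | hA
    · refine ⟨A, inferInstance, inferInstance, Groth.Agent.S9699.isSyntomic_of_smooth A A,
        inferInstance, inferInstance, inferInstance, 0, Subsingleton.elim _ _⟩
    · obtain ⟨h1, h2, h3, h4, h0⟩ := adjoinRoot_props A P hP (by omega)
      set A₁ := AdjoinRoot P
      set r : A₁ := AdjoinRoot.root P
      set Q : A₁[X] := P.map (algebraMap A A₁) with hQ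
      have hQm : Q.Monic := hP.map _
      have hroot : Q.IsRoot r := by
        rw [IsRoot.def, hQ, eval_map_algebraMap, AdjoinRoot.aeval_eq, AdjoinRoot.mk_self]
      have hfac : (X - C r) * (Q /ₘ (X - C r)) = Q := mul_divByMonic_eq_iff_isRoot.mpr hroot
      set P₁ := Q /ₘ (X - C r) with hP₁
      have hP₁m : P₁.Monic := by
        have : ((X - C r) * P₁).Monic := by rw [hfac]; exact hQm
        exact (monic_X_sub_C r).of_mul_monic_left this
      have hP₁d : P₁.natDegree = d := by
        have h5 : Q.natDegree = d + 1 := by rw [hQ, hP.natDegree_map]; exact hd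
        have h6 : ((X - C r) * P₁).natDegree = 1 + P₁.natDegree := by
          rw [(monic_X_sub_C r).natDegree_mul hP₁m, natDegree_X_sub_C]
        rw [hfac, h5] at h6
        omega
      obtain ⟨A', _, _, k1, k2, k3, k4, s, hs⟩ := ih A₁ P₁ hP₁m hP₁d
      letI : Algebra A A' := ((algebraMap A₁ A').comp (algebraMap A A₁)).toAlgebra
      have : IsScalarTower A A₁ A' := IsScalarTower.of_algebraMap_eq (fun _ => rfl)
      refine ⟨A', inferInstance, inferInstance,
        Groth.Agent.LibSyntComp29.isSyntomic_trans A A₁ A' h1 k1, Module.Finite.trans A₁ A',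
        Module.Free.trans (R := A) (S := A₁) (M := A'), Module.FaithfullyFlat.trans A A₁ A',
        algebraMap A₁ A' r ::ₘ s, ?_⟩
      have h7 : P.map (algebraMap A A') = Q.map (algebraMap A₁ A') := by
        rw [hQ, Polynomial.map_map]
        rfl
      rw [h7, ← hfac, Polynomial.map_mul, hs, Multiset.map_cons, Multiset.prod_cons]
      simp


open Polynomial in
/-- A monic polynomial over a ring A splits into linear factors over some A-algebra A' that is syntomic,
finite free and faithfully flat over A. -/
theorem result (A : Type u) [CommRing A] (P : A[X]) (hP : P.Monic) :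
    ∃ (A' : Type u) (_ : CommRing A') (_ : Algebra A A'),
      Synt.IsSyntomic A A' ∧ Module.Finite A A' ∧ Module.Free A A' ∧ Module.FaithfullyFlat A A' ∧
        ∃ s : Multiset A', P.map (algebraMap A A') = (s.map fun b => X - C b).prod := by
  exact aux P.natDegree A P hP rfl

end Groth.Agent.S9149
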