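import Groth.Statements.S9150
import Groth.Agent.S2237
import Groth.Agent.LibRelGCIAway29b
-- import your own Groth.Agent.* helpers here

set_option autoImplicit false
universe u
open Synt

namespace Groth.Agent.S9150

open TensorProduct MvPolynomial Groth.Agent.LibRelGCI29 Groth.Agent.LibAwayPres29

section Lemmas

variable {R : Type u} [CommRing R] (I : Ideal R)

/-- transport of `X/IX` along an algebra isomorphism. -/
noncomputable def quotEquivOfAlgEquiv {X Y : Type u} [CommRing X] [CommRing Y] [Algebra R X]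
    [Algebra R Y] (φ : X ≃ₐ[R] Y) :
    (X ⧸ I.map (algebraMap R X)) ≃ₐ[R] (Y ⧸ I.map (algebraMap R Y)) :=
  Ideal.quotientEquivAlg _ _ φ (by
    rw [Ideal.map_map]
    congr 1
    ext r
    exact (φ.commutes r).symm)

/-- `S_g/IS_g ≃ S/IS` when `g ≡ 1` modulo `IS`. -/
theorem nonempty_quotAwayEquiv {S : Type u} [CommRing S] [Algebra R S] (g : S)
    (hg : Ideal.Quotient.mk (I.map (algebraMap R S)) g = 1) :
    Nonempty ((Localization.Away g ⧸ I.map (algebraMap R (Localization.Away g))) ≃ₐ[R]
      (S ⧸ I.map (algebraMap R S))) := by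
  let ψ : Localization.Away g →ₐ[R] (S ⧸ I.map (algebraMap R S)) :=
    IsLocalization.liftAlgHom (M := Submonoid.powers g)
      (f := Ideal.Quotient.mkₐ R (I.map (algebraMap R S))) (by
        rintro ⟨y, k, rfl⟩
        change IsUnit (Ideal.Quotient.mk _ (g ^ k))
        rw [map_pow, hg, one_pow]
        exact isUnit_one)
  have hψ : ∀ a : S, ψ (algebraMap S (Localization.Away g) a) = Ideal.Quotient.mk _ a := by
    intro a
    simp [ψ]
  have hsurj : Function.Surjective ψ := by
    intro y
    obtain ⟨a, rfl⟩ := Ideal.Quotient.mk_surjective y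
    exact ⟨algebraMap S _ a, hψ a⟩
  have hker : RingHom.ker ψ.toRingHom = I.map (algebraMap R (Localization.Away g)) := by
    apply le_antisymm
    · intro x hx
      obtain ⟨k, a, hka⟩ := IsLocalization.Away.surj g x
      have h1 : Ideal.Quotient.mk (I.map (algebraMap R S)) a = 0 := by
        have hx0 : ψ x = 0 := (RingHom.mem_ker).mp hx
        rw [← hψ a, ← hka, map_mul, hx0]
        exact zero_mul _
      rw [Ideal.Quotient.eq_zero_iff_mem] at h1
      have h2 : algebraMap S (Localization.Away g) a ∈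
          I.map (algebraMap R (Localization.Away g)) := by
        rw [IsScalarTower.algebraMap_eq R S (Localization.Away g), ← Ideal.map_map]
        exact Ideal.mem_map_of_mem _ h1
      rw [← hka] at h2
      have hu : IsUnit (algebraMap S (Localization.Away g) g ^ k) :=
        (IsLocalization.Away.algebraMap_isUnit g).pow k
      exact (Ideal.mul_unit_mem_iff_mem _ hu).mp h2
    · rw [Ideal.map_le_iff_le_comap]
      intro r hr
      rw [Ideal.mem_comap, RingHom.mem_ker]
      change ψ (algebraMap R _ r) = 0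
      rw [ψ.commutes, IsScalarTower.algebraMap_apply R S (S ⧸ I.map (algebraMap R S)),
        Ideal.Quotient.algebraMap_eq, Ideal.Quotient.eq_zero_iff_mem]
      exact Ideal.mem_map_of_mem _ hr
  exact ⟨(Ideal.quotientEquivAlgOfEq R hker.symm).trans
    (Ideal.quotientKerAlgEquivOfSurjective hsurj)⟩

/-- `S/IS ≃ (R/I)[x]/(F̄)` for `S = R[x]/(F)`. -/
noncomputable def quotRelGCIEquiv (n c : ℕ) (F : Fin c → MvPolynomial (Fin n) R) :
    (Synt.RelGCIRing R n c F ⧸ I.map (algebraMap R (Synt.RelGCIRing R n c F))) ≃ₐ[R ⧸ I]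
      Synt.RelGCIRing (R ⧸ I) n c (fun i => MvPolynomial.map (Ideal.Quotient.mk I) (F i)) :=
  (Algebra.TensorProduct.quotIdealMapEquivQuotTensor (Synt.RelGCIRing R n c F) I).trans
    (tensorEquiv (R ⧸ I) F)

end Lemmas


/-- Let I be an ideal of a ring R and S̄ an R-algebra killed by I which is syntomic over R/I. Then S̄ is
covered by finitely many basic opens S̄_g each isomorphic, as an R-algebra, to S/IS for some
relative global complete intersection S over R. -/
theorem result (R : Type u) [CommRing R] (I : Ideal R) (Sb : Type u) [CommRing Sb]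
    [Algebra R Sb] [Algebra (R ⧸ I) Sb] [IsScalarTower R (R ⧸ I) Sb] (h : Synt.IsSyntomic (R ⧸ I) Sb) :
    ∃ s : Finset Sb, Ideal.span (s : Set Sb) = ⊤ ∧ ∀ g ∈ s,
      ∃ (n c : ℕ) (F : Fin c → MvPolynomial (Fin n) R), Synt.IsRelGCI R n c F ∧
        Nonempty (Localization.Away g ≃ₐ[R]
          (Synt.RelGCIRing R n c F ⧸ I.map (algebraMap R (Synt.RelGCIRing R n c F)))) := by
  classical
  have key : ∀ q : PrimeSpectrum Sb, ∃ g : Sb, g ∉ q.asIdeal ∧
      ∃ (n c : ℕ) (F : Fin c → MvPolynomial (Fin n) R), Synt.IsRelGCI R n c F ∧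
        Nonempty (Localization.Away g ≃ₐ[R]
          (Synt.RelGCIRing R n c F ⧸ I.map (algebraMap R (Synt.RelGCIRing R n c F)))) := by
    intro q
    obtain ⟨g, hg, n, c, Fb, hFb, ⟨e⟩⟩ :=
      Groth.Agent.S2237.exists_away_relGCI_of_isSyntomic (R ⧸ I) Sb h q.asIdeal
    have hsurj := MvPolynomial.map_surjective (σ := Fin n) (Ideal.Quotient.mk I)
      Ideal.Quotient.mk_surjective
    choose F hF using fun i => hsurj (Fb i)
    obtain rfl : Fb = fun i => MvPolynomial.map (Ideal.Quotient.mk I) (F i) :=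
      funext fun i => (hF i).symm
    obtain ⟨h', h1, hrel⟩ :=
      Groth.Agent.LibRelGCIAway29.exists_away_isRelGCI_of_quotient R n c F I hFb
    refine ⟨g, hg, n + 1, c + 1, eqsPlus F h', hrel, ?_⟩
    obtain ⟨d⟩ := nonempty_quotAwayEquiv I (Ideal.Quotient.mk (Ideal.span (Set.range F)) h') h1
    have : IsScalarTower R (R ⧸ I) (Localization.Away g) :=
      IsScalarTower.to₁₂₄ R (R ⧸ I) Sb (Localization.Away g)
    exact ⟨(e.restrictScalars R).trans (((quotRelGCIEquiv I n c F).restrictScalars R).symm.trans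
      (d.symm.trans (quotEquivOfAlgEquiv I (awayEquiv F h'))))⟩
  choose g hg hdata using key
  have hspan : Ideal.span (Set.range g) = ⊤ := by
    by_contra hne
    obtain ⟨m, hm, hle⟩ := Ideal.exists_le_maximal _ hne
    exact hg ⟨m, hm.isPrime⟩ (hle (Ideal.subset_span ⟨_, rfl⟩))
  obtain ⟨s, hs, hs'⟩ := (Ideal.span_eq_top_iff_finite _).mp hspan
  refine ⟨s, hs', fun x hx => ?_⟩
  obtain ⟨q, rfl⟩ := hs hx
  exact hdata q

end Groth.Agent.S9150
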