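import Groth.Statements.S9151
import Mathlib
import Groth.Agent.LibTwoPres29
import Groth.Agent.Lib.Helper22.SyntRetractA

set_option autoImplicit false
universe u
open Synt

namespace Groth.Agent.S9151

section aux

set_option linter.style.haveILetI false

open TensorProduct MvPolynomial

/-- finite projectivity of the conormal module does not depend on the presentation. -/
theorem cotangent_projective_of_homs {R S : Type u} [CommRing R] [CommRing S] [Algebra R S]
    (P Q : Algebra.Extension.{u} R S) (f : P.Hom Q) (g : Q.Hom P)
    [Module.Finite S P.CotangentSpace] [Module.Projective S P.CotangentSpace]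
    [Module.Finite S Q.CotangentSpace]
    [Module.Finite S Q.Cotangent] [Module.Projective S Q.Cotangent] :
    Module.Finite S P.Cotangent ∧ Module.Projective S P.Cotangent := by
  obtain ⟨e⟩ := Groth.Agent.LibTwoPres29.nonempty_equiv_of_homs P Q f g
  haveI : Module.Finite S (P.Cotangent × Q.CotangentSpace) := Module.Finite.equiv e.symm
  haveI : Module.Projective S (P.Cotangent × Q.CotangentSpace) := Module.Projective.of_equiv e.symm
  refine ⟨Module.Finite.of_surjective (LinearMap.fst S P.Cotangent Q.CotangentSpace)
    LinearMap.fst_surjective, ?_⟩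
  exact Module.Projective.of_split (LinearMap.inl S P.Cotangent Q.CotangentSpace)
    (LinearMap.fst S P.Cotangent Q.CotangentSpace) (by ext; simp)

theorem cotangent_projective_generators {R S : Type u} [CommRing R] [CommRing S] [Algebra R S]
    {ι κ : Type} [Finite ι] [Finite κ] (P : Algebra.Generators R S ι) (Q : Algebra.Generators R S κ)
    [Module.Finite S Q.toExtension.Cotangent] [Module.Projective S Q.toExtension.Cotangent] :
    Module.Finite S P.toExtension.Cotangent ∧ Module.Projective S P.toExtension.Cotangent := by
  haveI : Module.Finite S P.toExtension.CotangentSpace :=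
    Module.Finite.of_basis P.cotangentSpaceBasis
  haveI : Module.Free S P.toExtension.CotangentSpace :=
    Module.Free.of_basis P.cotangentSpaceBasis
  haveI : Module.Finite S Q.toExtension.CotangentSpace :=
    Module.Finite.of_basis Q.cotangentSpaceBasis
  exact cotangent_projective_of_homs P.toExtension Q.toExtension
    (P.defaultHom Q).toExtensionHom (Q.defaultHom P).toExtensionHom

/-- the statement, proved with the needed namespaces open. -/
theorem main_aux (R : Type u) [CommRing R] (n : ℕ)
    (I : Ideal (MvPolynomial (Fin n) R)) (g : MvPolynomial (Fin n) R ⧸ I)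
    (hg : Synt.IsSyntomic R (Localization.Away g)) :
    Module.Finite (Localization.Away g) (LocalizedModule (Submonoid.powers g) I.Cotangent) ∧
      Module.Projective (Localization.Away g) (LocalizedModule (Submonoid.powers g) I.Cotangent) := by
  classical
  haveI : Algebra.FinitePresentation R (Localization.Away g) := hg.2.1
  obtain ⟨n', c, G, ⟨e⟩⟩ := Groth.Agent.LibSyntPres29.exists_pres R (Localization.Away g)
  obtain ⟨hfin, hproj⟩ := Groth.Agent.Lib.helper22.SyntRetractA.cotangent_projective e hg
  have haev : (aeval (R := R) (fun i : Fin n => Ideal.Quotient.mk I (X i))) =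
      Ideal.Quotient.mkₐ R I := by
    apply MvPolynomial.algHom_ext
    intro i
    simp
  let P : Algebra.Generators R (MvPolynomial (Fin n) R ⧸ I) (Fin n) :=
    Algebra.Generators.ofSurjective (fun i => Ideal.Quotient.mk I (X i)) (by
      rw [haev]
      exact Ideal.Quotient.mkₐ_surjective R I)
  have hPker : P.ker = I := by
    change RingHom.ker (aeval (R := R) (fun i : Fin n => Ideal.Quotient.mk I (X i))) = I
    rw [haev]
    exact Ideal.Quotient.mkₐ_ker R I
  let Q := Algebra.Generators.localizationAway (Localization.Away g) g
  obtain ⟨hfin2, hproj2⟩ := cotangent_projective_generators (Q.comp P)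
    (Groth.Agent.Lib.helper22.SyntRetractA.gens e)
  obtain ⟨x, hx⟩ := Algebra.Generators.Cotangent.surjective_map_ofComp Q P
    (Algebra.Generators.cMulXSubOneCotangent (Localization.Away g) g)
  let E := Algebra.Generators.cotangentCompLocalizationAwayEquiv g P hx
  -- `T ⊗ I/I²` is a direct summand of `J/J²`
  let i₁ : (Localization.Away g) ⊗[MvPolynomial (Fin n) R ⧸ I] P.toExtension.Cotangent
      →ₗ[Localization.Away g] (Q.comp P).toExtension.Cotangent :=
    E.symm.toLinearMap ∘ₗ LinearMap.inl _ _ _
  let r₁ : (Q.comp P).toExtension.Cotangent →ₗ[Localization.Away g]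
      (Localization.Away g) ⊗[MvPolynomial (Fin n) R ⧸ I] P.toExtension.Cotangent :=
    LinearMap.fst _ _ _ ∘ₗ E.toLinearMap
  have hri : r₁ ∘ₗ i₁ = LinearMap.id := by
    ext x
    simp [r₁, i₁]
  have hrsurj : Function.Surjective r₁ := fun y => ⟨i₁ y, congr($hri y)⟩
  haveI : Module.Finite (Localization.Away g)
      ((Localization.Away g) ⊗[MvPolynomial (Fin n) R ⧸ I] P.toExtension.Cotangent) :=
    Module.Finite.of_surjective r₁ hrsurj
  haveI : Module.Projective (Localization.Away g)
      ((Localization.Away g) ⊗[MvPolynomial (Fin n) R ⧸ I] P.toExtension.Cotangent) :=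
    Module.Projective.of_split i₁ r₁ hri
  -- identification with the localized module
  let e0 := Ideal.Cotangent.equivOfEq I P.ker hPker.symm
  let e2 : I.Cotangent ≃ₗ[MvPolynomial (Fin n) R ⧸ I] P.toExtension.Cotangent :=
    { toFun := fun x => Algebra.Extension.Cotangent.of (e0 x)
      invFun := fun y => e0.symm y.val
      map_add' := fun x y => by rw [map_add]; rfl
      map_smul' := fun s x => by
        obtain ⟨a, rfl⟩ := Ideal.Quotient.mk_surjective s
        apply Algebra.Extension.Cotangent.ext
        have h1 : (Ideal.Quotient.mk I a) • x = a • x := by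
          rw [← Ideal.Quotient.algebraMap_eq, algebraMap_smul]
        have h2 : (Ideal.Quotient.mk I a : MvPolynomial (Fin n) R ⧸ I) =
            algebraMap P.toExtension.Ring (MvPolynomial (Fin n) R ⧸ I) a := by
          change _ = aeval (fun i : Fin n => Ideal.Quotient.mk I (X i)) a
          rw [haev]
          rfl
        rw [RingHom.id_apply, h1, map_smul, h2, algebraMap_smul,
          Algebra.Extension.Cotangent.val_smul']
        rfl
      left_inv := fun x => e0.symm_apply_apply x
      right_inv := fun y => Algebra.Extension.Cotangent.ext (e0.apply_symm_apply y.val) }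
  let e3 : (Localization.Away g) ⊗[MvPolynomial (Fin n) R ⧸ I] I.Cotangent ≃ₗ[Localization.Away g]
      (Localization.Away g) ⊗[MvPolynomial (Fin n) R ⧸ I] P.toExtension.Cotangent :=
    LinearEquiv.baseChange _ _ _ _ e2
  let e4 : (Localization.Away g) ⊗[MvPolynomial (Fin n) R ⧸ I] I.Cotangent ≃ₗ[Localization.Away g]
      LocalizedModule (Submonoid.powers g) I.Cotangent :=
    (IsLocalizedModule.isBaseChange (Submonoid.powers g) (Localization.Away g)
      (LocalizedModule.mkLinearMap (Submonoid.powers g) I.Cotangent)).equiv
  let e5 := e4.symm.trans e3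
  exact ⟨Module.Finite.equiv e5.symm, Module.Projective.of_equiv e5.symm⟩

end aux

/-- Let S = R[x_1, …, x_n]/I with I finitely generated and let g ∈ S be such that S_g is syntomic over
R. Then the localization (I/I²)_g of the conormal module is a finite projective S_g-module. -/
theorem result (R : Type u) [CommRing R] (n : ℕ)
    (I : Ideal (MvPolynomial (Fin n) R)) (hI : I.FG) (g : MvPolynomial (Fin n) R ⧸ I)
    (hg : Synt.IsSyntomic R (Localization.Away g)) :
    Module.Finite (Localization.Away g) (LocalizedModule (Submonoid.powers g) I.Cotangent) ∧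
      Module.Projective (Localization.Away g) (LocalizedModule (Submonoid.powers g) I.Cotangent) := by
  exact main_aux R n I g hg

end Groth.Agent.S9151
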