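import Groth.Statements.S9153
import Mathlib
import Groth.Agent.Lib.Helper26.CMCat3


set_option autoImplicit false
universe u
open CAlg

namespace Groth.Agent.S9153

/-- In a polynomial ring in finitely many variables over a field, every saturated chain of primes
between two primes p ⊆ q has length equal to the difference of their heights (stated additively:
length + height p = height q). -/
theorem result (k : Type u) [Field k] (n : ℕ)
    (s : LTSeries (PrimeSpectrum (MvPolynomial (Fin n) k)))
    (hsat : ∀ i : Fin s.length, s (Fin.castSucc i) ⋖ s (Fin.succ i)) :
    (s.length : ℕ∞) + s.head.asIdeal.height = s.last.asIdeal.height := by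
  have hk := Groth.Agent.Lib.helper26.CMCat.isCohenMacaulayRing_field k
  have hP := Groth.Agent.Lib.helper26.CMPoly.isCohenMacaulayRing_mvPolynomial k n
  exact Groth.Agent.Lib.helper26.CMCat.height_chain_of_cm s hsat (Fin.last _)

end Groth.Agent.S9153
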