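import Groth.Statements.S9155
import Groth.Agent.S9465
import Mathlib.RingTheory.Etale.Basic
import Mathlib.RingTheory.Localization.BaseChange
-- import your own Groth.Agent.* helpers here

set_option autoImplicit false
universe u
open Diff16

namespace Groth.Agent.S9155

open Groth.Agent.LibDiff29 Diff16
open scoped TensorProduct

/-- A differential operator of order at most k between modules over B (relative to A → B) has exactly
one extension to the localized modules over S⁻¹B that is again a differential operator of order at
most k (relative to A → S⁻¹B), compatible with the localization maps. -/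
theorem result (A B : Type u) [CommRing A] [CommRing B] [Algebra A B]
    (S : Submonoid B) (M N : Type u) [AddCommGroup M] [Module B M] [Module A M] [IsScalarTower A B M]
    [AddCommGroup N] [Module B N] [Module A N] [IsScalarTower A B N] (k : ℕ) (D : M →ₗ[A] N)
    (hD : Diff16.IsDiffOpLE A B M N k D) :
    ∃! E : LocalizedModule S M →ₗ[A] LocalizedModule S N,
      Diff16.IsDiffOpLE A (Localization S) (LocalizedModule S M) (LocalizedModule S N) k E ∧
        E ∘ₗ (LocalizedModule.mkLinearMap S M).restrictScalars A =
          (LocalizedModule.mkLinearMap S N).restrictScalars A ∘ₗ D := by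
  have : Algebra.FormallyEtale B (Localization S) := Algebra.FormallyEtale.of_isLocalization S
  let eM : Localization S ⊗[B] M ≃ₗ[Localization S] LocalizedModule S M :=
    (IsLocalizedModule.isBaseChange S (Localization S) (LocalizedModule.mkLinearMap S M)).equiv
  let eN : Localization S ⊗[B] N ≃ₗ[Localization S] LocalizedModule S N :=
    (IsLocalizedModule.isBaseChange S (Localization S) (LocalizedModule.mkLinearMap S N)).equiv
  have heM : ∀ m, eM ((1 : Localization S) ⊗ₜ[B] m) = LocalizedModule.mkLinearMap S M m := fun m => by
    simp only [eM]
    rw [IsBaseChange.equiv_tmul, one_smul]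
  have heN : ∀ m, eN ((1 : Localization S) ⊗ₜ[B] m) = LocalizedModule.mkLinearMap S N m := fun m => by
    simp only [eN]
    rw [IsBaseChange.equiv_tmul, one_smul]
  have h0M : IsDiffOpLE A (Localization S) _ _ 0 (eM.toLinearMap.restrictScalars A) :=
    fun b m => map_smul eM b m
  have h0Ms : IsDiffOpLE A (Localization S) _ _ 0 (eM.symm.toLinearMap.restrictScalars A) :=
    fun b m => map_smul eM.symm b m
  have h0N : IsDiffOpLE A (Localization S) _ _ 0 (eN.toLinearMap.restrictScalars A) :=
    fun b m => map_smul eN b m
  have h0Ns : IsDiffOpLE A (Localization S) _ _ 0 (eN.symm.toLinearMap.restrictScalars A) :=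
    fun b m => map_smul eN.symm b m
  obtain ⟨D', ⟨hD'1, hD'2⟩, hD'u⟩ := Groth.Agent.S9465.result A B (Localization S) M N k D hD
  refine ⟨(eN.toLinearMap.restrictScalars A) ∘ₗ D' ∘ₗ (eM.symm.toLinearMap.restrictScalars A),
    ⟨?_, ?_⟩, ?_⟩
  · have h1 := isDiffOpLE_comp h0Ms hD'1
    have h2 := isDiffOpLE_comp h1 h0N
    simpa using h2
  · ext m
    simp only [LinearMap.comp_apply, LinearMap.restrictScalars_apply, LinearEquiv.coe_coe]
    rw [← heM m, LinearEquiv.symm_apply_apply]
    have := LinearMap.congr_fun hD'2 m
    simp only [LinearMap.comp_apply, LinearMap.restrictScalars_apply, TensorProduct.mk_apply] at this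
    rw [this, heN]
  · rintro E ⟨hE1, hE2⟩
    have h3 : (eN.symm.toLinearMap.restrictScalars A) ∘ₗ E ∘ₗ (eM.toLinearMap.restrictScalars A) =
        D' := by
      apply hD'u
      constructor
      · have h1 := isDiffOpLE_comp h0M hE1
        have h2 := isDiffOpLE_comp h1 h0Ns
        simpa using h2
      · ext m
        simp only [LinearMap.comp_apply, LinearMap.restrictScalars_apply, LinearEquiv.coe_coe,
          TensorProduct.mk_apply]
        rw [heM]
        have := LinearMap.congr_fun hE2 m
        simp only [LinearMap.comp_apply, LinearMap.restrictScalars_apply] at this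
        rw [this, ← heN, LinearEquiv.symm_apply_apply]
    rw [← h3]
    ext x
    simp

end Groth.Agent.S9155
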