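import Groth.Statements.S9157
import Mathlib

set_option autoImplicit false
universe u
open CAlg

namespace Groth.Agent.S9157

/-- A finitely generated submodule of a localized module is spanned by finitely many elements
of the form `m / 1`. -/
theorem exists_finset_span_mk_one {R : Type u} [CommRing R] (S : Submonoid R)
    {P : Type u} [AddCommGroup P] [Module R P]
    (N : Submodule (Localization S) (LocalizedModule S P)) (hN : N.FG) :
    ∃ W : Finset P, N = Submodule.span (Localization S)
      ((fun w : P => LocalizedModule.mk w (1 : S)) '' (W : Set P)) := by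
  classical
  obtain ⟨T, rfl⟩ := hN
  have hrep : ∀ t : LocalizedModule S P, ∃ ps : P × S, t = LocalizedModule.mk ps.1 ps.2 := by
    intro t
    induction t using LocalizedModule.induction_on with
    | h m s => exact ⟨(m, s), rfl⟩
  choose rep hrep using hrep
  refine ⟨T.image (fun t => (rep t).1), ?_⟩
  apply le_antisymm
  · rw [Submodule.span_le]
    intro t ht
    have h1 : LocalizedModule.mk (rep t).1 (1 : S) ∈ Submodule.span (Localization S)
        ((fun w : P => LocalizedModule.mk w (1 : S)) ''
          ((T.image (fun t => (rep t).1) : Finset P) : Set P)) := by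
      apply Submodule.subset_span
      refine ⟨(rep t).1, ?_, rfl⟩
      simp only [Finset.coe_image, Set.mem_image, Finset.mem_coe]
      exact ⟨t, ht, rfl⟩
    have h2 : t = Localization.mk (1 : R) (rep t).2 • LocalizedModule.mk (rep t).1 (1 : S) := by
      rw [LocalizedModule.mk_smul_mk, one_smul, mul_one]
      exact hrep t
    rw [SetLike.mem_coe, h2]
    exact Submodule.smul_mem _ _ h1
  · rw [Submodule.span_le]
    rintro _ ⟨w, hw, rfl⟩
    simp only [Finset.coe_image, Set.mem_image, Finset.mem_coe] at hw
    obtain ⟨t, ht, rfl⟩ := hw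
    have h1 : t ∈ Submodule.span (Localization S) (T : Set (LocalizedModule S P)) :=
      Submodule.subset_span ht
    have h2 : LocalizedModule.mk (rep t).1 (1 : S) =
        Localization.mk ((rep t).2 : R) (1 : S) • t := by
      have h3 : Localization.mk ((rep t).2 : R) (1 : S) • LocalizedModule.mk (rep t).1 (rep t).2 =
          LocalizedModule.mk (rep t).1 (1 : S) := by
        rw [LocalizedModule.mk_smul_mk, one_mul]
        exact LocalizedModule.mk_cancel (rep t).2 (rep t).1
      rw [← hrep t] at h3
      exact h3.symm
    change LocalizedModule.mk (rep t).1 (1 : S) ∈ _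
    rw [h2]
    exact Submodule.smul_mem _ _ h1


/-- If the localization S⁻¹M of an R-module M is finitely presented over S⁻¹R, then some finitely
presented R-module M' maps to M inducing an isomorphism S⁻¹M' → S⁻¹M. -/
theorem result (R : Type u) [CommRing R] (S : Submonoid R)
    (M : Type u) [AddCommGroup M] [Module R M]
    [Module.FinitePresentation (Localization S) (LocalizedModule S M)] :
    ∃ (M' : Type u) (_ : AddCommGroup M') (_ : Module R M') (φ : M' →ₗ[R] M),
      Module.FinitePresentation R M' ∧ Function.Bijective (LocalizedModule.map S φ) := by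
  classical
  -- generators of the form `m / 1`
  have hfin : Module.Finite (Localization S) (LocalizedModule S M) := inferInstance
  obtain ⟨W₀, hW₀⟩ := exists_finset_span_mk_one S
    (⊤ : Submodule (Localization S) (LocalizedModule S M)) hfin.fg_top
  let ψ : (↥W₀ → R) →ₗ[R] M := Fintype.linearCombination R (fun i => (i : M))
  have hψsurj : Function.Surjective (LocalizedModule.map S ψ) := by
    rw [← LinearMap.range_eq_top, eq_top_iff, hW₀, Submodule.span_le]
    rintro _ ⟨w, hw, rfl⟩
    refine ⟨LocalizedModule.mk (Pi.single ⟨w, hw⟩ 1) 1, ?_⟩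
    rw [LocalizedModule.map_mk, Fintype.linearCombination_apply_single, one_smul]
  -- the kernel is finitely generated, by elements `v / 1`
  have hker : (LinearMap.ker (LocalizedModule.map S ψ)).FG :=
    Module.FinitePresentation.fg_ker _ hψsurj
  obtain ⟨W, hW⟩ := exists_finset_span_mk_one S _ hker
  have hu : ∀ v : ↥W₀ → R, v ∈ W → ∃ u : S, u • ψ v = 0 := by
    intro v hv
    have h1 : LocalizedModule.mk v (1 : S) ∈ LinearMap.ker (LocalizedModule.map S ψ) := by
      rw [hW]
      exact Submodule.subset_span ⟨v, hv, rfl⟩
    rw [LinearMap.mem_ker, LocalizedModule.map_mk] at h1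
    have h2 := (IsLocalizedModule.eq_zero_iff S (LocalizedModule.mkLinearMap S M)).mp h1
    exact h2
  choose! u hu using hu
  let K : Submodule R (↥W₀ → R) := Submodule.span R ((fun v => u v • v) '' (W : Set _))
  have hKψ : K ≤ LinearMap.ker ψ := by
    rw [Submodule.span_le]
    rintro _ ⟨v, hv, rfl⟩
    rw [SetLike.mem_coe, LinearMap.mem_ker]
    change ψ (u v • v) = 0
    rw [Submonoid.smul_def, map_smul, ← Submonoid.smul_def]
    exact hu v hv
  have hKfg : K.FG := ⟨W.image (fun v => u v • v), by simp [K]⟩
  refine ⟨(↥W₀ → R) ⧸ K, inferInstance, inferInstance, K.liftQ ψ hKψ, ?_, ?_, ?_⟩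
  · exact Module.finitePresentation_of_surjective K.mkQ K.mkQ_surjective
      (by rw [Submodule.ker_mkQ]; exact hKfg)
  · -- injectivity
    rw [injective_iff_map_eq_zero]
    intro x hx
    induction x using LocalizedModule.induction_on with
    | h m s =>
      obtain ⟨v, rfl⟩ := K.mkQ_surjective m
      rw [LocalizedModule.map_mk, Submodule.mkQ_apply, Submodule.liftQ_apply] at hx
      have h1 : LocalizedModule.mk v s ∈ LinearMap.ker (LocalizedModule.map S ψ) := by
        rw [LinearMap.mem_ker, LocalizedModule.map_mk]; exact hx
      have h2 : LinearMap.ker (LocalizedModule.map S ψ) ≤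
          LinearMap.ker (LocalizedModule.map S K.mkQ) := by
        rw [hW, Submodule.span_le]
        rintro _ ⟨w, hw, rfl⟩
        rw [SetLike.mem_coe, LinearMap.mem_ker, LocalizedModule.map_mk]
        rw [← LocalizedModule.mk_cancel_common_left (u w) 1, Submonoid.smul_def, ← map_smul,
          ← Submonoid.smul_def]
        have : K.mkQ (u w • w) = 0 := by
          rw [Submodule.mkQ_apply, Submodule.Quotient.mk_eq_zero]
          exact Submodule.subset_span ⟨w, hw, rfl⟩
        rw [this, LocalizedModule.zero_mk]
      have h3 := h2 h1
      rw [LinearMap.mem_ker, LocalizedModule.map_mk] at h3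
      exact h3
  · -- surjectivity
    intro y
    obtain ⟨x, rfl⟩ := hψsurj y
    induction x using LocalizedModule.induction_on with
    | h v s =>
      refine ⟨LocalizedModule.mk (K.mkQ v) s, ?_⟩
      rw [LocalizedModule.map_mk, LocalizedModule.map_mk, Submodule.mkQ_apply,
        Submodule.liftQ_apply]

end Groth.Agent.S9157
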