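import Groth.Statements.S9159
import Mathlib
import Groth.Agent.Lib.Helper26.QFinFlat2
import Groth.Agent.Lib.Helper5.LocalDimFT
import Groth.Agent.Lib.Helper24.FormalEquidimLoc2
import Groth.Agent.Lib.Helper24.FlatDepth4
import Groth.Agent.S2082

set_option autoImplicit false
universe u
open CAlg

namespace Groth.Agent.S9159


open Groth.Agent.Lib.helper26.QFinFlat Groth.Agent.Lib.helper26.DimFormula IsLocalRing

/-- `trdeg_k k[y₁..y_d] = d`. -/
theorem trdeg_mvPolynomial (k : Type u) [Field k] (d : ℕ) :
    Algebra.trdeg k (MvPolynomial (Fin d) k) = (d : Cardinal.{u}) := by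
  rw [MvPolynomial.trdeg_of_isDomain]
  simp


/-- Fix a field k, a k-algebra S of finite type, and a quasi-finite map of k-algebras k[y_1, …, y_d] →
S. A prime q of S has S_q flat over k[y_1, …, y_d] exactly when S_q is Cohen–Macaulay and Spec S has
local dimension d at q. -/
theorem result (k S : Type u) [Field k] [CommRing S]
    [Algebra k S] [Algebra.FiniteType k S] (d : ℕ) [Algebra (MvPolynomial (Fin d) k) S]
    [IsScalarTower k (MvPolynomial (Fin d) k) S] [Algebra.QuasiFinite (MvPolynomial (Fin d) k) S]
    (q : Ideal S) [q.IsPrime] :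
    Module.Flat (MvPolynomial (Fin d) k) (Localization.AtPrime q) ↔
      (LocCoh.IsCohenMacaulayLocalRing (Localization.AtPrime q) ∧
        FlatMor.localDim (PrimeSpectrum S) ⟨q, inferInstance⟩ = (d : WithBot ℕ∞)) := by
  set P := MvPolynomial (Fin d) k with hP
  have hN : IsNoetherianRing S := Algebra.FiniteType.isNoetherianRing k S
  set p := q.under P with hp
  have hlo : q.LiesOver p := ⟨rfl⟩
  let _ : Algebra (Localization.AtPrime p) (Localization.AtPrime q) :=
    Localization.AtPrime.algebraOfLiesOver p q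
  have hloc : IsLocalHom (algebraMap (Localization.AtPrime p) (Localization.AtPrime q)) :=
    Localization.isLocalHom_localRingHom _ q (algebraMap P S) Ideal.LiesOver.over
  have hflat_iff : Module.Flat (Localization.AtPrime p) (Localization.AtPrime q) ↔
      Module.Flat P (Localization.AtPrime q) :=
    Module.flat_iff_of_isLocalization (Localization.AtPrime p) p.primeCompl (Localization.AtPrime q)
  have hfib0 := ringKrullDim_fibre_eq_zero P S q p
  have hreg : IsRegularLocalRing (Localization.AtPrime p) := inferInstance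
  -- heights and transcendence degrees
  have hC := trdeg_quotient_eq_of_quasiFinite k P S q p
  have hPp := height_add_trdeg_quotient k P p
  rw [trdeg_mvPolynomial] at hPp
  obtain ⟨n, hn⟩ := exists_nat_trdeg k (S ⧸ q)
  obtain ⟨hp', hhp'⟩ := ENat.ne_top_iff_exists.mp (Ideal.height_ne_top_of_isPrime (I := p))
  obtain ⟨hq', hhq'⟩ := ENat.ne_top_iff_exists.mp (Ideal.height_ne_top_of_isPrime (I := q))
  have e2 : ringKrullDim (Localization.AtPrime q) = q.height :=
    IsLocalization.AtPrime.ringKrullDim_eq_height q _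
  have e3 : ringKrullDim (Localization.AtPrime p) = p.height :=
    IsLocalization.AtPrime.ringKrullDim_eq_height p _
  have hpd : hp' + n = d := by
    rw [← hC, hn, ← hhp'] at hPp
    have : ((hp' + n : ℕ) : Cardinal.{u}) = (d : Cardinal.{u}) := by
      rw [← hPp]; push_cast; rfl
    exact_mod_cast this
  constructor
  · intro hfl
    have hfl' : Module.Flat (Localization.AtPrime p) (Localization.AtPrime q) := hflat_iff.mpr hfl
    constructor
    · rw [Groth.Agent.Lib.Helper24.FlatDepth.cm_iff_of_flat (Localization.AtPrime p)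
        (Localization.AtPrime q)]
      refine ⟨Groth.Agent.Lib.Helper24.FormalEquidimLoc.isCohenMacaulayLocalRing_of_isRegularLocalRing _,
        ?_⟩
      have := Groth.Agent.Lib.Helper24.FlatDimFormula.isLocalRing_quotient
        (Localization.AtPrime p) (Localization.AtPrime q)
      exact isCohenMacaulayLocalRing_of_ringKrullDim_eq_zero _ hfib0
    · have hmin : ∀ q0 ∈ minimalPrimes S, q0 ≤ q →
          Algebra.trdeg k (S ⧸ q0) = (d : Cardinal.{u}) := by
        intro q0 hq0 hle
        have hq0p : q0.IsPrime := hq0.1.1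
        have hbot := under_eq_bot_of_flat P S q q0 hq0 hle
        have hbp : (⊥ : Ideal P).IsPrime := Ideal.isPrime_bot
        have hlo0 : q0.LiesOver (⊥ : Ideal P) := ⟨hbot.symm⟩
        rw [trdeg_quotient_eq_of_quasiFinite k P S q0 ⊥]
        have h1 := height_add_trdeg_quotient k P ⊥
        rw [trdeg_mvPolynomial, Ideal.height_bot] at h1
        simpa using h1
      obtain ⟨q0, hq0, hq0le⟩ := Ideal.exists_minimalPrimes_le (I := ⊥) (J := q) bot_le
      have hq0' : q0 ∈ minimalPrimes S := hq0
      exact Groth.Agent.Lib.helper5.LocalDimFT.localDim_primeSpectrum_eq k q d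
        (fun q1 h1 h2 => le_of_eq (hmin q1 h1 h2)) ⟨q0, hq0', hq0le, hmin q0 hq0' hq0le⟩
  · rintro ⟨hCM, hld⟩
    rw [← hflat_iff]
    have hmin : ∀ q0 ∈ minimalPrimes S, q0 ≤ q →
        Algebra.trdeg k (S ⧸ q0) = ((hq' + n : ℕ) : Cardinal.{u}) := by
      intro q0 hq0 hle
      rw [← height_add_trdeg_eq_of_cm k S q q0 hq0 hle, hn, ← hhq']
      push_cast
      rfl
    obtain ⟨q0, hq0, hq0le⟩ := Ideal.exists_minimalPrimes_le (I := ⊥) (J := q) bot_le
    have hq0' : q0 ∈ minimalPrimes S := hq0
    have hld' := Groth.Agent.Lib.helper5.LocalDimFT.localDim_primeSpectrum_eq k q (hq' + n)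
      (fun q1 h1 h2 => le_of_eq (hmin q1 h1 h2)) ⟨q0, hq0', hq0le, hmin q0 hq0' hq0le⟩
    rw [hld] at hld'
    have hqd : d = hq' + n := by exact_mod_cast hld'
    have hpq : hp' = hq' := by omega
    refine Groth.Agent.S2082.result (R := Localization.AtPrime p) (S := Localization.AtPrime q) ?_
    rw [hfib0, add_zero, e2, e3, ← hhp', ← hhq', hpq]


end Groth.Agent.S9159
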