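import Groth.Statements.S9160
import Mathlib

set_option autoImplicit false
universe u
open CAlg

namespace Groth.Agent.S9160

theorem length_quotient_ne_top (R : Type u) [CommRing R] [IsNoetherianRing R]
    (hdim : ringKrullDim R = 1) (a : R) (ha : IsRegular a) :
    Module.length R (R ⧸ Ideal.span ({a} : Set R)) ≠ ⊤ := by
  rw [Module.length_ne_top_iff, isFiniteLength_iff_isNoetherian_isArtinian]
  refine ⟨inferInstance, ?_⟩
  have ha' : a ∈ nonZeroDivisors R := ha.mem_nonZeroDivisors
  have h1 := ringKrullDim_quotient_succ_le_of_nonZeroDivisor ha'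
  rw [hdim] at h1
  have h2 : ringKrullDim (R ⧸ Ideal.span ({a} : Set R)) ≤ 0 := by
    generalize ringKrullDim (R ⧸ Ideal.span ({a} : Set R)) = x at h1
    induction x with
    | bot => exact bot_le
    | coe n =>
      have h1' : n + 1 ≤ 1 := by exact_mod_cast h1
      induction n with
      | top => simp at h1'
      | coe k =>
        have : k + 1 ≤ 1 := by exact_mod_cast h1'
        have hk : k = 0 := by omega
        subst hk
        simp
  have h3 : Ring.KrullDimLE 0 (R ⧸ Ideal.span ({a} : Set R)) := by
    rw [Ring.krullDimLE_iff]; exact_mod_cast h2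
  have h4 : IsArtinianRing (R ⧸ Ideal.span ({a} : Set R)) :=
    isArtinianRing_iff_krullDimLE_zero.mpr h3
  exact isArtinian_of_surjective_algebraMap (R := R ⧸ Ideal.span ({a} : Set R))
    Ideal.Quotient.mk_surjective


theorem length_quotient_mul (R : Type u) [CommRing R] (a b : R) (hb : IsRegular b) :
    Module.length R (R ⧸ Ideal.span ({a * b} : Set R)) =
      Module.length R (R ⧸ Ideal.span ({a} : Set R)) +
        Module.length R (R ⧸ Ideal.span ({b} : Set R)) := by
  have h1 : Ideal.span ({a} : Set R) ≤
      Submodule.comap (LinearMap.mulLeft R b) (Ideal.span ({a * b} : Set R)) := by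
    rw [Ideal.span_le]
    rintro x hx
    rw [Set.mem_singleton_iff] at hx
    subst hx
    simp only [Submodule.comap_coe, Set.mem_preimage, LinearMap.mulLeft_apply, SetLike.mem_coe]
    rw [mul_comm]
    exact Ideal.subset_span rfl
  have h2 : Ideal.span ({a * b} : Set R) ≤
      Submodule.comap (LinearMap.id : R →ₗ[R] R) (Ideal.span ({b} : Set R)) := by
    rw [Ideal.span_le]
    rintro x hx
    rw [Set.mem_singleton_iff] at hx
    subst hx
    simp only [Submodule.comap_coe, Set.mem_preimage, LinearMap.id_apply, SetLike.mem_coe]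
    exact Ideal.mul_mem_left _ _ (Ideal.subset_span rfl)
  let f : (R ⧸ Ideal.span ({a} : Set R)) →ₗ[R] (R ⧸ Ideal.span ({a * b} : Set R)) :=
    Submodule.mapQ _ _ (LinearMap.mulLeft R b) h1
  let g : (R ⧸ Ideal.span ({a * b} : Set R)) →ₗ[R] (R ⧸ Ideal.span ({b} : Set R)) :=
    Submodule.mapQ _ _ LinearMap.id h2
  have hf : Function.Injective f := by
    rw [injective_iff_map_eq_zero]
    intro x hx
    obtain ⟨x, rfl⟩ := Submodule.Quotient.mk_surjective _ x
    simp only [f, Submodule.mapQ_apply, LinearMap.mulLeft_apply] at hx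
    rw [Submodule.Quotient.mk_eq_zero, Ideal.mem_span_singleton'] at hx
    obtain ⟨c, hc⟩ := hx
    rw [Submodule.Quotient.mk_eq_zero, Ideal.mem_span_singleton']
    refine ⟨c, hb.left ?_⟩
    simp only
    rw [← hc]; ring
  have hg : Function.Surjective g := by
    intro y
    obtain ⟨y, rfl⟩ := Submodule.Quotient.mk_surjective _ y
    exact ⟨Submodule.Quotient.mk y, by simp [g]⟩
  have hfg : Function.Exact f g := by
    intro y
    obtain ⟨y, rfl⟩ := Submodule.Quotient.mk_surjective _ y
    constructor
    · intro hy
      simp only [g, Submodule.mapQ_apply, LinearMap.id_apply] at hy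
      rw [Submodule.Quotient.mk_eq_zero, Ideal.mem_span_singleton'] at hy
      obtain ⟨c, hc⟩ := hy
      refine ⟨Submodule.Quotient.mk c, ?_⟩
      simp only [f, Submodule.mapQ_apply, LinearMap.mulLeft_apply]
      rw [← hc, mul_comm b c]
    · rintro ⟨x, hx⟩
      obtain ⟨x, rfl⟩ := Submodule.Quotient.mk_surjective _ x
      rw [← hx]
      simp only [f, g, Submodule.mapQ_apply, LinearMap.mulLeft_apply, LinearMap.id_apply]
      rw [Submodule.Quotient.mk_eq_zero]
      exact Ideal.mul_mem_right _ _ (Ideal.subset_span rfl)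
  exact Module.length_eq_add_of_exact f g hf hg hfg

/-- In a semi-local Noetherian ring of dimension one, for nonzerodivisors a and b the length of R/(ab)
is the sum of the lengths of R/(a) and R/(b), and these lengths are finite. -/
theorem result (R : Type u) [CommRing R] [IsNoetherianRing R]
    (hsemi : Finite (MaximalSpectrum R)) (hdim : ringKrullDim R = 1) (a b : R) (ha : IsRegular a)
    (hb : IsRegular b) :
    Module.length R (R ⧸ Ideal.span ({a * b} : Set R)) =
        Module.length R (R ⧸ Ideal.span ({a} : Set R)) + Module.length R (R ⧸ Ideal.span ({b} : Set R)) ∧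
      Module.length R (R ⧸ Ideal.span ({a} : Set R)) ≠ ⊤ ∧
      Module.length R (R ⧸ Ideal.span ({b} : Set R)) ≠ ⊤ := by
  exact ⟨length_quotient_mul R a b hb, length_quotient_ne_top R hdim a ha,
    length_quotient_ne_top R hdim b hb⟩

end Groth.Agent.S9160
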