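import Groth.Statements.S9162
import Groth.Agent.LibTwoPres29
-- import your own Groth.Agent.* helpers here

set_option autoImplicit false
universe u
open CAlg

namespace Groth.Agent.S9162

open Algebra TensorProduct Groth.Agent.LibTwoPres29


/-- Let S be an R-algebra and α : R[x_1, …, x_n] → S, β : R[y_1, …, y_m] → S surjective R-algebra maps
(presentations by polynomial rings in finitely many variables; the kernels I and J need not be
finitely generated). Then I/I² ⊕ S^m and J/J² ⊕ S^n are isomorphic S-modules. -/
theorem result (R S : Type u) [CommRing R] [CommRing S]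
    [Algebra R S] (n m : ℕ) (α : MvPolynomial (Fin n) R →ₐ[R] S) (hα : Function.Surjective α)
    (β : MvPolynomial (Fin m) R →ₐ[R] S) (hβ : Function.Surjective β) :
    Nonempty (((Algebra.Extension.ofSurjective α hα).Cotangent × (Fin m → S)) ≃ₗ[S]
      ((Algebra.Extension.ofSurjective β hβ).Cotangent × (Fin n → S))) := by
  obtain ⟨e⟩ := nonempty_equiv_of_homs (Extension.ofSurjective α hα) (Extension.ofSurjective β hβ)
    (homOfMvPolynomial α hα _) (homOfMvPolynomial β hβ _)
  let eP : (Extension.ofSurjective α hα).CotangentSpace ≃ₗ[S] (Fin n → S) :=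
    cotangentSpaceEquivFun (Extension.ofSurjective α hα)
      (KaehlerDifferential.mvPolynomialBasis R (Fin n))
  let eQ : (Extension.ofSurjective β hβ).CotangentSpace ≃ₗ[S] (Fin m → S) :=
    cotangentSpaceEquivFun (Extension.ofSurjective β hβ)
      (KaehlerDifferential.mvPolynomialBasis R (Fin m))
  exact ⟨((LinearEquiv.refl S _).prodCongr eQ.symm).trans
    (e.trans ((LinearEquiv.refl S _).prodCongr eP))⟩

end Groth.Agent.S9162
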