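import Groth.Statements.S9164
import Mathlib

set_option autoImplicit false
universe u
open CAlg

namespace Groth.Agent.S9164

/-- Clearing denominators: if `M` spans `V` over `K = Frac R`, every vector has a nonzero
`R`-multiple in `M`. -/
theorem exists_smul_mem {R K V : Type u} [CommRing R] [IsDomain R] [Field K] [Algebra R K]
    [IsFractionRing R K] [AddCommGroup V] [Module K V] [Module R V] [IsScalarTower R K V]
    (M : Submodule R V) (hM : Submodule.span K (M : Set V) = ⊤) (x : V) :
    ∃ r : R, r ≠ 0 ∧ r • x ∈ M := by
  have hx : x ∈ Submodule.span K (M : Set V) := by rw [hM]; trivial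
  induction hx using Submodule.span_induction with
  | mem x hx => exact ⟨1, one_ne_zero, by simpa using hx⟩
  | zero => exact ⟨1, one_ne_zero, by simp⟩
  | add x y _ _ hx hy =>
    obtain ⟨r, hr, hrx⟩ := hx
    obtain ⟨t, ht, hty⟩ := hy
    refine ⟨r * t, mul_ne_zero hr ht, ?_⟩
    rw [smul_add]
    refine M.add_mem ?_ ?_
    · rw [mul_comm, mul_smul]; exact M.smul_mem _ hrx
    · rw [mul_smul]; exact M.smul_mem _ hty
  | smul k x _ hx =>
    obtain ⟨r, hr, hrx⟩ := hx
    obtain ⟨a, b, hb, rfl⟩ := IsFractionRing.div_surjective (A := R) k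
    have hb0 : b ≠ 0 := nonZeroDivisors.ne_zero hb
    have hbK : algebraMap R K b ≠ 0 := by
      simpa using (IsFractionRing.injective R K).ne hb0
    refine ⟨b * r, mul_ne_zero hb0 hr, ?_⟩
    have : (b * r) • ((algebraMap R K a / algebraMap R K b) • x) = a • (r • x) := by
      rw [← algebraMap_smul K (b * r), ← algebraMap_smul K a, ← algebraMap_smul K r, smul_smul,
        smul_smul, map_mul]
      congr 1
      field_simp
    rw [this]
    exact M.smul_mem _ hrx

/-- If a nonzero `R`-multiple of every element of `M` lies in `M'`, the `K`-span of `M'` contains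
`M`. -/
theorem span_le_of_forall_exists_smul_mem {R K V : Type u} [CommRing R] [IsDomain R] [Field K]
    [Algebra R K] [IsFractionRing R K] [AddCommGroup V] [Module K V] [Module R V]
    [IsScalarTower R K V] (M M' : Submodule R V)
    (h : ∀ x ∈ M, ∃ r : R, r ≠ 0 ∧ r • x ∈ M') :
    Submodule.span K (M : Set V) ≤ Submodule.span K (M' : Set V) := by
  rw [Submodule.span_le]
  intro x hx
  obtain ⟨r, hr, hrx⟩ := h x hx
  have hrK : algebraMap R K r ≠ 0 := by
    simpa using (IsFractionRing.injective R K).ne hr
  have : x = (algebraMap R K r)⁻¹ • (r • x) := by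
    rw [← algebraMap_smul K r, smul_smul, inv_mul_cancel₀ hrK, one_smul]
  rw [SetLike.mem_coe, this]
  exact Submodule.smul_mem _ _ (Submodule.subset_span hrx)


/-- `R / (r)` is an Artinian ring for `r ≠ 0` in a one-dimensional Noetherian domain. -/
theorem isArtinianRing_quotient {R : Type u} [CommRing R] [IsDomain R] [IsNoetherianRing R]
    (hdim : ringKrullDim R = 1) (r : R) (hr : r ≠ 0) :
    IsArtinianRing (R ⧸ Ideal.span ({r} : Set R)) := by
  have ha' : r ∈ nonZeroDivisors R := mem_nonZeroDivisors_of_ne_zero hr
  have h1 := ringKrullDim_quotient_succ_le_of_nonZeroDivisor ha'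
  rw [hdim] at h1
  have h2 : ringKrullDim (R ⧸ Ideal.span ({r} : Set R)) ≤ 0 := by
    generalize ringKrullDim (R ⧸ Ideal.span ({r} : Set R)) = x at h1
    induction x with
    | bot => exact bot_le
    | coe n =>
      have h1' : n + 1 ≤ 1 := by exact_mod_cast h1
      induction n with
      | top => simp at h1'
      | coe k =>
        have : k + 1 ≤ 1 := by exact_mod_cast h1'
        have hk : k = 0 := by omega
        subst hk
        simp
  have h3 : Ring.KrullDimLE 0 (R ⧸ Ideal.span ({r} : Set R)) := by
    rw [Ring.krullDimLE_iff]; exact_mod_cast h2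
  exact isArtinianRing_iff_krullDimLE_zero.mpr h3

/-- A finitely generated module killed by a nonzero element has finite length. -/
theorem isFiniteLength_of_smul_eq_zero {R : Type u} [CommRing R] [IsDomain R] [IsNoetherianRing R]
    (hdim : ringKrullDim R = 1) (Q : Type u) [AddCommGroup Q] [Module R Q] [Module.Finite R Q]
    (r : R) (hr : r ≠ 0) (hrQ : ∀ q : Q, r • q = 0) : IsFiniteLength R Q := by
  rw [isFiniteLength_iff_isNoetherian_isArtinian]
  refine ⟨inferInstance, ?_⟩
  have htors : Module.IsTorsionBySet R Q (Ideal.span ({r} : Set R) : Set R) := by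
    rw [← Ideal.submodule_span_eq, Module.isTorsionBySet_span_singleton_iff]
    exact hrQ
  let _ := htors.module
  have : IsScalarTower R (R ⧸ Ideal.span ({r} : Set R)) Q := htors.isScalarTower
  have : Module.Finite (R ⧸ Ideal.span ({r} : Set R)) Q :=
    Module.Finite.of_restrictScalars_finite R _ _
  have : IsArtinianRing (R ⧸ Ideal.span ({r} : Set R)) := isArtinianRing_quotient hdim r hr
  have : IsArtinian (R ⧸ Ideal.span ({r} : Set R)) Q := inferInstance
  exact isArtinian_of_surjective_algebraMap (R := R ⧸ Ideal.span ({r} : Set R))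
    Ideal.Quotient.mk_surjective

/-- A finitely generated submodule has a common nonzero multiplier into a spanning submodule. -/
theorem exists_smul_le {R K V : Type u} [CommRing R] [IsDomain R] [Field K] [Algebra R K]
    [IsFractionRing R K] [AddCommGroup V] [Module K V] [Module R V] [IsScalarTower R K V]
    (L L' : Submodule R V) (hL : Submodule.span K (L : Set V) = ⊤) (hL' : L'.FG) :
    ∃ r : R, r ≠ 0 ∧ ∀ x ∈ L', r • x ∈ L := by
  classical
  obtain ⟨T, rfl⟩ := hL'
  choose c hc0 hc using exists_smul_mem (K := K) L hL
  refine ⟨∏ t ∈ T, c t, Finset.prod_ne_zero_iff.mpr fun t _ => hc0 t, ?_⟩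
  have : Submodule.span R (T : Set V) ≤
      Submodule.comap (LinearMap.lsmul R V (∏ t ∈ T, c t)) L := by
    rw [Submodule.span_le]
    intro t ht
    simp only [Submodule.comap_coe, Set.mem_preimage, LinearMap.lsmul_apply, SetLike.mem_coe]
    rw [← Finset.mul_prod_erase T c ht, mul_comm, mul_smul]
    exact L.smul_mem _ (hc t)
  intro x hx
  exact this hx

/-- Quotients of nested lattices have finite length. -/
theorem length_quotient_ne_top {R K V : Type u} [CommRing R] [IsDomain R] [IsNoetherianRing R]
    (hdim : ringKrullDim R = 1) [Field K] [Algebra R K]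
    [IsFractionRing R K] [AddCommGroup V] [Module K V] [Module R V] [IsScalarTower R K V]
    (L L' : Submodule R V) (hL : Submodule.span K (L : Set V) = ⊤) (hL' : L'.FG) :
    Module.length R (L' ⧸ Submodule.comap L'.subtype L) ≠ ⊤ := by
  rw [Module.length_ne_top_iff]
  obtain ⟨r, hr, hrL⟩ := exists_smul_le (K := K) L L' hL hL'
  have : Module.Finite R L' := Module.Finite.iff_fg.mpr hL'
  refine isFiniteLength_of_smul_eq_zero hdim _ r hr ?_
  intro q
  obtain ⟨x, rfl⟩ := Submodule.Quotient.mk_surjective _ q
  rw [← Submodule.Quotient.mk_smul, Submodule.Quotient.mk_eq_zero]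
  exact hrL x x.2

/-- If `M / M'` has finite length, every element of `M` has a nonzero multiple in `M'`. -/
theorem exists_smul_mem_of_length_ne_top {R V : Type u} [CommRing R] [IsDomain R]
    (hdim : ringKrullDim R = 1) [AddCommGroup V] [Module R V]
    (M M' : Submodule R V)
    (h : Module.length R (M ⧸ Submodule.comap M.subtype M') ≠ ⊤) (x : V) (hx : x ∈ M) :
    ∃ r : R, r ≠ 0 ∧ r • x ∈ M' := by
  by_contra hcon
  push Not at hcon
  let g : R →ₗ[R] (M ⧸ Submodule.comap M.subtype M') :=
    LinearMap.toSpanSingleton R _ (Submodule.Quotient.mk ⟨x, hx⟩)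
  have hg : Function.Injective g := by
    rw [injective_iff_map_eq_zero]
    intro r hr
    by_contra hr0
    apply hcon r hr0
    simp only [g, LinearMap.toSpanSingleton_apply] at hr
    rw [← Submodule.Quotient.mk_smul, Submodule.Quotient.mk_eq_zero] at hr
    exact hr
  have h1 : Module.length R R ≠ ⊤ :=
    ne_top_of_le_ne_top h (Module.length_le_of_injective g hg)
  rw [Module.length_ne_top_iff, ← isArtinianRing_iff_isFiniteLength] at h1
  have h2 : Ring.KrullDimLE 0 R := inferInstance
  rw [Ring.krullDimLE_iff, hdim] at h2
  exact absurd h2 (by decide)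

/-- Let R be a one-dimensional Noetherian local domain with fraction field K and V a finite-dimensional
K-vector space; a lattice is a finitely generated R-submodule of V spanning V over K. (1) For a
lattice M and an R-submodule M' ⊇ M: M' is a lattice iff M'/M has finite length over R iff M' is
finitely generated. (2) For a lattice M and M' ⊆ M: M' is a lattice iff M/M' has finite length. (3)
The intersection of two lattices is a lattice. (The published statement also asserts that the sum M
+ M' of two lattices is a lattice and two identities between lengths of quotients of nested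
lattices; this row states (1), (2) and the intersection half of (3).) -/
theorem result (R K V : Type u) [CommRing R] [IsDomain R]
    [IsNoetherianRing R] [IsLocalRing R] (hdim : ringKrullDim R = 1) [Field K] [Algebra R K]
    [IsFractionRing R K] [AddCommGroup V] [Module K V] [Module R V] [IsScalarTower R K V]
    [FiniteDimensional K V] (M : Submodule R V) [Submodule.IsLattice K M] :
    (∀ M' : Submodule R V, M ≤ M' →
        (Submodule.IsLattice K M' ↔ Module.length R (M' ⧸ Submodule.comap M'.subtype M) ≠ ⊤) ∧
          (Submodule.IsLattice K M' ↔ M'.FG)) ∧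
      (∀ M' : Submodule R V, M' ≤ M →
        (Submodule.IsLattice K M' ↔ Module.length R (M ⧸ Submodule.comap M.subtype M') ≠ ⊤)) ∧
      ∀ M' : Submodule R V, Submodule.IsLattice K M' → Submodule.IsLattice K (M ⊓ M') := by
  have hMfg : M.FG := Submodule.IsLattice.fg
  have hMspan : Submodule.span K (M : Set V) = ⊤ := Submodule.IsLattice.span_eq_top
  have hMnoeth : IsNoetherian R M := isNoetherian_of_fg_of_noetherian M hMfg
  refine ⟨fun M' hle => ⟨⟨fun hM' => ?_, fun hlen => ?_⟩, ⟨fun hM' => hM'.fg, fun hfg =>
    Submodule.IsLattice.of_le_of_isLattice_of_fg K hle hfg⟩⟩, fun M' hle => ⟨fun hM' => ?_,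
    fun hlen => ?_⟩, fun M' hM' => ?_⟩
  · exact length_quotient_ne_top hdim M M' hMspan hM'.fg
  · -- finite length quotient and `M` finitely generated imply `M'` finitely generated
    refine Submodule.IsLattice.of_le_of_isLattice_of_fg K hle ?_
    rw [Module.length_ne_top_iff, isFiniteLength_iff_isNoetherian_isArtinian] at hlen
    have h1 : Module.Finite R (M' ⧸ Submodule.comap M'.subtype M) := by
      have := hlen.1
      infer_instance
    have h2 : Module.Finite R (Submodule.comap M'.subtype M) :=
      Module.Finite.equiv (Submodule.comapSubtypeEquivOfLe hle).symm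
    have h3 : Module.Finite R M' := Module.Finite.of_submodule_quotient
      (Submodule.comap M'.subtype M)
    exact Module.Finite.iff_fg.mp h3
  · exact length_quotient_ne_top hdim M' M hM'.span_eq_top hMfg
  · refine ⟨?_, ?_⟩
    · have : IsNoetherian R M' := isNoetherian_of_le hle
      exact Module.Finite.iff_fg.mp inferInstance
    · rw [eq_top_iff, ← hMspan]
      exact span_le_of_forall_exists_smul_mem M M'
        (exists_smul_mem_of_length_ne_top hdim M M' hlen)
  · refine ⟨?_, ?_⟩
    · have : IsNoetherian R ↥(M ⊓ M') := isNoetherian_of_le inf_le_left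
      exact Module.Finite.iff_fg.mp inferInstance
    · rw [eq_top_iff, ← hMspan]
      refine span_le_of_forall_exists_smul_mem M (M ⊓ M') ?_
      intro x hx
      obtain ⟨r, hr, hrx⟩ := exists_smul_mem (K := K) M' hM'.span_eq_top x
      exact ⟨r, hr, M.smul_mem _ hx, hrx⟩

end Groth.Agent.S9164
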