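import Groth.Statements.S9166
import Mathlib

set_option autoImplicit false
universe u
open CAlg
open scoped TensorProduct

namespace Groth.Agent.S9166

section aux

/-- an f.g. ideal `K ≤ I T` of an `R`-algebra `T` with `T ⧸ K` flat over `R` and `I T` in the
Jacobson radical is zero -/
lemma ideal_eq_bot_of_flat_quotient {R T : Type u} [CommRing R] [CommRing T] [Algebra R T]
    (I : Ideal R) (K : Ideal T) (hKfg : K.FG)
    (hjac : I.map (algebraMap R T) ≤ (⊥ : Ideal T).jacobson)
    (hflat : Module.Flat R (T ⧸ K))
    (hKI : K ≤ I.map (algebraMap R T)) : K = ⊥ := by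
  set IS : Ideal T := I.map (algebraMap R T) with hIS
  set f : T →ₐ[R] T ⧸ K := Ideal.Quotient.mkₐ R K with hf
  have hfsurj : Function.Surjective f := Ideal.Quotient.mk_surjective
  set Ksub : Submodule R T := K.restrictScalars R with hKsub
  have hexact : Function.Exact Ksub.subtype f.toLinearMap := by
    intro y
    constructor
    · intro hy
      exact ⟨⟨y, Ideal.Quotient.eq_zero_iff_mem.mp hy⟩, rfl⟩
    · rintro ⟨k, rfl⟩
      exact Ideal.Quotient.eq_zero_iff_mem.mpr k.2
  have hinj := LinearMap.lTensor_injective_of_exact_of_flat f.toLinearMap hfsurj Ksub.subtype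
    Subtype.val_injective hexact (R ⧸ I)
  have hKle : K ≤ IS • K := by
    intro x hx
    have hxIS : x ∈ IS := hKI hx
    have h1 : ((1 : R ⧸ I) ⊗ₜ[R] x : TensorProduct R (R ⧸ I) T) = 0 := by
      apply (TensorProduct.quotTensorEquivQuotSMul T I).injective
      rw [map_zero]
      have := TensorProduct.quotTensorEquivQuotSMul_mk_tmul I (1 : R) x
      rw [map_one] at this
      rw [this, one_smul, Submodule.Quotient.mk_eq_zero]
      have h2 := Ideal.smul_top_eq_map (R := R) (S := T) I
      have h3 : x ∈ (I.map (algebraMap R T)).restrictScalars R := hxIS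
      rw [← h2] at h3
      exact h3
    have h4 : ((1 : R ⧸ I) ⊗ₜ[R] (⟨x, hx⟩ : Ksub) : TensorProduct R (R ⧸ I) Ksub) = 0 := by
      apply hinj
      rw [map_zero, LinearMap.lTensor_tmul]
      exact h1
    have h5 : (⟨x, hx⟩ : Ksub) ∈ (I • ⊤ : Submodule R Ksub) := by
      have := TensorProduct.quotTensorEquivQuotSMul_mk_tmul I (1 : R) (⟨x, hx⟩ : Ksub)
      rw [map_one, h4, map_zero, one_smul] at this
      exact (Submodule.Quotient.mk_eq_zero _).mp this.symm
    have h6 : ∀ k : Ksub, k ∈ (I • ⊤ : Submodule R Ksub) → (k : T) ∈ IS • K := by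
      intro k hk
      refine Submodule.smul_induction_on hk ?_ ?_
      · intro i hi k _
        have : ((i • k : Ksub) : T) = algebraMap R T i • (k : T) := by
          rw [Submodule.coe_smul, Algebra.smul_def, smul_eq_mul]
        rw [this]
        exact Submodule.smul_mem_smul (Ideal.mem_map_of_mem _ hi) k.2
      · intro a b ha hb
        rw [Submodule.coe_add]
        exact Submodule.add_mem _ ha hb
    exact h6 _ h5
  exact Submodule.eq_bot_of_le_smul_of_le_jacobson_bot IS K hKfg hKle hjac

end aux

section loc

variable {S S' : Type u} [CommRing S] [CommRing S']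

/-- the comparison map `S' → S_q ⧸ K S_q` is a localization of the `S`-module `S'`
(module structure through the surjection `f`). -/
lemma quotient_isLocalizedModule (f : S →+* S') (hf : Function.Surjective f)
    (q : Ideal S) [q.IsPrime] :
    letI : Module S S' := f.toModule
    ∃ g : S' →ₗ[S] (Localization.AtPrime q ⧸ (RingHom.ker f).map (algebraMap S (Localization.AtPrime q))),
      IsLocalizedModule q.primeCompl g := by
  letI : Module S S' := f.toModule
  set T := Localization.AtPrime q with hT
  set K : Ideal S := RingHom.ker f with hK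
  set KT : Ideal T := K.map (algebraMap S T) with hKT
  let e := RingHom.quotientKerEquivOfSurjective hf
  let G0 : S ⧸ K →+* T ⧸ KT := Ideal.quotientMap KT (algebraMap S T) Ideal.le_comap_map
  let G : S' →+* T ⧸ KT := G0.comp e.symm.toRingHom
  have hG : ∀ s : S, G (f s) = Ideal.Quotient.mk KT (algebraMap S T s) := by
    intro s
    have h1 : e.symm (f s) = Ideal.Quotient.mk K s := by
      apply e.injective
      rw [RingEquiv.apply_symm_apply]
      rfl
    change G0 (e.symm (f s)) = _
    rw [h1]
    rfl
  have hsmulS' : ∀ (s : S) (x : S'), s • x = f s * x := fun s x => rfl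
  have hsmulT : ∀ (s : S) (y : T ⧸ KT), s • y = Ideal.Quotient.mk KT (algebraMap S T s) * y := by
    intro s y
    obtain ⟨t, rfl⟩ := Ideal.Quotient.mk_surjective y
    rw [← map_mul, ← Algebra.smul_def]
    rfl
  let g : S' →ₗ[S] T ⧸ KT :=
    { toFun := G
      map_add' := map_add G
      map_smul' := fun s x => by
        rw [hsmulS', map_mul, hG, RingHom.id_apply, hsmulT] }
  refine ⟨g, IsLocalizedModule.mk ?_ ?_ ?_⟩
  · intro x
    rw [Module.End.isUnit_iff]
    have hu : IsUnit (Ideal.Quotient.mk KT (algebraMap S T x)) :=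
      (IsLocalization.map_units T x).map _
    constructor
    · intro a b hab
      have hab' : (x : S) • a = (x : S) • b := hab
      rw [hsmulT, hsmulT] at hab'
      exact hu.mul_left_cancel hab'
    · intro b
      obtain ⟨c, hc⟩ := hu.exists_left_inv
      refine ⟨c * b, ?_⟩
      change (x : S) • (c * b) = b
      rw [hsmulT, ← mul_assoc, mul_comm _ c, hc, one_mul]
  · intro y
    obtain ⟨t, rfl⟩ := Ideal.Quotient.mk_surjective y
    obtain ⟨⟨a, x⟩, hax⟩ := IsLocalization.surj q.primeCompl t
    refine ⟨⟨f a, x⟩, ?_⟩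
    change (x : S) • (Ideal.Quotient.mk KT t) = G (f a)
    rw [hG, hsmulT, ← map_mul, mul_comm]
    exact congrArg _ hax
  · intro x₁ x₂ h
    obtain ⟨s₁, rfl⟩ := hf x₁
    obtain ⟨s₂, rfl⟩ := hf x₂
    have h' : G (f s₁) = G (f s₂) := h
    rw [hG, hG, Ideal.Quotient.eq, ← map_sub] at h'
    rw [hKT, IsLocalization.mem_map_algebraMap_iff q.primeCompl] at h'
    obtain ⟨⟨a, m⟩, ham⟩ := h'
    rw [← map_mul, IsLocalization.eq_iff_exists q.primeCompl] at ham
    obtain ⟨c, hc⟩ := ham
    refine ⟨c * m, ?_⟩
    change ((c * m : q.primeCompl) : S) • f s₁ = ((c * m : q.primeCompl) : S) • f s₂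
    rw [hsmulS', hsmulS', ← map_mul, ← map_mul, ← sub_eq_zero, ← map_sub]
    have : ((c * m : q.primeCompl) : S) * s₁ - ((c * m : q.primeCompl) : S) * s₂ =
        (c : S) * (a : S) := by
      rw [Submonoid.coe_mul, ← hc]
      ring
    rw [this, map_mul]
    have ha : f (a : S) = 0 := a.2
    rw [ha, mul_zero]

end loc

/-- Let I be an ideal of a ring R, S → S' a surjective homomorphism of R-algebras with S of finite type
and S' of finite presentation over R, and q a prime of S containing IS. Assume S'_q is flat over R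
and that S_q/IS_q → S'_q/IS'_q is an isomorphism, which for a surjection says: every element of the
kernel of S → S' maps into I·S_q. Then for some g ∉ q the localized map S_g → S'_g is bijective. -/
theorem result (R S S' : Type u) [CommRing R] [CommRing S]
    [CommRing S'] [Algebra R S] [Algebra R S'] [Algebra.FiniteType R S] [Algebra.FinitePresentation R S']
    (I : Ideal R) (f : S →ₐ[R] S') (hf : Function.Surjective f) (q : Ideal S) [q.IsPrime]
    (hq : I.map (algebraMap R S) ≤ q)
    (hker : ∀ j : S, f j = 0 →
      algebraMap S (Localization.AtPrime q) j ∈ I.map (algebraMap R (Localization.AtPrime q)))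
    (hflat : letI : Module S S' := f.toRingHom.toModule
      Module.Flat R (LocalizedModule q.primeCompl S')) :
    ∃ g : S, g ∉ q ∧ Function.Bijective (Localization.awayMap f.toRingHom g) := by
  classical
  letI : Module S S' := f.toRingHom.toModule
  set T := Localization.AtPrime q with hT
  set K : Ideal S := RingHom.ker f.toRingHom with hK
  have hKfg : K.FG := by
    obtain ⟨m, g, hg⟩ := Algebra.FiniteType.iff_quotient_mvPolynomial''.mp
      (inferInstance : Algebra.FiniteType R S)
    have h1 := Algebra.FinitePresentation.ker_fg_of_mvPolynomial (f.comp g) (hf.comp hg)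
    have h2 := h1.map g.toRingHom
    convert h2 using 1
    simp_rw [hK, RingHom.ker_eq_comap_bot, AlgHom.toRingHom_eq_coe, AlgHom.comp_toRingHom]
    rw [← Ideal.comap_comap, Ideal.map_comap_of_surjective (g : MvPolynomial (Fin m) R →+* S) hg]
  set KT : Ideal T := K.map (algebraMap S T) with hKT
  have hKTfg : KT.FG := hKfg.map _
  have hjac : I.map (algebraMap R T) ≤ (⊥ : Ideal T).jacobson := by
    rw [IsLocalRing.jacobson_eq_maximalIdeal ⊥ bot_ne_top, IsScalarTower.algebraMap_eq R S T,
      ← Ideal.map_map]
    exact (Ideal.map_mono hq).trans (le_of_eq Localization.AtPrime.map_eq_maximalIdeal)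
  have hKI : KT ≤ I.map (algebraMap R T) := Ideal.map_le_iff_le_comap.mpr (fun j hj => hker j hj)
  obtain ⟨g, hg⟩ := quotient_isLocalizedModule f.toRingHom hf q
  have hflat' : Module.Flat R (T ⧸ KT) := by
    have e : LocalizedModule q.primeCompl S' ≃ₗ[S] (T ⧸ KT) := IsLocalizedModule.iso q.primeCompl g
    have : IsScalarTower R S S' := by
      refine ⟨fun r s x => ?_⟩
      change f (r • s) * x = r • (f s * x)
      rw [map_smul, smul_mul_assoc]
    have eR : LocalizedModule q.primeCompl S' ≃ₗ[R] (T ⧸ KT) := e.restrictScalars R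
    exact Module.Flat.of_linearEquiv eR.symm
  have hKTbot : KT = ⊥ := ideal_eq_bot_of_flat_quotient I KT hKTfg hjac hflat' hKI
  -- every element of K is killed by some element outside q
  have hkill : ∀ k ∈ K, ∃ c : S, c ∉ q ∧ c * k = 0 := by
    intro k hk
    have h0 : algebraMap S T k = 0 := by
      have : algebraMap S T k ∈ KT := Ideal.mem_map_of_mem _ hk
      rw [hKTbot] at this
      exact this
    obtain ⟨c, hc⟩ := (IsLocalization.map_eq_zero_iff q.primeCompl T k).mp h0
    exact ⟨c, c.2, hc⟩
  obtain ⟨G, hG⟩ := hKfg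
  choose! c hcq hck using hkill
  have hGK : ∀ k ∈ G, k ∈ K := fun k hk => by
    rw [← hG]; exact Ideal.subset_span hk
  refine ⟨∏ k ∈ G, c k, ?_, ?_⟩
  · intro hmem
    obtain ⟨k, hk, hck'⟩ := (Ideal.IsPrime.prod_mem_iff (hp := inferInstance)).mp hmem
    exact hcq k (hGK k hk) hck'
  · have hall : ∀ x ∈ K, (∏ k ∈ G, c k) * x = 0 := by
      intro x hx
      rw [← hG] at hx
      induction hx using Submodule.span_induction with
      | mem x hx =>
        have h1 : c x * x = 0 := hck x (hGK x hx)
        have h2 : c x ∣ ∏ k ∈ G, c k := Finset.dvd_prod_of_mem c hx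
        obtain ⟨d, hd⟩ := h2
        rw [hd, mul_comm (c x) d, mul_assoc, h1, mul_zero]
      | zero => rw [mul_zero]
      | add a b _ _ ha hb => rw [mul_add, ha, hb, add_zero]
      | smul r a _ ha => rw [smul_eq_mul, mul_left_comm, ha, mul_zero]
    constructor
    · rw [Localization.awayMap_injective_iff]
      intro a ha
      exact ⟨1, by rw [pow_one]; exact hall a ha⟩
    · rw [Localization.awayMap_surjective_iff]
      intro a
      obtain ⟨b, hb⟩ := hf a
      exact ⟨b, 0, by rw [pow_zero, one_mul]; exact hb⟩

end Groth.Agent.S9166
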