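import Groth.Statements.S9167
import Mathlib

set_option autoImplicit false
universe u
open CAlg

namespace Groth.Agent.S9167


section aux

theorem lemmaA (A : Type u) [CommRing A] (T : Submonoid A) (N' : Type u) [AddCommGroup N']
    [Module (Localization T) N'] [Module.FinitePresentation (Localization T) N'] :
    ∃ (n : ℕ) (W : Submodule A (Fin n → A)), W.FG ∧
      Nonempty (LocalizedModule T ((Fin n → A) ⧸ W) ≃ₗ[Localization T] N') := by
  classical
  obtain ⟨n, K, e, hK⟩ := Module.FinitePresentation.exists_fin (Localization T) N'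
  let ℓ : (Fin n → A) →ₗ[A] (Fin n → Localization T) :=
    LinearMap.pi fun i => (Algebra.linearMap A (Localization T)) ∘ₗ LinearMap.proj i
  haveI hℓ : IsLocalizedModule T ℓ :=
    IsLocalizedModule.pi T (fun _ : Fin n => Algebra.linearMap A (Localization T))
  obtain ⟨s, hs⟩ := hK
  have h1 : ∀ v : Fin n → Localization T, ∃ (w : Fin n → A) (t : T), (t : A) • v = ℓ w := by
    intro v
    obtain ⟨⟨w, t⟩, h⟩ := IsLocalizedModule.surj T ℓ v
    exact ⟨w, t, h⟩
  choose w t hwt using h1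
  let W : Submodule A (Fin n → A) := Submodule.span A (w '' (s : Set (Fin n → Localization T)))
  have hWfg : W.FG := Submodule.fg_span ((Finset.finite_toSet s).image w)
  have hWloc : W.localized' (Localization T) T ℓ = K := by
    rw [Submodule.localized'_span, ← hs]
    apply le_antisymm
    · rw [Submodule.span_le]
      rintro _ ⟨_, ⟨v, hv, rfl⟩, rfl⟩
      rw [← hwt v]
      exact Submodule.smul_of_tower_mem _ _ (Submodule.subset_span hv)
    · rw [Submodule.span_le]
      intro v hv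
      have hu : IsUnit (algebraMap A (Localization T) (t v)) := IsLocalization.map_units _ (t v)
      have h2 : v = ((hu.unit⁻¹ : (Localization T)ˣ) : Localization T) • ℓ (w v) := by
        rw [← hwt v, ← algebraMap_smul (Localization T) ((t v : T) : A) v, smul_smul,
          hu.val_inv_mul, one_smul]
      rw [h2]
      exact Submodule.smul_mem _ _ (Submodule.subset_span ⟨w v, ⟨v, hv, rfl⟩, rfl⟩)
  haveI : IsLocalizedModule T (W.toLocalizedQuotient' (Localization T) T ℓ) := inferInstance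
  let e1 := IsLocalizedModule.iso T (W.toLocalizedQuotient' (Localization T) T ℓ)
  refine ⟨n, W, hWfg, ⟨?_⟩⟩
  exact (e1.extendScalarsOfIsLocalization T (Localization T)) ≪≫ₗ
    (Submodule.quotEquivOfEq _ _ hWloc) ≪≫ₗ e.symm

theorem lemmaB (R : Type u) [CommRing R] (I : Ideal R) (n : ℕ)
    (W : Submodule (R ⧸ I) (Fin n → R ⧸ I)) (hW : W.FG) :
    ∃ (M : Type u) (_ : AddCommGroup M) (_ : Module R M), Module.FinitePresentation R M ∧
      Nonempty ((M ⧸ (I • ⊤ : Submodule R M)) ≃ₗ[R ⧸ I] ((Fin n → R ⧸ I) ⧸ W)) := by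
  classical
  obtain ⟨s, hs⟩ := hW
  have hsurj : Function.Surjective (algebraMap R (R ⧸ I)) := Ideal.Quotient.mk_surjective
  let q : (Fin n → R) →ₗ[R] (Fin n → R ⧸ I) :=
    LinearMap.pi fun i => (Algebra.linearMap R (R ⧸ I)) ∘ₗ LinearMap.proj i
  have hq_surj : Function.Surjective q := by
    intro v
    choose z hz using fun i => Ideal.Quotient.mk_surjective (v i)
    exact ⟨z, funext fun i => hz i⟩
  choose lift hlift using hq_surj
  let Wt : Submodule R (Fin n → R) := Submodule.span R (lift '' (s : Set (Fin n → R ⧸ I)))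
  have hWt_fg : Wt.FG := Submodule.fg_span ((Finset.finite_toSet s).image lift)
  haveI hfp : Module.FinitePresentation R ((Fin n → R) ⧸ Wt) :=
    Module.finitePresentation_of_free_of_surjective Wt.mkQ Wt.mkQ_surjective
      (by rw [Submodule.ker_mkQ]; exact hWt_fg)
  refine ⟨(Fin n → R) ⧸ Wt, inferInstance, inferInstance, hfp, ⟨?_⟩⟩
  have hmapW : Submodule.map q Wt = W.restrictScalars R := by
    rw [Submodule.map_span, ← hs, Submodule.restrictScalars_span R (R ⧸ I) hsurj]
    congr 1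
    ext v
    constructor
    · rintro ⟨_, ⟨v', hv', rfl⟩, rfl⟩
      rw [hlift]; exact hv'
    · intro hv
      exact ⟨lift v, ⟨v, hv, rfl⟩, hlift v⟩
  let g₀ : (Fin n → R) →ₗ[R] ((Fin n → R ⧸ I) ⧸ W) := (W.mkQ.restrictScalars R) ∘ₗ q
  have hg₀ : ∀ z, g₀ z = W.mkQ (q z) := fun z => rfl
  have hg₀W : Wt ≤ LinearMap.ker g₀ := by
    intro z hz
    rw [LinearMap.mem_ker, hg₀, Submodule.mkQ_apply, Submodule.Quotient.mk_eq_zero]
    have h1 : q z ∈ Submodule.map q Wt := Submodule.mem_map_of_mem hz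
    rw [hmapW] at h1
    exact h1
  let g₁ : ((Fin n → R) ⧸ Wt) →ₗ[R] ((Fin n → R ⧸ I) ⧸ W) := Wt.liftQ g₀ hg₀W
  have hg₁I : (I • ⊤ : Submodule R ((Fin n → R) ⧸ Wt)) ≤ LinearMap.ker g₁ := by
    rw [Submodule.smul_le]
    intro r hr x _
    rw [LinearMap.mem_ker, map_smul, ← algebraMap_smul (R ⧸ I) r (g₁ x),
      Ideal.Quotient.algebraMap_eq, Ideal.Quotient.eq_zero_iff_mem.mpr hr, zero_smul]
  let g₂ : (((Fin n → R) ⧸ Wt) ⧸ (I • ⊤ : Submodule R ((Fin n → R) ⧸ Wt))) →ₗ[R]
      ((Fin n → R ⧸ I) ⧸ W) :=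
    Submodule.liftQ _ g₁ hg₁I
  have hg₂ : ∀ z : Fin n → R,
      g₂ (Submodule.Quotient.mk (Submodule.Quotient.mk z)) = W.mkQ (q z) := fun z => rfl
  have hg₂_surj : Function.Surjective g₂ := by
    intro y
    obtain ⟨v, rfl⟩ := W.mkQ_surjective y
    exact ⟨Submodule.Quotient.mk (Submodule.Quotient.mk (lift v)), by rw [hg₂, hlift]⟩
  have hkerq : ∀ u : Fin n → R, q u = 0 →
      Wt.mkQ u ∈ (I • ⊤ : Submodule R ((Fin n → R) ⧸ Wt)) := by
    intro u hu
    have hui : ∀ i, u i ∈ I := fun i => Ideal.Quotient.eq_zero_iff_mem.mp (by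
      have h0 := congr_fun hu i
      exact h0)
    have hsum : Wt.mkQ u = Wt.mkQ (∑ i, (u i) • fun j => if i = j then (1 : R) else 0) :=
      congrArg _ (pi_eq_sum_univ u)
    rw [hsum, map_sum]
    refine Submodule.sum_mem _ (fun i _ => ?_)
    rw [map_smul]
    exact Submodule.smul_mem_smul (hui i) Submodule.mem_top
  have hg₂_inj : Function.Injective g₂ := by
    rw [← LinearMap.ker_eq_bot, LinearMap.ker_eq_bot']
    intro y hy
    obtain ⟨y1, rfl⟩ := Submodule.Quotient.mk_surjective _ y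
    obtain ⟨z, rfl⟩ := Submodule.Quotient.mk_surjective _ y1
    rw [hg₂, Submodule.mkQ_apply, Submodule.Quotient.mk_eq_zero] at hy
    have hy' : q z ∈ Submodule.map q Wt := by rw [hmapW]; exact hy
    obtain ⟨y0, hy0, hqy0⟩ := hy'
    have h3 : q (z - y0) = 0 := by rw [map_sub, hqy0, sub_self]
    have h4 := hkerq (z - y0) h3
    have h5 : Wt.mkQ (z - y0) = Submodule.Quotient.mk z := by
      rw [map_sub, Submodule.mkQ_apply, Submodule.mkQ_apply,
        (Submodule.Quotient.mk_eq_zero Wt).mpr hy0, sub_zero]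
    rw [h5] at h4
    exact (Submodule.Quotient.mk_eq_zero _).mpr h4
  haveI : IsScalarTower R (R ⧸ I)
      (((Fin n → R) ⧸ Wt) ⧸ (I • ⊤ : Submodule R ((Fin n → R) ⧸ Wt))) :=
    (Module.isTorsionBySet_quotient_ideal_smul ((Fin n → R) ⧸ Wt) I).isScalarTower
  exact (LinearEquiv.ofBijective g₂ ⟨hg₂_inj, hg₂_surj⟩).extendScalarsOfSurjective hsurj

end aux


/-- With R' = S⁻¹(R/I), every finitely presented R'-module is of the form S⁻¹(M/IM) for some finitely
presented R-module M. -/
theorem result (R : Type u) [CommRing R] (I : Ideal R)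
    (S : Submonoid R) (M' : Type u) [AddCommGroup M']
    [Module (Localization (S.map (Ideal.Quotient.mk I))) M']
    [Module.FinitePresentation (Localization (S.map (Ideal.Quotient.mk I))) M'] :
    ∃ (M : Type u) (_ : AddCommGroup M) (_ : Module R M), Module.FinitePresentation R M ∧
      Nonempty (LocalizedModule (S.map (Ideal.Quotient.mk I)) (M ⧸ (I • ⊤ : Submodule R M))
        ≃ₗ[Localization (S.map (Ideal.Quotient.mk I))] M') := by
  obtain ⟨n, W, hW, ⟨eA⟩⟩ := lemmaA (R ⧸ I) (S.map (Ideal.Quotient.mk I)) M'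
  obtain ⟨M, _, _, hfp, ⟨eB⟩⟩ := lemmaB R I n W hW
  refine ⟨M, inferInstance, inferInstance, hfp, ⟨?_⟩⟩
  haveI : IsLocalizedModule (S.map (Ideal.Quotient.mk I))
      ((LocalizedModule.mkLinearMap (S.map (Ideal.Quotient.mk I)) ((Fin n → R ⧸ I) ⧸ W)) ∘ₗ
        eB.toLinearMap) := inferInstance
  exact ((IsLocalizedModule.iso (S.map (Ideal.Quotient.mk I))
      ((LocalizedModule.mkLinearMap (S.map (Ideal.Quotient.mk I)) ((Fin n → R ⧸ I) ⧸ W)) ∘ₗ
        eB.toLinearMap)).extendScalarsOfIsLocalization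
        (S.map (Ideal.Quotient.mk I)) (Localization (S.map (Ideal.Quotient.mk I)))) ≪≫ₗ eA


end Groth.Agent.S9167
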