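import Groth.Statements.S9169
import Groth.Agent.LibSyntKey29
import Groth.Agent.S9147
-- import your own Groth.Agent.* helpers here

set_option autoImplicit false
universe u
open Synt

namespace Groth.Agent.S9169

open TensorProduct Groth.Agent.LibSyntKey29 Groth.Agent.LibSyntPres29
  Groth.Agent.Lib.helper17.CIField

section

variable (R S : Type u) [CommRing R] [CommRing S] [Algebra R S]
    (p : Ideal R) [p.IsPrime] (q : Ideal S) [q.IsPrime] [q.LiesOver p]
    (Q : Ideal (p.Fiber S)) [Q.IsPrime]
    (hQ : Q.comap (Algebra.TensorProduct.includeRight.toRingHom) = q)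

include hQ in
lemma one_tmul_notMem {g : S} (hg : g ∉ q) : ((1 : p.ResidueField) ⊗ₜ[R] g) ∉ Q := by
  intro h
  apply hg
  rw [← hQ, Ideal.mem_comap]
  exact h

lemma relGCI_imp_syntomic
    (h : ∃ g : S, g ∉ q ∧ ∃ (n c : ℕ) (F : Fin c → MvPolynomial (Fin n) R), Synt.IsRelGCI R n c F ∧
          Nonempty (Localization.Away g ≃ₐ[R] Synt.RelGCIRing R n c F)) :
    ∃ g : S, g ∉ q ∧ Synt.IsSyntomic R (Localization.Away g) := by
  obtain ⟨g, hg, n, c, F, hF, ⟨e⟩⟩ := h
  exact ⟨g, hg, Groth.Agent.LibSyntTransport29.isSyntomic_of_algEquiv e.symm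
    (Groth.Agent.S9147.result R n c F hF)⟩

lemma flat_atPrime_iff {g : S} (hg : g ∉ q) (qT : Ideal (Localization.Away g)) [qT.IsPrime]
    (hqT : qT.comap (algebraMap S (Localization.Away g)) = q) :
    Module.Flat R (Localization.AtPrime qT) ↔ Module.Flat R (Localization.AtPrime q) := by
  rw [← flat_atPrime_congr (R := R) hqT]
  exact Module.Flat.equiv_iff (atPrimeAwayEquiv (R := R) g qT).toLinearEquiv

include hQ in
lemma syntomic_imp_local
    (h : ∃ g : S, g ∉ q ∧ Synt.IsSyntomic R (Localization.Away g)) :
    ∃ g : S, g ∉ q ∧ Algebra.FinitePresentation R (Localization.Away g) ∧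
          Module.Flat R (Localization.AtPrime q) ∧
          Synt.IsCIOver p.ResidueField (Localization.AtPrime Q) := by
  obtain ⟨g, hg, hfl, hfp, hfib⟩ := h
  refine ⟨g, hg, hfp, ?_, ?_⟩
  · obtain ⟨qT, hqTp, hqT⟩ := exists_prime_away g q hg
    rw [← flat_atPrime_iff R S q hg qT hqT]
    exact Module.Flat.trans R (Localization.Away g) (Localization.AtPrime qT)
  · have hlci := hfib ⟨p, inferInstance⟩
    have hlci' : Synt.IsLCIOver p.ResidueField
        (Localization.Away ((1 : p.ResidueField) ⊗ₜ[R] g)) :=
      Groth.Agent.LibSyntTransport29.isLCIOver_of_algEquiv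
        (IsLocalization.Away.tensorProductEquivTMulRight R p.ResidueField g (Localization.Away g))
        hlci
    exact isCIOver_atPrime_of_isLCIOver_away p.ResidueField _ Q (one_tmul_notMem R S p q Q hQ hg)
      hlci'

include hQ in
lemma local_imp_relGCI
    (h : ∃ g : S, g ∉ q ∧ Algebra.FinitePresentation R (Localization.Away g) ∧
          Module.Flat R (Localization.AtPrime q) ∧
          Synt.IsCIOver p.ResidueField (Localization.AtPrime Q)) :
    ∃ g : S, g ∉ q ∧ ∃ (n c : ℕ) (F : Fin c → MvPolynomial (Fin n) R), Synt.IsRelGCI R n c F ∧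
          Nonempty (Localization.Away g ≃ₐ[R] Synt.RelGCIRing R n c F) := by
  obtain ⟨g, hg, hfp, hfl, hci⟩ := h
  obtain ⟨qT, hqTp, hqT⟩ := exists_prime_away g q hg
  have : qT.LiesOver p := ⟨by
    rw [Ideal.LiesOver.over (p := p) (P := q), ← hqT]
    ext r
    simp only [Ideal.under_def, Ideal.mem_comap]
    rw [IsScalarTower.algebraMap_apply R S (Localization.Away g)]⟩
  have h1 := one_tmul_notMem R S p q Q hQ hg
  obtain ⟨Q₂, hQ₂p, hQ₂⟩ := exists_prime_away ((1 : p.ResidueField) ⊗ₜ[R] g) Q h1
  set E₁ := IsLocalization.Away.tensorProductEquivTMulRight R p.ResidueField g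
    (Localization.Away g) with hE₁
  have hQT : (Q₂.comap (E₁ : p.ResidueField ⊗[R] Localization.Away g →+*
      Localization.Away ((1 : p.ResidueField) ⊗ₜ[R] g))).comap
      (Algebra.TensorProduct.includeRight.toRingHom) = qT := by
    have key : ((Q₂.comap (E₁ : p.ResidueField ⊗[R] Localization.Away g →+*
        Localization.Away ((1 : p.ResidueField) ⊗ₜ[R] g))).comap
        (Algebra.TensorProduct.includeRight.toRingHom)).comap
        (algebraMap S (Localization.Away g)) = qT.comap (algebraMap S (Localization.Away g)) := by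
      rw [hqT]
      ext a
      have h2 : E₁ ((1 : p.ResidueField) ⊗ₜ[R] algebraMap S (Localization.Away g) a) =
          algebraMap _ _ ((1 : p.ResidueField) ⊗ₜ[R] a) := by
        rw [hE₁, IsLocalization.Away.tensorProductEquivTMulRight_tmul]
      have h3 : a ∈ q ↔ ((1 : p.ResidueField) ⊗ₜ[R] a) ∈ Q := by
        rw [← hQ, Ideal.mem_comap]; rfl
      have h4 : ((1 : p.ResidueField) ⊗ₜ[R] a) ∈ Q ↔
          algebraMap _ (Localization.Away ((1 : p.ResidueField) ⊗ₜ[R] g))
            ((1 : p.ResidueField) ⊗ₜ[R] a) ∈ Q₂ := by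
        rw [← hQ₂, Ideal.mem_comap]
      rw [h3, h4, ← h2]
      rfl
    have e1 := IsLocalization.map_comap (Submonoid.powers g) (Localization.Away g)
      ((Q₂.comap (E₁ : p.ResidueField ⊗[R] Localization.Away g →+*
        Localization.Away ((1 : p.ResidueField) ⊗ₜ[R] g))).comap
        (Algebra.TensorProduct.includeRight.toRingHom))
    have e2 := IsLocalization.map_comap (Submonoid.powers g) (Localization.Away g) qT
    calc _ = Ideal.map (algebraMap S (Localization.Away g)) (Ideal.comap (algebraMap S
          (Localization.Away g)) ((Q₂.comap (E₁ : p.ResidueField ⊗[R] Localization.Away g →+*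
          Localization.Away ((1 : p.ResidueField) ⊗ₜ[R] g))).comap
          (Algebra.TensorProduct.includeRight.toRingHom))) := e1.symm
      _ = Ideal.map (algebraMap S (Localization.Away g)) (Ideal.comap (algebraMap S
          (Localization.Away g)) qT) := by rw [key]
      _ = qT := e2
  have hflT : Module.Flat R (Localization.AtPrime qT) := (flat_atPrime_iff R S q hg qT hqT).mpr hfl
  have hciT : Synt.IsCIOver p.ResidueField (Localization.AtPrime
      (Q₂.comap (E₁ : p.ResidueField ⊗[R] Localization.Away g →+*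
        Localization.Away ((1 : p.ResidueField) ⊗ₜ[R] g)))) :=
    (isCIOver_atPrime_algEquiv_iff p.ResidueField E₁ Q₂).mpr
      ((isCIOver_atPrime_away_iff p.ResidueField _ Q₂).mpr
        ((isCIOver_atPrime_congr p.ResidueField hQ₂).mpr hci))
  obtain ⟨h, hh, n, c, F, hF, ⟨e⟩⟩ :=
    exists_away_relGCI R (Localization.Away g) p qT _ hQT hflT hciT
  obtain ⟨k, a, hka⟩ := IsLocalization.Away.surj g h
  have hu : IsUnit (algebraMap S (Localization.Away g) g) := IsLocalization.Away.algebraMap_isUnit g
  have hgT : algebraMap S (Localization.Away g) g ∉ qT := by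
    intro hmem
    apply hg
    rw [← hqT, Ideal.mem_comap]
    exact hmem
  have ha : a ∉ q := by
    intro haq
    rw [← hqT, Ideal.mem_comap, ← hka] at haq
    rcases hqTp.mem_or_mem haq with h' | h'
    · exact hh h'
    · exact hgT (hqTp.mem_of_pow_mem _ h')
  have hassoc : Associated (algebraMap S (Localization.Away g) a) h := by
    refine Associated.symm ⟨(hu.unit) ^ k, ?_⟩
    rw [← hka]
    simp
  have : IsLocalization.Away (g * a) (Localization.Away h) :=
    IsLocalization.Away.mul_of_associated g a h hassoc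
  refine ⟨g * a, ?_, n, c, F, hF, ⟨?_⟩⟩
  · intro hmem
    rcases (inferInstance : q.IsPrime).mem_or_mem hmem with h' | h'
    · exact hg h'
    · exact ha h'
  · exact ((IsLocalization.algEquiv (Submonoid.powers (g * a)) (Localization.Away (g * a))
      (Localization.Away h)).restrictScalars R).trans e

end


open TensorProduct in
/-- Let R → S be a ring map and q a prime of S lying over p; write Q for the prime of the fibre ring
κ(p) ⊗ S that pulls back to q. Equivalent: (1) some basic open neighbourhood S_g of q is syntomic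
over R; (2) some S_g is isomorphic over R to a relative global complete intersection; (3) some S_g
is of finite presentation over R, the local ring S_q is flat over R (equivalently over R_p), and the
fibre local ring (κ(p) ⊗ S)_Q is a complete intersection over κ(p). Stated as (1) ↔ (2) and (1) ↔
(3). -/
theorem result (R S : Type u) [CommRing R] [CommRing S] [Algebra R S]
    (p : Ideal R) [p.IsPrime] (q : Ideal S) [q.IsPrime] [q.LiesOver p]
    (Q : Ideal (p.Fiber S)) [Q.IsPrime]
    (hQ : Q.comap (Algebra.TensorProduct.includeRight.toRingHom) = q) :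
    ((∃ g : S, g ∉ q ∧ Synt.IsSyntomic R (Localization.Away g)) ↔
        ∃ g : S, g ∉ q ∧ ∃ (n c : ℕ) (F : Fin c → MvPolynomial (Fin n) R), Synt.IsRelGCI R n c F ∧
          Nonempty (Localization.Away g ≃ₐ[R] Synt.RelGCIRing R n c F)) ∧
      ((∃ g : S, g ∉ q ∧ Synt.IsSyntomic R (Localization.Away g)) ↔
        ∃ g : S, g ∉ q ∧ Algebra.FinitePresentation R (Localization.Away g) ∧
          Module.Flat R (Localization.AtPrime q) ∧
          Synt.IsCIOver p.ResidueField (Localization.AtPrime Q)) := by
  have hBA := relGCI_imp_syntomic R S q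
  have hAC := syntomic_imp_local R S p q Q hQ
  have hCB := local_imp_relGCI R S p q Q hQ
  exact ⟨⟨fun h => hCB (hAC h), hBA⟩, ⟨hAC, fun h => hBA (hCB h)⟩⟩

end Groth.Agent.S9169
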