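import Groth.Statements.S9171
import Mathlib
import Groth.Agent.Lib.Helper17.CIField7

set_option autoImplicit false
set_option linter.style.haveILetI false
universe u
open Synt

namespace Groth.Agent.S9171

/-- Let S = k[x_1, …, x_n]/I over a field k, q a prime of S, q' the corresponding prime of the
polynomial ring and c the integer with c + ht(q) = ht(q'). Equivalent: (1) S_g is a global complete
intersection over k for some g ∉ q; (2) the extension of I to the local ring k[x]_{q'} is generated
by c elements; (5) that extension is generated by a regular sequence. Stated as (1) ↔ (2) and (1) ↔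
(5). -/
theorem result (k : Type u) [Field k] (n : ℕ)
    (I : Ideal (MvPolynomial (Fin n) k)) (q : Ideal (MvPolynomial (Fin n) k ⧸ I)) [q.IsPrime] (c : ℕ)
    (hc : (c : ℕ∞) + q.height = (q.comap (Ideal.Quotient.mk I)).height) :
    ((∃ g : MvPolynomial (Fin n) k ⧸ I, g ∉ q ∧ Synt.IsGlobalCI k (Localization.Away g)) ↔
        ∃ s : Finset (Localization.AtPrime (q.comap (Ideal.Quotient.mk I))), s.card = c ∧
          Ideal.span (s : Set _) =
            I.map (algebraMap _ (Localization.AtPrime (q.comap (Ideal.Quotient.mk I))))) ∧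
      ((∃ g : MvPolynomial (Fin n) k ⧸ I, g ∉ q ∧ Synt.IsGlobalCI k (Localization.Away g)) ↔
        ∃ rs : List (Localization.AtPrime (q.comap (Ideal.Quotient.mk I))),
          RingTheory.Sequence.IsRegular (Localization.AtPrime (q.comap (Ideal.Quotient.mk I))) rs ∧
          Ideal.ofList rs =
            I.map (algebraMap _ (Localization.AtPrime (q.comap (Ideal.Quotient.mk I))))) := by
  classical
  have hφ : Function.Surjective (Ideal.Quotient.mkₐ k I) := Ideal.Quotient.mkₐ_surjective k I
  have hq'eq : q.comap (Ideal.Quotient.mk I) = q.comap (Ideal.Quotient.mkₐ k I).toRingHom := rfl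
  have hker : RingHom.ker (Ideal.Quotient.mkₐ k I).toRingHom = I := Ideal.mk_ker
  have E : (∃ g : MvPolynomial (Fin n) k ⧸ I, g ∉ q ∧ Synt.IsGlobalCI k (Localization.Away g)) ↔
      ∃ rs : List (Localization.AtPrime (q.comap (Ideal.Quotient.mk I))),
        RingTheory.Sequence.IsRegular (Localization.AtPrime (q.comap (Ideal.Quotient.mk I))) rs ∧
        Ideal.ofList rs =
          I.map (algebraMap _ (Localization.AtPrime (q.comap (Ideal.Quotient.mk I)))) := by
    rw [← Groth.Agent.Lib.helper17.CIField.isCIOver_atPrime_iff_exists_isGlobalCI_away k q,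
      Groth.Agent.Lib.helper17.CIField.isCIOver_atPrime_iff k (Ideal.Quotient.mkₐ k I) hφ q
        (q.comap (Ideal.Quotient.mk I)) hq'eq, hker]
  have hIq' : I ≤ q.comap (Ideal.Quotient.mk I) := by
    intro x hx
    rw [Ideal.mem_comap, Ideal.Quotient.eq_zero_iff_mem.mpr hx]
    exact q.zero_mem
  have hJle : I.map (algebraMap _ (Localization.AtPrime (q.comap (Ideal.Quotient.mk I)))) ≤
      IsLocalRing.maximalIdeal (Localization.AtPrime (q.comap (Ideal.Quotient.mk I))) := by
    rw [← Localization.AtPrime.map_eq_maximalIdeal]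
    exact Ideal.map_mono hIq'
  have hJ : I.map (algebraMap _ (Localization.AtPrime (q.comap (Ideal.Quotient.mk I)))) ≠ ⊤ := by
    intro htop
    rw [htop] at hJle
    exact (IsLocalRing.maximalIdeal.isMaximal _).ne_top (top_le_iff.mp hJle)
  have hdim : ringKrullDim (Localization.AtPrime (q.comap (Ideal.Quotient.mk I)) ⧸
      I.map (algebraMap _ (Localization.AtPrime (q.comap (Ideal.Quotient.mk I))))) +
        (c : WithBot ℕ∞) = ringKrullDim (Localization.AtPrime (q.comap (Ideal.Quotient.mk I))) := by
    have hπ := Groth.Agent.Lib.helper17.CIField.locHomₐ_surjective k (Ideal.Quotient.mkₐ k I) hφ q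
      (q.comap (Ideal.Quotient.mk I)) hq'eq
    have hkπ := Groth.Agent.Lib.helper17.CIField.ker_locHomₐ k (Ideal.Quotient.mkₐ k I) hφ q
      (q.comap (Ideal.Quotient.mk I)) hq'eq
    rw [hker] at hkπ
    rw [ringKrullDim_eq_of_ringEquiv ((Ideal.quotEquivOfEq hkπ.symm).trans
      (RingHom.quotientKerEquivOfSurjective hπ)),
      IsLocalization.AtPrime.ringKrullDim_eq_height q,
      IsLocalization.AtPrime.ringKrullDim_eq_height (q.comap (Ideal.Quotient.mk I))
        (Localization.AtPrime (q.comap (Ideal.Quotient.mk I))), ← hc]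
    push_cast
    rw [add_comm]
  exact ⟨E.trans (Groth.Agent.Lib.helper17.CIField.regular_iff_card _ _ hJ c hdim), E⟩

end Groth.Agent.S9171
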