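import Groth.Statements.S9177
import Mathlib

set_option autoImplicit false
universe u
open CAlg

namespace Groth.Agent.S9177

open TensorProduct

section abstract

variable {ι : Type u} [Preorder ι] [Nonempty ι] [IsDirectedOrder ι]
  {G : ι → Type u} [∀ i, CommRing (G i)]
  {A : Type u} [CommRing A] [∀ i, Algebra A (G i)]
  (f : ∀ i j, i ≤ j → G i →ₐ[A] G j)
  (hself : ∀ i (x : G i), f i i le_rfl x = x)
  (hcomp : ∀ i j k (hij : i ≤ j) (hjk : j ≤ k) (x : G i),
    f j k hjk (f i j hij x) = f i k (hij.trans hjk) x)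
  {R : Type u} [CommRing R] [Algebra A R] (φ : ∀ i, G i →ₐ[A] R)
  (hφf : ∀ i j (h : i ≤ j) (x : G i), φ j (f i j h x) = φ i x)
  (hsurj : ∀ r : R, ∃ i, ∃ x : G i, φ i x = r)
  (hzero : ∀ i (x : G i), φ i x = 0 → ∃ j, ∃ h : i ≤ j, f i j h x = 0)

include hself hcomp hφf hsurj hzero in
theorem exists_rTensor_eq_zero (C : Type u) [AddCommGroup C] [Module A C] (i : ι)
    (y : G i ⊗[A] C) (hy : (φ i).toLinearMap.rTensor C y = 0) :
    ∃ j, ∃ h : i ≤ j, (f i j h).toLinearMap.rTensor C y = 0 := by
  classical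
  let fl : ∀ i j, i ≤ j → G i →ₗ[A] G j := fun i j h => (f i j h).toLinearMap
  haveI : DirectedSystem G (fun i j h => fl i j h) :=
    ⟨fun i x => hself i x, fun k j i hij hjk x => hcomp _ _ _ hij hjk x⟩
  let Φ : Module.DirectLimit G fl →ₗ[A] R :=
    Module.DirectLimit.lift A ι G fl (fun i => (φ i).toLinearMap) (fun i j h x => hφf i j h x)
  have hΦinj : Function.Injective Φ := by
    rw [injective_iff_map_eq_zero]
    intro z hz
    obtain ⟨i, x, rfl⟩ := Module.DirectLimit.exists_of z
    have h1 : φ i x = 0 := by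
      have := Module.DirectLimit.lift_of (R := A) (ι := ι) (G := G) (f := fl)
        (g := fun i => (φ i).toLinearMap) (Hg := fun i j h x => hφf i j h x) x
      rw [← hz]; exact this.symm
    obtain ⟨j, h, hj⟩ := hzero i x h1
    rw [← Module.DirectLimit.of_f (hij := h)]
    show Module.DirectLimit.of A ι G fl j (f i j h x) = 0
    rw [hj, map_zero]
  have hΦsurj : Function.Surjective Φ := by
    intro r
    obtain ⟨i, x, rfl⟩ := hsurj r
    exact ⟨Module.DirectLimit.of A ι G fl i x,
      Module.DirectLimit.lift_of (R := A) (ι := ι) (G := G) (f := fl)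
        (g := fun i => (φ i).toLinearMap) (Hg := fun i j h x => hφf i j h x) x⟩
  let e : Module.DirectLimit G fl ≃ₗ[A] R := LinearEquiv.ofBijective Φ ⟨hΦinj, hΦsurj⟩
  have hcompΦ : (φ i).toLinearMap = e.toLinearMap ∘ₗ Module.DirectLimit.of A ι G fl i := by
    ext x
    exact (Module.DirectLimit.lift_of (R := A) (ι := ι) (G := G) (f := fl)
        (g := fun i => (φ i).toLinearMap) (Hg := fun i j h x => hφf i j h x) x).symm
  have h2 : (Module.DirectLimit.of A ι G fl i).rTensor C y = 0 := by
    apply (LinearEquiv.rTensor C e).injective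
    rw [map_zero, ← hy, hcompΦ, LinearMap.rTensor_comp]
    rfl
  have h3 := TensorProduct.directLimitLeft_rTensor_of fl C y
  rw [h2, map_zero] at h3
  obtain ⟨j, h, hj⟩ := Module.DirectLimit.of.zero_exact h3.symm
  exact ⟨j, h, hj⟩

include hφf hsurj in
theorem exists_rTensor_eq (C : Type u) [AddCommGroup C] [Module A C] (ξ : R ⊗[A] C) :
    ∃ i, ∃ y : G i ⊗[A] C, (φ i).toLinearMap.rTensor C y = ξ := by
  induction ξ using TensorProduct.induction_on with
  | zero => exact ⟨Classical.arbitrary ι, 0, map_zero _⟩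
  | tmul r c =>
    obtain ⟨i, x, rfl⟩ := hsurj r
    exact ⟨i, x ⊗ₜ c, rfl⟩
  | add ξ₁ ξ₂ h₁ h₂ =>
    obtain ⟨i, y₁, rfl⟩ := h₁
    obtain ⟨j, y₂, rfl⟩ := h₂
    obtain ⟨k, hik, hjk⟩ := exists_ge_ge i j
    have key : ∀ (i : ι) (hik : i ≤ k) (y : G i ⊗[A] C),
        (φ k).toLinearMap.rTensor C ((f i k hik).toLinearMap.rTensor C y) =
          (φ i).toLinearMap.rTensor C y := by
      intro i hik y
      rw [← LinearMap.rTensor_comp_apply]
      congr 2
      ext x
      exact hφf i k hik x
    refine ⟨k, (f i k hik).toLinearMap.rTensor C y₁ + (f j k hjk).toLinearMap.rTensor C y₂, ?_⟩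
    rw [map_add, key, key]

omit [Nonempty ι] [IsDirectedOrder ι] in
theorem comm_sq {G₁ G₂ : Type u} [CommRing G₁] [CommRing G₂] [Algebra A G₁] [Algebra A G₂]
    {B C : Type u} [CommRing B] [CommRing C] [Algebra A B] [Algebra A C]
    (g : G₁ →ₐ[A] G₂) (u : B →ₐ[A] C) (y : G₁ ⊗[A] B) :
    g.toLinearMap.rTensor C (Algebra.TensorProduct.map (AlgHom.id A G₁) u y) =
      Algebra.TensorProduct.map (AlgHom.id A G₂) u (g.toLinearMap.rTensor B y) := by
  induction y using TensorProduct.induction_on with
  | zero => simp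
  | tmul a b => simp
  | add a b ha hb => simp only [map_add, ha, hb]

include hself hcomp hφf hsurj hzero in
theorem part1 (l : ι) (B C : Type u) [CommRing B] [CommRing C] [Algebra A B] [Algebra A C]
    (hB : Algebra.FiniteType A B) (u u' : B →ₐ[A] C)
    (h : Algebra.TensorProduct.map (AlgHom.id A R) u =
      Algebra.TensorProduct.map (AlgHom.id A R) u') :
    ∃ i, Algebra.TensorProduct.map (AlgHom.id A (G i)) u =
      Algebra.TensorProduct.map (AlgHom.id A (G i)) u' := by
  classical
  obtain ⟨s, hs⟩ := hB.out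
  have key : ∀ b : B, ∃ k : ι, (1 : G k) ⊗ₜ[A] u b = (1 : G k) ⊗ₜ[A] u' b := by
    intro b
    have h1 : (φ l).toLinearMap.rTensor C ((1 : G l) ⊗ₜ[A] u b - (1 : G l) ⊗ₜ[A] u' b) = 0 := by
      have := congrArg (fun F => F ((1 : R) ⊗ₜ[A] b)) h
      simp only [Algebra.TensorProduct.map_tmul, AlgHom.coe_id, id_eq] at this
      simp only [map_sub, LinearMap.rTensor_tmul, AlgHom.toLinearMap_apply, map_one, this, sub_self]
    obtain ⟨j, hlj, hj⟩ := exists_rTensor_eq_zero f hself hcomp φ hφf hsurj hzero C l _ h1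
    refine ⟨j, ?_⟩
    simpa only [map_sub, LinearMap.rTensor_tmul, AlgHom.toLinearMap_apply, map_one,
      sub_eq_zero] using hj
  choose k hk using key
  obtain ⟨i, hi⟩ := (s.image k).exists_le
  have hi' : ∀ b ∈ s, (1 : G i) ⊗ₜ[A] u b = (1 : G i) ⊗ₜ[A] u' b := by
    intro b hb
    have hle : k b ≤ i := hi _ (Finset.mem_image_of_mem k hb)
    have := congrArg ((f (k b) i hle).toLinearMap.rTensor C) (hk b)
    simpa only [LinearMap.rTensor_tmul, AlgHom.toLinearMap_apply, map_one] using this
  refine ⟨i, ?_⟩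
  have hall : ∀ b : B, (1 : G i) ⊗ₜ[A] u b = (1 : G i) ⊗ₜ[A] u' b := by
    let E : Subalgebra A B := AlgHom.equalizer
      ((Algebra.TensorProduct.includeRight (R := A) (A := G i) (B := C)).comp u)
      ((Algebra.TensorProduct.includeRight (R := A) (A := G i) (B := C)).comp u')
    have hE : Algebra.adjoin A (↑s : Set B) ≤ E := Algebra.adjoin_le (fun b hb => hi' b hb)
    rw [hs] at hE
    intro b
    exact hE (Algebra.mem_top (x := b))
  apply Algebra.TensorProduct.ext'
  intro a b
  rw [Algebra.TensorProduct.map_tmul, Algebra.TensorProduct.map_tmul]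
  have := congrArg (fun z => (a ⊗ₜ[A] (1 : C)) * z) (hall b)
  simpa only [Algebra.TensorProduct.tmul_mul_tmul, mul_one, one_mul, AlgHom.coe_id, id_eq]
    using this

include hself hcomp hφf hsurj hzero in
theorem part2 (B C : Type u) [CommRing B] [CommRing C] [Algebra A B] [Algebra A C]
    (hC : Algebra.FiniteType A C) (u : B →ₐ[A] C)
    (h : Function.Surjective (Algebra.TensorProduct.map (AlgHom.id A R) u)) :
    ∃ i, Function.Surjective (Algebra.TensorProduct.map (AlgHom.id A (G i)) u) := by
  classical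
  obtain ⟨t, ht⟩ := hC.out
  have key : ∀ c : C, ∃ k : ι, ∃ η : G k ⊗[A] B,
      Algebra.TensorProduct.map (AlgHom.id A (G k)) u η = (1 : G k) ⊗ₜ[A] c := by
    intro c
    obtain ⟨ξ, hξ⟩ := h ((1 : R) ⊗ₜ[A] c)
    obtain ⟨j, y, rfl⟩ := exists_rTensor_eq f φ hφf hsurj B ξ
    have h1 : (φ j).toLinearMap.rTensor C
        (Algebra.TensorProduct.map (AlgHom.id A (G j)) u y - (1 : G j) ⊗ₜ[A] c) = 0 := by
      rw [map_sub, comm_sq, hξ]
      simp only [LinearMap.rTensor_tmul, AlgHom.toLinearMap_apply, map_one, sub_self]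
    obtain ⟨k, hjk, hk⟩ := exists_rTensor_eq_zero f hself hcomp φ hφf hsurj hzero C j _ h1
    refine ⟨k, (f j k hjk).toLinearMap.rTensor B y, ?_⟩
    rw [map_sub, comm_sq, sub_eq_zero] at hk
    rw [hk]
    simp only [LinearMap.rTensor_tmul, AlgHom.toLinearMap_apply, map_one]
  choose k η hη using key
  obtain ⟨i, hi⟩ := (t.image k).exists_le
  refine ⟨i, ?_⟩
  let S : Subalgebra A (G i ⊗[A] C) := AlgHom.range (Algebra.TensorProduct.map (AlgHom.id A (G i)) u)
  have hi' : ∀ c ∈ t, (1 : G i) ⊗ₜ[A] c ∈ S := by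
    intro c hc
    have hle : k c ≤ i := hi _ (Finset.mem_image_of_mem k hc)
    refine ⟨(f (k c) i hle).toLinearMap.rTensor B (η c), ?_⟩
    have := congrArg ((f (k c) i hle).toLinearMap.rTensor C) (hη c)
    rw [comm_sq] at this
    refine this.trans ?_
    simp only [LinearMap.rTensor_tmul, AlgHom.toLinearMap_apply, map_one]
  have hall : ∀ c : C, (1 : G i) ⊗ₜ[A] c ∈ S := by
    let E : Subalgebra A C := S.comap (Algebra.TensorProduct.includeRight (R := A) (A := G i) (B := C))
    have hE : Algebra.adjoin A (↑t : Set C) ≤ E := Algebra.adjoin_le (fun c hc => hi' c hc)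
    rw [ht] at hE
    intro c
    exact hE (Algebra.mem_top (x := c))
  have hS : ∀ z : G i ⊗[A] C, z ∈ S := by
    intro z
    induction z using TensorProduct.induction_on with
    | zero => exact S.zero_mem
    | tmul a c =>
      have h1 : a ⊗ₜ[A] (1 : C) ∈ S := ⟨a ⊗ₜ[A] (1 : B), by simp⟩
      have := S.mul_mem h1 (hall c)
      simpa only [Algebra.TensorProduct.tmul_mul_tmul, mul_one, one_mul] using this
    | add z₁ z₂ h₁ h₂ => exact S.add_mem h₁ h₂
  intro z
  exact hS z

end abstract

theorem result' {ι : Type u} [Preorder ι]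
    [Nonempty ι] [IsDirectedOrder ι] (G : ι → Type u) [∀ i, CommRing (G i)]
    (f : ∀ i j, i ≤ j → G i →+* G j) [DirectedSystem G (fun i j h => f i j h)]
    (A : Type u) [CommRing A] [∀ i, Algebra A (G i)]
    (hf : ∀ i j (h : i ≤ j), (f i j h).comp (algebraMap A (G i)) = algebraMap A (G j)) (l : ι)
    (B C : Type u) [CommRing B] [CommRing C] [Algebra A B] [Algebra A C] :
    letI : Algebra A (Ring.DirectLimit G (fun i j h => f i j h)) :=
      ((Ring.DirectLimit.of G (fun i j h => f i j h) l).comp (algebraMap A (G l))).toAlgebra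
    (Algebra.FiniteType A B → ∀ u u' : B →ₐ[A] C,
        Algebra.TensorProduct.map (AlgHom.id A (Ring.DirectLimit G (fun i j h => f i j h))) u =
            Algebra.TensorProduct.map (AlgHom.id A (Ring.DirectLimit G (fun i j h => f i j h))) u' →
          ∃ i : ι, Algebra.TensorProduct.map (AlgHom.id A (G i)) u =
            Algebra.TensorProduct.map (AlgHom.id A (G i)) u') ∧
      (Algebra.FiniteType A C → ∀ u : B →ₐ[A] C,
        Function.Surjective
            (Algebra.TensorProduct.map (AlgHom.id A (Ring.DirectLimit G (fun i j h => f i j h))) u) →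
          ∃ i : ι, Function.Surjective (Algebra.TensorProduct.map (AlgHom.id A (G i)) u)) := by
  letI : Algebra A (Ring.DirectLimit G (fun i j h => f i j h)) :=
    ((Ring.DirectLimit.of G (fun i j h => f i j h) l).comp (algebraMap A (G l))).toAlgebra
  let f' : ∀ i j, i ≤ j → G i →ₐ[A] G j := fun i j h =>
    { f i j h with commutes' := fun a => RingHom.congr_fun (hf i j h) a }
  have hself : ∀ i (x : G i), f' i i le_rfl x = x := fun i x => DirectedSystem.map_self' f x
  have hcomp : ∀ i j k (hij : i ≤ j) (hjk : j ≤ k) (x : G i),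
      f' j k hjk (f' i j hij x) = f' i k (hij.trans hjk) x :=
    fun i j k hij hjk x => DirectedSystem.map_map' f hij hjk x
  have hcommutes : ∀ i (a : A), Ring.DirectLimit.of G (fun i j h => f i j h) i (algebraMap A (G i) a) =
      algebraMap A (Ring.DirectLimit G (fun i j h => f i j h)) a := by
    intro i a
    obtain ⟨k, hik, hlk⟩ := exists_ge_ge i l
    show _ = Ring.DirectLimit.of G (fun i j h => f i j h) l (algebraMap A (G l) a)
    rw [← Ring.DirectLimit.of_f hik, ← Ring.DirectLimit.of_f hlk]
    congr 1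
    exact (RingHom.congr_fun (hf i k hik) a).trans (RingHom.congr_fun (hf l k hlk) a).symm
  let φ : ∀ i, G i →ₐ[A] Ring.DirectLimit G (fun i j h => f i j h) := fun i =>
    { Ring.DirectLimit.of G (fun i j h => f i j h) i with commutes' := hcommutes i }
  have hφf : ∀ i j (h : i ≤ j) (x : G i), φ j (f' i j h x) = φ i x :=
    fun i j h x => Ring.DirectLimit.of_f h x
  have hsurj : ∀ r : Ring.DirectLimit G (fun i j h => f i j h), ∃ i, ∃ x : G i, φ i x = r :=
    fun r => Ring.DirectLimit.exists_of r
  have hzero : ∀ i (x : G i), φ i x = 0 → ∃ j, ∃ h : i ≤ j, f' i j h x = 0 :=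
    fun i x hx => Ring.DirectLimit.of.zero_exact (f' := f) hx
  exact ⟨fun hB u u' h => part1 f' hself hcomp φ hφf hsurj hzero l B C hB u u' h,
    fun hC u h => part2 f' hself hcomp φ hφf hsurj hzero B C hC u h⟩



open TensorProduct in
/-- Let R = colim R_i be a directed colimit of A-algebras (compatible transition maps), B and C
A-algebras. (1) If B is of finite type over A, two A-algebra maps B → C whose base changes to R
coincide already have equal base changes to some R_i. (2) If C is of finite type over A and u : B →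
C has surjective base change to R, then its base change to some R_i is surjective. (The A-algebra
structure on R is through any stage R_l; it does not depend on l.) -/
theorem result {ι : Type u} [Preorder ι]
    [Nonempty ι] [IsDirectedOrder ι] (G : ι → Type u) [∀ i, CommRing (G i)]
    (f : ∀ i j, i ≤ j → G i →+* G j) [DirectedSystem G (fun i j h => f i j h)]
    (A : Type u) [CommRing A] [∀ i, Algebra A (G i)]
    (hf : ∀ i j (h : i ≤ j), (f i j h).comp (algebraMap A (G i)) = algebraMap A (G j)) (l : ι)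
    (B C : Type u) [CommRing B] [CommRing C] [Algebra A B] [Algebra A C] :
    letI : Algebra A (Ring.DirectLimit G (fun i j h => f i j h)) :=
      ((Ring.DirectLimit.of G (fun i j h => f i j h) l).comp (algebraMap A (G l))).toAlgebra
    (Algebra.FiniteType A B → ∀ u u' : B →ₐ[A] C,
        Algebra.TensorProduct.map (AlgHom.id A (Ring.DirectLimit G (fun i j h => f i j h))) u =
            Algebra.TensorProduct.map (AlgHom.id A (Ring.DirectLimit G (fun i j h => f i j h))) u' →
          ∃ i : ι, Algebra.TensorProduct.map (AlgHom.id A (G i)) u =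
            Algebra.TensorProduct.map (AlgHom.id A (G i)) u') ∧
      (Algebra.FiniteType A C → ∀ u : B →ₐ[A] C,
        Function.Surjective
            (Algebra.TensorProduct.map (AlgHom.id A (Ring.DirectLimit G (fun i j h => f i j h))) u) →
          ∃ i : ι, Function.Surjective (Algebra.TensorProduct.map (AlgHom.id A (G i)) u)) := by
  exact Groth.Agent.S9177.result' G f A hf l B C

end Groth.Agent.S9177
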