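import Groth.Statements.S9179
import Mathlib

set_option autoImplicit false
universe u
open CategoryTheory CategoryTheory.Limits
open CAlg

namespace Groth.Agent.S9179

section
variable {R : Type u} [CommRing R] {P : Type u} [CommRing P] [Algebra R P]
  {A : Type u} [CommRing A] [Algebra R A] (f : P →ₐ[R] A)

/-- index: finitely generated ideals inside the kernel -/
abbrev Idx : Type u := {J : Ideal P // J.FG ∧ J ≤ RingHom.ker f}

instance : IsDirected (Idx f) (· ≤ ·) :=
  ⟨fun a b => ⟨⟨a.1 ⊔ b.1, Submodule.FG.sup a.2.1 b.2.1, sup_le a.2.2 b.2.2⟩,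
    show a.1 ≤ a.1 ⊔ b.1 from le_sup_left, show b.1 ≤ a.1 ⊔ b.1 from le_sup_right⟩⟩

instance : Nonempty (Idx f) := ⟨⟨⊥, Submodule.fg_bot, bot_le⟩⟩

instance : IsFiltered (Idx f) := isFiltered_of_directed_le_nonempty _

/-- the diagram -/
noncomputable def D : Idx f ⥤ Under (CommRingCat.of R) where
  obj J := Under.mk (CommRingCat.ofHom (algebraMap R (P ⧸ J.1)))
  map {J J'} h := Under.homMk (CommRingCat.ofHom (Ideal.Quotient.factor (leOfHom h))) (by
    ext r
    rfl)
  map_id J := by
    ext x
    obtain ⟨x, rfl⟩ := Ideal.Quotient.mk_surjective x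
    rfl
  map_comp {J₁ J₂ J₃} h h' := by
    ext x
    obtain ⟨x, rfl⟩ := Ideal.Quotient.mk_surjective x
    rfl

/-- the cocone with point `A` -/
noncomputable def coc : Cocone (D f) where
  pt := Under.mk (CommRingCat.ofHom (algebraMap R A))
  ι :=
    { app := fun J => Under.homMk (CommRingCat.ofHom
        (Ideal.Quotient.lift J.1 f.toRingHom (fun x hx => J.2.2 hx))) (by
          ext r
          exact f.commutes r)
      naturality := fun J J' h => by
        ext x
        obtain ⟨x, rfl⟩ := Ideal.Quotient.mk_surjective x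
        rfl }

theorem coc_app_mk (J : Idx f) (x : P) :
    ((coc f).ι.app J).right.hom (Ideal.Quotient.mk J.1 x) = f x := rfl

/-- bottom index -/
def bot : Idx f := ⟨⊥, Submodule.fg_bot, bot_le⟩

variable (hf : Function.Surjective f)

/-- the quotient map with categorical codomain -/
noncomputable def mkJ (J : Idx f) : P →+* ((D f).obj J).right := Ideal.Quotient.mk J.1

theorem mkJ_surjective (J : Idx f) : Function.Surjective (mkJ f J) :=
  Ideal.Quotient.mk_surjective

/-- the map `P → s.pt` -/
noncomputable def gmap (s : Cocone (D f)) : P →+* s.pt.right :=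
  ((s.ι.app (bot f)).right.hom).comp (mkJ f (bot f))

theorem gmap_eq (s : Cocone (D f)) (J : Idx f) (x : P) :
    gmap f s x = (s.ι.app J).right.hom (mkJ f J x) := by
  have hle : bot f ≤ J := show (⊥ : Ideal P) ≤ J.1 from bot_le
  have e := congrArg (fun k => k.right.hom (mkJ f (bot f) x)) (s.w (homOfLE hle))
  exact e.symm

theorem gmap_ker (s : Cocone (D f)) : RingHom.ker f.toRingHom ≤ RingHom.ker (gmap f s) := by
  intro x hx
  let J : Idx f := ⟨Ideal.span {x}, Submodule.fg_span_singleton x,
    (Ideal.span_singleton_le_iff_mem _).2 hx⟩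
  rw [RingHom.mem_ker, gmap_eq f s J x]
  have : mkJ f J x = 0 :=
    Ideal.Quotient.eq_zero_iff_mem.2 (Ideal.subset_span rfl)
  rw [this, map_zero]

/-- the descended ring map -/
noncomputable def dmap (s : Cocone (D f)) : A →+* s.pt.right :=
  RingHom.liftOfSurjective f.toRingHom hf ⟨gmap f s, gmap_ker f s⟩

theorem dmap_apply (s : Cocone (D f)) (x : P) : dmap f hf s (f x) = gmap f s x :=
  RingHom.liftOfRightInverse_comp_apply _ _ _ _ x

/-- colimit -/
noncomputable def isCol : IsColimit (coc f) where
  desc s := Under.homMk (CommRingCat.ofHom (dmap f hf s)) (by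
    ext r
    have h1 : algebraMap R A r = f (algebraMap R P r) := (f.commutes r).symm
    change dmap f hf s (algebraMap R A r) = _
    rw [h1, dmap_apply]
    have := congrArg (fun k => k.hom r) (Under.w (s.ι.app (bot f)))
    exact this)
  fac s J := by
    ext x
    obtain ⟨x, rfl⟩ := mkJ_surjective f J x
    change dmap f hf s (f x) = _
    rw [dmap_apply, gmap_eq f s J x]
  uniq s m hm := by
    ext a
    obtain ⟨x, rfl⟩ := hf a
    change m.right.hom (f x) = dmap f hf s (f x)
    rw [dmap_apply, gmap_eq f s (bot f) x, ← hm (bot f)]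
    rfl

end


/-- An R-algebra of finite type is the colimit of a filtered system of finitely presented R-algebras
whose transition maps are all surjective. -/
theorem result (R A : Type u) [CommRing R] [CommRing A]
    [Algebra R A] [Algebra.FiniteType R A] :
    ∃ (I : Type u) (_ : SmallCategory I) (_ : IsFiltered I) (D : I ⥤ Under (CommRingCat.of R))
      (c : Cocone D) (_ : IsColimit c),
      (∀ i, (D.obj i).hom.hom.FinitePresentation) ∧
      (∀ (i j : I) (φ : i ⟶ j), Function.Surjective (D.map φ).right.hom) ∧
      Nonempty (c.pt ≅ Under.mk (CommRingCat.ofHom (algebraMap R A))) := by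
  obtain ⟨n, f, hf⟩ := Algebra.FiniteType.iff_quotient_mvPolynomial''.1
    (inferInstance : Algebra.FiniteType R A)
  refine ⟨Idx f, inferInstance, inferInstance, D f, coc f, isCol f hf, ?_, ?_, ⟨Iso.refl _⟩⟩
  · intro J
    change (algebraMap R (MvPolynomial (Fin n) R ⧸ J.1)).FinitePresentation
    rw [RingHom.finitePresentation_algebraMap]
    exact Algebra.FinitePresentation.quotient J.2.1
  · intro i j φ
    exact Ideal.Quotient.factor_surjective (leOfHom φ)

end Groth.Agent.S9179
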