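import Groth.Statements.S9180
import Groth.Agent.S2141
import Groth.Agent.S2142
import Groth.Agent.Lib.Helper5.FibLocRingDim
import Groth.Agent.Lib.Helper5.FibreDimLocal

set_option autoImplicit false
universe u
open CAlg

namespace Groth.Agent.S9180

open TensorProduct in
/-- Let S be of finite type over a field k, K an extension field of k, S_K = S ⊗_k K, q a prime of S
whose residue field has transcendence degree r over k, and q_K a prime of S_K lying over q whose
residue field has transcendence degree r_K over K. Then the local ring at q_K of the fibre of S →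
S_K over q has dimension dim (S_K)_{q_K} − dim S_q = r − r_K (stated additively), and there is a
prime of S_K over q for which this dimension is zero. -/
theorem result (k S K : Type u) [Field k] [CommRing S] [Algebra k S]
    [Algebra.FiniteType k S] [Field K] [Algebra k K] (q : Ideal S) [q.IsPrime] (r : ℕ)
    (hr : Algebra.trdeg k q.ResidueField = r) (qK : Ideal (S ⊗[k] K)) [qK.IsPrime] [qK.LiesOver q]
    (rK : ℕ)
    (hrK : letI : Algebra K (S ⊗[k] K) := Algebra.TensorProduct.rightAlgebra
      Algebra.trdeg K qK.ResidueField = rK) :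
    ringKrullDim (EGA4.FibLocRing S (S ⊗[k] K) qK) + ringKrullDim (Localization.AtPrime q) =
        ringKrullDim (Localization.AtPrime qK) ∧
      ringKrullDim (EGA4.FibLocRing S (S ⊗[k] K) qK) + (rK : WithBot ℕ∞) = (r : WithBot ℕ∞) ∧
      ∃ (q' : Ideal (S ⊗[k] K)) (_ : q'.IsPrime), q'.LiesOver q ∧
        ringKrullDim (EGA4.FibLocRing S (S ⊗[k] K) q') = 0 := by
  classical
  letI algK : Algebra K (S ⊗[k] K) := Algebra.TensorProduct.rightAlgebra
  -- `S ⊗ K` is of finite type over `K` (through the swap)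
  let c : K ⊗[k] S ≃ₐ[k] S ⊗[k] K := Algebra.TensorProduct.comm k K S
  let cK : K ⊗[k] S →ₐ[K] S ⊗[k] K :=
    { c.toAlgHom.toRingHom with
      commutes' := fun a => by
        change c (algebraMap K (K ⊗[k] S) a) = algebraMap K (S ⊗[k] K) a
        rw [Algebra.TensorProduct.algebraMap_apply]
        simp [c, RingHom.algebraMap_toAlgebra] }
  haveI hft : Algebra.FiniteType K (S ⊗[k] K) :=
    Algebra.FiniteType.of_surjective cK c.surjective
  haveI : IsNoetherianRing (S ⊗[k] K) := Algebra.FiniteType.isNoetherianRing K (S ⊗[k] K)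
  haveI : IsNoetherianRing S := Algebra.FiniteType.isNoetherianRing k S
  -- heights
  have hq : ringKrullDim (Localization.AtPrime q) = (q.height : WithBot ℕ∞) :=
    IsLocalization.AtPrime.ringKrullDim_eq_height q _
  have hqK : ringKrullDim (Localization.AtPrime qK) = (qK.height : WithBot ℕ∞) :=
    IsLocalization.AtPrime.ringKrullDim_eq_height qK _
  have hover : qK.comap (algebraMap S (S ⊗[k] K)) = q := (Ideal.LiesOver.over (P := qK) (p := q)).symm
  have hF := Groth.Agent.Lib.helper5.FibLoc.ringKrullDim_fibLocRing' S (S ⊗[k] K) qK q hover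
  have hgd := Ideal.height_eq_height_add_of_liesOver_of_hasGoingDown (R := S) (S := S ⊗[k] K) q qK
  obtain ⟨a, ha⟩ := ENat.ne_top_iff_exists.mp (Ideal.height_ne_top_of_isPrime (I := q))
  obtain ⟨b, hb⟩ := ENat.ne_top_iff_exists.mp (Ideal.height_ne_top_of_isPrime (I := qK))
  have hble : (qK.map (Ideal.Quotient.mk (q.map (algebraMap S (S ⊗[k] K))))).height ≤ qK.height := by
    rw [hgd]; exact le_add_self
  obtain ⟨e, he⟩ := ENat.ne_top_iff_exists.mp
    (ne_top_of_le_ne_top (Ideal.height_ne_top_of_isPrime (I := qK)) hble)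
  rw [← ha, ← hb, ← he] at hgd
  have hgd' : b = a + e := by exact_mod_cast hgd
  rw [← he] at hF
  rw [← ha] at hq
  rw [← hb] at hqK
  -- part 1
  have part1 : ringKrullDim (EGA4.FibLocRing S (S ⊗[k] K) qK) + ringKrullDim (Localization.AtPrime q) =
      ringKrullDim (Localization.AtPrime qK) := by
    rw [hF, hq, hqK, hgd']
    push_cast
    rw [add_comm]
  -- local dimensions
  have h1 := Groth.Agent.S2141.result (k := k) (S := S) q r hr
  have h2 := Groth.Agent.S2141.result (k := K) (S := S ⊗[k] K) qK rK hrK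
  let qK' : Ideal (K ⊗[k] S) := qK.comap c.toRingEquiv.toRingHom
  haveI : qK'.IsPrime := Ideal.comap_isPrime _ _
  have hqK' : qK'.comap (Algebra.TensorProduct.includeRight.toRingHom : S →+* K ⊗[k] S) = q := by
    rw [← hover]
    ext s
    simp only [qK', Ideal.mem_comap]
    change c ((1 : K) ⊗ₜ[k] s) ∈ qK ↔ algebraMap S (S ⊗[k] K) s ∈ qK
    rw [Algebra.TensorProduct.algebraMap_apply]
    simp [c]
  have h3 := Groth.Agent.S2142.result (k := k) (S := S) (K := K) q qK' hqK'
  have h4 : FlatMor.localDim (PrimeSpectrum (S ⊗[k] K)) ⟨qK, inferInstance⟩ =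
      FlatMor.localDim (PrimeSpectrum (K ⊗[k] S)) ⟨qK', inferInstance⟩ := by
    let hm := PrimeSpectrum.homeomorphOfRingEquiv c.toRingEquiv
    have := Groth.Agent.Lib.helper5.FibreDimLocal.localDim_eq_of_isOpenEmbedding hm.symm
      hm.symm.isOpenEmbedding ⟨qK, inferInstance⟩
    rw [this]
    rfl
  rw [h4, h3, h1, hq, hqK] at h2
  have part2 : ringKrullDim (EGA4.FibLocRing S (S ⊗[k] K) qK) + (rK : WithBot ℕ∞) = (r : WithBot ℕ∞) := by
    rw [hF]
    have h5 : a + r = b + rK := by exact_mod_cast h2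
    have h6 : e + rK = r := by omega
    exact_mod_cast h6
  refine ⟨part1, part2, ?_⟩
  -- part 3: a prime minimal over `q (S ⊗ K)` below `qK`
  have hle : q.map (algebraMap S (S ⊗[k] K)) ≤ qK := by
    rw [← hover]; exact Ideal.map_comap_le
  obtain ⟨q', hq'min, hq'le⟩ := Ideal.exists_minimalPrimes_le hle
  haveI hq'p : q'.IsPrime := hq'min.1.1
  have hq'over : q'.comap (algebraMap S (S ⊗[k] K)) = q := by
    apply le_antisymm
    · rw [← hover]; exact Ideal.comap_mono hq'le
    · rw [← Ideal.map_le_iff_le_comap]; exact hq'min.1.2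
  refine ⟨q', hq'p, ⟨hq'over.symm⟩, ?_⟩
  rw [Groth.Agent.Lib.helper5.FibLoc.ringKrullDim_fibLocRing' S (S ⊗[k] K) q' q hq'over]
  have hmin : q'.map (Ideal.Quotient.mk (q.map (algebraMap S (S ⊗[k] K)))) ∈
      minimalPrimes ((S ⊗[k] K) ⧸ q.map (algebraMap S (S ⊗[k] K))) := by
    rw [Ideal.minimalPrimes_eq_comap] at hq'min
    obtain ⟨P0, hP0, rfl⟩ := hq'min
    rw [Ideal.map_comap_of_surjective _ Ideal.Quotient.mk_surjective]
    exact hP0
  haveI := hmin.1.1
  rw [Ideal.height_eq_zero_iff.mpr hmin]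
  rfl

end Groth.Agent.S9180
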