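import Groth.Statements.S9182
import Mathlib
import Groth.Agent.LibTwoPres29
import Groth.Agent.Lib.Helper13.NLLoc2
-- import your own Groth.Agent.* helpers here

set_option autoImplicit false
universe u
open CAlg

namespace Groth.Agent.S9182

open Algebra TensorProduct Groth.Agent.LibTwoPres29 Groth.Agent.Lib.helper13.NLLoc in
theorem aux (R S : Type u) [CommRing R] [CommRing S] [Algebra R S]
    (g : S) (n m : ℕ) (α : MvPolynomial (Fin n) R →ₐ[R] S) (hα : Function.Surjective α)
    (β : MvPolynomial (Fin m) R →ₐ[R] Localization.Away g) (hβ : Function.Surjective β) :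
    Nonempty ((LocalizedModule (Submonoid.powers g) (Algebra.Extension.ofSurjective α hα).Cotangent ×
        (Fin m → Localization.Away g)) ≃ₗ[Localization.Away g]
      ((Algebra.Extension.ofSurjective β hβ).Cotangent × (Fin n → Localization.Away g))) := by
  classical
  let T := Localization.Away g
  let M := Submonoid.powers g
  let P : Extension.{u} R S := Extension.ofSurjective α hα
  let Q : Extension.{u} R T := Extension.ofSurjective β hβ
  haveI : FormallySmooth R P.Ring := inferInstanceAs (FormallySmooth R (MvPolynomial (Fin n) R))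
  haveI : FormallySmooth R Q.Ring := inferInstanceAs (FormallySmooth R (MvPolynomial (Fin m) R))
  let F : MvPolynomial (Fin n) R →ₐ[R] MvPolynomial (Fin m) R :=
    MvPolynomial.aeval (fun i => Q.σ (algebraMap S T (α (MvPolynomial.X i))))
  have hF : ∀ x, β (F x) = algebraMap S T (α x) := by
    intro x
    have : (β.comp F) = (IsScalarTower.toAlgHom R S T).comp α := by
      apply MvPolynomial.algHom_ext
      intro i
      simp only [AlgHom.comp_apply, F, MvPolynomial.aeval_X]
      exact Q.algebraMap_σ _
    exact AlgHom.congr_fun this x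
  let f : P.Hom Q :=
    { toRingHom := F.toRingHom
      toRingHom_algebraMap := fun x => F.commutes x
      algebraMap_toRingHom := fun x => hF x }
  let eQ : Q.CotangentSpace ≃ₗ[T] (Fin m → T) :=
    cotangentSpaceEquivFun Q (KaehlerDifferential.mvPolynomialBasis R (Fin m))
  let eP : P.CotangentSpace ≃ₗ[S] (Fin n → S) :=
    cotangentSpaceEquivFun P (KaehlerDifferential.mvPolynomialBasis R (Fin n))
  haveI : Module.Projective T Q.CotangentSpace := Module.Projective.of_equiv eQ.symm
  let c : (Fin n → S) →ₗ[S] (Fin n → T) := (Algebra.linearMap S T).compLeft (Fin n)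
  haveI hc : IsLocalizedModule M c :=
    (isLocalizedModule_iff_isBaseChange M T c).mpr
      (IsBaseChange.finitePow (Fin n) (IsBaseChange.linearMap S T))
  let l₀ : P.CotangentSpace →ₗ[S] (Fin n → T) := c ∘ₗ eP.toLinearMap
  haveI : IsLocalizedModule M l₀ := IsLocalizedModule.of_linearEquiv_right M c eP
  obtain ⟨e⟩ := nonempty_localizedCotangent_prod_equiv M P Q f
    (LocalizedModule.mkLinearMap M P.Cotangent) l₀
  exact ⟨((LinearEquiv.refl T _).prodCongr eQ.symm).trans e⟩


/-- For presentations α : R[x_1, …, x_n] → S and β : R[y_1, …, y_m] → S_g (g ∈ S) with kernels I and J,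
the S_g-modules (I/I²)_g ⊕ S_g^m and J/J² ⊕ S_g^n are isomorphic. -/
theorem result (R S : Type u) [CommRing R] [CommRing S] [Algebra R S]
    (g : S) (n m : ℕ) (α : MvPolynomial (Fin n) R →ₐ[R] S) (hα : Function.Surjective α)
    (β : MvPolynomial (Fin m) R →ₐ[R] Localization.Away g) (hβ : Function.Surjective β) :
    Nonempty ((LocalizedModule (Submonoid.powers g) (Algebra.Extension.ofSurjective α hα).Cotangent ×
        (Fin m → Localization.Away g)) ≃ₗ[Localization.Away g]
      ((Algebra.Extension.ofSurjective β hβ).Cotangent × (Fin n → Localization.Away g))) := by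
  classical
  obtain ⟨e⟩ := aux R S g n m α hα β hβ
  exact ⟨e⟩

end Groth.Agent.S9182
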