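import Groth.Statements.S9183
import Mathlib

set_option autoImplicit false
universe u
open CategoryTheory CategoryTheory.Limits
open CAlg

namespace Groth.Agent.S9183

section
variable (R : Type u) [CommRing R] (A : Type u) [CommRing A] [Algebra R A]

/-- polynomial ring on a finite set of elements of `A` -/
abbrev V (S : Finset A) : Type u := MvPolynomial S R

/-- evaluation -/
noncomputable def ev (S : Finset A) : V R A S →ₐ[R] A := MvPolynomial.aeval (fun s : S => (s : A))

variable {A}

/-- renaming along an inclusion -/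
noncomputable def ren {S S' : Finset A} (h : S ⊆ S') : V R A S →ₐ[R] V R A S' :=
  MvPolynomial.rename (fun s : S => (⟨s.1, h s.2⟩ : S'))

theorem ev_ren {S S' : Finset A} (h : S ⊆ S') (p : V R A S) : ev R A S' (ren R h p) = ev R A S p := by
  unfold ev ren
  rw [MvPolynomial.aeval_rename]
  rfl

theorem ren_refl (S : Finset A) (p : V R A S) : ren R (Finset.Subset.refl S) p = p := by
  unfold ren
  exact MvPolynomial.rename_id_apply p

theorem ren_trans {S S' S'' : Finset A} (h : S ⊆ S') (h' : S' ⊆ S'') (p : V R A S) :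
    ren R h' (ren R h p) = ren R (h.trans h') p := by
  unfold ren
  rw [MvPolynomial.rename_rename]
  rfl

variable (A)

/-- index type -/
structure Idx : Type u where
  S : Finset A
  J : Ideal (V R A S)
  fg : J.FG
  le_ker : J ≤ RingHom.ker (ev R A S)

variable {A}

noncomputable instance : Preorder (Idx R A) where
  le a b := ∃ h : a.S ⊆ b.S, a.J.map (ren R h) ≤ b.J
  le_refl a := ⟨Finset.Subset.refl _, by
    rw [Ideal.map_le_iff_le_comap]
    intro x hx
    rw [Ideal.mem_comap]
    exact (ren_refl R a.S x).symm ▸ hx⟩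
  le_trans a b c hab hbc := ⟨hab.fst.trans hbc.fst, by
    rw [Ideal.map_le_iff_le_comap]
    intro x hx
    rw [Ideal.mem_comap]
    have h1 : ren R hab.fst x ∈ b.J := hab.snd (Ideal.mem_map_of_mem _ hx)
    have h2 : ren R hbc.fst (ren R hab.fst x) ∈ c.J := hbc.snd (Ideal.mem_map_of_mem _ h1)
    rw [ren_trans] at h2
    exact h2⟩

theorem le_def (a b : Idx R A) : a ≤ b ↔ ∃ h : a.S ⊆ b.S, a.J.map (ren R h) ≤ b.J := Iff.rfl

theorem mem_of_le {a b : Idx R A} (h : a ≤ b) {x : V R A a.S} (hx : x ∈ a.J) :
    ren R h.fst x ∈ b.J := h.snd (Ideal.mem_map_of_mem _ hx)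

theorem map_ren_le_ker {S S' : Finset A} (h : S ⊆ S') (J : Ideal (V R A S))
    (hJ : J ≤ RingHom.ker (ev R A S)) : J.map (ren R h) ≤ RingHom.ker (ev R A S') := by
  rw [Ideal.map_le_iff_le_comap]
  intro x hx
  rw [Ideal.mem_comap, RingHom.mem_ker]
  have := hJ hx
  rw [RingHom.mem_ker] at this
  rw [← this]
  exact ev_ren R h x

theorem fg_map_ren {S S' : Finset A} (h : S ⊆ S') (J : Ideal (V R A S)) (hJ : J.FG) :
    (J.map (ren R h)).FG := by
  have := Ideal.FG.map hJ (ren R h).toRingHom
  exact this

open scoped Classical in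
instance : IsDirected (Idx R A) (· ≤ ·) :=
  ⟨fun a b => ⟨⟨a.S ∪ b.S, a.J.map (ren R Finset.subset_union_left) ⊔
      b.J.map (ren R Finset.subset_union_right),
      Submodule.FG.sup (fg_map_ren R _ _ a.fg) (fg_map_ren R _ _ b.fg),
      sup_le (map_ren_le_ker R _ _ a.le_ker) (map_ren_le_ker R _ _ b.le_ker)⟩,
    ⟨Finset.subset_union_left, le_sup_left⟩, ⟨Finset.subset_union_right, le_sup_right⟩⟩⟩

instance : Nonempty (Idx R A) := ⟨⟨∅, ⊥, Submodule.fg_bot, bot_le⟩⟩

instance : IsFiltered (Idx R A) := isFiltered_of_directed_le_nonempty _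

theorem le_comap_of_le {a b : Idx R A} (h : a ≤ b) :
    a.J ≤ b.J.comap ((ren R h.fst : V R A a.S →ₐ[R] V R A b.S) : V R A a.S →+* V R A b.S) :=
  Ideal.map_le_iff_le_comap.1 h.snd

/-- transition ring maps -/
noncomputable def tr {a b : Idx R A} (h : a ≤ b) : (V R A a.S ⧸ a.J) →+* (V R A b.S ⧸ b.J) :=
  Ideal.quotientMap b.J ((ren R h.fst : V R A a.S →ₐ[R] V R A b.S) : V R A a.S →+* V R A b.S)
    (le_comap_of_le R h)

theorem tr_mk {a b : Idx R A} (h : a ≤ b) (x : V R A a.S) :
    tr R h (Ideal.Quotient.mk a.J x) = Ideal.Quotient.mk b.J (ren R h.fst x) :=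
  Ideal.quotientMap_mk

theorem tr_algebraMap {a b : Idx R A} (h : a ≤ b) (r : R) :
    tr R h (algebraMap R (V R A a.S ⧸ a.J) r) = algebraMap R (V R A b.S ⧸ b.J) r := by
  have h1 : algebraMap R (V R A a.S ⧸ a.J) r = Ideal.Quotient.mk a.J (algebraMap R (V R A a.S) r) :=
    rfl
  have h2 : algebraMap R (V R A b.S ⧸ b.J) r = Ideal.Quotient.mk b.J (algebraMap R (V R A b.S) r) :=
    rfl
  rw [h1, h2, tr_mk, AlgHom.commutes]

/-- the diagram -/
noncomputable def D : Idx R A ⥤ Under (CommRingCat.of R) where
  obj a := Under.mk (CommRingCat.ofHom (algebraMap R (V R A a.S ⧸ a.J)))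
  map {a b} h := Under.homMk (CommRingCat.ofHom (tr R (leOfHom h))) (by
    ext r
    exact tr_algebraMap R (leOfHom h) r)
  map_id a := by
    ext x
    obtain ⟨x, rfl⟩ := Ideal.Quotient.mk_surjective x
    change tr R (le_refl a) (Ideal.Quotient.mk a.J x) = Ideal.Quotient.mk a.J x
    rw [tr_mk, ren_refl]
  map_comp {a b c} h h' := by
    ext x
    obtain ⟨x, rfl⟩ := Ideal.Quotient.mk_surjective x
    change tr R ((leOfHom h).trans (leOfHom h')) (Ideal.Quotient.mk a.J x) =
      tr R (leOfHom h') (tr R (leOfHom h) (Ideal.Quotient.mk a.J x))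
    rw [tr_mk, tr_mk, tr_mk, ren_trans]

/-- quotient map with categorical codomain -/
noncomputable def mkJ (a : Idx R A) : V R A a.S →+* ((D R (A := A)).obj a).right :=
  Ideal.Quotient.mk a.J

theorem mkJ_surjective (a : Idx R A) : Function.Surjective (mkJ R a) :=
  Ideal.Quotient.mk_surjective

theorem D_map_mkJ {a b : Idx R A} (h : a ⟶ b) (x : V R A a.S) :
    ((D R (A := A)).map h).right.hom (mkJ R a x) = mkJ R b (ren R (leOfHom h).fst x) :=
  tr_mk R (leOfHom h) x

/-- the cocone with point `A` -/
noncomputable def coc : Cocone (D R (A := A)) where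
  pt := Under.mk (CommRingCat.ofHom (algebraMap R A))
  ι :=
    { app := fun a => Under.homMk (CommRingCat.ofHom
        (Ideal.Quotient.lift a.J (ev R A a.S).toRingHom (fun x hx => a.le_ker hx))) (by
          ext r
          exact (ev R A a.S).commutes r)
      naturality := fun a b h => by
        ext x
        obtain ⟨x, rfl⟩ := mkJ_surjective R a x
        change Ideal.Quotient.lift b.J (ev R A b.S).toRingHom (fun x hx => b.le_ker hx)
          (((D R (A := A)).map h).right.hom (mkJ R a x)) = ev R A a.S x
        rw [D_map_mkJ]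
        exact ev_ren R _ x }

theorem coc_app_mkJ (a : Idx R A) (x : V R A a.S) :
    ((coc R (A := A)).ι.app a).right.hom (mkJ R a x) = ev R A a.S x := rfl

/-- singleton index -/
noncomputable def sg (a : A) : Idx R A := ⟨{a}, ⊥, Submodule.fg_bot, bot_le⟩

/-- the variable of the singleton index -/
noncomputable def xv (a : A) : V R A (sg R a).S :=
  MvPolynomial.X (⟨a, Finset.mem_singleton_self a⟩ : ({a} : Finset A))

variable (A) in
/-- the big evaluation -/
noncomputable def EV : MvPolynomial A R →ₐ[R] A := MvPolynomial.aeval id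

theorem EV_surjective : Function.Surjective (EV R A) := fun a => ⟨MvPolynomial.X a, by simp [EV]⟩

/-- renaming into the big polynomial ring -/
noncomputable def big (S : Finset A) : V R A S →ₐ[R] MvPolynomial A R :=
  MvPolynomial.rename (Subtype.val : S → A)

theorem EV_big (S : Finset A) (p : V R A S) : EV R A (big R S p) = ev R A S p := by
  unfold EV big ev
  rw [MvPolynomial.aeval_rename]
  rfl

/-- the map from the big polynomial ring to the point of a cocone -/
noncomputable def gmap (s : Cocone (D R (A := A))) : MvPolynomial A R →+* s.pt.right :=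
  MvPolynomial.eval₂Hom s.pt.hom.hom (fun a => (s.ι.app (sg R a)).right.hom (mkJ R (sg R a) (xv R a)))

theorem app_algebraMap (s : Cocone (D R (A := A))) (b : Idx R A) (r : R) :
    (s.ι.app b).right.hom (mkJ R b (MvPolynomial.C r)) = s.pt.hom.hom r := by
  have := congrArg (fun k => k.hom r) (Under.w (s.ι.app b))
  exact this

theorem sg_le (b : Idx R A) (i : b.S) : sg R i.1 ≤ b :=
  ⟨Finset.singleton_subset_iff.2 i.2, by
    change Ideal.map _ ⊥ ≤ _
    rw [Ideal.map_bot]
    exact bot_le⟩

theorem ren_xv (b : Idx R A) (i : b.S) (h : (sg R i.1).S ⊆ b.S) :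
    ren R h (xv R i.1) = MvPolynomial.X i :=
  MvPolynomial.rename_X _ _

theorem gmap_big (s : Cocone (D R (A := A))) (b : Idx R A) (p : V R A b.S) :
    gmap R s (big R b.S p) = (s.ι.app b).right.hom (mkJ R b p) := by
  have key : (gmap R s).comp (big R b.S : V R A b.S →+* MvPolynomial A R) =
      ((s.ι.app b).right.hom).comp (mkJ R b) := by
    refine MvPolynomial.ringHom_ext (fun r => ?_) (fun i => ?_)
    · change gmap R s (big R b.S (MvPolynomial.C r)) = (s.ι.app b).right.hom (mkJ R b (MvPolynomial.C r))
      rw [app_algebraMap]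
      unfold big gmap
      rw [MvPolynomial.rename_C]
      exact MvPolynomial.eval₂Hom_C _ _ r
    · change gmap R s (big R b.S (MvPolynomial.X i)) = (s.ι.app b).right.hom (mkJ R b (MvPolynomial.X i))
      have e1 : gmap R s (big R b.S (MvPolynomial.X i)) =
          (s.ι.app (sg R i.1)).right.hom (mkJ R (sg R i.1) (xv R i.1)) := by
        unfold big gmap
        rw [MvPolynomial.rename_X]
        exact MvPolynomial.eval₂Hom_X' _ _ i.1
      rw [e1]
      have e2 := congrArg (fun k => k.right.hom (mkJ R (sg R i.1) (xv R i.1)))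
        (s.w (homOfLE (sg_le R b i)))
      refine e2.symm.trans ?_
      change (s.ι.app b).right.hom (((D R (A := A)).map (homOfLE (sg_le R b i))).right.hom
        (mkJ R (sg R i.1) (xv R i.1))) = _
      rw [D_map_mkJ, ren_xv]
  exact congrArg (fun k => k p) key

theorem gmap_ker (s : Cocone (D R (A := A))) :
    RingHom.ker (EV R A).toRingHom ≤ RingHom.ker (gmap R s) := by
  intro q hq
  obtain ⟨p, hp⟩ := MvPolynomial.exists_rename_eq_of_vars_subset_range q
    (Subtype.val : q.vars → A) Subtype.val_injective (fun x hx => ⟨⟨x, hx⟩, rfl⟩)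
  have hp' : big R q.vars p = q := hp
  have hker : p ∈ RingHom.ker (ev R A q.vars) := by
    rw [RingHom.mem_ker, ← EV_big, hp']
    exact hq
  let b : Idx R A := ⟨q.vars, Ideal.span {p}, Submodule.fg_span_singleton p,
    (Ideal.span_singleton_le_iff_mem _).2 hker⟩
  rw [RingHom.mem_ker, ← hp']
  rw [gmap_big R s b p]
  have : mkJ R b p = 0 := Ideal.Quotient.eq_zero_iff_mem.2 (Ideal.subset_span rfl)
  rw [this, map_zero]

/-- the descended ring map -/
noncomputable def dmap (s : Cocone (D R (A := A))) : A →+* s.pt.right :=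
  RingHom.liftOfSurjective (EV R A).toRingHom (EV_surjective R) ⟨gmap R s, gmap_ker R s⟩

theorem dmap_apply (s : Cocone (D R (A := A))) (x : MvPolynomial A R) :
    dmap R s (EV R A x) = gmap R s x :=
  RingHom.liftOfRightInverse_comp_apply _ _ _ _ x

theorem dmap_ev (s : Cocone (D R (A := A))) (b : Idx R A) (p : V R A b.S) :
    dmap R s (ev R A b.S p) = (s.ι.app b).right.hom (mkJ R b p) := by
  rw [← EV_big, dmap_apply, gmap_big]

theorem ev_xv (a : A) : ev R A (sg R a).S (xv R a) = a :=
  MvPolynomial.aeval_X _ _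

/-- colimit -/
noncomputable def isCol : IsColimit (coc R (A := A)) where
  desc s := Under.homMk (CommRingCat.ofHom (dmap R s)) (by
    ext r
    have h1 : algebraMap R A r = EV R A (MvPolynomial.C r) := ((EV R A).commutes r).symm
    change dmap R s (algebraMap R A r) = _
    rw [h1, dmap_apply]
    exact MvPolynomial.eval₂Hom_C _ _ r)
  fac s b := by
    ext x
    obtain ⟨x, rfl⟩ := mkJ_surjective R b x
    change dmap R s (ev R A b.S x) = _
    rw [dmap_ev]
  uniq s m hm := by
    have key : ∀ a : A, m.right.hom a = dmap R s a := by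
      intro a
      have h2 : dmap R s a = (s.ι.app (sg R a)).right.hom (mkJ R (sg R a) (xv R a)) := by
        rw [← dmap_ev, ev_xv]
      rw [h2, ← hm (sg R a)]
      have h3 : ((coc R (A := A)).ι.app (sg R a)).right.hom (mkJ R (sg R a) (xv R a)) = a :=
        (coc_app_mkJ R _ _).trans (ev_xv R a)
      exact (congrArg m.right.hom h3).symm
    ext a
    exact key a

end


/-- Every R-algebra A, with no finiteness assumption, is the colimit of a filtered system of finitely
presented R-algebras. (The published statement asserts that the category of all finitely presented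
R-algebras with a map to A is filtered with colimit A; this row states that some small filtered
system of finitely presented R-algebras has colimit A.) -/
theorem result (R A : Type u) [CommRing R] [CommRing A] [Algebra R A] :
    ∃ (I : Type u) (_ : SmallCategory I) (_ : IsFiltered I) (D : I ⥤ Under (CommRingCat.of R))
      (c : Cocone D) (_ : IsColimit c),
      (∀ i, (D.obj i).hom.hom.FinitePresentation) ∧
      Nonempty (c.pt ≅ Under.mk (CommRingCat.ofHom (algebraMap R A))) := by
  refine ⟨Idx R A, inferInstance, inferInstance, D R (A := A), coc R (A := A), isCol R, ?_,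
    ⟨Iso.refl _⟩⟩
  intro b
  change (algebraMap R (MvPolynomial b.S R ⧸ b.J)).FinitePresentation
  rw [RingHom.finitePresentation_algebraMap]
  exact Algebra.FinitePresentation.quotient b.fg

end Groth.Agent.S9183
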