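import Groth.Statements.S9188
-- import your own Groth.Agent.* helpers here
import Groth.Agent.Lib.Helper9.OpenImmDescendGen
import Groth.Agent.Lib.Helper9.DiagSquares
import Mathlib.AlgebraicGeometry.Morphisms.FormallyUnramified

set_option autoImplicit false
universe u
open CategoryTheory AlgebraicGeometry
open Lim

namespace Groth.Agent.S9188

/-- Let S = lim S_i be a cofiltered limit of schemes with affine transition morphisms, S_{i₀} a
quasi-compact quasi-separated stage, f₀ : X₀ → Y₀ a morphism of quasi-compact quasi-separated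
schemes over S_{i₀}, and f : X → Y its base change along S → S_{i₀} (base changes expressed by
pullback squares). If f₀ is locally of finite type and f is unramified (formally unramified; it is
locally of finite type as a base change of f₀), then for some index i over i₀ the base change f_i :
X_i → Y_i of f₀ along S_i → S_{i₀} is unramified, i.e. formally unramified (and locally of finite
type). -/
theorem result {I : Type u} [SmallCategory I] [IsCofiltered I]
    (D : I ⥤ Scheme.{u}) (c : Limits.Cone D) (hc : Limits.IsLimit c)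
    [∀ (i j : I) (f : i ⟶ j), IsAffineHom (D.map f)] (i₀ : I) [CompactSpace (D.obj i₀)]
    [QuasiSeparatedSpace (D.obj i₀)] {X₀ Y₀ : Scheme.{u}} (f₀ : X₀ ⟶ Y₀) (g₀ : Y₀ ⟶ D.obj i₀)
    [CompactSpace X₀] [QuasiSeparatedSpace X₀] [CompactSpace Y₀] [QuasiSeparatedSpace Y₀]
    [LocallyOfFiniteType f₀]
    {X Y : Scheme.{u}} (f : X ⟶ Y) (g : Y ⟶ c.pt) (qY : Y ⟶ Y₀) (qX : X ⟶ X₀)
    (hY : IsPullback qY g g₀ (c.π.app i₀)) (hX : IsPullback qX f f₀ qY) [FormallyUnramified f] :
    ∃ (i : I) (φ : i ⟶ i₀) (Xi Yi : Scheme.{u}) (fi : Xi ⟶ Yi) (gi : Yi ⟶ D.obj i) (pY : Yi ⟶ Y₀)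
      (pX : Xi ⟶ X₀), IsPullback pY gi g₀ (D.map φ) ∧ IsPullback pX fi f₀ pY ∧ FormallyUnramified fi := by
  have : QuasiCompact f₀ := inferInstance
  have : QuasiSeparated f₀ := inferInstance
  have : CompactSpace ↥(Limits.pullback f₀ f₀) :=
    QuasiCompact.compactSpace_of_compactSpace (Limits.pullback.fst f₀ f₀)
  have : QuasiSeparatedSpace ↥(Limits.pullback f₀ f₀) :=
    quasiSeparatedSpace_of_quasiSeparated (Limits.pullback.fst f₀ f₀)
  have : LocallyOfFinitePresentation (Limits.pullback.diagonal f₀) :=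
    Groth.Agent.Lib.helper7.locallyOfFinitePresentation_diagonal f₀
  have : LocallyOfFiniteType f :=
    MorphismProperty.of_isPullback (P := @LocallyOfFiniteType) hX inferInstance
  have hΔ : IsOpenImmersion (Limits.pullback.diagonal f) := inferInstance
  have : IsOpenImmersion (Groth.Agent.Lib.helper9.stageMap (c.π.app i₀)
      (Limits.pullback.diagonal f₀) (Groth.Agent.Lib.helper9.diagBase f₀ g₀)) :=
    (Groth.Agent.Lib.helper9.diagonal_iff_stageMap_diagonal @IsOpenImmersion hY hX).mp hΔ
  obtain ⟨l, hl⟩ := Groth.Agent.Lib.helper9.exists_isOpenImmersion_stageMap_of_lfp D c hc i₀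
    (Limits.pullback.diagonal f₀) (Groth.Agent.Lib.helper9.diagBase f₀ g₀)
  have hΔl : IsOpenImmersion (Limits.pullback.diagonal
      (Groth.Agent.Lib.helper9.stageMap (D.map l.hom) f₀ g₀)) :=
    (Groth.Agent.Lib.helper9.diagonal_iff_stageMap_diagonal @IsOpenImmersion
      (Groth.Agent.Lib.helper9.isPullback_stage_base (D.map l.hom) g₀)
      (Groth.Agent.Lib.helper9.isPullback_stageMap (D.map l.hom) f₀ g₀)).mpr hl
  exact ⟨l.left, l.hom, _, _, Groth.Agent.Lib.helper9.stageMap (D.map l.hom) f₀ g₀, _, _, _,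
    Groth.Agent.Lib.helper9.isPullback_stage_base (D.map l.hom) g₀,
    Groth.Agent.Lib.helper9.isPullback_stageMap (D.map l.hom) f₀ g₀, inferInstance⟩

end Groth.Agent.S9188
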