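import Groth.Statements.S9194
import Groth.Agent.Lib.Helper9.LimDescendEmpty
import Groth.Agent.Lib.Helper9.QuasiFiniteBC
import Groth.Agent.Lib.Helper9.ProConsMore
import Groth.Agent.Lib.Helper9.ProConsScheme
import Groth.Agent.Lib.Helper7.LfpOfComp
import Mathlib.AlgebraicGeometry.Morphisms.QuasiSeparated

set_option autoImplicit false
universe u
open CategoryTheory AlgebraicGeometry
open Lim

namespace Groth.Agent.S9194

/-- Let S = lim S_i be a cofiltered limit of schemes with affine transition morphisms, S_{i₀} a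
quasi-compact quasi-separated stage, f₀ : X₀ → Y₀ a morphism of quasi-compact quasi-separated
schemes over S_{i₀}, and f : X → Y its base change along S → S_{i₀} (base changes expressed by
pullback squares). If f₀ is locally of finite type and f is quasi-finite (f is locally of finite
type and quasi-compact, being a base change of f₀; the hypothesis is that its fibres are discrete),
then for some index i over i₀ the base change f_i : X_i → Y_i of f₀ along S_i → S_{i₀} is
quasi-finite: locally quasi-finite, and it is locally of finite type and quasi-compact as a base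
change of f₀. -/
theorem result {I : Type u} [SmallCategory I] [IsCofiltered I]
    (D : I ⥤ Scheme.{u}) (c : Limits.Cone D) (hc : Limits.IsLimit c)
    [∀ (i j : I) (f : i ⟶ j), IsAffineHom (D.map f)] (i₀ : I) [CompactSpace (D.obj i₀)]
    [QuasiSeparatedSpace (D.obj i₀)] {X₀ Y₀ : Scheme.{u}} (f₀ : X₀ ⟶ Y₀) (g₀ : Y₀ ⟶ D.obj i₀)
    [CompactSpace X₀] [QuasiSeparatedSpace X₀] [CompactSpace Y₀] [QuasiSeparatedSpace Y₀]
    [LocallyOfFiniteType f₀]
    {X Y : Scheme.{u}} (f : X ⟶ Y) (g : Y ⟶ c.pt) (qY : Y ⟶ Y₀) (qX : X ⟶ X₀)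
    (hY : IsPullback qY g g₀ (c.π.app i₀)) (hX : IsPullback qX f f₀ qY) [LocallyQuasiFinite f] :
    ∃ (i : I) (φ : i ⟶ i₀) (Xi Yi : Scheme.{u}) (fi : Xi ⟶ Yi) (gi : Yi ⟶ D.obj i) (pY : Yi ⟶ Y₀)
      (pX : Xi ⟶ X₀), IsPullback pY gi g₀ (D.map φ) ∧ IsPullback pX fi f₀ pY ∧ LocallyQuasiFinite fi := by
  have : QuasiCompact f₀ := inferInstance
  have : QuasiCompact f := MorphismProperty.of_isPullback (P := @QuasiCompact) hX inferInstance
  have HX : IsPullback qX (f ≫ g) (f₀ ≫ g₀) (c.π.app i₀) := hX.paste_vert hY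
  have hZ : ProCons.IsProConstructible ((f₀.quasiFiniteLocus : Set X₀)ᶜ) :=
    Groth.Agent.Lib.helper9.isProConstructible_of_isClosed
      f₀.quasiFiniteLocus.2.isClosed_compl
  have h : ∀ w : ↥(Limits.pullback (c.π.app i₀) (f₀ ≫ g₀)),
      (Limits.pullback.snd (c.π.app i₀) (f₀ ≫ g₀)) w ∉ (f₀.quasiFiniteLocus : Set X₀)ᶜ := by
    intro w hw
    apply hw
    have e := Scheme.Hom.comp_apply HX.flip.isoPullback.inv qX w
    rw [HX.flip.isoPullback_inv_snd] at e
    have hq := Groth.Agent.Lib.helper9.quasiFiniteAt_of_isPullback hX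
      (HX.flip.isoPullback.inv w)
    show f₀.QuasiFiniteAt ((Limits.pullback.snd (c.π.app i₀) (f₀ ≫ g₀)) w)
    rw [e]
    exact hq
  obtain ⟨i, φ, hi⟩ :=
    Groth.Agent.Lib.helper9.exists_forall_snd_notMem D c hc i₀ (f₀ ≫ g₀) _ hZ h
  refine ⟨i, φ, _, _, Groth.Agent.Lib.helper9.stageMap (D.map φ) f₀ g₀, _, _, _,
    Groth.Agent.Lib.helper9.isPullback_stage_base (D.map φ) g₀,
    Groth.Agent.Lib.helper9.isPullback_stageMap (D.map φ) f₀ g₀, ?_⟩
  apply Groth.Agent.Lib.helper9.locallyQuasiFinite_of_isPullback_of_forall_quasiFiniteAt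
    (Groth.Agent.Lib.helper9.isPullback_stageMap (D.map φ) f₀ g₀)
  intro x
  have hx := hi x
  rw [Set.notMem_compl_iff] at hx
  exact hx

end Groth.Agent.S9194
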