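import Groth.Statements.S9196
import Groth.Agent.LibFibreDimStage29
import Groth.Agent.Lib.Helper9.LimEmbDense
-- import your own Groth.Agent.* helpers here

set_option autoImplicit false
universe u
open CategoryTheory AlgebraicGeometry
open Lim

namespace Groth.Agent.S9196

/-- Let S = lim S_i be a cofiltered limit of schemes with affine transition morphisms, S_{i₀} a
quasi-compact quasi-separated stage, f₀ : X₀ → Y₀ a morphism of quasi-compact quasi-separated
schemes over S_{i₀}, and f : X → Y its base change along S → S_{i₀} (base changes expressed by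
pullback squares). Let d be a natural number. If f₀ is locally of finite presentation and f has
relative dimension d (every irreducible component of every fibre of f has dimension d), then for
some index i over i₀ the base change f_i : X_i → Y_i of f₀ along S_i → S_{i₀} has relative dimension
d. -/
theorem result {I : Type u} [SmallCategory I] [IsCofiltered I]
    (D : I ⥤ Scheme.{u}) (c : Limits.Cone D) (hc : Limits.IsLimit c)
    [∀ (i j : I) (f : i ⟶ j), IsAffineHom (D.map f)] (i₀ : I) [CompactSpace (D.obj i₀)]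
    [QuasiSeparatedSpace (D.obj i₀)] {X₀ Y₀ : Scheme.{u}} (f₀ : X₀ ⟶ Y₀) (g₀ : Y₀ ⟶ D.obj i₀)
    [CompactSpace X₀] [QuasiSeparatedSpace X₀] [CompactSpace Y₀] [QuasiSeparatedSpace Y₀]
    [LocallyOfFinitePresentation f₀] (d : ℕ)
    {X Y : Scheme.{u}} (f : X ⟶ Y) (g : Y ⟶ c.pt) (qY : Y ⟶ Y₀) (qX : X ⟶ X₀)
    (hY : IsPullback qY g g₀ (c.π.app i₀)) (hX : IsPullback qX f f₀ qY) (hd : Cyc.HasRelDim f d) :
    ∃ (i : I) (φ : i ⟶ i₀) (Xi Yi : Scheme.{u}) (fi : Xi ⟶ Yi) (gi : Yi ⟶ D.obj i) (pY : Yi ⟶ Y₀)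
      (pX : Xi ⟶ X₀), IsPullback pY gi g₀ (D.map φ) ∧ IsPullback pX fi f₀ pY ∧ Cyc.HasRelDim fi d := by
  have hlft : LocallyOfFiniteType f := MorphismProperty.of_isPullback (P := @LocallyOfFiniteType) hX
    inferInstance
  have hd' := (Groth.Agent.Lib.helper3.RelDim.hasRelDim_iff f d).mp hd
  have hZ : ProCons.IsProConstructible
      {x : X₀ | FlatMor.fibreDimAt f₀ x ∉ ({(d : WithBot ℕ∞)} : Set (WithBot ℕ∞))} := by
    apply Groth.Agent.Lib.helper9.isProConstructible_of_isLocallyConstructible
    have h1 := Groth.Agent.Lib.helper3.FibreDimCons.isLocallyConstructible_fibreDimAt_le f₀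
      (d : WithBot ℕ∞)
    have h2 : Topology.IsLocallyConstructible {x : X₀ | FlatMor.fibreDimAt f₀ x < (d : WithBot ℕ∞)} := by
      cases d with
      | zero =>
        simp_rw [Groth.Agent.Lib.helper3.FibreDimCons.lt_coe_zero_iff]
        exact Groth.Agent.Lib.helper3.FibreDimCons.isLocallyConstructible_fibreDimAt_le f₀ ⊥
      | succ k =>
        simp_rw [Groth.Agent.Lib.helper3.FibreDimCons.lt_coe_succ_iff]
        exact Groth.Agent.Lib.helper3.FibreDimCons.isLocallyConstructible_fibreDimAt_le f₀ k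
    have h3 := (Groth.Agent.Lib.helper3.FibreDimCons.isLocallyConstructible_compl h1).union h2
    convert h3 using 1
    ext x
    simp only [Set.mem_singleton_iff, Set.mem_ofPred_eq, Set.mem_union, Set.mem_compl_iff, not_le]
    exact ⟨fun h => (lt_or_gt_of_ne h).symm, fun h => h.elim (fun h => h.ne') (fun h => h.ne)⟩
  obtain ⟨i, φ, Xi, Yi, fi, gi, pY, pX, h1, h2, h3⟩ :=
    Groth.Agent.LibFibreDimStage29.exists_stage_forall_fibreDimAt_mem D c hc i₀ f₀ g₀
      {(d : WithBot ℕ∞)} hZ f g qY qX hY hX (fun x => hd' x)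
  have hlft' : LocallyOfFiniteType fi :=
    MorphismProperty.of_isPullback (P := @LocallyOfFiniteType) h2 inferInstance
  exact ⟨i, φ, Xi, Yi, fi, gi, pY, pX, h1, h2,
    (Groth.Agent.Lib.helper3.RelDim.hasRelDim_iff fi d).mpr (fun x => h3 x)⟩

end Groth.Agent.S9196
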