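import Groth.Statements.S9201
-- import your own Groth.Agent.* helpers here
import Groth.Agent.Lib.Helper9.ClosedImmStructure
import Mathlib.AlgebraicGeometry.Morphisms.Immersion

set_option autoImplicit false
universe u
open CategoryTheory AlgebraicGeometry
open Lim

namespace Groth.Agent.S9201

/-- Let S be a quasi-separated scheme and X = lim X_i a cofiltered limit of S-schemes X_i (a diagram
with a compatible family of structure maps to S) whose transition morphisms are closed immersions,
every X_i quasi-compact, quasi-separated and locally of finite type over S; the structure map X → S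
is the composite X → X_{i₀} → S for any index i₀. If X → S is an immersion, then X_i → S is an
immersion for all i beyond some index i₁. -/
theorem result {I : Type u} [SmallCategory I] [IsCofiltered I] (S : Scheme.{u}) [QuasiSeparatedSpace S]
    (D : I ⥤ Scheme.{u}) (t : D ⟶ (Functor.const I).obj S) (c : Limits.Cone D) (hc : Limits.IsLimit c)
    [∀ (i j : I) (a : i ⟶ j), IsClosedImmersion (D.map a)]
    [∀ i, CompactSpace (D.obj i)] [∀ i, QuasiSeparatedSpace (D.obj i)]
    [∀ i, LocallyOfFiniteType (t.app i)] (i₀ : I)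
    [IsImmersion (c.π.app i₀ ≫ t.app i₀)] :
    ∃ i₁ : I, ∀ (i : I) (_ : i ⟶ i₁), IsImmersion (t.app i) := by
  classical
  have hD' : ∀ {i j : I} (a : i ⟶ j), IsAffineHom (D.map a) := fun a => inferInstance
  have : CompactSpace c.pt := Scheme.compactSpace_of_isLimit D c hc
  let τ : ∀ i : I, D.obj i ⟶ S := fun i => t.app i
  let π : ∀ i : I, c.pt ⟶ D.obj i := fun i => c.π.app i
  have hτ : ∀ i, LocallyOfFiniteType (τ i) := fun i => ‹∀ i, LocallyOfFiniteType (t.app i)› i
  have hτmap : ∀ {i i' : I} (a : i ⟶ i'), D.map a ≫ τ i' = τ i := fun a =>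
    Groth.Agent.Lib.helper9.map_comp_structure S D t a
  let f : c.pt ⟶ S := π i₀ ≫ τ i₀
  have hf : IsImmersion f := ‹IsImmersion (c.π.app i₀ ≫ t.app i₀)›
  have hπτ : ∀ i, π i ≫ τ i = f := fun i =>
    Groth.Agent.Lib.helper9.π_comp_structure_eq S D t c i i₀
  obtain ⟨U', Z, hU', hZ, hfUZ⟩ := f.isLocallyClosed_range
  have hrc : IsCompact (Set.range f) := isCompact_range f.continuous
  obtain ⟨W, hWc, hWo, hfW, hWU'⟩ := PrespectralSpace.exists_isCompact_and_isOpen_between hrc hU'
    (hfUZ ▸ Set.inter_subset_left)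
  let Wo : S.Opens := ⟨W, hWo⟩
  have hfWZ : Set.range f = W ∩ Z := by
    apply Set.Subset.antisymm
    · exact fun y hy => ⟨hfW hy, (hfUZ ▸ hy : y ∈ U' ∩ Z).2⟩
    · rintro y ⟨hy1, hy2⟩
      rw [hfUZ]
      exact ⟨hWU' hy1, hy2⟩
  -- a stage all of whose points land in `W`
  have htop : π i₀ ⁻¹ᵁ (τ i₀ ⁻¹ᵁ Wo) = ⊤ := by
    rw [eq_top_iff]
    intro x _
    show f x ∈ W
    exact hfW ⟨x, rfl⟩
  obtain ⟨j, fj, hj⟩ := exists_map_eq_top D c hc (τ i₀ ⁻¹ᵁ Wo) htop
  have hrange : ∀ k : Over j, Set.range (τ k.left) ⊆ Set.range Wo.ι := by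
    intro k
    rintro _ ⟨x, rfl⟩
    have h1 : (D.map k.hom) x ∈ D.map fj ⁻¹ᵁ (τ i₀ ⁻¹ᵁ Wo) := hj ▸ trivial
    have h2 : τ k.left = D.map k.hom ≫ D.map fj ≫ τ i₀ := by
      rw [hτmap fj, hτmap k.hom]
    rw [Scheme.Opens.range_ι, h2]
    exact h1
  -- the restricted system over `W`
  let D₂ : Over j ⥤ Scheme.{u} := Over.forget j ⋙ D
  let c₂ : Limits.Cone D₂ := c.whisker (Over.forget j)
  have hc₂ : Limits.IsLimit c₂ := (Functor.Initial.isLimitWhiskerEquiv (Over.forget j) c).symm hc
  let lft : ∀ k : Over j, D.obj k.left ⟶ Wo.toScheme := fun k =>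
    IsOpenImmersion.lift Wo.ι (τ k.left) (hrange k)
  have hlft : ∀ k : Over j, lft k ≫ Wo.ι = τ k.left := fun k =>
    IsOpenImmersion.lift_fac _ _ _
  have hnat : ∀ {k k' : Over j} (a : k ⟶ k'), D.map a.left ≫ lft k' = lft k := by
    intro k k' a
    rw [← cancel_mono Wo.ι, Category.assoc, hlft, hlft, hτmap]
  let t₂ : D₂ ⟶ (Functor.const (Over j)).obj Wo.toScheme :=
    { app := fun k => lft k
      naturality := by
        intro k k' a
        exact (hnat a).trans (Category.comp_id _).symm }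
  have : CompactSpace ↥Wo.toScheme := isCompact_iff_compactSpace.mp hWc
  have : QuasiSeparatedSpace ↥Wo.toScheme := quasiSeparatedSpace_of_quasiSeparated Wo.ι
  have : ∀ (k k' : Over j) (a : k ⟶ k'), IsClosedImmersion (D₂.map a) := fun k k' a =>
    (inferInstance : IsClosedImmersion (D.map a.left))
  have : ∀ k : Over j, CompactSpace (D₂.obj k) := fun k =>
    (inferInstance : CompactSpace (D.obj k.left))
  have : ∀ k : Over j, QuasiSeparatedSpace (D₂.obj k) := fun k =>
    (inferInstance : QuasiSeparatedSpace (D.obj k.left))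
  have hlftft : ∀ k : Over j, LocallyOfFiniteType (lft k) := by
    intro k
    have : LocallyOfFiniteType (lft k ≫ Wo.ι) := by
      rw [hlft]
      exact hτ k.left
    exact locallyOfFiniteType_of_comp (lft k) Wo.ι
  have : ∀ k : Over j, LocallyOfFiniteType (t₂.app k) := hlftft
  let k₀ : Over j := Over.mk (𝟙 j)
  let g : c.pt ⟶ Wo.toScheme := π j ≫ lft k₀
  have hg : g ≫ Wo.ι = f := by
    rw [Category.assoc, hlft]
    exact hπτ j
  have hgcl : IsClosedImmersion g := by
    have : IsPreimmersion (g ≫ Wo.ι) := by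
      rw [hg]
      infer_instance
    have : IsPreimmersion g := IsPreimmersion.of_comp g Wo.ι
    refine IsClosedImmersion.of_isPreimmersion _ ?_
    have hr : Set.range g = Wo.ι ⁻¹' Z := by
      ext y
      constructor
      · rintro ⟨x, rfl⟩
        have e := Scheme.Hom.comp_apply g Wo.ι x
        rw [hg] at e
        have h1 : f x ∈ W ∩ Z := hfWZ ▸ ⟨x, rfl⟩
        show Wo.ι _ ∈ Z
        rw [← e]
        exact h1.2
      · intro hy
        have h1 : Wo.ι y ∈ Set.range f := by
          rw [hfWZ]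
          exact ⟨y.2, hy⟩
        obtain ⟨x, hx⟩ := h1
        refine ⟨x, Wo.ι.isOpenEmbedding.injective ?_⟩
        have e := Scheme.Hom.comp_apply g Wo.ι x
        rw [hg] at e
        exact e.symm.trans hx
    rw [hr]
    exact hZ.preimage Wo.ι.continuous
  have : IsClosedImmersion (c₂.π.app k₀ ≫ t₂.app k₀) := hgcl
  obtain ⟨k₁, hk₁⟩ := Groth.Agent.Lib.helper9.exists_forall_isClosedImmersion_structure
    Wo.toScheme D₂ t₂ c₂ hc₂ k₀
  refine ⟨k₁.left, fun i a => ?_⟩
  let k : Over j := Over.mk (a ≫ k₁.hom)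
  have hk : IsClosedImmersion (lft k) := hk₁ k (Over.homMk a)
  have e : τ i = lft k ≫ Wo.ι := (hlft k).symm
  show IsImmersion (τ i)
  rw [e]
  infer_instance

end Groth.Agent.S9201
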