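import Groth.Statements.S9203
-- import your own Groth.Agent.* helpers here
import Groth.Agent.Lib.Helper9.ChevAff2
import Groth.Agent.Lib.Helper13.ProperFamily

set_option autoImplicit false
universe u v
open CategoryTheory AlgebraicGeometry
open Lim

namespace Groth.Agent.S9203

/-- Suppose a scheme X is covered, as a topological space, by finitely many closed subschemes each of
which is affine: there are closed immersions Z_k → X, indexed by a finite type, with each Z_k affine
and whose images cover X. Then X is affine. -/
theorem result (X : Scheme.{u}) {κ : Type v} [Finite κ]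
    (Z : κ → Scheme.{u}) (ι : ∀ k, Z k ⟶ X) [∀ k, IsClosedImmersion (ι k)] [∀ k, IsAffine (Z k)]
    (hcov : ∀ x : X, ∃ k, x ∈ Set.range (ι k).base) : IsAffine X := by
  classical
  have : Small.{u} κ := inferInstance
  have : IsAffine (∐ Z) := inferInstance
  let p : ∐ Z ⟶ X := Limits.Sigma.desc ι
  have : ∀ k, UniversallyClosed (Limits.Sigma.ι Z k ≫ p) := fun k => by
    have : Limits.Sigma.ι Z k ≫ p = ι k := Limits.Sigma.ι_desc _ _
    rw [this]
    infer_instance
  have : UniversallyClosed p :=
    Groth.Agent.Lib.helper13.universallyClosed_of_family p Z (Limits.Sigma.ι Z) (fun w => by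
      obtain ⟨k, t, ht⟩ := (AlgebraicGeometry.sigmaOpenCover Z).exists_eq w
      exact ⟨k, t, ht⟩)
  have : Surjective p := Surjective.sigmaDesc_of_union_range_eq_univ (by
    rw [Set.eq_univ_iff_forall]
    intro x
    obtain ⟨k, hk⟩ := hcov x
    exact Set.mem_iUnion.mpr ⟨k, hk⟩)
  exact Groth.Agent.Lib.helper9.ChevAff.isAffine_of_surjective_universallyClosed p

end Groth.Agent.S9203
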