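import Groth.Statements.S9204
import Groth.Agent.Lib.Helper11.ThickAmp4
import Groth.Agent.Lib.Helper12.AmpleQAff

set_option autoImplicit false
universe u
open CategoryTheory AlgebraicGeometry
open Lim

namespace Groth.Agent.S9204

/-- Suppose the closed immersion i : Z → X of schemes is a homeomorphism on the level of topological
spaces. Then Z is quasi-affine exactly when X is. No Noetherian hypothesis is imposed. -/
theorem result {Z X : Scheme.{u}} (i : Z ⟶ X) [IsClosedImmersion i]
    (hi : IsHomeomorph i.base) : X.IsQuasiAffine ↔ Z.IsQuasiAffine := by
  have hs : Function.Surjective i := hi.surjective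
  have e : (Scheme.Modules.pullback i).obj (Coh.structureModule X) ≅ Coh.structureModule Z :=
    Groth.Agent.Lib.helper11.InvMod.pullbackUnitIso i
  constructor
  · intro h
    haveI : CompactSpace Z := by
      haveI : CompactSpace X := inferInstance
      exact QuasiCompact.compactSpace_of_compactSpace i
    have h1 : CohB1.IsAmple (Coh.structureModule X) :=
      Groth.Agent.Lib.helper12.AmpleQAff.isAmple_structureModule_of_isQuasiAffine
    have h2 := Groth.Agent.Lib.helper12.PullAmple.isAmple_pullback_of_isAffineHom i h1
    exact Groth.Agent.Lib.helper12.AmpleQAff.isQuasiAffine_iff_isAmple_structureModule.mpr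
      (Groth.Agent.Lib.helper12.AmplePow.isAmple_of_iso e h2)
  · intro h
    haveI : CompactSpace X := by
      constructor
      rw [← hs.range_eq]
      exact isCompact_range i.continuous
    have h1 : CohB1.IsAmple (Coh.structureModule Z) :=
      Groth.Agent.Lib.helper12.AmpleQAff.isAmple_structureModule_of_isQuasiAffine
    have h2 := Groth.Agent.Lib.helper12.AmplePow.isAmple_of_iso e.symm h1
    exact Groth.Agent.Lib.helper12.AmpleQAff.isQuasiAffine_iff_isAmple_structureModule.mpr
      (Groth.Agent.Lib.helper11.ThickAmp.isAmple_of_thickening i hs
        (Groth.Agent.Lib.helper11.InvMod.isInvertible_structureModule X) h2)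

end Groth.Agent.S9204
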