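import Groth.Statements.S9206
import Mathlib
-- import your own Groth.Agent.* helpers here

set_option autoImplicit false
universe u
open CategoryTheory AlgebraicGeometry
open Lim

namespace Groth.Agent.S9206

section
open Limits

theorem exists_frac {X : Scheme.{u}} {U : X.Opens} (hU : IsAffineOpen U) (s : X) (hs : s ∈ U)
    (a : X.residueField s) :
    ∃ x y : Γ(X, U), X.evaluation U s hs y ≠ 0 ∧
      a * X.evaluation U s hs y = X.evaluation U s hs x := by
  obtain ⟨g, rfl⟩ := X.residue_surjective s a
  let _ := X.presheaf.algebra_section_stalk ⟨s, hs⟩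
  have hloc := hU.isLocalization_stalk ⟨s, hs⟩
  obtain ⟨x, y, rfl⟩ := IsLocalization.exists_mk'_eq
    (hU.primeIdealOf ⟨s, hs⟩).asIdeal.primeCompl g
  refine ⟨x, y.1, ?_, ?_⟩
  · have hunit : IsUnit (algebraMap Γ(X, U) (X.presheaf.stalk s) y.1) :=
      IsLocalization.map_units _ y
    have h2 : IsUnit ((X.residue s).hom (algebraMap Γ(X, U) (X.presheaf.stalk s) y.1)) :=
      hunit.map _
    exact h2.ne_zero
  · show (X.residue s).hom _ * (X.residue s).hom (algebraMap Γ(X, U) (X.presheaf.stalk s) y.1) =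
      (X.residue s).hom (algebraMap Γ(X, U) (X.presheaf.stalk s) x)
    rw [← map_mul, IsLocalization.mk'_spec]

theorem affine_case {I : Type u} [SmallCategory I] [IsCofiltered I] (D : I ⥤ Scheme.{u})
    (c : Cone D) (hc : IsLimit c) [∀ i, IsAffine (D.obj i)] (s : c.pt)
    (a : c.pt.residueField s) :
    ∃ (i : I) (b : (D.obj i).residueField ((c.π.app i).base s)),
      ((c.π.app i).residueFieldMap s).hom b = a := by
  have : IsAffine c.pt := Scheme.isAffine_of_isLimit _ hc
  obtain ⟨x, y, hy, hxy⟩ := exists_frac (isAffineOpen_top c.pt) s trivial a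
  obtain ⟨i, xi, hxi⟩ := exists_appTop_π_eq_of_isAffine_of_isLimit D c hc x
  obtain ⟨j, yj, hyj⟩ := exists_appTop_π_eq_of_isAffine_of_isLimit D c hc y
  let k := IsCofiltered.min i j
  let fi : k ⟶ i := IsCofiltered.minToLeft i j
  let fj : k ⟶ j := IsCofiltered.minToRight i j
  have hxk : (c.π.app k).appTop ((D.map fi).appTop xi) = x := by
    rw [← hxi, ← c.w fi, Scheme.Hom.comp_appTop]
    rfl
  have hyk : (c.π.app k).appTop ((D.map fj).appTop yj) = y := by
    rw [← hyj, ← c.w fj, Scheme.Hom.comp_appTop]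
    rfl
  refine ⟨k, (D.obj k).Γevaluation _ ((D.map fi).appTop xi) /
    (D.obj k).Γevaluation _ ((D.map fj).appTop yj), ?_⟩
  rw [map_div₀]
  have h1 := Scheme.Γevaluation_naturality_apply (c.π.app k) s ((D.map fi).appTop xi)
  have h2 := Scheme.Γevaluation_naturality_apply (c.π.app k) s ((D.map fj).appTop yj)
  rw [hxk] at h1
  rw [hyk] at h2
  have h3 : (c.pt.evaluation ⊤ s trivial).hom x / (c.pt.evaluation ⊤ s trivial).hom y = a := by
    rw [div_eq_iff hy]
    exact hxy.symm
  erw [h1, h2]
  exact h3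

theorem main {I : Type u} [SmallCategory I] [IsCofiltered I]
    (D : I ⥤ Scheme.{u}) (c : Limits.Cone D) (hc : Limits.IsLimit c)
    [∀ (i j : I) (f : i ⟶ j), IsAffineHom (D.map f)] (s : c.pt) (a : c.pt.residueField s) :
    ∃ (i : I) (b : (D.obj i).residueField ((c.π.app i).base s)),
      ((c.π.app i).residueFieldMap s).hom b = a := by
  obtain ⟨i₀⟩ := IsCofiltered.nonempty (C := I)
  obtain ⟨_, ⟨U, hU : IsAffineOpen U, rfl⟩, hsU, -⟩ :=
    (D.obj i₀).isBasis_affineOpens.exists_subset_of_mem_open
      (Set.mem_univ ((c.π.app i₀).base s)) isOpen_univ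
  have haff : ∀ j : Over i₀, IsAffine ((opensDiagram D i₀ U).obj j) :=
    fun j => hU.preimage (D.map _)
  -- the point of the open subscheme
  obtain ⟨s', rfl⟩ : ∃ s' : (c.π.app i₀ ⁻¹ᵁ U).toScheme, (c.π.app i₀ ⁻¹ᵁ U).ι.base s' = s :=
    ⟨⟨s, hsU⟩, rfl⟩
  obtain ⟨j, b', hb'⟩ := affine_case (opensDiagram D i₀ U) (opensCone D c i₀ U)
    (isLimitOpensCone D c hc i₀ U) s' (((c.π.app i₀ ⁻¹ᵁ U).ι.residueFieldMap s').hom a)
  -- compat
  let ιj : (opensDiagram D i₀ U).obj j ⟶ D.obj j.left := (D.map j.hom ⁻¹ᵁ U).ι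
  have hιj : IsOpenImmersion ιj := inferInstanceAs (IsOpenImmersion (D.map j.hom ⁻¹ᵁ U).ι)
  let ι : (opensCone D c i₀ U).pt ⟶ c.pt := (c.π.app i₀ ⁻¹ᵁ U).ι
  have hcompat : (opensCone D c i₀ U).π.app j ≫ ιj = ι ≫ c.π.app j.left := by
    simp only [opensCone]
    exact Scheme.Hom.resLE_comp_ι _ _
  -- the predicate
  have hQ : ∀ (h : (opensCone D c i₀ U).pt ⟶ D.obj j.left),
      h = (opensCone D c i₀ U).π.app j ≫ ιj →
      ∃ b : (D.obj j.left).residueField (h.base s'),
        (h.residueFieldMap s').hom b = (ι.residueFieldMap s').hom a := by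
    rintro h rfl
    have h1 : (ιj.residueFieldMap (((opensCone D c i₀ U).π.app j).base s')).hom
        ((inv (ιj.residueFieldMap (((opensCone D c i₀ U).π.app j).base s'))).hom b') = b' := by
      have h := IsIso.inv_hom_id (ιj.residueFieldMap (((opensCone D c i₀ U).π.app j).base s'))
      have h' := congrArg (fun φ : ((opensDiagram D i₀ U).obj j).residueField
        (((opensCone D c i₀ U).π.app j).base s') ⟶ ((opensDiagram D i₀ U).obj j).residueField
        (((opensCone D c i₀ U).π.app j).base s') => φ.hom b') h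
      simpa using h'
    refine ⟨(inv (ιj.residueFieldMap
      (((opensCone D c i₀ U).π.app j).base s'))).hom b', ?_⟩
    rw [Scheme.residueFieldMap_comp]
    show (((opensCone D c i₀ U).π.app j).residueFieldMap s').hom
      ((ιj.residueFieldMap (((opensCone D c i₀ U).π.app j).base s')).hom _) = _
    rw [h1]
    exact hb'
  obtain ⟨b, hb⟩ := hQ (ι ≫ c.π.app j.left) hcompat.symm
  refine ⟨j.left, b, ?_⟩
  rw [Scheme.residueFieldMap_comp] at hb
  change (ι.residueFieldMap s').hom (((c.π.app j.left).residueFieldMap (ι.base s')).hom b) = _ at hb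
  exact (ι.residueFieldMap s').hom.injective hb

end

/-- Let S = lim S_i be a cofiltered limit of schemes with affine transition morphisms and let s be a
point of S with images s_i in S_i. Then the residue field κ(s) is the colimit of the residue fields
κ(s_i): every element of κ(s) is the image of an element of κ(s_i) for some i under the map of
residue fields induced by S → S_i (the maps κ(s_i) → κ(s) being injective, this says that the
canonical map from the colimit is an isomorphism). -/
theorem result {I : Type u} [SmallCategory I] [IsCofiltered I]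
    (D : I ⥤ Scheme.{u}) (c : Limits.Cone D) (hc : Limits.IsLimit c)
    [∀ (i j : I) (f : i ⟶ j), IsAffineHom (D.map f)] (s : c.pt) (a : c.pt.residueField s) :
    ∃ (i : I) (b : (D.obj i).residueField ((c.π.app i).base s)), ((c.π.app i).residueFieldMap s).hom b = a := by
  exact main D c hc s a

end Groth.Agent.S9206
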