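import Groth.Statements.S9208
-- import your own Groth.Agent.* helpers here
import Groth.Agent.Lib.Helper9.FPColim2

set_option autoImplicit false
universe u
open CategoryTheory AlgebraicGeometry
open Lim

namespace Groth.Agent.S9208

/-- Let f : X → S be a morphism of schemes. Suppose that for every inverse system (T_j) of affine
schemes over S indexed by a nonempty directed preordered set, with limit T, the canonical map
colim_j Mor_S(T_j, X) → Mor_S(T, X) is surjective: every S-morphism T → X is the composite of the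
projection T → T_j with an S-morphism T_j → X for some j. Then f is locally of finite presentation
(surjectivity alone suffices; bijectivity is not required). -/
theorem result {X S : Scheme.{u}} (f : X ⟶ S)
    (h : ∀ (J : Type u) [Preorder J] [IsDirected J (· ≤ ·)] [Nonempty J] (D : Jᵒᵖ ⥤ Scheme.{u})
      (t : D ⟶ (Functor.const Jᵒᵖ).obj S) (c : Limits.Cone D) (_ : Limits.IsLimit c),
      (∀ j, IsAffine (D.obj j)) → ∀ (j₀ : Jᵒᵖ) (g : c.pt ⟶ X), g ≫ f = c.π.app j₀ ≫ t.app j₀ →
        ∃ (j : Jᵒᵖ) (gj : D.obj j ⟶ X), gj ≫ f = t.app j ∧ c.π.app j ≫ gj = g) :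
    LocallyOfFinitePresentation f := by
  apply Groth.Agent.Lib.helper9.FPColim.locallyOfFinitePresentation_of_liftProp
  intro V hV J _ _ _ F α c hc φ hφ g hg
  let D : Jᵒᵖ ⥤ Scheme.{u} := F.op ⋙ Scheme.Spec
  let t : D ⟶ (Functor.const Jᵒᵖ).obj S :=
    { app := fun j => Spec.map (α.app j.unop) ≫ hV.fromSpec
      naturality := fun j j' m => by
        have h1 := α.naturality m.unop
        simp only [Functor.const_obj_obj, Functor.const_obj_map, Category.id_comp] at h1
        show Spec.map (F.map m.unop) ≫ Spec.map (α.app j'.unop) ≫ hV.fromSpec =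
          (Spec.map (α.app j.unop) ≫ hV.fromSpec) ≫ 𝟙 S
        rw [Category.comp_id, ← Spec.map_comp_assoc, ← h1] }
  let c' : Limits.Cone D := Scheme.Spec.mapCone c.op
  have hc' : Limits.IsLimit c' := Limits.isLimitOfPreserves Scheme.Spec hc.op
  let j₀ : Jᵒᵖ := Opposite.op (Classical.arbitrary J)
  have hg' : g ≫ f = c'.π.app j₀ ≫ t.app j₀ := by
    show g ≫ f = Spec.map (c.ι.app j₀.unop) ≫ Spec.map (α.app j₀.unop) ≫ hV.fromSpec
    rw [← Spec.map_comp_assoc, hφ, hg]
  obtain ⟨j, gj, h1, h2⟩ := h J D t c' hc' (fun j => by show IsAffine (Spec _); infer_instance)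
    j₀ g hg'
  exact ⟨j.unop, gj, h1, h2⟩

end Groth.Agent.S9208
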