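import Groth.Statements.S9210
import Mathlib
import Groth.Agent.S2334
import Groth.Agent.S2121
import Groth.Agent.S4450
-- import your own Groth.Agent.* helpers here

set_option autoImplicit false
universe u
open CategoryTheory CategoryTheory.Limits AlgebraicGeometry
open Lim

namespace Groth.Agent.S9210

/-- Let S be a locally Noetherian scheme, f : X → S a morphism locally of finite type and h : U → X a
morphism of finite type whose image is dense in X. Suppose that for every discrete valuation ring A
with fraction field K and every commutative square formed by a morphism Spec K → U → X and a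
morphism Spec A → S, there is at most one morphism Spec A → X making the resulting diagram commute.
Then f is separated. -/
theorem result {X S U : Scheme.{u}} [IsLocallyNoetherian S] (f : X ⟶ S)
    [LocallyOfFiniteType f] (h : U ⟶ X) [LocallyOfFiniteType h] [QuasiCompact h] (hd : DenseRange h.base)
    (H : ∀ (A : Type u) [CommRing A] [IsDomain A] [IsDiscreteValuationRing A]
      (u : Spec (CommRingCat.of (FractionRing A)) ⟶ U) (y : Spec (CommRingCat.of A) ⟶ S),
      u ≫ h ≫ f = Spec.map (CommRingCat.ofHom (algebraMap A (FractionRing A))) ≫ y →
        ∀ l₁ l₂ : Spec (CommRingCat.of A) ⟶ X, l₁ ≫ f = y → Spec.map (CommRingCat.ofHom (algebraMap A (FractionRing A))) ≫ l₁ = u ≫ h →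
          l₂ ≫ f = y → Spec.map (CommRingCat.ofHom (algebraMap A (FractionRing A))) ≫ l₂ = u ≫ h → l₁ = l₂) :
    IsSeparated f := by
  haveI : IsLocallyNoetherian X := LocallyOfFiniteType.isLocallyNoetherian f
  haveI : QuasiSeparated f := inferInstance
  haveI : QuasiCompact (pullback.diagonal f) := QuasiSeparated.quasiCompact_diagonal
  haveI : IsLocallyNoetherian (pullback f f) :=
    LocallyOfFiniteType.isLocallyNoetherian (pullback.fst f f ≫ f)
  haveI : LocallyOfFiniteType (pullback.diagonal f) := inferInstance
  let p : U ⟶ pullback f f := h ≫ pullback.diagonal f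
  haveI : LocallyOfFiniteType p := inferInstance
  haveI : QuasiCompact p := inferInstance
  refine ⟨?_⟩
  apply IsClosedImmersion.of_isPreimmersion
  apply isClosed_of_closure_subset
  intro z hz
  -- the range of `p` is dense in the range of the diagonal
  have hsub : Set.range (pullback.diagonal f) ⊆ closure (Set.range p) := by
    rintro _ ⟨x, rfl⟩
    have hx : x ∈ closure (Set.range h) := hd x
    have := image_closure_subset_closure_image (pullback.diagonal f).continuous ⟨x, hx, rfl⟩
    rw [← Set.range_comp] at this
    exact this
  have hz' : z ∈ closure (Set.range p) := closure_minimal hsub isClosed_closure hz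
  obtain ⟨u, hu⟩ := Groth.Agent.S2121.exists_specializes_of_mem_closure p z hz'
  by_cases hne : z = p u
  · exact ⟨h u, hne.symm⟩
  obtain ⟨A, hA, hdvr, hcl, hgen⟩ := Groth.Agent.S4450.result p u z hu hne
  obtain ⟨e, he⟩ := Groth.Agent.S2334.fracRestrict_eq A
  have hfst : Spec.map (CommRingCat.ofHom A.subtype) ≫ hA ≫ pullback.fst f f =
      U.fromSpecResidueField u ≫ h := by
    rw [← Category.assoc, hgen]
    simp only [p, Category.assoc, pullback.diagonal_fst, Category.comp_id]
  have hsnd : Spec.map (CommRingCat.ofHom A.subtype) ≫ hA ≫ pullback.snd f f =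
      U.fromSpecResidueField u ≫ h := by
    rw [← Category.assoc, hgen]
    simp only [p, Category.assoc, pullback.diagonal_snd, Category.comp_id]
  have h12 : hA ≫ pullback.fst f f = hA ≫ pullback.snd f f := by
    refine H A (e ≫ U.fromSpecResidueField u) ((hA ≫ pullback.fst f f) ≫ f) ?_ _ _ rfl ?_ ?_ ?_
    · rw [he]
      simp only [Category.assoc]
      rw [reassoc_of% hfst]
    · rw [he, Category.assoc, hfst, Category.assoc]
    · rw [Category.assoc, Category.assoc, pullback.condition]
    · rw [he, Category.assoc, hsnd, Category.assoc]
  have hh : hA = (hA ≫ pullback.fst f f) ≫ pullback.diagonal f := by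
    apply pullback.hom_ext
    · rw [Category.assoc, pullback.diagonal_fst, Category.comp_id]
    · rw [Category.assoc, pullback.diagonal_snd, Category.comp_id, h12]
  refine ⟨(hA ≫ pullback.fst f f) (IsLocalRing.closedPoint A), ?_⟩
  rw [← hcl]
  conv_rhs => rw [hh]
  rfl

end Groth.Agent.S9210
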