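import Groth.Statements.S9211
import Mathlib
import Groth.Agent.S2121
import Groth.Agent.S4450
-- import your own Groth.Agent.* helpers here

set_option autoImplicit false
universe u
open CategoryTheory CategoryTheory.Limits AlgebraicGeometry
open Lim

namespace Groth.Agent.S9211

/-- Let S be a locally Noetherian scheme and f : X → S a morphism locally of finite type. Then f is
separated if and only if the following uniqueness holds: for every generic point η of an irreducible
component of X, every discrete valuation ring A contained in the residue field κ(η) with fraction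
field κ(η) (a valuation subring of κ(η) which is a discrete valuation ring), and every pair of
morphisms Spec A → X with the same composite to S and both restricting on Spec κ(η) to the canonical
morphism Spec κ(η) → X, the two morphisms coincide. -/
theorem result {X S : Scheme.{u}} [IsLocallyNoetherian S] (f : X ⟶ S)
    [LocallyOfFiniteType f] :
    IsSeparated f ↔ ∀ (η : X), closure {η} ∈ irreducibleComponents (X : Type u) →
      ∀ (A : ValuationSubring (X.residueField η)), IsDiscreteValuationRing A →
        ∀ l₁ l₂ : Spec (CommRingCat.of A) ⟶ X, l₁ ≫ f = l₂ ≫ f →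
          Spec.map (CommRingCat.ofHom A.subtype) ≫ l₁ = X.fromSpecResidueField η →
          Spec.map (CommRingCat.ofHom A.subtype) ≫ l₂ = X.fromSpecResidueField η → l₁ = l₂ := by
  constructor
  · intro hsep η _ A _ l₁ l₂ hf h1 h2
    have huniq := IsSeparated.valuativeCriterion f
    let Sq : ValuativeCommSq f :=
      { R := A
        K := X.residueField η
        i₁ := X.fromSpecResidueField η
        i₂ := l₁ ≫ f
        commSq := ⟨by
          have : algebraMap A (X.residueField η) = A.subtype := rfl
          rw [this, ← Category.assoc, h1]⟩ }
    have hsub := huniq Sq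
    let s₁ : Sq.commSq.LiftStruct := ⟨l₁, h1, rfl⟩
    let s₂ : Sq.commSq.LiftStruct := ⟨l₂, h2, hf.symm⟩
    exact congrArg CommSq.LiftStruct.l (Subsingleton.elim s₁ s₂)
  · intro H
    haveI : IsLocallyNoetherian X := LocallyOfFiniteType.isLocallyNoetherian f
    haveI : QuasiSeparated f := inferInstance
    haveI : QuasiCompact (pullback.diagonal f) := QuasiSeparated.quasiCompact_diagonal
    haveI : IsLocallyNoetherian (pullback f f) :=
      LocallyOfFiniteType.isLocallyNoetherian (pullback.fst f f ≫ f)
    haveI : LocallyOfFiniteType (pullback.diagonal f) := inferInstance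
    refine ⟨?_⟩
    apply IsClosedImmersion.of_isPreimmersion
    apply isClosed_of_closure_subset
    intro z hz
    obtain ⟨x, hx⟩ := Groth.Agent.S2121.exists_specializes_of_mem_closure
      (pullback.diagonal f) z hz
    -- a generic point of an irreducible component specializing to `x`
    obtain ⟨η, hη, hηx⟩ : ∃ η : X, closure {η} ∈ irreducibleComponents (X : Type u) ∧ η ⤳ x := by
      have hZ := irreducibleComponent_mem_irreducibleComponents x
      obtain ⟨η, hgen⟩ := (QuasiSober.sober (hZ.1) isClosed_irreducibleComponent)
      refine ⟨η, ?_, ?_⟩
      · rw [hgen.def]; exact hZ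
      · rw [specializes_iff_mem_closure, hgen.def]
        exact mem_irreducibleComponent
    have hspec : (pullback.diagonal f) η ⤳ z := (hηx.map (pullback.diagonal f).continuous).trans hx
    by_cases hne : z = (pullback.diagonal f) η
    · exact ⟨η, hne.symm⟩
    obtain ⟨A, hA, hdvr, hcl, hgen⟩ := Groth.Agent.S4450.result (pullback.diagonal f) η z hspec hne
    have hfst : Spec.map (CommRingCat.ofHom A.subtype) ≫ hA ≫ pullback.fst f f =
        X.fromSpecResidueField η := by
      rw [← Category.assoc, hgen, Category.assoc, pullback.diagonal_fst, Category.comp_id]
    have hsnd : Spec.map (CommRingCat.ofHom A.subtype) ≫ hA ≫ pullback.snd f f =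
        X.fromSpecResidueField η := by
      rw [← Category.assoc, hgen, Category.assoc, pullback.diagonal_snd, Category.comp_id]
    have h12 : hA ≫ pullback.fst f f = hA ≫ pullback.snd f f := by
      refine H η hη A hdvr _ _ ?_ hfst hsnd
      rw [Category.assoc, Category.assoc, pullback.condition]
    have hh : hA = (hA ≫ pullback.fst f f) ≫ pullback.diagonal f := by
      apply pullback.hom_ext
      · rw [Category.assoc, pullback.diagonal_fst, Category.comp_id]
      · rw [Category.assoc, pullback.diagonal_snd, Category.comp_id, h12]
    refine ⟨(hA ≫ pullback.fst f f) (IsLocalRing.closedPoint A), ?_⟩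
    rw [← hcl]
    conv_rhs => rw [hh]
    rfl

end Groth.Agent.S9211
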