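import Groth.Statements.S9214
-- import your own Groth.Agent.* helpers here
import Groth.Agent.Lib.Helper9.AbsApprox29
import Groth.Agent.Lib.Helper9.FPDescend

set_option autoImplicit false
universe u
open CategoryTheory CategoryTheory.Limits AlgebraicGeometry
open Lim

namespace Groth.Agent.S9214

/-- Let S = lim S_i be a cofiltered limit of Noetherian schemes with affine transition morphisms, and
suppose X → S is of finite type and quasi-separated. One can then find an index i, a finite type
morphism W → S_i and a morphism X → W over S_i (compatible with X → S → S_i) for which the resulting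
map X → S ×_{S_i} W into the fibre product is a closed immersion. -/
theorem result {I : Type u} [SmallCategory I] [IsCofiltered I]
    (D : I ⥤ Scheme.{u}) (c : Limits.Cone D) (hc : Limits.IsLimit c)
    [∀ (i j : I) (f : i ⟶ j), IsAffineHom (D.map f)] [∀ i, IsNoetherian (D.obj i)]
    {X : Scheme.{u}} (a : X ⟶ c.pt) [QuasiSeparated a] [QuasiCompact a] [LocallyOfFiniteType a] :
    ∃ (i : I) (W : Scheme.{u}) (w : W ⟶ D.obj i) (b : X ⟶ W) (hb : a ≫ c.π.app i = b ≫ w),
      LocallyOfFiniteType w ∧ QuasiCompact w ∧ IsClosedImmersion (pullback.lift a b hb) := by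
  have hD : ∀ (i j : I) (f : i ⟶ j), IsAffineHom (D.map f) := inferInstance
  have hD' : ∀ {i j : I} (f : i ⟶ j), IsAffineHom (D.map f) := fun f => inferInstance
  have hcp : ∀ i, CompactSpace (D.obj i) := fun i => inferInstance
  have hqs : ∀ i, QuasiSeparatedSpace (D.obj i) := fun i => inferInstance
  have : CompactSpace c.pt := Scheme.compactSpace_of_isLimit D c hc
  obtain ⟨i₀⟩ := IsCofiltered.nonempty (C := I)
  have : IsAffineHom (c.π.app i₀) := isAffineHom_π_app D c hc i₀
  have : QuasiSeparatedSpace c.pt := quasiSeparatedSpace_of_quasiSeparated (c.π.app i₀)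
  have : CompactSpace X := QuasiCompact.compactSpace_of_compactSpace a
  have : QuasiSeparatedSpace X := quasiSeparatedSpace_of_quasiSeparated a
  obtain ⟨Z, g, j, hg1, hg2, hg3, hj, hjg, hZ1, hZ2⟩ :=
    Groth.Agent.Lib.helper9.AbsApprox.exists_closedImmersion_fp a
  obtain ⟨i, ⟨M⟩⟩ := Groth.Agent.Lib.helper9.FPModel.exists_model hc g
  have hb : a ≫ c.π.app i = (j ≫ M.g) ≫ M.f₀ := by
    rw [Category.assoc, M.pb.w, ← Category.assoc, hjg]
  refine ⟨i, M.X₀, M.f₀, j ≫ M.g, hb, inferInstance, inferInstance, ?_⟩
  have e1 : pullback.lift a (j ≫ M.g) hb = j ≫ M.pb.flip.isoPullback.hom := by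
    apply pullback.hom_ext
    · rw [pullback.lift_fst, Category.assoc, IsPullback.isoPullback_hom_fst, hjg]
    · rw [pullback.lift_snd, Category.assoc, IsPullback.isoPullback_hom_snd]
  rw [e1]
  infer_instance

end Groth.Agent.S9214
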