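import Groth.Statements.S9220
import Groth.Agent.S0591
import Groth.Agent.S9189
import Groth.Agent.Lib.Helper9.SmGlob3
import Groth.Agent.Lib.Helper9.SmStrat2

set_option autoImplicit false
universe u
open CategoryTheory AlgebraicGeometry
open Lim

namespace Groth.Agent.S9220

/-- Let S = lim S_i be a cofiltered limit of quasi-compact quasi-separated schemes with affine
transition morphisms, and let I be a quasi-coherent sheaf of ideals of finite type on S (its ideal
of sections on every affine open is finitely generated). Then for some index i there is a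
quasi-coherent sheaf of ideals of finite type I_i on S_i such that I = I_i · O_S, the pullback ideal
sheaf along S → S_i. -/
theorem result {I : Type u} [SmallCategory I] [IsCofiltered I]
    (D : I ⥤ Scheme.{u}) (c : Limits.Cone D) (hc : Limits.IsLimit c)
    [∀ (i j : I) (f : i ⟶ j), IsAffineHom (D.map f)] [∀ i, CompactSpace (D.obj i)]
    [∀ i, QuasiSeparatedSpace (D.obj i)] (J : c.pt.IdealSheafData)
    (hJ : ∀ U : c.pt.affineOpens, (J.ideal U).FG) :
    ∃ (i : I) (Ji : (D.obj i).IdealSheafData), (∀ U : (D.obj i).affineOpens, (Ji.ideal U).FG) ∧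
      Ji.comap (c.π.app i) = J := by
  classical
  haveI hlfp : LocallyOfFinitePresentation J.subschemeι :=
    Groth.Agent.Lib.helper9.SmGlob.locallyOfFinitePresentation_subschemeι J hJ
  obtain ⟨i, Zi, fi, g, h1, h2, h3, hpb⟩ := Groth.Agent.S0591.result D c hc J.subscheme J.subschemeι
  haveI := h1
  haveI := h2
  haveI := h3
  haveI : CompactSpace Zi := QuasiCompact.compactSpace_of_compactSpace fi
  haveI : QuasiSeparatedSpace Zi := quasiSeparatedSpace_of_quasiSeparated fi
  haveI : LocallyOfFiniteType fi := inferInstance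
  have hY : IsPullback (c.π.app i) (𝟙 c.pt) (𝟙 (D.obj i)) (c.π.app i) := IsPullback.id_vert _
  obtain ⟨j, φ, Xj, Yj, fj, gj, pY, pX, hY', hX', hcl⟩ :=
    Groth.Agent.S9189.result D c hc i fi (𝟙 _) J.subschemeι (𝟙 _) (c.π.app i) g hY hpb
  haveI := hcl
  haveI : IsIso gj := hY'.isIso_snd_of_isIso
  have t : IsPullback pX (fj ≫ gj) (fi ≫ 𝟙 _) (D.map φ) := hX'.paste_vert hY'
  rw [Category.comp_id] at t
  have hw : g ≫ fi = (J.subschemeι ≫ c.π.app j) ≫ D.map φ := by
    rw [Category.assoc, c.w φ, hpb.w]
  have s : IsPullback (t.lift g (J.subschemeι ≫ c.π.app j) hw ≫ pX) J.subschemeι fi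
      (c.π.app j ≫ D.map φ) := by
    rw [t.lift_fst, c.w φ]
    exact hpb
  have hq : IsPullback (t.lift g (J.subschemeι ≫ c.π.app j) hw) J.subschemeι (fj ≫ gj)
      (c.π.app j) := IsPullback.of_right s (t.lift_snd _ _ _) t
  haveI : IsClosedImmersion (fj ≫ gj) := inferInstance
  haveI : LocallyOfFinitePresentation (fj ≫ gj) :=
    MorphismProperty.of_isPullback (P := @LocallyOfFinitePresentation) t inferInstance
  refine ⟨j, (fj ≫ gj).ker, fun U => Groth.Agent.Lib.helper9.SmStrat.ker_ideal_fg _ U, ?_⟩
  rw [← Scheme.IdealSheafData.ker_fst_of_isClosedImmersion]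
  have e : J.subschemeι = hq.flip.isoPullback.hom ≫ Limits.pullback.fst (c.π.app j) (fj ≫ gj) := by
    rw [IsPullback.isoPullback_hom_fst]
  conv_rhs => rw [← J.ker_subschemeι, e]
  rw [Scheme.Hom.ker_comp_of_isIso]

end Groth.Agent.S9220
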