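import Groth.Statements.S9221
import Groth.Agent.Lib.Helper11.SuppProper
import Groth.Agent.Lib.Helper5.ProperDescend
import Groth.Agent.Lib.Helper8.ProperOver

set_option autoImplicit false
universe u
open CategoryTheory AlgebraicGeometry
open Lim

namespace Groth.Agent.S9221

/-- Let S = lim S_i be a cofiltered limit of schemes with affine transition morphisms, S_{i₀} a
quasi-compact quasi-separated stage, f₀ : X₀ → Y₀ a morphism of quasi-compact quasi-separated
schemes over S_{i₀}, and f : X → Y its base change along S → S_{i₀} (base changes expressed by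
pullback squares). Let F₀ be a quasi-coherent O_{X₀}-module of finite type, with pullbacks F to X
and F_i to X_i, and assume f₀ is locally of finite type. If the support of F (a closed subset of X,
taken with its reduced structure; equivalently the scheme-theoretic support of F) is proper over Y,
then for some index i over i₀, with f_i : X_i → Y_i the base change of f₀ along S_i → S_{i₀}, the
support of F_i is proper over Y_i. -/
theorem result {I : Type u} [SmallCategory I] [IsCofiltered I]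
    (D : I ⥤ Scheme.{u}) (c : Limits.Cone D) (hc : Limits.IsLimit c)
    [∀ (i j : I) (f : i ⟶ j), IsAffineHom (D.map f)] (i₀ : I) [CompactSpace (D.obj i₀)]
    [QuasiSeparatedSpace (D.obj i₀)] {X₀ Y₀ : Scheme.{u}} (f₀ : X₀ ⟶ Y₀) (g₀ : Y₀ ⟶ D.obj i₀)
    [CompactSpace X₀] [QuasiSeparatedSpace X₀] [CompactSpace Y₀] [QuasiSeparatedSpace Y₀]
    [LocallyOfFiniteType f₀] (F₀ : X₀.Modules) [Coh.IsQCoh F₀] (hF₀ : CohB1.IsFT F₀)
    {X Y : Scheme.{u}} (f : X ⟶ Y) (g : Y ⟶ c.pt) (qY : Y ⟶ Y₀) (qX : X ⟶ X₀)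
    (hY : IsPullback qY g g₀ (c.π.app i₀)) (hX : IsPullback qX f f₀ qY) (hF : ClSub.IsProperOver f (CohB1.support ((Scheme.Modules.pullback qX).obj F₀))) :
    ∃ (i : I) (φ : i ⟶ i₀) (Xi Yi : Scheme.{u}) (fi : Xi ⟶ Yi) (gi : Yi ⟶ D.obj i) (pY : Yi ⟶ Y₀)
      (pX : Xi ⟶ X₀), IsPullback pY gi g₀ (D.map φ) ∧ IsPullback pX fi f₀ pY ∧ ClSub.IsProperOver fi (CohB1.support ((Scheme.Modules.pullback pX).obj F₀)) := by
  haveI : F₀.IsQuasicoherent := ‹Coh.IsQCoh F₀›
  have hZ₀ : IsClosed (CohB1.support F₀) :=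
    Groth.Agent.Lib.helper8.SchemeSupport.isClosed_support F₀ hF₀
  let I₀ := Scheme.IdealSheafData.vanishingIdeal ⟨CohB1.support F₀, hZ₀⟩
  let ι₀ : I₀.subscheme ⟶ X₀ := I₀.subschemeι
  have hr₀ : Set.range ι₀ = CohB1.support F₀ := by
    rw [Scheme.IdealSheafData.range_subschemeι, Scheme.IdealSheafData.coe_support_vanishingIdeal]
    rfl
  haveI : CompactSpace ↥I₀.subscheme := QuasiCompact.compactSpace_of_compactSpace ι₀
  haveI : QuasiSeparatedSpace ↥I₀.subscheme := quasiSeparatedSpace_of_quasiSeparated ι₀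
  haveI : LocallyOfFiniteType (ι₀ ≫ f₀) := inferInstance
  have key : ∀ {X' : Scheme.{u}} (p : X' ⟶ X₀),
      Set.range (Limits.pullback.snd ι₀ p) =
        CohB1.support ((Scheme.Modules.pullback p).obj F₀) := fun p =>
    Groth.Agent.Lib.helper11.SuppProper.range_pullback_snd_eq_support F₀ hF₀ ι₀ hr₀ p
  -- the limit
  have hW : IsPullback (Limits.pullback.fst ι₀ qX) (Limits.pullback.snd ι₀ qX ≫ f) (ι₀ ≫ f₀) qY :=
    (IsPullback.of_hasPullback ι₀ qX).paste_vert hX
  haveI : LocallyOfFiniteType (Limits.pullback.snd ι₀ qX ≫ f) :=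
    MorphismProperty.of_isPullback (P := @LocallyOfFiniteType) hW inferInstance
  rw [← key qX] at hF
  haveI hlim : IsProper (Limits.pullback.snd ι₀ qX ≫ f) :=
    Groth.Agent.Lib.helper11.SuppProper.isProper_of_isProperOver_range f _ hF
  haveI : IsProper (Groth.Agent.Lib.helper9.stageMap (c.π.app i₀) (ι₀ ≫ f₀) g₀) :=
    (Groth.Agent.Lib.helper9.stageMap_iff_of_isPullback @IsProper hY hW).mpr hlim
  obtain ⟨l, hl⟩ := Groth.Agent.Lib.helper5.ProperDescend.exists_isProper_stageMap D c hc i₀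
    (ι₀ ≫ f₀) g₀
  refine ⟨l.left, l.hom, _, _, Groth.Agent.Lib.helper9.stageMap (D.map l.hom) f₀ g₀, _, _, _,
    Groth.Agent.Lib.helper9.isPullback_stage_base (D.map l.hom) g₀,
    Groth.Agent.Lib.helper9.isPullback_stageMap (D.map l.hom) f₀ g₀, ?_⟩
  rw [← key (Limits.pullback.snd (D.map l.hom) (f₀ ≫ g₀))]
  have hWi := (IsPullback.of_hasPullback ι₀ (Limits.pullback.snd (D.map l.hom) (f₀ ≫ g₀))).paste_vert
    (Groth.Agent.Lib.helper9.isPullback_stageMap (D.map l.hom) f₀ g₀)
  haveI : IsProper (Limits.pullback.snd ι₀ (Limits.pullback.snd (D.map l.hom) (f₀ ≫ g₀)) ≫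
      Groth.Agent.Lib.helper9.stageMap (D.map l.hom) f₀ g₀) :=
    (Groth.Agent.Lib.helper9.stageMap_iff_of_isPullback @IsProper
      (Groth.Agent.Lib.helper9.isPullback_stage_base (D.map l.hom) g₀) hWi).mp hl
  exact Groth.Agent.Lib.helper8.isProperOver_range_of_isClosedImmersion
    (Groth.Agent.Lib.helper9.stageMap (D.map l.hom) f₀ g₀)
    (Limits.pullback.snd ι₀ (Limits.pullback.snd (D.map l.hom) (f₀ ≫ g₀)))

end Groth.Agent.S9221
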