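import Groth.Statements.S9225
import Groth.Agent.LibQuotLoc29
import Groth.Agent.Lib.Helper15.Regular
-- import your own Groth.Agent.* helpers here

set_option autoImplicit false
universe u
open CAlg

namespace Groth.Agent.S9225

open IsLocalRing

section

variable {R : Type u} [CommRing R]

/-- a derivation maps `p ^ 2` into `p` -/
lemma derivation_mem_of_mem_sq (D : Derivation ℤ R R) (p : Ideal R) {a : R} (ha : a ∈ p ^ 2) :
    D a ∈ p := by
  rw [sq] at ha
  refine Submodule.mul_induction_on ha ?_ ?_
  · intro u hu v hv
    rw [Derivation.leibniz]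
    exact p.add_mem (p.mul_mem_right _ hu) (p.mul_mem_right _ hv) |> fun h => by
      simpa [smul_eq_mul, mul_comm] using h
  · intro x y hx hy
    rw [map_add]
    exact p.add_mem hx hy

/-- the key local statement: `f` is a regular parameter at every prime containing it where `D f`
is not in the prime -/
lemma regular_localization_quotient [IsRegularRing R] (f : R) (D : Derivation ℤ R R)
    (p : Ideal R) [p.IsPrime] (hfp : f ∈ p) (hDp : D f ∉ p) :
    IsRegularLocalRing (Localization.AtPrime p ⧸
      (Ideal.span {f}).map (algebraMap R (Localization.AtPrime p))) := by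
  have hI : (Ideal.span {f}).map (algebraMap R (Localization.AtPrime p)) =
      Ideal.span {algebraMap R (Localization.AtPrime p) f} := by
    rw [Ideal.map_span, Set.image_singleton]
  rw [hI]
  have hx : algebraMap R (Localization.AtPrime p) f ∈ maximalIdeal (Localization.AtPrime p) :=
    (IsLocalization.AtPrime.to_map_mem_maximal_iff (Localization.AtPrime p) p f).2 hfp
  have hx2 : algebraMap R (Localization.AtPrime p) f ∉ maximalIdeal (Localization.AtPrime p) ^ 2 := by
    intro h
    rw [← Localization.AtPrime.map_eq_maximalIdeal, ← Ideal.map_pow,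
      IsLocalization.mem_map_algebraMap_iff p.primeCompl] at h
    obtain ⟨⟨a, s⟩, hs⟩ := h
    rw [← map_mul, IsLocalization.eq_iff_exists p.primeCompl] at hs
    obtain ⟨c, hc⟩ := hs
    -- `c * (f * s) = c * a` with `a ∈ p²`
    have h1 : D ((c : R) * (f * s)) ∈ p := by
      rw [hc]
      exact derivation_mem_of_mem_sq D p ((p ^ 2).mul_mem_left _ a.2)
    have h2 : (c : R) * s * D f ∈ p := by
      have h3 : D ((c : R) * (f * s)) = (c : R) * s * D f + f * (s * D c + c * D s) := by
        simp only [Derivation.leibniz, smul_eq_mul]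
        ring
      rw [h3] at h1
      exact (Ideal.add_mem_iff_left _ (p.mul_mem_right _ hfp)).1 h1
    rcases (Ideal.IsPrime.mem_or_mem inferInstance h2) with h4 | h4
    · rcases (Ideal.IsPrime.mem_or_mem inferInstance h4) with h5 | h5
      · exact c.2 h5
      · exact s.2 h5
    · exact hDp h4
  exact (Groth.Agent.Lib.helper15.isRegularLocalRing_quotient_singleton _ hx hx2).1

end

lemma transport {S : Type u} [CommRing S] (P P' : Ideal S) [P.IsPrime] [P'.IsPrime]
    (h : P' = P) (hr : IsRegularLocalRing (Localization.AtPrime P')) :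
    IsRegularLocalRing (Localization.AtPrime P) := by
  subst h
  exact hr


/-- Let R be a regular ring, f an element of R and D a derivation of R such that the image of D(f) in
R/(f) is a unit. Then R/(f) is a regular ring. -/
theorem result (R : Type u) [CommRing R] [IsRegularRing R]
    (f : R) (D : Derivation ℤ R R)
    (hD : IsUnit (Ideal.Quotient.mk (Ideal.span {f}) (D f))) :
    IsRegularRing (R ⧸ Ideal.span ({f} : Set R)) := by
  rw [isRegularRing_iff]
  intro P hP
  have hpprime : (P.comap (Ideal.Quotient.mk (Ideal.span {f}))).IsPrime := Ideal.comap_isPrime _ _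
  have hfp : f ∈ P.comap (Ideal.Quotient.mk (Ideal.span {f})) := by
    rw [Ideal.mem_comap, Ideal.Quotient.eq_zero_iff_mem.2 (Ideal.mem_span_singleton_self f)]
    exact P.zero_mem
  have hDp : D f ∉ P.comap (Ideal.Quotient.mk (Ideal.span {f})) := by
    intro h
    have h1 : Ideal.Quotient.mk (Ideal.span {f}) (D f) ∈ P := h
    exact (Ideal.IsPrime.ne_top hP) (Ideal.eq_top_of_isUnit_mem _ h1 hD)
  have hle : Ideal.span {f} ≤ P.comap (Ideal.Quotient.mk (Ideal.span {f})) :=
    (Ideal.span_singleton_le_iff_mem _).2 hfp
  have hPmap : (P.comap (Ideal.Quotient.mk (Ideal.span {f}))).map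
      (Ideal.Quotient.mk (Ideal.span {f})) = P :=
    Ideal.map_comap_of_surjective _ Ideal.Quotient.mk_surjective P
  have hreg := regular_localization_quotient f D _ hfp hDp
  have hP' := Groth.Agent.LibQuotLoc29.isPrime_map_mk R (Ideal.span {f})
    (P.comap (Ideal.Quotient.mk (Ideal.span {f}))) hle
  refine transport P _ hPmap ?_
  exact IsRegularLocalRing.of_ringEquiv (Groth.Agent.LibQuotLoc29.quotLocEquiv R (Ideal.span {f})
    (P.comap (Ideal.Quotient.mk (Ideal.span {f}))) hle).symm

end Groth.Agent.S9225
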