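import Groth.Statements.S9226
import Groth.Agent.S9225
import Groth.Agent.LibRegPar29
-- import your own Groth.Agent.* helpers here

set_option autoImplicit false
universe u
open CAlg

namespace Groth.Agent.S9226

open IsLocalRing Groth.Agent.LibRegPar29

lemma indep_of_det (R : Type u) [CommRing R] [IsLocalRing R] (m : ℕ) (f : Fin m → R)
    (hf : ∀ i, f i ∈ IsLocalRing.maximalIdeal R) (D : Fin m → Derivation ℤ R R)
    (hdet : IsUnit (Matrix.det (Matrix.of (fun i j : Fin m => D i (f j))))) : Indep f := by
  intro c hc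
  set M : Matrix (Fin m) (Fin m) R := Matrix.of (fun i j : Fin m => D i (f j)) with hM
  have h1 : ∀ i, (M.mulVec c) i ∈ maximalIdeal R := by
    intro i
    have h2 := Groth.Agent.S9225.derivation_mem_of_mem_sq (D i) (maximalIdeal R) hc
    rw [map_sum] at h2
    have h3 : ∑ j, D i (c j * f j) = (M.mulVec c) i + ∑ j, f j * D i (c j) := by
      rw [Matrix.mulVec, dotProduct, ← Finset.sum_add_distrib]
      refine Finset.sum_congr rfl fun j _ => ?_
      simp only [Derivation.leibniz, smul_eq_mul, hM, Matrix.of_apply]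
      ring
    rw [h3] at h2
    refine (Ideal.add_mem_iff_left _ ?_).1 h2
    exact Ideal.sum_mem _ fun j _ => Ideal.mul_mem_right _ _ (hf j)
  have h4 : c = M⁻¹.mulVec (M.mulVec c) := by
    rw [Matrix.mulVec_mulVec, Matrix.nonsing_inv_mul M hdet, Matrix.one_mulVec]
  intro j
  rw [h4]
  rw [Matrix.mulVec, dotProduct]
  exact Ideal.sum_mem _ fun i _ => Ideal.mul_mem_left _ _ (h1 i)


/-- Let R be a regular local ring, m ≥ 1, f_1, ..., f_m elements of the maximal ideal, and D_1, ..., D_m
derivations of R such that the determinant of the matrix (D_i(f_j)) is a unit of R. Then R/(f_1,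
..., f_m) is a regular local ring and f_1, ..., f_m is a regular sequence on R. -/
theorem result (R : Type u) [CommRing R]
    [IsRegularLocalRing R] (m : ℕ) (hm : 1 ≤ m) (f : Fin m → R)
    (hf : ∀ i, f i ∈ IsLocalRing.maximalIdeal R) (D : Fin m → Derivation ℤ R R)
    (hdet : IsUnit (Matrix.det (Matrix.of (fun i j : Fin m => D i (f j))))) :
    IsRegularLocalRing (R ⧸ Ideal.span (Set.range f)) ∧
      RingTheory.Sequence.IsRegular R (List.ofFn f) := by
  have hind := indep_of_det R m f hf D hdet
  exact ⟨(isRegularLocalRing_quotient_of_indep m R f hf hind _ rfl).1,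
    isRegular_ofFn_of_indep R f hf hind⟩

end Groth.Agent.S9226
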