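import Groth.Statements.S9227
import Groth.Agent.S9225
import Mathlib.RingTheory.Derivation.MapCoeffs
import Mathlib.RingTheory.RegularLocalRing.Polynomial
-- import your own Groth.Agent.* helpers here

set_option autoImplicit false
universe u
open CAlg

namespace Groth.Agent.S9227

open Polynomial


/-- Let R be a regular ring, f an element of R and D a derivation of R with D(f) a unit of R. Then for
every polynomial p with integer coefficients the ring R[z]/(p(z) - f) is regular; in particular
R[z]/(z^n - f) is regular for every n ≥ 1. -/
theorem result (R : Type u) [CommRing R]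
    [IsRegularRing R] (f : R) (D : Derivation ℤ R R) (hD : IsUnit (D f)) (p : Polynomial ℤ) :
    IsRegularRing (Polynomial R ⧸
      Ideal.span ({Polynomial.map (Int.castRingHom R) p - Polynomial.C f} : Set (Polynomial R))) := by
  let _ : Differential R := ⟨D⟩
  have h0 : ∀ q : Polynomial ℤ, (Differential.mapCoeffs (A := R))
      (Polynomial.map (Int.castRingHom R) q) = 0 := by
    intro q
    ext i
    rw [Differential.coeff_mapCoeffs, Polynomial.coeff_map, Polynomial.coeff_zero]
    have h1 : (Int.castRingHom R) (q.coeff i) = algebraMap ℤ R (q.coeff i) := rfl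
    rw [h1]
    exact Derivation.map_algebraMap _ _
  have h2 : (Differential.mapCoeffs (A := R))
      (Polynomial.map (Int.castRingHom R) p - Polynomial.C f) = - Polynomial.C (D f) := by
    rw [map_sub, h0, Differential.mapCoeffs_C, zero_sub]
    rfl
  obtain ⟨D', hD'⟩ : ∃ D' : @Derivation ℤ R[X] R[X] _ _ _ (Ring.toIntAlgebra _) _ _,
      ∀ x, D' x = Differential.mapCoeffs (A := R) x :=
    ⟨{ toLinearMap := AddMonoidHom.toIntLinearMap
        ((Differential.mapCoeffs (A := R) : R[X] →ₗ[ℤ] R[X]) : R[X] →+ R[X])
       map_one_eq_zero' := Derivation.map_one_eq_zero _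
       leibniz' := fun a b => Derivation.leibniz _ a b }, fun x => rfl⟩
  refine Groth.Agent.S9225.result (Polynomial R) _ D' ?_
  rw [hD', h2, map_neg]
  exact ((hD.map Polynomial.C).map _).neg

end Groth.Agent.S9227
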