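import Groth.Statements.S9229
import Mathlib
import Groth.Agent.S3831
import Groth.Agent.S2632
import Groth.Agent.S2636

set_option autoImplicit false
set_option linter.style.haveILetI false
universe u
open EGA4

namespace Groth.Agent.S9229

open TensorProduct IsLocalRing

theorem ringKrullDim_quotient_of_le_nilradical {R : Type*} [CommRing R] (I : Ideal R)
    (h : I ≤ nilradical R) : ringKrullDim (R ⧸ I) = ringKrullDim R := by
  rw [ringKrullDim_quotient]
  have h1 : PrimeSpectrum.zeroLocus (I : Set R) = Set.univ := by
    ext p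
    simp only [PrimeSpectrum.mem_zeroLocus, Set.mem_univ, iff_true]
    exact fun x hx => nilradical_le_prime p.asIdeal (h hx)
  rw [h1]
  exact Order.krullDim_eq_of_orderIso OrderIso.Set.univ

/-- A ring whose nilradical is prime is equidimensional. -/
theorem isEquidim_of_isPrime_nilradical (R : Type u) [CommRing R] (P : Ideal R) [P.IsPrime]
    (hP : P ≤ nilradical R) : EGA4.IsEquidim R := by
  intro p hp
  have hpP : p = P := by
    haveI := hp.1.1
    have h1 : p ≤ P := hp.2 ⟨inferInstance, bot_le⟩ (hP.trans (nilradical_le_prime p))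
    exact le_antisymm h1 (hP.trans (nilradical_le_prime p))
  rw [hpP]
  exact ringKrullDim_quotient_of_le_nilradical P hP

/-- A domain is equidimensional. -/
theorem isEquidim_of_isDomain (R : Type u) [CommRing R] [IsDomain R] : EGA4.IsEquidim R :=
  isEquidim_of_isPrime_nilradical R ⊥ bot_le

/-- For a unibranch Noetherian local ring with geometrically normal formal fibres, the extension of
the nilradical to the completion is a nilpotent prime ideal. -/
theorem isFormallyEquidim_of_isUnibranch (A : Type u) [CommRing A]
    [IsLocalRing A] [IsNoetherianRing A] (hA : EGA4.HasGeomNormalFormalFibres A)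
    (hu : CAlg2.IsUnibranch A) : EGA4.IsFormallyEquidim A := by
  classical
  obtain ⟨hdom, hloc⟩ := hu
  haveI := hdom
  haveI := hloc
  haveI hprime : (nilradical A).IsPrime := (Ideal.Quotient.isDomain_iff_prime _).mp hdom
  haveI hff : Module.FaithfullyFlat A (EGA4.Cpl A) := Module.FaithfullyFlat.of_flat_of_isLocalHom
  have hgr : EGA4.HasGeomReducedFormalFibres A := by
    intro q hq
    apply Groth.Agent.Lib.Helper24.GeomReducedFinite.isGeometricallyReduced_of_forall_finite
    intro K' _ _ hfin'
    have hnor := hA q K' hfin'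
    apply isReduced_ofLocalizationMaximal
    intro P hP
    haveI : P.IsPrime := hP.isPrime
    haveI := (hnor P).1
    infer_instance
  have hNag := Groth.Agent.S2657.result A hgr
  have hN2 : CAlg.IsN2 (A ⧸ nilradical A) := hNag.2 (nilradical A)
  haveI hfinB' : Module.Finite (CAlg2.red A) (CAlg2.normRed A) :=
    Groth.Agent.Lib.helper13.PIns.IsN2.finite_integralClosure hN2 (FractionRing (CAlg2.red A))
      (FractionRing (CAlg2.red A))
  haveI hfinB : Module.Finite A (CAlg2.normRed A) := Module.Finite.trans (CAlg2.red A) _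
  haveI hicB : IsIntegrallyClosed (CAlg2.normRed A) :=
    integralClosure.isIntegrallyClosedOfFiniteExtension (FractionRing (CAlg2.red A))
  have hD : IsDomain (EGA4.Cpl A ⊗[A] CAlg2.normRed A) :=
    Groth.Agent.S3831.isDomain_tensor_of_finite_normal' A hA (CAlg2.normRed A)
  -- `Â ⊗ A_red` embeds into `Â ⊗ A'`
  let ι : CAlg2.red A →ₐ[A] CAlg2.normRed A := IsScalarTower.toAlgHom A _ _
  have hι : Function.Injective ι := by
    intro x y hxy
    have h1 := congrArg (algebraMap (CAlg2.normRed A) (FractionRing (CAlg2.red A))) hxy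
    exact IsFractionRing.injective (CAlg2.red A) (FractionRing (CAlg2.red A)) h1
  have hinj : Function.Injective (Algebra.TensorProduct.map (AlgHom.id A (EGA4.Cpl A)) ι) :=
    Module.Flat.lTensor_preserves_injective_linearMap ι.toLinearMap hι
  haveI hD2 : IsDomain (EGA4.Cpl A ⊗[A] (A ⧸ nilradical A)) := by
    haveI : Nontrivial (EGA4.Cpl A ⊗[A] (A ⧸ nilradical A)) :=
      (Module.FaithfullyFlat.tensorProduct_mk_injective (A := A) (B := EGA4.Cpl A)
        (A ⧸ nilradical A)).nontrivial
    haveI : NoZeroDivisors (EGA4.Cpl A ⊗[A] (A ⧸ nilradical A)) :=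
      hinj.noZeroDivisors _ (map_zero _) (map_mul _)
    exact NoZeroDivisors.to_isDomain _
  haveI hD3 : IsDomain (EGA4.Cpl A ⧸ (nilradical A).map (algebraMap A (EGA4.Cpl A))) :=
    (Algebra.TensorProduct.quotIdealMapEquivTensorQuot (EGA4.Cpl A)
      (nilradical A)).toRingEquiv.injective.isDomain
      (Algebra.TensorProduct.quotIdealMapEquivTensorQuot (EGA4.Cpl A)
      (nilradical A)).toRingEquiv.toRingHom
  haveI hPprime : ((nilradical A).map (algebraMap A (EGA4.Cpl A))).IsPrime :=
    (Ideal.Quotient.isDomain_iff_prime _).mp hD3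
  have hnil : (nilradical A).map (algebraMap A (EGA4.Cpl A)) ≤ nilradical (EGA4.Cpl A) := by
    obtain ⟨n, hn⟩ := IsNoetherianRing.isNilpotent_nilradical A
    intro x hx
    refine ⟨n, ?_⟩
    have h1 : x ^ n ∈ ((nilradical A).map (algebraMap A (EGA4.Cpl A))) ^ n :=
      Ideal.pow_mem_pow hx n
    rw [← Ideal.map_pow, hn, Ideal.zero_eq_bot, Ideal.map_bot] at h1
    exact h1
  exact isEquidim_of_isPrime_nilradical _ _ hnil

/-- A Noetherian local ring A whose formal fibres are geometrically normal and which is unibranch (a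
normal local ring, say) is universally catenary. -/
theorem result (A : Type u) [CommRing A]
    [IsLocalRing A] [IsNoetherianRing A] (hA : EGA4.HasGeomNormalFormalFibres A)
    (hu : CAlg2.IsUnibranch A) : CAlg.IsUniversallyCatenary A := by
  have hFE : EGA4.IsFormallyEquidim A := isFormallyEquidim_of_isUnibranch A hA hu
  have h2 := (Groth.Agent.S2632.result A hFE).2
  have hFC : EGA4.IsFormallyCatenary A := by
    intro p hp
    haveI : Nontrivial (A ⧸ p) := Ideal.Quotient.nontrivial_iff.mpr hp.ne_top
    haveI : IsDomain (A ⧸ p) := Ideal.Quotient.isDomain p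
    exact (h2 p).mp (isEquidim_of_isDomain (A ⧸ p))
  exact Groth.Agent.S2636.result A hFC

end Groth.Agent.S9229
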