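import Groth.Statements.S9230
import Mathlib
import Groth.Agent.Lib.Helper17.HensFib2
import Groth.Agent.S2636
import Groth.Agent.S4754
import Groth.Agent.S2812
import Groth.Agent.S9229

set_option autoImplicit false
set_option linter.style.haveILetI false
universe u
open EGA4 TensorProduct

namespace Groth.Agent.S9230

/-- For a Noetherian local ring A whose formal fibres are geometrically normal, every henselization S of
A is universally catenary. -/
theorem result (A S : Type u) [CommRing A]
    [IsLocalRing A] [IsNoetherianRing A] [CommRing S] [IsLocalRing S] [Algebra A S]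
    [IsLocalHom (algebraMap A S)] [Hensel.IsHenselization A S]
    (hA : EGA4.HasGeomNormalFormalFibres A) : CAlg.IsUniversallyCatenary S := by
  haveI hN : IsNoetherianRing S :=
    (Groth.Agent.Lib.Helper24.HensNoeth.isNoetherianRing_iff_of_isHenselization A S).1
      inferInstance
  have hS : EGA4.HasGeomNormalFormalFibres S :=
    Groth.Agent.Lib.helper17.HensFib.hasGeomNormalFormalFibres_of_isHenselization A S hA
  haveI hH : HenselianLocalRing S := Hensel.IsHenselization.henselian (R := A)
  apply Groth.Agent.S2636.result S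
  intro P hP
  haveI : HenselianLocalRing (S ⧸ P) :=
    Groth.Agent.Lib.helper12.henselianLocalRing_quotient P hP.ne_top
  have hSP : EGA4.HasGeomNormalFormalFibres (S ⧸ P) := Groth.Agent.S4754.result S hS P
  haveI hdom : IsDomain (EGA4.Cpl (S ⧸ P) ⊗[S ⧸ P] FractionRing (S ⧸ P)) :=
    Groth.Agent.S2812.isDomain_cpl_tensor_field (S ⧸ P) hSP (FractionRing (S ⧸ P))
  have hinj : Function.Injective
      (Algebra.TensorProduct.includeLeft : EGA4.Cpl (S ⧸ P) →ₐ[S ⧸ P]
        EGA4.Cpl (S ⧸ P) ⊗[S ⧸ P] FractionRing (S ⧸ P)) :=
    Algebra.TensorProduct.includeLeft_injective (IsFractionRing.injective _ _)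
  haveI : IsDomain (EGA4.Cpl (S ⧸ P)) := hinj.isDomain _
  exact Groth.Agent.S9229.isEquidim_of_isDomain _

end Groth.Agent.S9230
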