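import Groth.Statements.S9239
import Mathlib
import Groth.Agent.Lib.Helper17.CplBranch2
import Groth.Agent.Lib.Helper17.StrictCpl
import Groth.Agent.Lib.Helper17.FFMin
import Groth.Agent.S0542
import Groth.Agent.S9238

set_option autoImplicit false
set_option linter.style.haveILetI false
universe u
open Brnch

namespace Groth.Agent.S9239

/-- For a Noetherian local ring A with completion A^ at its maximal ideal, A^ has at least as many
branches as A, and at least as many geometric branches as A. -/
theorem result (A : Type u) [CommRing A] [IsLocalRing A] [IsNoetherianRing A] :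
    Brnch.numBranches A ≤ Brnch.numBranches (AdicCompletion (IsLocalRing.maximalIdeal A) A) ∧
      Brnch.numGeomBranches A ≤
        Brnch.numGeomBranches (AdicCompletion (IsLocalRing.maximalIdeal A) A) := by
  classical
  haveI hNA : IsNoetherianRing (AdicCompletion (IsLocalRing.maximalIdeal A) A) :=
    Groth.Agent.S0542.result A _ (IsLocalRing.maximalIdeal A).fg_of_isNoetherianRing
  constructor
  · -- branches
    haveI := Groth.Agent.Lib.helper17.CplBranch.henselian_cpl A
    have hlocA : IsLocalHom (algebraMap A (AdicCompletion (IsLocalRing.maximalIdeal A) A)) :=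
      inferInstance
    obtain ⟨ψ, hψ, -⟩ := Hensel.IsHenselization.universal (R := A)
      (S := Groth.Agent.Lib.helper24.Henselization.Hens A)
      (AdicCompletion (IsLocalRing.maximalIdeal A) A)
      (algebraMap A (AdicCompletion (IsLocalRing.maximalIdeal A) A)) hlocA
    obtain ⟨-, hsurj⟩ := Groth.Agent.S9240.result A _ ψ hψ
    rw [Groth.Agent.Lib.helper17.CplBranch.numBranches_cpl,
      ← Groth.Agent.S9237.result A (Groth.Agent.Lib.helper24.Henselization.Hens A)]
    show (minimalPrimes (Groth.Agent.Lib.helper24.Henselization.Hens A)).encard ≤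
      (minimalPrimes (AdicCompletion (IsLocalRing.maximalIdeal A) A)).encard
    exact (Set.encard_le_encard hsurj).trans (Set.encard_image_le _ _)
  · -- geometric branches
    rw [← Groth.Agent.S9238.result A (Groth.Agent.Lib.Helper24.StrictHens.SH A),
      ← Groth.Agent.S9238.result (AdicCompletion (IsLocalRing.maximalIdeal A) A)
        (Groth.Agent.Lib.helper17.StrictCpl.S' A)]
    exact Groth.Agent.Lib.helper17.FFMin.encard_minimalPrimes_le_of_faithfullyFlat
      (Groth.Agent.Lib.Helper24.StrictHens.SH A) (Groth.Agent.Lib.helper17.StrictCpl.S' A)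

end Groth.Agent.S9239
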