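import Groth.Statements.S9241
import Mathlib
import Groth.Agent.Lib.Helper17.CplBranch2
import Groth.Agent.Lib.Helper17.StrictCpl2
import Groth.Agent.Lib.Helper17.FFMin
import Groth.Agent.S0542
import Groth.Agent.S0547
import Groth.Agent.S9238

set_option autoImplicit false
set_option linter.style.haveILetI false
universe u
open Brnch

namespace Groth.Agent.S9241

/-- For a Noetherian local ring A of dimension 1, A and its completion A^ have the same number of
branches and the same number of geometric branches. -/
theorem result (A : Type u) [CommRing A] [IsLocalRing A]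
    [IsNoetherianRing A] (hA : ringKrullDim A = 1) :
    Brnch.numBranches (AdicCompletion (IsLocalRing.maximalIdeal A) A) = Brnch.numBranches A ∧
      Brnch.numGeomBranches (AdicCompletion (IsLocalRing.maximalIdeal A) A) =
        Brnch.numGeomBranches A := by
  classical
  haveI hNA : IsNoetherianRing (AdicCompletion (IsLocalRing.maximalIdeal A) A) :=
    Groth.Agent.S0542.result A _ (IsLocalRing.maximalIdeal A).fg_of_isNoetherianRing
  refine ⟨Groth.Agent.Lib.helper17.CplBranch.numBranches_completion_eq A hA, ?_⟩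
  rw [← Groth.Agent.S9238.result A (Groth.Agent.Lib.Helper24.StrictHens.SH A),
    ← Groth.Agent.S9238.result (AdicCompletion (IsLocalRing.maximalIdeal A) A)
      (Groth.Agent.Lib.helper17.StrictCpl.S' A)]
  haveI hNS : IsNoetherianRing (Groth.Agent.Lib.Helper24.StrictHens.SH A) :=
    Groth.Agent.Lib.Helper24.HensNoeth.isNoetherianRing_SHens
  have hdimS : ringKrullDim (Groth.Agent.Lib.Helper24.StrictHens.SH A) ≤ 1 := by
    rw [Groth.Agent.Lib.Helper24.HensDim.ringKrullDim_of_isStrictHenselization A
      (Groth.Agent.Lib.Helper24.StrictHens.SH A), hA]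
  have hdimT : ringKrullDim (Groth.Agent.Lib.helper17.StrictCpl.S' A) ≤ 1 := by
    rw [Groth.Agent.Lib.Helper24.HensDim.ringKrullDim_of_isStrictHenselization
      (AdicCompletion (IsLocalRing.maximalIdeal A) A)
      (Groth.Agent.Lib.helper17.StrictCpl.S' A), Groth.Agent.S0547.result, hA]
  have hmaps := Groth.Agent.Lib.helper17.FFMin.mapsTo_minimalPrimes_of_flat
    (Groth.Agent.Lib.Helper24.StrictHens.SH A) (Groth.Agent.Lib.helper17.StrictCpl.S' A)
  have hsurj := Groth.Agent.Lib.helper17.FFMin.surjOn_minimalPrimes_of_faithfullyFlat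
    (Groth.Agent.Lib.Helper24.StrictHens.SH A) (Groth.Agent.Lib.helper17.StrictCpl.S' A)
  have himg : Ideal.comap (algebraMap (Groth.Agent.Lib.Helper24.StrictHens.SH A)
        (Groth.Agent.Lib.helper17.StrictCpl.S' A)) ''
      (minimalPrimes (Groth.Agent.Lib.helper17.StrictCpl.S' A)) =
      minimalPrimes (Groth.Agent.Lib.Helper24.StrictHens.SH A) :=
    Set.Subset.antisymm (Set.image_subset_iff.2 hmaps) hsurj
  have hinj : Set.InjOn (Ideal.comap (algebraMap (Groth.Agent.Lib.Helper24.StrictHens.SH A)
        (Groth.Agent.Lib.helper17.StrictCpl.S' A)))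
      (minimalPrimes (Groth.Agent.Lib.helper17.StrictCpl.S' A)) := by
    intro Q₁ h₁ Q₂ h₂ h
    exact Groth.Agent.Lib.helper17.CplBranch.comap_injective_of_dim_le_one
      (S := Groth.Agent.Lib.Helper24.StrictHens.SH A)
      (T := Groth.Agent.Lib.helper17.StrictCpl.S' A) hdimS hdimT
      (Groth.Agent.Lib.helper17.StrictCpl.dense_Ψ A) Q₁ Q₂ h₁.1.1 h₂.1.1 h
  show (minimalPrimes (Groth.Agent.Lib.helper17.StrictCpl.S' A)).encard =
    (minimalPrimes (Groth.Agent.Lib.Helper24.StrictHens.SH A)).encard
  rw [← himg, hinj.encard_image]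

end Groth.Agent.S9241
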