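import Groth.Statements.S9243
import Mathlib
import Groth.Agent.S9237
import Groth.Agent.S9240

set_option autoImplicit false
set_option linter.style.haveILetI false
universe u
open Brnch

namespace Groth.Agent.S9243

/-- Let A be a Noetherian local ring with henselization S and completion A^, and ψ : S → A^ the ring map
compatible with the structure maps from A. Then A and A^ have the same number of branches if and
only if, for every minimal prime q of S, the radical of the extension of q along ψ is a prime ideal
of A^. -/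
theorem result (A S : Type u) [CommRing A] [IsLocalRing A]
    [IsNoetherianRing A] [CommRing S] [IsLocalRing S] [Algebra A S] [IsLocalHom (algebraMap A S)]
    [Hensel.IsHenselization A S] (ψ : S →+* AdicCompletion (IsLocalRing.maximalIdeal A) A)
    (hψ : ψ.comp (algebraMap A S) = algebraMap A (AdicCompletion (IsLocalRing.maximalIdeal A) A)) :
    Brnch.numBranches A = Brnch.numBranches (AdicCompletion (IsLocalRing.maximalIdeal A) A) ↔
      ∀ q ∈ minimalPrimes S, (Ideal.map ψ q).radical.IsPrime := by
  classical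
  haveI hNS : IsNoetherianRing S :=
    Groth.Agent.Lib.helper17.HensFib.isNoetherianRing_of_isHenselization A S
  haveI hNA : IsNoetherianRing (AdicCompletion (IsLocalRing.maximalIdeal A) A) :=
    Groth.Agent.S0542.result A _ (IsLocalRing.maximalIdeal A).fg_of_isNoetherianRing
  -- the canonical map `S → Ŝ ≃ Â`
  let e := Groth.Agent.Lib.helper17.HensFib.cplRingEquiv A S
  let can : S →+* AdicCompletion (IsLocalRing.maximalIdeal A) A :=
    (e.symm : EGA4.Cpl S →+* EGA4.Cpl A).comp (algebraMap S (EGA4.Cpl S))
  have hcan : can.comp (algebraMap A S) =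
      algebraMap A (AdicCompletion (IsLocalRing.maximalIdeal A) A) := by
    refine RingHom.ext (fun a => ?_)
    change e.symm (algebraMap S (EGA4.Cpl S) (algebraMap A S a)) = _
    rw [RingEquiv.symm_apply_eq]
    have := Groth.Agent.Lib.helper17.HensFib.cplRingEquiv_algebraMap A S a
    rw [IsScalarTower.algebraMap_apply A S (EGA4.Cpl S)] at this
    exact this.symm
  haveI : IsAdicComplete
      (IsLocalRing.maximalIdeal (AdicCompletion (IsLocalRing.maximalIdeal A) A))
      (AdicCompletion (IsLocalRing.maximalIdeal A) A) :=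
    Groth.Agent.Lib.Helper24.FormalEquidimLoc.isAdicComplete_cpl A
  haveI hHens : HenselianLocalRing (AdicCompletion (IsLocalRing.maximalIdeal A) A) :=
    Groth.Agent.Lib.Helper24.UniCpl.henselianLocalRing_of_isAdicComplete _
  have hlocA : IsLocalHom (algebraMap A (AdicCompletion (IsLocalRing.maximalIdeal A) A)) :=
    inferInstance
  obtain ⟨g, -, huniq⟩ := Hensel.IsHenselization.universal (R := A) (S := S)
    (AdicCompletion (IsLocalRing.maximalIdeal A) A)
    (algebraMap A (AdicCompletion (IsLocalRing.maximalIdeal A) A)) hlocA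
  have hψc : ψ = can := (huniq ψ hψ).trans (huniq can hcan).symm
  -- the two counts
  have hcA : Brnch.numBranches A = ENat.card (minimalPrimes S) :=
    (Groth.Agent.S9237.result A S).symm
  haveI hidloc : IsLocalHom (algebraMap (AdicCompletion (IsLocalRing.maximalIdeal A) A)
      (AdicCompletion (IsLocalRing.maximalIdeal A) A)) := by
    rw [Algebra.algebraMap_self]
    infer_instance
  haveI hselfH : Hensel.IsHenselization (AdicCompletion (IsLocalRing.maximalIdeal A) A)
      (AdicCompletion (IsLocalRing.maximalIdeal A) A) :=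
    { henselian := hHens
      universal := fun T _ _ f _ => ⟨f, by
        show f.comp (algebraMap _ _) = f
        rw [Algebra.algebraMap_self, RingHom.comp_id], fun g' hg' => by
        have hg'' : g'.comp (algebraMap (AdicCompletion (IsLocalRing.maximalIdeal A) A)
            (AdicCompletion (IsLocalRing.maximalIdeal A) A)) = f := hg'
        rw [Algebra.algebraMap_self, RingHom.comp_id] at hg''
        exact hg''⟩ }
  have hcAh : Brnch.numBranches (AdicCompletion (IsLocalRing.maximalIdeal A) A) =
      ENat.card (minimalPrimes (AdicCompletion (IsLocalRing.maximalIdeal A) A)) :=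
    (Groth.Agent.S9237.result (AdicCompletion (IsLocalRing.maximalIdeal A) A)
      (AdicCompletion (IsLocalRing.maximalIdeal A) A)).symm
  obtain ⟨hmaps, hsurj⟩ := Groth.Agent.S9240.result A S ψ hψ
  have hfinS : (minimalPrimes S).Finite := minimalPrimes.finite_of_isNoetherianRing S
  have hfinAh : (minimalPrimes (AdicCompletion (IsLocalRing.maximalIdeal A) A)).Finite :=
    minimalPrimes.finite_of_isNoetherianRing _
  have himg : Ideal.comap ψ '' (minimalPrimes (AdicCompletion (IsLocalRing.maximalIdeal A) A)) =
      minimalPrimes S := Set.Subset.antisymm (Set.image_subset_iff.2 hmaps) hsurj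
  have hcount : Brnch.numBranches A =
      Brnch.numBranches (AdicCompletion (IsLocalRing.maximalIdeal A) A) ↔
      Set.InjOn (Ideal.comap ψ) (minimalPrimes (AdicCompletion (IsLocalRing.maximalIdeal A) A)) := by
    rw [hcA, hcAh, ← Set.ncard_image_iff hfinAh, himg]
    show (minimalPrimes S).encard = (minimalPrimes _).encard ↔ _
    rw [← hfinS.cast_ncard_eq, ← hfinAh.cast_ncard_eq, Nat.cast_inj]
  rw [hcount]
  -- flatness of `ψ`
  subst hψc
  letI : Algebra S (AdicCompletion (IsLocalRing.maximalIdeal A) A) := can.toAlgebra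
  let el : EGA4.Cpl S ≃ₗ[S] AdicCompletion (IsLocalRing.maximalIdeal A) A :=
    { e.symm.toAddEquiv with
      map_smul' := fun s y => by
        change e.symm (s • y) = can s * e.symm y
        rw [Algebra.smul_def, map_mul]
        rfl }
  haveI : Module.Flat S (EGA4.Cpl S) := inferInstance
  haveI hflat : Module.Flat S (AdicCompletion (IsLocalRing.maximalIdeal A) A) :=
    Module.Flat.of_linearEquiv el.symm
  have hunder : ∀ Q : Ideal (AdicCompletion (IsLocalRing.maximalIdeal A) A),
      Ideal.comap can Q = Q.under S := fun Q => rfl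
  constructor
  · intro hinj q hq
    haveI hqp : q.IsPrime := hq.1.1
    obtain ⟨Q₀, hQ₀, hQ₀q⟩ := hsurj hq
    -- every minimal prime over `q Â` is `Q₀`
    have hall : ∀ Q ∈ (Ideal.map can q).minimalPrimes, Q = Q₀ := by
      intro Q hQ
      haveI hQp : Q.IsPrime := hQ.1.1
      have hqQ : q ≤ Q.under S := by
        rw [← hunder, ← Ideal.map_le_iff_le_comap]
        exact hQ.1.2
      haveI : Q.LiesOver (Q.under S) := ⟨rfl⟩
      obtain ⟨Q', hQ'Q, hQ'p, hQ'over⟩ := Ideal.exists_ideal_le_liesOver_of_le Q hqQ
      have hqQ' : Ideal.map can q ≤ Q' := by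
        rw [Ideal.map_le_iff_le_comap, hunder, ← hQ'over.over]
      have hQQ' : Q = Q' := le_antisymm (hQ.2 ⟨hQ'p, hqQ'⟩ hQ'Q) hQ'Q
      have hcomapQ : Ideal.comap can Q = q := by
        rw [hQQ', hunder, ← hQ'over.over]
      -- `Q` is a minimal prime of `Â`
      obtain ⟨Q'', hQ'', hQ''Q⟩ := Ideal.exists_minimalPrimes_le (I := ⊥) (J := Q) bot_le
      haveI := hQ''.1.1
      have h1 : Ideal.comap can Q'' ≤ q := by
        rw [← hcomapQ]
        exact Ideal.comap_mono hQ''Q
      have h2 : Ideal.comap can Q'' = q :=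
        le_antisymm h1 (hq.2 ⟨Ideal.IsPrime.comap _, bot_le⟩ h1)
      have h3 : Ideal.map can q ≤ Q'' := by
        rw [Ideal.map_le_iff_le_comap, h2]
      have h4 : Q = Q'' := le_antisymm (hQ.2 ⟨hQ''.1.1, h3⟩ hQ''Q) hQ''Q
      have hQmin : Q ∈ minimalPrimes (AdicCompletion (IsLocalRing.maximalIdeal A) A) := h4 ▸ hQ''
      exact hinj hQmin hQ₀ (hcomapQ.trans hQ₀q.symm)
    have hQ₀mem : Q₀ ∈ (Ideal.map can q).minimalPrimes := by
      refine ⟨⟨hQ₀.1.1, ?_⟩, fun P hP hPQ => hQ₀.2 ⟨hP.1, bot_le⟩ hPQ⟩
      rw [Ideal.map_le_iff_le_comap, hQ₀q]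
    have hset : (Ideal.map can q).minimalPrimes = {Q₀} := by
      ext Q
      constructor
      · intro hQ
        exact hall Q hQ
      · rintro rfl
        exact hQ₀mem
    rw [← Ideal.sInf_minimalPrimes, hset, sInf_singleton]
    exact hQ₀.1.1
  · intro hrad Q₁ hQ₁ Q₂ hQ₂ h12
    have hq : Ideal.comap can Q₁ ∈ minimalPrimes S := hmaps hQ₁
    have hR := hrad _ hq
    have key : ∀ Q ∈ minimalPrimes (AdicCompletion (IsLocalRing.maximalIdeal A) A),
        Ideal.comap can Q = Ideal.comap can Q₁ → Q = (Ideal.map can (Ideal.comap can Q₁)).radical := by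
      intro Q hQ hQq
      haveI := hQ.1.1
      have h1 : Ideal.map can (Ideal.comap can Q₁) ≤ Q := by
        rw [Ideal.map_le_iff_le_comap, hQq]
      have h2 : (Ideal.map can (Ideal.comap can Q₁)).radical ≤ Q :=
        (Ideal.IsPrime.radical_le_iff hQ.1.1).2 h1
      exact le_antisymm (hQ.2 ⟨hR, bot_le⟩ h2) h2
    rw [key Q₁ hQ₁ rfl, key Q₂ hQ₂ h12.symm]

end Groth.Agent.S9243
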