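import Groth.Statements.S9247
import Groth.Agent.Lib.Helper2.UfdLoc

set_option autoImplicit false
universe u
open CAlg

namespace Groth.Agent.S9247

/-- For a regular local ring R and an element f of R, the Picard group of R_f is trivial. -/
theorem result (R : Type u) [CommRing R]
    [IsRegularLocalRing R] (f : R) : Subsingleton (CommRing.Pic (Localization.Away f)) := by
  exact Groth.Agent.Lib.helper2.UfdLoc.subsingleton_pic_away R f

end Groth.Agent.S9247
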