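import Groth.Statements.S9249
import Groth.Agent.S0542
import Groth.Agent.Lib.Helper24.HensDepth
-- import your own Groth.Agent.* helpers here

set_option autoImplicit false
universe u
open CAlg

namespace Groth.Agent.S9249

/-- A Noetherian local ring is Cohen-Macaulay if and only if its completion is. -/
theorem result (A : Type u) [CommRing A] [IsLocalRing A]
    [IsNoetherianRing A] :
    LocCoh.IsCohenMacaulayLocalRing A ↔
      LocCoh.IsCohenMacaulayLocalRing (AdicCompletion (IsLocalRing.maximalIdeal A) A) := by
  haveI hN : IsNoetherianRing (AdicCompletion (IsLocalRing.maximalIdeal A) A) :=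
    Groth.Agent.S0542.result A (IsLocalRing.maximalIdeal A)
      (IsLocalRing.maximalIdeal A).fg_of_isNoetherianRing
  have hm : (IsLocalRing.maximalIdeal A).map
      (algebraMap A (AdicCompletion (IsLocalRing.maximalIdeal A) A)) =
      IsLocalRing.maximalIdeal (AdicCompletion (IsLocalRing.maximalIdeal A) A) :=
    AdicCompletion.maximalIdeal_eq_map.symm
  have hdim := Groth.Agent.Lib.Helper24.FlatLocalFibre.ringKrullDim_eq_of_flat A
    (AdicCompletion (IsLocalRing.maximalIdeal A) A) hm
  exact (Groth.Agent.Lib.Helper24.HensDepth.cm_iff A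
    (AdicCompletion (IsLocalRing.maximalIdeal A) A) hdim
    (Groth.Agent.Lib.Helper24.DepthFlat.depth_eq_of_flat A
      (AdicCompletion (IsLocalRing.maximalIdeal A) A) hm)).symm

end Groth.Agent.S9249
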