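import Groth.Statements.S9253
import Groth.Agent.LibLCIBridge29
-- import your own Groth.Agent.* helpers here

set_option autoImplicit false
universe u
attribute [local instance] HasDerivedCategory.standard
open CategoryTheory
open LCI

namespace Groth.Agent.S9253

/-- Let R → S be a ring map and g_1, ..., g_m elements of S generating the unit ideal. When every
localization S_{g_j} is a local complete intersection algebra over R, so is S. -/
theorem result (R S : Type u) [CommRing R] [CommRing S] [Algebra R S]
    (m : ℕ) (g : Fin m → S) (hg : Ideal.span (Set.range g) = ⊤)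
    (h : ∀ j, LCI.IsLCI R (Localization.Away (g j))) : LCI.IsLCI R S := by
  open AlgebraicGeometry in
  rw [Groth.Agent.LibLCIBridge29.isLCI_iff_forall_isKoszulAt_specMap]
  intro x
  obtain ⟨j, hj⟩ : ∃ j, g j ∉ (show PrimeSpectrum S from x).asIdeal := by
    by_contra hcon
    push Not at hcon
    have h1 : Ideal.span (Set.range g) ≤ (show PrimeSpectrum S from x).asIdeal :=
      Ideal.span_le.2 (by rintro _ ⟨j, rfl⟩; exact hcon j)
    rw [hg] at h1
    exact (show PrimeSpectrum S from x).isPrime.ne_top (top_le_iff.1 h1)
  have hrange : x ∈ Set.range
      (Spec.map (CommRingCat.ofHom (algebraMap S (Localization.Away (g j))))) := by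
    have h2 := PrimeSpectrum.localization_away_comap_range (Localization.Away (g j)) (g j)
    have h3 : (show PrimeSpectrum S from x) ∈
        Set.range (PrimeSpectrum.comap (algebraMap S (Localization.Away (g j)))) := by
      rw [h2]
      exact hj
    exact h3
  obtain ⟨x', rfl⟩ := hrange
  apply Groth.Agent.LibLCIBridge29.isKoszulAt_of_openImmersion_comp
  rw [← Spec.map_comp]
  have h4 := (Groth.Agent.LibLCIBridge29.isLCI_iff_forall_isKoszulAt_specMap R
    (Localization.Away (g j))).1 (h j) x'
  have h5 : CommRingCat.ofHom (algebraMap R (Localization.Away (g j))) =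
      CommRingCat.ofHom (algebraMap R S) ≫
        CommRingCat.ofHom (algebraMap S (Localization.Away (g j))) := by
    ext r
    exact IsScalarTower.algebraMap_apply R S (Localization.Away (g j)) r
  rw [h5] at h4
  exact h4

end Groth.Agent.S9253
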