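import Groth.Statements.S9256
import Mathlib

set_option autoImplicit false
universe u
open CAlg

namespace Groth.Agent.S9256


open TensorProduct IsLocalRing

/-- A local ring with nilpotent maximal ideal which is reduced is a field. -/
theorem maximalIdeal_eq_bot_of_isReduced {A : Type*} [CommRing A] [IsLocalRing A] [IsReduced A]
    (hnil : IsNilpotent (maximalIdeal A)) : maximalIdeal A = ⊥ := by
  obtain ⟨n, hn⟩ := hnil
  rw [eq_bot_iff]
  intro x hx
  have h1 : x ^ n ∈ maximalIdeal A ^ n := Ideal.pow_mem_pow hx n
  rw [hn] at h1
  exact IsReduced.eq_zero x ⟨n, h1⟩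

theorem isNilpotent_maximalIdeal_of_artinian {A : Type*} [CommRing A] [IsLocalRing A]
    [IsArtinianRing A] : IsNilpotent (maximalIdeal A) := by
  have h1 := IsLocalRing.jacobson_eq_maximalIdeal (R := A) ⊥ bot_ne_top
  rw [← h1]
  exact IsArtinianRing.isNilpotent_jacobson_bot


theorem isReduced_of_maximalIdeal_eq_bot {A : Type*} [CommRing A] [IsLocalRing A]
    (hbot : maximalIdeal A = ⊥) : IsReduced A := by
  constructor
  intro x hx
  have hxm : x ∈ maximalIdeal A := by
    rw [IsLocalRing.mem_maximalIdeal]
    intro hu
    obtain ⟨n, hn⟩ := hx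
    have := hu.pow n
    rw [hn] at this
    exact not_isUnit_zero this
  rw [hbot] at hxm
  exact hxm

theorem maximalIdeal_eq_bot_of_regular_artinian {A : Type*} [CommRing A] [IsLocalRing A]
    [IsNoetherianRing A] [IsArtinianRing A] (h : IsRegularLocalRing A) : maximalIdeal A = ⊥ := by
  have hdim : ringKrullDim A = 0 := by
    have h0 : Ring.KrullDimLE 0 A := isArtinianRing_iff_krullDimLE_zero.mp inferInstance
    exact ringKrullDimZero_iff_ringKrullDim_eq_zero.mp h0
  have hspan := (isRegularLocalRing_iff A).mp h
  rw [hdim] at hspan
  have hspan0 : (maximalIdeal A).spanFinrank = 0 := by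
    exact_mod_cast hspan
  exact (Submodule.spanFinrank_eq_zero_iff_eq_bot (IsNoetherian.noetherian _)).mp hspan0

/-- R1: separable ⟹ all finite base changes are regular. -/
theorem isRegularRing_tensor_of_geomReduced {k K k' : Type u} [Field k] [Field K] [Algebra k K]
    [Algebra.IsGeometricallyReduced k K] [Field k'] [Algebra k k'] [Module.Finite k k'] :
    IsRegularRing (k' ⊗[k] K) := by
  haveI : Algebra.IsAlgebraic k k' := Algebra.IsAlgebraic.of_finite k k'
  haveI : IsReduced (k' ⊗[k] K) := inferInstance
  haveI : Module.Finite K (K ⊗[k] k') := inferInstance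
  haveI : IsArtinianRing (K ⊗[k] k') := IsArtinianRing.of_finite K (K ⊗[k] k')
  haveI : IsArtinianRing (k' ⊗[k] K) :=
    RingEquiv.isArtinianRing (Algebra.TensorProduct.comm k K k').toRingEquiv
  rw [isRegularRing_iff]
  intro q hq
  have hbot : maximalIdeal (Localization.AtPrime q) = ⊥ :=
    maximalIdeal_eq_bot_of_isReduced isNilpotent_maximalIdeal_of_artinian
  have hfield : IsField (Localization.AtPrime q) :=
    IsLocalRing.isField_iff_maximalIdeal_eq.mpr hbot
  letI : Field (Localization.AtPrime q) := hfield.toField
  infer_instance

/-- R2: if all finite base changes are regular then the extension is separable. -/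
theorem geomReduced_of_isRegularRing_tensor {k K : Type u} [Field k] [Field K] [Algebra k K]
    (h : ∀ (k' : Type u) [Field k'] [Algebra k k'], Module.Finite k k' → IsRegularRing (k' ⊗[k] K)) :
    Algebra.IsGeometricallyReduced k K := by
  classical
  rw [Algebra.isGeometricallyReduced_field_iff]
  have key : ∀ B : Subalgebra k (AlgebraicClosure k), B.FG → IsReduced (K ⊗[k] B) := by
    intro B hB
    letI : Field B := (Subalgebra.isField_of_algebraic B).toField
    haveI : Algebra.FiniteType k B := (Subalgebra.fg_iff_finiteType B).mp hB
    haveI : Algebra.IsAlgebraic k B :=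
      Algebra.IsAlgebraic.of_injective B.val Subtype.val_injective
    haveI : Algebra.IsIntegral k B := Algebra.IsAlgebraic.isIntegral
    haveI : Module.Finite k B := Algebra.IsIntegral.finite
    haveI : Module.Finite K (K ⊗[k] B) := inferInstance
    haveI : IsArtinianRing (K ⊗[k] B) := IsArtinianRing.of_finite K (K ⊗[k] B)
    haveI : IsArtinianRing (B ⊗[k] K) :=
      RingEquiv.isArtinianRing (Algebra.TensorProduct.comm k K B).toRingEquiv
    haveI hreg : IsRegularRing (B ⊗[k] K) := h B inferInstance
    have hW : IsReduced (B ⊗[k] K) := by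
      apply isReduced_ofLocalizationMaximal
      intro J hJ
      have hRLR : IsRegularLocalRing (Localization.AtPrime J) :=
        IsRegularRing.isRegularLocalRing_localization J
      exact isReduced_of_maximalIdeal_eq_bot (maximalIdeal_eq_bot_of_regular_artinian hRLR)
    exact isReduced_of_injective (Algebra.TensorProduct.comm k K B).toRingEquiv.toRingHom
      (Algebra.TensorProduct.comm k K B).injective
  haveI : IsReduced (K ⊗[k] AlgebraicClosure k) :=
    IsReduced.tensorProduct_of_flat_of_forall_fg key
  exact isReduced_of_injective (Algebra.TensorProduct.comm k (AlgebraicClosure k) K).toRingEquiv.toRingHom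
    (Algebra.TensorProduct.comm k (AlgebraicClosure k) K).injective

/-- For a field extension K of k, the ring map k → K is regular exactly when K is separable over k, that
is, geometrically reduced over k. -/
theorem result (k K : Type u) [Field k] [Field K]
    [Algebra k K] : CAlg.IsRegularHom k K ↔ Algebra.IsGeometricallyReduced k K := by
  classical
  constructor
  · rintro ⟨-, hfib⟩
    apply geomReduced_of_isRegularRing_tensor
    intro k' _ _ hfin
    haveI hp : (⊥ : Ideal k).IsPrime := Ideal.isPrime_bot
    obtain ⟨-, hgr⟩ := hfib (⊥ : Ideal k)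
    let e := (⊥ : Ideal k).algEquivResidueFieldOfField
    letI a1 : Algebra (⊥ : Ideal k).ResidueField k' :=
      ((algebraMap k k').comp e.symm.toAlgHom.toRingHom).toAlgebra
    haveI : IsScalarTower k (⊥ : Ideal k).ResidueField k' := by
      apply IsScalarTower.of_algebraMap_eq
      intro x
      show algebraMap k k' x = algebraMap k k' (e.symm (algebraMap k _ x))
      rw [← Ideal.algEquivResidueFieldOfField_apply, AlgEquiv.symm_apply_apply]
    haveI : Module.Finite (⊥ : Ideal k).ResidueField k' :=
      Module.Finite.of_restrictScalars_finite k _ k'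
    haveI := hgr k' inferInstance
    exact IsRegularRing.of_ringEquiv
      (Algebra.TensorProduct.cancelBaseChange k (⊥ : Ideal k).ResidueField
        (⊥ : Ideal k).ResidueField k' K).toRingEquiv
  · intro hsep
    refine ⟨inferInstance, fun p hp => ⟨?_, ?_⟩⟩
    · let e := p.algEquivResidueFieldOfField
      let e2 : p.Fiber K ≃ₐ[k] K :=
        (Algebra.TensorProduct.congr e.symm (AlgEquiv.refl (R := k) (A₁ := K))).trans
          (Algebra.TensorProduct.lid k K)
      exact isNoetherianRing_of_ringEquiv K e2.symm.toRingEquiv
    · intro k' _ _ hfin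
      let e := p.algEquivResidueFieldOfField
      letI a1 : Algebra k k' := ((algebraMap p.ResidueField k').comp (algebraMap k _)).toAlgebra
      haveI : IsScalarTower k p.ResidueField k' := IsScalarTower.of_algebraMap_eq' rfl
      haveI : Module.Finite k p.ResidueField := Module.Finite.equiv e.toLinearEquiv
      haveI : Module.Finite k k' := Module.Finite.trans p.ResidueField k'
      haveI : IsRegularRing (k' ⊗[k] K) := isRegularRing_tensor_of_geomReduced
      exact IsRegularRing.of_ringEquiv
        (Algebra.TensorProduct.cancelBaseChange k p.ResidueField p.ResidueField k' K).symm.toRingEquiv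

end Groth.Agent.S9256
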