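import Groth.Statements.S9257
import Groth.Agent.Lib.Helper24.GRingQuot2
import Groth.Agent.Lib.Helper24.RegHomLoc

set_option autoImplicit false
universe u
open CAlg

namespace Groth.Agent.S9257

/-- A Noetherian ring R is a G-ring exactly when, for all primes q ⊆ p of R, the completion of the local
domain (R/q)_p tensored with its fraction field κ(q) is geometrically regular over κ(q). Here the
pairs q ⊆ p are enumerated as primes P of R/q. -/
theorem result (R : Type u) [CommRing R] [IsNoetherianRing R] :
    CAlg.IsGRing R ↔
      ∀ (q : Ideal R) [q.IsPrime] (P : Ideal (R ⧸ q)) [P.IsPrime],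
        CAlg.IsGeometricallyRegular (⊥ : Ideal (Localization.AtPrime P)).ResidueField
          (EGA4.formalFibre (Localization.AtPrime P) (⊥ : Ideal (Localization.AtPrime P))) := by
  classical
  -- common set-up for primes `q ≤ p`
  have setup : ∀ (q p : Ideal R) [q.IsPrime] [p.IsPrime], q ≤ p →
      (q.map (algebraMap R (Localization.AtPrime p))).IsPrime ∧
      IsLocalRing (Localization.AtPrime p ⧸ q.map (algebraMap R (Localization.AtPrime p))) := by
    intro q p _ _ hqp
    have hdisj : Disjoint (p.primeCompl : Set R) (q : Set R) := by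
      rw [Set.disjoint_left]
      intro r hr hrq
      exact hr (hqp hrq)
    have hJ : (q.map (algebraMap R (Localization.AtPrime p))).IsPrime :=
      IsLocalization.isPrime_of_isPrime_disjoint p.primeCompl _ q inferInstance hdisj
    refine ⟨hJ, ?_⟩
    haveI : Nontrivial (Localization.AtPrime p ⧸ q.map (algebraMap R (Localization.AtPrime p))) :=
      Ideal.Quotient.nontrivial_iff.2 hJ.ne_top
    exact IsLocalRing.of_surjective' (Ideal.Quotient.mk _) Ideal.Quotient.mk_surjective
  constructor
  · intro hG q _ P _
    have hqp : q ≤ P.comap (Ideal.Quotient.mk q) := by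
      intro r hr
      rw [Ideal.mem_comap, Ideal.Quotient.eq_zero_iff_mem.2 hr]
      exact P.zero_mem
    obtain ⟨hJ, hloc⟩ := setup q (P.comap (Ideal.Quotient.mk q)) hqp
    haveI := hJ
    haveI := hloc
    exact (Groth.Agent.Lib.Helper24.GRingQuot.core_iff R q (P.comap (Ideal.Quotient.mk q)) P rfl).2
      ((hG.2 (P.comap (Ideal.Quotient.mk q))).2
        (q.map (algebraMap R (Localization.AtPrime (P.comap (Ideal.Quotient.mk q)))))).2
  · intro H
    refine ⟨inferInstance, fun p _ => ⟨inferInstance, fun p' _ => ⟨?_, ?_⟩⟩⟩
    · have hfg : (IsLocalRing.maximalIdeal (Localization.AtPrime p)).FG :=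
        IsNoetherian.noetherian _
      haveI : IsNoetherianRing (Localization.AtPrime p ⧸
          IsLocalRing.maximalIdeal (Localization.AtPrime p)) :=
        (inferInstance : IsNoetherianRing (IsLocalRing.ResidueField (Localization.AtPrime p)))
      haveI : IsNoetherianRing (AdicCompletion (IsLocalRing.maximalIdeal (Localization.AtPrime p))
          (Localization.AtPrime p)) :=
        Groth.Agent.S0542.result _ _ hfg
      exact Groth.Agent.Lib.Helper24.RegHomLoc.isNoetherianRing_fibre _ _ p'
    · set q : Ideal R := p'.comap (algebraMap R (Localization.AtPrime p)) with hq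
      have hqp : q ≤ p := by
        intro r hr
        by_contra hrp
        have hu : IsUnit (algebraMap R (Localization.AtPrime p) r) :=
          IsLocalization.map_units (Localization.AtPrime p) (⟨r, hrp⟩ : p.primeCompl)
        exact (Ideal.IsPrime.ne_top inferInstance) (Ideal.eq_top_of_isUnit_mem p' hr hu)
      have hJeq : q.map (algebraMap R (Localization.AtPrime p)) = p' :=
        IsLocalization.map_under p.primeCompl (Localization.AtPrime p) p'
      obtain ⟨hJ, hloc⟩ := setup q p hqp
      haveI := hJ
      haveI := hloc
      have hker : RingHom.ker (Ideal.Quotient.mk q) ≤ p := by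
        rw [Ideal.mk_ker]; exact hqp
      haveI hPprime : (p.map (Ideal.Quotient.mk q)).IsPrime :=
        Ideal.map_isPrime_of_surjective Ideal.Quotient.mk_surjective hker
      have hP : (p.map (Ideal.Quotient.mk q)).comap (Ideal.Quotient.mk q) = p := by
        rw [Ideal.comap_map_of_surjective' _ Ideal.Quotient.mk_surjective, Ideal.mk_ker,
          sup_eq_left.2 hqp]
      have h1 := (Groth.Agent.Lib.Helper24.GRingQuot.core_iff R q p (p.map (Ideal.Quotient.mk q))
        hP).1 (H q (p.map (Ideal.Quotient.mk q)))
      exact Groth.Agent.Lib.Helper24.GRingQuot.geomReg_of_eq _ _ hJeq.symm h1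

end Groth.Agent.S9257
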