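import Groth.Statements.S9258
import Groth.Agent.Lib.Helper24.FSLift
import Groth.Agent.S16981

set_option autoImplicit false
universe u
open CAlg

namespace Groth.Agent.S9258

/-- Suppose A → B is a local map of Noetherian local rings, B is complete, and A → B is formally smooth
for the adic topology of the maximal ideal of B. Then each derivation D of A extends to a derivation
D' of B, in the sense that D' restricted along A → B equals D followed by A → B. -/
theorem result (A B : Type u) [CommRing A]
    [CommRing B] [IsLocalRing A] [IsLocalRing B] [IsNoetherianRing A] [IsNoetherianRing B]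
    [Algebra A B] [IsLocalHom (algebraMap A B)]
    [IsAdicComplete (IsLocalRing.maximalIdeal B) B]
    (hfs : CAlgX.IsAdicFormallySmooth A B (IsLocalRing.maximalIdeal B)) (D : Derivation ℤ A A) :
    ∃ D' : Derivation ℤ B B, ∀ a : A, D' (algebraMap A B a) = algebraMap A B (D a) := by
  classical
  let φ : A →+* B := algebraMap A B
  -- the twisted structure map `A → B[ε]`
  let κ : A →+* TrivSqZeroExt B B :=
    { toFun := fun a => TrivSqZeroExt.inl (φ a) + TrivSqZeroExt.inr (φ (D a))
      map_one' := by
        apply TrivSqZeroExt.ext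
        · simp
        · simp
      map_mul' := fun a b => by
        apply TrivSqZeroExt.ext
        · simp
        · simp [Derivation.leibniz, mul_comm]
      map_zero' := by
        apply TrivSqZeroExt.ext
        · simp
        · simp
      map_add' := fun a b => by
        apply TrivSqZeroExt.ext
        · simp
        · simp }
  have hκ1 : ∀ a, (κ a).fst = φ a := fun a => by
    show (TrivSqZeroExt.inl (φ a) + TrivSqZeroExt.inr (φ (D a)) : TrivSqZeroExt B B).fst = _
    simp
  have hκ2 : ∀ a, (κ a).snd = φ (D a) := fun a => by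
    show (TrivSqZeroExt.inl (φ a) + TrivSqZeroExt.inr (φ (D a)) : TrivSqZeroExt B B).snd = _
    simp
  let f : TrivSqZeroExt B B →+* B := (TrivSqZeroExt.fstHom B B B).toRingHom
  have hf : Function.Surjective f := fun b => ⟨TrivSqZeroExt.inl b, rfl⟩
  have hfa : ∀ x, f x = x.fst := fun x => rfl
  have hkermem : ∀ x, x ∈ RingHom.ker f ↔ x.fst = 0 := fun x => Iff.rfl
  have hsq : RingHom.ker f ^ 2 = ⊥ := by
    rw [eq_bot_iff, pow_two, Ideal.mul_le]
    intro x hx y hy
    rw [hkermem] at hx hy
    rw [Ideal.mem_bot]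
    apply TrivSqZeroExt.ext
    · simp [hx]
    · simp [hx, hy]
  have hfg : (RingHom.ker f).FG := by
    refine ⟨{TrivSqZeroExt.inr 1}, ?_⟩
    apply le_antisymm
    · rw [Finset.coe_singleton, Ideal.span_le, Set.singleton_subset_iff]
      exact (hkermem _).2 (by simp)
    · intro x hx
      rw [Finset.coe_singleton, Ideal.mem_span_singleton']
      refine ⟨TrivSqZeroExt.inl x.snd, ?_⟩
      apply TrivSqZeroExt.ext
      · simp [(hkermem x).1 hx]
      · simp
  haveI hcompl : IsAdicComplete ((IsLocalRing.maximalIdeal B).comap f) (TrivSqZeroExt B B) :=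
    Groth.Agent.S16981.result f hf hsq hfg
  have hJm : RingHom.ker f ≤ (IsLocalRing.maximalIdeal B).comap f := by
    intro x hx
    rw [Ideal.mem_comap, (RingHom.mem_ker).1 hx]
    exact Submodule.zero_mem _
  have hsep : ∀ x : TrivSqZeroExt B B,
      (∀ n, x ∈ ((IsLocalRing.maximalIdeal B).comap f) ^ n ⊔ RingHom.ker f) → x ∈ RingHom.ker f := by
    intro x hx
    rw [RingHom.mem_ker]
    have h1 : f x ∈ ⨅ n, (IsLocalRing.maximalIdeal B) ^ n := by
      rw [Ideal.mem_iInf]
      intro n
      obtain ⟨y, hy, z, hz, rfl⟩ := Submodule.mem_sup.1 (hx n)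
      rw [map_add, (RingHom.mem_ker).1 hz, add_zero]
      have h2 : f y ∈ (((IsLocalRing.maximalIdeal B).comap f) ^ n).map f := Ideal.mem_map_of_mem f hy
      rw [Ideal.map_pow] at h2
      exact Ideal.pow_right_mono (Ideal.map_comap_le) n h2
    rw [Ideal.iInf_pow_eq_bot_of_isLocalRing _ (IsLocalRing.maximalIdeal.isMaximal _).ne_top] at h1
    exact h1
  let e : (TrivSqZeroExt B B ⧸ RingHom.ker f) ≃+* B := RingHom.quotientKerEquivOfSurjective hf
  have he : ∀ x, e (Ideal.Quotient.mk _ x) = x.fst := fun x => rfl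
  have hu : e.symm.toRingHom.comp (algebraMap A B) = (Ideal.Quotient.mk (RingHom.ker f)).comp κ := by
    apply RingHom.ext
    intro a
    show e.symm (φ a) = Ideal.Quotient.mk _ (κ a)
    rw [RingEquiv.symm_apply_eq, he, hκ1]
  have hun : ∀ x ∈ IsLocalRing.maximalIdeal B, e.symm.toRingHom x ∈
      ((IsLocalRing.maximalIdeal B).comap f).map (Ideal.Quotient.mk (RingHom.ker f)) := by
    intro x hx
    have h1 : e.symm.toRingHom x = Ideal.Quotient.mk _ (TrivSqZeroExt.inl x) := by
      show e.symm x = _
      rw [RingEquiv.symm_apply_eq, he]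
      simp
    rw [h1]
    refine Ideal.mem_map_of_mem _ ?_
    rw [Ideal.mem_comap, hfa]
    simpa using hx
  obtain ⟨v, hv1, hv2⟩ := Groth.Agent.Lib.Helper24.FSLift.exists_lift_complete hfs κ
    ((IsLocalRing.maximalIdeal B).comap f) (RingHom.ker f) hJm hsep e.symm.toRingHom hu hun
  have hvfst : ∀ b, (v b).fst = b := by
    intro b
    have h1 : Ideal.Quotient.mk (RingHom.ker f) (v b) = e.symm b := RingHom.congr_fun hv2 b
    rw [← he, h1, RingEquiv.apply_symm_apply]
  let L : B →ₗ[ℤ] B :=
    (((TrivSqZeroExt.sndHom B B).toAddMonoidHom).comp v.toAddMonoidHom).toIntLinearMap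
  have hL : ∀ b, L b = (v b).snd := fun b => rfl
  refine ⟨Derivation.mk' L ?_, ?_⟩
  · intro b b'
    rw [hL, hL, hL, map_mul, TrivSqZeroExt.snd_mul, hvfst, hvfst]
    simp [add_comm, mul_comm]
  · intro a
    show L (φ a) = φ (D a)
    rw [hL, ← hκ2]
    have h1 : v (φ a) = κ a := RingHom.congr_fun hv1 a
    rw [h1]

end Groth.Agent.S9258
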