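import Groth.Statements.S9260
import Mathlib
import Groth.Agent.Lib.Helper22.SplitAlgQuot

set_option autoImplicit false
universe u
open CAlg

namespace Groth.Agent.S9260

section helpers
open Groth.Agent.Lib.helper22.SplitAlg

/-- Elements of `J·R` are finite combinations. -/
theorem exists_fin_sum {A R : Type*} [CommRing A] [CommRing R] [Algebra A R] (J : Ideal A) (x : R)
    (hx : x ∈ Ideal.map (algebraMap A R) J) :
    ∃ (m : ℕ) (j : Fin m → A) (r : Fin m → R), (∀ i, j i ∈ J) ∧
      x = ∑ i, algebraMap A R (j i) * r i := by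
  refine Submodule.span_induction (p := fun x _ => ∃ (m : ℕ) (j : Fin m → A) (r : Fin m → R),
    (∀ i, j i ∈ J) ∧ x = ∑ i, algebraMap A R (j i) * r i) ?_ ?_ ?_ ?_ hx
  · rintro _ ⟨a, ha, rfl⟩
    exact ⟨1, fun _ => a, fun _ => 1, fun _ => ha, by simp⟩
  · exact ⟨0, Fin.elim0, Fin.elim0, fun i => i.elim0, by simp⟩
  · rintro x y _ _ ⟨m, j, r, hj, rfl⟩ ⟨m', j', r', hj', rfl⟩
    refine ⟨m + m', Fin.append j j', Fin.append r r', ?_, ?_⟩
    · intro i
      refine Fin.addCases (fun i => ?_) (fun i => ?_) i
      · simpa using hj i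
      · simpa using hj' i
    · rw [Fin.sum_univ_add]
      simp
  · rintro c x _ ⟨m, j, r, hj, rfl⟩
    refine ⟨m, j, fun i => c * r i, hj, ?_⟩
    rw [smul_eq_mul, Finset.mul_sum]
    refine Finset.sum_congr rfl fun i _ => ?_
    ring

theorem vietaPoly_natDegree_le {A : Type*} [CommRing A] {r : ℕ} (a : Fin r → A) :
    (vietaPoly a).natDegree ≤ r := by
  rcases subsingleton_or_nontrivial A with h | h
  · rw [Polynomial.natDegree_of_subsingleton]; exact Nat.zero_le _
  · exact (vietaPoly_natDegree a).le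

theorem vietaPoly_coeff_mem {A : Type*} [CommRing A] {r : ℕ} (a : Fin r → A) (J : Ideal A)
    (ha : ∀ i, a i ∈ J) (i : ℕ) (hi : i < r) : (vietaPoly a).coeff i ∈ J := by
  rw [vietaPoly, Polynomial.coeff_add, Polynomial.coeff_X_pow, if_neg (by omega), zero_add]
  have h1 : i = r - ((r - 1 - i) + 1) := by omega
  have h2 : r - 1 - i < r := by omega
  rw [h1, coeff_lowSum r _ h2, ext0_of_lt a h2]
  exact Ideal.mul_mem_left _ _ (ha _)

theorem ringHom_aeval_int {M N ι : Type*} [CommRing M] [CommRing N] [Algebra ℤ M] [Algebra ℤ N]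
    (φ : M →+* N) (g : ι → M)
    (p : MvPolynomial ι ℤ) :
    φ (MvPolynomial.aeval g p) = MvPolynomial.aeval (fun i => φ (g i)) p := by
  induction p using MvPolynomial.induction_on with
  | C a => simp
  | add p q hp hq => simp [hp, hq]
  | mul_X p i hp => simp [hp]

theorem eval_mem_of_coeff_zero {A : Type*} [CommRing A] {m : ℕ} (J : Ideal A) (j : Fin m → A)
    (hj : ∀ i, j i ∈ J) (p : MvPolynomial (Fin m) A) (h0 : p.coeff 0 = 0) :
    MvPolynomial.eval j p ∈ J := by
  rw [MvPolynomial.eval_eq]
  refine Ideal.sum_mem _ fun d hd => ?_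
  have hd0 : d ≠ 0 := by
    rintro rfl
    exact (MvPolynomial.mem_support_iff.mp hd) h0
  obtain ⟨i, hi⟩ : ∃ i, d i ≠ 0 := by
    by_contra h
    push Not at h
    exact hd0 (Finsupp.ext h)
  refine Ideal.mul_mem_left _ _ ?_
  have hmem : i ∈ d.support := Finsupp.mem_support_iff.mpr hi
  rw [← Finset.mul_prod_erase _ _ hmem]
  exact Ideal.mul_mem_right _ _ (Ideal.pow_mem_of_mem _ (hj i) _ (Nat.pos_of_ne_zero hi))

theorem aeval_zero_esymm {N : Type*} [CommRing N] [Algebra ℤ N] (n k : ℕ) (hk : 1 ≤ k) :
    MvPolynomial.aeval (fun _ : Fin n => (0 : N)) (MvPolynomial.esymm (Fin n) ℤ k) = 0 := by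
  rw [MvPolynomial.aeval_esymm_eq_multiset_esymm, Finset.esymm_map_val]
  refine Finset.sum_eq_zero fun t ht => ?_
  have hcard : t.card = k := (Finset.mem_powersetCard.mp ht).2
  obtain ⟨i, hi⟩ : t.Nonempty := Finset.card_pos.mp (by omega)
  exact Finset.prod_eq_zero hi rfl

theorem algebraMap_eval {A R : Type*} [CommRing A] [CommRing R] [Algebra A R] {m : ℕ}
    (j : Fin m → A) (p : MvPolynomial (Fin m) A) :
    algebraMap A R (MvPolynomial.eval j p) =
      MvPolynomial.eval (fun i => algebraMap A R (j i)) (MvPolynomial.map (algebraMap A R) p) := by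
  induction p using MvPolynomial.induction_on with
  | C a => simp
  | add p q hp hq => simp [hp, hq]
  | mul_X p i hp => simp [hp]


end helpers

/-- Suppose a finite group G with n elements acts on a ring R by ring automorphisms, A → R is a ring map
compatible with the action whose image contains the invariants (so that A maps onto R^G), J is an
ideal of A, and x lies in JR. Then ∏_σ (T - σ(x)) is the image of a monic polynomial over A of
degree at most n whose coefficients below degree n all lie in J. (The published statement takes A =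
R^G and a polynomial of degree n; this row allows any such A mapping onto R^G and asks degree at
most n, which is the same when A is nonzero.) -/
theorem result (A R G : Type u) [CommRing A]
    [CommRing R] [Algebra A R] [Group G] [Fintype G] [MulSemiringAction G R] [SMulCommClass G A R]
    [Algebra.IsInvariant A R G] (J : Ideal A) (x : R) (hx : x ∈ Ideal.map (algebraMap A R) J) :
    ∃ P : Polynomial A, P.Monic ∧ P.natDegree ≤ Fintype.card G ∧
      (∀ i : ℕ, i < Fintype.card G → P.coeff i ∈ J) ∧
      Polynomial.map (algebraMap A R) P = ∏ σ : G, (Polynomial.X - Polynomial.C (σ • x)) := by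
  classical
  obtain ⟨m, j, r, hj, rfl⟩ := exists_fin_sum J x hx
  set n := Fintype.card G with hn
  let e : G ≃ Fin n := Fintype.equivFin G
  -- the action as ring homs
  let ρ : G → (R →+* R) := fun σ => MulSemiringAction.toRingHom G R σ
  have hρ : ∀ (σ : G) (y : R), ρ σ y = σ • y := fun _ _ => rfl
  have hρalg : ∀ (σ : G) (a : A), σ • (algebraMap A R a) = algebraMap A R a := by
    intro σ a
    rw [Algebra.algebraMap_eq_smul_one, smul_comm, smul_one]
  -- generic linear form
  let L : MvPolynomial (Fin m) R := ∑ i, MvPolynomial.C (r i) * MvPolynomial.X i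
  let Lf : Fin n → MvPolynomial (Fin m) R := fun k => MvPolynomial.map (ρ (e.symm k)) L
  let E : ℕ → MvPolynomial (Fin m) R :=
    fun k => MvPolynomial.aeval Lf (MvPolynomial.esymm (Fin n) ℤ k)
  -- invariance of E k
  have hinv : ∀ (τ : G) (k : ℕ), MvPolynomial.map (ρ τ) (E k) = E k := by
    intro τ k
    let π : Equiv.Perm (Fin n) := (e.symm.trans (Equiv.mulLeft τ)).trans e
    have h1 : ∀ i, MvPolynomial.map (ρ τ) (Lf i) = Lf (π i) := by
      intro i
      have hcomp : (ρ τ).comp (ρ (e.symm i)) = ρ (τ * e.symm i) :=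
        RingHom.ext fun y => (mul_smul τ (e.symm i) y).symm
      simp only [Lf, π, MvPolynomial.map_map, Equiv.trans_apply, Equiv.symm_apply_apply,
        Equiv.coe_mulLeft, hcomp]
    have h0 := ringHom_aeval_int (MvPolynomial.map (ρ τ)) Lf (MvPolynomial.esymm (Fin n) ℤ k)
    change MvPolynomial.map (ρ τ) (MvPolynomial.aeval Lf (MvPolynomial.esymm (Fin n) ℤ k)) = _
    rw [h0]
    simp only [h1]
    have h2 : (fun i => Lf (π i)) = Lf ∘ π := rfl
    rw [h2, ← MvPolynomial.aeval_rename, MvPolynomial.rename_esymm]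
  -- descend E k to A
  have hconst : ∀ k, 1 ≤ k → MvPolynomial.coeff 0 (E k) = 0 := by
    intro k hk
    have h0 := ringHom_aeval_int (MvPolynomial.constantCoeff (σ := Fin m) (R := R)) Lf
      (MvPolynomial.esymm (Fin n) ℤ k)
    have h1 : ∀ i, MvPolynomial.constantCoeff (Lf i) = 0 := by
      intro i
      simp [Lf, L]
    simp only [h1] at h0
    rw [aeval_zero_esymm n k hk] at h0
    exact h0
  have hdesc : ∀ k, 1 ≤ k → ∃ F : MvPolynomial (Fin m) A,
      MvPolynomial.map (algebraMap A R) F = E k ∧ F.coeff 0 = 0 := by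
    intro k hk
    have hmem : E k ∈ Set.range (MvPolynomial.map (algebraMap A R)) := by
      rw [MvPolynomial.mem_range_map_iff_coeffs_subset]
      intro c hc
      obtain ⟨d, -, rfl⟩ := MvPolynomial.mem_coeffs_iff.mp hc
      obtain ⟨a, ha⟩ := Algebra.IsInvariant.isInvariant (A := A) (G := G)
        (MvPolynomial.coeff d (E k)) (fun τ => by
          have := congrArg (MvPolynomial.coeff d) (hinv τ k)
          rw [MvPolynomial.coeff_map] at this
          exact this)
      exact ⟨a, ha⟩
    obtain ⟨F, hF⟩ := hmem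
    refine ⟨F - MvPolynomial.C (F.coeff 0), ?_, by simp⟩
    have h2 : algebraMap A R (F.coeff 0) = 0 := by
      rw [← MvPolynomial.coeff_map, hF, hconst k hk]
    rw [map_sub, hF, MvPolynomial.map_C, h2, map_zero, sub_zero]
  choose! F hF hF0 using hdesc
  let c : Fin n → A := fun i => MvPolynomial.eval j (F ((i : ℕ) + 1))
  let b : Fin n → R := fun i => e.symm i • ∑ i, algebraMap A R (j i) * r i
  refine ⟨Groth.Agent.Lib.helper22.SplitAlg.vietaPoly c, Groth.Agent.Lib.helper22.SplitAlg.vietaPoly_monic c, vietaPoly_natDegree_le c,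
    vietaPoly_coeff_mem c J (fun i => eval_mem_of_coeff_zero J j hj _ (hF0 _ (by omega))), ?_⟩
  have hprod : ∏ σ : G, (Polynomial.X - Polynomial.C (σ • ∑ i, algebraMap A R (j i) * r i)) =
      ∏ i : Fin n, (Polynomial.X - Polynomial.C (b i)) :=
    Fintype.prod_equiv e _ _ (fun σ => by simp [b])
  rw [hprod, Groth.Agent.Lib.helper22.SplitAlg.prod_eq_vietaPoly_iff]
  intro i
  have hLf : ∀ k, MvPolynomial.eval (fun i => algebraMap A R (j i)) (Lf k) = b k := by
    intro k
    simp only [Lf, L, b, map_sum, map_mul, MvPolynomial.map_C, MvPolynomial.map_X,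
      MvPolynomial.eval_C, MvPolynomial.eval_X, Finset.smul_sum, smul_mul', hρalg, hρ]
    refine Finset.sum_congr rfl fun i _ => mul_comm _ _
  rw [algebraMap_eval, hF _ (by omega)]
  have h3 := ringHom_aeval_int (MvPolynomial.eval (fun i => algebraMap A R (j i))) Lf
    (MvPolynomial.esymm (Fin n) ℤ ((i : ℕ) + 1))
  change _ = MvPolynomial.eval _ (MvPolynomial.aeval Lf (MvPolynomial.esymm (Fin n) ℤ ((i : ℕ) + 1)))
  rw [h3]
  simp only [hLf]
  rw [MvPolynomial.aeval_esymm_eq_multiset_esymm]

end Groth.Agent.S9260
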