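import Groth.Statements.S9261
import Mathlib

set_option autoImplicit false
universe u
open CAlg

namespace Groth.Agent.S9261

/-- Let G be a finite group acting on a ring R, S = R^G its ring of invariants (here: S → R injective
with image the invariants) and A a flat S-algebra. Then the map A → A ⊗_S R is injective with image
the invariants of G acting on A ⊗_S R through the second factor; that is, A → (A ⊗_S R)^G is an
isomorphism. -/
theorem result (S R A G : Type u) [CommRing S] [CommRing R] [Algebra S R]
    [FaithfulSMul S R] [Group G] [Finite G] [MulSemiringAction G R] [SMulCommClass G S R]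
    [Algebra.IsInvariant S R G] [CommRing A] [Algebra S A] [Module.Flat S A] :
    Function.Injective (algebraMap A (TensorProduct S A R)) ∧
      ∀ x : TensorProduct S A R,
        (∀ σ : G, Algebra.TensorProduct.map (AlgHom.id S A) (MulSemiringAction.toAlgHom S R σ) x = x) →
          x ∈ Set.range (algebraMap A (TensorProduct S A R)) := by
  classical
  haveI := Fintype.ofFinite G
  let f : S →ₗ[S] R := Algebra.linearMap S R
  let g : R →ₗ[S] (G → R) :=
    LinearMap.pi (fun σ => (MulSemiringAction.toAlgHom S R σ).toLinearMap - LinearMap.id)
  have hg : ∀ (r : R) (σ : G), g r σ = σ • r - r := fun r σ => rfl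
  have hex : Function.Exact f g := by
    intro r
    constructor
    · intro h
      have h' : ∀ σ : G, σ • r = r := fun σ => by
        have := congrFun h σ
        rw [hg] at this
        exact sub_eq_zero.mp this
      obtain ⟨s, hs⟩ := Algebra.IsInvariant.isInvariant (A := S) (G := G) r h'
      exact ⟨s, hs⟩
    · rintro ⟨s, rfl⟩
      ext σ
      rw [hg]
      simp [f]
  have hex' := Module.Flat.lTensor_exact A hex
  have hf : ∀ (a : A) (s : S), (f.lTensor A) (a ⊗ₜ[S] s) = algebraMap A (TensorProduct S A R) (s • a) := by
    intro a s
    rw [LinearMap.lTensor_tmul, Algebra.TensorProduct.algebraMap_apply, Algebra.algebraMap_self,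
      RingHom.id_apply]
    change a ⊗ₜ[S] (algebraMap S R s) = _
    rw [Algebra.algebraMap_eq_smul_one, TensorProduct.tmul_smul, TensorProduct.smul_tmul']
  have hfy : ∀ y : TensorProduct S A S,
      (f.lTensor A) y = algebraMap A (TensorProduct S A R) (TensorProduct.rid S A y) := by
    intro y
    induction y using TensorProduct.induction_on with
    | zero => simp
    | tmul a s => rw [hf, TensorProduct.rid_tmul]
    | add y z hy hz => rw [map_add, map_add, map_add, hy, hz]
  constructor
  · have hinj : Function.Injective (f.lTensor A) :=
      Module.Flat.lTensor_preserves_injective_linearMap f (FaithfulSMul.algebraMap_injective S R)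
    intro a b hab
    have h1 : (f.lTensor A) (a ⊗ₜ[S] (1 : S)) = (f.lTensor A) (b ⊗ₜ[S] (1 : S)) := by
      rw [hf, hf, one_smul, one_smul]
      exact hab
    have h2 := congrArg (TensorProduct.rid S A) (hinj h1)
    simpa using h2
  · intro x hx
    have key : ∀ (y : TensorProduct S A R) (σ : G),
        (TensorProduct.piRight S S A (fun _ : G => R)) ((g.lTensor A) y) σ =
          Algebra.TensorProduct.map (AlgHom.id S A) (MulSemiringAction.toAlgHom S R σ) y - y := by
      intro y σ
      induction y using TensorProduct.induction_on with
      | zero => simp
      | tmul a r =>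
        simp only [LinearMap.lTensor_tmul, TensorProduct.piRight_apply,
          TensorProduct.piRightHom_tmul, hg, Algebra.TensorProduct.map_tmul, AlgHom.coe_id, id_eq,
          MulSemiringAction.toAlgHom_apply, TensorProduct.tmul_sub]
      | add y z hy hz =>
        simp only [map_add, Pi.add_apply, hy, hz]
        abel
    have h0 : (g.lTensor A) x = 0 := by
      apply (TensorProduct.piRight S S A (fun _ : G => R)).injective
      rw [map_zero]
      ext σ
      rw [key, hx σ, sub_self]
      rfl
    obtain ⟨y, hy⟩ := (hex' x).mp h0
    exact ⟨TensorProduct.rid S A y, by rw [← hy, hfy]⟩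

end Groth.Agent.S9261
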