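import Groth.Statements.S9262
import Groth.Agent.Lib.Helper24.HensDVR
-- import your own Groth.Agent.* helpers here

set_option autoImplicit false
universe u
open Hensel

namespace Groth.Agent.S9262

/-- Let R be a Noetherian local ring with henselization S and strict henselization T. Then R is a
discrete valuation ring exactly when S is one, and exactly when T is one. -/
theorem result (R S T : Type u)
    [CommRing R] [IsLocalRing R] [IsNoetherianRing R] [CommRing S] [IsLocalRing S] [Algebra R S]
    [IsLocalHom (algebraMap R S)] [Hensel.IsHenselization R S] [CommRing T] [IsLocalRing T]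
    [Algebra R T] [IsLocalHom (algebraMap R T)] [Hensel.IsStrictHenselization R T] :
    ((∃ _ : IsDomain R, IsDiscreteValuationRing R) ↔ (∃ _ : IsDomain S, IsDiscreteValuationRing S)) ∧
      ((∃ _ : IsDomain R, IsDiscreteValuationRing R) ↔
        (∃ _ : IsDomain T, IsDiscreteValuationRing T)) := by
  have hNS : IsNoetherianRing S :=
    (Groth.Agent.Lib.Helper24.HensNoeth.isNoetherianRing_iff_of_isHenselization R S).1 inferInstance
  have hNT : IsNoetherianRing T :=
    (Groth.Agent.Lib.Helper24.HensNoeth.isNoetherianRing_iff_of_isStrictHenselization R T).1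
      inferInstance
  have hffS := Groth.Agent.Lib.helper24.Henselization.faithfullyFlat_of_isHenselization R S
  have hffT := Groth.Agent.Lib.Helper24.StrictHens.faithfullyFlat_of_isStrictHenselization R T
  refine ⟨?_, ?_⟩
  · exact Groth.Agent.Lib.Helper24.HensDVR.dvr_iff_of_flat R S
      (Groth.Agent.Lib.Helper24.HensRegular.map_maximalIdeal_of_isHenselization R S)
      (Groth.Agent.Lib.Helper24.HensNormal.normal_iff_of_isHenselization R S)
  · exact Groth.Agent.Lib.Helper24.HensDVR.dvr_iff_of_flat R T
      (Groth.Agent.Lib.Helper24.StrictHens.map_maximalIdeal_of_isStrictHenselization R T)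
      (Groth.Agent.Lib.Helper24.HensNormal.normal_iff_of_isStrictHenselization R T).symm

end Groth.Agent.S9262
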