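import Groth.Statements.S9268
import Groth.Agent.S3436
import Groth.Agent.Lib.Helper17.AdicFS
import Mathlib

set_option autoImplicit false
universe u
open CAlg

namespace Groth.Agent.S9268

/-- Suppose A is a Noetherian ring and B is a finitely generated A-algebra, and consider a prime q of B
lying over p in A. Then A → B is smooth at q (meaning some g not in q makes A → B_g smooth) exactly
when the induced map A_p → B_q is formally smooth with respect to the adic topology defined by the
maximal ideal of B_q. -/
theorem result (A B : Type u) [CommRing A] [IsNoetherianRing A]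
    [CommRing B] [Algebra A B] [Algebra.FiniteType A B] (q : Ideal B) [q.IsPrime] :
    (∃ g : B, g ∉ q ∧ Algebra.Smooth A (Localization.Away g)) ↔
      letI := (Localization.localRingHom (Ideal.comap (algebraMap A B) q) q (algebraMap A B) rfl).toAlgebra
      CAlgX.IsAdicFormallySmooth (Localization.AtPrime (Ideal.comap (algebraMap A B) q))
        (Localization.AtPrime q) (IsLocalRing.maximalIdeal (Localization.AtPrime q)) := by
  letI alg : Algebra (Localization.AtPrime (Ideal.comap (algebraMap A B) q)) (Localization.AtPrime q) :=
    (Localization.localRingHom (Ideal.comap (algebraMap A B) q) q (algebraMap A B) rfl).toAlgebra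
  show _ ↔ CAlgX.IsAdicFormallySmooth (Localization.AtPrime (Ideal.comap (algebraMap A B) q))
    (Localization.AtPrime q) (IsLocalRing.maximalIdeal (Localization.AtPrime q))
  haveI : IsScalarTower A (Localization.AtPrime (Ideal.comap (algebraMap A B) q))
      (Localization.AtPrime q) := IsScalarTower.of_algebraMap_eq (fun a => by
    rw [IsScalarTower.algebraMap_apply A B (Localization.AtPrime q)]
    exact (Localization.localRingHom_to_map _ _ _ rfl a).symm)
  haveI : Algebra.FinitePresentation A B := Algebra.FinitePresentation.of_finiteType.mp inferInstance
  haveI : IsNoetherianRing (Localization.AtPrime (Ideal.comap (algebraMap A B) q)) :=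
    IsLocalization.isNoetherianRing (Ideal.comap (algebraMap A B) q).primeCompl _ inferInstance
  haveI : Algebra.FormallySmooth A (Localization.AtPrime (Ideal.comap (algebraMap A B) q)) :=
    Algebra.FormallySmooth.of_isLocalization (Ideal.comap (algebraMap A B) q).primeCompl
  constructor
  · rintro ⟨g, hg, hsm⟩
    have h1 : (PrimeSpectrum.basicOpen g : Set (PrimeSpectrum B)) ⊆ Algebra.smoothLocus A B :=
      Algebra.basicOpen_subset_smoothLocus_iff_smooth.mpr hsm
    have h2 : (⟨q, inferInstance⟩ : PrimeSpectrum B) ∈ Algebra.smoothLocus A B := h1 hg
    haveI h3 : Algebra.FormallySmooth A (Localization.AtPrime q) := h2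
    haveI h4 : Algebra.FormallySmooth (Localization.AtPrime (Ideal.comap (algebraMap A B) q))
        (Localization.AtPrime q) :=
      Algebra.FormallySmooth.localization_base (Ideal.comap (algebraMap A B) q).primeCompl
    intro T _ _ N hN ψ _
    exact Algebra.FormallySmooth.exists_lift N ⟨2, hN⟩ ψ
  · intro h
    haveI : Algebra.EssFiniteType B (Localization.AtPrime q) :=
      Algebra.EssFiniteType.of_isLocalization (Localization.AtPrime q) q.primeCompl
    haveI : Algebra.EssFiniteType A (Localization.AtPrime q) :=
      Algebra.EssFiniteType.comp A B (Localization.AtPrime q)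
    haveI : Algebra.EssFiniteType (Localization.AtPrime (Ideal.comap (algebraMap A B) q))
        (Localization.AtPrime q) :=
      Algebra.EssFiniteType.of_comp A (Localization.AtPrime (Ideal.comap (algebraMap A B) q))
        (Localization.AtPrime q)
    haveI : IsLocalHom (algebraMap (Localization.AtPrime (Ideal.comap (algebraMap A B) q))
        (Localization.AtPrime q)) :=
      inferInstanceAs (IsLocalHom (Localization.localRingHom (Ideal.comap (algebraMap A B) q) q
        (algebraMap A B) rfl))
    have h1 := Groth.Agent.Lib.helper17.AdicFS.isFormallySmoothAdic_of_sqzero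
      (IsLocalRing.maximalIdeal (Localization.AtPrime (Ideal.comap (algebraMap A B) q))) _ h
    haveI h2 : Algebra.FormallySmooth (Localization.AtPrime (Ideal.comap (algebraMap A B) q))
        (Localization.AtPrime q) :=
      Groth.Agent.S3436.alg_main _ (IsLocalRing.map_maximalIdeal_le _) h1
    haveI h3 : Algebra.FormallySmooth A (Localization.AtPrime q) :=
      Algebra.FormallySmooth.comp A (Localization.AtPrime (Ideal.comap (algebraMap A B) q))
        (Localization.AtPrime q)
    exact Algebra.IsSmoothAt.exists_notMem_smooth A q

end Groth.Agent.S9268
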