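import Groth.Statements.S9271
import Groth.Agent.LibFibRegNil29
-- import your own Groth.Agent.* helpers here

set_option autoImplicit false
universe u
open CAlg
open TensorProduct

namespace Groth.Agent.S9271

/-- Suppose A' → B' is a flat ring map of finite presentation (smooth maps being one example), and let I
be a locally nilpotent ideal of A', with A = A'/I and B = B'/IB'. Let f'_1, ..., f'_r be elements of
B' whose images f_1, ..., f_r in B form a quasi-regular sequence with B/(f_1, ..., f_r) smooth over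
A. Then B'/(f'_1, ..., f'_r) is smooth over A'. -/
theorem result (A' B' : Type u) [CommRing A']
    [CommRing B'] [Algebra A' B'] [Module.Flat A' B'] [Algebra.FinitePresentation A' B']
    (I : Ideal A') (hI : ∀ x ∈ I, IsNilpotent x) (r : ℕ) (f' : Fin r → B')
    (hq : CAlgX.IsQuasiRegular
      (fun i => Ideal.Quotient.mk (Ideal.map (algebraMap A' B') I) (f' i)))
    (hsm : Algebra.Smooth (A' ⧸ I)
      ((B' ⧸ Ideal.map (algebraMap A' B') I) ⧸
        Ideal.span (Set.range (fun i => Ideal.Quotient.mk (Ideal.map (algebraMap A' B') I) (f' i))))) :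
    Algebra.Smooth A' (B' ⧸ Ideal.span (Set.range f')) := by
  classical
  haveI := hsm
  have hflatC : Module.Flat (A' ⧸ I)
      ((B' ⧸ Ideal.map (algebraMap A' B') I) ⧸
        Ideal.span (Set.range (fun i => Ideal.Quotient.mk (Ideal.map (algebraMap A' B') I) (f' i)))) :=
    inferInstance
  haveI hflat' : Module.Flat A' (B' ⧸ Ideal.span (Set.range f')) :=
    Groth.Agent.LibFibReg29.flat_quotient_of_nilpotent A' B' I hI f' hq hflatC
  haveI hfp : Algebra.FinitePresentation A' (B' ⧸ Ideal.span (Set.range f')) :=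
    Algebra.FinitePresentation.quotient (Submodule.fg_span (Set.finite_range f'))
  apply Algebra.Smooth.of_formallySmooth_fiber
  intro p hp
  have hIp : I ≤ p := by
    intro a ha
    obtain ⟨n, hn⟩ := hI a ha
    have : a ^ n ∈ p := by rw [hn]; exact Ideal.zero_mem _
    exact hp.mem_of_pow_mem n this
  letI alg : Algebra (A' ⧸ I) p.ResidueField :=
    (Ideal.Quotient.lift I (algebraMap A' p.ResidueField)
      (fun a ha => (Ideal.algebraMap_residueField_eq_zero).mpr (hIp ha))).toAlgebra
  haveI : IsScalarTower A' (A' ⧸ I) p.ResidueField := .of_algebraMap_eq (fun x => rfl)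
  -- the two double quotients
  set J := Ideal.span (Set.range f') with hJ
  set K := Ideal.map (algebraMap A' B') I with hK
  have h1 : J.map (Ideal.Quotient.mkₐ A' K) =
      Ideal.span (Set.range (fun i => Ideal.Quotient.mk K (f' i))) := by
    rw [hJ, Ideal.map_span, ← Set.range_comp]
    rfl
  have h2 : K.map (Ideal.Quotient.mkₐ A' J) = I.map (algebraMap A' (B' ⧸ J)) := by
    rw [hK]
    change Ideal.map (Ideal.Quotient.mk J) (Ideal.map (algebraMap A' B') I) = _
    rw [Ideal.map_map]
    rfl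
  let e1 : ((B' ⧸ K) ⧸ Ideal.span (Set.range (fun i => Ideal.Quotient.mk K (f' i)))) ≃ₐ[A']
      ((B' ⧸ J) ⧸ I.map (algebraMap A' (B' ⧸ J))) :=
    ((Ideal.quotientEquivAlgOfEq A' h1).symm.trans (DoubleQuot.quotQuotEquivCommₐ A' K J)).trans
      (Ideal.quotientEquivAlgOfEq A' h2)
  let e2 : ((B' ⧸ K) ⧸ Ideal.span (Set.range (fun i => Ideal.Quotient.mk K (f' i)))) ≃ₐ[A' ⧸ I]
      ((B' ⧸ J) ⧸ I.map (algebraMap A' (B' ⧸ J))) :=
    AlgEquiv.extendScalarsOfSurjective Ideal.Quotient.mk_surjective e1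
  let e3 : ((B' ⧸ K) ⧸ Ideal.span (Set.range (fun i => Ideal.Quotient.mk K (f' i)))) ≃ₐ[A' ⧸ I]
      (A' ⧸ I) ⊗[A'] (B' ⧸ J) :=
    e2.trans (Algebra.TensorProduct.quotIdealMapEquivQuotTensor (B' ⧸ J) I)
  haveI : Algebra.FormallySmooth (A' ⧸ I) ((A' ⧸ I) ⊗[A'] (B' ⧸ J)) :=
    Algebra.FormallySmooth.of_equiv e3
  haveI : Algebra.FormallySmooth p.ResidueField
      (p.ResidueField ⊗[A' ⧸ I] ((A' ⧸ I) ⊗[A'] (B' ⧸ J))) := inferInstance
  exact Algebra.FormallySmooth.of_equiv
    (Algebra.TensorProduct.cancelBaseChange A' (A' ⧸ I) p.ResidueField p.ResidueField (B' ⧸ J))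

end Groth.Agent.S9271
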