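import Groth.Statements.S9275
import Mathlib

set_option autoImplicit false
universe u
open EtAlg

namespace Groth.Agent.S9275

/-- `(B_g)_h` is étale over `A` if `B_h` is. -/
theorem etale_away_away (A B : Type u) [CommRing A] [CommRing B] [Algebra A B] (g h : B)
    [Algebra.Etale A (Localization.Away h)] :
    Algebra.Etale A (Localization.Away (algebraMap B (Localization.Away g) h)) := by
  have h1 : Algebra.Etale A (Localization.Away (algebraMap B (Localization.Away h) g)) :=
    Algebra.Etale.comp A (Localization.Away h) _
  let e : Localization.Away (algebraMap B (Localization.Away h) g) ≃ₐ[B]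
      Localization.Away (algebraMap B (Localization.Away g) h) :=
    IsLocalization.algEquiv (Submonoid.powers (g * h)) _ _
  exact Algebra.Etale.of_equiv (e.restrictScalars A)


/-- Let A → B be a ring map and J an ideal of B such that A → B is étale at every prime of V(J), in the
sense that every prime q ⊇ J has some h ∉ q with A → B_h étale. Then there is g ∈ B mapping to a
unit of B/J such that A → B_g is étale. -/
theorem result (A B : Type u) [CommRing A] [CommRing B]
    [Algebra A B] (J : Ideal B)
    (h : ∀ (q : Ideal B) [q.IsPrime], J ≤ q → ∃ h : B, h ∉ q ∧ Algebra.Etale A (Localization.Away h)) :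
    ∃ g : B, IsUnit (Ideal.Quotient.mk J g) ∧ Algebra.Etale A (Localization.Away g) := by
  classical
  set S : Set B := {x | Algebra.Etale A (Localization.Away x)} with hS
  -- J ⊔ span S = ⊤
  have htop : J ⊔ Ideal.span S = ⊤ := by
    by_contra hne
    obtain ⟨q, hq, hle⟩ := Ideal.exists_le_maximal _ hne
    have := hq.isPrime
    obtain ⟨x, hxq, hx⟩ := h q (le_trans le_sup_left hle)
    exact hxq (hle (Ideal.mem_sup_right (Ideal.subset_span hx)))
  obtain ⟨j, hj, g, hg, hjg⟩ := Submodule.mem_sup.mp ((Ideal.eq_top_iff_one _).mp htop)
  refine ⟨g, ?_, ?_⟩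
  · have : Ideal.Quotient.mk J g = 1 := by
      rw [← map_one (Ideal.Quotient.mk J), ← hjg, map_add, Ideal.Quotient.eq_zero_iff_mem.mpr hj,
        zero_add]
    rw [this]
    exact isUnit_one
  · rw [← RingHom.etale_algebraMap]
    apply RingHom.Etale.ofLocalizationSpanTarget (algebraMap A (Localization.Away g))
      ((algebraMap B (Localization.Away g)) '' S)
    · rw [← Ideal.map_span, Ideal.eq_top_iff_one]
      have hu : IsUnit (algebraMap B (Localization.Away g) g) :=
        IsLocalization.map_units (Localization.Away g) (⟨g, 1, pow_one g⟩ : Submonoid.powers g)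
      have hmem : algebraMap B (Localization.Away g) g ∈
          Ideal.map (algebraMap B (Localization.Away g)) (Ideal.span S) :=
        Ideal.mem_map_of_mem _ hg
      exact (Ideal.eq_top_of_isUnit_mem _ hmem hu) ▸ Submodule.mem_top
    · rintro ⟨_, x, hx, rfl⟩
      have : Algebra.Etale A (Localization.Away x) := hx
      have := etale_away_away A B g x
      rw [← IsScalarTower.algebraMap_eq, RingHom.etale_algebraMap]
      exact this

end Groth.Agent.S9275
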