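import Groth.Statements.S9280
import Groth.Agent.S2617
import Groth.Agent.S2618
import Groth.Agent.S2620
import Groth.Agent.S2625

set_option autoImplicit false
universe u
open EGA4

namespace Groth.Agent.S9280

open scoped nonZeroDivisors

/-- A finite injective domain extension of an N-2 domain is N-1. -/
theorem finite_integralClosure_of_isN2 (R₀ A' : Type u) [CommRing R₀] [IsDomain R₀] [CommRing A']
    [IsDomain A'] [Algebra R₀ A'] [Module.Finite R₀ A']
    (hinj : Function.Injective (algebraMap R₀ A')) (hN2 : CAlg.IsN2 R₀) :
    Module.Finite A' (integralClosure A' (FractionRing A')) := by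
  haveI : FaithfulSMul R₀ A' := (faithfulSMul_iff_algebraMap_injective R₀ A').2 hinj
  haveI : FaithfulSMul R₀ (FractionRing A') := inferInstance
  letI : Algebra (FractionRing R₀) (FractionRing A') :=
    FractionRing.liftAlgebra R₀ (FractionRing A')
  haveI : IsScalarTower R₀ (FractionRing R₀) (FractionRing A') :=
    FractionRing.isScalarTower_liftAlgebra R₀ _
  haveI : Algebra.IsIntegral R₀ A' := inferInstance
  haveI : Algebra.IsAlgebraic R₀ A' := inferInstance
  haveI hfd : FiniteDimensional (FractionRing R₀) (FractionRing A') :=
    Module.Finite.of_isLocalization R₀ A' R₀⁰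
  have h := hN2 (FractionRing A') hfd
  -- the two integral closures agree
  let f : integralClosure R₀ (FractionRing A') →ₗ[R₀] integralClosure A' (FractionRing A') :=
    { toFun := fun x => ⟨x.1, x.2.tower_top⟩
      map_add' := fun x y => rfl
      map_smul' := fun c x => by
        apply Subtype.ext
        show (c • x.1 : FractionRing A') = c • (⟨x.1, x.2.tower_top⟩ :
          integralClosure A' (FractionRing A')).1
        rfl }
  have hf : Function.Surjective f := by
    intro y
    have hy : IsIntegral R₀ (y : FractionRing A') := isIntegral_trans _ y.2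
    exact ⟨⟨y.1, hy⟩, rfl⟩
  haveI : Module.Finite R₀ (integralClosure A' (FractionRing A')) := Module.Finite.of_surjective f hf
  exact Module.Finite.of_restrictScalars_finite R₀ A' _

/-- A Noetherian one-dimensional N-1 domain is J-0. -/
theorem exists_open_of_finite_integralClosure (A' : Type u) [CommRing A'] [IsDomain A']
    [IsNoetherianRing A'] [Ring.DimensionLEOne A']
    (hfin : Module.Finite A' (integralClosure A' (FractionRing A'))) :
    ∃ U : Set (PrimeSpectrum A'), IsOpen U ∧ U.Nonempty ∧ U ⊆ EGA4.regLocus A' := by
  obtain ⟨s, hs0, hs⟩ := Groth.Agent.S2625.exists_common_denominator A' hfin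
  haveI := hfin
  haveI h1 : IsNoetherianRing (integralClosure A' (FractionRing A')) :=
    IsNoetherianRing.of_finite A' (integralClosure A' (FractionRing A'))
  haveI h2 : Ring.DimensionLEOne (integralClosure A' (FractionRing A')) := inferInstance
  haveI h3 : IsIntegrallyClosed (integralClosure A' (FractionRing A')) :=
    integralClosure.isIntegrallyClosedOfFiniteExtension (FractionRing A')
  haveI : IsDedekindDomain (integralClosure A' (FractionRing A')) :=
    { (inferInstance : IsDomain (integralClosure A' (FractionRing A'))), h1, h2, h3 with }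
  have hinj : Function.Injective (algebraMap A' (integralClosure A' (FractionRing A'))) := by
    intro a b hab
    apply IsFractionRing.injective A' (FractionRing A')
    have := congrArg (fun z : integralClosure A' (FractionRing A') => (z : FractionRing A')) hab
    simpa using this
  refine ⟨(PrimeSpectrum.basicOpen s : Set (PrimeSpectrum A')), (PrimeSpectrum.basicOpen s).isOpen,
    ⟨⟨⊥, Ideal.isPrime_bot⟩, ?_⟩, ?_⟩
  · show s ∉ (⊥ : Ideal A')
    rw [Ideal.mem_bot]
    exact nonZeroDivisors.ne_zero hs0
  · intro q hq
    have hsq : s ∉ q.asIdeal := hq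
    obtain ⟨P, -, hPprime, hPq⟩ := Ideal.exists_ideal_over_prime_of_isIntegral q.asIdeal
      (⊥ : Ideal (integralClosure A' (FractionRing A'))) (by
        rw [Ideal.comap_bot_of_injective _ hinj]; exact bot_le)
    haveI := hPprime
    obtain ⟨e⟩ := Groth.Agent.S2625.nonempty_ringEquiv A' s hs0 hs q.asIdeal hsq P hPq
    haveI : IsRegularLocalRing (Localization.AtPrime P) :=
      IsRegularRing.isRegularLocalRing_localization P
    show IsRegularLocalRing (Localization.AtPrime q.asIdeal)
    have e' : Localization.AtPrime P ≃+* Localization.AtPrime q.asIdeal := e.symm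
    exact IsRegularLocalRing.of_ringEquiv (R := Localization.AtPrime P) e'

/-- A Nagata ring of dimension 1 is J-2, that is, every finite type algebra over it has open regular
locus. -/
theorem result (R : Type u) [CommRing R] (hR : CAlg.IsNagata R)
    (hdim : ringKrullDim R = 1) : EGA4.IsJ2 R := by
  haveI : IsNoetherianRing R := hR.1
  have hK : Ring.KrullDimLE 1 R := Ring.krullDimLE_iff.2 (by rw [hdim]; rfl)
  refine (Groth.Agent.S2617.result R).2 ?_
  intro A' _ _ _ hfin
  haveI := hfin
  haveI : IsNoetherianRing A' := IsNoetherianRing.of_finite R A'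
  haveI : Ring.DimensionLEOne A' :=
    ⟨fun {p} hp0 hp => Groth.Agent.S2620.isMaximal_of_ne_bot R A' hK p hp0⟩
  haveI hker : (RingHom.ker (algebraMap R A')).IsPrime := RingHom.ker_isPrime _
  letI : Algebra (R ⧸ RingHom.ker (algebraMap R A')) A' :=
    (RingHom.kerLift (algebraMap R A')).toAlgebra
  haveI : IsScalarTower R (R ⧸ RingHom.ker (algebraMap R A')) A' :=
    IsScalarTower.of_algebraMap_eq' rfl
  have hinj : Function.Injective (algebraMap (R ⧸ RingHom.ker (algebraMap R A')) A') :=
    RingHom.kerLift_injective _
  haveI : Module.Finite (R ⧸ RingHom.ker (algebraMap R A')) A' :=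
    Module.Finite.of_restrictScalars_finite R _ A'
  exact exists_open_of_finite_integralClosure A'
    (finite_integralClosure_of_isN2 (R ⧸ RingHom.ker (algebraMap R A')) A' hinj
      (hR.2 (RingHom.ker (algebraMap R A'))))

end Groth.Agent.S9280
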