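import Groth.Statements.S9283
-- import your own Groth.Agent.* helpers here

set_option autoImplicit false
universe u
open CAlg

namespace Groth.Agent.S9283

/-- Let R be an auto-associated ring, that is, a local ring whose maximal ideal is weakly associated to
R: some nonzero x ∈ R is killed by a power of every element of the maximal ideal. Then every proper
finitely generated ideal of R has a nonzero annihilator. -/
theorem result (R : Type u) [CommRing R] [IsLocalRing R]
    (h : ∃ x : R, x ≠ 0 ∧ ∀ f ∈ IsLocalRing.maximalIdeal R, ∃ n : ℕ, f ^ n * x = 0)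
    (I : Ideal R) (hI : I.FG) (hI' : I ≠ ⊤) : I.annihilator ≠ ⊥ := by
  classical
  obtain ⟨x, hx0, hx⟩ := h
  obtain ⟨s, rfl⟩ := hI
  have hsm : ∀ f ∈ s, f ∈ IsLocalRing.maximalIdeal R := fun f hf =>
    IsLocalRing.le_maximalIdeal hI' (Ideal.subset_span hf)
  -- find a nonzero multiple of `x` killed by all elements of `s`
  have key : ∀ t : Finset R, (∀ f ∈ t, f ∈ IsLocalRing.maximalIdeal R) →
      ∃ c : R, c * x ≠ 0 ∧ ∀ f ∈ t, f * (c * x) = 0 := by
    intro t
    induction t using Finset.induction_on with
    | empty => intro _; exact ⟨1, by simpa using hx0, by simp⟩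
    | insert f t hft ih =>
      intro ht
      obtain ⟨c, hc0, hc⟩ := ih fun g hg => ht g (Finset.mem_insert_of_mem hg)
      obtain ⟨N, hN⟩ := hx f (ht f (Finset.mem_insert_self f t))
      have hex : ∃ n : ℕ, f ^ n * (c * x) = 0 := ⟨N, by rw [mul_left_comm, hN, mul_zero]⟩
      set n := Nat.find hex with hn
      have hfn : f ^ n * (c * x) = 0 := Nat.find_spec hex
      have hn0 : n ≠ 0 := by
        intro h0
        rw [h0, pow_zero, one_mul] at hfn
        exact hc0 hfn
      have hmin : f ^ (n - 1) * (c * x) ≠ 0 :=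
        Nat.find_min hex (Nat.sub_lt (Nat.pos_of_ne_zero hn0) one_pos)
      refine ⟨f ^ (n - 1) * c, by rwa [mul_assoc], ?_⟩
      intro g hg
      rw [mul_assoc]
      rcases Finset.mem_insert.mp hg with rfl | hg
      · rw [← mul_assoc, ← pow_succ', Nat.sub_add_cancel (Nat.one_le_iff_ne_zero.mpr hn0)]
        exact hfn
      · rw [mul_left_comm, hc g hg, mul_zero]
  obtain ⟨c, hc0, hc⟩ := key s hsm
  intro hbot
  have hmem : c * x ∈ (Ideal.span (s : Set R)).annihilator := by
    rw [Ideal.span, Submodule.mem_annihilator_span]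
    rintro ⟨f, hf⟩
    rw [smul_eq_mul, mul_comm]
    exact hc f hf
  rw [hbot] at hmem
  exact hc0 hmem

end Groth.Agent.S9283
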