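import Groth.Statements.S9284
import Mathlib
import Groth.Agent.Lib.Helper6.McCoy

set_option autoImplicit false
universe u
open CAlgX

namespace Groth.Agent.S9284

open Groth.Agent.Lib.Helper6 TensorProduct

theorem exists_left_inverse {R : Type u} [CommRing R]
    (hP : ∀ I : Ideal R, I.FG → I ≠ ⊤ → I.annihilator ≠ ⊥)
    {m n : ℕ} (M : Matrix (Fin n) (Fin m) R) (hinj : Function.Injective M.mulVecLin) :
    ∃ B : Matrix (Fin m) (Fin n) R, B * M = 1 := by
  classical
  let minor : (Fin m → Fin n) → R := fun f => (M.submatrix f id).det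
  let J : Ideal R := Ideal.span (Set.range minor)
  have hJfg : J.FG := ⟨Finset.univ.image minor, by simp [J]⟩
  have hann : J.annihilator = ⊥ := by
    rw [eq_bot_iff]
    intro a ha
    rw [Ideal.mem_bot]
    apply McCoy.mccoy_aux M hinj a
    intro f g
    have ha' : ∀ f, a * minor f = 0 := fun f => by
      have := (Submodule.mem_annihilator.mp ha) (minor f) (Ideal.subset_span ⟨f, rfl⟩)
      simpa [smul_eq_mul] using this
    by_cases hg : Function.Injective g
    · let σ : Equiv.Perm (Fin m) := Equiv.ofBijective g (Finite.injective_iff_bijective.mp hg)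
      have h1 : M.submatrix f g = (M.submatrix f id).submatrix id σ := by ext i j; rfl
      rw [h1, Matrix.det_permute', ← mul_assoc, mul_comm a, mul_assoc]
      show _ * (a * minor f) = 0
      rw [ha', mul_zero]
    · rw [Function.not_injective_iff] at hg
      obtain ⟨i, j, hij, hne⟩ := hg
      rw [Matrix.det_zero_of_column_eq hne (fun k => by simp [hij]), mul_zero]
  have hJtop : J = ⊤ := by
    by_contra hne
    exact hP J hJfg hne hann
  have h1 : (1 : R) ∈ J := by rw [hJtop]; trivial
  obtain ⟨c, hc⟩ := (Ideal.mem_span_range_iff_exists_fun).mp h1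
  refine ⟨∑ f, c f • ((M.submatrix f id).adjugate *
    (1 : Matrix (Fin n) (Fin n) R).submatrix f id), ?_⟩
  rw [Matrix.sum_mul]
  have h2 : ∀ f, (c f • ((M.submatrix f id).adjugate *
      (1 : Matrix (Fin n) (Fin n) R).submatrix f id)) * M = (c f * minor f) • 1 := by
    intro f
    rw [Matrix.smul_mul, Matrix.mul_assoc]
    have h3 : (1 : Matrix (Fin n) (Fin n) R).submatrix f id * M = M.submatrix f id := by
      ext i j; simp [Matrix.mul_apply, Matrix.one_apply]
    rw [h3, Matrix.adjugate_mul, smul_smul]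
  simp_rw [h2, ← Finset.sum_smul, hc, one_smul]

theorem exists_finite_free_retract {R : Type u} [CommRing R] {G : Type*} [AddCommGroup G]
    [Module R G] {β : Type*} (bG : Module.Basis β R G) {m : ℕ} (y : Fin m → G) :
    ∃ (n : ℕ) (j : (Fin n → R) →ₗ[R] G) (ρ : G →ₗ[R] (Fin n → R)),
      (∀ c, ρ (j c) = c) ∧ ∀ k, j (ρ (y k)) = y k := by
  classical
  let β₀ : Finset β := Finset.univ.biUnion (fun k => (bG.repr (y k)).support)
  let e : Fin β₀.card ≃ β₀ := β₀.equivFin.symm
  refine ⟨β₀.card, Fintype.linearCombination R (fun k => bG (e k)),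
    LinearMap.pi (fun k => (Finsupp.lapply (e k : β)) ∘ₗ bG.repr.toLinearMap), ?_, ?_⟩
  · intro c
    ext k'
    simp only [LinearMap.pi_apply, LinearMap.comp_apply, Fintype.linearCombination_apply, map_sum,
      map_smul, Finsupp.lapply_apply, LinearEquiv.coe_coe, Module.Basis.repr_self,
      smul_eq_mul]
    rw [Finset.sum_eq_single k']
    · simp
    · intro k _ hk
      have : (e k : β) ≠ (e k' : β) := fun h => hk (e.injective (Subtype.ext h))
      simp [Finsupp.single_apply, this]
    · simp
  · intro k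
    have hsupp : (bG.repr (y k)).support ⊆ β₀ :=
      Finset.subset_biUnion_of_mem (fun k => (bG.repr (y k)).support) (Finset.mem_univ k)
    simp only [Fintype.linearCombination_apply, LinearMap.pi_apply, LinearMap.comp_apply,
      Finsupp.lapply_apply, LinearEquiv.coe_coe]
    conv_rhs => rw [← bG.linearCombination_repr (y k), Finsupp.linearCombination_apply,
      Finsupp.sum_of_support_subset _ hsupp _ (by simp)]
    rw [← Finset.sum_coe_sort β₀, ← Equiv.sum_comp e]

theorem rTensor_injective_of_free {R : Type u} [CommRing R]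
    (hP : ∀ I : Ideal R, I.FG → I ≠ ⊤ → I.annihilator ≠ ⊥)
    {F G : Type u} [AddCommGroup F] [Module R F] [AddCommGroup G] [Module R G]
    {α β : Type*} (bF : Module.Basis α R F) (bG : Module.Basis β R G)
    (v : F →ₗ[R] G) (hv : Function.Injective v)
    (Q : Type u) [AddCommGroup Q] [Module R Q] : Function.Injective (v.rTensor Q) := by
  classical
  rw [injective_iff_map_eq_zero]
  intro s hs
  obtain ⟨F', hF'fin, hsF'⟩ := TensorProduct.exists_finite_submodule_left_of_setFinite
    ({s} : Set (F ⊗[R] Q)) (Set.finite_singleton s)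
  obtain ⟨s', hs'⟩ := hsF' (Set.mem_singleton s)
  obtain ⟨m, y, hy⟩ := Module.Finite.exists_fin (R := R) (M := F')
  obtain ⟨m', ι, ρF, hρι, hιρ⟩ := exists_finite_free_retract bF (fun k => (y k : F))
  have h1 : ι ∘ₗ ρF ∘ₗ F'.subtype = F'.subtype := by
    apply LinearMap.ext_on_range hy
    intro k; exact hιρ k
  set s₀ := ((ρF ∘ₗ F'.subtype).rTensor Q) s' with hs₀def
  have hs₀ : (ι.rTensor Q) s₀ = s := by
    rw [← hs', hs₀def, ← LinearMap.rTensor_comp_apply, h1]
  obtain ⟨n, j, ρG, hρj, hjρ⟩ :=
    exists_finite_free_retract bG (fun k => v (ι (Pi.single k 1)))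
  let T : (Fin m' → R) →ₗ[R] (Fin n → R) := ρG ∘ₗ v ∘ₗ ι
  have hjT : j ∘ₗ T = v ∘ₗ ι := by
    apply LinearMap.pi_ext
    intro k x
    have : (Pi.single k x : Fin m' → R) = x • Pi.single k 1 := by
      rw [← Pi.single_smul, smul_eq_mul, mul_one]
    rw [this, map_smul, map_smul]
    congr 1
    exact hjρ k
  have hιinj : Function.Injective ι := Function.LeftInverse.injective (g := ρF) hρι
  have hTinj : Function.Injective T := by
    have h2 : Function.Injective (j ∘ₗ T) := by
      rw [hjT]; exact hv.comp hιinj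
    exact Function.Injective.of_comp h2
  obtain ⟨B, hB⟩ := exists_left_inverse hP (LinearMap.toMatrix' T) (by
    intro a b hab
    apply hTinj
    simpa [Matrix.mulVecLin_apply, LinearMap.toMatrix'_mulVec] using hab)
  let w : G →ₗ[R] (Fin m' → R) := B.mulVecLin ∘ₗ ρG
  have hw : w ∘ₗ v ∘ₗ ι = LinearMap.id := by
    apply LinearMap.ext
    intro c
    show B.mulVecLin (T c) = c
    rw [← LinearMap.toMatrix'_mulVec T c, Matrix.mulVecLin_apply, Matrix.mulVec_mulVec, hB,
      Matrix.one_mulVec]
  have hzero : s₀ = 0 := by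
    have h3 := congrArg (w.rTensor Q) hs
    rw [← hs₀, ← LinearMap.rTensor_comp_apply, ← LinearMap.rTensor_comp_apply, map_zero] at h3
    rw [show (w ∘ₗ v) ∘ₗ ι = w ∘ₗ v ∘ₗ ι from rfl, hw, LinearMap.rTensor_id_apply] at h3
    exact h3
  rw [← hs₀, hzero, map_zero]

theorem result (R : Type u) [CommRing R]
    (hP : (∀ I : Ideal R, I.FG → I ≠ ⊤ → I.annihilator ≠ ⊥))
    (N M : Type u) [AddCommGroup N] [Module R N] [Module.Projective R N] [AddCommGroup M]
    [Module R M] [Module.Projective R M] (u : N →ₗ[R] M) :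
    CAlgX.UniversallyInjective R u ↔ Function.Injective u := by
  constructor
  · intro h x y hxy
    have h1 := h R
    have h2 : (u.rTensor R) (x ⊗ₜ 1) = (u.rTensor R) (y ⊗ₜ 1) := by simp [hxy]
    have h3 := h1 h2
    simpa using congrArg (TensorProduct.rid R N) h3
  · intro hu Q _ _
    obtain ⟨sN, hsN⟩ := (Module.projective_def'.mp (inferInstance : Module.Projective R N))
    obtain ⟨sM, hsM⟩ := (Module.projective_def'.mp (inferInstance : Module.Projective R M))
    let pN : (N →₀ R) →ₗ[R] N := Finsupp.linearCombination R id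
    let pM : (M →₀ R) →ₗ[R] M := Finsupp.linearCombination R id
    let v : (N →₀ R) →ₗ[R] (M →₀ R) × (N →₀ R) :=
      LinearMap.prod (sM ∘ₗ u ∘ₗ pN) (LinearMap.id - sN ∘ₗ pN)
    have hsMinj : Function.Injective sM :=
      Function.LeftInverse.injective (g := pM) (fun z => LinearMap.congr_fun hsM z)
    have hv : Function.Injective v := by
      rw [injective_iff_map_eq_zero]
      intro x hx
      have hx1 : sM (u (pN x)) = 0 := congrArg Prod.fst hx
      have hx2 : x - sN (pN x) = 0 := congrArg Prod.snd hx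
      have h5 : pN x = 0 := hu (by rw [map_zero]; exact hsMinj (by rw [hx1, map_zero]))
      rw [h5, map_zero, sub_zero] at hx2; exact hx2
    have hvQ := rTensor_injective_of_free hP (Finsupp.basisSingleOne (R := R) (ι := N))
      (Module.Free.chooseBasis R ((M →₀ R) × (N →₀ R))) v hv Q
    rw [injective_iff_map_eq_zero]
    intro t ht
    have h1 : v ∘ₗ sN = LinearMap.inl R _ _ ∘ₗ sM ∘ₗ u := by
      apply LinearMap.ext
      intro x
      have h6 : pN (sN x) = x := LinearMap.congr_fun hsN x
      refine Prod.ext ?_ ?_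
      · show sM (u (pN (sN x))) = sM (u x)
        rw [h6]
      · show sN x - sN (pN (sN x)) = 0
        rw [h6, sub_self]
    have h2 : (v.rTensor Q) ((sN.rTensor Q) t) = 0 := by
      rw [← LinearMap.rTensor_comp_apply, h1, LinearMap.rTensor_comp_apply,
        LinearMap.rTensor_comp_apply, ht, map_zero, map_zero]
    have h3 := (injective_iff_map_eq_zero _).mp hvQ _ h2
    have h4 : ((pN ∘ₗ sN).rTensor Q) t = t := by
      rw [show pN ∘ₗ sN = LinearMap.id from hsN, LinearMap.rTensor_id_apply]
    rw [← h4, LinearMap.rTensor_comp_apply, h3, map_zero]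

end Groth.Agent.S9284
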