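import Groth.Statements.S9285
import Mathlib
-- import your own Groth.Agent.* helpers here

set_option autoImplicit false
universe u
open CAlg

namespace Groth.Agent.S9285

/-- A ring R has the property that every proper finitely generated ideal has a nonzero annihilator if
and only if every injective linear map R → R^n admits a retraction. -/
theorem result (R : Type u) [CommRing R] :
    (∀ I : Ideal R, I.FG → I ≠ ⊤ → I.annihilator ≠ ⊥) ↔
      ∀ (n : ℕ) (u : R →ₗ[R] (Fin n → R)), Function.Injective u →
        ∃ v : (Fin n → R) →ₗ[R] R, v.comp u = LinearMap.id := by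
  constructor
  · intro H n u hu
    set a : Fin n → R := u 1 with ha
    have hur : ∀ r : R, u r = r • a := by
      intro r
      rw [ha, ← map_smul, smul_eq_mul, mul_one]
    have hI : Ideal.span (Set.range a) = ⊤ := by
      by_contra hne
      have hfg : (Ideal.span (Set.range a)).FG := Submodule.fg_span (Set.finite_range a)
      apply H _ hfg hne
      rw [eq_bot_iff]
      intro r hr
      rw [Submodule.mem_annihilator] at hr
      have : u r = 0 := by
        rw [hur]
        funext i
        simpa using hr (a i) (Ideal.subset_span ⟨i, rfl⟩)
      have h0 : r = 0 := hu (by rw [this, map_zero])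
      simp [h0]
    have h1 : (1 : R) ∈ Ideal.span (Set.range a) := by rw [hI]; trivial
    rw [Ideal.mem_span_range_iff_exists_fun] at h1
    obtain ⟨b, hb⟩ := h1
    refine ⟨∑ i, b i • LinearMap.proj i, ?_⟩
    apply LinearMap.ext
    intro r
    simp only [LinearMap.comp_apply, LinearMap.coe_sum, Finset.sum_apply, LinearMap.smul_apply,
      LinearMap.proj_apply, LinearMap.id_apply, hur, Pi.smul_apply, smul_eq_mul]
    calc ∑ i, b i * (r * a i) = r * ∑ i, b i * a i := by
          rw [Finset.mul_sum]; exact Finset.sum_congr rfl fun i _ => by ring
      _ = r := by rw [hb, mul_one]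
  · intro H I hfg hne hann
    obtain ⟨n, a, ha⟩ := Submodule.fg_iff_exists_fin_generating_family.1 hfg
    let u : R →ₗ[R] (Fin n → R) := LinearMap.toSpanSingleton R _ a
    have hu : Function.Injective u := by
      rw [← LinearMap.ker_eq_bot, eq_bot_iff]
      intro r hr
      rw [LinearMap.mem_ker] at hr
      have hr' : r ∈ I.annihilator := by
        rw [← ha, Submodule.mem_annihilator_span]
        rintro ⟨_, i, rfl⟩
        have := congrFun hr i
        simpa [u] using this
      rw [hann] at hr'
      exact hr'
    obtain ⟨v, hv⟩ := H n u hu
    apply hne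
    rw [Ideal.eq_top_iff_one]
    have h1 : v a = 1 := by
      have := LinearMap.congr_fun hv 1
      simpa [u] using this
    have h2 : v a = ∑ i, a i * v (Pi.single i 1) := by
      conv_lhs => rw [pi_eq_sum_univ' a]
      simp [map_sum, smul_eq_mul]
    rw [← h1, h2, ← ha]
    refine Ideal.sum_mem _ fun i _ => Ideal.mul_mem_right _ _ (Ideal.subset_span ⟨i, rfl⟩)

end Groth.Agent.S9285
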