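import Groth.Statements.S9286
import Mathlib
import Groth.Agent.S9284

set_option autoImplicit false
universe u
open CAlg

namespace Groth.Agent.S9286

open Groth.Agent.S9284

theorem exists_retraction_of_free {R : Type u} [CommRing R]
    (hP : ∀ I : Ideal R, I.FG → I ≠ ⊤ → I.annihilator ≠ ⊥)
    {G : Type u} [AddCommGroup G] [Module R G] {β : Type*} (bG : Module.Basis β R G)
    {m : ℕ} (v : (Fin m → R) →ₗ[R] G) (hv : Function.Injective v) :
    ∃ w : G →ₗ[R] (Fin m → R), w ∘ₗ v = LinearMap.id := by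
  classical
  obtain ⟨n, j, ρG, hρj, hjρ⟩ :=
    exists_finite_free_retract bG (fun k => v (Pi.single k 1))
  let T : (Fin m → R) →ₗ[R] (Fin n → R) := ρG ∘ₗ v
  have hjT : j ∘ₗ T = v := by
    apply LinearMap.pi_ext
    intro k x
    have : (Pi.single k x : Fin m → R) = x • Pi.single k 1 := by
      rw [← Pi.single_smul, smul_eq_mul, mul_one]
    rw [this, map_smul, map_smul]
    congr 1
    exact hjρ k
  have hTinj : Function.Injective T := by
    have h2 : Function.Injective (j ∘ₗ T) := by
      rw [hjT]; exact hv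
    exact Function.Injective.of_comp h2
  obtain ⟨B, hB⟩ := exists_left_inverse hP (LinearMap.toMatrix' T) (by
    intro a b hab
    apply hTinj
    simpa [Matrix.mulVecLin_apply, LinearMap.toMatrix'_mulVec] using hab)
  refine ⟨B.mulVecLin ∘ₗ ρG, ?_⟩
  apply LinearMap.ext
  intro c
  show B.mulVecLin (T c) = c
  rw [← LinearMap.toMatrix'_mulVec T c, Matrix.mulVecLin_apply, Matrix.mulVec_mulVec, hB,
    Matrix.one_mulVec]

theorem result (R : Type u) [CommRing R]
    (hP : (∀ I : Ideal R, I.FG → I ≠ ⊤ → I.annihilator ≠ ⊥))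
    (N M : Type u) [AddCommGroup N] [Module R N] [Module.Finite R N] [Module.Projective R N]
    [AddCommGroup M] [Module R M] [Module.Finite R M] [Module.Projective R M]
    (u : N →ₗ[R] M) (hu : Function.Injective u) :
    Module.Projective R (M ⧸ LinearMap.range u) := by
  obtain ⟨a, pN, hpN⟩ := Module.Finite.exists_fin' R N
  obtain ⟨ιN, hιN⟩ := Module.projective_lifting_property pN LinearMap.id hpN
  obtain ⟨b, pM, hpM⟩ := Module.Finite.exists_fin' R M
  obtain ⟨ιM, hιM⟩ := Module.projective_lifting_property pM LinearMap.id hpM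
  have hιMinj : Function.Injective ιM :=
    Function.LeftInverse.injective (g := pM) (fun z => LinearMap.congr_fun hιM z)
  let v : (Fin a → R) →ₗ[R] (Fin b → R) × (Fin a → R) :=
    LinearMap.prod (ιM ∘ₗ u ∘ₗ pN) (LinearMap.id - ιN ∘ₗ pN)
  have hv : Function.Injective v := by
    rw [injective_iff_map_eq_zero]
    intro x hx
    have hx1 : ιM (u (pN x)) = 0 := congrArg Prod.fst hx
    have hx2 : x - ιN (pN x) = 0 := congrArg Prod.snd hx
    have h5 : pN x = 0 := hu (by rw [map_zero]; exact hιMinj (by rw [hx1, map_zero]))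
    rw [h5, map_zero, sub_zero] at hx2; exact hx2
  obtain ⟨w, hw⟩ := exists_retraction_of_free hP
    (Module.Free.chooseBasis R ((Fin b → R) × (Fin a → R))) v hv
  let r : M →ₗ[R] N := pN ∘ₗ w ∘ₗ LinearMap.inl R _ _ ∘ₗ ιM
  have hr : ∀ n, r (u n) = n := by
    intro n
    have h6 : pN (ιN n) = n := LinearMap.congr_fun hιN n
    have h7 : v (ιN n) = (ιM (u n), 0) := by
      refine Prod.ext ?_ ?_
      · show ιM (u (pN (ιN n))) = ιM (u n)
        rw [h6]
      · show ιN n - ιN (pN (ιN n)) = 0
        rw [h6, sub_self]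
    show pN (w (ιM (u n), 0)) = n
    rw [← h7]
    have h8 : w (v (ιN n)) = ιN n := LinearMap.congr_fun hw (ιN n)
    rw [h8, h6]
  let σ : (M ⧸ LinearMap.range u) →ₗ[R] M :=
    Submodule.liftQ _ (LinearMap.id - u ∘ₗ r) (by
      rintro _ ⟨n, rfl⟩
      rw [LinearMap.mem_ker]
      show u n - u (r (u n)) = 0
      rw [hr, sub_self])
  refine Module.Projective.of_split σ (Submodule.mkQ _) ?_
  apply LinearMap.ext
  intro x
  obtain ⟨x, rfl⟩ := Submodule.Quotient.mk_surjective _ x
  show Submodule.Quotient.mk (x - u (r x)) = Submodule.Quotient.mk x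
  rw [Submodule.Quotient.mk_sub, sub_eq_self, Submodule.Quotient.mk_eq_zero]
  exact ⟨r x, rfl⟩

end Groth.Agent.S9286
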