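import Groth.Statements.S9289
import Mathlib
import Groth.Agent.Lib.Helper17.QFCpl

set_option autoImplicit false
set_option linter.style.haveILetI false
open scoped TensorProduct
universe u
open CAlg

namespace Groth.Agent.S9289

/-- Let R and R' be Noetherian rings with R' of finite type over R and quasi-finite at the prime p' of
R', lying over p. If R_p has geometrically regular formal fibres, so does R'_{p'}; stated as: if the
completion map of R_p is regular, so is that of R'_{p'}. -/
theorem result (R R' : Type u) [CommRing R]
    [CommRing R'] [IsNoetherianRing R] [IsNoetherianRing R'] [Algebra R R'] [Algebra.FiniteType R R']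
    (p' : Ideal R') [p'.IsPrime] [Algebra.QuasiFiniteAt R p']
    (h : CAlg.IsRegularHom (Localization.AtPrime (Ideal.comap (algebraMap R R') p'))
      (AdicCompletion (IsLocalRing.maximalIdeal (Localization.AtPrime (Ideal.comap (algebraMap R R') p')))
        (Localization.AtPrime (Ideal.comap (algebraMap R R') p')))) :
    CAlg.IsRegularHom (Localization.AtPrime p')
      (AdicCompletion (IsLocalRing.maximalIdeal (Localization.AtPrime p')) (Localization.AtPrime p')) := by
  classical
  set p : Ideal R := Ideal.comap (algebraMap R R') p' with hp
  haveI : p'.LiesOver p := ⟨rfl⟩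
  letI algAB : Algebra (Localization.AtPrime p) (Localization.AtPrime p') :=
    Localization.AtPrime.algebraOfLiesOver p p'
  haveI : IsNoetherianRing (Localization.AtPrime p) :=
    IsLocalization.isNoetherianRing p.primeCompl _ inferInstance
  haveI : IsNoetherianRing (Localization.AtPrime p') :=
    IsLocalization.isNoetherianRing p'.primeCompl _ inferInstance
  haveI : Algebra.EssFiniteType R (Localization.AtPrime p') :=
    Algebra.EssFiniteType.comp R R' _
  haveI : Algebra.EssFiniteType (Localization.AtPrime p) (Localization.AtPrime p') :=
    Algebra.EssFiniteType.of_comp R _ _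
  haveI : Algebra.QuasiFinite (Localization.AtPrime p) (Localization.AtPrime p') :=
    Algebra.QuasiFinite.of_restrictScalars R _ _
  refine ⟨inferInstance, ?_⟩
  intro Q' _
  constructor
  · haveI : IsNoetherianRing (AdicCompletion (IsLocalRing.maximalIdeal (Localization.AtPrime p'))
        (Localization.AtPrime p')) := inferInstance
    haveI : IsNoetherianRing (AdicCompletion (IsLocalRing.maximalIdeal (Localization.AtPrime p'))
        (Localization.AtPrime p') ⊗[Localization.AtPrime p'] Q'.ResidueField) :=
      Groth.Agent.Lib.helper17.QFCpl.isNoetherianRing_of_essFiniteType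
        (AdicCompletion (IsLocalRing.maximalIdeal (Localization.AtPrime p'))
          (Localization.AtPrime p'))
        (AdicCompletion (IsLocalRing.maximalIdeal (Localization.AtPrime p'))
          (Localization.AtPrime p') ⊗[Localization.AtPrime p'] Q'.ResidueField)
    exact isNoetherianRing_of_ringEquiv _
      (Algebra.TensorProduct.comm (Localization.AtPrime p')
        (AdicCompletion (IsLocalRing.maximalIdeal (Localization.AtPrime p'))
          (Localization.AtPrime p')) Q'.ResidueField).toRingEquiv
  · intro k' _ _ hk'
    exact Groth.Agent.Lib.helper17.QFCpl.formalFibre_transfer (Localization.AtPrime p)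
      (Localization.AtPrime p') Groth.Agent.Lib.Helper24.FibLoc.locStable_isRegularRing Q'
      (Q'.comap (algebraMap (Localization.AtPrime p) (Localization.AtPrime p'))) rfl
      (fun L _ _ hL => (h.2 _).2 L hL) k' hk'

end Groth.Agent.S9289
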