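import Groth.Statements.S9290
import Mathlib
import Groth.Agent.Lib.Helper17.QFCpl

set_option autoImplicit false
set_option linter.style.haveILetI false
universe u
open CAlg

namespace Groth.Agent.S9290

/-- Let R' be a Noetherian algebra of finite type over the Noetherian ring R, quasi-finite at the prime
p' over p, and let Q' ⊆ R'_{p'} and Q ⊆ R_p be primes with the same contraction to R (that is, a
prime q' ⊆ p' of R' lying over the prime q ⊆ p of R). If the formal fibre of R_p at Q is
geometrically regular over κ(Q), then the formal fibre of R'_{p'} at Q' is geometrically regular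
over κ(Q'). -/
theorem result (R R' : Type u) [CommRing R] [CommRing R']
    [IsNoetherianRing R] [IsNoetherianRing R'] [Algebra R R'] [Algebra.FiniteType R R']
    (p' : Ideal R') [p'.IsPrime] [Algebra.QuasiFiniteAt R p']
    (Q' : Ideal (Localization.AtPrime p')) [Q'.IsPrime]
    (Q : Ideal (Localization.AtPrime (Ideal.comap (algebraMap R R') p'))) [Q.IsPrime]
    (hQ : Ideal.comap (algebraMap R (Localization.AtPrime (Ideal.comap (algebraMap R R') p'))) Q =
      Ideal.comap (algebraMap R (Localization.AtPrime p')) Q')
    (h : CAlg.IsGeometricallyRegular Q.ResidueField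
      (EGA4.formalFibre (Localization.AtPrime (Ideal.comap (algebraMap R R') p')) Q)) :
    CAlg.IsGeometricallyRegular Q'.ResidueField (EGA4.formalFibre (Localization.AtPrime p') Q') := by
  classical
  set p : Ideal R := Ideal.comap (algebraMap R R') p' with hp
  haveI : p'.LiesOver p := ⟨rfl⟩
  letI algAB : Algebra (Localization.AtPrime p) (Localization.AtPrime p') :=
    Localization.AtPrime.algebraOfLiesOver p p'
  haveI : IsNoetherianRing (Localization.AtPrime p) :=
    IsLocalization.isNoetherianRing p.primeCompl _ inferInstance
  haveI : IsNoetherianRing (Localization.AtPrime p') :=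
    IsLocalization.isNoetherianRing p'.primeCompl _ inferInstance
  haveI : Algebra.EssFiniteType R (Localization.AtPrime p') :=
    Algebra.EssFiniteType.comp R R' _
  haveI : Algebra.EssFiniteType (Localization.AtPrime p) (Localization.AtPrime p') :=
    Algebra.EssFiniteType.of_comp R _ _
  haveI : Algebra.QuasiFinite (Localization.AtPrime p) (Localization.AtPrime p') :=
    Algebra.QuasiFinite.of_restrictScalars R _ _
  have hQ' : Q = Q'.comap (algebraMap (Localization.AtPrime p) (Localization.AtPrime p')) := by
    rw [← IsLocalization.map_under p.primeCompl (Localization.AtPrime p) Q,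
      ← IsLocalization.map_under p.primeCompl (Localization.AtPrime p)
        (Q'.comap (algebraMap (Localization.AtPrime p) (Localization.AtPrime p')))]
    congr 1
    change Ideal.comap _ Q = Ideal.comap _ (Ideal.comap _ Q')
    rw [Ideal.comap_comap, ← IsScalarTower.algebraMap_eq]
    exact hQ
  intro k' _ _ hk'
  exact Groth.Agent.Lib.helper17.QFCpl.formalFibre_transfer (Localization.AtPrime p)
    (Localization.AtPrime p') Groth.Agent.Lib.Helper24.FibLoc.locStable_isRegularRing Q' Q hQ'
    (fun L _ _ hL => h L hL) k' hk'

end Groth.Agent.S9290
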