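import Groth.Statements.S9291
import Mathlib

set_option autoImplicit false
universe u
open EtAlg

namespace Groth.Agent.S9291

/-- Let A be a ring, I an ideal and u a unit of A/I. Then there is an étale ring map A → A' such that
A/I → A'/IA' is an isomorphism, together with a unit of A' mapping to the image of u. -/
theorem result (A : Type u) [CommRing A] (I : Ideal A) (u : (A ⧸ I)ˣ) :
    ∃ (A' : Type u) (_ : CommRing A') (_ : Algebra A A'), Algebra.Etale A A' ∧
      Function.Bijective (Ideal.quotientMap (Ideal.map (algebraMap A A') I) (algebraMap A A')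
        Ideal.le_comap_map) ∧
      ∃ u' : A'ˣ, Ideal.Quotient.mk (Ideal.map (algebraMap A A') I) (u' : A') =
        Ideal.quotientMap (Ideal.map (algebraMap A A') I) (algebraMap A A') Ideal.le_comap_map
          (u : A ⧸ I) := by
  obtain ⟨a, ha⟩ := Ideal.Quotient.mk_surjective (u : A ⧸ I)
  obtain ⟨b, hb⟩ := Ideal.Quotient.mk_surjective ((u⁻¹ : (A ⧸ I)ˣ) : A ⧸ I)
  have hab : ∀ n : ℕ, a ^ n * b ^ n - 1 ∈ I := by
    intro n
    rw [← Ideal.Quotient.eq_zero_iff_mem, map_sub, map_mul, map_pow, map_pow, ha, hb, ← mul_pow,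
      Units.mul_inv, one_pow, map_one, sub_self]
  refine ⟨Localization.Away a, inferInstance, inferInstance,
    Algebra.Etale.of_isLocalizationAway a, ⟨?_, ?_⟩, ?_⟩
  · -- injective
    rw [injective_iff_map_eq_zero]
    intro x hx
    obtain ⟨x₀, rfl⟩ := Ideal.Quotient.mk_surjective x
    rw [Ideal.quotientMap_mk, Ideal.Quotient.eq_zero_iff_mem,
      IsLocalization.mem_map_algebraMap_iff (Submonoid.powers a)] at hx
    obtain ⟨⟨i, ⟨_, n, rfl⟩⟩, hi⟩ := hx
    simp only at hi
    rw [← map_mul, IsLocalization.eq_iff_exists (Submonoid.powers a)] at hi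
    obtain ⟨⟨_, m, rfl⟩, hm⟩ := hi
    simp only at hm
    have h1 : a ^ m * (x₀ * a ^ n) ∈ I := by
      rw [hm]
      exact I.mul_mem_left _ i.2
    have h2 : (Ideal.Quotient.mk I a) ^ (m + n) * Ideal.Quotient.mk I x₀ = 0 := by
      rw [← map_pow, ← map_mul, Ideal.Quotient.eq_zero_iff_mem]
      have : a ^ (m + n) * x₀ = a ^ m * (x₀ * a ^ n) := by ring
      rw [this]
      exact h1
    rw [ha] at h2
    exact (IsUnit.mul_right_eq_zero (u.isUnit.pow (m + n))).mp h2
  · -- surjective
    intro y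
    obtain ⟨y₀, rfl⟩ := Ideal.Quotient.mk_surjective y
    obtain ⟨⟨x, ⟨_, n, rfl⟩⟩, hx⟩ := IsLocalization.surj (Submonoid.powers a) y₀
    simp only at hx
    refine ⟨Ideal.Quotient.mk I (x * b ^ n), ?_⟩
    rw [Ideal.quotientMap_mk, Ideal.Quotient.eq]
    have : algebraMap A (Localization.Away a) (x * b ^ n) - y₀ =
        y₀ * algebraMap A (Localization.Away a) (a ^ n * b ^ n - 1) := by
      rw [map_mul, ← hx, map_sub, map_mul, map_one]
      ring
    rw [this]
    exact Ideal.mul_mem_left _ _ (Ideal.mem_map_of_mem _ (hab n))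
  · have hu : IsUnit (algebraMap A (Localization.Away a) a) :=
      IsLocalization.map_units (Localization.Away a) (⟨a, 1, pow_one a⟩ : Submonoid.powers a)
    refine ⟨hu.unit, ?_⟩
    rw [← ha, Ideal.quotientMap_mk]
    rfl

end Groth.Agent.S9291
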