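import Groth.Statements.S9292
import Mathlib

set_option autoImplicit false
universe u
open EtAlg

namespace Groth.Agent.S9292

section aux

variable {A : Type u} [CommRing A] (I : Ideal A)

/-- membership criterion in the localization, easy direction -/
theorem mem_map_away_of_pow_mul_mem (s x : A) (k : ℕ) (hk : s ^ k * x ∈ I) :
    algebraMap A (Localization.Away s) x ∈ Ideal.map (algebraMap A (Localization.Away s)) I := by
  have hu : IsUnit (algebraMap A (Localization.Away s) (s ^ k)) :=
    IsLocalization.map_units (Localization.Away s) (⟨s ^ k, k, rfl⟩ : Submonoid.powers s)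
  have h1 : algebraMap A (Localization.Away s) x =
      ((hu.unit⁻¹ : (Localization.Away s)ˣ) : Localization.Away s) *
        algebraMap A (Localization.Away s) (s ^ k * x) := by
    rw [map_mul, ← mul_assoc]
    have : ((hu.unit⁻¹ : (Localization.Away s)ˣ) : Localization.Away s) *
        algebraMap A (Localization.Away s) (s ^ k) = 1 := by
      simp
    rw [this, one_mul]
  rw [h1]
  exact Ideal.mul_mem_left _ _ (Ideal.mem_map_of_mem _ hk)

/-- membership criterion in the localization, converse -/
theorem exists_pow_mul_mem_of_mem_map_away (s x : A)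
    (hx : algebraMap A (Localization.Away s) x ∈ Ideal.map (algebraMap A (Localization.Away s)) I) :
    ∃ k : ℕ, s ^ k * x ∈ I := by
  rw [IsLocalization.mem_map_algebraMap_iff (Submonoid.powers s)] at hx
  obtain ⟨⟨i, ⟨_, n, rfl⟩⟩, hi⟩ := hx
  simp only at hi
  rw [← map_mul, IsLocalization.eq_iff_exists (Submonoid.powers s)] at hi
  obtain ⟨⟨_, m, rfl⟩, hm⟩ := hi
  simp only at hm
  refine ⟨m + n, ?_⟩
  have : s ^ (m + n) * x = s ^ m * (x * s ^ n) := by ring
  rw [this, hm]
  exact I.mul_mem_left _ i.2

variable {n : ℕ} (a : Fin n → A)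

/-- componentwise membership in the extension of `I` to the product of localizations -/
theorem mem_map_pi_of_forall (y : Π j, Localization.Away (a j))
    (hy : ∀ j, y j ∈ Ideal.map (algebraMap A (Localization.Away (a j))) I) :
    y ∈ Ideal.map (algebraMap A (Π j, Localization.Away (a j))) I := by
  classical
  rw [← Finset.univ_sum_single y]
  refine Ideal.sum_mem _ fun j _ => ?_
  have hj := hy j
  rw [IsLocalization.mem_map_algebraMap_iff (Submonoid.powers (a j))] at hj
  obtain ⟨⟨i, m⟩, him⟩ := hj
  simp only at him
  have hu : IsUnit (algebraMap A (Localization.Away (a j)) (m : A)) :=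
    IsLocalization.map_units (Localization.Away (a j)) m
  have h1 : y j = algebraMap A (Localization.Away (a j)) (i : A) *
      ((hu.unit⁻¹ : (Localization.Away (a j))ˣ) : Localization.Away (a j)) := by
    rw [← him, mul_assoc]
    have : algebraMap A (Localization.Away (a j)) (m : A) *
        ((hu.unit⁻¹ : (Localization.Away (a j))ˣ) : Localization.Away (a j)) = 1 := by
      simp
    rw [this, mul_one]
  have h2 : (Pi.single j (y j) : Π j, Localization.Away (a j)) =
      algebraMap A (Π j, Localization.Away (a j)) (i : A) *
        Pi.single j ((hu.unit⁻¹ : (Localization.Away (a j))ˣ) : Localization.Away (a j)) := by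
    ext l
    by_cases hl : l = j
    · subst hl
      simp only [Pi.single_eq_same, Pi.mul_apply, Pi.algebraMap_apply]
      exact h1
    · simp only [Pi.single_eq_of_ne hl, Pi.mul_apply, mul_zero]
  rw [h2]
  exact Ideal.mul_mem_right _ _ (Ideal.mem_map_of_mem _ i.2)

theorem forall_mem_of_mem_map_pi (y : Π j, Localization.Away (a j))
    (hy : y ∈ Ideal.map (algebraMap A (Π j, Localization.Away (a j))) I) (j : Fin n) :
    y j ∈ Ideal.map (algebraMap A (Localization.Away (a j))) I := by
  have h1 := Ideal.mem_map_of_mem (Pi.evalRingHom (fun j => Localization.Away (a j)) j) hy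
  rw [Ideal.map_map] at h1
  exact h1

end aux


/-- Let A be a ring, I an ideal, and e_1, ..., e_n a complete system of orthogonal idempotents of A/I
(equivalently a finite disjoint open covering of Spec(A/I)). Then one can find an A-algebra A' that
is étale over A, such that the induced map A/I → A'/IA' is bijective, together with a complete
system of orthogonal idempotents of A' lifting the e_j. -/
theorem result (A : Type u) [CommRing A] (I : Ideal A)
    (n : ℕ) (e : Fin n → A ⧸ I) (he : CompleteOrthogonalIdempotents e) :
    ∃ (A' : Type u) (_ : CommRing A') (_ : Algebra A A'), Algebra.Etale A A' ∧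
      Function.Bijective (Ideal.quotientMap (Ideal.map (algebraMap A A') I) (algebraMap A A')
        Ideal.le_comap_map) ∧
      ∃ e' : Fin n → A', CompleteOrthogonalIdempotents e' ∧
        ∀ j, Ideal.Quotient.mk (Ideal.map (algebraMap A A') I) (e' j) =
          Ideal.quotientMap (Ideal.map (algebraMap A A') I) (algebraMap A A') Ideal.le_comap_map
            (e j) := by
  classical
  choose a ha using fun j => Ideal.Quotient.mk_surjective (e j)
  have hpow : ∀ j (k : ℕ), e j * e j ^ k = e j := by
    intro j k
    induction k with
    | zero => rw [pow_zero, mul_one]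
    | succ k ih => rw [pow_succ, ← mul_assoc, ih, (he.idem j).eq]
  have hmul : ∀ j l, e j * e l = if j = l then e j else 0 := he.toOrthogonalIdempotents.mul_eq
  refine ⟨Π j, Localization.Away (a j), inferInstance, inferInstance, inferInstance, ⟨?_, ?_⟩, ?_⟩
  · -- injective
    rw [injective_iff_map_eq_zero]
    intro x hx
    obtain ⟨x₀, rfl⟩ := Ideal.Quotient.mk_surjective x
    rw [Ideal.quotientMap_mk, Ideal.Quotient.eq_zero_iff_mem] at hx
    have hj : ∀ j, e j * Ideal.Quotient.mk I x₀ = 0 := by
      intro j
      obtain ⟨k, hk⟩ := exists_pow_mul_mem_of_mem_map_away I (a j) x₀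
        (forall_mem_of_mem_map_pi I a _ hx j)
      rw [← Ideal.Quotient.eq_zero_iff_mem, map_mul, map_pow, ha] at hk
      rw [← hpow j k, mul_assoc, hk, mul_zero]
    rw [← one_mul (Ideal.Quotient.mk I x₀), ← he.complete, Finset.sum_mul]
    exact Finset.sum_eq_zero fun j _ => hj j
  · -- surjective
    intro y
    obtain ⟨y₀, rfl⟩ := Ideal.Quotient.mk_surjective y
    have hsurj : ∀ j, ∃ (x : A) (m : ℕ), y₀ j * algebraMap A (Localization.Away (a j)) (a j ^ m) =
        algebraMap A (Localization.Away (a j)) x := by
      intro j
      obtain ⟨⟨x, ⟨_, m, rfl⟩⟩, hx⟩ := IsLocalization.surj (Submonoid.powers (a j)) (y₀ j)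
      exact ⟨x, m, hx⟩
    choose x m hxm using hsurj
    refine ⟨Ideal.Quotient.mk I (∑ l, x l * a l), ?_⟩
    rw [Ideal.quotientMap_mk, Ideal.Quotient.eq]
    apply mem_map_pi_of_forall
    intro j
    rw [Pi.sub_apply, Pi.algebraMap_apply]
    have hu : IsUnit (algebraMap A (Localization.Away (a j)) (a j ^ m j)) :=
      IsLocalization.map_units (Localization.Away (a j)) (⟨a j ^ m j, m j, rfl⟩ : Submonoid.powers (a j))
    have hd : algebraMap A (Localization.Away (a j)) (a j ^ m j * (∑ l, x l * a l) - x j) ∈
        Ideal.map (algebraMap A (Localization.Away (a j))) I := by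
      apply mem_map_away_of_pow_mul_mem I (a j) _ 1
      rw [← Ideal.Quotient.eq_zero_iff_mem]
      simp only [map_mul, map_sub, map_pow, map_sum, ha, pow_one]
      rw [mul_sub, ← mul_assoc, hpow, Finset.mul_sum]
      have : ∀ l, e j * (Ideal.Quotient.mk I (x l) * e l) =
          if j = l then Ideal.Quotient.mk I (x l) * e j else 0 := by
        intro l
        rw [mul_left_comm, hmul]
        split_ifs <;> simp
      simp only [this, Finset.sum_ite_eq, Finset.mem_univ, if_true]
      ring
    have h1 : algebraMap A (Localization.Away (a j)) (∑ l, x l * a l) - y₀ j =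
        ((hu.unit⁻¹ : (Localization.Away (a j))ˣ) : Localization.Away (a j)) *
          algebraMap A (Localization.Away (a j)) (a j ^ m j * (∑ l, x l * a l) - x j) := by
      have hinv : ((hu.unit⁻¹ : (Localization.Away (a j))ˣ) : Localization.Away (a j)) *
          algebraMap A (Localization.Away (a j)) (a j ^ m j) = 1 := by
        simp
      rw [map_sub, map_mul, ← hxm j, mul_sub, ← mul_assoc, hinv, one_mul, mul_comm (y₀ j),
        ← mul_assoc, hinv, one_mul]
    rw [h1]
    exact Ideal.mul_mem_left _ _ hd
  · refine ⟨fun j => Pi.single j 1, CompleteOrthogonalIdempotents.single _, fun j => ?_⟩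
    rw [← ha j, Ideal.quotientMap_mk, Ideal.Quotient.eq]
    apply mem_map_pi_of_forall
    intro l
    rw [Pi.sub_apply, Pi.algebraMap_apply]
    beta_reduce
    by_cases hl : l = j
    · subst hl
      rw [Pi.single_eq_same, ← map_one (algebraMap A (Localization.Away (a l))), ← map_sub]
      apply mem_map_away_of_pow_mul_mem I (a l) _ 1
      rw [← Ideal.Quotient.eq_zero_iff_mem]
      simp only [map_mul, map_sub, map_one, ha, pow_one]
      rw [mul_sub, mul_one, (he.idem l).eq, sub_self]
    · rw [Pi.single_eq_of_ne hl, zero_sub]
      apply neg_mem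
      apply mem_map_away_of_pow_mul_mem I (a l) _ 1
      rw [← Ideal.Quotient.eq_zero_iff_mem]
      simp only [map_mul, ha, pow_one]
      rw [hmul, if_neg hl]

end Groth.Agent.S9292
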