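import Groth.Statements.S9300
import Mathlib.RingTheory.Spectrum.Prime.Basic
import Mathlib.RingTheory.Ideal.Maximal

set_option autoImplicit false
universe u
open CAlg

namespace Groth.Agent.S9300

/-- Let A and B be domains and A → B a ring map for which the generic point of Spec(A) has a unique
preimage in Spec(B). Then every nonzero ideal of B has nonzero preimage in A. -/
theorem result (A B : Type u) [CommRing A] [IsDomain A]
    [CommRing B] [IsDomain B] (φ : A →+* B)
    (h : ∃! q : PrimeSpectrum B, Ideal.comap φ q.asIdeal = ⊥) (J : Ideal B) (hJ : J ≠ ⊥) :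
    Ideal.comap φ J ≠ ⊥ := by
  intro hcomap
  obtain ⟨q0, hq0, huniq⟩ := h
  -- φ is injective
  have hinj : Function.Injective φ := by
    rw [injective_iff_map_eq_zero]
    intro a ha
    have : a ∈ Ideal.comap φ J := by
      rw [Ideal.mem_comap, ha]; exact J.zero_mem
    rw [hcomap] at this
    exact this
  -- the multiplicative set of nonzero elements of A, mapped to B
  have hdisj : Disjoint (J : Set B) ((nonZeroDivisors A).map φ : Submonoid B) := by
    rw [Set.disjoint_left]
    rintro b hbJ ⟨a, ha, rfl⟩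
    have : a ∈ Ideal.comap φ J := hbJ
    rw [hcomap] at this
    exact (nonZeroDivisors.ne_zero ha) this
  obtain ⟨q, hqprime, hJq, hqdisj⟩ := Ideal.exists_le_prime_disjoint J _ hdisj
  have hqc : Ideal.comap φ q = ⊥ := by
    rw [eq_bot_iff]
    intro a ha
    by_contra ha0
    have ha0' : a ≠ 0 := fun h => ha0 (by rw [h]; exact Ideal.zero_mem _)
    exact Set.disjoint_left.1 hqdisj ha ⟨a, mem_nonZeroDivisors_of_ne_zero ha0', rfl⟩
  have hbotc : Ideal.comap φ (⊥ : Ideal B) = ⊥ := by
    rw [eq_bot_iff]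
    intro a ha
    exact hinj (by simpa using ha)
  have e1 : (⟨q, hqprime⟩ : PrimeSpectrum B) = q0 := huniq ⟨q, hqprime⟩ hqc
  have e2 : (⟨⊥, Ideal.isPrime_bot⟩ : PrimeSpectrum B) = q0 := huniq ⟨⊥, Ideal.isPrime_bot⟩ hbotc
  have : q = ⊥ := congrArg PrimeSpectrum.asIdeal (e1.trans e2.symm)
  exact hJ (eq_bot_iff.2 (this ▸ hJq))

end Groth.Agent.S9300
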