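import Groth.Statements.S9301
import Mathlib
-- import your own Groth.Agent.* helpers here

set_option autoImplicit false
universe u
open CAlg

namespace Groth.Agent.S9301

/-- Let A and B be domains and A → B a flat ring map which is the localization of a quasi-finite ring
map A → B₀ (of finite type with finite fibres). Then every nonzero ideal of B has nonzero preimage
in A. -/
theorem result (A B₀ B : Type u) [CommRing A] [IsDomain A]
    [CommRing B₀] [CommRing B] [IsDomain B] [Algebra A B₀] [Algebra.FiniteType A B₀]
    [Algebra.QuasiFinite A B₀] (S : Submonoid B₀) [Algebra B₀ B] [IsLocalization S B] [Algebra A B]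
    [IsScalarTower A B₀ B] [Module.Flat A B] (J : Ideal B) (hJ : J ≠ ⊥) :
    Ideal.comap (algebraMap A B) J ≠ ⊥ := by
  classical
  intro hcomap
  have hinj : Function.Injective (algebraMap A B) := by
    rw [injective_iff_map_eq_zero]
    intro a ha
    have : a ∈ Ideal.comap (algebraMap A B) J := by
      rw [Ideal.mem_comap, ha]; exact J.zero_mem
    rw [hcomap] at this
    exact this
  haveI : Algebra.QuasiFinite A B := Algebra.QuasiFinite.of_isLocalization (R := A) (S := B₀) S
  obtain ⟨b, hbJ, hb0⟩ := Submodule.exists_mem_ne_zero_of_ne_bot hJ
  -- every element of `B` is algebraic over `A`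
  have halg : IsAlgebraic A b := by
    let L := FractionRing B
    have hBL : Function.Injective (algebraMap B L) := IsFractionRing.injective B L
    haveI : FaithfulSMul A L := (faithfulSMul_iff_algebraMap_injective A L).mpr (by
      rw [IsScalarTower.algebraMap_eq A B L]
      exact hBL.comp hinj)
    letI : Algebra (FractionRing A) L := FractionRing.liftAlgebra A L
    haveI : IsScalarTower A (FractionRing A) L := FractionRing.isScalarTower_liftAlgebra A L
    haveI : Algebra.QuasiFinite A L := Algebra.QuasiFinite.trans A B L
    haveI : Algebra.QuasiFinite (FractionRing A) L :=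
      Algebra.QuasiFinite.of_restrictScalars A (FractionRing A) L
    haveI : FiniteDimensional (FractionRing A) L := Module.Finite.of_quasiFinite
    have h1 : IsAlgebraic (FractionRing A) (algebraMap B L b) :=
      Algebra.IsAlgebraic.isAlgebraic _
    have h2 : IsAlgebraic A (algebraMap B L b) :=
      (IsFractionRing.isAlgebraic_iff A (FractionRing A) L).mpr h1
    exact (isAlgebraic_algebraMap_iff hBL).mp h2
  obtain ⟨r, hr0, hdvd⟩ := halg.exists_nonzero_dvd (mem_nonZeroDivisors_of_ne_zero hb0)
  have : r ∈ Ideal.comap (algebraMap A B) J := by
    rw [Ideal.mem_comap]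
    exact Ideal.mem_of_dvd J hdvd hbJ
  rw [hcomap] at this
  exact hr0 this

end Groth.Agent.S9301
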