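import Groth.Statements.S9302
import Groth.Agent.Lib.Helper12.HenselPair
-- import your own Groth.Agent.* helpers here

set_option autoImplicit false
universe u
open CategoryTheory
open EtAlg

namespace Groth.Agent.S9302

section helpers
open CategoryTheory Polynomial Groth.Agent.Lib.helper12

theorem limit_exists_of_compatible (J : Type u) [Preorder J] (F : J ⥤ CommRingCat.{u})
    (x : ∀ j, F.obj j) (hx : ∀ (i j : J) (φ : i ⟶ j), (F.map φ).hom (x i) = x j) :
    ∃ a : (Limits.limit F : CommRingCat.{u}), ∀ j, (Limits.limit.π F j).hom a = x j := by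
  let E := (forget CommRingCat).mapCone (Limits.limit.cone F)
  have hE : Limits.IsLimit E := Limits.isLimitOfPreserves _ (Limits.limit.isLimit F)
  let s : (F ⋙ forget CommRingCat).sections := ⟨x, fun {i j} φ => hx i j φ⟩
  refine ⟨(Limits.Types.isLimitEquivSections hE).symm s, fun j => ?_⟩
  exact Limits.Types.isLimitEquivSections_symm_apply hE s j

theorem limit_ext' (J : Type u) [Preorder J] (F : J ⥤ CommRingCat.{u})
    (a b : (Limits.limit F : CommRingCat.{u}))
    (h : ∀ j, (Limits.limit.π F j).hom a = (Limits.limit.π F j).hom b) : a = b :=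
  Limits.Concrete.limit_ext F a b h

theorem isUnit_add_of_mem_jacobson {R : Type u} [CommRing R] {v x : R} (hv : IsUnit v)
    (hx : x ∈ Ideal.jacobson (⊥ : Ideal R)) : IsUnit (v + x) := by
  obtain ⟨w, hw⟩ := hv.exists_right_inv
  have h1 := Ideal.mem_jacobson_bot.1 hx w
  have h2 : v + x = v * (x * w + 1) + x * (1 - v * w) := by ring
  rw [h2, hw, sub_self, mul_zero, add_zero]
  exact hv.mul h1

theorem root_unique_pair {R : Type u} [CommRing R] (I : Ideal R) (hI : I ≤ Ideal.jacobson ⊥)
    (f : R[X]) (c b b' : R)
    (hu : IsUnit (Ideal.Quotient.mk I (f.derivative.eval c))) (hb : f.eval b = 0)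
    (hb' : f.eval b' = 0) (hn : b - c ∈ I) (hn' : b' - c ∈ I) : b = b' := by
  have huc : IsUnit (f.derivative.eval c) := isUnit_of_isUnit_mk hI hu
  obtain ⟨d, hd⟩ := Polynomial.exists_mul_sq_add_linear_part_eq_eval_add f b (b' - b)
  rw [add_sub_cancel, hb, hb', add_zero] at hd
  obtain ⟨e, he⟩ := Polynomial.sub_dvd_eval_sub b c f.derivative
  have hdiff : b' - b ∈ I := by
    have : b' - b = (b' - c) - (b - c) := by ring
    rw [this]
    exact I.sub_mem hn' hn
  have hunit : IsUnit (f.derivative.eval b + d * (b' - b)) := by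
    have h1 : f.derivative.eval b + d * (b' - b)
        = f.derivative.eval c + ((b - c) * e + d * (b' - b)) := by
      rw [← he]; ring
    rw [h1]
    apply isUnit_add_of_mem_jacobson huc
    exact hI (I.add_mem (Ideal.mul_mem_right _ _ hn) (Ideal.mul_mem_left _ _ hdiff))
  have e' : (b' - b) * (f.derivative.eval b + d * (b' - b)) = 0 := by
    linear_combination hd
  have := (hunit.mul_left_eq_zero).1 e'
  exact (sub_eq_zero.1 this).symm

theorem main (J : Type u) [Preorder J] (F : J ⥤ CommRingCat.{u})
    (I : ∀ j : J, Ideal (F.obj j))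
    (hI : ∀ (i j : J) (φ : i ⟶ j), Ideal.map (F.map φ).hom (I i) ≤ I j)
    (h : ∀ j : J, HenselianRing (F.obj j) (I j)) :
    HenselianRing ((Limits.limit F : CommRingCat.{u}) : Type u)
      (⨅ j : J, Ideal.comap (Limits.limit.π F j).hom (I j)) := by
  have hmem : ∀ x : (Limits.limit F : CommRingCat.{u}),
      x ∈ (⨅ j : J, Ideal.comap (Limits.limit.π F j).hom (I j)) ↔
        ∀ j, (Limits.limit.π F j).hom x ∈ I j := by
    intro x
    simp [Ideal.mem_comap]
  have hπ : ∀ (i j : J) (φ : i ⟶ j) (a : (Limits.limit F : CommRingCat.{u})),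
      (F.map φ).hom ((Limits.limit.π F i).hom a) = (Limits.limit.π F j).hom a := by
    intro i j φ a
    have := Limits.limit.w F φ
    exact congrArg (fun g => g.hom a) this
  constructor
  · intro x hx
    rw [hmem] at hx
    rw [Ideal.mem_jacobson_bot]
    intro y
    have hunit : ∀ j, IsUnit ((Limits.limit.π F j).hom (x * y + 1)) := by
      intro j
      rw [map_add, map_one, map_mul]
      exact Ideal.mem_jacobson_bot.1 ((h j).jac (hx j)) _
    choose u hu using fun j => (hunit j).exists_right_inv
    have hcompat : ∀ (i j : J) (φ : i ⟶ j), (F.map φ).hom (u i) = u j := by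
      intro i j φ
      have h1 : (Limits.limit.π F j).hom (x * y + 1) * (F.map φ).hom (u i) = 1 := by
        rw [← hπ i j φ, ← map_mul, hu, map_one]
      calc (F.map φ).hom (u i)
          = (u j * (Limits.limit.π F j).hom (x * y + 1)) * (F.map φ).hom (u i) := by
            rw [mul_comm (u j), hu, one_mul]
        _ = u j * ((Limits.limit.π F j).hom (x * y + 1) * (F.map φ).hom (u i)) := by ring
        _ = u j := by rw [h1, mul_one]
    obtain ⟨w, hw⟩ := limit_exists_of_compatible J F u hcompat
    refine IsUnit.of_mul_eq_one w ?_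
    apply limit_ext'
    intro j
    rw [map_mul, hw, hu, map_one]
  · intro f hf a₀ h₁ h₂
    rw [hmem] at h₁
    obtain ⟨c', hc'⟩ := h₂.exists_right_inv
    obtain ⟨c, rfl⟩ := Ideal.Quotient.mk_surjective c'
    rw [← map_mul, ← map_one (Ideal.Quotient.mk _), Ideal.Quotient.eq, hmem] at hc'
    have hder : ∀ j, IsUnit (Ideal.Quotient.mk (I j)
        ((f.map (Limits.limit.π F j).hom).derivative.eval ((Limits.limit.π F j).hom a₀))) := by
      intro j
      rw [derivative_map, Polynomial.eval_map, eval₂_at_apply]
      have h3 := hc' j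
      rw [map_sub, map_mul, map_one] at h3
      have h4 : Ideal.Quotient.mk (I j) ((Limits.limit.π F j).hom (f.derivative.eval a₀))
          * Ideal.Quotient.mk (I j) ((Limits.limit.π F j).hom c) = 1 := by
        rw [← map_mul, ← map_one (Ideal.Quotient.mk _), Ideal.Quotient.eq]
        exact h3
      exact IsUnit.of_mul_eq_one _ h4
    have hval : ∀ j, (f.map (Limits.limit.π F j).hom).eval ((Limits.limit.π F j).hom a₀) ∈ I j := by
      intro j
      rw [Polynomial.eval_map, eval₂_at_apply]
      exact h₁ j
    choose b hb hb' using fun j => (h j).is_henselian (f.map (Limits.limit.π F j).hom)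
      (hf.map _) ((Limits.limit.π F j).hom a₀) (hval j) (hder j)
    have hmapt : ∀ (i j : J) (φ : i ⟶ j), (f.map (Limits.limit.π F i).hom).map (F.map φ).hom
        = f.map (Limits.limit.π F j).hom := by
      intro i j φ
      rw [Polynomial.map_map]
      congr 1
      ext a
      exact hπ i j φ a
    have hcompat : ∀ (i j : J) (φ : i ⟶ j), (F.map φ).hom (b i) = b j := by
      intro i j φ
      apply root_unique_pair (I j) (h j).jac (f.map (Limits.limit.π F j).hom)
        ((Limits.limit.π F j).hom a₀) _ _ (hder j) _ (hb j) _ (hb' j)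
      · rw [← hmapt i j φ, Polynomial.eval_map, eval₂_at_apply, (hb i).eq_zero, map_zero]
      · rw [← hπ i j φ, ← map_sub]
        exact hI i j φ (Ideal.mem_map_of_mem _ (hb' i))
    obtain ⟨a, ha⟩ := limit_exists_of_compatible J F b hcompat
    refine ⟨a, ?_, ?_⟩
    · apply limit_ext'
      intro j
      rw [map_zero, ← eval₂_at_apply, ← Polynomial.eval_map, ha]
      exact hb j
    · rw [hmem]
      intro j
      rw [map_sub, ha]
      exact hb' j


end helpers

/-- Henselian pairs are preserved under limits: for an inverse system (A_j, I_j) of henselian pairs over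
a preordered set J, the limit A = lim A_j with the ideal I = lim I_j (elements all of whose
projections lie in the I_j) is a henselian pair. -/
theorem result (J : Type u) [Preorder J] (F : J ⥤ CommRingCat.{u})
    (I : ∀ j : J, Ideal (F.obj j))
    (hI : ∀ (i j : J) (φ : i ⟶ j), Ideal.map (F.map φ).hom (I i) ≤ I j)
    (h : ∀ j : J, HenselianRing (F.obj j) (I j)) :
    HenselianRing ((Limits.limit F : CommRingCat.{u}) : Type u)
      (⨅ j : J, Ideal.comap (Limits.limit.π F j).hom (I j)) := by
  exact main J F I hI h

end Groth.Agent.S9302
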