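import Groth.Statements.S9303
import Mathlib

set_option autoImplicit false
universe u
open CAlg

namespace Groth.Agent.S9303

section Aux

variable {A : Type u} [CommRing A]

abbrev Sf (S : Type u) [CommRing S] [Algebra A S] (f : A) : Type u :=
  Localization (Algebra.algebraMapSubmonoid S (Submonoid.powers f))

theorem mem_aux (S : Type u) [CommRing S] [Algebra A S] (f : A)
    (m : Algebra.algebraMapSubmonoid S (Submonoid.powers f)) :
    ∃ n : ℕ, algebraMap A S (f ^ n) = (m : S) := by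
  obtain ⟨y, hy, hym⟩ := Submonoid.mem_map.mp m.2
  obtain ⟨n, rfl⟩ := (Submonoid.mem_powers_iff _ _).mp hy
  exact ⟨n, hym⟩

theorem tower_eq (S : Type u) [CommRing S] [Algebra A S] (f a : A) :
    algebraMap (Localization.Away f) (Sf S f) (algebraMap A (Localization.Away f) a)
      = algebraMap S (Sf S f) (algebraMap A S a) := by
  rw [← IsScalarTower.algebraMap_apply A (Localization.Away f) (Sf S f),
    ← IsScalarTower.algebraMap_apply A S (Sf S f)]

theorem kappa_zero (S : Type u) [CommRing S] [Algebra A S] (f : A) (s : S)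
    (hs : algebraMap S (Sf S f) s = 0) :
    ∃ n : ℕ, algebraMap A S (f ^ n) * s = 0 := by
  obtain ⟨m, hm⟩ := (IsLocalization.map_eq_zero_iff
    (Algebra.algebraMapSubmonoid S (Submonoid.powers f)) (Sf S f) s).mp hs
  obtain ⟨n, hn⟩ := mem_aux S f m
  exact ⟨n, by rw [hn]; exact hm⟩

theorem kappa_unit (S : Type u) [CommRing S] [Algebra A S] (f : A) (k : A)
    (hk : k ∈ Submonoid.powers f) :
    IsUnit (algebraMap S (Sf S f) (algebraMap A S k)) :=
  IsLocalization.map_units (Sf S f)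
    (⟨algebraMap A S k, Submonoid.mem_map_of_mem _ hk⟩ :
      Algebra.algebraMapSubmonoid S (Submonoid.powers f))

theorem loc_inj (S : Type u) [CommRing S] [Algebra A S] (f : A)
    (H : ∀ (a : A) (l : ℕ), algebraMap A S (f ^ l * a) = 0 →
      ∃ F ∈ Submonoid.powers f, F * a = 0) :
    Function.Injective (algebraMap (Localization.Away f) (Sf S f)) := by
  rw [injective_iff_map_eq_zero]
  intro x hx
  obtain ⟨l, a, hla⟩ := IsLocalization.Away.surj f x
  have h1 : algebraMap S (Sf S f) (algebraMap A S a) = 0 := by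
    rw [← tower_eq S f a, ← hla, map_mul, hx, zero_mul]
  obtain ⟨l', hl'⟩ := kappa_zero S f _ h1
  rw [← map_mul] at hl'
  obtain ⟨F, hF, hFa⟩ := H a l' hl'
  have hιa : algebraMap A (Localization.Away f) a = 0 :=
    (IsLocalization.map_eq_zero_iff (Submonoid.powers f) (Localization.Away f) a).mpr
      ⟨⟨F, hF⟩, hFa⟩
  have hu : IsUnit (algebraMap A (Localization.Away f) f ^ l) :=
    IsLocalization.Away.algebraMap_pow_isUnit f l
  rw [hιa] at hla
  exact hu.mul_left_eq_zero.mp hla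

theorem loc_surj (S : Type u) [CommRing S] [Algebra A S] (f : A)
    (H : ∀ t : S, ∃ (a F L : A), F ∈ Submonoid.powers f ∧ L ∈ Submonoid.powers f ∧
      algebraMap A S (a * F) = t * algebraMap A S (F * L)) :
    Function.Surjective (algebraMap (Localization.Away f) (Sf S f)) := by
  intro y
  obtain ⟨⟨t, m⟩, hy⟩ :=
    IsLocalization.surj (Algebra.algebraMapSubmonoid S (Submonoid.powers f)) y
  have hy' : y * algebraMap S (Sf S f) (m : S) = algebraMap S (Sf S f) t := hy
  obtain ⟨l₀, hl₀⟩ := mem_aux S f m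
  obtain ⟨a, F, L, hF, hL, hFL⟩ := H t
  have hw : IsUnit (algebraMap A (Localization.Away f) (L * f ^ l₀)) :=
    IsLocalization.map_units (Localization.Away f)
      (⟨L * f ^ l₀, Submonoid.mul_mem _ hL ⟨l₀, rfl⟩⟩ : Submonoid.powers f)
  obtain ⟨u, hu⟩ := hw.exists_right_inv
  refine ⟨algebraMap A (Localization.Away f) a * u, ?_⟩
  have hk : IsUnit (algebraMap S (Sf S f) (algebraMap A S (F * (L * f ^ l₀)))) :=
    kappa_unit S f _ (Submonoid.mul_mem _ hF (Submonoid.mul_mem _ hL ⟨l₀, rfl⟩))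
  apply hk.mul_right_cancel
  have e1 : algebraMap A (Localization.Away f) a * u *
      algebraMap A (Localization.Away f) (F * (L * f ^ l₀))
      = algebraMap A (Localization.Away f) (a * F) := by
    rw [map_mul (algebraMap A (Localization.Away f)) F,
      map_mul (algebraMap A (Localization.Away f)) a]
    linear_combination (algebraMap A (Localization.Away f) a *
      algebraMap A (Localization.Away f) F) * hu
  have E1 : algebraMap (Localization.Away f) (Sf S f) (algebraMap A (Localization.Away f) a * u) *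
      algebraMap S (Sf S f) (algebraMap A S (F * (L * f ^ l₀)))
      = algebraMap S (Sf S f) (algebraMap A S (a * F)) := by
    rw [← tower_eq S f (F * (L * f ^ l₀)), ← map_mul, e1, tower_eq S f (a * F)]
  have E2 : algebraMap S (Sf S f) (algebraMap A S (F * (L * f ^ l₀)))
      = algebraMap S (Sf S f) (m : S) * algebraMap S (Sf S f) (algebraMap A S (F * L)) := by
    have h0 : F * (L * f ^ l₀) = f ^ l₀ * (F * L) := by ring
    rw [h0, map_mul (algebraMap A S), hl₀, map_mul (algebraMap S (Sf S f))]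
  have E3 : algebraMap S (Sf S f) (algebraMap A S (a * F))
      = algebraMap S (Sf S f) t * algebraMap S (Sf S f) (algebraMap A S (F * L)) := by
    rw [hFL, map_mul (algebraMap S (Sf S f))]
  linear_combination E1 + E3 - (algebraMap S (Sf S f) (algebraMap A S (F * L))) * hy' - y * E2

variable (C : Type u) [CommRing C] [Algebra A C]

def Data (f : A) : Prop :=
  ∃ (a₀ j₀ : A) (N n₀ : ℕ),
    algebraMap A C j₀ = 0 ∧
    f ^ n₀ * (a₀ + j₀ - f ^ N) = 0 ∧
    (∀ j : A, algebraMap A C j = 0 → ∃ n : ℕ, f ^ n * (a₀ * j) = 0) ∧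
    (∀ c : C, ∃ (a : A) (l n : ℕ),
      algebraMap A C (f ^ n) * (algebraMap A C (f ^ l) * c - algebraMap A C a) = 0)

theorem data_of_h (f : A)
    (hf : ∃ e : Localization.Away f, IsIdempotentElem e ∧
      IsLocalization.Away e (Localization (Algebra.algebraMapSubmonoid C (Submonoid.powers f)))) :
    Data C f := by
  obtain ⟨e, he, hloc⟩ := hf
  haveI : IsLocalization.Away e (Sf C f) := hloc
  have hψe : algebraMap (Localization.Away f) (Sf C f) e = 1 := by
    have hu : IsUnit (algebraMap (Localization.Away f) (Sf C f) e) :=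
      IsLocalization.Away.algebraMap_isUnit e
    have hi : algebraMap (Localization.Away f) (Sf C f) e *
        algebraMap (Localization.Away f) (Sf C f) e
        = algebraMap (Localization.Away f) (Sf C f) e * 1 := by
      rw [← map_mul, he.eq, mul_one]
    exact hu.mul_left_cancel hi
  have hsurj : Function.Surjective (algebraMap (Localization.Away f) (Sf C f)) :=
    IsLocalization.Away.algebraMap_surjective_of_isIdempotentElem e he
  have hker : ∀ x : Localization.Away f,
      algebraMap (Localization.Away f) (Sf C f) x = 0 → e * x = 0 := by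
    intro x hx
    have h0 : algebraMap (Localization.Away f) (Sf C f) x
        = algebraMap (Localization.Away f) (Sf C f) 0 := by rw [hx, map_zero]
    obtain ⟨n, hn⟩ := IsLocalization.Away.exists_of_eq e h0
    rw [mul_zero] at hn
    have h1 : e ^ (n + 1) * x = 0 := by rw [pow_succ', mul_assoc, hn, mul_zero]
    rwa [he.pow_succ_eq n] at h1
  obtain ⟨N₁, a₁, hea⟩ := IsLocalization.Away.surj f e
  obtain ⟨N₂, b, heb⟩ := IsLocalization.Away.surj f (1 - e)
  have hψb : algebraMap C (Sf C f) (algebraMap A C b) = 0 := by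
    rw [← tower_eq C f b, ← heb, map_mul, map_sub, map_one, hψe, sub_self, zero_mul]
  obtain ⟨m, hm⟩ := kappa_zero C f _ hψb
  have hιa₀ : algebraMap A (Localization.Away f) (f ^ (N₂ + m) * a₁)
      = e * algebraMap A (Localization.Away f) f ^ (N₁ + N₂ + m) := by
    rw [map_mul, map_pow, ← hea]; ring
  have hιj₀ : algebraMap A (Localization.Away f) (f ^ (N₁ + m) * b)
      = (1 - e) * algebraMap A (Localization.Away f) f ^ (N₁ + N₂ + m) := by
    rw [map_mul, map_pow, ← heb]; ring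
  have hsum : algebraMap A (Localization.Away f) (f ^ (N₂ + m) * a₁ + f ^ (N₁ + m) * b)
      = algebraMap A (Localization.Away f) (f ^ (N₁ + N₂ + m)) := by
    rw [map_add, hιa₀, hιj₀, map_pow]; ring
  obtain ⟨n₀, hn₀⟩ := IsLocalization.Away.exists_of_eq f hsum
  unfold Data
  refine ⟨f ^ (N₂ + m) * a₁, f ^ (N₁ + m) * b, N₁ + N₂ + m, n₀, ?_, ?_, ?_, ?_⟩
  · rw [pow_add, map_mul, map_mul, mul_assoc, hm, mul_zero]
  · rw [mul_sub, hn₀, sub_self]
  · intro j hj
    have h1 : algebraMap (Localization.Away f) (Sf C f)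
        (algebraMap A (Localization.Away f) j) = 0 := by
      rw [tower_eq C f j, hj, map_zero]
    have h2 := hker _ h1
    have h3 : algebraMap A (Localization.Away f) (f ^ (N₂ + m) * a₁ * j)
        = algebraMap A (Localization.Away f) 0 := by
      rw [map_mul, hιa₀, map_zero]
      linear_combination (algebraMap A (Localization.Away f) f ^ (N₁ + N₂ + m)) * h2
    obtain ⟨n, hn⟩ := IsLocalization.Away.exists_of_eq f h3
    exact ⟨n, by rw [hn, mul_zero]⟩
  · intro c
    obtain ⟨x, hx⟩ := hsurj (algebraMap C (Sf C f) c)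
    obtain ⟨l, a, hla⟩ := IsLocalization.Away.surj f x
    have hla' : x * algebraMap A (Localization.Away f) (f ^ l)
        = algebraMap A (Localization.Away f) a := by
      rw [map_pow]; exact hla
    have h1 : algebraMap C (Sf C f) (algebraMap A C (f ^ l) * c - algebraMap A C a) = 0 := by
      rw [map_sub, map_mul (algebraMap C (Sf C f)), ← tower_eq C f a, ← tower_eq C f (f ^ l),
        ← hla', map_mul (algebraMap (Localization.Away f) (Sf C f)), hx]
      ring
    obtain ⟨n, hn⟩ := kappa_zero C f _ h1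
    exact ⟨a, l, n, hn⟩

def Kideal (I : Ideal A) : Ideal A where
  carrier := {a | ∀ g ∈ I, ∀ j : A, algebraMap A C j = 0 → ∃ n : ℕ, g ^ n * (a * j) = 0}
  add_mem' := by
    intro a b ha hb g hg j hj
    obtain ⟨n, hn⟩ := ha g hg j hj
    obtain ⟨m, hm⟩ := hb g hg j hj
    refine ⟨n + m, ?_⟩
    linear_combination (g ^ m) * hn + (g ^ n) * hm
  zero_mem' := by
    intro g hg j hj
    exact ⟨0, by ring⟩
  smul_mem' := by
    intro c a ha g hg j hj
    obtain ⟨n, hn⟩ := ha g hg j hj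
    refine ⟨n, ?_⟩
    rw [smul_eq_mul]
    linear_combination c * hn

theorem mem_Kideal (I : Ideal A) (a : A) :
    a ∈ Kideal C I ↔
      ∀ g ∈ I, ∀ j : A, algebraMap A C j = 0 → ∃ n : ℕ, g ^ n * (a * j) = 0 := Iff.rfl

theorem factB (I : Ideal A) (hI : I.FG) (hall : ∀ g ∈ I, Data C g) (f : A) (a₀ : A)
    (hD3 : ∀ j : A, algebraMap A C j = 0 → ∃ n : ℕ, f ^ n * (a₀ * j) = 0) :
    ∃ M : ℕ, f ^ M * a₀ ∈ Kideal C I := by
  obtain ⟨G, hG⟩ := hI
  have h1 : ∀ g : A, g ∈ G → ∃ s : ℕ, ∃ (a_g j_g : A) (N_g n_g : ℕ),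
      g ^ n_g * (a_g + j_g - g ^ N_g) = 0 ∧
      (∀ j : A, algebraMap A C j = 0 → ∃ n : ℕ, g ^ n * (a_g * j) = 0) ∧
      f ^ s * (a₀ * j_g) = 0 := by
    intro g hg
    have hgI : g ∈ I := by
      rw [← hG]; exact Submodule.subset_span (Finset.mem_coe.mpr hg)
    obtain ⟨a_g, j_g, N_g, n_g, d1, d2, d3, -⟩ := hall g hgI
    obtain ⟨s, hs⟩ := hD3 j_g d1
    exact ⟨s, a_g, j_g, N_g, n_g, d2, d3, hs⟩
  choose! s hs using h1
  refine ⟨G.sup s, ?_⟩
  rw [mem_Kideal]
  intro g' hg' j hj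
  have hrad : I ≤ Ideal.radical
      (LinearMap.ker (LinearMap.mulRight A (f ^ G.sup s * a₀ * j))) := by
    rw [← hG, Submodule.span_le]
    intro g hg
    obtain ⟨a_g, j_g, N_g, n_g, d2, d3, h4⟩ := hs g (Finset.mem_coe.mp hg)
    obtain ⟨n, h3⟩ := d3 j hj
    have h4' : f ^ G.sup s * a₀ * j_g = 0 := by
      obtain ⟨d, hd⟩ := Nat.exists_eq_add_of_le
        (Finset.le_sup (Finset.mem_coe.mp hg) : s g ≤ G.sup s)
      rw [hd, pow_add]
      linear_combination (f ^ d) * h4
    show g ∈ Ideal.radical _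
    refine Ideal.mem_radical_iff.mpr ⟨n_g + n + N_g, ?_⟩
    rw [LinearMap.mem_ker, LinearMap.mulRight_apply]
    linear_combination (-(g ^ n * (f ^ G.sup s * a₀) * j)) * d2
      + (g ^ n_g * (f ^ G.sup s * a₀)) * h3 + (g ^ n * g ^ n_g * j) * h4'
  obtain ⟨n, hn⟩ := Ideal.mem_radical_iff.mp (hrad hg')
  rw [LinearMap.mem_ker, LinearMap.mulRight_apply] at hn
  refine ⟨n, ?_⟩
  linear_combination hn

theorem final (I : Ideal A) (f : A) (hf : f ∈ I) (a₀ j₀ : A) (N n₀ M : ℕ)
    (hD1 : algebraMap A C j₀ = 0)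
    (hD2 : f ^ n₀ * (a₀ + j₀ - f ^ N) = 0)
    (hD3 : ∀ j : A, algebraMap A C j = 0 → ∃ n : ℕ, f ^ n * (a₀ * j) = 0)
    (hD4 : ∀ c : C, ∃ (a : A) (l n : ℕ),
      algebraMap A C (f ^ n) * (algebraMap A C (f ^ l) * c - algebraMap A C a) = 0)
    (hM : f ^ M * a₀ ∈ Kideal C I) :
    Function.Bijective
      (algebraMap (Localization.Away f)
        (Localization (Algebra.algebraMapSubmonoid (C × (A ⧸ Kideal C I))
          (Submonoid.powers f)))) := by
  constructor
  · apply loc_inj (C × (A ⧸ Kideal C I)) f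
    intro a l hl
    rw [Prod.algebraMap_apply, Prod.mk_eq_zero] at hl
    obtain ⟨hC, hK⟩ := hl
    have hK' : f ^ l * a ∈ Kideal C I := Ideal.Quotient.eq_zero_iff_mem.mp hK
    obtain ⟨n₁, h3⟩ := hD3 _ hC
    obtain ⟨n₂, hK2⟩ := (mem_Kideal C I _).mp hK' f hf j₀ hD1
    refine ⟨f ^ n₀ * f ^ n₁ * f ^ n₂ * f ^ N * f ^ l,
      Submonoid.mul_mem _ (Submonoid.mul_mem _ (Submonoid.mul_mem _
        (Submonoid.mul_mem _ ⟨n₀, rfl⟩ ⟨n₁, rfl⟩) ⟨n₂, rfl⟩) ⟨N, rfl⟩) ⟨l, rfl⟩, ?_⟩
    linear_combination (-(f ^ n₁ * f ^ n₂ * f ^ l * a)) * hD2 + (f ^ n₂ * f ^ n₀) * h3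
      + (f ^ n₁ * f ^ n₀) * hK2
  · apply loc_surj (C × (A ⧸ Kideal C I)) f
    intro t
    obtain ⟨c, q⟩ := t
    obtain ⟨b, rfl⟩ := Ideal.Quotient.mk_surjective q
    obtain ⟨a₁, l₁, n₁, h4⟩ := hD4 c
    refine ⟨a₀ * a₁ + j₀ * b * f ^ l₁, f ^ n₀ * f ^ n₁ * f ^ M, f ^ N * f ^ l₁,
      Submonoid.mul_mem _ (Submonoid.mul_mem _ ⟨n₀, rfl⟩ ⟨n₁, rfl⟩) ⟨M, rfl⟩,
      Submonoid.mul_mem _ ⟨N, rfl⟩ ⟨l₁, rfl⟩, ?_⟩
    rw [Prod.algebraMap_apply, Prod.algebraMap_apply]
    refine Prod.ext ?_ ?_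
    · show algebraMap A C ((a₀ * a₁ + j₀ * b * f ^ l₁) * (f ^ n₀ * f ^ n₁ * f ^ M))
        = c * algebraMap A C (f ^ n₀ * f ^ n₁ * f ^ M * (f ^ N * f ^ l₁))
      have hD2' := congrArg (algebraMap A C) hD2
      simp only [map_mul, map_add, map_sub, map_zero] at hD2' ⊢
      linear_combination
        (algebraMap A C (f ^ n₁) * algebraMap A C (f ^ M) * algebraMap A C a₁) * hD2'
        + (-(algebraMap A C (f ^ n₀) * algebraMap A C (f ^ M) * algebraMap A C (f ^ N))) * h4
        + (algebraMap A C (f ^ n₀) * algebraMap A C (f ^ n₁) * algebraMap A C (f ^ M)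
            * algebraMap A C b * algebraMap A C (f ^ l₁)
          - algebraMap A C (f ^ n₀) * algebraMap A C (f ^ n₁) * algebraMap A C (f ^ M)
            * algebraMap A C a₁) * hD1
    · show Ideal.Quotient.mk (Kideal C I) ((a₀ * a₁ + j₀ * b * f ^ l₁) * (f ^ n₀ * f ^ n₁ * f ^ M))
        = Ideal.Quotient.mk (Kideal C I) b *
          Ideal.Quotient.mk (Kideal C I) (f ^ n₀ * f ^ n₁ * f ^ M * (f ^ N * f ^ l₁))
      rw [← map_mul, Ideal.Quotient.eq]
      have h0 : (a₀ * a₁ + j₀ * b * f ^ l₁) * (f ^ n₀ * f ^ n₁ * f ^ M)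
          - b * (f ^ n₀ * f ^ n₁ * f ^ M * (f ^ N * f ^ l₁))
          = (f ^ M * a₀) * (f ^ n₀ * f ^ n₁ * (a₁ - b * f ^ l₁)) := by
        linear_combination (f ^ n₁ * f ^ M * b * f ^ l₁) * hD2
      rw [h0]
      exact Ideal.mul_mem_right _ _ hM

end Aux



/-- Let A be a ring, I a finitely generated ideal and A → C a ring map such that for every f ∈ I the map
A_f → C_f is the localization of A_f at an idempotent. Then there is a surjection A → C' (C' = A/K
for an ideal K) such that A_f → (C × C')_f is an isomorphism for every f ∈ I. -/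
theorem result (A : Type u) [CommRing A]
    (I : Ideal A) (hI : I.FG) (C : Type u) [CommRing C] [Algebra A C]
    (h : ∀ f ∈ I, ∃ e : Localization.Away f, IsIdempotentElem e ∧
      IsLocalization.Away e (Localization (Algebra.algebraMapSubmonoid C (Submonoid.powers f)))) :
    ∃ K : Ideal A, ∀ f ∈ I, Function.Bijective
      (algebraMap (Localization.Away f)
        (Localization (Algebra.algebraMapSubmonoid (C × (A ⧸ K)) (Submonoid.powers f)))) := by
  have hall : ∀ g ∈ I, Data C g := fun g hg => data_of_h C g (h g hg)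
  refine ⟨Kideal C I, ?_⟩
  intro f hf
  obtain ⟨a₀, j₀, N, n₀, hD1, hD2, hD3, hD4⟩ := hall f hf
  obtain ⟨M, hM⟩ := factB C I hI hall f a₀ hD3
  exact final C I f hf a₀ j₀ N n₀ M hD1 hD2 hD3 hD4 hM


end Groth.Agent.S9303
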