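import Groth.Statements.S9310
import Mathlib
import Groth.Agent.S10826

set_option autoImplicit false
universe u
open CAlg

namespace Groth.Agent.S9310

open MvPowerSeries in
theorem coeff_single_mul {K : Type u} [Field K] {n : ℕ} (f g : MvPowerSeries (Fin n) K) (k : Fin n)
    (hg : constantCoeff g = 0) :
    coeff (Finsupp.single k 1) (f * g) = constantCoeff f * coeff (Finsupp.single k 1) g := by
  have hf' : constantCoeff (f - C (constantCoeff f)) = 0 := by
    rw [map_sub, constantCoeff_C, sub_self]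
  have e : f * g = C (constantCoeff f) * g + (f - C (constantCoeff f)) * g := by ring
  rw [e, map_add, coeff_C_mul]
  have h0 : coeff (Finsupp.single k 1) ((f - C (constantCoeff f)) * g) = 0 := by
    apply coeff_of_lt_order
    rw [Finsupp.degree_single]
    have h1 := one_le_order_iff_constCoeff_eq_zero.mpr hf'
    have h2 := one_le_order_iff_constCoeff_eq_zero.mpr hg
    have h3 : ((1 : ℕ) : ℕ∞) < (1 : ℕ∞) + 1 := by
      rw [one_add_one_eq_two]; exact_mod_cast Nat.one_lt_two
    exact lt_of_lt_of_le h3 ((add_le_add h1 h2).trans le_order_mul)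
  rw [h0, add_zero]



/-- Let K be a field, A = K[[x_1, ..., x_n]], and y_1, ..., y_n ∈ A a regular system of parameters (n
elements generating the maximal ideal). Then the substitution map K[[y_1, ..., y_n]] → A is an
isomorphism: f ↦ f(y_1, ..., y_n) is a bijection of K[[x_1, ..., x_n]] onto itself. -/
theorem result (K : Type u) [Field K] (n : ℕ)
    (y : Fin n → MvPowerSeries (Fin n) K)
    (hy : Ideal.span (Set.range y) = IsLocalRing.maximalIdeal (MvPowerSeries (Fin n) K)) :
    Function.Bijective (MvPowerSeries.subst y : MvPowerSeries (Fin n) K → MvPowerSeries (Fin n) K) := by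
  classical
  have h0 : ∀ i, MvPowerSeries.constantCoeff (y i) = 0 := by
    intro i
    have hmem : y i ∈ IsLocalRing.maximalIdeal (MvPowerSeries (Fin n) K) := by
      rw [← hy]; exact Ideal.subset_span ⟨i, rfl⟩
    have hnu : ¬ IsUnit (y i) := (IsLocalRing.mem_maximalIdeal _).mp hmem
    rw [MvPowerSeries.isUnit_iff_constantCoeff] at hnu
    by_contra hne
    exact hnu (isUnit_iff_ne_zero.mpr hne)
  have hsub : MvPowerSeries.HasSubst y := MvPowerSeries.hasSubst_of_constantCoeff_zero h0
  obtain ⟨φ, hφ⟩ : ∃ φ : MvPowerSeries (Fin n) K →ₐ[K] MvPowerSeries (Fin n) K,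
      φ = MvPowerSeries.substAlgHom hsub := ⟨_, rfl⟩
  have hφX : ∀ i, φ (MvPowerSeries.X i) = y i := by
    intro i; rw [hφ]; exact MvPowerSeries.substAlgHom_X hsub i
  have hcoe : (MvPowerSeries.subst y : MvPowerSeries (Fin n) K → MvPowerSeries (Fin n) K) = ⇑φ := by
    rw [hφ]; exact (MvPowerSeries.coe_substAlgHom hsub).symm
  rw [hcoe]
  have hXmem : ∀ j : Fin n, ∃ c : Fin n → MvPowerSeries (Fin n) K,
      ∑ i, c i * y i = MvPowerSeries.X j := by
    intro j
    have hmem : (MvPowerSeries.X j : MvPowerSeries (Fin n) K) ∈ Ideal.span (Set.range y) := by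
      rw [hy, IsLocalRing.mem_maximalIdeal]
      show ¬ IsUnit _
      rw [MvPowerSeries.isUnit_iff_constantCoeff, MvPowerSeries.constantCoeff_X]
      exact not_isUnit_zero
    exact Ideal.mem_span_range_iff_exists_fun.mp hmem
  choose c hc using hXmem
  obtain ⟨J, hJdef⟩ : ∃ J : Matrix (Fin n) (Fin n) K, J = Matrix.of fun i k : Fin n =>
      MvPowerSeries.coeff (Finsupp.single k 1) (y i) := ⟨_, rfl⟩
  obtain ⟨C₀, hCdef⟩ : ∃ C₀ : Matrix (Fin n) (Fin n) K, C₀ = Matrix.of fun j i : Fin n =>
      MvPowerSeries.constantCoeff (c j i) := ⟨_, rfl⟩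
  have hJapp : ∀ i k, J i k = MvPowerSeries.coeff (Finsupp.single k 1) (y i) := by
    intro i k; rw [hJdef]; rfl
  have hCapp : ∀ j i, C₀ j i = MvPowerSeries.constantCoeff (c j i) := by
    intro j i; rw [hCdef]; rfl
  have hone : ∀ i k : Fin n, (1 : Matrix (Fin n) (Fin n) K) i k = if k = i then 1 else 0 := by
    intro i k
    rw [Matrix.one_apply]
    by_cases h : i = k
    · rw [if_pos h, if_pos h.symm]
    · rw [if_neg h, if_neg (fun h' => h h'.symm)]
  have hCJ : C₀ * J = 1 := by
    ext j k
    rw [Matrix.mul_apply, hone]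
    have h1 : MvPowerSeries.coeff (Finsupp.single k 1) (∑ i, c j i * y i)
        = ∑ i, C₀ j i * J i k := by
      rw [map_sum]
      apply Finset.sum_congr rfl
      intro i _
      rw [coeff_single_mul _ _ _ (h0 i), hCapp, hJapp]
    rw [← h1, hc, MvPowerSeries.coeff_index_single_X]
  have hJC : J * C₀ = 1 := mul_eq_one_comm.mp hCJ
  have hθ₁ : Function.Bijective (φ.comp (Groth.Agent.S10826.psi C₀)) := by
    apply Groth.Agent.S10826.comp_lin φ
    · intro j; rw [hφX]; exact h0 j
    · intro i k
      rw [← hone, ← hCJ, Matrix.mul_apply]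
      apply Finset.sum_congr rfl
      intro j _
      rw [hφX, hJapp]
  have hθ₂ : Function.Bijective
      ((Groth.Agent.S10826.psi C₀).comp (Groth.Agent.S10826.psi J)) := by
    apply Groth.Agent.S10826.comp_lin (Groth.Agent.S10826.psi C₀)
    · intro j
      rw [Groth.Agent.S10826.psi_X]; exact Groth.Agent.S10826.lin_const _ j
    · intro i k
      rw [← hone, ← hJC, Matrix.mul_apply]
      apply Finset.sum_congr rfl
      intro j _
      rw [Groth.Agent.S10826.psi_X, Groth.Agent.S10826.lin_coeff]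
  rw [AlgHom.coe_comp] at hθ₁ hθ₂
  have hψsurj : Function.Surjective (Groth.Agent.S10826.psi C₀) := hθ₂.2.of_comp
  refine ⟨?_, hθ₁.2.of_comp⟩
  intro x z hxz
  obtain ⟨x', rfl⟩ := hψsurj x
  obtain ⟨z', rfl⟩ := hψsurj z
  have h3 : x' = z' := hθ₁.1 hxz
  rw [h3]


end Groth.Agent.S9310
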