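import Groth.Statements.S9311
import Mathlib
import Groth.Agent.S10826

set_option autoImplicit false
universe u
open CAlg

namespace Groth.Agent.S9311

open MvPowerSeries in
theorem coeff_single_mul' {Λ : Type u} [CommRing Λ] {n : ℕ} (f g : MvPowerSeries (Fin n) Λ)
    (k : Fin n) (hg : constantCoeff g = 0) :
    coeff (Finsupp.single k 1) (f * g) = constantCoeff f * coeff (Finsupp.single k 1) g := by
  have hf' : constantCoeff (f - C (constantCoeff f)) = 0 := by
    rw [map_sub, constantCoeff_C, sub_self]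
  have e : f * g = C (constantCoeff f) * g + (f - C (constantCoeff f)) * g := by ring
  rw [e, map_add, coeff_C_mul]
  have h0 : coeff (Finsupp.single k 1) ((f - C (constantCoeff f)) * g) = 0 := by
    apply coeff_of_lt_order
    rw [Finsupp.degree_single]
    have h1 := one_le_order_iff_constCoeff_eq_zero.mpr hf'
    have h2 := one_le_order_iff_constCoeff_eq_zero.mpr hg
    have h3 : ((1 : ℕ) : ℕ∞) < (1 : ℕ∞) + 1 := by
      rw [one_add_one_eq_two]; exact_mod_cast Nat.one_lt_two
    exact lt_of_lt_of_le h3 ((add_le_add h1 h2).trans le_order_mul)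
  rw [h0, add_zero]



/-- Let Λ be a Cohen ring (a complete discrete valuation ring whose maximal ideal is generated by a
prime number p), B = Λ[[x_1, ..., x_n]], and y_1, ..., y_n ∈ B with zero constant terms such that p,
y_1, ..., y_n is a regular system of parameters of B (these n + 1 elements generate the maximal
ideal). Then the substitution map Λ[[y_1, ..., y_n]] → B is an isomorphism: f ↦ f(y_1, ..., y_n) is
a bijection of Λ[[x_1, ..., x_n]] onto itself. (The published statement allows the y_i to have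
constant terms in pΛ, the substitution being defined through the (p, x)-adic topology of B; this row
asks the constant terms to vanish, the case in which substitution is defined coefficientwise with no
topology on Λ.) -/
theorem result (Λ : Type u) [CommRing Λ] [IsDomain Λ]
    [IsDiscreteValuationRing Λ] [IsAdicComplete (IsLocalRing.maximalIdeal Λ) Λ] (p : ℕ) (hp : p.Prime)
    (hm : IsLocalRing.maximalIdeal Λ = Ideal.span {(p : Λ)}) (n : ℕ)
    (y : Fin n → MvPowerSeries (Fin n) Λ) (hy0 : ∀ i, MvPowerSeries.constantCoeff (y i) = 0)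
    (hy : Ideal.span (insert (p : MvPowerSeries (Fin n) Λ) (Set.range y)) =
      IsLocalRing.maximalIdeal (MvPowerSeries (Fin n) Λ)) :
    Function.Bijective (MvPowerSeries.subst y : MvPowerSeries (Fin n) Λ → MvPowerSeries (Fin n) Λ) := by
  classical
  have hsub : MvPowerSeries.HasSubst y := MvPowerSeries.hasSubst_of_constantCoeff_zero hy0
  obtain ⟨φ, hφ⟩ : ∃ φ : MvPowerSeries (Fin n) Λ →ₐ[Λ] MvPowerSeries (Fin n) Λ,
      φ = MvPowerSeries.substAlgHom hsub := ⟨_, rfl⟩
  have hφX : ∀ i, φ (MvPowerSeries.X i) = y i := by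
    intro i; rw [hφ]; exact MvPowerSeries.substAlgHom_X hsub i
  have hcoe : (MvPowerSeries.subst y : MvPowerSeries (Fin n) Λ → MvPowerSeries (Fin n) Λ) = ⇑φ := by
    rw [hφ]; exact (MvPowerSeries.coe_substAlgHom hsub).symm
  rw [hcoe]
  have hXmem : ∀ j : Fin n, ∃ (a : MvPowerSeries (Fin n) Λ)
      (c : Fin n → MvPowerSeries (Fin n) Λ),
      MvPowerSeries.X j = a * (p : MvPowerSeries (Fin n) Λ) + ∑ i, c i * y i := by
    intro j
    have hmem : (MvPowerSeries.X j : MvPowerSeries (Fin n) Λ) ∈
        Ideal.span (insert (p : MvPowerSeries (Fin n) Λ) (Set.range y)) := by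
      rw [hy, IsLocalRing.mem_maximalIdeal]
      show ¬ IsUnit _
      rw [MvPowerSeries.isUnit_iff_constantCoeff, MvPowerSeries.constantCoeff_X]
      exact not_isUnit_zero
    obtain ⟨a, z, hz, hXe⟩ := Ideal.mem_span_insert.mp hmem
    obtain ⟨c, hc⟩ := Ideal.mem_span_range_iff_exists_fun.mp hz
    exact ⟨a, c, by rw [hXe, hc]⟩
  choose a c hac using hXmem
  obtain ⟨J, hJdef⟩ : ∃ J : Matrix (Fin n) (Fin n) Λ, J = Matrix.of fun i k : Fin n =>
      MvPowerSeries.coeff (Finsupp.single k 1) (y i) := ⟨_, rfl⟩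
  obtain ⟨C₀, hCdef⟩ : ∃ C₀ : Matrix (Fin n) (Fin n) Λ, C₀ = Matrix.of fun j i : Fin n =>
      MvPowerSeries.constantCoeff (c j i) := ⟨_, rfl⟩
  have hJapp : ∀ i k, J i k = MvPowerSeries.coeff (Finsupp.single k 1) (y i) := by
    intro i k; rw [hJdef]; rfl
  have hCapp : ∀ j i, C₀ j i = MvPowerSeries.constantCoeff (c j i) := by
    intro j i; rw [hCdef]; rfl
  have hone : ∀ i k : Fin n, (1 : Matrix (Fin n) (Fin n) Λ) i k = if k = i then 1 else 0 := by
    intro i k
    rw [Matrix.one_apply]
    by_cases h : i = k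
    · rw [if_pos h, if_pos h.symm]
    · rw [if_neg h, if_neg (fun h' => h h'.symm)]
  have hkey : ∀ j k, (C₀ * J) j k = (1 : Matrix (Fin n) (Fin n) Λ) j k
      - MvPowerSeries.coeff (Finsupp.single k 1) (a j) * (p : Λ) := by
    intro j k
    have h1 := congrArg (MvPowerSeries.coeff (Finsupp.single k 1)) (hac j)
    rw [MvPowerSeries.coeff_index_single_X, map_add, map_sum] at h1
    have h2 : (p : MvPowerSeries (Fin n) Λ) = MvPowerSeries.C (p : Λ) :=
      (map_natCast (MvPowerSeries.C (σ := Fin n) (R := Λ)) p).symm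
    rw [h2, MvPowerSeries.coeff_mul_C] at h1
    rw [hone, h1, Matrix.mul_apply, add_sub_cancel_left]
    apply Finset.sum_congr rfl
    intro i _
    rw [coeff_single_mul' _ _ _ (hy0 i), hCapp, hJapp]
  have hp0 : IsLocalRing.residue Λ (p : Λ) = 0 := by
    rw [IsLocalRing.residue_eq_zero_iff, hm]
    exact Ideal.subset_span (Set.mem_singleton _)
  have hdet1 : IsLocalRing.residue Λ (Matrix.det (C₀ * J)) = 1 := by
    rw [RingHom.map_det]
    have : (IsLocalRing.residue Λ).mapMatrix (C₀ * J) = 1 := by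
      ext j k
      rw [RingHom.mapMatrix_apply, Matrix.map_apply, hkey, map_sub, map_mul, hp0, mul_zero,
        sub_zero, Matrix.one_apply, Matrix.one_apply]
      split_ifs
      · exact map_one _
      · exact map_zero _
    rw [this, Matrix.det_one]
  have hJ : IsUnit (Matrix.det J) := by
    have hu : IsUnit (Matrix.det (C₀ * J)) := by
      by_contra hnu
      have hmem : Matrix.det (C₀ * J) ∈ IsLocalRing.maximalIdeal Λ :=
        (IsLocalRing.mem_maximalIdeal _).mpr hnu
      rw [← IsLocalRing.residue_eq_zero_iff, hdet1] at hmem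
      exact one_ne_zero hmem
    rw [Matrix.det_mul] at hu
    exact isUnit_of_mul_isUnit_right hu
  have hJ1 : J⁻¹ * J = 1 := Matrix.nonsing_inv_mul J hJ
  have hJ2 : J * J⁻¹ = 1 := Matrix.mul_nonsing_inv J hJ
  have hθ₁ : Function.Bijective (φ.comp (Groth.Agent.S10826.psi J⁻¹)) := by
    apply Groth.Agent.S10826.comp_lin φ
    · intro j; rw [hφX]; exact hy0 j
    · intro i k
      rw [← hone, ← hJ1, Matrix.mul_apply]
      apply Finset.sum_congr rfl
      intro j _
      rw [hφX, hJapp]
  have hθ₂ : Function.Bijective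
      ((Groth.Agent.S10826.psi J⁻¹).comp (Groth.Agent.S10826.psi J)) := by
    apply Groth.Agent.S10826.comp_lin (Groth.Agent.S10826.psi J⁻¹)
    · intro j
      rw [Groth.Agent.S10826.psi_X]; exact Groth.Agent.S10826.lin_const _ j
    · intro i k
      rw [← hone, ← hJ2, Matrix.mul_apply]
      apply Finset.sum_congr rfl
      intro j _
      rw [Groth.Agent.S10826.psi_X, Groth.Agent.S10826.lin_coeff]
  rw [AlgHom.coe_comp] at hθ₁ hθ₂
  have hψsurj : Function.Surjective
      (Groth.Agent.S10826.psi (J⁻¹ : Matrix (Fin n) (Fin n) Λ)) := hθ₂.2.of_comp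
  refine ⟨?_, hθ₁.2.of_comp⟩
  intro x z hxz
  obtain ⟨x', rfl⟩ := hψsurj x
  obtain ⟨z', rfl⟩ := hψsurj z
  have h3 : x' = z' := hθ₁.1 hxz
  rw [h3]


end Groth.Agent.S9311
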