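import Groth.Statements.S9312
import Mathlib

set_option autoImplicit false
universe u
open CAlg

namespace Groth.Agent.S9312

section core
open Polynomial

variable {R G : Type u} [CommRing R] [Group G] [MulSemiringAction G R]

theorem mem_fix (x : R) : x ∈ FixedPoints.subring R G ↔ ∀ g : G, g • x = x := Iff.rfl

theorem mv_smul_eq_map {ι : Type*} (g : G) (p : MvPolynomial ι R) :
    g • p = MvPolynomial.map (MulSemiringAction.toRingHom G R g) p := by
  ext d
  simp [MvPolynomial.coeff_smul, MvPolynomial.coeff_map]

/-- The coefficientwise action on multivariate polynomials as a `MulSemiringAction`. -/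
@[reducible] noncomputable def mvAct {ι : Type*} : MulSemiringAction G (MvPolynomial ι R) :=
  { (inferInstance : DistribMulAction G (MvPolynomial ι R)) with
    smul_one := fun g => by rw [mv_smul_eq_map, map_one]
    smul_mul := fun g p q => by rw [mv_smul_eq_map, mv_smul_eq_map, mv_smul_eq_map, map_mul] }

theorem lemmaL {ι : Type*} [Fintype G] (n : ι → R) (F : Finset ι) :
    ∃ Ψ : Polynomial (MvPolynomial ι (FixedPoints.subring R G)), Ψ.Monic ∧
      Ψ.map (MvPolynomial.map (FixedPoints.subring R G).subtype) =
        ∏ g : G, (X - C (∑ i ∈ F, MvPolynomial.X i * MvPolynomial.C (g • n i))) := by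
  classical
  let _inst : MulSemiringAction G (MvPolynomial ι R) := mvAct
  obtain ⟨β, hβ⟩ : ∃ β : MvPolynomial ι R, β = ∑ i ∈ F, MvPolynomial.X i * MvPolynomial.C (n i) :=
    ⟨_, rfl⟩
  have hsm : ∀ g : G, g • β = ∑ i ∈ F, MvPolynomial.X i * MvPolynomial.C (g • n i) := by
    intro g
    rw [mv_smul_eq_map, hβ, map_sum]
    apply Finset.sum_congr rfl
    intro i _
    rw [map_mul, MvPolynomial.map_X, MvPolynomial.map_C]
    rfl
  have hΦ : MulSemiringAction.charpoly G β =
      ∏ g : G, (X - C (∑ i ∈ F, MvPolynomial.X i * MvPolynomial.C (g • n i))) := by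
    rw [MulSemiringAction.charpoly_eq]
    apply Finset.prod_congr rfl
    intro g _
    rw [hsm]
  rw [← hΦ]
  have hlifts : MulSemiringAction.charpoly G β ∈
      Polynomial.lifts (MvPolynomial.map (FixedPoints.subring R G).subtype) := by
    rw [Polynomial.lifts_iff_coeff_lifts]
    intro k
    rw [MvPolynomial.mem_range_map_iff_coeffs_subset]
    intro c hc
    rw [Finset.mem_coe, MvPolynomial.mem_coeffs_iff] at hc
    obtain ⟨d, hd, rfl⟩ := hc
    have hfix : MvPolynomial.coeff d ((MulSemiringAction.charpoly G β).coeff k)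
        ∈ FixedPoints.subring R G := by
      rw [mem_fix]
      intro g
      have h1 := MulSemiringAction.smul_coeff_charpoly β k g
      have h2 := congrArg (MvPolynomial.coeff d) h1
      rw [mv_smul_eq_map, MvPolynomial.coeff_map] at h2
      exact h2
    exact ⟨⟨_, hfix⟩, rfl⟩
  obtain ⟨Ψ, hΨ, -, hmon⟩ := Polynomial.lifts_and_natDegree_eq_and_monic hlifts
    (MulSemiringAction.monic_charpoly G β)
  exact ⟨Ψ, hmon, hΨ⟩

theorem lemmaE {ι : Type*} [Fintype G] (n : ι → R) (F : Finset ι)
    (Ψ : Polynomial (MvPolynomial ι (FixedPoints.subring R G)))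
    (hΨ : Ψ.map (MvPolynomial.map (FixedPoints.subring R G).subtype) =
      ∏ g : G, (X - C (∑ i ∈ F, MvPolynomial.X i * MvPolynomial.C (g • n i))))
    {Λ Λ' : Type*} [CommRing Λ] [CommRing Λ'] [Algebra (FixedPoints.subring R G) Λ]
    (φ : MvPolynomial ι (FixedPoints.subring R G) →ₐ[FixedPoints.subring R G] Λ)
    (j : Λ →+* Λ') (ρ : R →+* Λ')
    (hcompat : ∀ s : FixedPoints.subring R G, j (algebraMap _ Λ s) = ρ (s : R)) :
    (Ψ.map φ.toRingHom).map j =
      ∏ g : G, (X - C (∑ i ∈ F, j (φ (MvPolynomial.X i)) * ρ (g • n i))) := by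
  obtain ⟨ψ, hψ⟩ : ∃ ψ : MvPolynomial ι R →+* Λ',
      ψ = MvPolynomial.eval₂Hom ρ (fun i => j (φ (MvPolynomial.X i))) := ⟨_, rfl⟩
  have hfac : j.comp φ.toRingHom = ψ.comp (MvPolynomial.map (FixedPoints.subring R G).subtype) := by
    apply MvPolynomial.ringHom_ext
    · intro s
      have h1 : φ (MvPolynomial.C s) = algebraMap _ Λ s := by
        rw [← MvPolynomial.algebraMap_eq]; exact φ.commutes s
      simp only [RingHom.comp_apply, AlgHom.toRingHom_eq_coe, RingHom.coe_coe, h1, hcompat,
        MvPolynomial.map_C, hψ, MvPolynomial.coe_eval₂Hom, MvPolynomial.eval₂_C,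
        Subring.coe_subtype]
    · intro i
      simp only [RingHom.comp_apply, AlgHom.toRingHom_eq_coe, RingHom.coe_coe,
        MvPolynomial.map_X, hψ, MvPolynomial.coe_eval₂Hom, MvPolynomial.eval₂_X]
  rw [Polynomial.map_map, hfac, ← Polynomial.map_map, hΨ, Polynomial.map_prod]
  apply Finset.prod_congr rfl
  intro g _
  rw [Polynomial.map_sub, Polynomial.map_X, Polynomial.map_C]
  congr 2
  rw [map_sum]
  apply Finset.sum_congr rfl
  intro i _
  rw [map_mul, hψ, MvPolynomial.coe_eval₂Hom, MvPolynomial.eval₂_X, MvPolynomial.eval₂_C]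

end core



/-- Let a finite group G with n elements act on a ring R by ring automorphisms, with invariant ring R^G,
and let A be an algebra over R^G; G acts on A ⊗ R through the factor R. (1) For every G-invariant b
∈ A ⊗ R there is a monic polynomial over A whose image in (A ⊗ R)[T] is (T - b)^n. (2) For every a
in the kernel of A → A ⊗ R, all coefficients of (T - a)^n below degree n vanish, that is (T - a)^n =
T^n in A[T]. -/
theorem result (R G A : Type u) [CommRing R] [Group G] [Fintype G]
    [MulSemiringAction G R] [CommRing A] [Algebra (FixedPoints.subring R G) A] :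
    (∀ b : TensorProduct (FixedPoints.subring R G) A R,
      (∀ σ : G, Algebra.TensorProduct.map (AlgHom.id (FixedPoints.subring R G) A)
        (MulSemiringAction.toAlgHom (FixedPoints.subring R G) R σ) b = b) →
      ∃ P : Polynomial A, P.Monic ∧
        Polynomial.map (algebraMap A (TensorProduct (FixedPoints.subring R G) A R)) P =
          (Polynomial.X - Polynomial.C b) ^ Fintype.card G) ∧
    (∀ a : A, algebraMap A (TensorProduct (FixedPoints.subring R G) A R) a = 0 →
      ∀ i : ℕ, i < Fintype.card G → ((Polynomial.X - Polynomial.C a) ^ Fintype.card G).coeff i = 0) := by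
  classical
  refine ⟨?_, ?_⟩
  · -- part (1)
    intro b hb
    obtain ⟨s, hs⟩ := TensorProduct.exists_finset b
    obtain ⟨Ψ, hmon, hΨ⟩ := lemmaL (G := G) (fun p : A × R => p.2) s
    obtain ⟨φ, hφ⟩ : ∃ φ : MvPolynomial (A × R) (FixedPoints.subring R G)
        →ₐ[FixedPoints.subring R G] A, φ = MvPolynomial.aeval (fun p => p.1) := ⟨_, rfl⟩
    refine ⟨Ψ.map φ.toRingHom, hmon.map _, ?_⟩
    have hcompat : ∀ t : FixedPoints.subring R G,
        (algebraMap A (TensorProduct (FixedPoints.subring R G) A R)) (algebraMap _ A t)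
          = (Algebra.TensorProduct.includeRight :
              R →ₐ[FixedPoints.subring R G] TensorProduct (FixedPoints.subring R G) A R).toRingHom
            (t : R) := by
      intro t
      rw [Algebra.TensorProduct.algebraMap_apply, Algebra.algebraMap_self, RingHom.id_apply,
        AlgHom.toRingHom_eq_coe, RingHom.coe_coe, Algebra.TensorProduct.includeRight_apply,
        Algebra.algebraMap_eq_smul_one, TensorProduct.smul_tmul]
      congr 1
      rw [Subring.smul_def, smul_eq_mul, mul_one]
    rw [lemmaE (fun p : A × R => p.2) s Ψ hΨ φ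
      (algebraMap A (TensorProduct (FixedPoints.subring R G) A R)) _ hcompat]
    have hterm : ∀ g : G, ∑ p ∈ s,
        (algebraMap A (TensorProduct (FixedPoints.subring R G) A R)) (φ (MvPolynomial.X p)) *
          (Algebra.TensorProduct.includeRight :
              R →ₐ[FixedPoints.subring R G] TensorProduct (FixedPoints.subring R G) A R).toRingHom
            (g • p.2) = b := by
      intro g
      have h1 := hb g
      rw [← h1]
      conv_rhs => rw [hs]
      rw [map_sum]
      apply Finset.sum_congr rfl
      intro p _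
      rw [hφ, MvPolynomial.aeval_X, Algebra.TensorProduct.algebraMap_apply,
        Algebra.algebraMap_self, RingHom.id_apply, AlgHom.toRingHom_eq_coe, RingHom.coe_coe,
        Algebra.TensorProduct.includeRight_apply, Algebra.TensorProduct.tmul_mul_tmul, mul_one,
        one_mul, Algebra.TensorProduct.map_tmul]
      rfl
    simp only [hterm]
    rw [Finset.prod_const, Finset.card_univ]
  · -- part (2)
    intro a ha i hi
    obtain ⟨π, hπ⟩ : ∃ π : (R →₀ (FixedPoints.subring R G)) →ₗ[(FixedPoints.subring R G)] R,
        π = Finsupp.linearCombination (FixedPoints.subring R G) (id : R → R) := ⟨_, rfl⟩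
    have hπsurj : Function.Surjective π := by
      intro r
      refine ⟨Finsupp.single r 1, ?_⟩
      rw [hπ, Finsupp.linearCombination_single, one_smul]; rfl
    have hex := lTensor_exact (M := LinearMap.ker π) A (f := (LinearMap.ker π).subtype) (g := π) (LinearMap.exact_subtype_ker_map π) hπsurj
    have ht₀ : (LinearMap.lTensor A π)
        (a ⊗ₜ[(FixedPoints.subring R G)] (Finsupp.single (1:R) (1 : (FixedPoints.subring R G)))) = 0 := by
      rw [LinearMap.lTensor_tmul, hπ, Finsupp.linearCombination_single, one_smul]
      have h1 := ha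
      rw [Algebra.TensorProduct.algebraMap_apply, Algebra.algebraMap_self, RingHom.id_apply] at h1
      exact h1
    obtain ⟨t, ht⟩ := (hex _).mp ht₀
    obtain ⟨s, hs⟩ := TensorProduct.exists_finset t
    have hcoord : ∀ r : R, ∑ p ∈ s, ((p.2 : R →₀ (FixedPoints.subring R G)) r) • p.1 = if r = 1 then a else 0 := by
      intro r
      obtain ⟨ε, hε⟩ : ∃ ε : TensorProduct (FixedPoints.subring R G) A (R →₀ (FixedPoints.subring R G)) →ₗ[(FixedPoints.subring R G)] A,
          ε = (TensorProduct.rid (FixedPoints.subring R G) A).toLinearMap ∘ₗ LinearMap.lTensor A (Finsupp.lapply r) :=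
        ⟨_, rfl⟩
      have hε' : ∀ (c : A) (φ : R →₀ (FixedPoints.subring R G)), ε (c ⊗ₜ φ) = φ r • c := by
        intro c φ
        rw [hε]
        simp only [LinearMap.comp_apply, LinearMap.lTensor_tmul, Finsupp.lapply_apply,
          LinearEquiv.coe_coe, TensorProduct.rid_tmul]
      have h1 := congrArg ε ht
      rw [hs, map_sum, map_sum] at h1
      simp only [LinearMap.lTensor_tmul, Submodule.subtype_apply, hε'] at h1
      rw [h1, Finsupp.single_apply]
      by_cases h : r = 1
      · rw [if_pos h, if_pos h.symm, one_smul]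
      · rw [if_neg h, if_neg (Ne.symm h), zero_smul]
    have hkerp : ∀ (p : A × LinearMap.ker π) (F : Finset R), (p.2 : R →₀ (FixedPoints.subring R G)).support ⊆ F →
        ∑ r ∈ F, (((p.2 : R →₀ (FixedPoints.subring R G)) r : (FixedPoints.subring R G)) : R) * r = 0 := by
      intro p F hF
      have h1 : Finsupp.linearCombination (FixedPoints.subring R G) (id : R → R)
          (p.2 : R →₀ (FixedPoints.subring R G)) = 0 :=
        (LinearMap.congr_fun hπ _).symm.trans (LinearMap.mem_ker.mp p.2.2)
      rw [Finsupp.linearCombination_apply, Finsupp.sum] at h1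
      rw [← Finset.sum_subset hF]
      · simpa [Subring.smul_def] using h1
      · intro r _ hr
        rw [Finsupp.notMem_support_iff.mp hr]; simp
    obtain ⟨F, hF⟩ : ∃ F : Finset R,
        F = insert 1 (s.biUnion fun p => (p.2 : R →₀ (FixedPoints.subring R G)).support) := ⟨_, rfl⟩
    have h1F : (1:R) ∈ F := hF ▸ Finset.mem_insert_self _ _
    have hsF : ∀ p ∈ s, (p.2 : R →₀ (FixedPoints.subring R G)).support ⊆ F := fun p hp r hr => by
      rw [hF]; exact Finset.mem_insert_of_mem (Finset.mem_biUnion.mpr ⟨p, hp, hr⟩)
    obtain ⟨Ψ, hmon, hΨ⟩ := lemmaL (G := G) (id : R → R) F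
    -- first evaluation
    obtain ⟨φ₁, hφ₁⟩ : ∃ φ₁ : MvPolynomial R (FixedPoints.subring R G) →ₐ[(FixedPoints.subring R G)] Polynomial (FixedPoints.subring R G),
        φ₁ = MvPolynomial.aeval (fun r => if r = 1 then Polynomial.X else 0) := ⟨_, rfl⟩
    have hE1 := lemmaE (id : R → R) F Ψ hΨ φ₁ (Polynomial.mapRingHom (FixedPoints.subring R G).subtype) (Polynomial.C)
      (by
        intro t
        rw [Polynomial.algebraMap_apply, Algebra.algebraMap_self, RingHom.id_apply,
          Polynomial.coe_mapRingHom, Polynomial.map_C]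
        rfl)
    have hsum1 : ∀ g : G, ∑ r ∈ F, (Polynomial.mapRingHom (FixedPoints.subring R G).subtype) (φ₁ (MvPolynomial.X r)) *
        Polynomial.C (g • id r) = Polynomial.X := by
      intro g
      rw [Finset.sum_eq_single (1:R)]
      · rw [hφ₁, MvPolynomial.aeval_X, if_pos rfl, Polynomial.coe_mapRingHom, Polynomial.map_X,
          id, smul_one, Polynomial.C_1, mul_one]
      · intro r _ hr
        rw [hφ₁, MvPolynomial.aeval_X, if_neg hr, map_zero, zero_mul]
      · intro h; exact absurd h1F h
    simp only [hsum1] at hE1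
    rw [Finset.prod_const, Finset.card_univ] at hE1
    have hΨ1 : Ψ.map φ₁.toRingHom =
        (Polynomial.X - Polynomial.C Polynomial.X) ^ Fintype.card G := by
      apply Polynomial.map_injective (Polynomial.mapRingHom (FixedPoints.subring R G).subtype)
        (Polynomial.map_injective _ Subtype.val_injective)
      rw [hE1, Polynomial.map_pow, Polynomial.map_sub, Polynomial.map_X, Polynomial.map_C,
        Polynomial.coe_mapRingHom, Polynomial.map_X]
    have hA1 : Ψ.map ((Polynomial.aeval a : Polynomial (FixedPoints.subring R G) →ₐ[(FixedPoints.subring R G)] A).toRingHom.comp φ₁.toRingHom)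
        = (Polynomial.X - Polynomial.C a) ^ Fintype.card G := by
      rw [← Polynomial.map_map, hΨ1, Polynomial.map_pow, Polynomial.map_sub, Polynomial.map_X,
        Polynomial.map_C]
      simp
    -- second evaluation
    obtain ⟨φ₂, hφ₂⟩ : ∃ φ₂ : MvPolynomial R (FixedPoints.subring R G) →ₐ[(FixedPoints.subring R G)] MvPolynomial (A × LinearMap.ker π) (FixedPoints.subring R G),
        φ₂ = MvPolynomial.aeval (fun r => ∑ p ∈ s,
          MvPolynomial.C ((p.2 : R →₀ (FixedPoints.subring R G)) r) * MvPolynomial.X p) := ⟨_, rfl⟩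
    have hE2 := lemmaE (id : R → R) F Ψ hΨ φ₂ (MvPolynomial.map (FixedPoints.subring R G).subtype) (MvPolynomial.C)
      (by
        intro t
        rw [MvPolynomial.algebraMap_eq, MvPolynomial.map_C]
        rfl)
    have hsum2 : ∀ g : G, ∑ r ∈ F, (MvPolynomial.map (FixedPoints.subring R G).subtype) (φ₂ (MvPolynomial.X r)) *
        MvPolynomial.C (g • id r) = 0 := by
      intro g
      have h1 : ∀ r, (MvPolynomial.map (FixedPoints.subring R G).subtype) (φ₂ (MvPolynomial.X r)) *
          MvPolynomial.C (g • id r) = ∑ p ∈ s, MvPolynomial.X p *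
            MvPolynomial.C ((((p.2 : R →₀ (FixedPoints.subring R G)) r : (FixedPoints.subring R G)) : R) * (g • r)) := by
        intro r
        rw [hφ₂, MvPolynomial.aeval_X, map_sum, Finset.sum_mul]
        apply Finset.sum_congr rfl
        intro p _
        rw [map_mul, MvPolynomial.map_C, MvPolynomial.map_X, MvPolynomial.C_mul]
        simp only [Subring.coe_subtype, id]
        ring
      simp only [h1]
      rw [Finset.sum_comm]
      apply Finset.sum_eq_zero
      intro p hp
      rw [← Finset.mul_sum, ← map_sum]
      have h2 : ∑ r ∈ F, (((p.2 : R →₀ (FixedPoints.subring R G)) r : (FixedPoints.subring R G)) : R) * (g • r) = 0 := by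
        have h3 := hkerp p F (hsF p hp)
        have h4 := congrArg (fun z => g • z) h3
        simp only [Finset.smul_sum, smul_mul', smul_zero] at h4
        rw [← h4]
        apply Finset.sum_congr rfl
        intro r _
        rw [((p.2 : R →₀ (FixedPoints.subring R G)) r).2 g]
      rw [h2, map_zero, mul_zero]
    simp only [hsum2] at hE2
    rw [Polynomial.C_0, sub_zero, Finset.prod_const, Finset.card_univ] at hE2
    have hΨ2 : Ψ.map φ₂.toRingHom = Polynomial.X ^ Fintype.card G := by
      apply Polynomial.map_injective (MvPolynomial.map (FixedPoints.subring R G).subtype)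
        (MvPolynomial.map_injective _ Subtype.val_injective)
      rw [hE2, Polynomial.map_pow, Polynomial.map_X]
    have hA2 : Ψ.map ((MvPolynomial.aeval (fun p : A × LinearMap.ker π => p.1) :
        MvPolynomial (A × LinearMap.ker π) (FixedPoints.subring R G) →ₐ[(FixedPoints.subring R G)] A).toRingHom.comp φ₂.toRingHom)
        = Polynomial.X ^ Fintype.card G := by
      rw [← Polynomial.map_map, hΨ2, Polynomial.map_pow, Polynomial.map_X]
    have hcomp : (Polynomial.aeval a : Polynomial (FixedPoints.subring R G) →ₐ[(FixedPoints.subring R G)] A).comp φ₁ =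
        (MvPolynomial.aeval (fun p : A × LinearMap.ker π => p.1) :
          MvPolynomial (A × LinearMap.ker π) (FixedPoints.subring R G) →ₐ[(FixedPoints.subring R G)] A).comp φ₂ := by
      apply MvPolynomial.algHom_ext
      intro r
      rw [AlgHom.comp_apply, AlgHom.comp_apply, hφ₁, hφ₂, MvPolynomial.aeval_X,
        MvPolynomial.aeval_X, map_sum]
      have hL : (Polynomial.aeval a) (if r = 1 then (Polynomial.X : Polynomial (FixedPoints.subring R G)) else 0)
          = if r = 1 then a else 0 := by
        split_ifs
        · rw [Polynomial.aeval_X]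
        · rw [map_zero]
      rw [hL, ← hcoord r]
      apply Finset.sum_congr rfl
      intro p _
      rw [map_mul, MvPolynomial.aeval_C, MvPolynomial.aeval_X, Algebra.smul_def]
    have hfinal : (Polynomial.X - Polynomial.C a) ^ Fintype.card G
        = (Polynomial.X : Polynomial A) ^ Fintype.card G := by
      rw [← hA1, ← hA2]
      congr 1
      exact congrArg AlgHom.toRingHom hcomp
    rw [hfinal, Polynomial.coeff_X_pow, if_neg (ne_of_lt hi)]


end Groth.Agent.S9312
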