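import Groth.Statements.S9315
import Groth.Agent.LibLoc29
-- import your own Groth.Agent.* helpers here

set_option autoImplicit false
universe u
open CAlg

namespace Groth.Agent.S9315
open IsLocalRing
open Groth.Agent.LibLoc29

lemma exists_lift_of_subsingleton {R S E : Type u} [CommRing R] [CommRing S] [Algebra R S]
    [CommRing E] [Algebra R E] [Subsingleton E] (J : Ideal E) (ψ : S →ₐ[R] E ⧸ J) :
    ∃ χ : S →ₐ[R] E, (Ideal.Quotient.mkₐ R J).comp χ = ψ := by
  refine ⟨{ toFun := fun _ => 0, map_one' := Subsingleton.elim _ _, map_mul' := fun _ _ => by simp,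
            map_zero' := rfl, map_add' := fun _ _ => by simp,
            commutes' := fun r => Subsingleton.elim _ _ }, ?_⟩
  ext s
  obtain ⟨e, he⟩ := Ideal.Quotient.mk_surjective (ψ s)
  rw [← he]
  simp only [AlgHom.comp_apply, Ideal.Quotient.mkₐ_eq_mk]
  exact congrArg _ (Subsingleton.elim _ _)

lemma maximalIdeal_quot_pow {A : Type u} [CommRing A] [IsLocalRing A] (J : Ideal A)
    [IsLocalRing (A ⧸ J)] (n : ℕ) (hn : maximalIdeal A ^ n = ⊥) : maximalIdeal (A ⧸ J) ^ n = ⊥ := by
  have h1 : maximalIdeal (A ⧸ J) ≤ (maximalIdeal A).map (Ideal.Quotient.mk J) := by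
    intro x hx
    obtain ⟨a, rfl⟩ := Ideal.Quotient.mk_surjective x
    apply Ideal.mem_map_of_mem
    rw [IsLocalRing.mem_maximalIdeal] at hx ⊢
    intro hu
    exact hx (hu.map _)
  rw [eq_bot_iff]
  refine (Ideal.pow_right_mono h1 n).trans ?_
  rw [← Ideal.map_pow, hn, Ideal.map_bot]


open IsLocalRing in
/-- Let `R → S` be a local homomorphism of local rings (no Noetherian hypothesis). Then `R → S` is
formally smooth for the adic topology of the maximal ideal of `S` if and only if the following
lifting property holds: for every local ring `A` with a local structure map `R → A`, every ideal `J`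
of `A` of square zero such that some power of the maximal ideal of `A` is zero, and every local
`R`-algebra homomorphism `ψ : S → A/J` inducing a bijection on residue fields, there is an
`R`-algebra homomorphism `S → A` lifting `ψ`. -/
theorem result {R S : Type u} [CommRing R] [CommRing S]
    [IsLocalRing R] [IsLocalRing S] [Algebra R S] [IsLocalHom (algebraMap R S)] :
    CAlgX.IsAdicFormallySmooth R S (maximalIdeal S) ↔
      ∀ (A : Type u) [CommRing A] [IsLocalRing A] [Algebra R A] [IsLocalHom (algebraMap R A)]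
        (J : Ideal A), J ^ 2 = ⊥ → (∃ n : ℕ, maximalIdeal A ^ n = ⊥) →
        ∀ [IsLocalRing (A ⧸ J)] (ψ : S →ₐ[R] A ⧸ J) [IsLocalHom ψ.toRingHom],
          Function.Bijective (ResidueField.map ψ.toRingHom) →
          ∃ χ : S →ₐ[R] A, (Ideal.Quotient.mkₐ R J).comp χ = ψ := by
  constructor
  · intro h A _ _ _ _ J hJ hn _ ψ _ _
    obtain ⟨n, hn⟩ := hn
    refine h A J hJ ψ ⟨n, fun x hx => ?_⟩
    have h1 : (maximalIdeal S).map ψ.toRingHom ≤ maximalIdeal (A ⧸ J) := by
      rw [Ideal.map_le_iff_le_comap]
      intro s hs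
      exact map_nonunit ψ.toRingHom s hs
    have h2 : ψ.toRingHom x ∈ ((maximalIdeal S) ^ n).map ψ.toRingHom := Ideal.mem_map_of_mem _ hx
    rw [Ideal.map_pow] at h2
    have h3 := Ideal.pow_right_mono h1 n h2
    rw [maximalIdeal_quot_pow J n hn, Ideal.mem_bot] at h3
    exact h3
  · intro H E _ _ N hN ψ hk
    obtain ⟨k, hk⟩ := hk
    rcases subsingleton_or_nontrivial E with hE | hE
    · exact exists_lift_of_subsingleton N ψ
    · set π : E →ₐ[R] E ⧸ N := Ideal.Quotient.mkₐ R N with hπdef
      have hπ : Function.Surjective π := Ideal.Quotient.mkₐ_surjective R N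
      have hker : RingHom.ker π = N := Ideal.Quotient.mkₐ_ker R N
      have hm : RingHom.ker π ^ 2 = ⊥ := by rw [hker]; exact hN
      have hNtop : N ≠ ⊤ := by
        intro h
        rw [h] at hN
        have : (1 : E) ∈ (⊤ : Ideal E) ^ 2 := by
          rw [Ideal.top_pow]; trivial
        rw [hN, Ideal.mem_bot] at this
        exact one_ne_zero this
      have : Nontrivial (E ⧸ N) := Ideal.Quotient.nontrivial_iff.2 hNtop
      have inst1 : IsLocalRing (pre π ψ) := isLocalRing_pre π ψ hπ 2 hm
      have inst2 : IsLocalHom (algebraMap R (pre π ψ)) := isLocalHom_algebraMap_pre π ψ k hk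
      have : Nontrivial ψ.range := inferInstance
      have inst0 : IsLocalRing ψ.range :=
        IsLocalRing.of_surjective' ψ.rangeRestrict.toRingHom ψ.rangeRestrict_surjective
      have hk' : ∀ x ∈ maximalIdeal S ^ k, ψ.rangeRestrict.toRingHom x = 0 := fun x hx =>
        Subtype.ext (hk x hx)
      have inst5 : IsLocalHom ψ.rangeRestrict.toRingHom :=
        isLocalHom_of_pow_eq_zero ψ.rangeRestrict.toRingHom k hk'
      have hb : Function.Bijective (ResidueField.map ψ.rangeRestrict.toRingHom) :=
        residueField_map_bijective_of_surjective _ ψ.rangeRestrict_surjective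
      have hps := preMap_surjective π ψ hπ
      have inst3 : IsLocalRing (pre π ψ ⧸ RingHom.ker (preMap π ψ)) :=
        isLocalRing_quot_ker (preMap π ψ) hps
      have inst4 : IsLocalHom (liftHom (preMap π ψ) hps ψ.rangeRestrict).toRingHom :=
        isLocalHom_liftHom (preMap π ψ) hps ψ.rangeRestrict
      have hb' := bijective_residue_liftHom (preMap π ψ) hps ψ.rangeRestrict hb
      have hJ2 := ker_preMap_pow π ψ 2 hm
      have hmax := maximalIdeal_pre_pow π ψ hπ 2 hm k hk
      obtain ⟨χ', hχ'⟩ := @H (pre π ψ) _ inst1 _ inst2 (RingHom.ker (preMap π ψ)) hJ2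
        ⟨k * 2, hmax⟩ inst3 (liftHom (preMap π ψ) hps ψ.rangeRestrict) inst4 hb'
      have h1 := comp_eq_of_liftHom (preMap π ψ) hps ψ.rangeRestrict χ' hχ'
      exact ⟨(pre π ψ).val.comp χ', lift_of_lift_pre π ψ χ' h1⟩

end Groth.Agent.S9315
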