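import Groth.Statements.S9316
import Groth.Agent.LibLoc29d
import Mathlib.RingTheory.Length
import Mathlib.RingTheory.SimpleModule.Basic
-- import your own Groth.Agent.* helpers here

set_option autoImplicit false
universe u
open CAlg

namespace Groth.Agent.S9316
open IsLocalRing
open Groth.Agent.LibLoc29

lemma isSimpleModule_span_singleton {D : Type u} [CommRing D] [IsLocalRing D] (J : Ideal D)
    (t : D) (ht : J = Ideal.span {t}) (ht0 : t ≠ 0)
    (hN : ∀ a ∈ maximalIdeal D, ∀ n ∈ J, a * n = 0) : IsSimpleModule D ↥J := by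
  have htJ : t ∈ J := by rw [ht]; exact Ideal.subset_span rfl
  rw [isSimpleModule_iff_toSpanSingleton_surjective]
  refine ⟨⟨⟨⟨t, htJ⟩, 0, fun h => ht0 (congrArg Subtype.val h)⟩⟩, fun x hx y => ?_⟩
  have hxJ : x.1 ∈ Ideal.span {t} := ht ▸ x.2
  have hyJ : y.1 ∈ Ideal.span {t} := ht ▸ y.2
  obtain ⟨d, hd⟩ := Ideal.mem_span_singleton'.1 hxJ
  obtain ⟨d', hd'⟩ := Ideal.mem_span_singleton'.1 hyJ
  have hdu : IsUnit d := by
    by_contra h
    have : d ∈ maximalIdeal D := (IsLocalRing.mem_maximalIdeal d).2 h
    apply hx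
    apply Subtype.ext
    rw [← hd]
    exact hN d this t htJ
  obtain ⟨e, he⟩ := hdu.exists_left_inv
  refine ⟨d' * e, ?_⟩
  apply Subtype.ext
  rw [LinearMap.toSpanSingleton_apply]
  simp only [Submodule.coe_smul, smul_eq_mul]
  rw [← hd, ← hd', mul_assoc, ← mul_assoc e d t, he, one_mul]


open IsLocalRing in
/-- Let `R → S` be a local homomorphism of local rings with `S` Noetherian. Then `R → S` is formally
smooth for the adic topology of the maximal ideal of `S` if and only if lifts exist along small
extensions: for every Artinian local ring `A` with a local structure map `R → A`, every ideal `J` of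
`A` of square zero which has length one as an `A`-module, and every local `R`-algebra homomorphism
`ψ : S → A/J` inducing a bijection on residue fields, there is an `R`-algebra homomorphism `S → A`
lifting `ψ`. -/
theorem result {R S : Type u} [CommRing R] [CommRing S]
    [IsLocalRing R] [IsLocalRing S] [IsNoetherianRing S] [Algebra R S] [IsLocalHom (algebraMap R S)] :
    CAlgX.IsAdicFormallySmooth R S (maximalIdeal S) ↔
      ∀ (A : Type u) [CommRing A] [IsLocalRing A] [IsArtinianRing A] [Algebra R A]
        [IsLocalHom (algebraMap R A)] (J : Ideal A), J ^ 2 = ⊥ → Module.length A J = 1 →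
        ∀ [IsLocalRing (A ⧸ J)] (ψ : S →ₐ[R] A ⧸ J) [IsLocalHom ψ.toRingHom],
          Function.Bijective (ResidueField.map ψ.toRingHom) →
          ∃ χ : S →ₐ[R] A, (Ideal.Quotient.mkₐ R J).comp χ = ψ := by
  constructor
  · intro h A _ _ _ _ _ J hJ _ _ ψ _ _
    obtain ⟨n, hn⟩ := (isArtinianRing_iff_isNilpotent_maximalIdeal A).1 inferInstance
    have hn : maximalIdeal A ^ n = ⊥ := hn
    have hn' : maximalIdeal (A ⧸ J) ^ n = ⊥ :=
      maximalIdeal_pow_of_surjective (Ideal.Quotient.mk J) Ideal.Quotient.mk_surjective n hn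
    exact h A J hJ ψ ⟨n, map_eq_zero_of_mem_pow ψ.toRingHom n hn'⟩
  · intro H E _ _ J hJ ψ hψ
    have HC : CycLift R S := by
      intro D D₀ _ _ _ _ _ _ q hq hle hN ht g₀ hg₀
      obtain ⟨t, ht⟩ := ht
      by_cases ht0 : t = 0
      · have hker : RingHom.ker q = ⊥ := by
          rw [ht, ht0, Ideal.span_singleton_eq_bot]
        have hinj : Function.Injective q := (RingHom.injective_iff_ker_eq_bot q.toRingHom).2 hker
        let e : D ≃ₐ[R] D₀ := AlgEquiv.ofBijective q ⟨hinj, hq⟩
        refine ⟨(e.symm : D₀ →ₐ[R] D).comp g₀, ?_⟩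
        ext b
        change q (e.symm (g₀ b)) = g₀ b
        exact e.apply_symm_apply (g₀ b)
      · have : Nontrivial D₀ := by
          by_contra h
          rw [not_nontrivial_iff_subsingleton] at h
          have h1 : (1 : D) ∈ RingHom.ker q := by
            rw [RingHom.mem_ker]; exact Subsingleton.elim _ _
          exact (IsLocalRing.mem_maximalIdeal _).1 (hle h1) isUnit_one
        have : IsLocalRing D₀ := IsLocalRing.of_surjective' q.toRingHom hq
        have : IsLocalHom g₀.toRingHom := IsLocalHom.of_surjective _ hg₀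
        have hb := residueField_map_bijective_of_surjective g₀.toRingHom hg₀
        have : IsLocalHom (algebraMap R D) := by
          refine ⟨fun r hr => ?_⟩
          have h1 : IsUnit (q (algebraMap R D r)) := hr.map q
          rw [AlgHom.commutes, ← g₀.commutes] at h1
          have h2 : IsUnit (algebraMap R S r) := isUnit_of_map_unit g₀.toRingHom _ h1
          exact isUnit_of_map_unit (algebraMap R S) _ h2
        have hsq : RingHom.ker q ^ 2 = ⊥ := by
          rw [eq_bot_iff, pow_two, Ideal.mul_le]
          intro r hr s hs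
          rw [Ideal.mem_bot]
          exact hN r (hle hr) s hs
        have hsimple : IsSimpleModule D ↥(RingHom.ker q) :=
          isSimpleModule_span_singleton (RingHom.ker q) t ht ht0 hN
        have hlen : Module.length D ↥(RingHom.ker q) = 1 := Module.length_eq_one_iff.2 hsimple
        have inst3 : IsLocalRing (D ⧸ RingHom.ker q) := isLocalRing_quot_ker q hq
        have inst4 : IsLocalHom (liftHom q hq g₀).toRingHom := isLocalHom_liftHom q hq g₀
        have hb' := bijective_residue_liftHom q hq g₀ hb
        obtain ⟨f, hf⟩ := H D (RingHom.ker q) hsq hlen (liftHom q hq g₀) hb'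
        exact ⟨f, comp_eq_of_liftHom q hq g₀ f hf⟩
    obtain ⟨k, hk⟩ := hψ
    have hker : RingHom.ker (Ideal.Quotient.mkₐ R J) = J := Ideal.Quotient.mkₐ_ker R J
    have hm' : RingHom.ker (Ideal.Quotient.mkₐ R J) ^ 2 = ⊥ := by
      rw [hker]; exact hJ
    exact exists_lift_of_stepA (stepAProp_of_cycLift HC) (Ideal.Quotient.mkₐ R J)
      (Ideal.Quotient.mkₐ_surjective R J) 2 hm' ψ k hk

end Groth.Agent.S9316
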