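import Groth.Statements.S9323
import Groth.Agent.Lib.Helper24.AdicLift
import Groth.Agent.S9455
import Groth.Agent.LibPS29

set_option autoImplicit false
open CAlg

namespace Groth.Agent.S9323

/-- Let `Λ` be a Cohen ring (a complete discrete valuation ring whose maximal ideal is generated by a
prime number) and `n ≥ 0`. Then `ℤ → Λ[[x_1, …, x_n]]` is formally smooth for the adic topology of
the maximal ideal of the power series ring. (`Λ` is taken in the lowest universe, where `ℤ` lives.) -/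
theorem result (Λ : Type) [CommRing Λ] [IsLocalRing Λ]
    (hΛ : CAlg.IsCohenRing Λ) (n : ℕ) :
    CAlgX.IsAdicFormallySmooth ℤ (MvPowerSeries (Fin n) Λ)
      (IsLocalRing.maximalIdeal (MvPowerSeries (Fin n) Λ)) := by
  classical
  obtain ⟨hD, hDVR, hc, p, hp, hm⟩ := hΛ
  intro A _ _ J hJ ψ ⟨k, hk⟩
  have hXm : ∀ i : Fin n, (MvPowerSeries.X i : MvPowerSeries (Fin n) Λ) ∈
      IsLocalRing.maximalIdeal (MvPowerSeries (Fin n) Λ) := by
    intro i
    rw [IsLocalRing.mem_maximalIdeal, mem_nonunits_iff]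
    intro h
    have := MvPowerSeries.isUnit_iff_constantCoeff.mp h
    rw [MvPowerSeries.constantCoeff_X] at this
    exact not_isUnit_zero this
  have hpm : ((p : ℕ) : MvPowerSeries (Fin n) Λ) ∈
      IsLocalRing.maximalIdeal (MvPowerSeries (Fin n) Λ) := by
    rw [IsLocalRing.mem_maximalIdeal, mem_nonunits_iff]
    intro h
    have h1 := MvPowerSeries.isUnit_iff_constantCoeff.mp h
    rw [map_natCast] at h1
    have h2 : (p : Λ) ∈ IsLocalRing.maximalIdeal Λ := by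
      rw [hm]; exact Ideal.mem_span_singleton_self _
    exact (IsLocalRing.mem_maximalIdeal _).1 h2 h1
  -- `p` is nilpotent in `A`
  have hpJ : ((p : ℕ) : A) ^ k ∈ J := by
    rw [← Ideal.Quotient.eq_zero_iff_mem, map_pow, map_natCast, ← map_natCast ψ, ← map_pow]
    exact hk _ (Ideal.pow_mem_pow hpm k)
  have hpA : ((p : ℕ) : A) ^ (2 * k + 1) = 0 := by
    have h1 : ((p : ℕ) : A) ^ k * ((p : ℕ) : A) ^ k ∈ J ^ 2 := by
      rw [pow_two]
      exact Ideal.mul_mem_mul hpJ hpJ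
    rw [hJ, Ideal.mem_bot] at h1
    have : ((p : ℕ) : A) ^ (2 * k + 1) = (((p : ℕ) : A) ^ k * ((p : ℕ) : A) ^ k) * (p : A) := by
      ring
    rw [this, h1, zero_mul]
  -- lift the coefficient map
  let ψ₀ : Λ →+* A ⧸ J := ψ.toRingHom.comp MvPowerSeries.C
  have hψ₀ : ∀ a ∈ Ideal.span {((p : Λ)) ^ (2 * k + 1)}, ψ₀ a = 0 := by
    intro a ha
    obtain ⟨b, rfl⟩ := Ideal.mem_span_singleton'.1 ha
    rw [map_mul, map_pow, map_natCast, ← map_natCast (Ideal.Quotient.mk J), ← map_pow, hpA,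
      map_zero, mul_zero]
  have hN : ((p ^ (2 * k + 1) : ℕ) : Λ ⧸ Ideal.span {((p : Λ)) ^ (2 * k + 1)}) = 0 := by
    rw [← map_natCast (Ideal.Quotient.mk _), Ideal.Quotient.eq_zero_iff_mem, Nat.cast_pow]
    exact Ideal.mem_span_singleton_self _
  letI : Algebra (ZMod (p ^ (2 * k + 1))) (Λ ⧸ Ideal.span {((p : Λ)) ^ (2 * k + 1)}) :=
    (ZMod.castHom (ringChar.dvd hN) _).toAlgebra
  haveI : Algebra.FormallySmooth (ZMod (p ^ (2 * k + 1)))
      (Λ ⧸ Ideal.span {((p : Λ)) ^ (2 * k + 1)}) :=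
    Groth.Agent.S9455.result Λ p hp hm (2 * k + 1) (by omega)
  have hNA : ((p ^ (2 * k + 1) : ℕ) : A) = 0 := by
    rw [Nat.cast_pow]; exact hpA
  have hnil : IsNilpotent (RingHom.ker (Ideal.Quotient.mk J)) := by
    rw [Ideal.mk_ker]; exact ⟨2, hJ⟩
  obtain ⟨f', hf'⟩ := Groth.Agent.Lib.Helper24.AdicLift.exists_lift_zmod (p ^ (2 * k + 1))
    (Ideal.Quotient.mk J) Ideal.Quotient.mk_surjective hnil hNA
    (Ideal.Quotient.lift _ ψ₀ hψ₀)
  let χ₀ : Λ →+* A := f'.comp (Ideal.Quotient.mk _)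
  have hχ₀ : ∀ l, Ideal.Quotient.mk J (χ₀ l) = ψ₀ l := by
    intro l
    exact RingHom.congr_fun hf' (Ideal.Quotient.mk _ l)
  letI : Algebra Λ A := χ₀.toAlgebra
  have hcomm : ∀ l : Λ, ψ (algebraMap Λ (MvPowerSeries (Fin n) Λ) l) =
      algebraMap Λ (A ⧸ J) l := by
    intro l
    have h1 : algebraMap Λ (A ⧸ J) l = Ideal.Quotient.mk J (χ₀ l) := rfl
    rw [h1, hχ₀]
    rfl
  let ψL : MvPowerSeries (Fin n) Λ →ₐ[Λ] A ⧸ J :=
    { ψ.toRingHom with commutes' := hcomm }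
  have hψL : ∀ s, ψL s = ψ s := fun _ => rfl
  choose a ha using fun i : Fin n =>
    Ideal.Quotient.mk_surjective (I := J) (ψ (MvPowerSeries.X i))
  have hak : ∀ i, a i ^ k ∈ J := by
    intro i
    rw [← Ideal.Quotient.eq_zero_iff_mem, map_pow, ha, ← map_pow]
    exact hk _ (Ideal.pow_mem_pow (hXm i) k)
  have hz : ∀ i, a i ^ (2 * k + 1 + 1) = 0 := by
    intro i
    have h1 : a i ^ k * a i ^ k ∈ J ^ 2 := by
      rw [pow_two]
      exact Ideal.mul_mem_mul (hak i) (hak i)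
    rw [hJ, Ideal.mem_bot] at h1
    have : a i ^ (2 * k + 1 + 1) = (a i ^ k * a i ^ k) * a i ^ 2 := by ring
    rw [this, h1, zero_mul]
  let χL : MvPowerSeries (Fin n) Λ →ₐ[Λ] A := Groth.Agent.LibPS29.ev a (2 * k + 1) hz
  let χ : MvPowerSeries (Fin n) Λ →ₐ[ℤ] A :=
    { χL.toRingHom with
      commutes' := fun r => RingHom.congr_fun
        (Subsingleton.elim (χL.toRingHom.comp (algebraMap ℤ (MvPowerSeries (Fin n) Λ)))
          (algebraMap ℤ A)) r }
  refine ⟨χ, ?_⟩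
  have hz' : ∀ i, (fun j => Ideal.Quotient.mk J (a j)) i ^ (2 * k + 1 + 1) = 0 := by
    intro i
    simp only
    rw [← map_pow, hz, map_zero]
  have e1 : (Ideal.Quotient.mkₐ Λ J).comp χL = Groth.Agent.LibPS29.ev _ (2 * k + 1) hz' := by
    apply Groth.Agent.LibPS29.algHom_eq_ev
    intro i
    simp only [AlgHom.comp_apply, χL]
    rw [Groth.Agent.LibPS29.ev_X a (2 * k + 1) (by omega) hz i]
    rfl
  have e2 : ψL = Groth.Agent.LibPS29.ev _ (2 * k + 1) hz' := by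
    apply Groth.Agent.LibPS29.algHom_eq_ev
    intro i
    rw [hψL, ← ha i]
  ext s
  have := congrArg (fun f : MvPowerSeries (Fin n) Λ →ₐ[Λ] A ⧸ J => f s) (e1.trans e2.symm)
  exact this

end Groth.Agent.S9323
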