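import Groth.Statements.S9326
import Mathlib

set_option autoImplicit false
universe u
open CAlg

namespace Groth.Agent.S9326

section aux
open Filter Topology

section aux1

/-- the closure of the image of a subgroup is a neighbourhood of zero once it has nonempty
interior. -/
theorem closure_image_mem_nhds {N M : Type*} [AddCommGroup N] [AddCommGroup M]
    [TopologicalSpace M] [IsTopologicalAddGroup M] (u : N →+ M) (V : AddSubgroup N)
    (h : ¬ IsNowhereDense (u '' (V : Set N))) : closure (u '' (V : Set N)) ∈ 𝓝 (0 : M) := by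
  have hne : (interior (closure (u '' (V : Set N)))).Nonempty := by
    rw [Set.nonempty_iff_ne_empty]
    exact h
  obtain ⟨z, hz⟩ := hne
  have hcoe : closure (u '' (V : Set N)) = ((V.map u).topologicalClosure : Set M) := by
    rw [AddSubgroup.topologicalClosure_coe]; rfl
  rw [hcoe] at hz ⊢
  have hzC : z ∈ (V.map u).topologicalClosure := interior_subset hz
  have hCz : ((V.map u).topologicalClosure : Set M) ∈ 𝓝 z := mem_interior_iff_mem_nhds.1 hz
  have ht : Tendsto (fun w : M => w + z) (𝓝 0) (𝓝 z) := by
    have : Continuous (fun w : M => w + z) := continuous_id.add continuous_const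
    simpa using this.tendsto 0
  have := ht hCz
  refine Filter.mem_of_superset this ?_
  intro w hw
  rw [Set.mem_preimage] at hw
  have h3 := (V.map u).topologicalClosure.sub_mem hw hzC
  rw [add_sub_cancel_right] at h3
  exact h3

end aux1

section aux2

variable {N M : Type u} [AddCommGroup N] [AddCommGroup M] [UniformSpace N] [IsUniformAddGroup N]
  [TopologicalSpace M] [IsTopologicalAddGroup M] [T2Space M] [T2Space N] [CompleteSpace N]
  [NonarchimedeanAddGroup N] [FirstCountableTopology N]

omit [T2Space N] in
theorem image_mem_nhds (u : N →+ M) (hu : Continuous u)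
    (h : ∀ V : OpenAddSubgroup N, ¬ IsNowhereDense (u '' (V : Set N))) (V₀ : OpenAddSubgroup N) :
    u '' (V₀ : Set N) ∈ 𝓝 (0 : M) := by
  obtain ⟨B, hB⟩ := (𝓝 (0:N)).exists_antitone_basis
  have hW : ∀ n, ∃ W : OpenAddSubgroup N, (W : Set N) ⊆ B n := fun n =>
    NonarchimedeanAddGroup.is_nonarchimedean _ (hB.mem n)
  choose W hW using hW
  obtain ⟨V, hV0, hVs⟩ : ∃ V : ℕ → OpenAddSubgroup N, V 0 = V₀ ⊓ W 0 ∧ ∀ n, V (n+1) = V n ⊓ W (n+1) :=
    ⟨fun n => Nat.rec (V₀ ⊓ W 0) (fun n Vn => Vn ⊓ W (n+1)) n, rfl, fun n => rfl⟩
  have hVanti : Antitone V := antitone_nat_of_succ_le (fun n => by rw [hVs]; exact inf_le_left)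
  have hVW : ∀ n, V n ≤ W n := by
    intro n
    cases n with
    | zero => rw [hV0]; exact inf_le_right
    | succ n => rw [hVs]; exact inf_le_right
  have hVbasis : ∀ S ∈ 𝓝 (0:N), ∃ n, (V n : Set N) ⊆ S := by
    intro S hS
    obtain ⟨n, -, hn⟩ := hB.toHasBasis.mem_iff.1 hS
    exact ⟨n, fun x hx => hn (hW n (hVW n hx))⟩
  set C : ℕ → Set M := fun n => closure (u '' (V n : Set N)) with hC
  have hCnhds : ∀ n, C n ∈ 𝓝 (0 : M) := fun n =>
    closure_image_mem_nhds u (V n : AddSubgroup N) (h (V n))
  have hCanti : ∀ n k, n ≤ k → C k ⊆ C n := fun n k hnk =>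
    closure_mono (Set.image_mono (fun x hx => hVanti hnk hx))
  -- main inclusion
  have hmain : C 0 ⊆ u '' (V 0 : Set N) := by
    intro y hy
    have step : ∀ n (s : N), y - u s ∈ C n → ∃ x, x ∈ V n ∧ y - u (s + x) ∈ C (n+1) := by
      intro n s hs
      have hcont : Continuous (fun z : M => (y - u s) - z) := continuous_const.sub continuous_id
      have ht : {z : M | (y - u s) - z ∈ C (n+1)} ∈ 𝓝 (y - u s) := by
        have := hcont.tendsto (y - u s)
        rw [sub_self] at this
        exact this (hCnhds (n+1))
      obtain ⟨z, hz1, hz2⟩ := mem_closure_iff_nhds.1 hs _ ht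
      obtain ⟨x, hx, rfl⟩ := hz2
      refine ⟨x, hx, ?_⟩
      rw [map_add, ← sub_sub]
      exact hz1
    choose! f hfV hfC using step
    obtain ⟨S, hS0, hSs⟩ : ∃ S : ℕ → N, S 0 = 0 ∧ ∀ n, S (n+1) = S n + f n (S n) :=
      ⟨fun n => Nat.rec 0 (fun n s => s + f n s) n, rfl, fun n => rfl⟩
    have hSC : ∀ n, y - u (S n) ∈ C n := by
      intro n
      induction n with
      | zero => rw [hS0, map_zero, sub_zero]; exact hy
      | succ n ih => rw [hSs]; exact hfC n _ ih
    have hSdiff : ∀ n k, n ≤ k → S k - S n ∈ V n := by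
      intro n k hnk
      induction k, hnk using Nat.le_induction with
      | base => rw [sub_self]; exact (V n).zero_mem
      | succ k hk ih =>
        rw [hSs]
        have h1 : f k (S k) ∈ V n := hVanti hk (hfV k _ (hSC k))
        have : S k + f k (S k) - S n = (S k - S n) + f k (S k) := by abel
        rw [this]
        exact (V n).add_mem ih h1
    have hcauchy : CauchySeq S := by
      rw [cauchySeq_iff]
      intro E hE
      rw [uniformity_eq_comap_nhds_zero N, Filter.mem_comap] at hE
      obtain ⟨T, hT, hTE⟩ := hE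
      obtain ⟨n, hn⟩ := hVbasis T hT
      refine ⟨n, fun k hk l hl => ?_⟩
      apply hTE
      rw [Set.mem_preimage]
      apply hn
      have h1 := hSdiff n k hk
      have h2 := hSdiff n l hl
      have : S l - S k = (S l - S n) - (S k - S n) := by abel
      show S l - S k ∈ V n
      rw [this]
      exact (V n).sub_mem h2 h1
    obtain ⟨x, hx⟩ := cauchySeq_tendsto_of_complete hcauchy
    have hxV : x ∈ (V 0 : Set N) := by
      apply (V 0).isClosed.mem_of_tendsto hx
      refine Filter.Eventually.of_forall (fun n => ?_)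
      have := hSdiff 0 n (Nat.zero_le n)
      rwa [hS0, sub_zero] at this
    refine ⟨x, hxV, ?_⟩
    -- y - u (S k) → y - u x and → 0
    have hlim1 : Tendsto (fun k => y - u (S k)) atTop (𝓝 (y - u x)) :=
      tendsto_const_nhds.sub ((hu.tendsto x).comp hx)
    have hlim2 : Tendsto (fun k => y - u (S k)) atTop (𝓝 (0 : M)) := by
      intro T hT
      obtain ⟨T', hT', hT'cl, hT'T⟩ := exists_mem_nhds_isClosed_subset hT
      have hpre : u ⁻¹' T' ∈ 𝓝 (0 : N) := by
        have := hu.tendsto 0
        rw [map_zero] at this
        exact this hT'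
      obtain ⟨n, hn⟩ := hVbasis _ hpre
      have hCT : C n ⊆ T' := by
        apply closure_minimal _ hT'cl
        rintro _ ⟨z, hz, rfl⟩
        exact hn hz
      rw [Filter.mem_map, Filter.mem_atTop_sets]
      refine ⟨n, fun k hk => ?_⟩
      exact hT'T (hCT (hCanti n k hk (hSC k)))
    have := tendsto_nhds_unique hlim1 hlim2
    exact (sub_eq_zero.1 this).symm
  have hsub : u '' (V 0 : Set N) ⊆ u '' (V₀ : Set N) := by
    apply Set.image_mono
    intro x hx
    have : V 0 ≤ V₀ := by rw [hV0]; exact inf_le_left
    exact this hx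
  exact Filter.mem_of_superset (hCnhds 0) (hmain.trans hsub)

end aux2

section aux3

variable {N M : Type u} [AddCommGroup N] [AddCommGroup M] [UniformSpace N] [IsUniformAddGroup N]
  [TopologicalSpace M] [IsTopologicalAddGroup M] [T2Space M] [T2Space N] [CompleteSpace N]
  [NonarchimedeanAddGroup N] [FirstCountableTopology N]

omit [T2Space N] in
theorem final (u : N →+ M) (hu : Continuous u) :
    Xor (IsOpenMap u) (∃ V : OpenAddSubgroup N, IsNowhereDense (u '' (V : Set N))) := by
  by_cases h : ∃ V : OpenAddSubgroup N, IsNowhereDense (u '' (V : Set N))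
  · right
    refine ⟨h, ?_⟩
    intro hopen
    obtain ⟨V, hV⟩ := h
    have h1 : IsOpen (u '' (V : Set N)) := hopen _ V.isOpen
    have h0 : (0 : M) ∈ u '' (V : Set N) := ⟨0, V.zero_mem, map_zero u⟩
    have h2 : (0 : M) ∈ interior (closure (u '' (V : Set N))) :=
      interior_mono subset_closure (by rw [h1.interior_eq]; exact h0)
    have hV' : interior (closure (u '' (V : Set N))) = ∅ := hV
    rw [hV'] at h2
    exact h2
  · left
    refine ⟨?_, h⟩
    push Not at h
    have key := image_mem_nhds u hu h
    rw [isOpenMap_iff_nhds_le]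
    intro x T hT
    rw [Filter.mem_map] at hT
    have h1 : {z : N | x + z ∈ u ⁻¹' T} ∈ 𝓝 (0:N) := by
      have hc : Continuous (fun z : N => x + z) := continuous_const.add continuous_id
      have := hc.tendsto 0
      rw [add_zero] at this
      exact this hT
    obtain ⟨V₀, hV₀⟩ := NonarchimedeanAddGroup.is_nonarchimedean _ h1
    have h2 := key V₀
    have hc2 : Continuous (fun w : M => w - u x) := continuous_id.sub continuous_const
    have h3 : {w : M | w - u x ∈ u '' (V₀ : Set N)} ∈ 𝓝 (u x) := by
      have := hc2.tendsto (u x)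
      rw [sub_self] at this
      exact this h2
    refine Filter.mem_of_superset h3 ?_
    intro w hw
    obtain ⟨z, hz, hzw⟩ := hw
    have h4 : u (x + z) ∈ T := hV₀ hz
    rw [map_add, hzw] at h4
    simpa using h4

end aux3

end aux


/-- Let `u : N → M` be a continuous homomorphism of topological abelian groups. Assume `M` is Hausdorff
and `N` is Hausdorff and complete, linearly topologized (every neighbourhood of zero contains an
open subgroup) and first countable (zero has a countable basis of neighbourhoods). Then exactly one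
of two things holds: `u` is an open map; or there is an open subgroup of `N` whose image is nowhere
dense in `M`. -/
theorem result {N M : Type u} [AddCommGroup N]
    [AddCommGroup M] [UniformSpace N] [IsUniformAddGroup N] [TopologicalSpace M]
    [IsTopologicalAddGroup M] [T2Space M] [T2Space N] [CompleteSpace N] [NonarchimedeanAddGroup N]
    [FirstCountableTopology N] (u : N →+ M) (hu : Continuous u) :
    Xor (IsOpenMap u) (∃ V : OpenAddSubgroup N, IsNowhereDense (u '' (V : Set N))) := by
  exact final u hu

end Groth.Agent.S9326
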