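import Groth.Statements.S9329
import Mathlib
import Groth.Agent.Lib.Helper10.RootExt1
import Groth.Agent.Lib.Helper10.RootExt2
import Groth.Agent.S7132
import Groth.Agent.S1982

set_option autoImplicit false
universe u
open EtRam

namespace Groth.Agent.S9329

set_option linter.style.haveILetI false
set_option linter.unusedSectionVars false

open Polynomial IsLocalRing Groth.Agent.Lib.helper10

section Main

variable {A K L : Type u} [CommRing A] [IsDomain A]
    [IsDiscreteValuationRing A] [Field K] [Algebra A K] [IsFractionRing A K] [Field L] [Algebra K L]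
    [Algebra A L] [IsScalarTower A K L] [FiniteDimensional K L] [Algebra.IsSeparable K L]

include K in
theorem ramIdx_bound (V : ValuationSubring L) (hV : EtRam.Dominates A (algebraMap A L) V) :
    letI : Algebra A V := (RingHom.codRestrict (algebraMap A L) V hV.1).toAlgebra
    Ideal.ramificationIdx' (maximalIdeal A) (maximalIdeal V) ≠ 0 ∧
      Ideal.ramificationIdx' (maximalIdeal A) (maximalIdeal V) ≤ Module.finrank K L := by
  haveI : IsDiscreteValuationRing V :=
    TameComp.isDVR_of_dominates A K L V (by rw [← IsScalarTower.algebraMap_eq A K L]; exact hV)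
  letI : Algebra A V := (RingHom.codRestrict (algebraMap A L) V hV.1).toAlgebra
  haveI : IsLocalHom (algebraMap A V) := CompDvr.isLocalHom_codRestrict _ _ hV
  haveI : IsScalarTower A V L := IsScalarTower.of_algebraMap_eq (fun _ => rfl)
  have hinjAL : Function.Injective (algebraMap A L) := by
    rw [IsScalarTower.algebraMap_eq A K L]
    exact (algebraMap K L).injective.comp (IsFractionRing.injective A K)
  have hinj : Function.Injective (algebraMap A V) := by
    intro a b hab
    exact hinjAL (congrArg Subtype.val hab)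
  obtain ⟨hfin, hle⟩ := Groth.Agent.S7132.result A V K L hinj
  haveI := hfin
  have hf : 0 < Module.finrank (ResidueField A) (ResidueField V) := Module.finrank_pos
  refine ⟨Groth.Agent.S1982.ramIdx_ne_zero A V hinj, le_trans ?_ hle⟩
  exact Nat.le_mul_of_pos_right _ hf

include K in
theorem exists_E (h : EtRam.IsTamelyRamified A (algebraMap A L)) :
    ∃ E : ℕ, 2 ≤ E ∧ ((E : ℕ) : ResidueField A) ≠ 0 ∧
      ∀ (V : ValuationSubring L) (hV : EtRam.Dominates A (algebraMap A L) V),
        letI : Algebra A V := (RingHom.codRestrict (algebraMap A L) V hV.1).toAlgebra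
        Ideal.ramificationIdx' (maximalIdeal A) (maximalIdeal V) ∣ E := by
  obtain ⟨p, hp⟩ := CharP.exists (ResidueField A)
  have hfact : ∀ (V : ValuationSubring L) (hV : EtRam.Dominates A (algebraMap A L) V),
      letI : Algebra A V := (RingHom.codRestrict (algebraMap A L) V hV.1).toAlgebra
      Ideal.ramificationIdx' (maximalIdeal A) (maximalIdeal V) ∣ (Module.finrank K L).factorial := by
    intro V hV
    obtain ⟨h0, hle⟩ := ramIdx_bound (K := K) V hV
    exact Nat.dvd_factorial (Nat.pos_of_ne_zero h0) hle
  rcases CharP.char_is_prime_or_zero (ResidueField A) p with hpp | hp0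
  · -- positive characteristic
    obtain ⟨q, hq, hqp⟩ : ∃ q : ℕ, q.Prime ∧ q ≠ p := by
      by_cases h2 : p = 2
      · exact ⟨3, Nat.prime_three, by omega⟩
      · exact ⟨2, Nat.prime_two, fun h => h2 h.symm⟩
    have hN0 : (Module.finrank K L).factorial ≠ 0 := Nat.factorial_ne_zero _
    have hE0 : ordCompl[p] (Module.finrank K L).factorial ≠ 0 :=
      (Nat.ordCompl_pos p hN0).ne'
    refine ⟨q * ordCompl[p] (Module.finrank K L).factorial, ?_, ?_, ?_⟩
    · calc 2 ≤ q := hq.two_le
        _ ≤ q * ordCompl[p] (Module.finrank K L).factorial :=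
          Nat.le_mul_of_pos_right _ (Nat.pos_of_ne_zero hE0)
    · rw [Ne, CharP.cast_eq_zero_iff (ResidueField A) p, hpp.dvd_mul]
      rintro (h1 | h1)
      · exact hqp ((Nat.prime_dvd_prime_iff_eq hpp hq).mp h1).symm
      · exact Nat.not_dvd_ordCompl hpp hN0 h1
    · intro V hV
      letI : Algebra A V := (RingHom.codRestrict (algebraMap A L) V hV.1).toAlgebra
      haveI : IsLocalHom (algebraMap A V) := CompDvr.isLocalHom_codRestrict _ _ hV
      have h1 := hfact V hV
      have h2 : ¬ p ∣ Ideal.ramificationIdx' (maximalIdeal A) (maximalIdeal V) :=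
        (h V hV).2 p hpp hp
      apply Dvd.dvd.mul_left
      rw [← Nat.ordProj_mul_ordCompl_eq_self (Module.finrank K L).factorial p] at h1
      refine Nat.Coprime.dvd_of_dvd_mul_left ?_ h1
      apply Nat.Coprime.pow_right
      exact (Nat.Coprime.symm ((Nat.Prime.coprime_iff_not_dvd hpp).mpr h2))
  · subst hp0
    haveI := CharP.charP_to_charZero (ResidueField A)
    refine ⟨2 * (Module.finrank K L).factorial, ?_, ?_, ?_⟩
    · have := Nat.factorial_pos (Module.finrank K L)
      omega
    · exact Nat.cast_ne_zero.mpr (by have := Nat.factorial_pos (Module.finrank K L); omega)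
    · intro V hV
      exact Dvd.dvd.mul_left (hfact V hV) 2

theorem main (π : A) (hπ : maximalIdeal A = Ideal.span {π})
    (h : EtRam.IsTamelyRamified A (algebraMap A L)) :
    ∃ e₀ : ℕ, 0 < e₀ ∧ (e₀ : ResidueField A) ≠ 0 ∧
      ∀ d : ℕ, 0 < d → (d : ResidueField A) ≠ 0 →
        ∃ (L' : Type u) (_ : Field L') (_ : Algebra K L')
          (_ : Algebra (AdjoinRoot (X ^ (d * e₀) - C π : A[X])) L') (_ : L →ₐ[K] L'),
          FiniteDimensional K L' ∧ Algebra.IsSeparable K L' ∧
          (algebraMap (AdjoinRoot (X ^ (d * e₀) - C π : A[X])) L').comp (AdjoinRoot.of (X ^ (d * e₀) - C π)) =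
            (algebraMap K L').comp (algebraMap A K) ∧
          ∀ [IsLocalRing (AdjoinRoot (X ^ (d * e₀) - C π : A[X]))],
            EtRam.IsUnramifiedExt (AdjoinRoot (X ^ (d * e₀) - C π : A[X]))
              (algebraMap (AdjoinRoot (X ^ (d * e₀) - C π : A[X])) L') := by
  have hπirr : Irreducible π := (IsDiscreteValuationRing.irreducible_iff_uniformizer π).mpr hπ
  obtain ⟨E, hE2, hEA, hEdvd⟩ := exists_E (K := K) h
  refine ⟨E, by omega, hEA, ?_⟩
  intro d hd hdA
  have hn2 : 2 ≤ d * E := by nlinarith
  have hnA : ((d * E : ℕ) : ResidueField A) ≠ 0 := by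
    rw [Nat.cast_mul]; exact mul_ne_zero hdA hEA
  have hinjAL : Function.Injective (algebraMap A L) := by
    rw [IsScalarTower.algebraMap_eq A K L]
    exact (algebraMap K L).injective.comp (IsFractionRing.injective A K)
  have hnL : ((d * E : ℕ) : L) ≠ 0 := by
    have hu : IsUnit ((d * E : ℕ) : A) := by
      by_contra hnu
      have hm : ((d * E : ℕ) : A) ∈ maximalIdeal A := (IsLocalRing.mem_maximalIdeal _).mpr hnu
      rw [← residue_eq_zero_iff, map_natCast] at hm
      exact hnA hm
    have h1 := hu.map (algebraMap A L)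
    rw [map_natCast] at h1
    exact h1.ne_zero
  have hc0 : algebraMap A L π ≠ 0 := by
    intro h0
    exact hπirr.ne_zero (hinjAL (by rw [h0, map_zero]))
  obtain ⟨L', instF, instA, hfd, hsep, z, hz, hgenz⟩ :=
    RootExt.exists_root_ext L (algebraMap A L π) hc0 (d * E) hnL
  letI := instF
  letI := instA
  haveI := hfd
  haveI := hsep
  letI : Algebra K L' := ((algebraMap L L').comp (algebraMap K L)).toAlgebra
  haveI : IsScalarTower K L L' := IsScalarTower.of_algebraMap_eq (fun _ => rfl)
  have hroot : (X ^ (d * E) - C π : A[X]).eval₂ ((algebraMap L L').comp (algebraMap A L)) z = 0 := by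
    rw [eval₂_sub, eval₂_pow, eval₂_X, eval₂_C, hz]
    exact sub_self _
  letI : Algebra (AdjoinRoot (X ^ (d * E) - C π : A[X])) L' :=
    (AdjoinRoot.lift ((algebraMap L L').comp (algebraMap A L)) z hroot).toAlgebra
  have hof : ∀ a : A, algebraMap (AdjoinRoot (X ^ (d * E) - C π : A[X])) L' (AdjoinRoot.of _ a) =
      algebraMap L L' (algebraMap A L a) := by
    intro a
    show AdjoinRoot.lift ((algebraMap L L').comp (algebraMap A L)) z hroot (AdjoinRoot.of _ a) = _
    rw [AdjoinRoot.lift_of]; rfl
  have hrt : algebraMap (AdjoinRoot (X ^ (d * E) - C π : A[X])) L' (AdjoinRoot.root _) = z := by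
    show AdjoinRoot.lift ((algebraMap L L').comp (algebraMap A L)) z hroot (AdjoinRoot.root _) = _
    rw [AdjoinRoot.lift_root]
  refine ⟨L', instF, inferInstance, inferInstance, IsScalarTower.toAlgHom K L L',
    FiniteDimensional.trans K L L', Algebra.IsSeparable.trans K L L', ?_, ?_⟩
  · ext a
    rw [RingHom.comp_apply, RingHom.comp_apply, hof, IsScalarTower.algebraMap_apply A K L]
    rfl
  · intro inst
    apply RootExt.root_unramified (K := K) π hπirr (d * E) hn2 L' hof ?_ h hnA
    · intro V hV
      exact (hEdvd V hV).mul_left d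
    · rw [hrt]; exact hgenz

end Main



open Polynomial IsLocalRing in
/-- Let `K` be the fraction field of a discrete valuation ring `A`, let `π` be a uniformizer of `A`, and
let `L` be a finite separable extension of `K` which is tamely ramified with respect to `A`. Then
there is `e₀ ≥ 1` invertible in the residue field of `A` such that for each `d ≥ 1` that is also
invertible in the residue field, setting `e = d e₀` and `A' = A[z]/(z^e - π)`, there is a finite
separable extension `L'` of `K` into which `L` embeds over `K`, carrying an `A'`-algebra structure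
extending `A → K → L'`, such that `L'` is unramified with respect to `A'`. (The local-ring instance
on `A'`, which holds, is quantified as a hypothesis.) -/
theorem result
    {A K L : Type u} [CommRing A] [IsDomain A]
    [IsDiscreteValuationRing A] [Field K] [Algebra A K] [IsFractionRing A K] [Field L] [Algebra K L]
    [Algebra A L] [IsScalarTower A K L] [FiniteDimensional K L] [Algebra.IsSeparable K L]
    (π : A) (hπ : maximalIdeal A = Ideal.span {π}) (h : EtRam.IsTamelyRamified A (algebraMap A L)) :
    ∃ e₀ : ℕ, 0 < e₀ ∧ (e₀ : ResidueField A) ≠ 0 ∧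
      ∀ d : ℕ, 0 < d → (d : ResidueField A) ≠ 0 →
        ∃ (L' : Type u) (_ : Field L') (_ : Algebra K L')
          (_ : Algebra (AdjoinRoot (X ^ (d * e₀) - C π : A[X])) L') (_ : L →ₐ[K] L'),
          FiniteDimensional K L' ∧ Algebra.IsSeparable K L' ∧
          (algebraMap (AdjoinRoot (X ^ (d * e₀) - C π : A[X])) L').comp (AdjoinRoot.of (X ^ (d * e₀) - C π)) =
            (algebraMap K L').comp (algebraMap A K) ∧
          ∀ [IsLocalRing (AdjoinRoot (X ^ (d * e₀) - C π : A[X]))],
            EtRam.IsUnramifiedExt (AdjoinRoot (X ^ (d * e₀) - C π : A[X]))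
              (algebraMap (AdjoinRoot (X ^ (d * e₀) - C π : A[X])) L') := by
  exact main π hπ h

end Groth.Agent.S9329
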