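import Groth.Statements.S9328
import Mathlib
import Groth.Agent.Lib.Helper10.RootExt3
import Groth.Agent.Lib.Helper10.CompDvr12
import Groth.Agent.Lib.Helper12.TameTower
import Groth.Agent.S9329

set_option autoImplicit false
universe u
open EtRam

namespace Groth.Agent.S9328

set_option linter.style.haveILetI false
set_option linter.unusedSectionVars false

open Polynomial IsLocalRing Groth.Agent.Lib.helper10

section Main

variable {A K L : Type u} [CommRing A] [IsDomain A]
    [IsDiscreteValuationRing A] [Field K] [Algebra A K] [IsFractionRing A K] [Field L] [Algebra K L]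
    [Algebra A L] [IsScalarTower A K L] [FiniteDimensional K L] [Algebra.IsSeparable K L]

theorem backward (π : A) (hπ : maximalIdeal A = Ideal.span {π}) (e : ℕ) (he : 0 < e)
    (heA : (e : ResidueField A) ≠ 0)
    (L' : Type u) [Field L'] [Algebra K L'] [Algebra (AdjoinRoot (X ^ e - C π : A[X])) L']
    (φ : L →ₐ[K] L')
    (hcomp : (algebraMap (AdjoinRoot (X ^ e - C π : A[X])) L').comp (AdjoinRoot.of (X ^ e - C π)) =
      (algebraMap K L').comp (algebraMap A K))
    (hunr : ∀ [IsLocalRing (AdjoinRoot (X ^ e - C π : A[X]))],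
      EtRam.IsUnramifiedExt (AdjoinRoot (X ^ e - C π : A[X]))
        (algebraMap (AdjoinRoot (X ^ e - C π : A[X])) L')) :
    EtRam.IsTamelyRamified A (algebraMap A L) := by
  have hπirr : Irreducible π := (IsDiscreteValuationRing.irreducible_iff_uniformizer π).mpr hπ
  have he0 : e ≠ 0 := he.ne'
  haveI hloc : IsLocalRing (AdjoinRoot (X ^ e - C π : A[X])) := RootExt.isLocalRing_B' π hπirr e he0
  have hmaxA' : maximalIdeal (AdjoinRoot (X ^ e - C π : A[X])) =
      Ideal.span {AdjoinRoot.root (X ^ e - C π : A[X])} := RootExt.maximalIdeal_B' π hπirr e he0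
  have hunr' := @hunr hloc
  have hmemA' : ∀ a ∈ maximalIdeal A,
      algebraMap A (AdjoinRoot (X ^ e - C π : A[X])) a ∈
        maximalIdeal (AdjoinRoot (X ^ e - C π : A[X])) := by
    intro a ha
    rw [hπ, Ideal.mem_span_singleton] at ha
    obtain ⟨a', rfl⟩ := ha
    rw [hmaxA', Ideal.mem_span_singleton, map_mul, AdjoinRoot.algebraMap_eq,
      ← Groth.Agent.S1987.root_pow π e]
    exact Dvd.dvd.mul_right (dvd_pow_self _ he0) _
  haveI : IsLocalHom (algebraMap A (AdjoinRoot (X ^ e - C π : A[X]))) := by
    constructor
    intro a ha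
    by_contra hna
    exact (IsLocalRing.mem_maximalIdeal _).mp
      (hmemA' a ((IsLocalRing.mem_maximalIdeal a).mpr hna)) ha
  have hsurjA' : Function.Surjective (algebraMap (ResidueField A)
      (ResidueField (AdjoinRoot (X ^ e - C π : A[X])))) := by
    intro r
    obtain ⟨b, rfl⟩ := residue_surjective r
    obtain ⟨a, c, rfl⟩ := Groth.Agent.S1987.decomp π e b
    refine ⟨residue A a, ?_⟩
    rw [IsLocalRing.ResidueField.algebraMap_residue, ← sub_eq_zero, ← map_sub, residue_eq_zero_iff,
      hmaxA', Ideal.mem_span_singleton, AdjoinRoot.algebraMap_eq]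
    exact ⟨-c, by ring⟩
  haveI hsepQ : Algebra.IsSeparable (ResidueField A)
      (ResidueField (AdjoinRoot (X ^ e - C π : A[X]))) :=
    ⟨fun r => by
      obtain ⟨r', rfl⟩ := hsurjA' r
      exact isSeparable_algebraMap r'⟩
  have hof : ∀ a : A, algebraMap (AdjoinRoot (X ^ e - C π : A[X])) L' (AdjoinRoot.of _ a) =
      algebraMap K L' (algebraMap A K a) := fun a => RingHom.congr_fun hcomp a
  have hinjAL' : Function.Injective ((algebraMap K L').comp (algebraMap A K)) :=
    (algebraMap K L').injective.comp (IsFractionRing.injective A K)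
  -- step 1: L' is tame over A
  have hL' : EtRam.IsTamelyRamified A ((algebraMap K L').comp (algebraMap A K)) := by
    intro W hW
    letI : Algebra A W :=
      (RingHom.codRestrict ((algebraMap K L').comp (algebraMap A K)) W hW.1).toAlgebra
    intro hlocAW
    obtain ⟨z, hz⟩ : ∃ z : L', z = algebraMap (AdjoinRoot (X ^ e - C π : A[X])) L'
      (AdjoinRoot.root _) := ⟨_, rfl⟩
    have hze : z ^ e = algebraMap K L' (algebraMap A K π) := by
      rw [hz, ← map_pow, Groth.Agent.S1987.root_pow, hof]
    have hπm : π ∈ maximalIdeal A := by rw [hπ]; exact Ideal.mem_span_singleton_self π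
    have hzv : W.valuation z < 1 := by
      have h1 := hW.2 π hπm
      rw [RingHom.comp_apply, ← hze, map_pow] at h1
      by_contra hge
      push Not at hge
      exact absurd h1 (not_lt.mpr (one_le_pow₀ hge))
    have hzW : z ∈ W := (W.valuation_le_one_iff _).mp hzv.le
    have himg : ∀ b : AdjoinRoot (X ^ e - C π : A[X]),
        algebraMap (AdjoinRoot (X ^ e - C π : A[X])) L' b ∈ W := by
      intro b
      induction b using AdjoinRoot.induction_on with
      | ih g =>
        induction g using Polynomial.induction_on' with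
        | add p q hp hq =>
          rw [map_add, map_add]
          exact W.add_mem _ _ hp hq
        | monomial k a =>
          rw [← C_mul_X_pow_eq_monomial, map_mul, map_pow, AdjoinRoot.mk_C, AdjoinRoot.mk_X,
            map_mul, map_pow, hof, ← hz]
          exact W.mul_mem _ _ (hW.1 a) (W.pow_mem hzW k)
    have hdomA' : EtRam.Dominates (AdjoinRoot (X ^ e - C π : A[X]))
        (algebraMap (AdjoinRoot (X ^ e - C π : A[X])) L') W := by
      refine ⟨himg, fun b hb => ?_⟩
      rw [hmaxA', Ideal.mem_span_singleton] at hb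
      obtain ⟨c, rfl⟩ := hb
      rw [map_mul, map_mul, ← hz]
      calc W.valuation z * W.valuation (algebraMap (AdjoinRoot (X ^ e - C π : A[X])) L' c)
          ≤ W.valuation z * 1 :=
            mul_le_mul' le_rfl ((W.valuation_le_one_iff _).mpr (himg c))
        _ = W.valuation z := mul_one _
        _ < 1 := hzv
    letI : Algebra (AdjoinRoot (X ^ e - C π : A[X])) W :=
      (RingHom.codRestrict (algebraMap (AdjoinRoot (X ^ e - C π : A[X])) L') W hdomA'.1).toAlgebra
    haveI : IsLocalHom (algebraMap (AdjoinRoot (X ^ e - C π : A[X])) W) :=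
      CompDvr.isLocalHom_codRestrict _ _ hdomA'
    obtain ⟨hwu, hsepW⟩ := hunr' W hdomA'
    haveI := hsepW
    haveI : IsScalarTower A (AdjoinRoot (X ^ e - C π : A[X])) W :=
      IsScalarTower.of_algebraMap_eq (fun a => Subtype.ext (by
        show algebraMap K L' (algebraMap A K a) =
          algebraMap (AdjoinRoot (X ^ e - C π : A[X])) L'
            (algebraMap A (AdjoinRoot (X ^ e - C π : A[X])) a)
        rw [AdjoinRoot.algebraMap_eq, hof]))
    constructor
    · exact Algebra.IsSeparable.trans (ResidueField A)
        (ResidueField (AdjoinRoot (X ^ e - C π : A[X]))) (ResidueField W)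
    · intro p hpp hpA
      have hmaxW : maximalIdeal W = Ideal.span {(⟨z, hzW⟩ : W)} := by
        unfold EtRam.IsWeaklyUnramified at hwu
        rw [← hwu, hmaxA', Ideal.map_span, Set.image_singleton]
        congr 2
        exact Subtype.ext hz.symm
      have hz0 : z ≠ 0 := by
        intro h0
        rw [h0, zero_pow he0] at hze
        exact hπirr.ne_zero (hinjAL' (by rw [map_zero]; exact hze.symm))
      have hzW0 : (⟨z, hzW⟩ : W) ≠ 0 := fun h0 => hz0 (congrArg Subtype.val h0)
      have hram : Ideal.ramificationIdx' (maximalIdeal A) (maximalIdeal W) = e := by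
        refine CompDvr.ramificationIdx'_eq hπ hmaxW hzW0 1 e ?_
        apply Subtype.ext
        show algebraMap K L' (algebraMap A K π) = ((1 : Wˣ) : W) * z ^ e
        rw [Units.val_one]
        show _ = (1 : L') * z ^ e
        rw [one_mul, hze]
      rw [hram]
      intro hpe
      apply heA
      rw [CharP.cast_eq_zero_iff (ResidueField A) p]
      exact hpe
  -- step 2: L ⊆ L'
  have hcomp2 : (φ : L →+* L').comp (algebraMap A L) =
      (algebraMap K L').comp (algebraMap A K) := by
    ext a
    rw [RingHom.comp_apply, RingHom.comp_apply, IsScalarTower.algebraMap_apply A K L]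
    exact φ.commutes _
  rw [← hcomp2] at hL'
  exact Groth.Agent.Lib.helper12.TameTower.tame_bot_concrete hπ (algebraMap A L) (φ : L →+* L') hL'

theorem main (π : A) (hπ : maximalIdeal A = Ideal.span {π}) :
    EtRam.IsTamelyRamified A (algebraMap A L) ↔
      ∃ e : ℕ, 0 < e ∧ (e : ResidueField A) ≠ 0 ∧
        ∃ (L' : Type u) (_ : Field L') (_ : Algebra K L')
          (_ : Algebra (AdjoinRoot (X ^ e - C π : A[X])) L') (_ : L →ₐ[K] L'),
          FiniteDimensional K L' ∧ Algebra.IsSeparable K L' ∧
          (algebraMap (AdjoinRoot (X ^ e - C π : A[X])) L').comp (AdjoinRoot.of (X ^ e - C π)) =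
            (algebraMap K L').comp (algebraMap A K) ∧
          ∀ [IsLocalRing (AdjoinRoot (X ^ e - C π : A[X]))],
            EtRam.IsUnramifiedExt (AdjoinRoot (X ^ e - C π : A[X]))
              (algebraMap (AdjoinRoot (X ^ e - C π : A[X])) L') := by
  constructor
  · intro h
    obtain ⟨e₀, he₀, he₀A, H⟩ := Groth.Agent.S9329.main (K := K) π hπ h
    obtain ⟨L', i1, i2, i3, φ, h1, h2, h3, h4⟩ := H 1 one_pos (by rw [Nat.cast_one]; exact one_ne_zero)
    exact ⟨1 * e₀, by omega, by rw [one_mul]; exact he₀A, L', i1, i2, i3, φ, h1, h2, h3, h4⟩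
  · rintro ⟨e, he, heA, L', i1, i2, i3, φ, h1, h2, h3, h4⟩
    exact backward (K := K) π hπ e he heA L' φ h3 h4

end Main



open Polynomial IsLocalRing in
/-- Let `K` be the fraction field of a discrete valuation ring `A`, let `π` be a uniformizer of `A`, and
let `L` be a finite separable extension of `K`. For `e ≥ 1` write `A' = A[z]/(z^e - π)`, a discrete
valuation ring whose fraction field is `K' = K[π^{1/e}]`. Then `L` is tamely ramified with respect
to `A` if and only if there exist `e ≥ 1` invertible in the residue field of `A` and a finite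
separable extension `L'` of `K` into which `L` embeds over `K`, carrying an `A'`-algebra structure
extending `A → K → L'` (so `K' ⊆ L'`), such that `L'` is unramified with respect to `A'`. (The
local-ring instance on `A'`, which holds, is quantified as a hypothesis.) -/
theorem result {A K L : Type u} [CommRing A] [IsDomain A]
    [IsDiscreteValuationRing A] [Field K] [Algebra A K] [IsFractionRing A K] [Field L] [Algebra K L]
    [Algebra A L] [IsScalarTower A K L] [FiniteDimensional K L] [Algebra.IsSeparable K L]
    (π : A) (hπ : maximalIdeal A = Ideal.span {π}) :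
    EtRam.IsTamelyRamified A (algebraMap A L) ↔
      ∃ e : ℕ, 0 < e ∧ (e : ResidueField A) ≠ 0 ∧
        ∃ (L' : Type u) (_ : Field L') (_ : Algebra K L')
          (_ : Algebra (AdjoinRoot (X ^ e - C π : A[X])) L') (_ : L →ₐ[K] L'),
          FiniteDimensional K L' ∧ Algebra.IsSeparable K L' ∧
          (algebraMap (AdjoinRoot (X ^ e - C π : A[X])) L').comp (AdjoinRoot.of (X ^ e - C π)) =
            (algebraMap K L').comp (algebraMap A K) ∧
          ∀ [IsLocalRing (AdjoinRoot (X ^ e - C π : A[X]))],
            EtRam.IsUnramifiedExt (AdjoinRoot (X ^ e - C π : A[X]))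
              (algebraMap (AdjoinRoot (X ^ e - C π : A[X])) L') := by
  exact main π hπ

end Groth.Agent.S9328
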