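import Groth.Statements.S9331
import Mathlib
import Groth.Agent.Lib.Helper3.FibreField
import Groth.Agent.Lib.Helper3.FibreChev
import Groth.Agent.Lib.Helper3.DimIneqSch

set_option autoImplicit false
universe u
open QFin

namespace Groth.Agent.S9331
open Groth.Agent.Lib.helper3.DimIneq Groth.Agent.Lib.helper3.FTField Groth.Agent.Lib.helper3.FibreField Groth.Agent.Lib.helper3.FibreParam AlgebraicGeometry

open AlgebraicGeometry CategoryTheory in
/-- Let f : X → S be a morphism of schemes, x ∈ X, s = f x. If κ(x) is algebraic over κ(s) (through the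
residue field map of f at x), then x is a closed point of the fibre X_s, and if in addition s is
closed in S then x is closed in X. -/
theorem result {X S : Scheme.{u}} (f : X ⟶ S) (x : X)
    (halg : @Algebra.IsAlgebraic (S.residueField (f.base x)) (X.residueField x) _ _ (f.residueFieldMap x).hom.toAlgebra) :
    IsClosed ({f.asFiber x} : Set ↑(f.fiber (f.base x))) ∧
      (IsClosed ({f.base x} : Set ↑S) → IsClosed ({x} : Set ↑X)) := by
  classical
  have hclF : IsClosed ({f.asFiber x} : Set ↑(f.fiber (f.base x))) := by
    letI : (f.fiber (f.base x)).Over (Spec (CommRingCat.of (S.residueField (f.base x)))) :=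
      fiberOver f (f.base x)
    have h0 : @Algebra.trdeg (S.residueField (f.base x)) ((f.fiber (f.base x)).residueField (f.asFiber x)) _ _
        (Curv2.resAlgebra (S.residueField (f.base x)) (f.fiber (f.base x)) (f.asFiber x)) = 0 := by
      change td (Curv2.resMap (S.residueField (f.base x)) (f.fiber (f.base x)) (f.asFiber x)) = 0
      rw [td_resMap_fiber f (f.base x) (f.asFiber x),
        td_residueFieldMap_congr f (f.fiberι_asFiber x)]
      unfold td
      letI := (f.residueFieldMap x).hom.toAlgebra
      exact _root_.trdeg_eq_zero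
    apply isClosed_singleton_of_forall_specializes
    intro y hy
    obtain ⟨U, hU, hyU, -⟩ := exists_isAffineOpen_mem_and_subset (x := y) (U := ⊤) trivial
    have hxU : f.asFiber x ∈ U := hy.mem_open U.isOpen hyU
    have hmax := isMaximal_of_trdeg_residueField_eq_zero (S.residueField (f.base x))
      (f.fiber (f.base x)) hU (f.asFiber x) hxU h0
    have hle := (specializes_iff_primeIdealOf_le hU _ _ hxU hyU).mp hy
    have heq := hmax.eq_of_le (hU.primeIdealOf ⟨y, hyU⟩).isPrime.ne_top hle
    have h2 : hU.primeIdealOf ⟨f.asFiber x, hxU⟩ = hU.primeIdealOf ⟨y, hyU⟩ :=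
      PrimeSpectrum.ext heq
    have h3 := congrArg hU.fromSpec h2
    rw [hU.fromSpec_primeIdealOf, hU.fromSpec_primeIdealOf] at h3
    exact h3.symm
  refine ⟨hclF, fun hs => ?_⟩
  apply isClosed_singleton_of_forall_specializes
  intro y hy
  have hfy : f.base y = f.base x := by
    have h1 : f.base x ⤳ f.base y := hy.map f.continuous
    have h2 : f.base y ∈ ({f.base x} : Set S) := by
      have := h1.mem_closed hs (Set.mem_singleton _)
      exact this
    exact h2
  have hy' : y ∈ Set.range (f.fiberι (f.base x)) := by
    rw [f.range_fiberι]; exact hfy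
  obtain ⟨yF, rfl⟩ := hy'
  have hx' : f.fiberι (f.base x) (f.asFiber x) = x := f.fiberι_asFiber x
  have hy2 : f.fiberι (f.base x) (f.asFiber x) ⤳ f.fiberι (f.base x) yF := by
    rw [hx']; exact hy
  have h4 : f.asFiber x ⤳ yF := (f.fiberι (f.base x)).isEmbedding.isInducing.specializes_iff.mp hy2
  have h5 : yF ∈ ({f.asFiber x} : Set _) := h4.mem_closed hclF (Set.mem_singleton _)
  rw [show yF = f.asFiber x from h5]
  exact hx'

end Groth.Agent.S9331
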