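import Groth.Statements.S9332
import Mathlib.AlgebraicGeometry.Morphisms.Finite
import Mathlib.AlgebraicGeometry.Fiber

set_option autoImplicit false
universe u
open QFin

namespace Groth.Agent.S9332

open AlgebraicGeometry CategoryTheory in
/-- Let f : X → S be locally of finite type and x ∈ X. Then x is closed in its fibre X_{f x} if and only
if κ(x) is a finite extension of κ(f x) (via the residue field map of f at x). -/
theorem result {X S : Scheme.{u}} (f : X ⟶ S) [LocallyOfFiniteType f] (x : X) :
    IsClosed ({f.asFiber x} : Set ↑(f.fiber (f.base x))) ↔ (f.residueFieldMap x).hom.Finite := by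
  have hp : LocallyOfFiniteType (f.fiberToSpecResidueField (f x)) :=
    MorphismProperty.pullback_snd _ _ inferInstance
  have hcomp : f.asFiberHom x ≫ f.fiberToSpecResidueField (f x) =
      Spec.map (f.residueFieldMap x) := f.asFiberHom_fiberToSpecResidueField x
  rw [← IsFinite.SpecMap_iff]
  constructor
  · intro hcl
    have hcl' : IsClosed (Set.range (f.asFiberHom x)) := by
      rw [f.range_asFiberHom x]; exact hcl
    have : IsClosedImmersion (f.asFiberHom x) := .of_isPreimmersion _ hcl'
    have : LocallyOfFiniteType (Spec.map (f.residueFieldMap x)) := by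
      rw [← hcomp]; infer_instance
    exact isFinite_iff_locallyOfFiniteType_of_jacobsonSpace.mpr this
  · intro hfin
    have h1 : LocallyOfFiniteType (f.asFiberHom x ≫ f.fiberToSpecResidueField (f x)) := by
      rw [hcomp]; infer_instance
    have h2 : LocallyOfFiniteType (f.asFiberHom x) :=
      locallyOfFiniteType_of_comp _ (f.fiberToSpecResidueField (f x))
    have h3 := (f.asFiberHom x).closePoints_subset_preimage_closedPoints
      (IsLocalRing.isClosed_singleton_closedPoint (X.residueField x))
    have h4 : IsClosed {f.asFiberHom x (IsLocalRing.closedPoint (X.residueField x))} := h3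
    rwa [f.asFiberHom_apply] at h4

end Groth.Agent.S9332
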