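import Groth.Statements.S9333
import Mathlib
-- import your own Groth.Agent.* helpers here

set_option autoImplicit false
universe u
open QFin

namespace Groth.Agent.S9333

section helpers
open AlgebraicGeometry CategoryTheory Limits

/-- heart: given a cartesian square of schemes `π : Z' → Z` over `q : T' → T` with `T, T'` spectra of
fields and `Z → T` locally of finite type; closed points pull back to closed points. -/
theorem closed_of_isPullback {Z Z' T T' : Scheme.{u}} [JacobsonSpace T] [IsLocallyArtinian T']
    (π : Z' ⟶ Z) (a' : Z' ⟶ T') (a : Z ⟶ T) (q : T' ⟶ T)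
    (h : IsPullback π a' a q) [LocallyOfFiniteType a] (z' : Z') (hz : IsClosed {π z'}) :
    IsClosed {z'} := by
  set z := π z' with hzdef
  have hci : IsClosedImmersion (Z.fromSpecResidueField z) :=
    isClosed_singleton_iff_isClosedImmersion.mp hz
  let W := pullback (Z.fromSpecResidueField z) π
  let p₁ : W ⟶ Spec (Z.residueField z) := pullback.fst _ _
  let p₂ : W ⟶ Z' := pullback.snd _ _
  have hW : IsPullback p₁ p₂ (Z.fromSpecResidueField z) π := IsPullback.of_hasPullback _ _
  have hbig := hW.paste_vert h
  have hlft : LocallyOfFiniteType (Z.fromSpecResidueField z ≫ a) := inferInstance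
  have hfin : IsFinite (Z.fromSpecResidueField z ≫ a) :=
    isFinite_iff_locallyOfFiniteType_of_jacobsonSpace.mpr hlft
  have hfin' : IsFinite (p₂ ≫ a') := MorphismProperty.of_isPullback (P := @IsFinite) hbig hfin
  have hLA : IsLocallyArtinian W := IsLocallyArtinian.of_locallyQuasiFinite (p₂ ≫ a')
  have hp₂ : IsClosedImmersion p₂ := MorphismProperty.pullback_snd _ _ hci
  obtain ⟨w, hw⟩ : ∃ w : W, p₂ w = z' := by
    have : z' ∈ Set.range p₂ := by
      rw [Scheme.Pullback.range_snd, Scheme.range_fromSpecResidueField]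
      rfl
    exact this
  have := p₂.isClosedEmbedding.isClosedMap _ (isClosed_discrete {w})
  rwa [Set.image_singleton, hw] at this


theorem isClosed_singleton_fiber_iff {X Y : Scheme.{u}} (f : X ⟶ Y) (s : Y) (t : f.fiber s) :
    IsClosed ({t} : Set (f.fiber s)) ↔
      ∀ y : X, f.fiberι s t ⤳ y → f y = s → y = f.fiberι s t := by
  have hemb := (f.fiberι s).isEmbedding
  constructor
  · intro hcl y hy hys
    have : y ∈ Set.range (f.fiberι s) := by rw [f.range_fiberι]; exact hys
    obtain ⟨t', rfl⟩ := this
    have h1 : t ⤳ t' := hemb.toIsInducing.specializes_iff.mp hy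
    have h2 : t' ∈ closure {t} := h1.mem_closure
    rw [hcl.closure_eq] at h2
    rw [Set.mem_singleton_iff.mp h2]
  · intro H
    refine isClosed_of_closure_subset fun t' ht' => ?_
    have h1 : t ⤳ t' := specializes_iff_mem_closure.mpr ht'
    have h2 : f.fiberι s t ⤳ f.fiberι s t' := h1.map (f.fiberι s).continuous
    have h3 : f (f.fiberι s t') = s := by
      have : f.fiberι s t' ∈ Set.range (f.fiberι s) := ⟨t', rfl⟩
      rw [f.range_fiberι] at this
      exact this
    exact hemb.injective (H _ h2 h3)

theorem main {X S X' S' : Scheme.{u}} (f : X ⟶ S) [LocallyOfFiniteType f] (g : S' ⟶ S)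
    (g' : X' ⟶ X) (f' : X' ⟶ S') (hsq : IsPullback g' f' f g) (x' : X')
    (hx : IsClosed ({f.asFiber (g'.base x')} : Set ↑(f.fiber (f.base (g'.base x'))))) :
    IsClosed ({f'.asFiber x'} : Set ↑(f'.fiber (f'.base x'))) := by
  have hpb := isPullback_fiberToSpecResidueField_of_isPullback hsq (f' x')
  have hlft : LocallyOfFiniteType (f.fiberToSpecResidueField (g (f' x'))) :=
    MorphismProperty.pullback_snd _ _ inferInstance
  refine @closed_of_isPullback _ _ _ _ inferInstance inferInstance _ _ _ _ hpb
    (MorphismProperty.pullback_snd (P := @LocallyOfFiniteType) _ _ inferInstance) (f'.asFiber x') ?_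
  refine (isClosed_singleton_fiber_iff f (g (f' x')) _).mpr ?_
  rw [isClosed_singleton_fiber_iff] at hx
  simp only [Scheme.Hom.fiberι_asFiber] at hx
  have hw : f (g' x') = g (f' x') := by
    rw [← Scheme.Hom.comp_apply, hsq.w, Scheme.Hom.comp_apply]
  have key : f.fiberι (g (f' x')) ((pullback.map f' (S'.fromSpecResidueField (f' x')) f
      (S.fromSpecResidueField (g (f' x'))) g' (Spec.map (g.residueFieldMap (f' x'))) g hsq.w.symm
      (by simp)) (f'.asFiber x')) = g' x' := by
    have h1 : pullback.map f' (S'.fromSpecResidueField (f' x')) f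
      (S.fromSpecResidueField (g (f' x'))) g' (Spec.map (g.residueFieldMap (f' x'))) g hsq.w.symm
      (by simp) ≫ f.fiberι (g (f' x')) = f'.fiberι (f' x') ≫ g' := pullback.lift_fst _ _ _
    have h2 := congrArg (fun φ : f'.fiber (f' x') ⟶ X => φ (f'.asFiber x')) h1
    simp only [Scheme.Hom.comp_apply, Scheme.Hom.fiberι_asFiber] at h2
    exact h2
  rw [key]
  intro y hy hys
  exact hx y hy (hys.trans hw.symm)
end helpers

open AlgebraicGeometry CategoryTheory in
/-- Let f : X → S be locally of finite type, g : S' → S any morphism and X' = X ×_S S' with projections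
g' : X' → X and f' : X' → S'. If x' ∈ X' maps to x ∈ X and x is closed in the fibre X_{f x}, then x'
is closed in the fibre X'_{f' x'}. -/
theorem result {X S X' S' : Scheme.{u}} (f : X ⟶ S) [LocallyOfFiniteType f] (g : S' ⟶ S)
    (g' : X' ⟶ X) (f' : X' ⟶ S') (hsq : IsPullback g' f' f g) (x' : X')
    (hx : IsClosed ({f.asFiber (g'.base x')} : Set ↑(f.fiber (f.base (g'.base x'))))) :
    IsClosed ({f'.asFiber x'} : Set ↑(f'.fiber (f'.base x'))) := by
  exact main f g g' f' hsq x' hx

end Groth.Agent.S9333
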