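import Groth.Statements.S9334
import Mathlib

set_option autoImplicit false
universe u
open QFin

namespace Groth.Agent.S9334

open TopologicalSpace in
/-- In a Noetherian quasi-sober space, a closed point without proper generizations is open. -/
theorem isOpen_singleton_of_noetherianSpace {W : Type*} [TopologicalSpace W] [NoetherianSpace W]
    [QuasiSober W] (z : W) (hc : IsClosed ({z} : Set W)) (hg : ∀ z' : W, z' ⤳ z → z' = z) :
    IsOpen ({z} : Set W) := by
  set 𝒞 : Set (Set W) := {C | C ∈ irreducibleComponents W ∧ z ∉ C} with h𝒞
  have hfin : 𝒞.Finite := NoetherianSpace.finite_irreducibleComponents.subset fun C hC => hC.1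
  have hclosed : IsClosed (⋃₀ 𝒞) := by
    rw [Set.sUnion_eq_biUnion]
    exact hfin.isClosed_biUnion fun C hC => isClosed_of_mem_irreducibleComponents C hC.1
  have heq : ({z} : Set W) = (⋃₀ 𝒞)ᶜ := by
    ext w
    simp only [Set.mem_singleton_iff, Set.mem_compl_iff, Set.mem_sUnion, not_exists, not_and]
    constructor
    · rintro rfl C hC hwC
      exact hC.2 hwC
    · intro hw
      have hzC : z ∈ irreducibleComponent w := by
        by_contra hz
        exact hw _ ⟨irreducibleComponent_mem_irreducibleComponents w, hz⟩ mem_irreducibleComponent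
      obtain ⟨ξ, hξ⟩ := QuasiSober.sober (isIrreducible_irreducibleComponent (x := w))
        isClosed_irreducibleComponent
      have hξz : ξ ⤳ z := by
        rw [specializes_iff_mem_closure, hξ.def]; exact hzC
      have hξeq := hg ξ hξz
      subst hξeq
      have hw' : w ∈ closure ({ξ} : Set W) := by
        rw [hξ.def]; exact mem_irreducibleComponent
      rw [hc.closure_eq] at hw'
      exact hw'
  rw [heq]
  exact hclosed.isOpen_compl

open AlgebraicGeometry CategoryTheory in
/-- In a locally Noetherian scheme, a closed point without proper generizations is open. -/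
theorem isOpen_singleton_of_isLocallyNoetherian {Z : Scheme.{u}} [IsLocallyNoetherian Z] (z : Z)
    (hc : IsClosed ({z} : Set Z)) (hg : ∀ z' : Z, z' ⤳ z → z' = z) : IsOpen ({z} : Set Z) := by
  obtain ⟨_, ⟨W, hW', rfl⟩, hzW, -⟩ :=
    Z.isBasis_affineOpens.exists_subset_of_mem_open (Set.mem_univ z) isOpen_univ
  have hW : IsAffineOpen W := hW'
  have : IsNoetherianRing Γ(Z, W) := IsLocallyNoetherian.component_noetherian ⟨W, hW⟩
  have : TopologicalSpace.NoetherianSpace W := noetherianSpace_of_isAffineOpen W hW
  have : QuasiSober W := W.2.isOpenEmbedding_subtypeVal.quasiSober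
  have hopen : IsOpen ({⟨z, hzW⟩} : Set W) := by
    apply isOpen_singleton_of_noetherianSpace
    · have : ({⟨z, hzW⟩} : Set W) = Subtype.val ⁻¹' ({z} : Set Z) := by
        ext w
        exact Subtype.ext_iff
      rw [this]
      exact hc.preimage continuous_subtype_val
    · intro w hw
      have := hg w.1 (hw.map continuous_subtype_val)
      exact Subtype.ext this
  have := W.2.isOpenMap_subtype_val _ hopen
  convert this using 1
  ext y
  constructor
  · rintro rfl
    exact ⟨⟨y, hzW⟩, rfl, rfl⟩
  · rintro ⟨w, hw, rfl⟩
    rw [hw]; rfl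

open AlgebraicGeometry CategoryTheory in
/-- Let f : X → S be locally of finite type, x ∈ X, and write s = f x. The morphism f is quasi-finite at
x exactly when x is a closed point of the fibre X_s and no point x' ≠ x of X_s specializes to x. -/
theorem result {X S : Scheme.{u}} (f : X ⟶ S) [LocallyOfFiniteType f] (x : X) :
    f.QuasiFiniteAt x ↔
      (IsClosed ({f.asFiber x} : Set ↑(f.fiber (f.base x))) ∧
        ∀ x' : ↑(f.fiber (f.base x)), x' ⤳ f.asFiber x → x' = f.asFiber x) := by
  have : LocallyOfFiniteType (f.fiberToSpecResidueField (f.base x)) :=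
    MorphismProperty.pullback_snd _ _ inferInstance
  have : IsLocallyNoetherian (f.fiber (f.base x)) :=
    LocallyOfFiniteType.isLocallyNoetherian (f.fiberToSpecResidueField (f.base x))
  constructor
  · intro h
    refine ⟨h.isClopen_singleton_asFiber.1, fun x' hx' => ?_⟩
    exact hx'.mem_open h.isClopen_singleton_asFiber.2 rfl
  · rintro ⟨hc, hg⟩
    exact Scheme.Hom.quasiFiniteAt_iff_isOpen_singleton_asFiber.mpr
      (isOpen_singleton_of_isLocallyNoetherian _ hc hg)

end Groth.Agent.S9334
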