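import Groth.Statements.S9335
import Mathlib

set_option autoImplicit false
universe u
open QFin

namespace Groth.Agent.S9335

/-- In a Noetherian space there are only finitely many open points. -/
theorem finite_setOf_isOpen_singleton (T : Type*) [TopologicalSpace T]
    [TopologicalSpace.NoetherianSpace T] : {z : T | IsOpen ({z} : Set T)}.Finite := by
  set D : Set T := {z : T | IsOpen ({z} : Set T)} with hD
  have hc : IsCompact D := TopologicalSpace.NoetherianSpace.isCompact D
  obtain ⟨t, ht⟩ := hc.elim_finite_subcover (fun z : D => ({z.1} : Set T)) (fun z => z.2)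
    (fun z hz => Set.mem_iUnion.mpr ⟨⟨z, hz⟩, rfl⟩)
  refine (t.finite_toSet.image Subtype.val).subset fun z hz => ?_
  obtain ⟨i, hi, hzi⟩ : ∃ i ∈ t, z ∈ ({i.1} : Set T) := by simpa using ht hz
  exact ⟨i, hi, hzi.symm⟩

open AlgebraicGeometry CategoryTheory in
/-- If f : X → S is of finite type and s ∈ S, then f is quasi-finite at only finitely many points of the
fibre over s. -/
theorem result {X S : Scheme.{u}} (f : X ⟶ S) [LocallyOfFiniteType f] [QuasiCompact f] (s : S) :
    {x : ↑X | f.base x = s ∧ f.QuasiFiniteAt x}.Finite := by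
  have : LocallyOfFiniteType (f.fiberToSpecResidueField s) :=
    MorphismProperty.pullback_snd _ _ inferInstance
  have : IsLocallyNoetherian (f.fiber s) :=
    LocallyOfFiniteType.isLocallyNoetherian (f.fiberToSpecResidueField s)
  have : IsNoetherian (f.fiber s) := {}
  have hD := finite_setOf_isOpen_singleton (f.fiber s)
  refine (hD.image (f.fiberι s).base).subset ?_
  rintro x ⟨rfl, hx⟩
  exact ⟨f.asFiber x, Scheme.Hom.quasiFiniteAt_iff_isOpen_singleton_asFiber.mp hx,
    f.fiberι_asFiber x⟩

end Groth.Agent.S9335
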