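import Groth.Statements.S9336
import Mathlib
-- import your own Groth.Agent.* helpers here

set_option autoImplicit false
universe u
open QFin

namespace Groth.Agent.S9336

section helpers
open AlgebraicGeometry CategoryTheory Limits

theorem locArt (X : Scheme.{u}) [IsLocallyNoetherian X] [T1Space X] : IsLocallyArtinian X where
  isArtinianRing_presheaf_obj U := by
    have _ : IsNoetherianRing Γ(X, U) := IsLocallyNoetherian.component_noetherian U
    rw [isArtinianRing_iff_krullDimLE_zero, Ring.krullDimLE_zero_iff]
    intro I hI
    have hT0 : T1Space U.1.toScheme := U.1.ι.isEmbedding.t1Space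
    have hT1 : T1Space (Spec Γ(X, U.1)) :=
      U.2.isoSpec.hom.homeomorph.symm.isEmbedding.t1Space
    have := (PrimeSpectrum.isClosed_singleton_iff_isMaximal (⟨I, hI⟩ : PrimeSpectrum Γ(X, U.1))).mp
      (hT1.t1 (⟨I, hI⟩ : PrimeSpectrum Γ(X, U.1)))
    exact this

theorem main {X Y S : Scheme.{u}} (f : X ⟶ Y) (g : Y ⟶ S) [Surjective f]
    [LocallyQuasiFinite (f ≫ g)] [LocallyOfFiniteType (f ≫ g)] [LocallyOfFiniteType g] :
    LocallyQuasiFinite g := by
  refine .of_fiberToSpecResidueField g fun s => ?_
  change LocallyQuasiFinite (pullback.snd g (S.fromSpecResidueField s))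
  have t := IsPullback.of_hasPullback g (S.fromSpecResidueField s)
  have s0 := IsPullback.of_hasPullback (f ≫ g) (S.fromSpecResidueField s)
  have hpb := IsPullback.of_bot' s0 t
  set fs : pullback (f ≫ g) (S.fromSpecResidueField s) ⟶ pullback g (S.fromSpecResidueField s) :=
    t.lift (pullback.fst (f ≫ g) (S.fromSpecResidueField s) ≫ f)
    (pullback.snd (f ≫ g) (S.fromSpecResidueField s)) (by rw [Category.assoc, s0.w]) with hfs
  have hsurj : Surjective fs := MorphismProperty.of_isPullback (P := @Surjective) hpb ‹_›
  have hcomp : fs ≫ pullback.snd g (S.fromSpecResidueField s) =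
      pullback.snd (f ≫ g) (S.fromSpecResidueField s) :=
    t.lift_snd _ _ _
  have hlft0 : LocallyOfFiniteType (pullback.snd (f ≫ g) (S.fromSpecResidueField s)) :=
    MorphismProperty.pullback_snd _ _ inferInstance
  have hlft1 : LocallyOfFiniteType (pullback.snd g (S.fromSpecResidueField s)) :=
    MorphismProperty.pullback_snd _ _ inferInstance
  have hlft : LocallyOfFiniteType fs := by
    have : LocallyOfFiniteType (fs ≫ pullback.snd g (S.fromSpecResidueField s)) := hcomp ▸ hlft0
    exact locallyOfFiniteType_of_comp fs (pullback.snd g (S.fromSpecResidueField s))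
  have hJ : JacobsonSpace ↥(pullback g (S.fromSpecResidueField s) : Scheme.{u}) :=
    inferInstanceAs (JacobsonSpace (g.fiber s))
  have hLA0 : IsLocallyArtinian (pullback (f ≫ g) (S.fromSpecResidueField s)) :=
    inferInstanceAs (IsLocallyArtinian ((f ≫ g).fiber s))
  have hcl := fs.closePoints_subset_preimage_closedPoints
  have hT1 : T1Space ↥(pullback g (S.fromSpecResidueField s) : Scheme.{u}) := by
    refine ⟨fun y => ?_⟩
    obtain ⟨x, rfl⟩ := fs.surjective y
    exact hcl (isClosed_discrete {x} : x ∈ closedPoints _)
  have hLN : IsLocallyNoetherian (pullback g (S.fromSpecResidueField s)) :=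
    LocallyOfFiniteType.isLocallyNoetherian (pullback.snd g (S.fromSpecResidueField s))
  have hLA : IsLocallyArtinian (pullback g (S.fromSpecResidueField s)) := locArt _
  have hD : DiscreteTopology ↥(pullback g (S.fromSpecResidueField s) : Scheme.{u}) := inferInstance
  exact locallyQuasiFinite_iff_isDiscrete_preimage_singleton.mpr fun x => ⟨inferInstance⟩
end helpers

open AlgebraicGeometry CategoryTheory in
/-- Let f : X → Y be surjective and g : Y → S locally of finite type. If g ∘ f is locally quasi-finite
(and locally of finite type), then g is locally quasi-finite. -/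
theorem result {X Y S : Scheme.{u}} (f : X ⟶ Y) (g : Y ⟶ S) [Surjective f]
    [LocallyQuasiFinite (f ≫ g)] [LocallyOfFiniteType (f ≫ g)] [LocallyOfFiniteType g] :
    LocallyQuasiFinite g := by
  exact main f g

end Groth.Agent.S9336
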