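import Groth.Statements.S9337
import Groth.Agent.Lib.Helper1.FtPts

set_option autoImplicit false
universe u
open FtPts

namespace Groth.Agent.S9337

open AlgebraicGeometry CategoryTheory IsLocalRing

theorem isIso_fromSpecResidueField (k : Type u) [Field k] :
    IsIso ((Spec (CommRingCat.of k)).fromSpecResidueField (closedPoint k)) := by
  have hc : IsClosed ({closedPoint k} : Set (Spec (CommRingCat.of k))) :=
    IsLocalRing.isClosed_singleton_closedPoint k
  have : IsClosedImmersion ((Spec (CommRingCat.of k)).fromSpecResidueField (closedPoint k)) :=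
    isClosed_singleton_iff_isClosedImmersion.mp hc
  have : Surjective ((Spec (CommRingCat.of k)).fromSpecResidueField (closedPoint k)) := by
    refine ⟨fun z => ?_⟩
    have hne : Nonempty (Spec ((Spec (CommRingCat.of k)).residueField (closedPoint k))) := inferInstance
    obtain ⟨w⟩ := hne
    exact ⟨w, Subsingleton.elim _ _⟩
  exact isIso_of_isClosedImmersion_of_surjective _

theorem main (S : Scheme.{u}) (k : Type u) [Field k] (f : Spec (CommRingCat.of k) ⟶ S) :
    LocallyOfFiniteType f ↔
      ∃ U : S.Opens, IsAffineOpen U ∧ ∃ hu : f.base (IsLocalRing.closedPoint k) ∈ U,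
        IsClosed ({⟨f.base (IsLocalRing.closedPoint k), hu⟩} : Set ↥U) ∧
          (f.residueFieldMap (IsLocalRing.closedPoint k)).hom.Finite := by
  have hj := isIso_fromSpecResidueField k
  have e := Scheme.Hom.SpecMap_residueFieldMap_fromSpecResidueField f (closedPoint k)
  constructor
  · intro hf
    obtain ⟨U, hU, hu, hc⟩ := Groth.Agent.H1.FtPts.exists_affineOpen_isClosed f _ rfl
    refine ⟨U, hU, hu, hc, ?_⟩
    have h1 : LocallyOfFiniteType (Spec.map (f.residueFieldMap (closedPoint k)) ≫
        S.fromSpecResidueField (f (closedPoint k))) := by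
      rw [e]
      infer_instance
    have h2 : LocallyOfFiniteType (Spec.map (f.residueFieldMap (closedPoint k))) :=
      locallyOfFiniteType_of_comp _ (S.fromSpecResidueField (f (closedPoint k)))
    have h3 : (f.residueFieldMap (closedPoint k)).hom.FiniteType := HasRingHomProperty.Spec_iff.mp h2
    exact RingHom.finite_iff_finiteType_of_isJacobsonRing.mpr h3
  · rintro ⟨U, hU, hu, hc, hfin⟩
    have h1 : LocallyOfFiniteType (S.fromSpecResidueField (f (closedPoint k))) :=
      Groth.Agent.H1.FtPts.ft_of_closed_in_open S U ⟨_, hu⟩ hc
    have h2 : IsFinite (Spec.map (f.residueFieldMap (closedPoint k))) := (IsFinite.SpecMap_iff _).mpr hfin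
    have h3 : LocallyOfFiniteType ((Spec (CommRingCat.of k)).fromSpecResidueField (closedPoint k) ≫ f) := by
      rw [← e]
      infer_instance
    exact (MorphismProperty.cancel_left_of_respectsIso @LocallyOfFiniteType
      ((Spec (CommRingCat.of k)).fromSpecResidueField (closedPoint k)) f).mp h3

open AlgebraicGeometry CategoryTheory in
/-- Let k be a field and f : Spec k → S a morphism of schemes with image point u. Then f is locally of
finite type if and only if some affine open U ∋ u of S has u as a closed point and the residue field
of Spec k (that is, k) is finite over κ(u). -/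
theorem result (S : Scheme.{u}) (k : Type u) [Field k] (f : Spec (CommRingCat.of k) ⟶ S) :
    LocallyOfFiniteType f ↔
      ∃ U : S.Opens, IsAffineOpen U ∧ ∃ hu : f.base (IsLocalRing.closedPoint k) ∈ U,
        IsClosed ({⟨f.base (IsLocalRing.closedPoint k), hu⟩} : Set ↥U) ∧
          (f.residueFieldMap (IsLocalRing.closedPoint k)).hom.Finite := by
  exact main S k f

end Groth.Agent.S9337
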