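import Groth.Statements.S9338
import Mathlib.RingTheory.Artinian.Ring
import Mathlib.RingTheory.HopkinsLevitzki
import Mathlib.RingTheory.KrullDimension.Zero
import Mathlib.RingTheory.FiniteType
import Mathlib.AlgebraicGeometry.Morphisms.FiniteType
import Mathlib.AlgebraicGeometry.Morphisms.ClosedImmersion
import Mathlib.AlgebraicGeometry.AffineScheme

set_option autoImplicit false
universe u
open FtPts

namespace Groth.Agent.S9338

open AlgebraicGeometry CategoryTheory IsLocalRing

section ring

variable {R A : Type u} [CommRing R] [CommRing A] [Algebra R A] [IsLocalRing A]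

/-- elements of the subalgebra lying in `m^n` -/
def G (A' : Subalgebra R A) (n : ℕ) : Set A := {a | a ∈ A' ∧ a ∈ maximalIdeal A ^ n}

theorem span_G (A' : Subalgebra R A) (y : Set A) (hy : Ideal.span y = maximalIdeal A) (hyA : y ⊆ A') (n : ℕ) :
    Ideal.span (G A' n) = maximalIdeal A ^ n := by
  induction n with
  | zero =>
    rw [pow_zero, Ideal.one_eq_top, Ideal.eq_top_iff_one]
    exact Ideal.subset_span ⟨A'.one_mem, by rw [pow_zero, Ideal.one_eq_top]; trivial⟩
  | succ n ih =>
    apply le_antisymm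
    · rw [Ideal.span_le]
      exact fun a ha => ha.2
    · rw [pow_succ, ← ih, ← hy, Ideal.span_mul_span', Ideal.span_le]
      rintro _ ⟨a, ha, b, hb, rfl⟩
      refine Ideal.subset_span ⟨A'.mul_mem ha.1 (hyA hb), ?_⟩
      rw [pow_succ]
      exact Ideal.mul_mem_mul ha.2 (hy ▸ Ideal.subset_span hb)

theorem key (A' : Subalgebra R A) (y : Set A) (hy : Ideal.span y = maximalIdeal A) (hyA : y ⊆ A')
    (h1 : ∀ a : A, ∃ a' ∈ A', a - a' ∈ maximalIdeal A) (n : ℕ) (e : A) (he : e ∈ maximalIdeal A ^ n) :
    ∃ a' ∈ A', a' ∈ maximalIdeal A ^ n ∧ e - a' ∈ maximalIdeal A ^ (n + 1) := by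
  rw [← span_G A' y hy hyA n] at he
  induction he using Submodule.span_induction with
  | mem x hx => exact ⟨x, hx.1, hx.2, by rw [sub_self]; exact Ideal.zero_mem _⟩
  | zero => exact ⟨0, A'.zero_mem, Ideal.zero_mem _, by rw [sub_self]; exact Ideal.zero_mem _⟩
  | add x z _ _ hx hz =>
    obtain ⟨a, ha, han, hxa⟩ := hx
    obtain ⟨b, hb, hbn, hzb⟩ := hz
    refine ⟨a + b, A'.add_mem ha hb, Ideal.add_mem _ han hbn, ?_⟩
    have : x + z - (a + b) = (x - a) + (z - b) := by ring
    rw [this]
    exact Ideal.add_mem _ hxa hzb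
  | smul c x _ hx =>
    obtain ⟨a, ha, han, hxa⟩ := hx
    obtain ⟨c', hc', hcc'⟩ := h1 c
    refine ⟨c' * a, A'.mul_mem hc' ha, Ideal.mul_mem_left _ _ han, ?_⟩
    have : c • x - c' * a = c * (x - a) + (c - c') * a := by rw [smul_eq_mul]; ring
    rw [this]
    refine Ideal.add_mem _ (Ideal.mul_mem_left _ _ hxa) ?_
    rw [pow_succ']
    exact Ideal.mul_mem_mul hcc' han

theorem approx (A' : Subalgebra R A) (y : Set A) (hy : Ideal.span y = maximalIdeal A) (hyA : y ⊆ A')
    (h1 : ∀ a : A, ∃ a' ∈ A', a - a' ∈ maximalIdeal A) (n : ℕ) (a : A) :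
    ∃ a' ∈ A', a - a' ∈ maximalIdeal A ^ n := by
  induction n with
  | zero => exact ⟨0, A'.zero_mem, by rw [pow_zero, Ideal.one_eq_top]; trivial⟩
  | succ n ih =>
    obtain ⟨a', ha', h⟩ := ih
    obtain ⟨b, hb, -, hb2⟩ := key A' y hy hyA h1 n _ h
    refine ⟨a' + b, A'.add_mem ha' hb, ?_⟩
    have : a - (a' + b) = a - a' - b := by ring
    rw [this]
    exact hb2

end ring

theorem finiteType_of_residue {R A : Type u} [CommRing R] [CommRing A] [IsArtinianRing A] [IsLocalRing A]
    (φ : R →+* A) (h : ((IsLocalRing.residue A).comp φ).FiniteType) : φ.FiniteType := by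
  classical
  let _ : Algebra R A := φ.toAlgebra
  let _ : Algebra R (ResidueField A) := ((IsLocalRing.residue A).comp φ).toAlgebra
  have tower : IsScalarTower R A (ResidueField A) := IsScalarTower.of_algebraMap_eq (fun r => rfl)
  have hft : Algebra.FiniteType R (ResidueField A) := h
  obtain ⟨s, hs⟩ := hft.out
  let σ : ResidueField A → A := Function.surjInv (IsLocalRing.residue_surjective (R := A))
  have hσ : ∀ x, IsLocalRing.residue A (σ x) = x := Function.surjInv_eq _
  have hm : (maximalIdeal A).FG := IsNoetherian.noetherian _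
  obtain ⟨y, hy⟩ := hm
  let T : Finset A := s.image σ ∪ y
  have hyA : (y : Set A) ⊆ Algebra.adjoin R (T : Set A) := fun b hb =>
    Algebra.subset_adjoin (by
      show b ∈ ((s.image σ ∪ y : Finset A) : Set A)
      rw [Finset.coe_union]
      exact Or.inr hb)
  have h1 : ∀ a : A, ∃ a' ∈ Algebra.adjoin R (T : Set A), a - a' ∈ maximalIdeal A := by
    intro a
    let resAlg : A →ₐ[R] ResidueField A := IsScalarTower.toAlgHom R A _
    have hmap : (Algebra.adjoin R (T : Set A)).map resAlg = ⊤ := by
      rw [eq_top_iff, ← hs]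
      refine Algebra.adjoin_le ?_
      intro x hx
      refine ⟨σ x, Algebra.subset_adjoin ?_, hσ x⟩
      show σ x ∈ ((s.image σ ∪ y : Finset A) : Set A)
      rw [Finset.coe_union]
      exact Or.inl (Finset.mem_coe.mpr (Finset.mem_image_of_mem σ hx))
    have hmem : IsLocalRing.residue A a ∈ (Algebra.adjoin R (T : Set A)).map resAlg := by
      rw [hmap]; trivial
    obtain ⟨a', ha', hra'⟩ := hmem
    refine ⟨a', ha', ?_⟩
    rw [← IsLocalRing.residue_eq_zero_iff, map_sub, sub_eq_zero]
    exact hra'.symm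
  obtain ⟨N, hN⟩ : ∃ N, maximalIdeal A ^ N = ⊥ := by
    have h2 := IsArtinianRing.isNilpotent_jacobson_bot (R := A)
    rw [IsLocalRing.jacobson_eq_maximalIdeal ⊥ bot_ne_top] at h2
    exact h2
  have htop : Algebra.adjoin R (T : Set A) = ⊤ := by
    rw [eq_top_iff]
    intro a _
    obtain ⟨a', ha', h3⟩ := approx (Algebra.adjoin R (T : Set A)) y hy hyA h1 N a
    rw [hN, Ideal.mem_bot, sub_eq_zero] at h3
    rw [h3]
    exact ha'
  exact ⟨⟨T, htop⟩⟩

theorem main (S : Scheme.{u}) (A : Type u) [CommRing A] [IsArtinianRing A] [IsLocalRing A]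
    (f : Spec (CommRingCat.of A) ⟶ S) :
    LocallyOfFiniteType f ↔
      LocallyOfFiniteType (Spec.map (CommRingCat.ofHom (IsLocalRing.residue A)) ≫ f) := by
  constructor
  · intro h
    have : IsClosedImmersion (Spec.map (CommRingCat.ofHom (IsLocalRing.residue A))) :=
      IsClosedImmersion.spec_of_surjective _ IsLocalRing.residue_surjective
    infer_instance
  · intro h
    obtain ⟨U₀, hU₀, hsU₀, -⟩ := exists_isAffineOpen_mem_and_subset (X := S) (x := f (closedPoint A))
      (U := ⊤) trivial
    have hsub : Subsingleton (PrimeSpectrum A) := inferInstance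
    have hrange : Set.range f ⊆ Set.range hU₀.fromSpec := by
      rw [hU₀.range_fromSpec]
      rintro _ ⟨z, rfl⟩
      have : z = closedPoint A := hsub.elim _ _
      rw [this]
      exact hsU₀
    let g' := IsOpenImmersion.lift hU₀.fromSpec f hrange
    have hg' : g' ≫ hU₀.fromSpec = f := IsOpenImmersion.lift_fac _ _ _
    obtain ⟨φ, hφ⟩ := Spec.map_surjective g'
    have h1 : LocallyOfFiniteType ((Spec.map (CommRingCat.ofHom (IsLocalRing.residue A)) ≫ g') ≫ hU₀.fromSpec) := by
      rw [Category.assoc, hg']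
      exact h
    have h2 : LocallyOfFiniteType (Spec.map (CommRingCat.ofHom (IsLocalRing.residue A)) ≫ g') :=
      locallyOfFiniteType_of_comp _ hU₀.fromSpec
    rw [← hφ, ← Spec.map_comp] at h2
    have h3 : (φ ≫ CommRingCat.ofHom (IsLocalRing.residue A)).hom.FiniteType :=
      HasRingHomProperty.Spec_iff.mp h2
    have h4 : φ.hom.FiniteType := finiteType_of_residue φ.hom h3
    have h5 : LocallyOfFiniteType (Spec.map φ) := HasRingHomProperty.Spec_iff.mpr h4
    rw [← hg', ← hφ]
    infer_instance

open AlgebraicGeometry CategoryTheory in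
/-- For an Artinian local ring A with residue field κ, a morphism f : Spec A → S is (locally) of finite
type exactly when the composite Spec κ → Spec A → S is. -/
theorem result (S : Scheme.{u}) (A : Type u) [CommRing A] [IsArtinianRing A] [IsLocalRing A]
    (f : Spec (CommRingCat.of A) ⟶ S) :
    LocallyOfFiniteType f ↔
      LocallyOfFiniteType (Spec.map (CommRingCat.ofHom (IsLocalRing.residue A)) ≫ f) := by
  exact main S A f

end Groth.Agent.S9338
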