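import Groth.Statements.S9340
import Groth.Agent.Lib.Helper1.FtPts
import Mathlib.AlgebraicGeometry.Fiber

set_option autoImplicit false
universe u
open FtPts

namespace Groth.Agent.S9340

open AlgebraicGeometry CategoryTheory IsLocalRing

theorem main {T S : Scheme.{u}} (f : T ⟶ S) [LocallyOfFiniteType f] [Surjective f] :
    f.base '' {t : ↑T | LocallyOfFiniteType (T.fromSpecResidueField t)} =
      {s : ↑S | LocallyOfFiniteType (S.fromSpecResidueField s)} := by
  apply Set.Subset.antisymm
  · rintro _ ⟨t, ht, rfl⟩
    exact Groth.Agent.H1.FtPts.ft_map f t ht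
  · intro s hs
    have hs' : LocallyOfFiniteType (S.fromSpecResidueField s) := hs
    have hι : LocallyOfFiniteType (f.fiberι s) := by
      unfold Scheme.Hom.fiberι
      exact MorphismProperty.pullback_fst (P := @LocallyOfFiniteType) _ _ hs'
    have hp : LocallyOfFiniteType (f.fiberToSpecResidueField s) := by
      unfold Scheme.Hom.fiberToSpecResidueField
      exact MorphismProperty.pullback_snd (P := @LocallyOfFiniteType) _ _ inferInstance
    have hJ0 : JacobsonSpace ↥(Spec (S.residueField s)) := inferInstance
    have hJ : JacobsonSpace ↥(f.fiber s) :=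
      @LocallyOfFiniteType.jacobsonSpace _ _ (f.fiberToSpecResidueField s) hp hJ0
    obtain ⟨t, ht⟩ := f.surjective s
    have htm : t ∈ Set.range (f.fiberι s) := by
      rw [Scheme.Hom.range_fiberι]
      exact ht
    obtain ⟨c₀, -⟩ := htm
    obtain ⟨c, -, hc⟩ := nonempty_inter_closedPoints (X := ↥(f.fiber s)) (Z := Set.univ) ⟨c₀, trivial⟩
      isOpen_univ.isLocallyClosed
    have hc' : IsClosed ({c} : Set ↥(f.fiber s)) := hc
    have hcft : LocallyOfFiniteType ((f.fiber s).fromSpecResidueField c) :=
      isClosed_singleton_iff_locallyOfFiniteType.mp hc'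
    refine ⟨f.fiberι s c, Groth.Agent.H1.FtPts.ft_map (f.fiberι s) c hcft, ?_⟩
    have hmem : f.fiberι s c ∈ Set.range (f.fiberι s) := ⟨c, rfl⟩
    rw [Scheme.Hom.range_fiberι] at hmem
    exact hmem

open AlgebraicGeometry CategoryTheory in
/-- A surjective morphism locally of finite type maps the set of finite type points of the source onto
the set of finite type points of the target. -/
theorem result {T S : Scheme.{u}} (f : T ⟶ S) [LocallyOfFiniteType f] [Surjective f] :
    f.base '' {t : ↑T | LocallyOfFiniteType (T.fromSpecResidueField t)} =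
      {s : ↑S | LocallyOfFiniteType (S.fromSpecResidueField s)} := by
  exact main f

end Groth.Agent.S9340
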