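import Groth.Statements.S9341
import Mathlib.AlgebraicGeometry.Morphisms.ClosedImmersion
import Mathlib.AlgebraicGeometry.AffineScheme

set_option autoImplicit false
universe u
open FtPts

namespace Groth.Agent.S9341

open AlgebraicGeometry CategoryTheory

lemma ft_of_closed_in_open (S : Scheme.{u}) (U : S.Opens) (s' : U) (hs : IsClosed ({s'} : Set ↥U)) :
    LocallyOfFiniteType (S.fromSpecResidueField (s' : S)) := by
  have hci : IsClosedImmersion ((U : Scheme.{u}).fromSpecResidueField s') :=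
    isClosed_singleton_iff_isClosedImmersion.mp hs
  have e := Scheme.Hom.SpecMap_residueFieldMap_fromSpecResidueField U.ι s'
  have e' : S.fromSpecResidueField (U.ι s') =
      inv (Spec.map (U.ι.residueFieldMap s')) ≫ (U : Scheme.{u}).fromSpecResidueField s' ≫ U.ι := by
    rw [← e, IsIso.inv_hom_id_assoc]
  have : LocallyOfFiniteType (S.fromSpecResidueField (U.ι s')) := by
    rw [e']
    infer_instance
  exact this

lemma part1 (S : Scheme.{u}) (Z : Set ↑S) (hZ : IsLocallyClosed Z) (hne : Z.Nonempty) :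
    (Z ∩ {s : ↑S | LocallyOfFiniteType (S.fromSpecResidueField s)}).Nonempty := by
  obtain ⟨U, C, hU, hC, rfl⟩ := hZ
  obtain ⟨z, hzU, hzC⟩ := hne
  obtain ⟨_, ⟨V, hV, rfl⟩, hzV, hVU⟩ :=
    S.isBasis_affineOpens.exists_subset_of_mem_open hzU hU
  haveI : CompactSpace ↥V := isCompact_iff_compactSpace.mp (IsAffineOpen.isCompact hV)
  have hcl : IsClosed ((Subtype.val : ↥V → S) ⁻¹' C) := hC.preimage continuous_subtype_val
  obtain ⟨v, hvC, hv⟩ := hcl.exists_closed_singleton ⟨⟨z, hzV⟩, hzC⟩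
  exact ⟨v.1, ⟨hVU v.2, hvC⟩, ft_of_closed_in_open S V v hv⟩


open AlgebraicGeometry CategoryTheory in
/-- Every nonempty locally closed subset of a scheme S contains a finite type point of S; in particular
for a closed subset Z the finite type points lying in Z are dense in Z. -/
theorem result (S : Scheme.{u}) :
    (∀ Z : Set ↑S, IsLocallyClosed Z → Z.Nonempty →
        (Z ∩ {s : ↑S | LocallyOfFiniteType (S.fromSpecResidueField s)}).Nonempty) ∧
      ∀ Z : Set ↑S, IsClosed Z →
        Z ⊆ closure (Z ∩ {s : ↑S | LocallyOfFiniteType (S.fromSpecResidueField s)}) := by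
  refine ⟨fun Z hZ hne => part1 S Z hZ hne, fun Z hZ z hz => ?_⟩
  rw [mem_closure_iff]
  intro W hW hzW
  have hlc : IsLocallyClosed (W ∩ Z) := ⟨W, Z, hW, hZ, rfl⟩
  obtain ⟨x, ⟨hxW, hxZ⟩, hx⟩ := part1 S (W ∩ Z) hlc ⟨z, hzW, hz⟩
  exact ⟨x, hxW, hxZ, hx⟩

end Groth.Agent.S9341
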