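import Groth.Statements.S9347
import Mathlib

set_option autoImplicit false
universe u
open Dom

namespace Groth.Agent.S9347

/-- a point whose closure is an irreducible component has no proper generizations -/
theorem eq_of_specializes_of_mem_irreducibleComponents {T : Type*} [TopologicalSpace T] [T0Space T]
    {η ξ : T} (hη : closure {η} ∈ irreducibleComponents T) (h : ξ ⤳ η) : ξ = η := by
  have h1 : closure {η} ≤ closure {ξ} := specializes_iff_closure_subset.mp h
  have hirr : IsIrreducible (closure ({ξ} : Set T)) := isIrreducible_singleton.closure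
  have h2 := hη.2 hirr h1
  have h3 : η ⤳ ξ := specializes_iff_closure_subset.mpr h2
  exact (h.antisymm h3).eq

open AlgebraicGeometry CategoryTheory in
/-- Let f : X → S be quasi-compact and let η ∈ S be a point whose closure is an irreducible component of
S (a maximal point of S). If η is not in the image of f, then η has an open neighbourhood V with
f⁻¹(V) empty. -/
theorem result {X S : Scheme.{u}} (f : X ⟶ S) [QuasiCompact f]
    (η : ↑S) (hη : closure {η} ∈ irreducibleComponents (↑S : Type u)) (hnot : η ∉ Set.range f.base) :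
    ∃ V : S.Opens, η ∈ V ∧ f ⁻¹ᵁ V = ⊥ := by
  obtain ⟨_, ⟨U, hU', rfl⟩, hηU, -⟩ :=
    S.isBasis_affineOpens.exists_subset_of_mem_open (Set.mem_univ η) isOpen_univ
  have hU : IsAffineOpen U := hU'
  have hc : IsCompact (f ⁻¹ᵁ U : Set X) := f.isCompact_preimage hU.isCompact
  obtain ⟨A, h, hh⟩ := isCompact_iff_exists.mp hc
  have hrange : Set.range (h ≫ f).base ⊆ Set.range hU.fromSpec.base := by
    rw [hU.range_fromSpec]
    rintro _ ⟨a, rfl⟩
    have : h.base a ∈ (f ⁻¹ᵁ U : Set X) := hh ▸ Set.mem_range_self a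
    exact this
  let l : Spec A ⟶ Spec Γ(S, U) := IsOpenImmersion.lift hU.fromSpec (h ≫ f) hrange
  have hl : l ≫ hU.fromSpec = h ≫ f := IsOpenImmersion.lift_fac _ _ _
  obtain ⟨φ, hφ⟩ := Spec.map_surjective l
  obtain ⟨p, hp⟩ : ∃ p, hU.fromSpec.base p = η := by
    have : η ∈ Set.range hU.fromSpec.base := by rw [hU.range_fromSpec]; exact hηU
    exact this
  -- `p` is a minimal prime
  have hpmin : p.asIdeal ∈ minimalPrimes Γ(S, U) := by
    refine ⟨⟨p.2, bot_le⟩, fun q hq hqp => ?_⟩
    have hspec : (⟨q, hq.1⟩ : PrimeSpectrum Γ(S, U)) ⤳ p :=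
      (PrimeSpectrum.le_iff_specializes _ _).mp hqp
    have hspec' : hU.fromSpec.base ⟨q, hq.1⟩ ⤳ hU.fromSpec.base p :=
      hspec.map hU.fromSpec.continuous
    rw [hp] at hspec'
    have heq := eq_of_specializes_of_mem_irreducibleComponents hη hspec'
    rw [← hp] at heq
    have := hU.fromSpec.isOpenEmbedding.injective heq
    rw [← this]
  -- `p` does not contain the kernel
  have hker : ¬ (RingHom.ker φ.hom ≤ p.asIdeal) := by
    intro hle
    have hmem : p.asIdeal ∈ ((⊥ : Ideal A).comap φ.hom).minimalPrimes :=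
      ⟨⟨p.2, hle⟩, fun q hq hqp => hpmin.2 ⟨hq.1, bot_le⟩ hqp⟩
    obtain ⟨p', hp', -, hcomap⟩ := Ideal.exists_comap_eq_of_mem_minimalPrimes φ.hom p.asIdeal hmem
    apply hnot
    let a : ↥(Spec A) := (⟨p', hp'⟩ : PrimeSpectrum A)
    refine ⟨h.base a, ?_⟩
    have e1 : f.base (h.base a) = hU.fromSpec.base (l.base a) := by
      rw [← Scheme.Hom.comp_apply, ← Scheme.Hom.comp_apply, hl]
    rw [e1, ← hp]
    congr 1
    rw [← hφ]
    exact PrimeSpectrum.ext hcomap
  obtain ⟨g, hgker, hgp⟩ := Set.not_subset.mp hker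
  refine ⟨S.basicOpen g, ?_, ?_⟩
  · rw [← hp]
    have : p ∈ hU.fromSpec ⁻¹ᵁ S.basicOpen g := by
      rw [hU.fromSpec_preimage_basicOpen]
      exact hgp
    exact this
  · ext x
    simp only [TopologicalSpace.Opens.coe_bot, Set.mem_empty_iff_false, iff_false]
    intro hx
    have hxU : x ∈ (f ⁻¹ᵁ U : Set X) := S.basicOpen_le g hx
    rw [← hh] at hxU
    obtain ⟨a, rfl⟩ := hxU
    have e1 : f.base (h.base a) = hU.fromSpec.base (l.base a) := by
      rw [← Scheme.Hom.comp_apply, ← Scheme.Hom.comp_apply, hl]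
    have hmem : l.base a ∈ hU.fromSpec ⁻¹ᵁ S.basicOpen g := by
      show hU.fromSpec.base (l.base a) ∈ S.basicOpen g
      rw [← e1]; exact hx
    rw [hU.fromSpec_preimage_basicOpen, ← hφ] at hmem
    apply hmem
    show φ.hom g ∈ a.asIdeal
    rw [RingHom.mem_ker.mp hgker]
    exact zero_mem _

end Groth.Agent.S9347
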