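import Groth.Statements.S9343
import Groth.Agent.S9347
import Mathlib

set_option autoImplicit false
universe u
open Dom

namespace Groth.Agent.S9343

/-- In a quasi-sober space every point is a specialization of a point whose closure is an
irreducible component. -/
theorem exists_maximal_generization {T : Type*} [TopologicalSpace T] [QuasiSober T] (s : T) :
    ∃ η : T, closure {η} ∈ irreducibleComponents T ∧ η ⤳ s := by
  obtain ⟨η, hη⟩ := QuasiSober.sober (isIrreducible_irreducibleComponent (x := s))
    isClosed_irreducibleComponent
  refine ⟨η, ?_, ?_⟩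
  · rw [hη.def]
    exact irreducibleComponent_mem_irreducibleComponents s
  · rw [specializes_iff_mem_closure, hη.def]
    exact mem_irreducibleComponent

open AlgebraicGeometry CategoryTheory in
/-- The base change of a quasi-compact dominant morphism f : X → S along a morphism g : S' → S along
which generalizations lift is dominant. -/
theorem result {X S X' S' : Scheme.{u}} (f : X ⟶ S) [QuasiCompact f] [IsDominant f]
    (g : S' ⟶ S) (g' : X' ⟶ X) (f' : X' ⟶ S') (hsq : IsPullback g' f' f g) (hg : GeneralizingMap g.base) :
    IsDominant f' := by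
  constructor
  have h := Scheme.image_preimage_eq_of_isPullback hsq Set.univ
  rw [Set.preimage_univ, Set.image_univ, Set.image_univ] at h
  change Dense (Set.range f'.base)
  rw [h, dense_iff_inter_open]
  intro W' hW' ⟨s₀', hs₀'⟩
  obtain ⟨η, hη, hηs⟩ := exists_maximal_generization (g.base s₀')
  obtain ⟨η', hη's, rfl⟩ := hg hηs
  refine ⟨η', hη's.mem_open hW' hs₀', ?_⟩
  show g.base η' ∈ Set.range f.base
  by_contra hnot
  obtain ⟨V, hηV, hV⟩ := Groth.Agent.S9347.result f (g.base η') hη hnot
  obtain ⟨_, hyV, ⟨x, rfl⟩⟩ := f.denseRange.inter_open_nonempty V V.2 ⟨_, hηV⟩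
  have : x ∈ f ⁻¹ᵁ V := hyV
  rw [hV] at this
  exact this

end Groth.Agent.S9343
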