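import Groth.Statements.S9345
import Groth.Agent.S9343
import Mathlib

set_option autoImplicit false
universe u
open Dom

namespace Groth.Agent.S9345

open AlgebraicGeometry CategoryTheory in
/-- For a morphism f : X → S whose source has only finitely many irreducible components, the image of f
is dense exactly when it contains the generic point of each irreducible component of S, and then S
too has finitely many. -/
theorem result {X S : Scheme.{u}} (f : X ⟶ S)
    (hX : (irreducibleComponents (↑X : Type u)).Finite) :
    (IsDominant f ↔ ∀ s : ↑S, closure {s} ∈ irreducibleComponents (↑S : Type u) → s ∈ Set.range f.base) ∧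
      (IsDominant f → (irreducibleComponents (↑S : Type u)).Finite) := by
  -- the finite family of closed subsets of `S`
  set T : Set (Set S) := (fun Z => closure (f.base '' Z)) '' irreducibleComponents (↑X : Type u) with hT
  have hTfin : T.Finite := hX.image _
  have hTclosed : ∀ z ∈ T, IsClosed z := by
    rintro _ ⟨Z, -, rfl⟩; exact isClosed_closure
  have hrange : Set.range f.base ⊆ ⋃₀ T := by
    rintro _ ⟨x, rfl⟩
    exact ⟨_, ⟨_, irreducibleComponent_mem_irreducibleComponents x, rfl⟩,
      subset_closure ⟨x, mem_irreducibleComponent, rfl⟩⟩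
  -- key claim
  have key : IsDominant f → ∀ C ∈ irreducibleComponents (↑S : Type u),
      ∃ Z ∈ irreducibleComponents (↑X : Type u), C = closure (f.base '' Z) := by
    intro hdom C hC
    have hclosedU : IsClosed (⋃₀ T) := by
      rw [Set.sUnion_eq_biUnion]
      exact hTfin.isClosed_biUnion hTclosed
    have huniv : ⋃₀ T = Set.univ := by
      rw [← Set.univ_subset_iff, ← hdom.denseRange.closure_range]
      exact closure_minimal hrange hclosedU
    obtain ⟨z, hz, hCz⟩ := isIrreducible_iff_sUnion_isClosed.mp hC.1 hTfin.toFinset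
      (fun z hz => hTclosed z (hTfin.mem_toFinset.mp hz))
      (by rw [hTfin.coe_toFinset, huniv]; exact Set.subset_univ _)
    rw [hTfin.mem_toFinset] at hz
    obtain ⟨Z, hZ, rfl⟩ := hz
    refine ⟨Z, hZ, subset_antisymm hCz (hC.2 ?_ hCz)⟩
    exact (hZ.1.image f.base f.continuous.continuousOn).closure
  refine ⟨⟨fun hdom s hs => ?_, fun H => ⟨?_⟩⟩, fun hdom => ?_⟩
  · obtain ⟨Z, hZ, hsZ⟩ := key hdom _ hs
    obtain ⟨ξ, hξ⟩ := QuasiSober.sober hZ.1 (isClosed_of_mem_irreducibleComponents Z hZ)
    rw [← hξ.def, closure_image_closure f.continuous, Set.image_singleton] at hsZ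
    refine ⟨ξ, ?_⟩
    exact ((inseparable_iff_closure_eq.mpr hsZ).eq).symm
  · change Dense (Set.range f.base)
    intro s
    obtain ⟨η, hη, hηs⟩ := Groth.Agent.S9343.exists_maximal_generization s
    exact closure_mono (Set.singleton_subset_iff.mpr (H η hη)) (specializes_iff_mem_closure.mp hηs)
  · refine hTfin.subset fun C hC => ?_
    obtain ⟨Z, hZ, rfl⟩ := key hdom C hC
    exact ⟨Z, hZ, rfl⟩

end Groth.Agent.S9345
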