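import Groth.Statements.S9346
import Mathlib


set_option autoImplicit false
universe u
open Dom

namespace Groth.Agent.S9346

set_option linter.style.haveILetI false

open AlgebraicGeometry CategoryTheory TopologicalSpace

variable {X Y : Scheme.{u}} [AlgebraicGeometry.IsIntegral X] [AlgebraicGeometry.IsIntegral Y]

/-- to the function field -/
theorem toFF_injective (x : X) :
    Function.Injective (X.presheaf.stalkSpecializes ((genericPoint_spec X).specializes trivial : genericPoint X ⤳ x)) :=
  IsFractionRing.injective (X.presheaf.stalk x) X.functionField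

theorem stalkSpecializes_injective {x x' : X} (h : x' ⤳ x) :
    Function.Injective (X.presheaf.stalkSpecializes h) := by
  have h1 : X.presheaf.stalkSpecializes h ≫ X.presheaf.stalkSpecializes
      ((genericPoint_spec X).specializes trivial : genericPoint X ⤳ x') =
      X.presheaf.stalkSpecializes ((genericPoint_spec X).specializes trivial : genericPoint X ⤳ x) :=
    X.presheaf.stalkSpecializes_comp _ _
  have h2 := toFF_injective x
  rw [← h1] at h2
  intro a b hab
  apply h2
  simp only [CommRingCat.comp_apply, hab]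

theorem dominant_iff (f : X ⟶ Y) : IsDominant f ↔ f.base (genericPoint ↑X) = genericPoint ↑Y := by
  constructor
  · intro hf
    have hd : DenseRange f := f.denseRange
    have h1 : Set.range f ⊆ closure {f (genericPoint X)} := by
      rintro _ ⟨x, rfl⟩
      have h2 : genericPoint X ⤳ x := (genericPoint_spec X).specializes trivial
      exact (specializes_iff_mem_closure).mp (h2.map f.continuous)
    have h3 : closure {f (genericPoint X)} = Set.univ := by
      apply Set.eq_univ_of_univ_subset
      rw [← hd.closure_range]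
      exact closure_minimal h1 isClosed_closure
    have h4 : IsGenericPoint (f (genericPoint X)) (Set.univ : Set Y) := h3
    exact h4.eq (genericPoint_spec Y)
  · intro h
    refine ⟨?_⟩
    have h1 : Dense ({genericPoint Y} : Set Y) := by
      rw [dense_iff_closure_eq]
      exact (genericPoint_spec Y)
    apply h1.mono
    rintro _ rfl
    exact ⟨genericPoint X, h⟩

theorem stalkMap_injective_of_generic (f : X ⟶ Y) (h : f.base (genericPoint ↑X) = genericPoint ↑Y)
    (x : X) : Function.Injective (f.stalkMap x) := by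
  have hs : genericPoint X ⤳ x := (genericPoint_spec X).specializes trivial
  have hsq := Scheme.Hom.stalkSpecializes_stalkMap f (genericPoint X) x hs
  -- the stalk at `f η` is a field
  have hfield : IsField (Y.presheaf.stalk (f (genericPoint X))) := by
    have : ∀ y : Y, y = genericPoint Y → IsField (Y.presheaf.stalk y) := by
      rintro y rfl
      exact Field.toIsField Y.functionField
    exact this _ h
  letI := hfield.toField
  have hinj1 : Function.Injective (f.stalkMap (genericPoint X)) :=
    RingHom.injective (f.stalkMap (genericPoint X)).hom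
  have hinj2 : Function.Injective (Y.presheaf.stalkSpecializes (f.base.hom.map_specializes hs)) :=
    stalkSpecializes_injective _
  have hcomp : Function.Injective
      (Y.presheaf.stalkSpecializes (f.base.hom.map_specializes hs) ≫ f.stalkMap (genericPoint X)) := by
    intro a b hab
    apply hinj2
    apply hinj1
    simpa using hab
  rw [hsq] at hcomp
  intro a b hab
  apply hcomp
  simp only [CommRingCat.comp_apply, hab]

theorem appLE_injective_of_stalkMap (f : X ⟶ Y) (U : X.Opens) (V : Y.Opens) (hUV : U ≤ f ⁻¹ᵁ V)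
    (x : X) (hx : x ∈ U) (hinj : Function.Injective (f.stalkMap x)) :
    Function.Injective (f.appLE V U hUV) := by
  have hfx : f x ∈ V := hUV hx
  have h1 : f.appLE V U hUV ≫ X.presheaf.germ U x hx =
      Y.presheaf.germ V (f x) hfx ≫ f.stalkMap x := by
    rw [Scheme.Hom.germ_stalkMap, Scheme.Hom.appLE, Category.assoc, X.presheaf.germ_res]
  have h2 : Function.Injective (Y.presheaf.germ V (f x) hfx ≫ f.stalkMap x) := by
    intro a b hab
    apply germ_injective_of_isIntegral Y (f x) hfx
    apply hinj
    simpa using hab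
  rw [← h1] at h2
  intro a b hab
  apply h2
  simp only [CommRingCat.comp_apply, hab]

theorem generic_of_appLE_injective (f : X ⟶ Y) (U : X.Opens) (V : Y.Opens) (hUV : U ≤ f ⁻¹ᵁ V)
    (hV : IsAffineOpen V) (hne : (U : Set ↑X).Nonempty)
    (hinj : Function.Injective (f.appLE V U hUV)) :
    f.base (genericPoint ↑X) = genericPoint ↑Y := by
  haveI : Nonempty U := hne.to_subtype
  have hx : genericPoint X ∈ U :=
    ((genericPoint_spec X).mem_open_set_iff U.isOpen).mpr (by simpa using hne)
  have hy : f (genericPoint X) ∈ V := hUV hx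
  haveI : Nonempty V := ⟨⟨_, hy⟩⟩
  have h1 : f.appLE V U hUV ≫ X.presheaf.germ U (genericPoint X) hx =
      Y.presheaf.germ V (f (genericPoint X)) hy ≫ f.stalkMap (genericPoint X) := by
    rw [Scheme.Hom.germ_stalkMap, Scheme.Hom.appLE, Category.assoc, X.presheaf.germ_res]
  letI : Algebra Γ(Y, V) (Y.presheaf.stalk (f (genericPoint X))) :=
    TopCat.Presheaf.algebra_section_stalk Y.presheaf ⟨f (genericPoint X), hy⟩
  haveI hloc : IsLocalization.AtPrime (Y.presheaf.stalk (f (genericPoint X)))
      (hV.primeIdealOf ⟨f (genericPoint X), hy⟩).asIdeal :=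
    hV.isLocalization_stalk ⟨f (genericPoint X), hy⟩
  have hbot : (hV.primeIdealOf ⟨f (genericPoint X), hy⟩).asIdeal = ⊥ := by
    rw [eq_bot_iff]
    intro b hb
    rw [Ideal.mem_bot]
    by_contra hb0
    have h2 : f.appLE V U hUV b ≠ 0 := by
      intro h0
      exact hb0 (hinj (by rw [h0, map_zero]))
    have h3 : X.presheaf.germ U (genericPoint X) hx (f.appLE V U hUV b) ≠ 0 := by
      intro h0
      apply h2
      apply germ_injective_of_isIntegral X (genericPoint X) hx
      rw [h0, map_zero]
    have h4 : IsUnit (X.presheaf.germ U (genericPoint X) hx (f.appLE V U hUV b)) := by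
      have : IsUnit (show X.functionField from
          X.presheaf.germ U (genericPoint X) hx (f.appLE V U hUV b)) := IsUnit.mk0 _ h3
      exact this
    have h5 : X.presheaf.germ U (genericPoint X) hx (f.appLE V U hUV b) =
        f.stalkMap (genericPoint X) (Y.presheaf.germ V (f (genericPoint X)) hy b) := by
      have := congrArg (fun g => g.hom b) h1
      simpa using this
    rw [h5] at h4
    have h6 : IsUnit (Y.presheaf.germ V (f (genericPoint X)) hy b) :=
      (isUnit_map_iff (f.stalkMap (genericPoint X)).hom _).mp h4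
    have h7 : b ∈ (hV.primeIdealOf ⟨f (genericPoint X), hy⟩).asIdeal.primeCompl :=
      (IsLocalization.AtPrime.isUnit_to_map_iff (Y.presheaf.stalk (f (genericPoint X)))
        (hV.primeIdealOf ⟨f (genericPoint X), hy⟩).asIdeal b).mp h6
    exact h7 hb
  have hgen : hV.primeIdealOf ⟨f (genericPoint X), hy⟩ =
      hV.primeIdealOf ⟨genericPoint Y,
        ((genericPoint_spec Y).mem_open_set_iff V.isOpen).mpr (by simpa using ‹Nonempty V›)⟩ := by
    rw [hV.primeIdealOf_genericPoint, genericPoint_eq_bot_of_affine]
    apply PrimeSpectrum.ext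
    rw [hbot]
    rfl
  have h8 := congrArg hV.fromSpec hgen
  rw [hV.fromSpec_primeIdealOf, hV.fromSpec_primeIdealOf] at h8
  exact h8

theorem exists_affine_pair (f : X ⟶ Y) (x : X) :
    ∃ (U : X.Opens) (V : Y.Opens) (_ : U ≤ f ⁻¹ᵁ V), IsAffineOpen U ∧ IsAffineOpen V ∧ x ∈ U := by
  obtain ⟨V, hV, hfx, -⟩ :=
    (Opens.isBasis_iff_nbhd.mp Y.isBasis_affineOpens) (Opens.mem_top (f x))
  obtain ⟨U, hU, hxU, hUle⟩ :=
    (Opens.isBasis_iff_nbhd.mp X.isBasis_affineOpens) (show x ∈ f ⁻¹ᵁ V from hfx)
  exact ⟨U, V, hUle, hU, hV, hxU⟩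

theorem main {X Y : Scheme.{u}} [AlgebraicGeometry.IsIntegral X] [AlgebraicGeometry.IsIntegral Y] (f : X ⟶ Y) :
    [IsDominant f,
      f.base (genericPoint ↑X) = genericPoint ↑Y,
      ∃ (U : X.Opens) (V : Y.Opens) (hUV : U ≤ f ⁻¹ᵁ V), IsAffineOpen U ∧ IsAffineOpen V ∧ (U : Set ↑X).Nonempty ∧
        Function.Injective (f.appLE V U hUV),
      ∀ (U : X.Opens) (V : Y.Opens) (hUV : U ≤ f ⁻¹ᵁ V), IsAffineOpen U → IsAffineOpen V → (U : Set ↑X).Nonempty →
        Function.Injective (f.appLE V U hUV),
      ∃ x : ↑X, Function.Injective (f.stalkMap x),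
      ∀ x : ↑X, Function.Injective (f.stalkMap x)].TFAE := by
  tfae_have 1 ↔ 2 := dominant_iff f
  tfae_have 2 → 6 := fun h x => stalkMap_injective_of_generic f h x
  tfae_have 6 → 4 := by
    intro h U V hUV _ _ hne
    obtain ⟨x, hx⟩ := hne
    exact appLE_injective_of_stalkMap f U V hUV x hx (h x)
  tfae_have 4 → 3 := by
    intro h
    obtain ⟨U, V, hUV, hU, hV, hxU⟩ := exists_affine_pair f (genericPoint X)
    exact ⟨U, V, hUV, hU, hV, ⟨_, hxU⟩, h U V hUV hU hV ⟨_, hxU⟩⟩
  tfae_have 3 → 2 := by
    rintro ⟨U, V, hUV, -, hV, hne, hinj⟩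
    exact generic_of_appLE_injective f U V hUV hV hne hinj
  tfae_have 6 → 5 := fun h => ⟨genericPoint X, h _⟩
  tfae_have 5 → 3 := by
    rintro ⟨x, hx⟩
    obtain ⟨U, V, hUV, hU, hV, hxU⟩ := exists_affine_pair f x
    exact ⟨U, V, hUV, hU, hV, ⟨_, hxU⟩, appLE_injective_of_stalkMap f U V hUV x hxU hx⟩
  tfae_finish



open AlgebraicGeometry CategoryTheory in
/-- For a morphism f : X → Y between integral schemes, these six conditions coincide: (1) f is dominant;
(2) f sends the generic point of X to that of Y; (3) there exist affine opens U ⊆ X, V ⊆ Y with U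
nonempty and U ⊆ f⁻¹V such that the induced ring map on sections is injective; (4) the same for all
such pairs; (5) for some x ∈ X the map of local rings O_{Y,f x} → O_{X,x} is injective; (6) the same
for all x. -/
theorem result {X Y : Scheme.{u}} [AlgebraicGeometry.IsIntegral X] [AlgebraicGeometry.IsIntegral Y] (f : X ⟶ Y) :
    [IsDominant f,
      f.base (genericPoint ↑X) = genericPoint ↑Y,
      ∃ (U : X.Opens) (V : Y.Opens) (hUV : U ≤ f ⁻¹ᵁ V), IsAffineOpen U ∧ IsAffineOpen V ∧ (U : Set ↑X).Nonempty ∧
        Function.Injective (f.appLE V U hUV),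
      ∀ (U : X.Opens) (V : Y.Opens) (hUV : U ≤ f ⁻¹ᵁ V), IsAffineOpen U → IsAffineOpen V → (U : Set ↑X).Nonempty →
        Function.Injective (f.appLE V U hUV),
      ∃ x : ↑X, Function.Injective (f.stalkMap x),
      ∀ x : ↑X, Function.Injective (f.stalkMap x)].TFAE := by
  exact main f

end Groth.Agent.S9346
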