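import Groth.Statements.S9348
import Mathlib.AlgebraicGeometry.PullbackCarrier

set_option autoImplicit false
universe u
open Dom

namespace Groth.Agent.S9348

open AlgebraicGeometry CategoryTheory in
/-- Let f : X → Y be a morphism and g : Y' → Y open and surjective. If the base change f' : X ×_Y Y' →
Y' of f is quasi-compact, then so is f. -/
theorem result {X Y X' Y' : Scheme.{u}} (f : X ⟶ Y) (g : Y' ⟶ Y) [Surjective g]
    (hg : IsOpenMap g.base) (g' : X' ⟶ X) (f' : X' ⟶ Y') (hsq : IsPullback g' f' f g) [QuasiCompact f'] :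
    QuasiCompact f := by
  constructor
  intro U hUo hUc
  -- for each point of `U` choose a preimage and an affine open neighbourhood inside `g ⁻¹' U`
  have key : ∀ x : Y, x ∈ U → ∃ V : Y'.Opens, IsAffineOpen V ∧ (V : Set Y') ⊆ g.base ⁻¹' U ∧
      x ∈ g.base '' (V : Set Y') := by
    intro x hx
    obtain ⟨y', rfl⟩ := g.surjective x
    have hopen : IsOpen (g.base ⁻¹' U) := hUo.preimage g.continuous
    obtain ⟨_, ⟨V, hV, rfl⟩, hyV, hVU⟩ := (Y'.isBasis_affineOpens).exists_subset_of_mem_open
      (show y' ∈ g.base ⁻¹' U from hx) hopen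
    exact ⟨V, hV, hVU, ⟨y', hyV, rfl⟩⟩
  choose! V hVaff hVsub hVmem using key
  obtain ⟨t, htU, htfin, hcover⟩ := hUc.elim_finite_subcover_image (b := U)
    (c := fun x => g.base '' (V x : Set Y')) (fun x _ => hg _ (V x).2)
    (fun x hx => Set.mem_biUnion hx (hVmem x hx))
  -- the compact open `K'` of `Y'`
  set K' : Set Y' := ⋃ x ∈ t, (V x : Set Y') with hK'
  have hK'open : IsOpen K' := isOpen_biUnion fun x _ => (V x).2
  have hK'cpt : IsCompact K' := htfin.isCompact_biUnion fun x hx => (hVaff x (htU hx)).isCompact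
  have himg : g.base '' K' = U := by
    apply subset_antisymm
    · rw [hK', Set.image_iUnion₂]
      exact Set.iUnion₂_subset fun x hx => Set.image_subset_iff.mpr (hVsub x (htU hx))
    · rw [hK', Set.image_iUnion₂]
      exact hcover
  have h := Scheme.image_preimage_eq_of_isPullback hsq.flip K'
  rw [himg] at h
  rw [← h]
  exact (QuasiCompact.isCompact_preimage (f := f') K' hK'open hK'cpt).image g'.continuous

end Groth.Agent.S9348
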