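import Groth.Statements.S9356
import Mathlib
import Groth.Agent.Lib.Helper3.DimIneqSch

set_option autoImplicit false
universe u
open FibDim

namespace Groth.Agent.S9356
open Groth.Agent.Lib.helper3.DimIneq AlgebraicGeometry CategoryTheory

open AlgebraicGeometry CategoryTheory in
/-- Let f : X → S be locally of finite type and x ⤳ x' a nontrivial specialization of points of the
fibre X_s. Then dim_x(X_s) ≤ dim_{x'}(X_s) and dim O_{X_s,x} < dim O_{X_s,x'}. (The assertion on
transcendence degrees of residue fields is a separate statement.) -/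
theorem result {X S : Scheme.{u}} (f : X ⟶ S) [LocallyOfFiniteType f] (s : S)
    (x x' : ↑(f.fiber s)) (hsp : x ⤳ x') (hne : x ≠ x') :
    FlatMor.localDim ↑(f.fiber s) x ≤ FlatMor.localDim ↑(f.fiber s) x' ∧
      ringKrullDim ((f.fiber s).presheaf.stalk x) < ringKrullDim ((f.fiber s).presheaf.stalk x') := by
  constructor
  · unfold FlatMor.localDim
    exact le_iInf fun ⟨U, hx'U⟩ => iInf_le_of_le ⟨U, hsp.mem_open U.isOpen hx'U⟩ le_rfl
  · haveI : LocallyOfFiniteType (f.fiberToSpecResidueField s) :=
      MorphismProperty.pullback_snd _ _ inferInstance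
    haveI : IsLocallyNoetherian (f.fiber s) :=
      LocallyOfFiniteType.isLocallyNoetherian (f.fiberToSpecResidueField s)
    obtain ⟨U, hU, hxU', -⟩ := exists_isAffineOpen_mem_and_subset (x := x') (U := ⊤) trivial
    have hxU : x ∈ U := hsp.mem_open U.isOpen hxU'
    haveI : IsNoetherianRing Γ(f.fiber s, U) := IsLocallyNoetherian.component_noetherian ⟨U, hU⟩
    have hle := (specializes_iff_primeIdealOf_le hU x x' hxU hxU').mp hsp
    have hneq : (hU.primeIdealOf ⟨x, hxU⟩).asIdeal ≠ (hU.primeIdealOf ⟨x', hxU'⟩).asIdeal := by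
      intro heq
      have : x' ⤳ x := (specializes_iff_primeIdealOf_le hU x' x hxU' hxU).mpr (le_of_eq heq.symm)
      exact hne (hsp.antisymm this).eq
    rw [ringKrullDim_stalk_eq_height hU x hxU, ringKrullDim_stalk_eq_height hU x' hxU']
    have := Ideal.height_strict_mono_of_isPrime (lt_of_le_of_ne hle hneq)
    exact_mod_cast this

end Groth.Agent.S9356
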