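import Groth.Statements.S9360
import Mathlib

set_option autoImplicit false
universe u
open SchDense

namespace Groth.Agent.S9360

section
open CategoryTheory CategoryTheory.Limits AlgebraicGeometry TopologicalSpace

set_option backward.defeqAttrib.useBackward true in
set_option backward.isDefEq.respectTransparency false in
theorem ker_apply_of_isReduced {Z X : Scheme.{u}} (f : Z ⟶ X) [IsReduced Z] (V : X.affineOpens) :
    f.ker.ideal V = RingHom.ker (f.app V).hom := by
  let I : Scheme.IdealSheafData X := ⟨fun V ↦ RingHom.ker (f.app V).hom, ?_, _, rfl⟩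
  · exact congr($(Scheme.IdealSheafData.ofIdeals_ideal I).ideal V)
  intro U s
  apply le_antisymm
  · refine Ideal.map_le_iff_le_comap.mpr fun x hx ↦ ?_
    simp_rw [RingHom.comap_ker, ← CommRingCat.hom_comp, Scheme.affineBasicOpen_coe, f.naturality,
      CommRingCat.hom_comp, ← RingHom.comap_ker]
    exact Ideal.ker_le_comap _ hx
  · intro x hx
    have := U.2.isLocalization_basicOpen s
    obtain ⟨x, ⟨_, n, rfl⟩, rfl⟩ := IsLocalization.exists_mk'_eq (.powers s) x
    refine (IsLocalization.mk'_mem_map_algebraMap_iff _ _ _ _ _).mpr ?_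
    replace hx : (X.presheaf.map (homOfLE (X.basicOpen_le s)).op ≫ f.app _).hom x = 0 := by
      trans (f.app (X.basicOpen s)).hom (algebraMap Γ(X, U) _ x)
      · simp [-NatTrans.naturality, RingHom.algebraMap_toAlgebra]
      · simp only [Scheme.affineBasicOpen_coe, RingHom.mem_ker] at hx
        rw [← IsLocalization.mk'_spec' (M := .powers s), map_mul, hx, mul_zero]
    rw [f.naturality] at hx
    refine ⟨s, ⟨1, pow_one s⟩, ?_⟩
    rw [RingHom.mem_ker, ← basicOpen_eq_bot_iff, map_mul, Scheme.basicOpen_mul,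
      ← Scheme.preimage_basicOpen]
    have h2 := congr(Z.basicOpen $hx)
    rw [Scheme.basicOpen_zero] at h2
    rw [← h2]
    simp only [CommRingCat.hom_comp, RingHom.coe_comp, Function.comp_apply]
    erw [Scheme.basicOpen_res]

theorem isReduced_of_affineOpens (X : Scheme.{u}) (hU : ∀ U : X.affineOpens, _root_.IsReduced Γ(X, U)) :
    IsReduced X := by
  haveI : ∀ x : X, _root_.IsReduced (X.presheaf.stalk x) := by
    intro x
    obtain ⟨U, hU', hx, -⟩ := exists_isAffineOpen_mem_and_subset (x := x) (U := ⊤) trivial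
    have hred := hU ⟨U, hU'⟩
    letI := X.presheaf.algebra_section_stalk ⟨x, hx⟩
    have hl := IsAffineOpen.isLocalization_stalk hU' ⟨x, hx⟩
    exact isReduced_localizationPreserves (hU'.primeIdealOf ⟨x, hx⟩).asIdeal.primeCompl (X.presheaf.stalk x) hred
  exact isReduced_of_isReduced_stalk X

theorem std_iff_of_isReduced {Z X : Scheme.{u}} (f : Z ⟶ X) [IsReduced Z] :
    IsSchemeTheoreticallyDominant f ↔ ∀ V : X.affineOpens, Function.Injective (f.app V).hom := by
  rw [isSchemeTheoreticallyDominant_iff]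
  constructor
  · intro h V
    rw [RingHom.injective_iff_ker_eq_bot, ← ker_apply_of_isReduced, h]
    rfl
  · intro h
    ext V : 2
    rw [ker_apply_of_isReduced, (RingHom.injective_iff_ker_eq_bot _).mp (h V)]
    rfl


end


open AlgebraicGeometry CategoryTheory in
/-- Let U ⊆ X be a reduced open subscheme. Then the scheme-theoretic closure of U in X is X if and only
if U is scheme-theoretically dense in X (for every open W the scheme-theoretic closure of U ∩ W in W
is W); and in that case X is reduced. -/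
theorem result (X : Scheme.{u}) (U : X.Opens) [IsReduced (↑U : Scheme.{u})] :
    (IsSchemeTheoreticallyDominant U.ι ↔
        ∀ W : X.Opens, IsSchemeTheoreticallyDominant (X.homOfLE (inf_le_right : U ⊓ W ≤ W))) ∧
      (IsSchemeTheoreticallyDominant U.ι → IsReduced X) := by
  refine ⟨⟨?_, ?_⟩, ?_⟩
  · intro hU W
    haveI : IsReduced (↑(U ⊓ W) : Scheme.{u}) :=
      isReduced_of_isOpenImmersion (X.homOfLE (inf_le_left : U ⊓ W ≤ U))
    rw [std_iff_of_isReduced] at hU ⊢
    intro V
    have hV' : IsAffineOpen (W.ι ''ᵁ V.1) := V.2.image_of_isOpenImmersion W.ι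
    have hinj := hU ⟨_, hV'⟩
    rw [Scheme.homOfLE_app]
    have hle : U.ι ''ᵁ U.ι ⁻¹ᵁ (W.ι ''ᵁ V.1) ≤
        (U ⊓ W).ι ''ᵁ (X.homOfLE (inf_le_right : U ⊓ W ≤ W)) ⁻¹ᵁ V.1 := by
      rw [Scheme.ι_image_homOfLE_eq_ι_image_inf, Scheme.Hom.image_preimage_eq_opensRange_inf]
      simp only [Scheme.Opens.opensRange_ι]
      refine le_inf inf_le_right (le_inf inf_le_left ?_)
      exact inf_le_right.trans (W.ι_image_le _)
    intro a b hab
    apply hinj
    have : U.ι.app (W.ι ''ᵁ V.1) = X.presheaf.map
      (homOfLE (X.ι_image_homOfLE_le_ι_image (inf_le_right : U ⊓ W ≤ W) V.1)).op ≫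
        X.presheaf.map (homOfLE hle).op := by
      rw [Scheme.Opens.ι_app, ← Functor.map_comp]
      rfl
    rw [this]
    exact congrArg (X.presheaf.map (homOfLE hle).op).hom hab
  · intro h
    have h1 := h ⊤
    have e : U.ι = X.homOfLE (le_inf le_rfl le_top : U ≤ U ⊓ ⊤) ≫
        X.homOfLE (inf_le_right : U ⊓ ⊤ ≤ ⊤) ≫ (⊤ : X.Opens).ι := by
      simp
    haveI : IsIso (X.homOfLE (le_inf le_rfl le_top : U ≤ U ⊓ ⊤)) :=
      ⟨X.homOfLE inf_le_left, by simp, by simp⟩
    haveI : IsIso (⊤ : X.Opens).ι := X.topIso.isIso_hom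
    rw [e]
    infer_instance
  · intro hU
    rw [std_iff_of_isReduced] at hU
    apply isReduced_of_affineOpens
    intro V
    exact isReduced_of_injective _ (hU V)

end Groth.Agent.S9360
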