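import Groth.Statements.S9361
import Mathlib
-- import your own Groth.Agent.* helpers here

set_option autoImplicit false
universe u
open SchImage

namespace Groth.Agent.S9361

open AlgebraicGeometry CategoryTheory in
/-- Let f : X → Y be separated, V ⊆ Y a retrocompact open and s : V → X a section of f over V. If Y' ⊆ X
is the scheme-theoretic image of s, then Y' → Y is an isomorphism over V. -/
theorem result {X Y : Scheme.{u}} (f : X ⟶ Y) [IsSeparated f] (V : Y.Opens) [QuasiCompact V.ι]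
    (s : (↑V : Scheme.{u}) ⟶ X) (hs : s ≫ f = V.ι) :
    IsIso ((s.imageι ≫ f) ∣_ V) := by
  classical
  haveI hqcι : QuasiCompact (s ≫ f) := by rw [hs]; infer_instance
  haveI : QuasiCompact s := QuasiCompact.of_comp s f
  -- kernel of `s.toImage` vanishes
  have hker : s.toImage.ker = ⊥ := by
    refine Scheme.IdealSheafData.ext_of_iSup_eq_top
      (fun U : X.affineOpens => (⟨s.imageι ⁻¹ᵁ U.1, U.2.preimage s.imageι⟩ : s.image.affineOpens))
      ?_ (fun U => ?_)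
    · rw [eq_top_iff]
      intro x _
      have hx : s.imageι x ∈ (⨆ U : X.affineOpens, U.1 : X.Opens) := by
        rw [iSup_affineOpens_eq_top]; trivial
      obtain ⟨U, hU⟩ := TopologicalSpace.Opens.mem_iSup.mp hx
      exact TopologicalSpace.Opens.mem_iSup.mpr ⟨U, hU⟩
    · rw [Scheme.Hom.ker_apply, Scheme.IdealSheafData.ideal_bot]
      exact (RingHom.injective_iff_ker_eq_bot _).1 (s.toImage_app_injective U)
  have hfac : s.toImage ≫ (s.imageι ≫ f) = V.ι := by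
    rw [← Category.assoc, s.toImage_imageι, hs]
  -- the restriction of `s.toImage`
  have hcomp : (s.toImage ≫ (s.imageι ≫ f)) ∣_ V =
      (s.toImage ∣_ (s.imageι ≫ f) ⁻¹ᵁ V) ≫ ((s.imageι ≫ f) ∣_ V) :=
    morphismRestrict_comp _ _ _
  have hisoι : IsIso (V.ι ∣_ V) := by
    have h1 : (V.ι ∣_ V) ≫ V.ι = (V.ι ⁻¹ᵁ V).ι ≫ V.ι := morphismRestrict_ι _ _
    have h2 : V.ι ∣_ V = (V.ι ⁻¹ᵁ V).ι := (cancel_mono V.ι).1 h1
    have h3 : V.ι ⁻¹ᵁ V = ⊤ := V.ι_preimage_self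
    rw [h2]
    rw [h3]
    exact inferInstanceAs (IsIso (V : Scheme.{u}).topIso.hom)
  have hisoAB : IsIso ((s.toImage ≫ (s.imageι ≫ f)) ∣_ V) := by
    rw [hfac]
    exact hisoι
  rw [hcomp] at hisoAB
  haveI : IsClosedImmersion
      ((s.toImage ∣_ (s.imageι ≫ f) ⁻¹ᵁ V) ≫ ((s.imageι ≫ f) ∣_ V)) :=
    @IsClosedImmersion.instOfIsIsoScheme _ _ _ hisoAB
  haveI : IsSeparated ((s.imageι ≫ f) ∣_ V) := inferInstance
  haveI hci : IsClosedImmersion (s.toImage ∣_ (s.imageι ≫ f) ⁻¹ᵁ V) :=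
    IsClosedImmersion.of_comp _ ((s.imageι ≫ f) ∣_ V)
  haveI hA : IsIso (s.toImage ∣_ (s.imageι ≫ f) ⁻¹ᵁ V) := by
    rw [IsClosedImmersion.isIso_iff_ker_eq_bot]
    apply Scheme.IdealSheafData.ext
    funext W
    rw [Scheme.ker_morphismRestrict_ideal, hker]
    rfl
  exact @IsIso.of_isIso_comp_left _ _ _ _ _ (s.toImage ∣_ (s.imageι ≫ f) ⁻¹ᵁ V)
    ((s.imageι ≫ f) ∣_ V) hA hisoAB

end Groth.Agent.S9361
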