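import Groth.Statements.S9362
import Mathlib
import Groth.Agent.Lib.Helper11.SerreCrit
import Groth.Agent.Lib.Helper11.QCohSigma
import Groth.Agent.Lib.Helper21.ModGroth
-- import your own Groth.Agent.* helpers here

set_option autoImplicit false
universe u
open QCohSub

namespace Groth.Agent.S9362

open AlgebraicGeometry CategoryTheory in
/-- Let F be a quasi-coherent O_X-module and G ⊆ F an O_X-submodule. There is a quasi-coherent submodule
G' ⊆ G such that Hom(H, G') → Hom(H, G) is bijective for every quasi-coherent O_X-module H; in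
particular G' is the largest quasi-coherent submodule of F contained in G (it is unique up to unique
isomorphism over G). -/
theorem result (X : Scheme.{u}) (F G : X.Modules) (hF : Coh.IsQCoh F) (j : G ⟶ F) [Mono j] :
    ∃ (G' : X.Modules) (k : G' ⟶ G), Coh.IsQCoh G' ∧ Mono k ∧
      ∀ H : X.Modules, Coh.IsQCoh H → Function.Bijective (fun φ : H ⟶ G' => φ ≫ k) := by
  classical
  haveI : F.IsQuasicoherent := hF
  haveI : IsGrothendieckAbelian.{u} X.Modules :=
    Groth.Agent.Lib.Helper21.ModGroth.isGrothendieckAbelian_mod X.ringCatSheaf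
  haveI : Small.{u} (Subobject F) := inferInstance
  let I := {A : Subobject F // A ≤ Subobject.mk j ∧ ((A : X.Modules)).IsQuasicoherent}
  let J := Shrink.{u} I
  let E : J → X.Modules := fun a => (((equivShrink I).symm a).1 : X.Modules)
  have hE : ∀ a, (E a).IsQuasicoherent := fun a => ((equivShrink I).symm a).2.2
  let σ : ∐ E ⟶ F := Limits.Sigma.desc (fun a => ((equivShrink I).symm a).1.arrow)
  haveI : (∐ E).IsQuasicoherent :=
    Groth.Agent.Lib.helper11.QCohSigma.isQuasicoherent_sigma E hE
  let S : Subobject F := Limits.imageSubobject σ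
  have hSle : S ≤ Subobject.mk j := by
    refine Limits.imageSubobject_le σ
      (Limits.Sigma.desc (fun a => Subobject.ofLE _ _ ((equivShrink I).symm a).2.1)) ?_
    apply Limits.Sigma.hom_ext
    intro a
    simp [σ]
  have hkey : ∀ a : J, ((equivShrink I).symm a).1 ≤ S := by
    intro a
    refine Subobject.le_of_comm (Limits.Sigma.ι E a ≫ Limits.factorThruImageSubobject σ) ?_
    simp [S, σ]
  have hiso : ∀ {A B : X.Modules} (f : A ⟶ B) [A.IsQuasicoherent] [B.IsQuasicoherent],
      ((Limits.imageSubobject f : Subobject B) : X.Modules).IsQuasicoherent := by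
    intro A B f _ _
    have h1 := Groth.Agent.Lib.helper11.SerreCrit.isQuasicoherent_image f
    exact Groth.Agent.Lib.helper7.QCohProd.isQuasicoherent_of_iso
      ((Abelian.imageIsoImage f).trans (Limits.imageSubobjectIso f).symm) h1
  refine ⟨(S : X.Modules), Subobject.ofLEMk S j hSle, hiso σ, ?_, ?_⟩
  · have h1 : Subobject.ofLEMk S j hSle ≫ j = S.arrow := Subobject.ofLEMk_comp hSle
    exact mono_of_mono_fac h1
  · intro H hH
    haveI : H.IsQuasicoherent := hH
    have hmono : Mono (Subobject.ofLEMk S j hSle) :=
      mono_of_mono_fac (Subobject.ofLEMk_comp hSle)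
    constructor
    · intro φ₁ φ₂ h
      exact (cancel_mono (Subobject.ofLEMk S j hSle)).1 h
    · intro ψ
      have hA1 : Limits.imageSubobject (ψ ≫ j) ≤ Subobject.mk j :=
        Limits.imageSubobject_le _ (ψ ≫ (Subobject.underlyingIso j).inv) (by simp)
      have hA2 : ((Limits.imageSubobject (ψ ≫ j) : Subobject F) : X.Modules).IsQuasicoherent :=
        hiso (ψ ≫ j)
      have hAS : Limits.imageSubobject (ψ ≫ j) ≤ S := by
        have := hkey (equivShrink I ⟨Limits.imageSubobject (ψ ≫ j), hA1, hA2⟩)
        rw [Equiv.symm_apply_apply] at this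
        exact this
      refine ⟨Limits.factorThruImageSubobject (ψ ≫ j) ≫ Subobject.ofLE _ S hAS, ?_⟩
      change (Limits.factorThruImageSubobject (ψ ≫ j) ≫ Subobject.ofLE _ S hAS) ≫
        Subobject.ofLEMk S j hSle = ψ
      rw [← cancel_mono j]
      simp [Subobject.ofLEMk_comp]

end Groth.Agent.S9362
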