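import Groth.Statements.S9367
import Groth.Agent.LibSyntStd29
import Groth.Agent.S9366
import Groth.Agent.Lib.Helper5.FibreDimLocal
-- import your own Groth.Agent.* helpers here

set_option autoImplicit false
universe u
open Synt

namespace Groth.Agent.S9367

open AlgebraicGeometry CategoryTheory Groth.Agent.LibSyntStd29 Groth.Agent.Lib.helper5.FibreDimLocal

/-- on a standard syntomic chart the fibre dimension is constant. -/
theorem fibreDimAt_eq_of_isStandardSyntomic {X S : Scheme.{u}} (f : X ⟶ S) (U : X.affineOpens)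
    (V : S.affineOpens) (e : U.1 ≤ f ⁻¹ᵁ V.1) (hstd : Synt.IsStandardSyntomic (f.resLE V.1 U.1 e)) :
    ∃ d : ℕ, ∀ y ∈ U.1, FlatMor.fibreDimAt f y = ((d : ℕ) : WithBot ℕ∞) := by
  obtain ⟨R, _, n, c, F, hF, e₁, e₂, comm⟩ := hstd
  refine ⟨n - c, fun y hy => ?_⟩
  have h1 : FlatMor.fibreDimAt (f.resLE V.1 U.1 e) ⟨y, hy⟩ = FlatMor.fibreDimAt f y :=
    fibreDimAt_eq_of_comm U.1.ι V.1.ι (f.resLE V.1 U.1 e) f (Scheme.Hom.resLE_comp_ι f e).symm
      U.1.ι.isOpenEmbedding Subtype.val_injective ⟨y, hy⟩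
  have h2 := fibreDimAt_eq_of_comm e₁.hom e₂.hom (f.resLE V.1 U.1 e)
    (Spec.map (CommRingCat.ofHom (algebraMap R (Synt.RelGCIRing R n c F)))) comm
    e₁.hom.isOpenEmbedding (e₂.hom.homeomorph.injective) ⟨y, hy⟩
  rw [← h1, h2]
  exact Groth.Agent.S9366.result R n c F hF _


open AlgebraicGeometry CategoryTheory in
/-- If f : X → S is syntomic, then x ↦ dim_x(X_{f x}) is locally constant on X. -/
theorem result {X S : Scheme.{u}} (f : X ⟶ S) (hf : Synt.IsSyntomicMor f) :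
    IsLocallyConstant (fun x : ↑X => FlatMor.fibreDimAt f x) := by
  rw [IsLocallyConstant.iff_exists_open]
  intro x
  obtain ⟨V, hV, hxV, -⟩ := TopologicalSpace.Opens.isBasis_iff_nbhd.mp S.isBasis_affineOpens
    (TopologicalSpace.Opens.mem_top (f.base x))
  obtain ⟨U, e, hxU, hstd⟩ := (isSyntomicAt_iff_exists_standard f x ⟨V, hV⟩ hxV).mp (hf x)
  obtain ⟨d, hd⟩ := fibreDimAt_eq_of_isStandardSyntomic f U ⟨V, hV⟩ e hstd
  exact ⟨U.1.1, U.1.2, hxU, fun y hy => by rw [hd y hy, hd x hxU]⟩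

end Groth.Agent.S9367
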