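import Groth.Statements.S9369
import Groth.Agent.Lib.Helper7.OmegaUniv
import Groth.Agent.Lib.Helper7.OmegaPush
import Groth.Agent.Lib.Helper7.QCohAffineHom

set_option autoImplicit false
universe u
open OmegaSh

namespace Groth.Agent.S9369

open AlgebraicGeometry CategoryTheory in
/-- For a morphism of affine schemes f : X → S and an O_X-module F, restricting an S-derivation O_X → F
to global sections is a bijection onto the derivations of Γ(X, O_X) into Γ(X, F) over Γ(S, O_S)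
(additive, Leibniz, killing the image of Γ(S, O_S)). -/
theorem result {X S : Scheme.{u}} [IsAffine X] [IsAffine S] (f : X ⟶ S) (F : X.Modules) :
    Function.Injective (fun D : OmegaSh.Der f F => D.app ⊤) ∧
      ∀ δ : Γ(X, ⊤) →+ Γ(F, ⊤),
        ((∀ a b : Γ(X, ⊤), δ (a * b) = a • δ b + b • δ a) ∧ ∀ c : Γ(S, ⊤), δ (f.appTop c) = 0) ↔
          ∃ D : OmegaSh.Der f F, D.app ⊤ = δ := by
  have htop : (⊤ : X.Opens) ≤ f ⁻¹ᵁ ⊤ := le_top
  letI := (f.appLE ⊤ ⊤ htop).hom.toAlgebra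
  obtain ⟨ψ, hψ⟩ := Groth.Agent.Lib.helper7.OmegaLocal.exists_sectionsEquiv_dSect f
    (isAffineOpen_top X) (isAffineOpen_top S) htop
  have huniv := Groth.Agent.Lib.helper7.OmegaUniv.isUniversal_dOmega f
  have happ : ∀ c : Γ(S, ⊤), (f.appLE ⊤ ⊤ htop).hom c = f.appTop c := by
    intro c
    rw [Scheme.Hom.appLE]
    simp [Scheme.Hom.appTop]
  constructor
  · intro D₁ D₂ h
    obtain ⟨φ₁, h₁, -⟩ := huniv F D₁
    obtain ⟨φ₂, h₂, -⟩ := huniv F D₂
    have hφ : φ₁ = φ₂ := by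
      refine Groth.Agent.Lib.helper7.QCohAffineHom.hom_ext_of_top _ _ φ₁ φ₂ (fun m => ?_)
      have := Groth.Agent.Lib.helper7.OmegaUniv.eq_of_eq_on_dSect f (isAffineOpen_top X)
        (isAffineOpen_top S) htop (RingHom.id _) (φ₁.app ⊤).hom (φ₂.app ⊤).hom
        (fun b x => Scheme.Modules.Hom.app_smul φ₁ b x)
        (fun b x => Scheme.Modules.Hom.app_smul φ₂ b x)
        (fun b => by
          have e1 := congrArg (fun D => OmegaSh.Der.app (f := f) D ⊤ b) h₁
          have e2 := congrArg (fun D => OmegaSh.Der.app (f := f) D ⊤ b) h₂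
          simp only [Groth.Agent.Lib.helper7.OmegaPush.postcomp_app] at e1 e2
          have e3 : D₁.app ⊤ b = D₂.app ⊤ b := congr($h b)
          exact e1.trans (e3.trans e2.symm))
      exact congr($this m)
    rw [← h₁, ← h₂, hφ]
  · intro δ
    constructor
    · rintro ⟨hL, hS⟩
      obtain ⟨l, hl⟩ := Groth.Agent.Lib.helper7.OmegaUniv.exists_lift_of_leibniz Γ(S, ⊤) Γ(X, ⊤)
        Γ(F, ⊤) δ hL (fun c => by
          change δ ((f.appLE ⊤ ⊤ htop).hom c) = 0
          rw [happ]; exact hS c)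
      obtain ⟨φ, hφ⟩ := Groth.Agent.Lib.helper7.QCohAffineHom.exists_hom_of_top (Omega.sheaf f) F
        (l ∘ₗ ψ.toLinearMap)
      refine ⟨(OmegaSh.dOmega f).postcomp φ.val, ?_⟩
      ext b
      rw [Groth.Agent.Lib.helper7.OmegaPush.postcomp_app]
      change φ.app ⊤ (OmegaSh.dSect f ⊤ b) = δ b
      rw [hφ]
      change l (ψ (OmegaSh.dSect f ⊤ b)) = δ b
      rw [hψ, hl]
    · rintro ⟨D, rfl⟩
      refine ⟨Groth.Agent.Lib.helper7.OmegaUniv.der_mul f D ⊤, fun c => ?_⟩
      rw [← happ]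
      exact Groth.Agent.Lib.helper7.OmegaUniv.der_appLE f D htop c

end Groth.Agent.S9369
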