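import Groth.Statements.S9373
import Mathlib
import Groth.Agent.Lib.Helper28.QCohSupport
-- import your own Groth.Agent.* helpers here

set_option autoImplicit false
universe u
open QCohSub

namespace Groth.Agent.S9373

open AlgebraicGeometry CategoryTheory in
/-- The support of a quasi-coherent O_X-module is closed under specialization. -/
theorem result (X : Scheme.{u}) (F : X.Modules) (hF : Coh.IsQCoh F) :
    StableUnderSpecialization (CohB1.support F) := by
  haveI : F.IsQuasicoherent := hF
  intro x y hxy hx
  obtain ⟨U, hU, hyU, -⟩ := exists_isAffineOpen_mem_and_subset (x := y) (U := ⊤) trivial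
  have hxU : x ∈ U := hxy.mem_open U.2 hyU
  have h1 := (Groth.Agent.Lib.helper28.primeIdealOf_mem_support_iff F hU x hxU).mpr hx
  have hle : hU.primeIdealOf ⟨x, hxU⟩ ≤ hU.primeIdealOf ⟨y, hyU⟩ := by
    rw [PrimeSpectrum.le_iff_specializes]
    have h2 : (⟨x, hxU⟩ : U) ⤳ ⟨y, hyU⟩ := (subtype_specializes_iff _ _).mpr hxy
    exact h2.map hU.isoSpec.hom.continuous
  exact (Groth.Agent.Lib.helper28.primeIdealOf_mem_support_iff F hU y hyU).mp
    (Module.mem_support_mono hle h1)

end Groth.Agent.S9373
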