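import Groth.Statements.S9374
import Groth.Agent.Lib.Helper5.CMQF12
import Groth.Agent.Lib.Helper3.QFinAffineSpace3
import Groth.Agent.Lib.Helper3.AffSpaceDim
import Groth.Agent.Lib.Helper3.FibreComp
import Groth.Agent.Lib.Helper3.EquidimAt

set_option autoImplicit false
universe u
open FibDim

namespace Groth.Agent.S9374

open AlgebraicGeometry CategoryTheory in
/-- Let f : X → S be flat, locally of finite presentation, with Cohen–Macaulay fibres. Then x ↦
dim_x(X_{f x}) is locally constant on X. (The published statement also decomposes X into the open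
and closed pieces X_d = {dim_x(X_{f x}) = d} and says f has relative dimension d on X_d; this row
asserts only the local constancy.) -/
theorem result {X S : Scheme.{u}} (f : X ⟶ S) [Flat f]
    [LocallyOfFinitePresentation f] (hcm : ∀ x : X, MoreMor.IsCMAt f x) :
    IsLocallyConstant (fun x : ↑X => FlatMor.fibreDimAt f x) := by
  rw [IsLocallyConstant.iff_exists_open]
  intro x
  obtain ⟨r, d, U, hx, g, h1, h2, h3, -, -⟩ :=
    Groth.Agent.Lib.helper5.CMQF.exists_flat_quasiFinite_of_isCMAt f x (hcm x)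
  haveI := h2
  haveI := h3
  haveI : LocallyOfFiniteType (g ≫ (𝔸(ULift.{u} (Fin (r + d)); S) ↘ S)) := by
    rw [h1]
    infer_instance
  haveI : LocallyOfFiniteType g :=
    locallyOfFiniteType_of_comp g (𝔸(ULift.{u} (Fin (r + d)); S) ↘ S)
  have key : ∀ x' : X, x' ∈ U → FlatMor.fibreDimAt f x' = ((r + d : ℕ) : WithBot ℕ∞) := by
    intro x' hx'
    have e1 := Groth.Agent.Lib.helper3.EquidimAt.fibreDimAt_comp_opens_ι f U ⟨x', hx'⟩
    have e2 := (Groth.Agent.Lib.helper3.FibreComp.fibreDimAt_comp g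
      (𝔸(ULift.{u} (Fin (r + d)); S) ↘ S) ⟨x', hx'⟩).2 (AlgebraicGeometry.Flat.stalkMap g _)
    have e3 := (Groth.Agent.Lib.helper3.QFinAffineSpace.fibreDimAt_eq_zero_of_lqf g ⟨x', hx'⟩).1
    have e4 := Groth.Agent.Lib.helper3.AffSpaceDim.fibreDimAt_affineSpace_over S (r + d)
      (g ⟨x', hx'⟩)
    rw [e3, e4, zero_add, h1] at e2
    rw [← e2, e1]
    rfl
  refine ⟨U, U.isOpen, hx, fun x' hx' => ?_⟩
  rw [key x' hx', key x hx]

end Groth.Agent.S9374
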