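import Groth.Statements.S9380
import Mathlib
import Groth.Agent.S3569
import Groth.Agent.S8255

set_option autoImplicit false
universe u
open QAff

namespace Groth.Agent.S9380

section helpers
open AlgebraicGeometry CategoryTheory TopologicalSpace Opposite

theorem exists_affine_mem {S : Scheme.{u}} (s : S) : ∃ V : S.affineOpens, s ∈ V.1 := by
  obtain ⟨_, ⟨U, hU, rfl⟩, hxU, -⟩ := S.isBasis_affineOpens.exists_subset_of_mem_open
    (Set.mem_univ s) isOpen_univ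
  exact ⟨⟨U, hU⟩, hxU⟩

theorem isOpenImmersion_toSpecΓ {X : Scheme.{u}} (W : X.Opens) (h : W.toScheme.IsQuasiAffine) :
    IsOpenImmersion W.toSpecΓ := by
  rw [Scheme.Opens.toSpecΓ]
  infer_instance

end helpers

open AlgebraicGeometry CategoryTheory in
/-- A quasi-compact quasi-separated morphism f : X → S is quasi-affine if and only if the canonical
S-morphism X → Spec_S(f_*O_X) (the one inducing the comparison map on direct-image algebras) exists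
as a quasi-compact open immersion. -/
theorem result {X S : Scheme.{u}} (f : X ⟶ S) [QuasiCompact f] [QuasiSeparated f] :
    MoreMor.IsQuasiAffineHom f ↔
      ∃ (c : X ⟶ (RelSpec.QCAlg.directImage f).spec) (e : c ≫ (RelSpec.QCAlg.directImage f).π = f),
        (RelSpec.QCAlg.directImage f).gammaMap = AffAlg.algHom (RelSpec.QCAlg.directImage f).π f c e ∧
          QuasiCompact c ∧ IsOpenImmersion c := by
  set 𝒜 := RelSpec.QCAlg.directImage f with h𝒜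
  constructor
  · rintro ⟨-, hqa⟩
    let ω : AffAlg.algHoms 𝒜.π f := ⟨𝒜.gammaMap, 𝒜.π_c_gammaMap⟩
    obtain ⟨⟨c, e⟩, hc⟩ := (Groth.Agent.S3569.result 𝒜.π f).2 ω
    have hc' : AffAlg.algHom 𝒜.π f c e = 𝒜.gammaMap := congrArg Subtype.val hc
    refine ⟨c, e, hc'.symm, ?_, ?_⟩
    · have : QuasiCompact (c ≫ 𝒜.π) := by rw [e]; infer_instance
      exact QuasiCompact.of_comp c 𝒜.π
    · have hcov : (⨆ V : S.affineOpens, 𝒜.π ⁻¹ᵁ V.1) = ⊤ := by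
        rw [eq_top_iff]
        intro x _
        obtain ⟨V, hV⟩ := exists_affine_mem (𝒜.π.base x)
        exact TopologicalSpace.Opens.mem_iSup.mpr ⟨V, hV⟩
      rw [IsZariskiLocalAtTarget.iff_of_iSup_eq_top (P := @IsOpenImmersion) _ hcov]
      intro V
      have hU : IsAffineOpen (𝒜.π ⁻¹ᵁ V.1) := V.2.preimage 𝒜.π
      have hUV : c ⁻¹ᵁ (𝒜.π ⁻¹ᵁ V.1) = f ⁻¹ᵁ V.1 := by rw [← Scheme.Hom.comp_preimage, e]
      have hq : (c ⁻¹ᵁ (𝒜.π ⁻¹ᵁ V.1)).toScheme.IsQuasiAffine := hUV ▸ hqa V.1 V.2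
      have := isOpenImmersion_toSpecΓ _ hq
      have hiso : IsIso (c.appLE (𝒜.π ⁻¹ᵁ V.1) (c ⁻¹ᵁ (𝒜.π ⁻¹ᵁ V.1)) le_rfl) := by
        have h1 : c.appLE (𝒜.π ⁻¹ᵁ V.1) (c ⁻¹ᵁ (𝒜.π ⁻¹ᵁ V.1)) le_rfl ≫
            X.presheaf.map (homOfLE hUV.ge).op = c.appLE (𝒜.π ⁻¹ᵁ V.1) (f ⁻¹ᵁ V.1) hUV.ge :=
          Scheme.Hom.appLE_map _ _ _
        have h2 : c.appLE (𝒜.π ⁻¹ᵁ V.1) (f ⁻¹ᵁ V.1) hUV.ge = 𝒜.gammaMap.app (Opposite.op V.1) := by
          rw [← hc', Groth.Agent.S3569.algHom_app]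
        have : IsIso 𝒜.gammaMap := Groth.Agent.S8255.result 𝒜
        have h3 : IsIso (𝒜.gammaMap.app (Opposite.op V.1)) := inferInstance
        have h4 : IsIso (X.presheaf.map (homOfLE hUV.ge).op) := by
          have : IsIso (homOfLE hUV.ge) := ⟨homOfLE hUV.le, rfl, rfl⟩
          infer_instance
        rw [← h2, ← h1] at h3
        exact @IsIso.of_isIso_comp_right _ _ _ _ _ _ (X.presheaf.map (homOfLE hUV.ge).op) h4 h3
      have hcomp : IsOpenImmersion ((c ∣_ (𝒜.π ⁻¹ᵁ V.1)) ≫ (𝒜.π ⁻¹ᵁ V.1).ι) := by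
        rw [morphismRestrict_ι, Groth.Agent.S3569.ι_comp_eq c hU _ le_rfl]
        infer_instance
      exact IsOpenImmersion.of_comp (c ∣_ (𝒜.π ⁻¹ᵁ V.1)) (𝒜.π ⁻¹ᵁ V.1).ι
  · rintro ⟨c, e, -, hqc, hoi⟩
    refine ⟨inferInstance, fun V hV => ?_⟩
    have hU : IsAffineOpen (𝒜.π ⁻¹ᵁ V) := hV.preimage 𝒜.π
    have hle : f ⁻¹ᵁ V ≤ c ⁻¹ᵁ (𝒜.π ⁻¹ᵁ V) := by rw [← Scheme.Hom.comp_preimage, e]
    have : IsAffine (𝒜.π ⁻¹ᵁ V).toScheme := hU
    have : CompactSpace (f ⁻¹ᵁ V).toScheme :=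
      isCompact_iff_compactSpace.mp (f.isCompact_preimage hV.isCompact)
    have hcomp : IsOpenImmersion (c.resLE (𝒜.π ⁻¹ᵁ V) (f ⁻¹ᵁ V) hle ≫ (𝒜.π ⁻¹ᵁ V).ι) := by
      rw [Scheme.Hom.resLE_comp_ι]
      infer_instance
    have : IsOpenImmersion (c.resLE (𝒜.π ⁻¹ᵁ V) (f ⁻¹ᵁ V) hle) :=
      IsOpenImmersion.of_comp _ (𝒜.π ⁻¹ᵁ V).ι
    exact Scheme.IsQuasiAffine.of_isImmersion (c.resLE (𝒜.π ⁻¹ᵁ V) (f ⁻¹ᵁ V) hle)

end Groth.Agent.S9380
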