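import Groth.Statements.S9382
import Mathlib

set_option autoImplicit false
universe u
open QCohSub

namespace Groth.Agent.S9382

open AlgebraicGeometry CategoryTheory in
/-- For closed subschemes Z, Y ⊆ X with ideal sheaves I, J, the scheme-theoretic intersection (ideal
sheaf I ⊔ J) together with its inclusions into Z and Y forms a cartesian square over X. -/
theorem result (X : Scheme.{u}) (I J : X.IdealSheafData) :
    IsPullback (Scheme.IdealSheafData.inclusion (le_sup_left : I ≤ I ⊔ J))
      (Scheme.IdealSheafData.inclusion (le_sup_right : J ≤ I ⊔ J)) I.subschemeι J.subschemeι := by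
  have hcomm : Scheme.IdealSheafData.inclusion (le_sup_left : I ≤ I ⊔ J) ≫ I.subschemeι =
      Scheme.IdealSheafData.inclusion (le_sup_right : J ≤ I ⊔ J) ≫ J.subschemeι := by
    rw [Scheme.IdealSheafData.inclusion_subschemeι, Scheme.IdealSheafData.inclusion_subschemeι]
  refine ⟨⟨hcomm⟩, ⟨Limits.PullbackCone.IsLimit.mk _ (fun s => ?_) (fun s => ?_) (fun s => ?_)
    (fun s m h1 h2 => ?_)⟩⟩
  · -- the lift
    refine IsClosedImmersion.lift (I ⊔ J).subschemeι (s.fst ≫ I.subschemeι) ?_
    rw [Scheme.IdealSheafData.ker_subschemeι]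
    refine sup_le ?_ ?_
    · have := Scheme.Hom.le_ker_comp s.fst I.subschemeι
      rwa [Scheme.IdealSheafData.ker_subschemeι] at this
    · rw [s.condition]
      have := Scheme.Hom.le_ker_comp s.snd J.subschemeι
      rwa [Scheme.IdealSheafData.ker_subschemeι] at this
  · rw [← cancel_mono I.subschemeι, Category.assoc,
      Scheme.IdealSheafData.inclusion_subschemeι, IsClosedImmersion.lift_fac]
  · rw [← cancel_mono J.subschemeι, Category.assoc,
      Scheme.IdealSheafData.inclusion_subschemeι, IsClosedImmersion.lift_fac, s.condition]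
  · rw [← cancel_mono (I ⊔ J).subschemeι, IsClosedImmersion.lift_fac, ← h1, Category.assoc,
      Scheme.IdealSheafData.inclusion_subschemeι]

end Groth.Agent.S9382
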