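import Groth.Statements.S9383
import Groth.Agent.Lib.Helper12.PushoutCrit

set_option autoImplicit false
universe u
open QCohSub

namespace Groth.Agent.S9383


section Helpers
open AlgebraicGeometry CategoryTheory Scheme.IdealSheafData Groth.Agent.Lib.Helper12
variable {S : Scheme.{u}}

theorem incl_closed {I J : S.IdealSheafData} (h : I ≤ J) : IsClosedImmersion (inclusion h) := by
  haveI : IsClosedImmersion (inclusion h ≫ I.subschemeι) := by
    rw [inclusion_subschemeι]; infer_instance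
  exact IsClosedImmersion.of_comp_isClosedImmersion (inclusion h) I.subschemeι

theorem rho_surj (K : S.IdealSheafData) (U : S.affineOpens) (O : K.subscheme.Opens)
    (hO : O = K.subschemeι ⁻¹ᵁ U.1) :
    Function.Surjective (K.subschemeι.appLE U.1 O (le_of_eq hO)) := by
  subst hO
  rw [← Scheme.Hom.app_eq_appLE]
  exact K.subschemeι_app_surjective U

theorem rho_ker (K : S.IdealSheafData) (U : S.affineOpens) (O : K.subscheme.Opens)
    (hO : O = K.subschemeι ⁻¹ᵁ U.1) (r : Γ(S, U.1)) :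
    K.subschemeι.appLE U.1 O (le_of_eq hO) r = 0 ↔ r ∈ K.ideal U := by
  subst hO
  rw [← Scheme.Hom.app_eq_appLE, ← K.ker_subschemeι_app U, RingHom.mem_ker]

theorem rho_eq_iff (K : S.IdealSheafData) (U : S.affineOpens) (O : K.subscheme.Opens)
    (hO : O = K.subschemeι ⁻¹ᵁ U.1) (r r' : Γ(S, U.1)) :
    K.subschemeι.appLE U.1 O (le_of_eq hO) r = K.subschemeι.appLE U.1 O (le_of_eq hO) r' ↔
      r - r' ∈ K.ideal U := by
  rw [← rho_ker K U O hO, map_sub, sub_eq_zero]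

theorem support_inf' (I J : S.IdealSheafData) :
    (I ⊓ J).support = I.support ⊔ J.support := by
  rw [← support_radical, radical_inf, ← radical_mul, support_radical, support_mul]

theorem incl_apply {I J : S.IdealSheafData} (h : I ≤ J) (x : J.subscheme) :
    I.subschemeι.base ((inclusion h).base x) = J.subschemeι.base x := by
  rw [← Scheme.Hom.comp_apply, inclusion_subschemeι]

theorem incl_injective {I J : S.IdealSheafData} (h : I ≤ J) :
    Function.Injective (inclusion h).base := by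
  intro x x' hx
  apply J.subschemeι.isEmbedding.injective
  rw [← incl_apply h, ← incl_apply h, hx]

theorem comp_rho {K K' : S.IdealSheafData} (h : K ≤ K') (U : S.Opens) (O : K.subscheme.Opens)
    (O' : K'.subscheme.Opens) (e : O ≤ K.subschemeι ⁻¹ᵁ U) (e' : O' ≤ (inclusion h) ⁻¹ᵁ O)
    (e'' : O' ≤ K'.subschemeι ⁻¹ᵁ U) :
    K.subschemeι.appLE U O e ≫ (inclusion h).appLE O O' e' = K'.subschemeι.appLE U O' e'' := by
  rw [Scheme.Hom.appLE_comp_appLE]
  exact PushoutCrit.appLE_congr_hom _ _ (inclusion_subschemeι h) _ _ _ _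

theorem comp_rho_apply {K K' : S.IdealSheafData} (h : K ≤ K') (U : S.Opens) (O : K.subscheme.Opens)
    (O' : K'.subscheme.Opens) (e : O ≤ K.subschemeι ⁻¹ᵁ U) (e' : O' ≤ (inclusion h) ⁻¹ᵁ O)
    (e'' : O' ≤ K'.subschemeι ⁻¹ᵁ U) (r : Γ(S, U)) :
    (inclusion h).appLE O O' e' (K.subschemeι.appLE U O e r) = K'.subschemeι.appLE U O' e'' r := by
  rw [← comp_rho h U O O' e e' e'']; rfl

theorem preimage_incl {K K' : S.IdealSheafData} (h : K ≤ K') (U : S.Opens) :
    (inclusion h) ⁻¹ᵁ (K.subschemeι ⁻¹ᵁ U) = K'.subschemeι ⁻¹ᵁ U := by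
  rw [← Scheme.Hom.comp_preimage, inclusion_subschemeι]

theorem app_rho {K K' : S.IdealSheafData} (h : K ≤ K') (U : S.Opens) (r : Γ(S, U)) :
    (inclusion h).app (K.subschemeι ⁻¹ᵁ U) (K.subschemeι.appLE U (K.subschemeι ⁻¹ᵁ U) le_rfl r) =
      K'.subschemeι.appLE U ((inclusion h) ⁻¹ᵁ (K.subschemeι ⁻¹ᵁ U))
        (le_of_eq (preimage_incl h U)) r := by
  rw [Scheme.Hom.app_eq_appLE]
  exact comp_rho_apply h U _ _ _ _ _ r

theorem main (S : Scheme.{u}) (I J : S.IdealSheafData) :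
    IsPushout (inclusion (le_sup_left : I ≤ I ⊔ J))
      (inclusion (le_sup_right : J ≤ I ⊔ J))
      (inclusion (inf_le_left : I ⊓ J ≤ I))
      (inclusion (inf_le_right : I ⊓ J ≤ J)) := by
  have w : inclusion (le_sup_left : I ≤ I ⊔ J) ≫ inclusion (inf_le_left : I ⊓ J ≤ I) =
      inclusion (le_sup_right : J ≤ I ⊔ J) ≫ inclusion (inf_le_right : I ⊓ J ≤ J) := by
    rw [inclusion_comp, inclusion_comp]
  have hc₁ := incl_closed (inf_le_left : I ⊓ J ≤ I)
  have hc₂ := incl_closed (inf_le_right : I ⊓ J ≤ J)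
  have hsurj : ∀ p : (I ⊓ J).subscheme,
      (∃ x : I.subscheme, (inclusion (inf_le_left : I ⊓ J ≤ I)).base x = p) ∨
      (∃ y : J.subscheme, (inclusion (inf_le_right : I ⊓ J ≤ J)).base y = p) := by
    intro p
    have hp : (I ⊓ J).subschemeι.base p ∈ ((I ⊓ J).support : Set S) := by
      rw [← range_subschemeι]; exact ⟨p, rfl⟩
    rw [support_inf'] at hp
    rcases hp with hp | hp
    · left
      have : (I ⊓ J).subschemeι.base p ∈ Set.range I.subschemeι.base := by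
        rw [range_subschemeι]; exact hp
      obtain ⟨x, hx⟩ := this
      refine ⟨x, (I ⊓ J).subschemeι.isEmbedding.injective ?_⟩
      rw [incl_apply, hx]
    · right
      have : (I ⊓ J).subschemeι.base p ∈ Set.range J.subschemeι.base := by
        rw [range_subschemeι]; exact hp
      obtain ⟨y, hy⟩ := this
      refine ⟨y, (I ⊓ J).subschemeι.isEmbedding.injective ?_⟩
      rw [incl_apply, hy]
  refine PushoutCrit.isPushout_of_injective _ _ _ _ w hsurj ?_
    {B | ∃ U : S.affineOpens, B = (I ⊓ J).subschemeι ⁻¹ᵁ U.1} ?_ ?_ ?_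
    (incl_injective _) (incl_injective _) ?_
  · -- quotient topology
    intro s h₁ h₂
    rw [← isClosed_compl_iff]
    have : sᶜ = (inclusion (inf_le_left : I ⊓ J ≤ I)).base ''
          ((inclusion (inf_le_left : I ⊓ J ≤ I)).base ⁻¹' sᶜ) ∪
        (inclusion (inf_le_right : I ⊓ J ≤ J)).base ''
          ((inclusion (inf_le_right : I ⊓ J ≤ J)).base ⁻¹' sᶜ) := by
      ext p
      constructor
      · intro hp
        rcases hsurj p with ⟨x, rfl⟩ | ⟨y, rfl⟩
        · left; exact ⟨x, hp, rfl⟩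
        · right; exact ⟨y, hp, rfl⟩
      · rintro (⟨x, hx, rfl⟩ | ⟨y, hy, rfl⟩)
        · exact hx
        · exact hy
    rw [this]
    exact ((inclusion (inf_le_left : I ⊓ J ≤ I)).isClosedEmbedding.isClosedMap _
      h₁.isClosed_compl).union
      ((inclusion (inf_le_right : I ⊓ J ≤ J)).isClosedEmbedding.isClosedMap _ h₂.isClosed_compl)
  · -- basis
    intro V p hp
    obtain ⟨V', hV', hV'V⟩ := (I ⊓ J).subschemeι.isEmbedding.isInducing.isOpen_iff.mp V.2
    have hp' : (I ⊓ J).subschemeι.base p ∈ (⟨V', hV'⟩ : S.Opens) := by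
      change p ∈ (I ⊓ J).subschemeι.base ⁻¹' V'
      rw [hV'V]; exact hp
    obtain ⟨U, hU, hpU, hUV⟩ :=
      TopologicalSpace.Opens.isBasis_iff_nbhd.mp S.isBasis_affineOpens hp'
    refine ⟨(I ⊓ J).subschemeι ⁻¹ᵁ U, ⟨⟨U, hU⟩, rfl⟩, hpU, ?_⟩
    intro q hq
    have : q ∈ (I ⊓ J).subschemeι.base ⁻¹' V' := hUV hq
    rw [hV'V] at this
    exact this
  · -- S1
    rintro B ⟨U, rfl⟩ s t h₁ h₂
    obtain ⟨r, rfl⟩ := rho_surj (I ⊓ J) U _ rfl s
    obtain ⟨r', rfl⟩ := rho_surj (I ⊓ J) U _ rfl t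
    have e₁ : ∀ r, (inclusion (inf_le_left : I ⊓ J ≤ I)).app ((I ⊓ J).subschemeι ⁻¹ᵁ U.1)
        ((I ⊓ J).subschemeι.appLE U.1 ((I ⊓ J).subschemeι ⁻¹ᵁ U.1) (le_of_eq rfl) r) =
        I.subschemeι.appLE U.1 ((inclusion (inf_le_left : I ⊓ J ≤ I)) ⁻¹ᵁ
          ((I ⊓ J).subschemeι ⁻¹ᵁ U.1)) (le_of_eq (preimage_incl _ U.1)) r :=
      fun r => app_rho _ _ r
    have e₂ : ∀ r, (inclusion (inf_le_right : I ⊓ J ≤ J)).app ((I ⊓ J).subschemeι ⁻¹ᵁ U.1)
        ((I ⊓ J).subschemeι.appLE U.1 ((I ⊓ J).subschemeι ⁻¹ᵁ U.1) (le_of_eq rfl) r) =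
        J.subschemeι.appLE U.1 ((inclusion (inf_le_right : I ⊓ J ≤ J)) ⁻¹ᵁ
          ((I ⊓ J).subschemeι ⁻¹ᵁ U.1)) (le_of_eq (preimage_incl _ U.1)) r :=
      fun r => app_rho _ _ r
    rw [e₁, e₁, rho_eq_iff I U _ (preimage_incl (inf_le_left : I ⊓ J ≤ I) U.1)] at h₁
    rw [e₂, e₂, rho_eq_iff J U _ (preimage_incl (inf_le_right : I ⊓ J ≤ J) U.1)] at h₂
    rw [rho_eq_iff (I ⊓ J) U _ rfl]
    exact ⟨h₁, h₂⟩
  · -- S2
    rintro B ⟨U, rfl⟩ σ₁ σ₂ hc
    obtain ⟨r, rfl⟩ := rho_surj I U _ (preimage_incl (inf_le_left : I ⊓ J ≤ I) U.1) σ₁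
    obtain ⟨r', rfl⟩ := rho_surj J U _ (preimage_incl (inf_le_right : I ⊓ J ≤ J) U.1) σ₂
    unfold PushoutCrit.Compat at hc
    have hO : (inclusion (le_sup_left : I ≤ I ⊔ J)) ⁻¹ᵁ
        ((inclusion (inf_le_left : I ⊓ J ≤ I)) ⁻¹ᵁ ((I ⊓ J).subschemeι ⁻¹ᵁ U.1)) =
        (I ⊔ J).subschemeι ⁻¹ᵁ U.1 := by
      rw [preimage_incl, preimage_incl]
    rw [Scheme.Hom.app_eq_appLE, comp_rho_apply _ _ _ _ _ _ (le_of_eq hO),
      comp_rho_apply _ _ _ _ _ _ (le_of_eq hO)] at hc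
    rw [rho_eq_iff (I ⊔ J) U _ hO] at hc
    obtain ⟨a, ha, b, hb, hab⟩ := Submodule.mem_sup.mp hc
    refine ⟨(I ⊓ J).subschemeι.appLE U.1 _ le_rfl (r - a), ?_, ?_⟩
    · rw [Scheme.Hom.app_eq_appLE, comp_rho_apply _ _ _ _ _ _ (le_of_eq (preimage_incl _ _)),
        map_sub, (rho_ker I U _ (preimage_incl (inf_le_left : I ⊓ J ≤ I) U.1) a).mpr ha, sub_zero]
    · have hra : r - a = r' + b := by linear_combination hab.symm
      rw [Scheme.Hom.app_eq_appLE, comp_rho_apply _ _ _ _ _ _ (le_of_eq (preimage_incl _ _)),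
        hra, map_add, (rho_ker J U _ (preimage_incl (inf_le_right : I ⊓ J ≤ J) U.1) b).mpr hb, add_zero]
  · -- meet
    intro x y hxy
    have h1 : I.subschemeι.base x = J.subschemeι.base y := by
      rw [← incl_apply (inf_le_left : I ⊓ J ≤ I), ← incl_apply (inf_le_right : I ⊓ J ≤ J), hxy]
    have hp : I.subschemeι.base x ∈ ((I ⊔ J).support : Set S) := by
      rw [support_sup]
      refine ⟨?_, ?_⟩
      · rw [← range_subschemeι]; exact ⟨x, rfl⟩
      · rw [h1, ← range_subschemeι]; exact ⟨y, rfl⟩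
    rw [← range_subschemeι] at hp
    obtain ⟨z, hz⟩ := hp
    refine ⟨z, I.subschemeι.isEmbedding.injective ?_, J.subschemeι.isEmbedding.injective ?_⟩
    · rw [incl_apply, hz]
    · rw [incl_apply, hz, h1]

end Helpers

open AlgebraicGeometry CategoryTheory in
/-- For closed subschemes X, Y ⊆ S with ideal sheaves I, J, the scheme-theoretic union (ideal sheaf I ⊓
J) is the pushout, in the category of schemes, of X and Y along the scheme-theoretic intersection
(ideal sheaf I ⊔ J). The exact sequence 0 → O_{X∪Y} → O_X × O_Y → O_{X∩Y} → 0 is not stated. -/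
theorem result (S : Scheme.{u}) (I J : S.IdealSheafData) :
    IsPushout (Scheme.IdealSheafData.inclusion (le_sup_left : I ≤ I ⊔ J))
      (Scheme.IdealSheafData.inclusion (le_sup_right : J ≤ I ⊔ J))
      (Scheme.IdealSheafData.inclusion (inf_le_left : I ⊓ J ≤ I))
      (Scheme.IdealSheafData.inclusion (inf_le_right : I ⊓ J ≤ J)) := by
  exact main S I J

end Groth.Agent.S9383
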