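import Groth.Statements.S9385
import Groth.Agent.Lib.Helper16.SchDense
import Groth.Agent.S9360
open Groth.Agent.Lib.helper16.SchDense

set_option autoImplicit false
universe u
open SchDense

namespace Groth.Agent.S9385

open AlgebraicGeometry CategoryTheory in
/-- Let h : Z → X be an immersion, and suppose that either Z is reduced or h is quasi-compact. Write Z̄
⊆ X for the scheme-theoretic image of h. Then Z → Z̄ is an open immersion identifying Z with a
scheme-theoretically dense (in the for-every-open sense) and topologically dense open subscheme of
Z̄. -/
theorem result {Z X : Scheme.{u}} (h : Z ⟶ X) [IsImmersion h]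
    (hyp : QuasiCompact h ∨ IsReduced Z) :
    ∃ hI : IsOpenImmersion h.toImage,
      (∀ W : h.image.Opens, IsSchemeTheoreticallyDominant
          (h.image.homOfLE (inf_le_right : @Scheme.Hom.opensRange _ _ h.toImage hI ⊓ W ≤ W))) ∧
        DenseRange h.toImage.base := by
  rcases hyp with hqc | hred
  · haveI : IsSchemeTheoreticallyDominant h.toImage :=
      ⟨ker_toImage_eq_bot h (fun U => Scheme.Hom.ker_apply h U)⟩
    refine ⟨inferInstance, ?_, (inferInstance : IsDominant h.toImage).denseRange⟩
    intro W
    -- flat base change of the qc STD open immersion
    have e : h.toImage.opensRange.ι = (h.toImage.isoOpensRange).inv ≫ h.toImage := by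
      simp
    haveI : IsSchemeTheoreticallyDominant h.toImage.opensRange.ι := by
      rw [e]; infer_instance
    haveI : QuasiCompact h.toImage.opensRange.ι := by
      rw [e]; infer_instance
    exact IsSchemeTheoreticallyDominant.of_isPullback (f := h.toImage.opensRange.ι) (g := W.ι)
      (isPullback_opens_inf h.toImage.opensRange W)
  · haveI : IsSchemeTheoreticallyDominant h.toImage :=
      ⟨ker_toImage_eq_bot h (fun U => ker_apply_of_isReduced h U)⟩
    haveI hI := isOpenImmersion_toImage_of_isReduced h
    refine ⟨hI, ?_, denseRange_of_std h.toImage⟩
    have e : h.toImage.opensRange.ι = (h.toImage.isoOpensRange).inv ≫ h.toImage := by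
      simp
    haveI : IsSchemeTheoreticallyDominant h.toImage.opensRange.ι := by
      rw [e]; infer_instance
    haveI : IsReduced (h.toImage.opensRange : Scheme.{u}) :=
      isReduced_of_isOpenImmersion (h.toImage.isoOpensRange).inv
    exact (Groth.Agent.S9360.result h.image h.toImage.opensRange).1.mp inferInstance

end Groth.Agent.S9385
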