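import Groth.Statements.S9387
import Groth.Agent.Lib.Helper7.OmegaQCoh
import Groth.Agent.Lib.Helper16.CohFinite
import Groth.Agent.Lib.Helper16.QCohPullback2

set_option autoImplicit false
universe u
open OmegaSh

namespace Groth.Agent.S9387

open AlgebraicGeometry CategoryTheory in
/-- If f : X → S is locally of finite type then Ω_{X/S} is an O_X-module of finite type (for any
receptacle Ω of a universal S-derivation). -/
theorem result {X S : Scheme.{u}} (f : X ⟶ S) [LocallyOfFiniteType f]
    (Ω : X.Modules) (d : OmegaSh.Der f Ω) (hd : OmegaSh.IsUniversal d) : CohB1.IsFT Ω := by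
  haveI : Ω.IsQuasicoherent :=
    Groth.Agent.Lib.helper7.OmegaQCoh.isQuasicoherent_of_isUniversal f d hd
  refine Groth.Agent.Lib.helper16.CohFinite.isFiniteType_of_finite_sections Ω
    (fun p : Groth.Agent.Lib.helper16.QCohPullback2.AffPair f => p.1.1.1) (fun p => p.1.1.2)
    (Groth.Agent.Lib.helper16.QCohPullback2.iSup_affPair f) (fun p => ?_)
  letI := (f.appLE p.1.2.1 p.1.1.1 p.2).hom.toAlgebra
  obtain ⟨ψ, -⟩ := Groth.Agent.Lib.helper7.OmegaStruct.exists_sectionsEquiv f d hd
    p.1.1.2 p.1.2.2 p.2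
  haveI : Algebra.FiniteType Γ(S, p.1.2.1) Γ(X, p.1.1.1) :=
    f.finiteType_appLE p.1.2.2 p.1.1.2 p.2
  exact Module.Finite.equiv ψ.symm

end Groth.Agent.S9387
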