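import Groth.Statements.S9389
import Mathlib
-- import your own Groth.Agent.* helpers here

set_option autoImplicit false
universe u
open QFin

namespace Groth.Agent.S9389

section helpers
open AlgebraicGeometry CategoryTheory Limits

theorem open_of_isPullback {Z Z' T T' : Scheme.{u}} [IsIntegral T] [Subsingleton T]
    [IsLocallyArtinian T']
    (π : Z' ⟶ Z) (a' : Z' ⟶ T') (a : Z ⟶ T) (q : T' ⟶ T)
    (h : IsPullback π a' a q) [LocallyOfFiniteType a] (z' : Z') :
    IsOpen ({z'} : Set Z') ↔ IsOpen ({π z'} : Set Z) := by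
  constructor
  · intro hz'
    have hq : UniversallyOpen q := inferInstance
    have hπ : UniversallyOpen π := MorphismProperty.of_isPullback (P := @UniversallyOpen) h.flip hq
    have := π.isOpenMap _ hz'
    rwa [Set.image_singleton] at this
  · intro hz
    set z := π z' with hzdef
    let U : Z.Opens := ⟨{z}, hz⟩
    have hUsub : Subsingleton U := by
      refine ⟨fun a b => Subtype.ext ?_⟩
      rw [Set.mem_singleton_iff.mp a.2, Set.mem_singleton_iff.mp b.2]
    let W := pullback U.ι π
    let p₁ : W ⟶ U := pullback.fst _ _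
    let p₂ : W ⟶ Z' := pullback.snd _ _
    have hW : IsPullback p₁ p₂ U.ι π := IsPullback.of_hasPullback _ _
    have hbig := hW.paste_vert h
    have hlft : LocallyOfFiniteType (U.ι ≫ a) := inferInstance
    have hlqf : LocallyQuasiFinite (U.ι ≫ a) :=
      LocallyQuasiFinite.of_finite_preimage_singleton _ fun _ => Set.toFinite _
    have hlqf' : LocallyQuasiFinite (p₂ ≫ a') :=
      MorphismProperty.of_isPullback (P := @LocallyQuasiFinite) hbig hlqf
    have hLA : IsLocallyArtinian W := IsLocallyArtinian.of_locallyQuasiFinite (p₂ ≫ a')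
    have hp₂ : IsOpenImmersion p₂ := MorphismProperty.pullback_snd _ _ inferInstance
    obtain ⟨w, hw⟩ : ∃ w : W, p₂ w = z' := by
      have : z' ∈ Set.range p₂ := by
        rw [Scheme.Pullback.range_snd, Scheme.Opens.range_ι]
        rfl
      exact this
    have := p₂.isOpenEmbedding.isOpenMap _ (isOpen_discrete {w})
    rwa [Set.image_singleton, hw] at this

theorem isOpen_singleton_fiber_iff {X Y : Scheme.{u}} (f : X ⟶ Y) (s : Y) (t : f.fiber s) :
    IsOpen ({t} : Set (f.fiber s)) ↔
      ∃ V : Set X, IsOpen V ∧ V ∩ f ⁻¹' {s} = {f.fiberι s t} := by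
  have hemb := (f.fiberι s).isEmbedding
  rw [hemb.toIsInducing.isOpen_iff]
  refine exists_congr fun V => and_congr_right fun _ => ?_
  rw [← f.range_fiberι]
  constructor
  · intro hV
    ext y
    constructor
    · rintro ⟨hyV, t', rfl⟩
      have : t' ∈ (f.fiberι s) ⁻¹' V := hyV
      rw [hV] at this
      rw [Set.mem_singleton_iff.mp this]
      rfl
    · intro hy
      rw [Set.mem_singleton_iff.mp hy]
      refine ⟨?_, t, rfl⟩
      have : t ∈ (f.fiberι s) ⁻¹' V := by rw [hV]; rfl
      exact this
  · intro hV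
    ext t'
    constructor
    · intro ht'
      have : f.fiberι s t' ∈ V ∩ Set.range (f.fiberι s) := ⟨ht', t', rfl⟩
      rw [hV] at this
      exact hemb.injective (Set.mem_singleton_iff.mp this)
    · intro ht'
      rw [Set.mem_singleton_iff.mp ht']
      have : f.fiberι s t ∈ V ∩ Set.range (f.fiberι s) := by rw [hV]; rfl
      exact this.1

theorem main {X S X' S' : Scheme.{u}} (f : X ⟶ S) [LocallyOfFiniteType f] (g : S' ⟶ S)
    (g' : X' ⟶ X) (f' : X' ⟶ S') (hsq : IsPullback g' f' f g) :
    {x' : ↑X' | f'.QuasiFiniteAt x'} = g'.base ⁻¹' {x : ↑X | f.QuasiFiniteAt x} := by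
  have hlft' : LocallyOfFiniteType f' :=
    MorphismProperty.of_isPullback (P := @LocallyOfFiniteType) hsq inferInstance
  ext x'
  simp only [Set.mem_ofPred_eq, Set.mem_preimage]
  rw [Scheme.Hom.quasiFiniteAt_iff_isOpen_singleton_asFiber,
    Scheme.Hom.quasiFiniteAt_iff_isOpen_singleton_asFiber]
  have hpb := isPullback_fiberToSpecResidueField_of_isPullback hsq (f' x')
  have hB := @open_of_isPullback _ _ _ _ inferInstance inferInstance inferInstance _ _ _ _ hpb
    (MorphismProperty.pullback_snd (P := @LocallyOfFiniteType) _ _ inferInstance) (f'.asFiber x')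
  refine hB.trans ?_
  refine (isOpen_singleton_fiber_iff f (g (f' x')) _).trans ?_
  rw [isOpen_singleton_fiber_iff]
  simp only [Scheme.Hom.fiberι_asFiber]
  have hw : f (g' x') = g (f' x') := by
    rw [← Scheme.Hom.comp_apply, hsq.w, Scheme.Hom.comp_apply]
  have key : f.fiberι (g (f' x')) ((pullback.map f' (S'.fromSpecResidueField (f' x')) f
      (S.fromSpecResidueField (g (f' x'))) g' (Spec.map (g.residueFieldMap (f' x'))) g hsq.w.symm
      (by simp)) (f'.asFiber x')) = g' x' := by
    have h1 : pullback.map f' (S'.fromSpecResidueField (f' x')) f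
      (S.fromSpecResidueField (g (f' x'))) g' (Spec.map (g.residueFieldMap (f' x'))) g hsq.w.symm
      (by simp) ≫ f.fiberι (g (f' x')) = f'.fiberι (f' x') ≫ g' := pullback.lift_fst _ _ _
    have h2 := congrArg (fun φ : f'.fiber (f' x') ⟶ X => φ (f'.asFiber x')) h1
    simp only [Scheme.Hom.comp_apply, Scheme.Hom.fiberι_asFiber] at h2
    exact h2
  rw [key, hw]
end helpers

open AlgebraicGeometry CategoryTheory in
/-- For f : X → S locally of finite type and a cartesian square with base change f' : X' → S', g' : X' →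
X, the quasi-finite locus of f' is the inverse image under g' of the quasi-finite locus of f. -/
theorem result {X S X' S' : Scheme.{u}} (f : X ⟶ S) [LocallyOfFiniteType f] (g : S' ⟶ S)
    (g' : X' ⟶ X) (f' : X' ⟶ S') (hsq : IsPullback g' f' f g) :
    {x' : ↑X' | f'.QuasiFiniteAt x'} = g'.base ⁻¹' {x : ↑X | f.QuasiFiniteAt x} := by
  exact main f g g' f' hsq

end Groth.Agent.S9389
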