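import Groth.Statements.S9392
import Groth.Agent.Lib.Helper19.IntClosureLoc

set_option autoImplicit false
universe u
open CAlg

namespace Groth.Agent.S9392

/-- A localization of an N-2 (Japanese) domain which is again a domain is N-2. -/
theorem result (R : Type u) [CommRing R] [IsDomain R] (M : Submonoid R)
    (S : Type u) [CommRing S] [IsDomain S] [Algebra R S] [IsLocalization M S]
    (h : CAlg.IsN2 R) : CAlg.IsN2 S := by
  intro L _ _ _ _ hfd
  let _ : Algebra R L := ((algebraMap S L).comp (algebraMap R S)).toAlgebra
  have : IsScalarTower R S L := IsScalarTower.of_algebraMap_eq (fun x => rfl)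
  have : IsScalarTower R S (FractionRing S) := inferInstance
  haveI : IsScalarTower R (FractionRing S) L := IsScalarTower.of_algebraMap_eq (fun x => by
    rw [IsScalarTower.algebraMap_apply R S (FractionRing S),
      ← IsScalarTower.algebraMap_apply S (FractionRing S) L]
    rfl)
  haveI : IsFractionRing R (FractionRing S) :=
    Groth.Agent.Lib.helper19.isFractionRing_of_isFractionRing_localization M S (FractionRing S)
  let e : FractionRing R ≃ₐ[R] FractionRing S := FractionRing.algEquiv R (FractionRing S)
  letI : Algebra (FractionRing R) L :=
    ((algebraMap (FractionRing S) L).comp (e : FractionRing R →+* FractionRing S)).toAlgebra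
  haveI : IsScalarTower R (FractionRing R) L := IsScalarTower.of_algebraMap_eq (fun x => by
    change algebraMap R L x = algebraMap (FractionRing S) L (e (algebraMap R (FractionRing R) x))
    rw [e.commutes, ← IsScalarTower.algebraMap_apply R (FractionRing S) L])
  have hfdR : FiniteDimensional (FractionRing R) L := by
    haveI : Module.Finite (FractionRing S) L := hfd
    exact Module.Finite.of_equiv_equiv (A₁ := FractionRing S) (B₁ := L) (A₂ := FractionRing R)
      (B₂ := L) e.symm.toRingEquiv (RingEquiv.refl L) (by
        ext x
        change algebraMap (FractionRing S) L (e (e.symm x)) = algebraMap (FractionRing S) L x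
        rw [e.apply_symm_apply])
  exact Groth.Agent.Lib.helper19.finite_integralClosure_of_isLocalization M S L (h L hfdR)

end Groth.Agent.S9392
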