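import Groth.Statements.S9393
import Mathlib

set_option autoImplicit false
universe u
open CAlg

namespace Groth.Agent.S9393

section helpers

section helpers

/-- chart lemma -/
lemma chart {R : Type u} [CommRing R] [IsDomain R] (K : Type u) [Field K] [Algebra R K]
    [IsFractionRing R K] (g : R) (Rg : Type u) [CommRing Rg] [IsDomain Rg] [Algebra R Rg]
    [IsLocalization.Away g Rg] [Algebra Rg K] [IsScalarTower R Rg K]
    (hfin : (Subalgebra.toSubmodule (integralClosure Rg K)).FG) :
    ∃ Z : Submodule R K, Z.FG ∧ Z ≤ Subalgebra.toSubmodule (integralClosure R K) ∧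
      ∀ w ∈ integralClosure R K, ∃ N : ℕ, (g ^ N) • w ∈ Z := by
  classical
  obtain ⟨T, hT⟩ := hfin
  have hTint : ∀ y ∈ T, IsIntegral Rg y := by
    intro y hy
    have : y ∈ Subalgebra.toSubmodule (integralClosure Rg K) := by
      rw [← hT]; exact Submodule.subset_span hy
    exact this
  have hmul : ∀ y : K, ∃ n : ℕ, y ∈ T → IsIntegral R ((g ^ n) • y) := by
    intro y
    by_cases hy : y ∈ T
    · obtain ⟨⟨m, n, rfl⟩, hm⟩ := IsIntegral.exists_multiple_integral_of_isLocalization
        (Submonoid.powers g) (Rₘ := Rg) y (hTint y hy)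
      exact ⟨n, fun _ => hm⟩
    · exact ⟨0, fun h => absurd h hy⟩
  choose n hn using hmul
  let Z : Submodule R K := Submodule.span R ((fun y => (g ^ n y) • y) '' (T : Set K))
  refine ⟨Z, Submodule.fg_span ((Finset.finite_toSet T).image _), ?_, ?_⟩
  · rw [Submodule.span_le]
    rintro _ ⟨y, hy, rfl⟩
    exact hn y hy
  · intro w hw
    have hw' : w ∈ Subalgebra.toSubmodule (integralClosure Rg K) :=
      (IsIntegral.tower_top (A := Rg) hw)
    rw [← hT, Submodule.mem_span_finset] at hw'
    obtain ⟨c, -, hc⟩ := hw'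
    obtain ⟨⟨b, N0, rfl⟩, hb⟩ := IsLocalization.exist_integer_multiples_of_finset
      (Submonoid.powers g) (T.image c)
    let n' := ∑ y ∈ T, n y
    refine ⟨N0 + n', ?_⟩
    rw [← hc, Finset.smul_sum]
    apply Submodule.sum_mem
    intro y hy
    obtain ⟨a, ha⟩ := hb (c y) (Finset.mem_image_of_mem c hy)
    have hny : n y ≤ n' := Finset.single_le_sum (f := n) (fun _ _ => Nat.zero_le _) hy
    have h1 : (g ^ (N0 + n')) • (c y • y) = (a * g ^ (n' - n y)) • ((g ^ n y) • y) := by
      have h2 : algebraMap R Rg a = (g ^ N0) • c y := ha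
      rw [smul_smul, ← smul_assoc]
      have h3 : (a * g ^ (n' - n y) * g ^ n y) = a * g ^ n' := by
        rw [mul_assoc, ← pow_add, Nat.sub_add_cancel hny]
      rw [h3]
      have h4 : (g ^ (N0 + n')) • c y = algebraMap R Rg (a * g ^ n') := by
        rw [pow_add, mul_comm, mul_smul, ← h2, map_mul, Algebra.smul_def, mul_comm]
      rw [h4, algebraMap_smul]
    rw [h1]
    exact Submodule.smul_mem _ _ (Submodule.subset_span ⟨y, hy, rfl⟩)

end helpers


end helpers

/-- Being N-1 can be checked on a finite cover of Spec R by principal opens whose rings are N-1 domains. -/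
theorem result (R : Type u) [CommRing R] [IsDomain R]
    {ι : Type u} [Finite ι] (f : ι → R) (hf : Ideal.span (Set.range f) = ⊤)
    (Rf : ι → Type u) [∀ i, CommRing (Rf i)] [∀ i, IsDomain (Rf i)] [∀ i, Algebra R (Rf i)]
    [∀ i, IsLocalization.Away (f i) (Rf i)] (h : ∀ i, CAlg.IsN1 (Rf i)) : CAlg.IsN1 R := by
  classical
  have : Fintype ι := Fintype.ofFinite ι
  let K := FractionRing R
  -- each chart
  have hchart : ∀ i, ∃ Z : Submodule R K, Z.FG ∧ Z ≤ Subalgebra.toSubmodule (integralClosure R K) ∧
      ∀ w ∈ integralClosure R K, ∃ N : ℕ, (f i ^ N) • w ∈ Z := by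
    intro i
    have hfi : f i ≠ 0 := by
      intro h0
      have h1 : IsUnit (algebraMap R (Rf i) (f i)) := IsLocalization.Away.algebraMap_isUnit (f i)
      rw [h0, map_zero] at h1
      exact not_isUnit_zero h1
    have hu : IsUnit (algebraMap R K (f i)) := by
      apply IsUnit.mk0
      intro h0
      apply hfi
      exact (IsFractionRing.injective R K) (by rw [h0, map_zero])
    let φ : Rf i →+* K := IsLocalization.Away.lift (f i) hu
    let _ : Algebra (Rf i) K := φ.toAlgebra
    have : IsScalarTower R (Rf i) K := IsScalarTower.of_algebraMap_eq fun x =>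
      (IsLocalization.Away.lift_eq (f i) hu x).symm
    have : IsFractionRing (Rf i) K :=
      IsFractionRing.isFractionRing_of_isDomain_of_isLocalization (Submonoid.powers (f i)) (Rf i) K
    apply chart K (f i) (Rf i)
    -- transfer N-1
    have hN1 : Module.Finite (Rf i) (integralClosure (Rf i) (FractionRing (Rf i))) := h i
    let e : FractionRing (Rf i) ≃ₐ[Rf i] K := FractionRing.algEquiv (Rf i) K
    rw [← integralClosure_map_algEquiv e]
    have h2 : (Subalgebra.toSubmodule (integralClosure (Rf i) (FractionRing (Rf i)))).FG :=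
      Module.Finite.iff_fg.mp hN1
    have h3 := h2.map e.toLinearMap
    convert h3 using 1
    ext x
    simp only [Subalgebra.mem_toSubmodule, Subalgebra.mem_map, Submodule.mem_map]
    rfl
  choose Z hZfg hZle hZ using hchart
  let Zt : Submodule R K := ⨆ i, Z i
  have hZtfg : Zt.FG := by
    have : Zt = ⨆ i ∈ (Finset.univ : Finset ι), Z i := by simp [Zt]
    rw [this]
    exact Submodule.fg_biSup _ _ fun i _ => hZfg i
  have hZtle : Zt ≤ Subalgebra.toSubmodule (integralClosure R K) := iSup_le hZle
  have hle : Subalgebra.toSubmodule (integralClosure R K) ≤ Zt := by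
    intro w hw
    apply Submodule.mem_of_span_eq_top_of_smul_pow_mem Zt (Set.range f) hf w
    rintro ⟨_, i, rfl⟩
    obtain ⟨N, hN⟩ := hZ i w hw
    exact ⟨N, (le_iSup Z i) hN⟩
  have heq : Subalgebra.toSubmodule (integralClosure R K) = Zt := le_antisymm hle hZtle
  show Module.Finite R (integralClosure R K)
  have : (Subalgebra.toSubmodule (integralClosure R K)).FG := heq ▸ hZtfg
  exact Module.Finite.iff_fg.mpr this

end Groth.Agent.S9393
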