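import Groth.Statements.S9394
import Mathlib

set_option autoImplicit false
universe u
open CAlg

namespace Groth.Agent.S9394

section helpers

section helpers

/-- chart lemma -/
lemma chart {R : Type u} [CommRing R] [IsDomain R] (K : Type u) [CommRing K] [Algebra R K]
    (g : R) (Rg : Type u) [CommRing Rg] [IsDomain Rg] [Algebra R Rg]
    [IsLocalization.Away g Rg] [Algebra Rg K] [IsScalarTower R Rg K]
    (hfin : (Subalgebra.toSubmodule (integralClosure Rg K)).FG) :
    ∃ Z : Submodule R K, Z.FG ∧ Z ≤ Subalgebra.toSubmodule (integralClosure R K) ∧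
      ∀ w ∈ integralClosure R K, ∃ N : ℕ, (g ^ N) • w ∈ Z := by
  classical
  obtain ⟨T, hT⟩ := hfin
  have hTint : ∀ y ∈ T, IsIntegral Rg y := by
    intro y hy
    have : y ∈ Subalgebra.toSubmodule (integralClosure Rg K) := by
      rw [← hT]; exact Submodule.subset_span hy
    exact this
  have hmul : ∀ y : K, ∃ n : ℕ, y ∈ T → IsIntegral R ((g ^ n) • y) := by
    intro y
    by_cases hy : y ∈ T
    · obtain ⟨⟨m, n, rfl⟩, hm⟩ := IsIntegral.exists_multiple_integral_of_isLocalization
        (Submonoid.powers g) (Rₘ := Rg) y (hTint y hy)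
      exact ⟨n, fun _ => hm⟩
    · exact ⟨0, fun h => absurd h hy⟩
  choose n hn using hmul
  let Z : Submodule R K := Submodule.span R ((fun y => (g ^ n y) • y) '' (T : Set K))
  refine ⟨Z, Submodule.fg_span ((Finset.finite_toSet T).image _), ?_, ?_⟩
  · rw [Submodule.span_le]
    rintro _ ⟨y, hy, rfl⟩
    exact hn y hy
  · intro w hw
    have hw' : w ∈ Subalgebra.toSubmodule (integralClosure Rg K) :=
      (IsIntegral.tower_top (A := Rg) hw)
    rw [← hT, Submodule.mem_span_finset] at hw'
    obtain ⟨c, -, hc⟩ := hw'
    obtain ⟨⟨b, N0, rfl⟩, hb⟩ := IsLocalization.exist_integer_multiples_of_finset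
      (Submonoid.powers g) (T.image c)
    let n' := ∑ y ∈ T, n y
    refine ⟨N0 + n', ?_⟩
    rw [← hc, Finset.smul_sum]
    apply Submodule.sum_mem
    intro y hy
    obtain ⟨a, ha⟩ := hb (c y) (Finset.mem_image_of_mem c hy)
    have hny : n y ≤ n' := Finset.single_le_sum (f := n) (fun _ _ => Nat.zero_le _) hy
    have h1 : (g ^ (N0 + n')) • (c y • y) = (a * g ^ (n' - n y)) • ((g ^ n y) • y) := by
      have h2 : algebraMap R Rg a = (g ^ N0) • c y := ha
      rw [smul_smul, ← smul_assoc]
      have h3 : (a * g ^ (n' - n y) * g ^ n y) = a * g ^ n' := by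
        rw [mul_assoc, ← pow_add, Nat.sub_add_cancel hny]
      rw [h3]
      have h4 : (g ^ (N0 + n')) • c y = algebraMap R Rg (a * g ^ n') := by
        rw [pow_add, mul_comm, mul_smul, ← h2, map_mul, Algebra.smul_def, mul_comm]
      rw [h4, algebraMap_smul]
    rw [h1]
    exact Submodule.smul_mem _ _ (Submodule.subset_span ⟨y, hy, rfl⟩)

end helpers


end helpers

/-- Being N-2 (Japanese) can be checked on a finite cover of Spec R by principal opens whose rings are
N-2 domains. -/
theorem result (R : Type u) [CommRing R] [IsDomain R]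
    {ι : Type u} [Finite ι] (f : ι → R) (hf : Ideal.span (Set.range f) = ⊤)
    (Rf : ι → Type u) [∀ i, CommRing (Rf i)] [∀ i, IsDomain (Rf i)] [∀ i, Algebra R (Rf i)]
    [∀ i, IsLocalization.Away (f i) (Rf i)] (h : ∀ i, CAlg.IsN2 (Rf i)) : CAlg.IsN2 R := by
  classical
  have : Fintype ι := Fintype.ofFinite ι
  intro L _ _ _ _ hfd
  let K := FractionRing R
  have hinjRK : Function.Injective (algebraMap R K) := IsFractionRing.injective R K
  have hinjRL : Function.Injective (algebraMap R L) := by
    rw [IsScalarTower.algebraMap_eq R K L]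
    exact (algebraMap K L).injective.comp hinjRK
  -- each chart
  have hchart : ∀ i, ∃ Z : Submodule R L, Z.FG ∧ Z ≤ Subalgebra.toSubmodule (integralClosure R L) ∧
      ∀ w ∈ integralClosure R L, ∃ N : ℕ, (f i ^ N) • w ∈ Z := by
    intro i
    have hfi : f i ≠ 0 := by
      intro h0
      have h1 : IsUnit (algebraMap R (Rf i) (f i)) := IsLocalization.Away.algebraMap_isUnit (f i)
      rw [h0, map_zero] at h1
      exact not_isUnit_zero h1
    have hu : IsUnit (algebraMap R L (f i)) := by
      apply IsUnit.mk0
      intro h0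
      apply hfi
      exact hinjRL (by rw [h0, map_zero])
    let φ : Rf i →+* L := IsLocalization.Away.lift (f i) hu
    let _ : Algebra (Rf i) L := φ.toAlgebra
    have hST : IsScalarTower R (Rf i) L := IsScalarTower.of_algebraMap_eq fun x =>
      (IsLocalization.Away.lift_eq (f i) hu x).symm
    have hinjRRf : Function.Injective (algebraMap R (Rf i)) :=
      IsLocalization.injective (Rf i) (powers_le_nonZeroDivisors_of_noZeroDivisors hfi)
    have hφinj : Function.Injective φ := by
      show Function.Injective (IsLocalization.lift _)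
      rw [IsLocalization.lift_injective_iff]
      intro x y
      rw [hinjRRf.eq_iff, hinjRL.eq_iff]
    let Ki := FractionRing (Rf i)
    let χ : Ki →+* L := IsFractionRing.lift (A := Rf i) (K := Ki) (g := φ) hφinj
    let _ : Algebra Ki L := χ.toAlgebra
    have hST2 : IsScalarTower (Rf i) Ki L := IsScalarTower.of_algebraMap_eq fun x =>
      (IsFractionRing.lift_algebraMap hφinj x).symm
    -- K → Ki
    have hinjRKi : Function.Injective ((algebraMap (Rf i) Ki).comp (algebraMap R (Rf i))) :=
      (IsFractionRing.injective (Rf i) Ki).comp hinjRRf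
    let ψ : K →+* Ki := IsFractionRing.lift (A := R) (K := K) hinjRKi
    let _ : Algebra K Ki := ψ.toAlgebra
    have hST3 : IsScalarTower K Ki L := by
      apply IsScalarTower.of_algebraMap_eq'
      apply IsLocalization.ringHom_ext (nonZeroDivisors R)
      ext x
      simp only [RingHom.comp_apply]
      show algebraMap K L (algebraMap R K x) = χ (ψ (algebraMap R K x))
      rw [show ψ (algebraMap R K x) = algebraMap (Rf i) Ki (algebraMap R (Rf i) x) from
        IsFractionRing.lift_algebraMap hinjRKi x]
      rw [show χ (algebraMap (Rf i) Ki (algebraMap R (Rf i) x)) = φ (algebraMap R (Rf i) x) from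
        IsFractionRing.lift_algebraMap hφinj _]
      rw [← IsScalarTower.algebraMap_apply R K L]
      exact (IsLocalization.Away.lift_eq (f i) hu x).symm
    have hfd' : FiniteDimensional Ki L := FiniteDimensional.right K Ki L
    have hN : Module.Finite (Rf i) (integralClosure (Rf i) L) := h i L hfd'
    exact chart L (f i) (Rf i) (Module.Finite.iff_fg.mp hN)
  choose Z hZfg hZle hZ using hchart
  let Zt : Submodule R L := ⨆ i, Z i
  have hZtfg : Zt.FG := by
    have : Zt = ⨆ i ∈ (Finset.univ : Finset ι), Z i := by simp [Zt]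
    rw [this]
    exact Submodule.fg_biSup _ _ fun i _ => hZfg i
  have hZtle : Zt ≤ Subalgebra.toSubmodule (integralClosure R L) := iSup_le hZle
  have hle : Subalgebra.toSubmodule (integralClosure R L) ≤ Zt := by
    intro w hw
    apply Submodule.mem_of_span_eq_top_of_smul_pow_mem Zt (Set.range f) hf w
    rintro ⟨_, i, rfl⟩
    obtain ⟨N, hN⟩ := hZ i w hw
    exact ⟨N, (le_iSup Z i) hN⟩
  have heq : Subalgebra.toSubmodule (integralClosure R L) = Zt := le_antisymm hle hZtle
  have : (Subalgebra.toSubmodule (integralClosure R L)).FG := heq ▸ hZtfg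
  exact Module.Finite.iff_fg.mpr this

end Groth.Agent.S9394
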