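import Groth.Statements.S9395
import Mathlib

set_option autoImplicit false
universe u
open CAlg

namespace Groth.Agent.S9395



/-- For a Noetherian domain R, if the Laurent polynomial ring R[X, 1/X] (the localization of R[X] away
from X) is N-1, then R is N-1. -/
theorem result (R : Type u) [CommRing R] [IsDomain R] [IsNoetherianRing R]
    (S : Type u) [CommRing S] [IsDomain S] [Algebra (Polynomial R) S]
    [IsLocalization.Away (Polynomial.X : Polynomial R) S] (h : CAlg.IsN1 S) : CAlg.IsN1 R := by
  classical
  have hX : Submonoid.powers (Polynomial.X : Polynomial R) ≤ nonZeroDivisors (Polynomial R) :=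
    powers_le_nonZeroDivisors_of_noZeroDivisors Polynomial.X_ne_zero
  have hinjS : Function.Injective (algebraMap (Polynomial R) S) :=
    IsLocalization.injective S hX
  let j : Polynomial R →+* FractionRing S :=
    (algebraMap S (FractionRing S)).comp (algebraMap (Polynomial R) S)
  have hj : Function.Injective j := (IsFractionRing.injective S (FractionRing S)).comp hinjS
  let g : R →+* FractionRing S := j.comp Polynomial.C
  have hg : Function.Injective g := hj.comp Polynomial.C_injective
  let ι : FractionRing R →+* FractionRing S := IsFractionRing.lift hg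
  have hι : ∀ r : R, ι (algebraMap R (FractionRing R) r) = g r :=
    fun r => IsFractionRing.lift_algebraMap hg r
  have hιg : ι.comp (algebraMap R (FractionRing R)) = g := RingHom.ext hι
  let z : FractionRing S := j Polynomial.X
  have hjev : ∀ P : Polynomial R, j P = Polynomial.eval₂ g z P := by
    intro P
    have h1 := Polynomial.hom_eval₂ P Polynomial.C j Polynomial.X
    rw [Polynomial.eval₂_C_X] at h1
    exact h1
  -- injectivity of evaluation at z
  have hev : ∀ p : Polynomial (FractionRing R), Polynomial.eval₂ ι z p = 0 → p = 0 := by
    intro p hp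
    have h1 := IsLocalization.integerNormalization_eval₂_eq_zero (nonZeroDivisors R) ι p hp
    rw [hιg, ← hjev] at h1
    have h2 : IsLocalization.integerNormalization (nonZeroDivisors R) p = 0 := by
      apply hj
      rw [h1, map_zero]
    obtain ⟨b, hb, hbp⟩ := IsLocalization.integerNormalization_spec (nonZeroDivisors R) p
    rw [h2, Polynomial.map_zero] at hbp
    ext n
    have h3 : (b • p).coeff n = 0 := by rw [← hbp, Polynomial.coeff_zero]
    rw [Polynomial.coeff_smul, Algebra.smul_def, mul_eq_zero] at h3
    rcases h3 with h3 | h3
    · exact absurd ((map_eq_zero_iff _ (IsFractionRing.injective R (FractionRing R))).mp h3)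
        (nonZeroDivisors.ne_zero hb)
    · rw [h3, Polynomial.coeff_zero]
  -- integrality transfer
  have hint : ∀ r' : FractionRing R, IsIntegral R r' → IsIntegral S (ι r') := by
    intro r' hr'
    obtain ⟨p, hpm, hp⟩ := hr'
    refine ⟨p.map ((algebraMap (Polynomial R) S).comp Polynomial.C), hpm.map _, ?_⟩
    rw [Polynomial.eval₂_map]
    have h1 : (algebraMap S (FractionRing S)).comp
        ((algebraMap (Polynomial R) S).comp Polynomial.C) =
        ι.comp (algebraMap R (FractionRing R)) := by
      rw [hιg]
      rfl
    rw [h1, ← Polynomial.hom_eval₂, hp, map_zero]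
  have hSN : IsNoetherianRing S :=
    IsLocalization.isNoetherianRing (Submonoid.powers (Polynomial.X : Polynomial R)) S inferInstance
  have hfg : (Subalgebra.toSubmodule (integralClosure S (FractionRing S))).FG :=
    Module.Finite.iff_fg.mp h
  let G : Set (FractionRing S) := {y | ∃ r' : FractionRing R, IsIntegral R r' ∧ y = ι r'}
  have hle : Submodule.span S G ≤ Subalgebra.toSubmodule (integralClosure S (FractionRing S)) := by
    rw [Submodule.span_le]
    rintro y ⟨r', hr', rfl⟩
    exact hint r' hr'
  have hN : IsNoetherian S (Subalgebra.toSubmodule (integralClosure S (FractionRing S))) :=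
    isNoetherian_of_fg_of_noetherian _ hfg
  have hTfg : (Submodule.span S G).FG := isNoetherian_submodule.mp hN _ hle
  obtain ⟨t, htG, hspan⟩ := (Submodule.fg_span_iff_fg_span_finset_subset G).mp hTfg
  have hρ : ∀ a : FractionRing S, ∃ ρ : FractionRing R, a ∈ t → IsIntegral R ρ ∧ a = ι ρ := by
    intro a
    by_cases ha : a ∈ t
    · obtain ⟨ρ, h1, h2⟩ := htG ha
      exact ⟨ρ, fun _ => ⟨h1, h2⟩⟩
    · exact ⟨0, fun h => absurd h ha⟩
  choose ρ hρ using hρ
  have hmain : Subalgebra.toSubmodule (integralClosure R (FractionRing R)) =
      Submodule.span R ((t.image ρ : Finset (FractionRing R)) : Set (FractionRing R)) := by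
    apply le_antisymm
    · intro r' hr'
      have hr'int : IsIntegral R r' := hr'
      have hmem : ι r' ∈ Submodule.span S (t : Set (FractionRing S)) := by
        rw [← hspan]
        exact Submodule.subset_span ⟨r', hr'int, rfl⟩
      obtain ⟨f, -, hf⟩ := Submodule.mem_span_finset.mp hmem
      obtain ⟨⟨_, N, rfl⟩, hb⟩ := IsLocalization.exist_integer_multiples
        (Submonoid.powers (Polynomial.X : Polynomial R)) t f
      have hP : ∀ a : FractionRing S, ∃ P : Polynomial R, a ∈ t →
          algebraMap (Polynomial R) S P = (Polynomial.X ^ N : Polynomial R) • f a := by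
        intro a
        by_cases ha : a ∈ t
        · obtain ⟨P, hP⟩ := hb a ha
          exact ⟨P, fun _ => hP⟩
        · exact ⟨0, fun h => absurd h ha⟩
      choose P hP using hP
      have hz : z ^ N = algebraMap S (FractionRing S)
          (algebraMap (Polynomial R) S (Polynomial.X ^ N)) := by
        show (j Polynomial.X) ^ N = j (Polynomial.X ^ N)
        rw [map_pow]
      have hkey : Polynomial.X ^ N * Polynomial.C r' =
          ∑ a ∈ t, (P a).map (algebraMap R (FractionRing R)) * Polynomial.C (ρ a) := by
        rw [← sub_eq_zero]
        apply hev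
        rw [Polynomial.eval₂_sub, Polynomial.eval₂_mul, Polynomial.eval₂_X_pow, Polynomial.eval₂_C,
          Polynomial.eval₂_finsetSum, sub_eq_zero, ← hf, Finset.mul_sum]
        apply Finset.sum_congr rfl
        intro a ha
        rw [Polynomial.eval₂_mul, Polynomial.eval₂_C, Polynomial.eval₂_map, hιg, ← hjev,
          ← (hρ a ha).2]
        show z ^ N * (f a • a) = algebraMap S (FractionRing S) (algebraMap (Polynomial R) S (P a)) * a
        rw [hP a ha, Algebra.smul_def (f a) a, Algebra.smul_def (Polynomial.X ^ N : Polynomial R) (f a),
          map_mul, mul_assoc, hz]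
      have hc : r' = ∑ a ∈ t, algebraMap R (FractionRing R) ((P a).coeff N) * ρ a := by
        have h1 := congrArg (fun q => Polynomial.coeff q N) hkey
        have hl : (Polynomial.X ^ N * Polynomial.C r').coeff N = r' := by
          rw [Polynomial.coeff_mul_C, Polynomial.coeff_X_pow, if_pos rfl, one_mul]
        have hr : (∑ a ∈ t, (P a).map (algebraMap R (FractionRing R)) * Polynomial.C (ρ a)).coeff N =
            ∑ a ∈ t, algebraMap R (FractionRing R) ((P a).coeff N) * ρ a := by
          rw [Polynomial.finsetSum_coeff]
          apply Finset.sum_congr rfl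
          intro a _
          rw [Polynomial.coeff_mul_C, Polynomial.coeff_map]
        rw [← hl, ← hr]
        exact h1
      rw [hc]
      apply Submodule.sum_mem
      intro a ha
      rw [← Algebra.smul_def]
      exact Submodule.smul_mem _ _
        (Submodule.subset_span (Finset.mem_coe.mpr (Finset.mem_image_of_mem ρ ha)))
    · rw [Submodule.span_le]
      intro x hx
      obtain ⟨a, ha, rfl⟩ := Finset.mem_image.mp (Finset.mem_coe.mp hx)
      exact (hρ a ha).1
  have hfgR : (Subalgebra.toSubmodule (integralClosure R (FractionRing R))).FG := by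
    rw [hmain]
    exact Submodule.fg_span (Finset.finite_toSet _)
  exact Module.Finite.iff_fg.mpr hfgR


end Groth.Agent.S9395
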