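import Groth.Statements.S9396
import Groth.Agent.Lib.Helper24.PSN2
import Groth.Agent.Lib.Helper24.PSFinite
import Groth.Agent.Lib.Helper24.N2Descent

set_option autoImplicit false
universe u
open CAlg

namespace Groth.Agent.S9396

/-- If R is a Noetherian N-2 (Japanese) domain, then the power series ring R[[X]] is an N-2 domain. (R
is not assumed integrally closed.) -/
theorem result (R : Type u) [CommRing R] [IsDomain R] [IsNoetherianRing R]
    (h : CAlg.IsN2 R) : CAlg.IsN2 (PowerSeries R) := by
  -- the normalization `R'`
  haveI hfin : Module.Finite R (integralClosure R (FractionRing R)) := h (FractionRing R) inferInstance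
  haveI : IsNoetherianRing (integralClosure R (FractionRing R)) := IsNoetherianRing.of_finite R _
  haveI : IsIntegrallyClosed (integralClosure R (FractionRing R)) :=
    integralClosure.isIntegrallyClosedOfFiniteExtension (FractionRing R)
  haveI : FaithfulSMul R (integralClosure R (FractionRing R)) := by
    rw [faithfulSMul_iff_algebraMap_injective]
    intro x y hxy
    have := congrArg (algebraMap (integralClosure R (FractionRing R)) (FractionRing R)) hxy
    rw [← IsScalarTower.algebraMap_apply, ← IsScalarTower.algebraMap_apply] at this
    exact IsFractionRing.injective R (FractionRing R) this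
  have hN2' : CAlg.IsN2 (integralClosure R (FractionRing R)) := by
    intro L _ _ _ _ hfd
    exact Groth.Agent.Lib.helper13.PIns.finite_integralClosure_of_finite_injective h
      (FractionRing (integralClosure R (FractionRing R))) L
  have hN2ps : CAlg.IsN2 (PowerSeries (integralClosure R (FractionRing R))) :=
    Groth.Agent.Lib.Helper24.PSN2.isN2_powerSeries_of_normal _ hN2'
  haveI : Module.Finite (PowerSeries R) (PowerSeries (integralClosure R (FractionRing R))) :=
    Groth.Agent.Lib.Helper24.PSFinite.finite_powerSeries R _
  haveI : FaithfulSMul (PowerSeries R) (PowerSeries (integralClosure R (FractionRing R))) := by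
    rw [faithfulSMul_iff_algebraMap_injective]
    exact PowerSeries.map_injective _ (FaithfulSMul.algebraMap_injective R _)
  exact Groth.Agent.Lib.Helper24.N2Descent.isN2_of_finite_of_isN2 hN2ps

end Groth.Agent.S9396
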