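import Groth.Statements.S9397
import Mathlib

set_option autoImplicit false
universe u
open CAlg

namespace Groth.Agent.S9397

section helpers

section helpers

lemma core {S : Type u} [CommRing S] [IsDomain S] (L : Type u) [Field L] [Algebra S L]
    (S' : Subalgebra S L) (hfin : (Subalgebra.toSubmodule S').FG) (hfr : IsFractionRing S' L)
    (hN1 : CAlg.IsN1 S') : Module.Finite S (integralClosure S L) := by
  have hfinS' : Module.Finite S S' := Module.Finite.iff_fg.mpr hfin
  have hint : Algebra.IsIntegral S S' := Algebra.IsIntegral.of_finite S S'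
  -- transfer N-1
  have hN1' : Module.Finite S' (integralClosure S' (FractionRing S')) := hN1
  let e : FractionRing S' ≃ₐ[S'] L := FractionRing.algEquiv S' L
  have h2 : (Subalgebra.toSubmodule (integralClosure S' (FractionRing S'))).FG :=
    Module.Finite.iff_fg.mp hN1'
  have h3 := h2.map e.toLinearMap
  have h4 : (Subalgebra.toSubmodule (integralClosure S' L)).FG := by
    rw [← integralClosure_map_algEquiv e]
    convert h3 using 1
    ext x
    simp only [Subalgebra.mem_toSubmodule, Subalgebra.mem_map, Submodule.mem_map]
    rfl
  have h5 : Module.Finite S' (integralClosure S' L) := Module.Finite.iff_fg.mpr h4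
  have h6 : Module.Finite S (integralClosure S' L) := Module.Finite.trans S' _
  -- the S-linear inclusion
  let ι : (integralClosure S' L) →ₗ[S] L :=
    { toFun := fun x => (x : L)
      map_add' := fun _ _ => rfl
      map_smul' := fun _ _ => rfl }
  have hr : LinearMap.range ι = Subalgebra.toSubmodule (integralClosure S L) := by
    ext x
    constructor
    · rintro ⟨⟨z, hz⟩, rfl⟩
      exact isIntegral_trans (R := S) (A := S') z hz
    · intro hx
      exact ⟨⟨x, IsIntegral.tower_top (A := S') hx⟩, rfl⟩
  have h7 : (LinearMap.range ι).FG := Module.Finite.iff_fg.mp (Module.Finite.range ι)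
  rw [hr] at h7
  exact Module.Finite.iff_fg.mpr h7

lemma fracS' {S : Type u} [CommRing S] [IsDomain S] (K : Type u) [Field K] [Algebra S K]
    [IsFractionRing S K] (L : Type u) [Field L] [Algebra S L] [Algebra K L]
    [IsScalarTower S K L] (B : Finset L) (hB : Submodule.span K (B : Set L) = ⊤) :
    IsFractionRing (Algebra.adjoin S (B : Set L)) L := by
  classical
  have hinj : Function.Injective (algebraMap S L) := by
    rw [IsScalarTower.algebraMap_eq S K L]
    exact (algebraMap K L).injective.comp (IsFractionRing.injective S K)
  apply IsFractionRing.of_field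
  intro z
  have hz : z ∈ Submodule.span K (B : Set L) := by rw [hB]; trivial
  rw [Submodule.mem_span_finset] at hz
  obtain ⟨c, -, hc⟩ := hz
  obtain ⟨⟨t, ht⟩, hb⟩ := IsLocalization.exist_integer_multiples_of_finset
    (nonZeroDivisors S) (B.image c)
  have ht0 : t ≠ 0 := nonZeroDivisors.ne_zero ht
  have hmem : t • z ∈ Algebra.adjoin S (B : Set L) := by
    rw [← hc, Finset.smul_sum]
    apply Subalgebra.sum_mem
    intro b hbB
    obtain ⟨a, ha⟩ := hb (c b) (Finset.mem_image_of_mem c hbB)
    have ha' : algebraMap S K a = t • c b := ha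
    rw [← smul_assoc, ← ha', algebraMap_smul]
    exact Subalgebra.smul_mem _ (Algebra.subset_adjoin hbB) _
  refine ⟨⟨t • z, hmem⟩, ⟨algebraMap S L t, Subalgebra.algebraMap_mem _ t⟩, ?_⟩
  have htL : algebraMap S L t ≠ 0 := fun h0 => ht0 (hinj (by rw [h0, map_zero]))
  show z = (t • z) / (algebraMap S L t)
  rw [Algebra.smul_def]
  field_simp

end helpers


end helpers

/-- A ring R is universally Japanese provided that each R-algebra of finite type which is a domain is
N-1. -/
theorem result (R : Type u) [CommRing R]
    (h : ∀ (S : Type u) [CommRing S] [IsDomain S] [Algebra R S], Algebra.FiniteType R S → CAlg.IsN1 S) :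
    CAlg.IsUniversallyJapanese R := by
  classical
  intro S _ _ _ hS L _ _ _ _ hfd
  let K := FractionRing S
  have hAlgK : Algebra.IsAlgebraic K L := Algebra.IsAlgebraic.of_finite K L
  have hAlg : Algebra.IsAlgebraic S L := (IsFractionRing.comap_isAlgebraic_iff (K := K)).mpr hAlgK
  obtain ⟨B0, hB0⟩ := (Module.finite_def.mp hfd)
  obtain ⟨y, hy0, hy⟩ := Algebra.IsAlgebraic.exists_integral_multiples S B0
  let B : Finset L := B0.image (fun z => y • z)
  have hBint : ∀ b ∈ (B : Set L), IsIntegral S b := by
    intro b hb
    simp only [B, Finset.coe_image, Set.mem_image] at hb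
    obtain ⟨z, hz, rfl⟩ := hb
    exact hy z hz
  have hyK : algebraMap S K y ≠ 0 := fun h0 =>
    hy0 (IsFractionRing.injective S K (by rw [h0, map_zero]))
  have hBspan : Submodule.span K (B : Set L) = ⊤ := by
    rw [eq_top_iff, ← hB0, Submodule.span_le]
    intro z hz
    have : z = (algebraMap S K y)⁻¹ • (y • z) := by
      rw [← algebraMap_smul K y z, smul_smul, inv_mul_cancel₀ hyK, one_smul]
    rw [this]
    apply Submodule.smul_mem
    apply Submodule.subset_span
    simp only [B, Finset.coe_image]
    exact ⟨z, hz, rfl⟩
  let S' : Subalgebra S L := Algebra.adjoin S (B : Set L)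
  have hfr : IsFractionRing S' L := fracS' K L B hBspan
  have hfin : (Subalgebra.toSubmodule S').FG := fg_adjoin_of_finite B.finite_toSet hBint
  apply core L S' hfin hfr
  let _ : Algebra R S' := ((algebraMap S S').comp (algebraMap R S)).toAlgebra
  have : IsScalarTower R S S' := IsScalarTower.of_algebraMap_eq fun x => rfl
  apply h S'
  have hft : Algebra.FiniteType S S' := by
    rw [← Subalgebra.fg_iff_finiteType]
    exact Subalgebra.fg_adjoin_finset B
  exact Algebra.FiniteType.trans hS hft

end Groth.Agent.S9397
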