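import Groth.Statements.S9399
import Mathlib
import Groth.Agent.S9394

set_option autoImplicit false
universe u
open CAlg

namespace Groth.Agent.S9399

section helpers

section helpers

lemma away_of_eq {S : Type u} [CommRing S] (M : Submonoid S) (g : S)
    (hM : M = Submonoid.powers g) (T : Type u) [CommRing T] [Algebra S T] [IsLocalization M T] :
    IsLocalization.Away g T := by
  subst hM; infer_instance

end helpers


end helpers

/-- Being universally Japanese can be checked on a finite cover of Spec R by principal opens. -/
theorem result (R : Type u) [CommRing R]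
    {ι : Type u} [Finite ι] (f : ι → R) (hf : Ideal.span (Set.range f) = ⊤)
    (h : ∀ i, CAlg.IsUniversallyJapanese (Localization.Away (f i))) :
    CAlg.IsUniversallyJapanese R := by
  classical
  intro S _ _ _ hS
  let ι' := {i : ι // algebraMap R S (f i) ≠ 0}
  let g' : ι' → S := fun i => algebraMap R S (f i.1)
  have hg' : Ideal.span (Set.range g') = ⊤ := by
    have h1 : Ideal.map (algebraMap R S) (Ideal.span (Set.range f)) = ⊤ := by
      rw [hf, Ideal.map_top]
    rw [Ideal.map_span] at h1
    rw [eq_top_iff, ← h1, Ideal.span_le]
    rintro _ ⟨_, ⟨i, rfl⟩, rfl⟩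
    by_cases hi : algebraMap R S (f i) = 0
    · rw [hi]; exact Ideal.zero_mem _
    · exact Ideal.subset_span ⟨⟨i, hi⟩, rfl⟩
  let Sf' : ι' → Type u := fun i =>
    Localization (Algebra.algebraMapSubmonoid S (Submonoid.powers (f i.1)))
  have hsub : ∀ i : ι', Algebra.algebraMapSubmonoid S (Submonoid.powers (f i.1)) =
      Submonoid.powers (g' i) := by
    intro i
    simp only [Algebra.algebraMapSubmonoid, Submonoid.map_powers]
    rfl
  have hdom : ∀ i : ι', IsDomain (Sf' i) := by
    intro i
    apply IsLocalization.isDomain_localization
    rw [hsub i]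
    exact powers_le_nonZeroDivisors_of_noZeroDivisors i.2
  have hloc : ∀ i : ι', IsLocalization.Away (g' i) (Sf' i) := by
    intro i
    exact away_of_eq (Algebra.algebraMapSubmonoid S (Submonoid.powers (f i.1))) (g' i) (hsub i) _
  apply Groth.Agent.S9394.result S g' hg' Sf'
  intro i
  apply h i.1 (Sf' i)
  have h0 : Algebra.FinitePresentation S (Sf' i) := IsLocalization.Away.finitePresentation (g' i)
  have h1 : Algebra.FiniteType S (Sf' i) := Algebra.FiniteType.of_finitePresentation
  have h2 : Algebra.FiniteType R (Sf' i) := Algebra.FiniteType.trans hS h1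
  exact Algebra.FiniteType.of_restrictScalars_finiteType R (Localization.Away (f i.1)) (Sf' i)

end Groth.Agent.S9399
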