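import Groth.Statements.S9402
-- import your own Groth.Agent.* helpers here

set_option autoImplicit false
universe u
open CAlg

namespace Groth.Agent.S9402

/-- Let R → S be a ring map with S a nonzero algebra over the rationals and f ∈ S such that some
S-linear form on the module of differentials of S over R sends df to 1 (that is, df spans a free
direct summand of rank one). Then f is not nilpotent. (The published statement asks only that S·df
be a direct summand of the module of differentials, which also holds for the rationals with a
square-zero element adjoined and for the zero ring, where f is nilpotent; this row asks for an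
S-linear form on the differentials sending df to 1, as the published proof uses, and S nonzero.) -/
theorem result (R : Type u) [CommRing R] (S : Type u)
    [CommRing S] [Nontrivial S] [Algebra R S] [Algebra ℚ S] (f : S)
    (θ : Ω[S⁄R] →ₗ[S] S) (hθ : θ (KaehlerDifferential.D R S f) = 1) : ¬ IsNilpotent f := by
  classical
  intro hnil
  have hex : ∃ n : ℕ, f ^ n = 0 := hnil
  set n := Nat.find hex with hn
  have hfn : f ^ n = 0 := Nat.find_spec hex
  have hn0 : n ≠ 0 := by
    intro h0
    rw [h0, pow_zero] at hfn
    exact one_ne_zero hfn
  have h1 : θ (KaehlerDifferential.D R S (f ^ n)) = 0 := by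
    rw [hfn, map_zero, map_zero]
  rw [Derivation.leibniz_pow, map_nsmul, map_smul, hθ, smul_eq_mul, mul_one] at h1
  have h2 : f ^ (n - 1) = 0 := by
    have hunit : IsUnit ((n : ℚ) • (1 : S)) := by
      have : IsUnit (algebraMap ℚ S (n : ℚ)) :=
        (IsUnit.mk0 (n : ℚ) (Nat.cast_ne_zero.mpr hn0)).map (algebraMap ℚ S)
      rwa [Algebra.algebraMap_eq_smul_one] at this
    have h3 : ((n : ℚ) • (1 : S)) * f ^ (n - 1) = 0 := by
      rw [smul_mul_assoc, one_mul, Nat.cast_smul_eq_nsmul]
      exact h1
    exact hunit.mul_right_eq_zero.mp h3
  exact Nat.find_min hex (Nat.sub_lt (Nat.pos_of_ne_zero hn0) one_pos) h2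

end Groth.Agent.S9402
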