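import Groth.Statements.S9403
import Mathlib

set_option autoImplicit false
universe u
open CAlg

namespace Groth.Agent.S9403

/-- Let R → S be a ring map with S a Noetherian local ring which is an algebra over the rationals, and f
∈ S such that some S-linear form on the module of differentials of S over R sends df to 1 (df spans
a free direct summand of rank one). Then f is a nonzerodivisor of S. (The published statement asks
only that S·df be a direct summand of the module of differentials, which also holds for the
rationals with a square-zero element adjoined, where f is a zero divisor; this row asks for an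
S-linear form on the differentials sending df to 1, as the published proof uses.) -/
theorem result (R : Type u) [CommRing R]
    (S : Type u) [CommRing S] [IsLocalRing S] [IsNoetherianRing S] [Algebra R S] [Algebra ℚ S]
    (f : S) (θ : Ω[S⁄R] →ₗ[S] S) (hθ : θ (KaehlerDifferential.D R S f) = 1) : f ∈ nonZeroDivisors S := by
  classical
  let dd : Derivation R S S := θ.compDer (KaehlerDifferential.D R S)
  have hddf : dd f = 1 := hθ
  rw [mem_nonZeroDivisors_iff_right]
  intro g hg
  -- hg : g * f = 0
  by_cases hfu : IsUnit f
  · exact (hfu.mul_left_eq_zero).mp hg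
  · have hkey : ∀ n : ℕ, ∃ c : S, g = f ^ n * c := by
      intro n
      induction n with
      | zero => exact ⟨g, by rw [pow_zero, one_mul]⟩
      | succ n ih =>
        obtain ⟨c, hc⟩ := ih
        have h0 : f ^ (n + 1) * c = 0 := by
          rw [pow_succ, mul_assoc, mul_comm f c, ← mul_assoc, ← hc]
          exact hg
        have h1 := congrArg dd h0
        rw [map_zero, Derivation.leibniz, Derivation.leibniz_pow, hddf] at h1
        simp only [smul_eq_mul, Nat.add_sub_cancel, mul_one, nsmul_eq_mul] at h1
        -- h1 : f^(n+1) * dd c + c * ((n+1) * f^n) = 0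
        have hu : IsUnit (((n + 1 : ℕ) : S)) := by
          have : ((n + 1 : ℕ) : S) = algebraMap ℚ S ((n + 1 : ℕ) : ℚ) := by
            rw [map_natCast]
          rw [this]
          exact (IsUnit.mk0 _ (by positivity)).map (algebraMap ℚ S)
        obtain ⟨v, hv⟩ := hu
        refine ⟨-(dd c) * (v⁻¹ : Sˣ), ?_⟩
        have h2 : ((n + 1 : ℕ) : S) * g = -(f ^ (n + 1) * dd c) := by
          rw [hc, eq_neg_iff_add_eq_zero, ← h1]
          ring
        have h3 : g = (v⁻¹ : Sˣ) * (((n + 1 : ℕ) : S) * g) := by
          rw [← mul_assoc, ← hv, Units.inv_mul, one_mul]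
        rw [h3, h2]
        ring
    have hI : Ideal.span {f} ≠ ⊤ := by
      rw [Ne, Ideal.span_singleton_eq_top]
      exact hfu
    have hkr := Ideal.iInf_pow_eq_bot_of_isLocalRing (Ideal.span {f}) hI
    have hmem : g ∈ ⨅ i, Ideal.span {f} ^ i := by
      rw [Ideal.mem_iInf]
      intro n
      rw [Ideal.span_singleton_pow, Ideal.mem_span_singleton]
      obtain ⟨c, hc⟩ := hkey n
      exact ⟨c, hc⟩
    rw [hkr] at hmem
    exact hmem

end Groth.Agent.S9403
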