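import Groth.Statements.S9406
import Mathlib
import Groth.Agent.S0565

set_option autoImplicit false
universe u
open CAlg

namespace Groth.Agent.S9406

/-- Regularity descends along faithfully flat ring maps: whenever S is a faithfully flat R-algebra whose
underlying ring is regular, the base ring R is regular as well. -/
theorem result (R : Type u) [CommRing R] (S : Type u) [CommRing S]
    [Algebra R S] [Module.FaithfullyFlat R S] [IsRegularRing S] : IsRegularRing R := by
  have hS : IsNoetherianRing S := inferInstance
  have hN : IsNoetherianRing R := by
    have e : S ≃ₗ[S] TensorProduct R S R := (TensorProduct.AlgebraTensorModule.rid R S S).symm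
    have h1 : IsNoetherian S (TensorProduct R S R) := isNoetherian_of_linearEquiv e
    exact Submodule.IsNoetherian.of_isNoetherian_tensorProduct_of_faithfullyFlat (A := S) h1
  rw [isRegularRing_iff]
  intro p hp
  obtain ⟨q, hq, hlies⟩ := Ideal.exists_isPrime_liesOver_of_faithfullyFlat (B := S) p
  let _ := Localization.AtPrime.algebraOfLiesOver p q
  have hloc : IsLocalHom (algebraMap (Localization.AtPrime p) (Localization.AtPrime q)) := by
    rw [RingHom.algebraMap_toAlgebra]
    exact Localization.isLocalHom_localRingHom p q (algebraMap R S) Ideal.LiesOver.over
  have hflat : Module.Flat (Localization.AtPrime p) (Localization.AtPrime q) := inferInstance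
  have hreg : IsRegularLocalRing (Localization.AtPrime q) :=
    IsRegularRing.isRegularLocalRing_localization q
  exact Groth.Agent.S0565.result (Localization.AtPrime p) (Localization.AtPrime q)


end Groth.Agent.S9406
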