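import Groth.Statements.S9407
import Mathlib
import Groth.Agent.Lib.Helper24.EtaleReduced

set_option autoImplicit false
universe u
open CAlg

namespace Groth.Agent.S9407

/-- Reducedness ascends along smooth ring maps: if R is reduced and S is smooth over R then S is
reduced. -/
theorem result (R : Type u) [CommRing R] (S : Type u) [CommRing S]
    [Algebra R S] [Algebra.Smooth R S] [IsReduced R] : IsReduced S := by
  obtain ⟨s, hs, h⟩ := Algebra.Smooth.exists_span_eq_top_isStandardSmooth R S
  -- each localization is reduced
  have hloc : ∀ t ∈ s, IsReduced (Localization.Away t) := by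
    intro t ht
    have h1 := h t ht
    obtain ⟨ι, σ, hσ, hι, ⟨P⟩⟩ := Algebra.IsStandardSmooth.out (R := R) (S := Localization.Away t)
    have h2 : Algebra.IsStandardSmoothOfRelativeDimension P.dimension R (Localization.Away t) :=
      ⟨ι, σ, hσ, hι, P, rfl⟩
    obtain ⟨g, hg⟩ := Algebra.IsStandardSmoothOfRelativeDimension.exists_etale_mvPolynomial
      P.dimension R (Localization.Away t)
    let _ := g.toRingHom.toAlgebra
    have h3 : Algebra.Etale (MvPolynomial (Fin P.dimension) R) (Localization.Away t) :=
      RingHom.etale_algebraMap.mp hg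
    exact Groth.Agent.Lib.Helper24.EtaleReduced.isReduced_of_etale
      (MvPolynomial (Fin P.dimension) R) (Localization.Away t)
  constructor
  intro x hx
  -- every element of `s` has a power killing `x`
  have hrad : ∀ t ∈ s, t ∈ (Ideal.span {x}).annihilator.radical := by
    intro t ht
    have := hloc t ht
    have h0 : algebraMap S (Localization.Away t) x = 0 := (hx.map _).eq_zero
    rw [IsLocalization.map_eq_zero_iff (Submonoid.powers t)] at h0
    obtain ⟨⟨_, n, rfl⟩, hn⟩ := h0
    refine ⟨n, ?_⟩
    rw [Submodule.mem_annihilator_span_singleton]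
    exact hn
  have htop : (Ideal.span {x}).annihilator.radical = ⊤ := by
    rw [eq_top_iff, ← hs, Ideal.span_le]
    exact hrad
  rw [Ideal.radical_eq_top] at htop
  rw [Submodule.annihilator_eq_top_iff, Ideal.span_singleton_eq_bot] at htop
  exact htop


end Groth.Agent.S9407
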