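import Groth.Statements.S9409
import Mathlib

set_option autoImplicit false
universe u
open CAlg

namespace Groth.Agent.S9409

open TensorProduct

theorem exists_index_finset (k : Type u) [Field k] {ι : Type u}
    (K : ι → Type u) [∀ i, Field (K i)] [∀ i, Algebra (K i) k]
    (hdir : ∀ i j, ∃ l, Set.range (algebraMap (K i) k) ⊆ Set.range (algebraMap (K l) k) ∧
      Set.range (algebraMap (K j) k) ⊆ Set.range (algebraMap (K l) k))
    (hcov : ∀ x : k, ∃ i, x ∈ Set.range (algebraMap (K i) k)) (s : Finset k) :
    ∃ i, ∀ x ∈ s, x ∈ Set.range (algebraMap (K i) k) := by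
  classical
  induction s using Finset.induction_on with
  | empty =>
    obtain ⟨i, -⟩ := hcov 0
    exact ⟨i, by simp⟩
  | insert a s _ ih =>
    obtain ⟨i, hi⟩ := ih
    obtain ⟨j, hj⟩ := hcov a
    obtain ⟨l, hl1, hl2⟩ := hdir i j
    refine ⟨l, fun x hx => ?_⟩
    rcases Finset.mem_insert.1 hx with rfl | hx
    · exact hl2 hj
    · exact hl1 (hi x hx)

/-- descent of a finite field extension to a subfield containing the structure constants -/
theorem descend (k k' F : Type u) [Field k] [Field k'] [Field F] [Algebra k k'] [Algebra F k]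
    [Algebra F k'] [IsScalarTower F k k'] {n : ℕ} (b : Module.Basis (Fin n) k k')
    (h1 : ∀ e, b.repr 1 e ∈ Set.range (algebraMap F k))
    (hmul : ∀ a c e, b.repr (b a * b c) e ∈ Set.range (algebraMap F k)) :
    ∃ (L : Subalgebra F k') (_ : Module.Finite F L) (_ : IsField L),
      Nonempty (TensorProduct F k L ≃ₐ[k] k') := by
  classical
  set V : Submodule F k' := Submodule.span F (Set.range b) with hV
  have hbV : ∀ e, b e ∈ V := fun e => Submodule.subset_span ⟨e, rfl⟩
  have hsum : ∀ x : k', (∀ e, b.repr x e ∈ Set.range (algebraMap F k)) → x ∈ V := by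
    intro x hx
    rw [← b.sum_repr x]
    refine Submodule.sum_mem _ fun e _ => ?_
    obtain ⟨c, hc⟩ := hx e
    rw [← hc, algebraMap_smul]
    exact V.smul_mem c (hbV e)
  have hone : (1 : k') ∈ V := hsum 1 h1
  have hmulV : ∀ x y, x ∈ V → y ∈ V → x * y ∈ V := by
    intro x y hx hy
    have h2 : V * V ≤ V := by
      rw [hV, Submodule.span_mul_span, Submodule.span_le]
      rintro _ ⟨_, ⟨a, rfl⟩, _, ⟨c, rfl⟩, rfl⟩
      exact hsum _ (hmul a c)
    exact h2 (Submodule.mul_mem_mul hx hy)
  let L : Subalgebra F k' := V.toSubalgebra hone hmulV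
  have hinjF : Function.Injective fun r : F => r • (1 : k) := by
    intro x y hxy
    simp only [Algebra.smul_def, mul_one] at hxy
    exact (algebraMap F k).injective hxy
  have hli : LinearIndependent F b := b.linearIndependent.restrict_scalars hinjF
  let bV : Module.Basis (Fin n) F V := Module.Basis.span hli
  have hbV' : ∀ e, ((bV e : V) : k') = b e := fun e => by
    rw [show bV e = _ from Module.Basis.span_apply hli e]
  let eLV : L ≃ₗ[F] V := LinearEquiv.refl F V
  let bL : Module.Basis (Fin n) F L := bV.map eLV.symm
  have hbL : ∀ e, ((bL e : L) : k') = b e := fun e => by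
    simp only [bL, Module.Basis.map_apply]
    exact hbV' e
  haveI hfin : Module.Finite F L := Module.Finite.of_basis bL
  have hfield : IsField L := isField_of_isIntegral_of_isField' (R := F) (Field.toIsField F)
  refine ⟨L, hfin, hfield, ?_⟩
  let f : TensorProduct F k L →ₐ[k] k' :=
    Algebra.TensorProduct.lift (Algebra.ofId k k') L.val (fun _ _ => Commute.all _ _)
  let bT : Module.Basis (Fin n) k (TensorProduct F k L) := Algebra.TensorProduct.basis k bL
  have hf : f.toLinearMap = (bT.equiv b (Equiv.refl _)).toLinearMap := by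
    apply bT.ext
    intro e
    have h3 : bT e = (1 : k) ⊗ₜ[F] bL e := Algebra.TensorProduct.basis_apply bL e
    rw [LinearEquiv.coe_coe, Module.Basis.equiv_apply, h3]
    simp [f, hbL]
  have hbij : Function.Bijective f := by
    have : (f : TensorProduct F k L → k') = (bT.equiv b (Equiv.refl _)) := by
      ext x
      exact LinearMap.congr_fun hf x
    rw [this]
    exact (bT.equiv b (Equiv.refl _)).bijective
  exact ⟨AlgEquiv.ofBijective f hbij⟩

/-- Let k be a field written as a directed union of subfields k_i (given as fields mapping to k whose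
images form a directed family covering k) and A a Noetherian k-algebra. Geometric regularity of A
over every one of the k_i implies that A is also geometrically regular as a k-algebra. -/
theorem result (k : Type u) [Field k] {ι : Type u}
    (K : ι → Type u) [∀ i, Field (K i)] [∀ i, Algebra (K i) k]
    (hdir : ∀ i j, ∃ l, Set.range (algebraMap (K i) k) ⊆ Set.range (algebraMap (K l) k) ∧
      Set.range (algebraMap (K j) k) ⊆ Set.range (algebraMap (K l) k))
    (hcov : ∀ x : k, ∃ i, x ∈ Set.range (algebraMap (K i) k))
    (A : Type u) [CommRing A] [Algebra k A] [IsNoetherianRing A] [∀ i, Algebra (K i) A]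
    [∀ i, IsScalarTower (K i) k A] (h : ∀ i, CAlg.IsGeometricallyRegular (K i) A) :
    CAlg.IsGeometricallyRegular k A := by
  intro k' _ _ hfin
  classical
  let b : Module.Basis (Fin (Module.finrank k k')) k k' := Module.finBasis k k'
  let T : Finset k := (Finset.univ.image fun e => b.repr 1 e) ∪
    (Finset.univ.image fun (x : Fin (Module.finrank k k') × Fin (Module.finrank k k') ×
      Fin (Module.finrank k k')) => b.repr (b x.1 * b x.2.1) x.2.2)
  obtain ⟨i, hi⟩ := exists_index_finset k K hdir hcov T
  letI : Algebra (K i) k' := ((algebraMap k k').comp (algebraMap (K i) k)).toAlgebra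
  haveI : IsScalarTower (K i) k k' := IsScalarTower.of_algebraMap_eq (fun _ => rfl)
  have hi1 : ∀ e, b.repr 1 e ∈ Set.range (algebraMap (K i) k) := fun e => hi _ (by
    apply Finset.mem_union_left
    exact Finset.mem_image.2 ⟨e, Finset.mem_univ _, rfl⟩)
  have hi2 : ∀ a c e, b.repr (b a * b c) e ∈ Set.range (algebraMap (K i) k) := fun a c e =>
    hi _ (by
      apply Finset.mem_union_right
      exact Finset.mem_image.2 ⟨(a, c, e), Finset.mem_univ _, rfl⟩)
  obtain ⟨L, hLfin, hLfield, ⟨e⟩⟩ := descend k k' (K i) b hi1 hi2
  letI := hLfield.toField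
  have hreg : IsRegularRing (TensorProduct (K i) L A) := h i L hLfin
  let e1 : TensorProduct (K i) L A ≃+* TensorProduct (K i) A L :=
    (Algebra.TensorProduct.comm (K i) L A).toRingEquiv
  let e2 : TensorProduct k A (TensorProduct (K i) k L) ≃+* TensorProduct (K i) A L :=
    (Algebra.TensorProduct.cancelBaseChange (K i) k k A L).toRingEquiv
  let e3 : TensorProduct k A (TensorProduct (K i) k L) ≃+* TensorProduct k A k' :=
    (Algebra.TensorProduct.congr (AlgEquiv.refl (R := k) (A₁ := A)) e).toRingEquiv
  let e4 : TensorProduct k A k' ≃+* TensorProduct k k' A :=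
    (Algebra.TensorProduct.comm k A k').toRingEquiv
  exact IsRegularRing.of_ringEquiv (((e1.trans e2.symm).trans e3).trans e4)

end Groth.Agent.S9409
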