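import Groth.Statements.S9410
import Groth.Agent.Lib.Helper24.GeomSepAlg
import Groth.Agent.Lib.Helper24.HomComp
import Mathlib

set_option autoImplicit false
universe u
open CAlg

namespace Groth.Agent.S9410

/-- Given a separable algebraic field extension k'/k and a Noetherian k'-algebra A, geometric regularity
of A over k' is equivalent to geometric regularity of A over k. -/
theorem result (k : Type u) [Field k] (k' : Type u)
    [Field k'] [Algebra k k'] [Algebra.IsSeparable k k'] (A : Type u) [CommRing A] [Algebra k' A]
    [Algebra k A] [IsScalarTower k k' A] [IsNoetherianRing A] :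
    CAlg.IsGeometricallyRegular k A ↔ CAlg.IsGeometricallyRegular k' A := by
  have hQ : ∀ (R R' : Type u) [CommRing R] [CommRing R'], (R ≃+* R') →
      IsRegularLocalRing R → IsRegularLocalRing R' := by
    intro R R' _ _ e h
    exact IsRegularLocalRing.of_ringEquiv e
  constructor
  · intro h K' _ _ hK'
    haveI := hK'
    haveI : IsNoetherianRing (TensorProduct k' K' A) :=
      Groth.Agent.Lib.Helper24.HomComp.isNoetherianRing_tensor_of_finite k' K' A
    have h1 := Groth.Agent.Lib.Helper24.GeomSepAlg.up
      (fun R _ => IsRegularLocalRing R) hQ k k' A
      (fun L _ _ hL q _ => (h L hL).isRegularLocalRing_localization q) K' hK'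
    exact { isRegularLocalRing_localization := fun q _ => h1 q }
  · intro h K _ _ hK
    haveI := hK
    haveI : IsNoetherianRing (TensorProduct k K A) :=
      Groth.Agent.Lib.Helper24.HomComp.isNoetherianRing_tensor_of_finite k K A
    have h1 := Groth.Agent.Lib.Helper24.GeomSepAlg.down
      (fun R _ => IsRegularLocalRing R) hQ k k' A
      (fun L _ _ hL q _ => (h L hL).isRegularLocalRing_localization q) K hK
    exact { isRegularLocalRing_localization := fun q _ => h1 q }

end Groth.Agent.S9410
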