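import Groth.Statements.S9412
import Groth.Agent.S4756
import Mathlib

set_option autoImplicit false
universe u
open EGA4

namespace Groth.Agent.S9412

/-- A localization of a geometrically normal algebra over a field k is geometrically normal over k. -/
theorem result (k : Type u) [Field k] (A : Type u) [CommRing A]
    [Algebra k A] (M : Submonoid A) (B : Type u) [CommRing B] [Algebra A B] [IsLocalization M B]
    [Algebra k B] [IsScalarTower k A B] (h : EGA4.IsGeomNormal k A) :
    EGA4.IsGeomNormal k B := by
  intro K _ _ hK
  have h0 := h K hK
  letI : Algebra (TensorProduct k K A) (TensorProduct k K B) :=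
    (Algebra.TensorProduct.map (AlgHom.id K K) (IsScalarTower.toAlgHom k A B)).toRingHom.toAlgebra
  haveI : IsScalarTower K (TensorProduct k K A) (TensorProduct k K B) :=
    IsScalarTower.of_algebraMap_eq' (by
      ext x
      simp [RingHom.algebraMap_toAlgebra])
  have H : (algebraMap (TensorProduct k K A) (TensorProduct k K B)).comp
      (Algebra.TensorProduct.includeRight (R := k) (A := K) (B := A)).toRingHom =
      (Algebra.TensorProduct.includeRight (R := k) (A := K) (B := B)).toRingHom.comp
        (algebraMap A B) := by
    ext x
    simp [RingHom.algebraMap_toAlgebra]
  haveI := IsLocalization.tensorProduct_tensorProduct_right k K M B H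
  exact Groth.Agent.S4756.locStable_isNormalRing.loc (TensorProduct k K A) (TensorProduct k K B)
    (M.map (Algebra.TensorProduct.includeRight (R := k) (A := K))) h0

end Groth.Agent.S9412
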