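import Groth.Statements.S9414
import Groth.Agent.S11311
-- import your own Groth.Agent.* helpers here

set_option autoImplicit false
universe u
open CAlg

namespace Groth.Agent.S9414

open KaehlerDifferential TensorProduct

/-- for a surjection `B → K` of `k`-algebras with `K` formally étale over `k`, the map
`I/I² → K ⊗ Ω[B/k]` is bijective -/
lemma kerCot_bijective (k B K : Type u) [CommRing k] [CommRing B] [Algebra k B] [CommRing K]
    [Algebra k K] [Algebra B K] [IsScalarTower k B K] [Algebra.FormallyEtale k K]
    (hsurj : Function.Surjective (algebraMap B K)) :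
    Function.Bijective (kerCotangentToTensor k B K) := by
  constructor
  · have hsurj' : Function.Surjective
        (IsScalarTower.toAlgHom k B K).kerSquareLift := by
      intro y
      obtain ⟨b, rfl⟩ := hsurj y
      exact ⟨Ideal.Quotient.mk _ b, rfl⟩
    have hnil : IsNilpotent (RingHom.ker
        (((IsScalarTower.toAlgHom k B K).kerSquareLift :
          (B ⧸ (RingHom.ker (IsScalarTower.toAlgHom k B K).toRingHom) ^ 2) →ₐ[k] K) :
          (B ⧸ (RingHom.ker (IsScalarTower.toAlgHom k B K).toRingHom) ^ 2) →+* K)) := by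
      refine ⟨2, ?_⟩
      have := AlgHom.ker_kerSquareLift (IsScalarTower.toAlgHom k B K)
      change RingHom.ker (IsScalarTower.toAlgHom k B K).kerSquareLift.toRingHom ^ 2
        = 0
      rw [this, Ideal.cotangentIdeal_square]
      rfl
    let g : K →ₐ[k]
        B ⧸ (RingHom.ker (IsScalarTower.toAlgHom k B K).toRingHom) ^ 2 :=
      Algebra.FormallySmooth.liftOfSurjective (AlgHom.id k K)
        (IsScalarTower.toAlgHom k B K).kerSquareLift hsurj' hnil
    have hg : (IsScalarTower.toAlgHom k B K).kerSquareLift.comp g =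
        AlgHom.id k _ := Algebra.FormallySmooth.comp_liftOfSurjective _ _ hsurj' hnil
    obtain ⟨l, hl⟩ := (retractionKerCotangentToTensorEquivSection (R := k) hsurj).symm ⟨g, hg⟩
    exact Function.LeftInverse.injective (g := l) (fun x => LinearMap.congr_fun hl x)
  · have : Subsingleton Ω[K⁄k] := inferInstance
    intro y
    exact (exact_kerCotangentToTensor_mapBaseChange k B K hsurj y).mp
      (Subsingleton.elim _ _)


open TensorProduct in
/-- For an algebraically closed field k, a finite type k-algebra S and a maximal ideal m of S with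
residue field κ = S/m, the κ-vector spaces κ ⊗_S Ω_{S/k} and m/m² have the same dimension. -/
theorem result (k : Type u) [Field k]
    [IsAlgClosed k] (S : Type u) [CommRing S] [Algebra k S] [Algebra.FiniteType k S]
    (m : Ideal S) [m.IsMaximal] :
    Module.finrank (S ⧸ m) ((S ⧸ m) ⊗[S] Ω[S⁄k]) = Module.finrank (S ⧸ m) m.Cotangent := by
  letI : Field (S ⧸ m) := Ideal.Quotient.field m
  have hft : Algebra.FiniteType k (S ⧸ m) :=
    Algebra.FiniteType.of_surjective (Ideal.Quotient.mkₐ k m) Ideal.Quotient.mk_surjective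
  have hfin : Module.Finite k (S ⧸ m) := finite_of_finite_type_of_isJacobsonRing k (S ⧸ m)
  have hbij : Function.Bijective (algebraMap k (S ⧸ m)) :=
    IsAlgClosed.algebraMap_bijective_of_isIntegral
  have : Algebra.FormallyEtale k (S ⧸ m) :=
    Algebra.FormallyEtale.of_equiv (AlgEquiv.ofBijective (Algebra.ofId k (S ⧸ m)) hbij)
  have hsurj : Function.Surjective (algebraMap S (S ⧸ m)) := Ideal.Quotient.mk_surjective
  have hker : m = RingHom.ker (algebraMap S (S ⧸ m)) := by
    rw [Ideal.Quotient.algebraMap_eq, Ideal.mk_ker]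
  let e₁ : m.Cotangent ≃ₗ[S] (S ⧸ m) ⊗[S] Ω[S⁄k] :=
    (Groth.Agent.S11311.cotEquivOfEq _ _ hker).trans
      (LinearEquiv.ofBijective _ (kerCot_bijective k S (S ⧸ m) hsurj))
  let e₂ : m.Cotangent ≃ₗ[S ⧸ m] (S ⧸ m) ⊗[S] Ω[S⁄k] :=
    LinearEquiv.extendScalarsOfSurjective hsurj e₁
  exact e₂.finrank_eq.symm

end Groth.Agent.S9414
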