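import Groth.Statements.S9415
import Groth.Agent.Lib.Helper17.SmoothArtin
import Mathlib

set_option autoImplicit false
universe u
open CAlg

namespace Groth.Agent.S9415

/-- Let R be a Noetherian local algebra over a field k whose residue field κ is a finitely generated,
separable (that is, geometrically reduced) field extension of k. Then the map from m/m² (m the
maximal ideal, realised as the kernel of R → κ) to κ ⊗_R Ω_{R/k} sending the class of x to 1 ⊗ dx is
injective. -/
theorem result (k : Type u) [Field k] (R : Type u)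
    [CommRing R] [IsLocalRing R] [IsNoetherianRing R] [Algebra k R]
    [Algebra.EssFiniteType k (IsLocalRing.ResidueField R)]
    [Algebra.IsGeometricallyReduced k (IsLocalRing.ResidueField R)] :
    Function.Injective
      (KaehlerDifferential.kerCotangentToTensor k R (IsLocalRing.ResidueField R)) := by
  classical
  haveI : Algebra.FormallySmooth k (IsLocalRing.ResidueField R) :=
    Groth.Agent.Lib.helper17.FieldLift.formallySmooth_of_isGeometricallyReduced
  set I : Ideal R := RingHom.ker (algebraMap R (IsLocalRing.ResidueField R)) with hI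
  have hImem : ∀ a : R, a ∈ I ↔ algebraMap R (IsLocalRing.ResidueField R) a = 0 := fun a => Iff.rfl
  have hI_le : ∀ a ∈ I, a ∈ IsLocalRing.maximalIdeal R := by
    intro a ha
    rw [← IsLocalRing.residue_eq_zero_iff]
    exact ha
  -- the quotient map q : R/I² → κ
  let f₀ : R →ₐ[k] IsLocalRing.ResidueField R := IsScalarTower.toAlgHom k R _
  have hf₀ : ∀ a, f₀ a = algebraMap R (IsLocalRing.ResidueField R) a := fun a => rfl
  let q : R ⧸ I ^ 2 →ₐ[k] IsLocalRing.ResidueField R :=
    Ideal.Quotient.liftₐ (I ^ 2) f₀ (fun a ha => (hImem a).mp (Ideal.pow_le_self (by norm_num) ha))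
  have hq_mk : ∀ a : R, q (Ideal.Quotient.mk (I ^ 2) a)
      = algebraMap R (IsLocalRing.ResidueField R) a := fun a => rfl
  have hq_surj : Function.Surjective q := by
    intro x
    obtain ⟨a, rfl⟩ := IsLocalRing.residue_surjective x
    exact ⟨Ideal.Quotient.mk _ a, rfl⟩
  have hker : RingHom.ker (q : R ⧸ I ^ 2 →+* IsLocalRing.ResidueField R) = I.cotangentIdeal := by
    ext e
    obtain ⟨a, rfl⟩ := Ideal.Quotient.mk_surjective e
    rw [RingHom.mem_ker]
    show q (Ideal.Quotient.mk (I ^ 2) a) = 0 ↔ _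
    rw [hq_mk, Ideal.mk_mem_cotangentIdeal]
    exact (hImem a).symm
  have hnil : IsNilpotent (RingHom.ker (q : R ⧸ I ^ 2 →+* IsLocalRing.ResidueField R)) := by
    rw [hker]
    exact ⟨2, I.cotangentIdeal_square⟩
  let σ : IsLocalRing.ResidueField R →ₐ[k] R ⧸ I ^ 2 :=
    Algebra.FormallySmooth.liftOfSurjective (AlgHom.id k _) q hq_surj hnil
  have hσ : ∀ x, q (σ x) = x := fun x =>
    Algebra.FormallySmooth.liftOfSurjective_apply (AlgHom.id k _) q hq_surj hnil x
  -- the derivation
  let F : R →ₐ[k] R ⧸ I ^ 2 := σ.comp f₀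
  have hF : ∀ a, F a = σ (algebraMap R (IsLocalRing.ResidueField R) a) := fun a => rfl
  have hFe : (Ideal.Quotient.mkₐ k I.cotangentIdeal).comp F
      = IsScalarTower.toAlgHom k R ((R ⧸ I ^ 2) ⧸ I.cotangentIdeal) := by
    ext a
    show Ideal.Quotient.mk I.cotangentIdeal (F a)
      = Ideal.Quotient.mk I.cotangentIdeal (Ideal.Quotient.mk (I ^ 2) a)
    rw [Ideal.Quotient.eq, ← hker, RingHom.mem_ker, map_sub]
    show q (F a) - q (Ideal.Quotient.mk (I ^ 2) a) = 0
    rw [hF, hσ, hq_mk, sub_self]
  let D₀ : Derivation k R I.cotangentIdeal :=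
    derivationToSquareZeroOfLift I.cotangentIdeal I.cotangentIdeal_square F hFe
  have hD₀ : ∀ a, (D₀ a : R ⧸ I ^ 2) = F a - Ideal.Quotient.mk (I ^ 2) a := fun a => rfl
  let D₁ : Derivation k R I.Cotangent := (I.cotangentEquivIdeal.symm.toLinearMap).compDer D₀
  have hD₁ : ∀ (a : R) (ha : a ∈ I), D₁ a = - I.toCotangent ⟨a, ha⟩ := by
    intro a ha
    show I.cotangentEquivIdeal.symm (D₀ a) = _
    rw [← map_neg, LinearEquiv.symm_apply_eq]
    apply Subtype.ext
    rw [hD₀, hF, (hImem a).mp ha, map_zero, zero_sub]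
    simp only [map_neg, Ideal.cotangentEquivIdeal_apply, Ideal.toCotangent_to_quotient_square,
      NegMemClass.coe_neg]
    rfl
  -- the contraction κ ⊗ Cot → Cot
  have hkill : IsLocalRing.maximalIdeal R ≤
      LinearMap.ker (LinearMap.lsmul R I.Cotangent) := by
    intro r hr
    rw [LinearMap.mem_ker]
    ext y
    have hrI : r ∈ I := by
      rw [hImem]
      exact (IsLocalRing.residue_eq_zero_iff r).mpr hr
    simp only [LinearMap.lsmul_apply, LinearMap.zero_apply]
    exact Ideal.Cotangent.smul_eq_zero_of_mem hrI y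
  let μ₀ : IsLocalRing.ResidueField R →ₗ[R] (I.Cotangent →ₗ[R] I.Cotangent) :=
    Submodule.liftQ (IsLocalRing.maximalIdeal R) (LinearMap.lsmul R I.Cotangent) hkill
  let μ : TensorProduct R (IsLocalRing.ResidueField R) I.Cotangent →ₗ[R] I.Cotangent :=
    TensorProduct.lift μ₀
  have hμ : ∀ y : I.Cotangent, μ ((1 : IsLocalRing.ResidueField R) ⊗ₜ[R] y) = y := by
    intro y
    show μ₀ (1 : IsLocalRing.ResidueField R) y = y
    have h1 : (1 : IsLocalRing.ResidueField R)
        = Submodule.Quotient.mk (p := IsLocalRing.maximalIdeal R) (1 : R) := rfl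
    rw [h1]
    show (Submodule.liftQ (IsLocalRing.maximalIdeal R) (LinearMap.lsmul R I.Cotangent) hkill)
      (Submodule.Quotient.mk (1 : R)) y = y
    rw [Submodule.liftQ_apply]
    simp
  -- injectivity
  rw [injective_iff_map_eq_zero]
  intro x hx
  obtain ⟨⟨a, ha⟩, rfl⟩ := Ideal.toCotangent_surjective _ x
  rw [KaehlerDifferential.kerCotangentToTensor_toCotangent] at hx
  have h1 := congrArg (LinearMap.lTensor (IsLocalRing.ResidueField R) D₁.liftKaehlerDifferential) hx
  rw [LinearMap.lTensor_tmul, map_zero, Derivation.liftKaehlerDifferential_comp_D, hD₁ a ha] at h1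
  have h2 := congrArg μ h1
  rw [hμ, map_zero] at h2
  exact neg_eq_zero.mp h2

end Groth.Agent.S9415
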