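import Groth.Statements.S9416
import Mathlib
-- import your own Groth.Agent.* helpers here

set_option autoImplicit false
universe u
open CAlg

namespace Groth.Agent.S9416


/-- the uniform denominator -/
noncomputable def dd {K : Type*} [Field K] (u : K) : ℕ → K → K
  | 0, _ => 1
  | n + 1, v => dd u n (v ^ 2 * u) * v

theorem dd_mem {K : Type*} [Field K] (A : Subring K) (u : K) (hu : u ∈ A) :
    ∀ (n : ℕ) (v : K), v ∈ A → dd u n v ∈ A
  | 0, _, _ => A.one_mem
  | n + 1, v, hv => A.mul_mem (dd_mem A u hu n _ (A.mul_mem (A.pow_mem hv 2) hu)) hv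

theorem dd_ne_zero {K : Type*} [Field K] (u : K) (hu : u ≠ 0) :
    ∀ (n : ℕ) (v : K), v ≠ 0 → dd u n v ≠ 0
  | 0, _, _ => one_ne_zero
  | n + 1, v, hv => mul_ne_zero (dd_ne_zero u hu n _ (mul_ne_zero (pow_ne_zero 2 hv) hu)) hv

/-- inverses of small natural numbers lie in any subring (char p) -/
theorem mem_of_natCast_mul_mem {K : Type*} [Field K] (p : ℕ) [hp : Fact p.Prime] [CharP K p]
    (A : Subring K) (m : ℕ) (hm0 : m ≠ 0) (hmp : m < p) (t : K) (h : (m : K) * t ∈ A) : t ∈ A := by
  have hcop : Nat.Coprime p m := Nat.coprime_of_lt_prime hm0 hmp hp.out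
  have hb := Nat.gcd_eq_gcd_ab p m
  rw [hcop.gcd_eq_one] at hb
  have hb' : (1 : K) = (m : K) * ((Nat.gcdB p m : ℤ) : K) := by
    have := congrArg (fun z : ℤ => (z : K)) hb
    simp only [Int.cast_add, Int.cast_mul, Int.cast_natCast, Nat.cast_one, Int.cast_one] at this
    rw [CharP.cast_eq_zero K p, zero_mul, zero_add] at this
    exact this
  have : t = ((Nat.gcdB p m : ℤ) : K) * ((m : K) * t) := by
    rw [← mul_assoc, mul_comm _ (m : K), ← hb', one_mul]
  rw [this]
  exact A.mul_mem (intCast_mem A _) h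

/-- Key lemma. -/
theorem key {K : Type*} [Field K] (p : ℕ) [hp : Fact p.Prime] [CharP K p]
    (A : Subring K) (D : Derivation ℤ K K) (hDA : ∀ t ∈ A, D t ∈ A) (a : K) (ha : a ∈ A) :
    ∀ (n : ℕ), n ≤ p → ∀ (v : K), v ∈ A → ∀ β : ℕ → K, (∀ i, D (β i) = 0) →
      v * ∑ i ∈ Finset.range n, β i * a ^ i ∈ A → ∀ i < n, dd (D a) n v * β i ∈ A := by
  intro n
  induction n with
  | zero => intro _ v _ β _ _ i hi; exact absurd hi (Nat.not_lt_zero i)
  | succ n ih =>
    intro hn v hv β hβ hz
    set u := D a with hu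
    have huA : u ∈ A := hDA a ha
    set z := ∑ i ∈ Finset.range (n + 1), β i * a ^ i with hzdef
    -- derivative of z
    have hDz : D z = u * ∑ i ∈ Finset.range n, ((i + 1 : ℕ) : K) * β (i + 1) * a ^ i := by
      rw [hzdef, map_sum, Finset.sum_range_succ', Finset.mul_sum]
      have h0 : D (β 0 * a ^ 0) = 0 := by rw [pow_zero, mul_one, hβ]
      rw [h0, add_zero]
      refine Finset.sum_congr rfl (fun i _ => ?_)
      rw [Derivation.leibniz, hβ, smul_zero, add_zero, Derivation.leibniz_pow, Nat.add_sub_cancel,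
        smul_eq_mul, smul_eq_mul, nsmul_eq_mul]
      ring
    have h1 : v ^ 2 * u * ∑ i ∈ Finset.range n, ((i + 1 : ℕ) : K) * β (i + 1) * a ^ i ∈ A := by
      have h2 : v ^ 2 * u * ∑ i ∈ Finset.range n, ((i + 1 : ℕ) : K) * β (i + 1) * a ^ i =
          v * D (v * z) - (v * z) * D v := by
        rw [Derivation.leibniz, smul_eq_mul, smul_eq_mul, hDz]
        ring
      rw [h2]
      exact A.sub_mem (A.mul_mem hv (hDA _ hz)) (A.mul_mem hz (hDA _ hv))
    have h3 := ih (Nat.le_of_succ_le hn) (v ^ 2 * u) (A.mul_mem (A.pow_mem hv 2) huA)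
      (fun i => ((i + 1 : ℕ) : K) * β (i + 1))
      (fun i => by rw [Derivation.leibniz, hβ, smul_zero, Derivation.map_natCast, smul_zero,
        add_zero]) h1
    have h4 : ∀ i < n, dd u n (v ^ 2 * u) * β (i + 1) ∈ A := by
      intro i hi
      have := h3 i hi
      apply mem_of_natCast_mul_mem p A (i + 1) (Nat.succ_ne_zero i) (by omega)
      rw [← mul_assoc, mul_comm ((i + 1 : ℕ) : K), mul_assoc]
      exact this
    intro i hi
    show dd u n (v ^ 2 * u) * v * β i ∈ A
    rcases Nat.eq_zero_or_pos i with rfl | hipos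
    · -- β 0
      have h5 : dd u n (v ^ 2 * u) * v * β 0 = dd u n (v ^ 2 * u) * (v * z) -
          v * ∑ i ∈ Finset.range n, (dd u n (v ^ 2 * u) * β (i + 1)) * a ^ (i + 1) := by
        have h6 : ∑ i ∈ Finset.range n, (dd u n (v ^ 2 * u) * β (i + 1)) * a ^ (i + 1) =
            dd u n (v ^ 2 * u) * ∑ i ∈ Finset.range n, β (i + 1) * a ^ (i + 1) := by
          rw [Finset.mul_sum]
          exact Finset.sum_congr rfl (fun i _ => by ring)
        rw [h6, hzdef, Finset.sum_range_succ', pow_zero, mul_one]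
        ring
      rw [h5]
      refine A.sub_mem (A.mul_mem (dd_mem A u huA n _ (A.mul_mem (A.pow_mem hv 2) huA)) hz)
        (A.mul_mem hv (A.sum_mem (fun i hi => ?_)))
      exact A.mul_mem (h4 i (Finset.mem_range.mp hi)) (A.pow_mem ha _)
    · obtain ⟨j, rfl⟩ : ∃ j, i = j + 1 := ⟨i - 1, by omega⟩
      have := h4 j (by omega)
      rw [mul_comm (dd u n (v ^ 2 * u)) v, mul_assoc]
      exact A.mul_mem hv this

open Polynomial in
/-- expansion in powers of `x` -/
theorem exists_expansion {K L : Type*} [Field K] [Field L] [Algebra K L] (p : ℕ) (hp : 0 < p)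
    (a : K) (x : L) (hx : x ^ p = algebraMap K L a) (hgen : IntermediateField.adjoin K {x} = ⊤)
    (y : L) : ∃ α : ℕ → K, y = ∑ i ∈ Finset.range p, algebraMap K L (α i) * x ^ i := by
  have hg : (X ^ p - C a : K[X]).Monic := monic_X_pow_sub_C a hp.ne'
  have hroot : aeval x (X ^ p - C a : K[X]) = 0 := by
    simp [hx]
  have hint : IsIntegral K x := ⟨_, hg, hroot⟩
  have h1 := IntermediateField.adjoin_simple_toSubalgebra_of_isAlgebraic hint.isAlgebraic
  rw [hgen, IntermediateField.top_toSubalgebra, Algebra.adjoin_singleton_eq_range_aeval] at h1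
  have hy : y ∈ (aeval x : K[X] →ₐ[K] L).range := h1 ▸ Algebra.mem_top
  obtain ⟨f, rfl⟩ := hy
  refine ⟨fun i => (f %ₘ (X ^ p - C a)).coeff i, ?_⟩
  show aeval x f = _
  rw [← aeval_modByMonic_eq_self_of_root (p := f) hroot]
  have hdeg : (f %ₘ (X ^ p - C a)).natDegree < p := by
    have hne : (X ^ p - C a : K[X]) ≠ 1 := by
      intro h
      have := congrArg natDegree h
      rw [natDegree_X_pow_sub_C, natDegree_one] at this
      omega
    have := natDegree_modByMonic_lt f hg hne
    rwa [natDegree_X_pow_sub_C] at this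
  rw [aeval_eq_sum_range' hdeg]
  exact Finset.sum_congr rfl (fun i _ => by rw [Algebra.smul_def])

/-- an element of `K` with `p`-th power in the image of `R` lies in the image of `R`. -/
theorem mem_range_of_pow_mem {R K : Type*} [CommRing R] [IsDomain R] [IsIntegrallyClosed R]
    [Field K] [Algebra R K] [IsFractionRing R K] (p : ℕ) (hp : 0 < p) (t : K)
    (h : t ^ p ∈ (algebraMap R K).range) : t ∈ (algebraMap R K).range := by
  obtain ⟨r, hr⟩ := h
  have h1 : IsIntegral R (t ^ p) := hr ▸ isIntegral_algebraMap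
  have h2 : IsIntegral R t := IsIntegral.of_pow hp h1
  obtain ⟨s, hs⟩ := IsIntegrallyClosed.isIntegral_iff.mp h2
  exact ⟨s, hs⟩

theorem main (R : Type u) [CommRing R] [IsDomain R] [IsNoetherianRing R] [IsIntegrallyClosed R]
    (K : Type u) [Field K] [Algebra R K] [IsFractionRing R K] (p : ℕ) [hp : Fact p.Prime]
    [CharP K p] (D : Derivation ℤ K K)
    (hD : ∀ r : R, ∃ s : R, D (algebraMap R K r) = algebraMap R K s)
    (a₀ : R) (ha : D (algebraMap R K a₀) ≠ 0)
    (L : Type u) [Field L] [Algebra K L] [Algebra R L] [IsScalarTower R K L] (x : L)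
    (hx : x ^ p = algebraMap K L (algebraMap R K a₀))
    (hgen : IntermediateField.adjoin K {x} = ⊤) :
    Module.Finite R (integralClosure R L) := by
  classical
  have hp0 : 0 < p := hp.out.pos
  haveI : CharP L p := charP_of_injective_algebraMap (algebraMap K L).injective p
  set A : Subring K := (algebraMap R K).range with hA
  set a : K := algebraMap R K a₀ with hadef
  have haA : a ∈ A := ⟨a₀, rfl⟩
  have hDA : ∀ t ∈ A, D t ∈ A := by
    rintro _ ⟨r, rfl⟩
    obtain ⟨s, hs⟩ := hD r
    exact ⟨s, hs.symm⟩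
  set d : K := dd (D a) p 1 with hd
  have hdA : d ∈ A := dd_mem A (D a) (hDA a haA) p 1 A.one_mem
  have hd0 : d ≠ 0 := dd_ne_zero (D a) ha p 1 one_ne_zero
  obtain ⟨d₀, hd₀⟩ := hdA
  have hd₀0 : d₀ ≠ 0 := by
    rintro rfl
    rw [map_zero] at hd₀
    exact hd0 hd₀.symm
  -- the finite module
  let N₀ : Submodule R L := Submodule.span R ((Finset.range p).image (fun i => x ^ i) : Finset L)
  have hN₀ : N₀.FG := ⟨_, rfl⟩
  haveI : Module.Finite R N₀ := Module.Finite.of_fg hN₀
  haveI : IsNoetherian R N₀ := isNoetherian_of_isNoetherianRing_of_finite R N₀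
  -- the key claim
  have hclaim : ∀ y : L, IsIntegral R y → d₀ • y ∈ N₀ := by
    intro y hy
    obtain ⟨α, hα⟩ := exists_expansion p hp0 a x hx hgen y
    -- y^p
    have hyp : y ^ p = algebraMap K L (∑ i ∈ Finset.range p, (α i) ^ p * a ^ i) := by
      rw [hα, sum_pow_char p, map_sum]
      refine Finset.sum_congr rfl (fun i _ => ?_)
      rw [mul_pow, ← pow_mul, mul_comm i p, pow_mul, hx, map_mul, map_pow, map_pow]
    have hz : (∑ i ∈ Finset.range p, (α i) ^ p * a ^ i) ∈ A := by
      have h1 : IsIntegral R (algebraMap K L (∑ i ∈ Finset.range p, (α i) ^ p * a ^ i)) := by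
        rw [← hyp]; exact hy.pow p
      have h2 := (isIntegral_algebraMap_iff (algebraMap K L).injective).mp h1
      obtain ⟨s, hs⟩ := IsIntegrallyClosed.isIntegral_iff.mp h2
      exact ⟨s, hs⟩
    have hkey := key p A D hDA a haA p le_rfl 1 A.one_mem (fun i => (α i) ^ p)
      (fun i => by
        rw [Derivation.leibniz_pow, nsmul_eq_mul, CharP.cast_eq_zero K p, zero_mul])
      (by rw [one_mul]; exact hz)
    have hdα : ∀ i < p, d * α i ∈ A := by
      intro i hi
      apply mem_range_of_pow_mem p hp0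
      have h1 : (d * α i) ^ p = d ^ (p - 1) * (d * (α i) ^ p) := by
        rw [mul_pow, ← mul_assoc, ← pow_succ, Nat.sub_add_cancel hp0]
      rw [h1]
      exact A.mul_mem (A.pow_mem ⟨d₀, hd₀⟩ _) (hkey i hi)
    -- now d₀ • y
    have h3 : d₀ • y = ∑ i ∈ Finset.range p, algebraMap K L (d * α i) * x ^ i := by
      rw [Algebra.smul_def, IsScalarTower.algebraMap_apply R K L, hd₀, hα, Finset.mul_sum]
      refine Finset.sum_congr rfl (fun i _ => ?_)
      rw [map_mul, mul_assoc]
    rw [h3]
    refine N₀.sum_mem (fun i hi => ?_)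
    obtain ⟨s, hs⟩ := hdα i (Finset.mem_range.mp hi)
    rw [← hs, ← IsScalarTower.algebraMap_apply R K L, ← Algebra.smul_def]
    refine N₀.smul_mem s (Submodule.subset_span ?_)
    exact Finset.mem_coe.mpr (Finset.mem_image.mpr ⟨i, hi, rfl⟩)
  let f : integralClosure R L →ₗ[R] N₀ :=
    { toFun := fun y => ⟨d₀ • (y : L), hclaim y y.2⟩
      map_add' := fun y z => Subtype.ext (by simp [smul_add])
      map_smul' := fun r y => Subtype.ext (by simp [smul_comm d₀ r]) }
  refine Module.Finite.of_injective f ?_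
  intro y z hyz
  have h1 : d₀ • (y : L) = d₀ • (z : L) := congrArg Subtype.val hyz
  have h2 : algebraMap R L d₀ ≠ 0 := by
    rw [IsScalarTower.algebraMap_apply R K L, hd₀]
    exact (map_ne_zero (algebraMap K L)).mpr hd0
  rw [Algebra.smul_def, Algebra.smul_def] at h1
  exact Subtype.ext (mul_left_cancel₀ h2 h1)


/-- Suppose R is a normal Noetherian domain whose field of fractions K has prime characteristic p > 0, D
a derivation of K preserving R, and a ∈ K with D(a) ≠ 0. For a field L generated over K by an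
element x with x^p = a, the integral closure of R in L is module-finite over R. -/
theorem result (R : Type u) [CommRing R]
    [IsDomain R] [IsNoetherianRing R] [IsIntegrallyClosed R] (K : Type u) [Field K] [Algebra R K]
    [IsFractionRing R K] (p : ℕ) [Fact p.Prime] [CharP K p] (D : Derivation ℤ K K)
    (hD : ∀ r : R, ∃ s : R, D (algebraMap R K r) = algebraMap R K s) (a : K) (ha : D a ≠ 0)
    (L : Type u) [Field L] [Algebra K L] [Algebra R L] [IsScalarTower R K L] (x : L)
    (hx : x ^ p = algebraMap K L a) (hgen : IntermediateField.adjoin K {x} = ⊤) :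
    Module.Finite R (integralClosure R L) := by
  obtain ⟨b, c, hc, rfl⟩ := IsFractionRing.div_surjective (A := R) a
  have hc0 : algebraMap R K c ≠ 0 := by
    intro h
    have := (IsFractionRing.injective R K) (h.trans (map_zero _).symm)
    exact nonZeroDivisors.ne_zero hc this
  have hp0 : 0 < p := (Fact.out : p.Prime).pos
  have haK : algebraMap R K (c ^ (p - 1) * b) =
      (algebraMap R K c) ^ p * (algebraMap R K b / algebraMap R K c) := by
    rw [map_mul, map_pow]
    have : (algebraMap R K c) ^ p = (algebraMap R K c) ^ (p - 1) * algebraMap R K c := by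
      rw [← pow_succ, Nat.sub_add_cancel hp0]
    rw [this]
    field_simp
  refine main R K p D hD (c ^ (p - 1) * b) ?_ L (algebraMap K L (algebraMap R K c) * x) ?_ ?_
  · rw [haK, Derivation.leibniz, Derivation.leibniz_pow, nsmul_eq_mul, CharP.cast_eq_zero K p,
      zero_mul, smul_zero, add_zero, smul_eq_mul]
    exact mul_ne_zero (pow_ne_zero _ hc0) ha
  · rw [mul_pow, hx, ← map_pow, ← map_mul, haK]
  · rw [eq_top_iff, ← hgen, IntermediateField.adjoin_simple_le_iff]
    have hcL : algebraMap K L (algebraMap R K c) ≠ 0 := (map_ne_zero (algebraMap K L)).mpr hc0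
    have : x = (algebraMap K L (algebraMap R K c))⁻¹ * (algebraMap K L (algebraMap R K c) * x) := by
      field_simp
    have hmem : (algebraMap K L (algebraMap R K c))⁻¹ * (algebraMap K L (algebraMap R K c) * x) ∈
        IntermediateField.adjoin K {algebraMap K L (algebraMap R K c) * x} :=
      mul_mem (inv_mem (IntermediateField.algebraMap_mem _ _))
        (IntermediateField.mem_adjoin_simple_self K _)
    rwa [← this] at hmem

end Groth.Agent.S9416
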