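import Groth.Statements.S9417
import Groth.Agent.LibASysDescent29
import Mathlib.RingTheory.IntegralClosure.IsIntegral.Basic
import Mathlib.RingTheory.IntegralClosure.Algebra.Basic
-- import your own Groth.Agent.* helpers here

set_option autoImplicit false
universe u
open CAlg

namespace Groth.Agent.S9417

open MvPolynomial Groth.Agent.LibPresCrit29 in
/-- finite-data criterion for module-finiteness of an algebra with finitely many generators -/
theorem finite_iff {T S : Type*} [CommRing T] [CommRing S] [Algebra T S] {n : Type*} [Finite n]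
    (Q : Algebra.Generators T S n) :
    Module.Finite T S ↔ ∃ (d : ℕ) (b : n → Fin d → T),
      ∀ i, X i ^ d + ∑ j : Fin d, C (b i j) * X i ^ (j : ℕ) ∈ Q.ker := by
  classical
  have := Fintype.ofFinite n
  have key : ∀ (i : n) (d : ℕ) (b : Fin d → T),
      aeval Q.val (X i ^ d + ∑ j : Fin d, C (b j) * X i ^ (j : ℕ) : MvPolynomial n T) =
        Polynomial.aeval (Q.val i)
          (Polynomial.X ^ d + ∑ j : Fin d, Polynomial.C (b j) * Polynomial.X ^ (j : ℕ)) := by
    intro i d b
    simp only [map_add, map_pow, aeval_X, map_sum, map_mul, aeval_C, Polynomial.aeval_X,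
      Polynomial.aeval_C]
  constructor
  · intro hfin
    rcases subsingleton_or_nontrivial T with hT | hT
    · refine ⟨0, fun _ j => j.elim0, fun i => ?_⟩
      rw [Subsingleton.elim (X i ^ 0 + ∑ j : Fin 0, C (j.elim0 : T) * X i ^ (j : ℕ) :
        MvPolynomial n T) 0]
      exact Ideal.zero_mem _
    have hint : ∀ i, IsIntegral T (Q.val i) := fun i => IsIntegral.of_finite T _
    choose p hpm hp0 using hint
    let D : ℕ := Finset.univ.sup fun i => (p i).natDegree
    let p' : n → Polynomial T := fun i => p i * Polynomial.X ^ (D - (p i).natDegree)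
    have hp'm : ∀ i, (p' i).Monic := fun i => (hpm i).mul (Polynomial.monic_X_pow _)
    have hp'd : ∀ i, (p' i).natDegree = D := by
      intro i
      have hle : (p i).natDegree ≤ D := Finset.le_sup (f := fun i => (p i).natDegree)
        (Finset.mem_univ i)
      rw [(hpm i).natDegree_mul (Polynomial.monic_X_pow _), Polynomial.natDegree_X_pow]
      omega
    have hp'0 : ∀ i, Polynomial.aeval (Q.val i) (p' i) = 0 := by
      intro i
      have h0 : Polynomial.aeval (Q.val i) (p i) = 0 := hp0 i
      rw [map_mul, h0, zero_mul]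
    refine ⟨D, fun i j => (p' i).coeff j, fun i => ?_⟩
    rw [mem_ker_iff, key]
    have hsum := (hp'm i).as_sum
    rw [hp'd i, Finset.sum_range] at hsum
    rw [← hsum]
    exact hp'0 i
  · rintro ⟨d, b, hb⟩
    have hint : ∀ x ∈ Set.range Q.val, IsIntegral T x := by
      rintro _ ⟨i, rfl⟩
      refine ⟨Polynomial.X ^ d + ∑ j : Fin d, Polynomial.C (b i j) * Polynomial.X ^ (j : ℕ),
        Polynomial.monic_X_pow_add (Polynomial.degree_sum_fin_lt _), ?_⟩
      have := (mem_ker_iff Q _).mp (hb i)
      rw [key] at this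
      exact this
    have hfg := fg_adjoin_of_finite (Set.finite_range Q.val) hint
    have htop : Algebra.adjoin T (Set.range Q.val) = ⊤ := by
      rw [Algebra.adjoin_range_eq_range_aeval, AlgHom.range_eq_top]
      intro s
      obtain ⟨x, rfl⟩ := Q.algebraMap_surjective s
      exact ⟨x, (Q.algebraMap_apply x).symm⟩
    rw [htop, Algebra.top_toSubmodule] at hfg
    exact ⟨hfg⟩

open TensorProduct MvPolynomial Groth.Agent.LibASys29 in
/-- descent of module-finiteness to a finite stage -/
theorem exists_finite {R : Type*} [CommRing R] {A : Type u} [CommRing A] [Algebra R A] {ι : Type*}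
    {G : ι → Type u} [∀ i, CommRing (G i)] [∀ i, Algebra R (G i)] {g : ∀ i, G i →ₐ[R] A}
    (hS : ASys R G g) {D : Type*} [CommRing D] [Algebra R D] {n σ' : Type*} [Finite n]
    (P : Algebra.Presentation R D n σ') (h : Module.Finite A (A ⊗[R] D)) :
    ∃ i, Module.Finite (G i) (G i ⊗[R] D) := by
  classical
  obtain ⟨d, b, hb⟩ := (finite_iff (P.baseChange A).toGenerators).mp h
  obtain ⟨i, w, hw⟩ := hS.descent (σ := n) (ν := n × Fin d) (Λ := n)
    (fun T _ _ w i => X i ^ d + ∑ j : Fin d, C (coeff 0 (w (i, j))) * X i ^ (j : ℕ))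
    (fun T T' _ _ _ _ φ w i => by
      simp only [map_add, map_pow, map_X, map_sum, map_mul, map_C, coeff_map])
    (fun _ => P.ker)
    ⟨fun x => C (b x.1 x.2), fun i => by
      simp only [coeff_zero_C]
      rw [← ASys.ker_baseChange]
      exact hb i⟩
  refine ⟨i, (finite_iff (P.baseChange (G i)).toGenerators).mpr
    ⟨d, fun i j => coeff 0 (w (i, j)), fun i => ?_⟩⟩
  have := hw i
  rw [← ASys.ker_baseChange] at this
  exact this

open TensorProduct Groth.Agent.LibASys29 in

open TensorProduct in
/-- Let (A_i) be a directed system of A₀-algebras with colimit A (given by compatible maps A_i → A which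
are jointly surjective and whose kernels die in the system), and B₀ → C₀ a homomorphism of
A₀-algebras with C₀ of finite type over B₀. If the base change of B₀ → C₀ along B₀ → B₀ ⊗_{A₀} A is
finite (module-finite), then already its base change along B₀ → B₀ ⊗_{A₀} A_i is finite for some
index i. -/
theorem result {ι : Type u} [Preorder ι] [IsDirected ι (· ≤ ·)] [Nonempty ι]
    (A₀ : Type u) [CommRing A₀] (G : ι → Type u) [∀ i, CommRing (G i)] [∀ i, Algebra A₀ (G i)]
    (f : ∀ i j, i ≤ j → (G i →ₐ[A₀] G j)) (A : Type u) [CommRing A] [Algebra A₀ A]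
    (g : ∀ i, G i →ₐ[A₀] A) (hg : ∀ i j (h : i ≤ j), (g j).comp (f i j h) = g i)
    (hsurj : ∀ a : A, ∃ i, ∃ x : G i, g i x = a)
    (hker : ∀ i (x : G i), g i x = 0 → ∃ j, ∃ h : i ≤ j, f i j h x = 0)
    (B₀ : Type u) [CommRing B₀] [Algebra A₀ B₀] (C₀ : Type u) [CommRing C₀] [Algebra A₀ C₀]
    [Algebra B₀ C₀] [IsScalarTower A₀ B₀ C₀] [Algebra.FiniteType B₀ C₀]
    (h : Module.Finite (B₀ ⊗[A₀] A) ((B₀ ⊗[A₀] A) ⊗[B₀] C₀)) :
    ∃ i, Module.Finite (B₀ ⊗[A₀] G i) ((B₀ ⊗[A₀] G i) ⊗[B₀] C₀) := by
  have hS₀ : ASys A₀ G g :=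
    { nonempty := inferInstance
      surj := hsurj
      dir := fun i j => by
        obtain ⟨k, hik, hjk⟩ := directed_of (· ≤ ·) i j
        exact ⟨k, f i k hik, f j k hjk, hg i k hik, hg j k hjk⟩
      ker := fun i x hx => by
        obtain ⟨j, hij, hj⟩ := hker i x hx
        exact ⟨j, f i j hij, hg i j hij, hj⟩ }
  have hS := hS₀.baseChange B₀
  obtain ⟨n, ⟨Q⟩⟩ := Algebra.FiniteType.iff_exists_generators.mp
    (inferInstance : Algebra.FiniteType B₀ C₀)
  let P : Algebra.Presentation B₀ C₀ (Fin n) Q.ker :=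
    { toGenerators := Q
      relation := Subtype.val
      span_range_relation_eq_ker := by rw [Subtype.range_val]; exact Ideal.span_eq _ }
  exact exists_finite hS P h

end Groth.Agent.S9417
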