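import Groth.Statements.S9419
import Groth.Agent.LibASysDescent29
-- import your own Groth.Agent.* helpers here

set_option autoImplicit false
universe u
open CAlg

namespace Groth.Agent.S9419

open TensorProduct Groth.Agent.LibASys29 in

open TensorProduct in
/-- Let (A_i) be a directed system of A₀-algebras with colimit A (given by compatible maps A_i → A which
are jointly surjective and whose kernels die in the system), and B₀ → C₀ a homomorphism of
A₀-algebras with C₀ of finite type over B₀. If the base change of B₀ → C₀ along B₀ → B₀ ⊗_{A₀} A is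
unramified (formally unramified and of finite type), then already its base change along B₀ → B₀
⊗_{A₀} A_i is unramified for some index i. -/
theorem result {ι : Type u} [Preorder ι] [IsDirected ι (· ≤ ·)] [Nonempty ι]
    (A₀ : Type u) [CommRing A₀] (G : ι → Type u) [∀ i, CommRing (G i)] [∀ i, Algebra A₀ (G i)]
    (f : ∀ i j, i ≤ j → (G i →ₐ[A₀] G j)) (A : Type u) [CommRing A] [Algebra A₀ A]
    (g : ∀ i, G i →ₐ[A₀] A) (hg : ∀ i j (h : i ≤ j), (g j).comp (f i j h) = g i)
    (hsurj : ∀ a : A, ∃ i, ∃ x : G i, g i x = a)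
    (hker : ∀ i (x : G i), g i x = 0 → ∃ j, ∃ h : i ≤ j, f i j h x = 0)
    (B₀ : Type u) [CommRing B₀] [Algebra A₀ B₀] (C₀ : Type u) [CommRing C₀] [Algebra A₀ C₀]
    [Algebra B₀ C₀] [IsScalarTower A₀ B₀ C₀] [Algebra.FiniteType B₀ C₀]
    (h : Algebra.Unramified (B₀ ⊗[A₀] A) ((B₀ ⊗[A₀] A) ⊗[B₀] C₀)) :
    ∃ i, Algebra.Unramified (B₀ ⊗[A₀] G i) ((B₀ ⊗[A₀] G i) ⊗[B₀] C₀) := by
  have hS₀ : ASys A₀ G g :=
    { nonempty := inferInstance
      surj := hsurj
      dir := fun i j => by
        obtain ⟨k, hik, hjk⟩ := directed_of (· ≤ ·) i j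
        exact ⟨k, f i k hik, f j k hjk, hg i k hik, hg j k hjk⟩
      ker := fun i x hx => by
        obtain ⟨j, hij, hj⟩ := hker i x hx
        exact ⟨j, f i j hij, hg i j hij, hj⟩ }
  have hS := hS₀.baseChange B₀
  obtain ⟨n, ⟨Q⟩⟩ := Algebra.FiniteType.iff_exists_generators.mp
    (inferInstance : Algebra.FiniteType B₀ C₀)
  let P : Algebra.Presentation B₀ C₀ (Fin n) Q.ker :=
    { toGenerators := Q
      relation := Subtype.val
      span_range_relation_eq_ker := by rw [Subtype.range_val]; exact Ideal.span_eq _ }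
  obtain ⟨i, hi⟩ := hS.exists_formallyUnramified P h.formallyUnramified
  exact ⟨i, ⟨hi, inferInstance⟩⟩

end Groth.Agent.S9419
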