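import Groth.Statements.S9423
import Groth.Agent.LibSyntColim29
import Groth.Agent.LibASysDescent29
-- import your own Groth.Agent.* helpers here

set_option autoImplicit false
universe u
open Synt

namespace Groth.Agent.S9423

open TensorProduct MvPolynomial Groth.Agent.LibASys29 Groth.Agent.LibRelGCI29 in
/-- `T ⊗[R] D ≃ T[x]/(r̄)` for a presentation `D = R[x]/(r)`. -/
noncomputable def presEquiv {R D : Type u} [CommRing R] [CommRing D] [Algebra R D] {n m : ℕ}
    (P : Algebra.Presentation R D (Fin n) (Fin m)) (T : Type u) [CommRing T] [Algebra R T] :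
    T ⊗[R] D ≃ₐ[T] Synt.RelGCIRing T n m (Fbar T P.relation) :=
  (((P.baseChange T).quotientEquiv.restrictScalars T).symm).trans
    (Ideal.quotientEquivAlgOfEq T (by
      rw [ASys.ker_baseChange, ← P.span_range_relation_eq_ker]
      exact ASys.map_span_range T P.relation))

open TensorProduct Groth.Agent.LibASys29 Groth.Agent.LibRelGCI29 in

open TensorProduct in
/-- Let (A_i) be a directed system of A₀-algebras with colimit A (given by compatible maps A_i → A which
are jointly surjective and whose kernels die in the system), and B₀ → C₀ a homomorphism of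
A₀-algebras with C₀ of finite presentation over B₀. If the base change of B₀ → C₀ along B₀ → B₀
⊗_{A₀} A is syntomic (flat, of finite presentation, with local complete intersection fibres), then
already its base change along B₀ → B₀ ⊗_{A₀} A_i is syntomic for some index i. (The published
statement also treats relative global complete intersections; this row states the syntomic case.) -/
theorem result {ι : Type u} [Preorder ι] [IsDirected ι (· ≤ ·)] [Nonempty ι]
    (A₀ : Type u) [CommRing A₀] (G : ι → Type u) [∀ i, CommRing (G i)] [∀ i, Algebra A₀ (G i)]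
    (f : ∀ i j, i ≤ j → (G i →ₐ[A₀] G j)) (A : Type u) [CommRing A] [Algebra A₀ A]
    (g : ∀ i, G i →ₐ[A₀] A) (hg : ∀ i j (h : i ≤ j), (g j).comp (f i j h) = g i)
    (hsurj : ∀ a : A, ∃ i, ∃ x : G i, g i x = a)
    (hker : ∀ i (x : G i), g i x = 0 → ∃ j, ∃ h : i ≤ j, f i j h x = 0)
    (B₀ : Type u) [CommRing B₀] [Algebra A₀ B₀] (C₀ : Type u) [CommRing C₀] [Algebra A₀ C₀]
    [Algebra B₀ C₀] [IsScalarTower A₀ B₀ C₀] [Algebra.FinitePresentation B₀ C₀]
    (h : Synt.IsSyntomic (B₀ ⊗[A₀] A) ((B₀ ⊗[A₀] A) ⊗[B₀] C₀)) :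
    ∃ i, Synt.IsSyntomic (B₀ ⊗[A₀] G i) ((B₀ ⊗[A₀] G i) ⊗[B₀] C₀) := by
  have hS₀ : ASys A₀ G g :=
    { nonempty := inferInstance
      surj := hsurj
      dir := fun i j => by
        obtain ⟨k, hik, hjk⟩ := directed_of (· ≤ ·) i j
        exact ⟨k, f i k hik, f j k hjk, hg i k hik, hg j k hjk⟩
      ker := fun i x hx => by
        obtain ⟨j, hij, hj⟩ := hker i x hx
        exact ⟨j, f i j hij, hg i j hij, hj⟩ }
  have hS := hS₀.baseChange B₀
  let P := Algebra.Presentation.ofFinitePresentation B₀ C₀
  have h' := Groth.Agent.LibSyntTransport29.isSyntomic_of_algEquiv (presEquiv P (B₀ ⊗[A₀] A)) h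
  obtain ⟨i, hi⟩ := hS.exists_isSyntomic_presentation _ _ P.relation h'
  exact ⟨i, Groth.Agent.LibSyntTransport29.isSyntomic_of_algEquiv
    (presEquiv P (B₀ ⊗[A₀] G i)).symm hi⟩

end Groth.Agent.S9423
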