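import Groth.Statements.S9425
import Groth.Agent.S9424

set_option autoImplicit false
universe u
open CAlg

namespace Groth.Agent.S9425

/-- A directed colimit of formally étale R-algebras is formally étale over R. The colimit is encoded by
compatible R-algebra maps S_i → S which are jointly surjective and whose kernels die further along
the system. -/
theorem result {ι : Type u} [Preorder ι] [IsDirected ι (· ≤ ·)] [Nonempty ι]
    (R : Type u) [CommRing R] (G : ι → Type u) [∀ i, CommRing (G i)] [∀ i, Algebra R (G i)]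
    (f : ∀ i j, i ≤ j → (G i →ₐ[R] G j)) (S : Type u) [CommRing S] [Algebra R S]
    (g : ∀ i, G i →ₐ[R] S) (hg : ∀ i j (h : i ≤ j), (g j).comp (f i j h) = g i)
    (hsurj : ∀ s : S, ∃ i, ∃ x : G i, g i x = s)
    (hker : ∀ i (x : G i), g i x = 0 → ∃ j, ∃ h : i ≤ j, f i j h x = 0)
    (h : ∀ i, Algebra.FormallyEtale R (G i)) : Algebra.FormallyEtale R S := by
  have hunr : Algebra.FormallyUnramified R S :=
    Groth.Agent.S9424.result R G f S g hg hsurj hker (fun i => inferInstance)
  rw [Algebra.FormallyEtale.iff_comp_bijective]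
  intro B _ _ I hI
  refine ⟨Algebra.FormallyUnramified.comp_injective I hI, ?_⟩
  intro φ
  -- lifts
  have hlift : ∀ i, ∃! ψ : G i →ₐ[R] B, (Ideal.Quotient.mkₐ R I).comp ψ = φ.comp (g i) := fun i =>
    (Algebra.FormallyEtale.comp_bijective R (G i) I hI).existsUnique _
  choose ψ hψ hψu using hlift
  have hcompat : ∀ i j (h : i ≤ j), (ψ j).comp (f i j h) = ψ i := by
    intro i j h
    apply hψu
    rw [← AlgHom.comp_assoc, hψ, AlgHom.comp_assoc, hg]
  have hzero : ∀ i (x : G i), g i x = 0 → ψ i x = 0 := by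
    intro i x hx
    obtain ⟨j, h, hj⟩ := hker i x hx
    rw [← hcompat i j h, AlgHom.comp_apply, hj, map_zero]
  have hwd : ∀ i j (x : G i) (y : G j), g i x = g j y → ψ i x = ψ j y := by
    intro i j x y hxy
    obtain ⟨k, hik, hjk⟩ := directed_of (· ≤ ·) i j
    have : ψ k (f i k hik x - f j k hjk y) = 0 := by
      apply hzero
      rw [map_sub, ← AlgHom.comp_apply, ← AlgHom.comp_apply, hg, hg, hxy, sub_self]
    rw [map_sub, sub_eq_zero, ← AlgHom.comp_apply, ← AlgHom.comp_apply, hcompat, hcompat] at this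
    exact this
  choose idx rep hrep using hsurj
  let Ψ : S → B := fun s => ψ (idx s) (rep s)
  have hΨ : ∀ i (x : G i), Ψ (g i x) = ψ i x := fun i x => hwd _ _ _ _ (hrep _)
  have hpair : ∀ s t : S, ∃ k, ∃ x y : G k, g k x = s ∧ g k y = t := by
    intro s t
    obtain ⟨k, h1, h2⟩ := directed_of (· ≤ ·) (idx s) (idx t)
    refine ⟨k, f _ k h1 (rep s), f _ k h2 (rep t), ?_, ?_⟩
    · rw [← AlgHom.comp_apply, hg, hrep]
    · rw [← AlgHom.comp_apply, hg, hrep]
  let Ψa : S →ₐ[R] B :=
    { toFun := Ψ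
      map_one' := by
        obtain ⟨i⟩ := ‹Nonempty ι›
        rw [← map_one (g i), hΨ, map_one]
      map_mul' := by
        intro s t
        obtain ⟨k, x, y, rfl, rfl⟩ := hpair s t
        rw [← map_mul, hΨ, hΨ, hΨ, map_mul]
      map_zero' := by
        obtain ⟨i⟩ := ‹Nonempty ι›
        rw [← map_zero (g i), hΨ, map_zero]
      map_add' := by
        intro s t
        obtain ⟨k, x, y, rfl, rfl⟩ := hpair s t
        rw [← map_add, hΨ, hΨ, hΨ, map_add]
      commutes' := by
        intro r
        obtain ⟨i⟩ := ‹Nonempty ι›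
        rw [← (g i).commutes r, hΨ, (ψ i).commutes] }
  refine ⟨Ψa, ?_⟩
  ext s
  rw [← hrep s]
  show Ideal.Quotient.mk I (Ψ (g (idx s) (rep s))) = φ (g (idx s) (rep s))
  rw [hΨ]
  exact AlgHom.congr_fun (hψ (idx s)) (rep s)

end Groth.Agent.S9425
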