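import Groth.Statements.S9430
import Mathlib
import Groth.Agent.Lib.Helper17.CIField9

set_option autoImplicit false
set_option linter.style.haveILetI false
universe u
open Synt

namespace Groth.Agent.S9430

/-- For a field extension K/k, every finite subset of K lies in a k-subalgebra of K which is a global
complete intersection over k; so K is the directed union of its k-subalgebras that are global
complete intersections over k. -/
theorem result (k : Type u) [Field k] (K : Type u)
    [Field K] [Algebra k K] (E : Finset K) :
    ∃ A : Subalgebra k K, (↑E : Set K) ⊆ (A : Set K) ∧ Synt.IsGlobalCI k A := by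
  classical
  let A0 : Subalgebra k K := Algebra.adjoin k (E : Set K)
  haveI : Algebra.FiniteType k A0 :=
    ⟨(Subalgebra.fg_top A0).mpr (Subalgebra.fg_adjoin_finset E)⟩
  obtain ⟨g, hg0, hG⟩ := Groth.Agent.Lib.helper17.CIField.exists_isGlobalCI_away_of_isDomain k A0
  have hunit : ∀ y : Submonoid.powers g, IsUnit (A0.val (y : A0)) := by
    rintro ⟨_, m, rfl⟩
    rw [map_pow]
    refine IsUnit.pow _ (IsUnit.mk0 _ ?_)
    intro h0
    exact hg0 (Subtype.ext h0)
  let f : Localization.Away g →ₐ[k] K :=
    IsLocalization.liftAlgHom (M := Submonoid.powers g) (f := A0.val) hunit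
  have hf : Function.Injective f := by
    have hle : Submonoid.powers g ≤ nonZeroDivisors A0 :=
      Submonoid.powers_le.mpr (mem_nonZeroDivisors_of_ne_zero hg0)
    have hinj : Function.Injective (algebraMap A0 (Localization.Away g)) :=
      IsLocalization.injective _ hle
    change Function.Injective (IsLocalization.lift (M := Submonoid.powers g)
      (g := (A0.val : A0 →+* K)) hunit)
    rw [IsLocalization.lift_injective_iff]
    intro x y
    constructor
    · intro h
      rw [hinj h]
    · intro h
      have : x = y := Subtype.ext h
      rw [this]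
  refine ⟨f.range, ?_, ?_⟩
  · intro x hx
    have hxA : x ∈ A0 := Algebra.subset_adjoin hx
    refine ⟨algebraMap A0 (Localization.Away g) ⟨x, hxA⟩, ?_⟩
    change IsLocalization.lift (M := Submonoid.powers g) (g := (A0.val : A0 →+* K)) hunit
      (algebraMap A0 (Localization.Away g) ⟨x, hxA⟩) = x
    rw [IsLocalization.lift_eq]
    rfl
  · exact Groth.Agent.Lib.helper17.CIField.isGlobalCI_of_algEquiv k (AlgEquiv.ofInjective f hf) hG

end Groth.Agent.S9430
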