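import Groth.Statements.S9431
import Groth.Agent.Lib.Helper17.FieldLift
import Mathlib

set_option autoImplicit false
universe u
open CAlg

namespace Groth.Agent.S9431

/-- For a separable (geometrically reduced) field extension K/k, every finite subset of K lies in a
k-subalgebra of K which is smooth over k; in particular K is a filtered colimit of smooth
k-algebras. -/
theorem result (k : Type u) [Field k]
    (K : Type u) [Field K] [Algebra k K] [Algebra.IsGeometricallyReduced k K] (E : Finset K) :
    ∃ A : Subalgebra k K, (↑E : Set K) ⊆ (A : Set K) ∧ Algebra.Smooth k A := by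
  classical
  let A₁ : Subalgebra k K := Algebra.adjoin k (E : Set K)
  haveI : Algebra.FiniteType k A₁ :=
    (Subalgebra.fg_iff_finiteType A₁).mp (Subalgebra.fg_adjoin_finset E)
  haveI : Algebra.FinitePresentation k A₁ := Algebra.FinitePresentation.of_finiteType.mp inferInstance
  haveI hbot : (⊥ : Ideal A₁).IsPrime := Ideal.isPrime_bot
  -- the localization at ⊥ embeds into K
  have hunit : ∀ y : (⊥ : Ideal A₁).primeCompl, IsUnit (A₁.val y) := by
    rintro ⟨y, hy⟩
    have hy0 : y ≠ 0 := fun h => hy (by rw [h]; exact Ideal.zero_mem _)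
    have : (y : K) ≠ 0 := fun h => hy0 (Subtype.ext h)
    exact isUnit_iff_ne_zero.mpr this
  let ι : Localization.AtPrime (⊥ : Ideal A₁) →ₐ[k] K :=
    IsLocalization.liftAlgHom (M := (⊥ : Ideal A₁).primeCompl) (f := A₁.val) hunit
  have hfield : IsField (Localization.AtPrime (⊥ : Ideal A₁)) := by
    rw [IsLocalRing.isField_iff_maximalIdeal_eq, ← Localization.AtPrime.map_eq_maximalIdeal,
      Ideal.map_bot]
  letI : Field (Localization.AtPrime (⊥ : Ideal A₁)) := hfield.toField
  have hι_inj : Function.Injective ι := ι.toRingHom.injective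
  haveI : Algebra.IsGeometricallyReduced k (Localization.AtPrime (⊥ : Ideal A₁)) :=
    Algebra.IsGeometricallyReduced.of_injective ι hι_inj
  haveI hsm : Algebra.IsSmoothAt k (⊥ : Ideal A₁) :=
    Groth.Agent.Lib.helper17.FieldLift.formallySmooth_of_isGeometricallyReduced
  obtain ⟨f, hf, hsmooth⟩ := Algebra.IsSmoothAt.exists_notMem_smooth k (⊥ : Ideal A₁)
  have hf0 : f ≠ 0 := fun h => hf (by rw [h]; exact Ideal.zero_mem _)
  have hunit' : ∀ y : Submonoid.powers f, IsUnit (A₁.val y) := by
    rintro ⟨y, n, rfl⟩
    have : (f : K) ≠ 0 := fun h => hf0 (Subtype.ext h)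
    exact isUnit_iff_ne_zero.mpr (by simpa using pow_ne_zero n this)
  let j : Localization.Away f →ₐ[k] K :=
    IsLocalization.liftAlgHom (M := Submonoid.powers f) (f := A₁.val) hunit'
  have hj_alg : ∀ a : A₁, j (algebraMap A₁ (Localization.Away f) a) = (a : K) := by
    intro a
    exact IsLocalization.lift_eq (M := Submonoid.powers f) (g := (A₁.val : A₁ →+* K)) hunit' a
  have hj_inj : Function.Injective j := by
    rw [injective_iff_map_eq_zero]
    intro s hs
    obtain ⟨a, m, rfl⟩ := IsLocalization.exists_mk'_eq (Submonoid.powers f) s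
    have h1 : IsLocalization.mk' (Localization.Away f) a m * algebraMap A₁ (Localization.Away f) m
        = algebraMap A₁ (Localization.Away f) a := IsLocalization.mk'_spec _ a m
    have h2 := congrArg j h1
    rw [map_mul, hs, zero_mul, hj_alg] at h2
    have ha : a = 0 := Subtype.ext h2.symm
    rw [ha, IsLocalization.mk'_zero]
  refine ⟨j.range, ?_, ?_⟩
  · intro e he
    have hmem : e ∈ A₁ := Algebra.subset_adjoin he
    exact ⟨algebraMap A₁ (Localization.Away f) ⟨e, hmem⟩, hj_alg ⟨e, hmem⟩⟩
  · exact Algebra.Smooth.of_equiv (AlgEquiv.ofInjective j hj_inj)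

end Groth.Agent.S9431
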