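import Groth.Statements.S9433
import Mathlib.RingTheory.Unramified.LocalStructure
import Mathlib.RingTheory.Unramified.Finite
import Mathlib.RingTheory.Etale.StandardEtale
import Mathlib.RingTheory.Smooth.Basic
import Mathlib.RingTheory.Ideal.Quotient.PowTransition
-- import your own Groth.Agent.* helpers here

set_option autoImplicit false
universe u
open CAlg

namespace Groth.Agent.S9433

open IsLocalRing TensorProduct

/-- rigidity of maps from an unramified algebra to a "local" target -/
lemma algHom_eq_of_residue_eq {R T L K : Type*} [CommRing R] [CommRing T] [CommRing L]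
    [CommRing K] [Nontrivial K] [Algebra R T] [Algebra R L] [Algebra R K]
    [Algebra.FormallyUnramified R T] [Algebra.EssFiniteType R T] (χ : L →ₐ[R] K)
    (hχ : ∀ y, χ y ≠ 0 → IsUnit y) (u v : T →ₐ[R] L) (huv : χ.comp u = χ.comp v) : u = v := by
  let w := Algebra.TensorProduct.productMap u v
  let e := w (Algebra.FormallyUnramified.elem R T)
  have h1 : χ.comp w = (χ.comp u).comp (Algebra.TensorProduct.lmul' R) := by
    apply Algebra.TensorProduct.ext'
    intro a b
    have hb : χ (v b) = χ (u b) := (AlgHom.congr_fun huv b).symm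
    simp only [AlgHom.comp_apply, w, Algebra.TensorProduct.productMap_apply_tmul,
      Algebra.TensorProduct.lmul'_apply_tmul, map_mul, hb]
  have he : χ e = 1 := by
    have := AlgHom.congr_fun h1 (Algebra.FormallyUnramified.elem R T)
    rw [AlgHom.comp_apply, AlgHom.comp_apply, Algebra.FormallyUnramified.lmul_elem, map_one] at this
    exact this
  have heu : IsUnit e := hχ e (by rw [he]; exact one_ne_zero)
  ext z
  have h2 := congrArg w (Algebra.FormallyUnramified.one_tmul_sub_tmul_one_mul_elem (R := R) z)
  rw [map_mul, map_sub, map_zero, Algebra.TensorProduct.productMap_apply_tmul,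
    Algebra.TensorProduct.productMap_apply_tmul, map_one, map_one, one_mul, mul_one] at h2
  have h3 := heu.mul_left_eq_zero.mp h2
  exact (sub_eq_zero.mp h3).symm


/-- Let R → S be a local homomorphism of local rings with S the localization of an étale R-algebra at a
prime, inducing an isomorphism of residue fields. Then for some t in the maximal ideal of R the maps
R/t^nR → S/t^nS are bijective for all n ≥ 1. -/
theorem result (R : Type u) [CommRing R] [IsLocalRing R] (T : Type u) [CommRing T] [Algebra R T]
    [Algebra.Etale R T] (q : Ideal T) [q.IsPrime] (S : Type u) [CommRing S] [IsLocalRing S]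
    [Algebra T S] [IsLocalization.AtPrime S q] [Algebra R S] [IsScalarTower R T S]
    [IsLocalHom (algebraMap R S)]
    (hres : Function.Bijective (IsLocalRing.ResidueField.map (algebraMap R S))) :
    ∃ t ∈ IsLocalRing.maximalIdeal R, ∀ n : ℕ, 1 ≤ n →
      Function.Bijective (Ideal.quotientMap ((Ideal.span {t ^ n}).map (algebraMap R S))
        (algebraMap R S) Ideal.le_comap_map) := by
  classical
  -- the residue field `K` of `S` and the characters to it
  have hχR_surj : Function.Surjective (algebraMap R (ResidueField S)) := by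
    intro y
    obtain ⟨r', hr'⟩ := hres.2 y
    obtain ⟨r, rfl⟩ := residue_surjective r'
    exact ⟨r, hr'⟩
  have hχR_ker : ∀ r : R, algebraMap R (ResidueField S) r = 0 ↔ r ∈ maximalIdeal R := by
    intro r
    rw [IsScalarTower.algebraMap_apply R S (ResidueField S), ResidueField.algebraMap_eq,
      residue_eq_zero_iff]
    constructor
    · intro h
      by_contra hr
      have hu : IsUnit r := by
        by_contra hnu
        exact hr hnu
      exact h (hu.map (algebraMap R S))
    · intro h hs
      exact h (isUnit_of_map_unit (algebraMap R S) r hs)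
  -- standard étale neighbourhood
  have : Algebra.IsEtaleAt R q := by
    have : Algebra.FormallyEtale T (Localization.AtPrime q) :=
      Algebra.FormallyEtale.of_isLocalization q.primeCompl
    exact Algebra.FormallyEtale.comp R T (Localization.AtPrime q)
  obtain ⟨f, hfq, hstd⟩ := Algebra.IsEtaleAt.exists_isStandardEtale (R := R) q
  let Pres : StandardEtalePresentation R (Localization.Away f) :=
    hstd.nonempty_standardEtalePresentation.some
  have hfu : IsUnit (algebraMap T S f) := IsLocalization.map_units S (⟨f, hfq⟩ : q.primeCompl)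
  let β : Localization.Away f →ₐ[R] S :=
    IsLocalization.liftAlgHom (M := Submonoid.powers f) (f := IsScalarTower.toAlgHom R T S) (by
      rintro ⟨_, m, rfl⟩
      change IsUnit (algebraMap T S (f ^ m))
      rw [map_pow]
      exact hfu.pow m)
  have hβ : ∀ z : T, β (algebraMap T (Localization.Away f) z) = algebraMap T S z := fun z =>
    IsLocalization.lift_eq _ z
  let ρ' : Localization.Away f →ₐ[R] ResidueField S :=
    (IsScalarTower.toAlgHom R S (ResidueField S)).comp β
  obtain ⟨a, ha⟩ := hχR_surj (ρ' Pres.x)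
  have hF0 : Polynomial.aeval (ρ' Pres.x) Pres.f = 0 := by
    rw [Polynomial.aeval_algHom_apply, Pres.hasMap.1, map_zero]
  have hg0 : Polynomial.aeval (ρ' Pres.x) Pres.g ≠ 0 := by
    rw [Polynomial.aeval_algHom_apply]
    exact (Pres.hasMap.2.map ρ').ne_zero
  refine ⟨Polynomial.eval a Pres.f, ?_, fun n hn => ?_⟩
  · rw [← hχR_ker, ← Polynomial.aeval_algebraMap_apply_eq_algebraMap_eval, ha]
    exact hF0
  set t : R := Polynomial.eval a Pres.f with ht
  have htm : t ∈ maximalIdeal R := by
    rw [← hχR_ker, ht, ← Polynomial.aeval_algebraMap_apply_eq_algebraMap_eval, ha]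
    exact hF0
  have htK : ∀ m, 1 ≤ m → algebraMap R (ResidueField S) (t ^ m) = 0 := by
    intro m hm
    rw [hχR_ker]
    exact Ideal.pow_mem_of_mem _ htm m (by omega)
  -- characters on `R/(t^m)`
  let χR : ∀ m, 1 ≤ m → (R ⧸ Ideal.span {t ^ m}) →ₐ[R] ResidueField S := fun m hm =>
    Ideal.Quotient.liftₐ (Ideal.span {t ^ m}) (Algebra.ofId R (ResidueField S)) (by
      intro r hr
      obtain ⟨c, rfl⟩ := Ideal.mem_span_singleton'.mp hr
      change algebraMap R (ResidueField S) (c * t ^ m) = 0
      rw [map_mul, htK m hm, mul_zero])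
  have hχR_mk : ∀ m hm (r : R), χR m hm (Ideal.Quotient.mk _ r) = algebraMap R (ResidueField S) r :=
    fun m hm r => rfl
  have hχR_loc : ∀ m hm (y : R ⧸ Ideal.span {t ^ m}), χR m hm y ≠ 0 → IsUnit y := by
    intro m hm y hy
    obtain ⟨r, rfl⟩ := Ideal.Quotient.mk_surjective y
    rw [hχR_mk m hm, Ne, hχR_ker] at hy
    have hu : IsUnit r := by
      by_contra hnu
      exact hy hnu
    exact hu.map _
  -- the map `σ1 : T_f → R/(t)`
  have hmap : Pres.P.HasMap (Ideal.Quotient.mk (Ideal.span {t ^ 1}) a) := by
    constructor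
    · have h1 : Polynomial.aeval (Ideal.Quotient.mk (Ideal.span {t ^ 1}) a) Pres.f =
          Ideal.Quotient.mk (Ideal.span {t ^ 1}) (Polynomial.eval a Pres.f) :=
        Polynomial.aeval_algebraMap_apply_eq_algebraMap_eval (A := R ⧸ Ideal.span {t ^ 1}) a Pres.f
      rw [h1, Ideal.Quotient.eq_zero_iff_mem, pow_one]
      exact Ideal.mem_span_singleton_self t
    · apply hχR_loc 1 le_rfl
      rw [← Polynomial.aeval_algHom_apply, hχR_mk 1 le_rfl, ha]
      exact hg0
  let σ1 : Localization.Away f →ₐ[R] (R ⧸ Ideal.span {t ^ 1}) :=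
    (Pres.P.lift _ hmap).comp Pres.equivRing.toAlgHom
  have hσ1x : σ1 Pres.x = Ideal.Quotient.mk _ a := by
    change Pres.P.lift _ hmap (Pres.equivRing Pres.x) = _
    rw [Pres.equivRing_x, StandardEtalePair.lift_X]
  have hχσ1 : (χR 1 le_rfl).comp σ1 = ρ' := by
    apply Pres.hom_ext
    rw [AlgHom.comp_apply, hσ1x, hχR_mk 1 le_rfl, ha]
  -- lift to `R/(t^n)`
  have hle : Ideal.span {t ^ n} ≤ Ideal.span {t ^ 1} := by
    rw [Ideal.span_singleton_le_span_singleton, pow_one]
    exact dvd_pow_self t (by omega)
  let π : (R ⧸ Ideal.span {t ^ n}) →ₐ[R] (R ⧸ Ideal.span {t ^ 1}) := Ideal.Quotient.factorₐ R hle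
  have hπs : Function.Surjective π := Ideal.Quotient.factor_surjective hle
  have hπn : IsNilpotent (RingHom.ker (π : (R ⧸ Ideal.span {t ^ n}) →+* (R ⧸ Ideal.span {t ^ 1}))) := by
    refine ⟨n, ?_⟩
    change RingHom.ker (Ideal.Quotient.factor hle) ^ n = _
    rw [Ideal.Quotient.factor_ker, ← Ideal.map_pow, Ideal.span_singleton_pow, pow_one,
      Ideal.map_quotient_self]
    rfl
  have : Algebra.FormallySmooth R (Localization.Away f) := inferInstance
  let σn : Localization.Away f →ₐ[R] (R ⧸ Ideal.span {t ^ n}) :=
    Algebra.FormallySmooth.liftOfSurjective σ1 π hπs hπn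
  have hπσ : π.comp σn = σ1 := Algebra.FormallySmooth.comp_liftOfSurjective σ1 π hπs hπn
  have hχπ : (χR 1 le_rfl).comp π = χR n hn := by
    apply Ideal.Quotient.algHom_ext
    ext
  have hχσn : (χR n hn).comp σn = ρ' := by
    rw [← hχπ, AlgHom.comp_assoc, hπσ, hχσ1]
  -- extend to `S`
  let σT : T →ₐ[R] (R ⧸ Ideal.span {t ^ n}) :=
    σn.comp (IsScalarTower.toAlgHom R T (Localization.Away f))
  have hχσT : ∀ z : T, χR n hn (σT z) = residue S (algebraMap T S z) := by
    intro z
    have := AlgHom.congr_fun hχσn (algebraMap T (Localization.Away f) z)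
    rw [AlgHom.comp_apply] at this
    change χR n hn (σn (algebraMap T (Localization.Away f) z)) = _
    rw [this]
    change residue S (β (algebraMap T (Localization.Away f) z)) = _
    rw [hβ]
  have hunits : ∀ y : q.primeCompl, IsUnit (σT.toRingHom (y : T)) := by
    intro y
    apply hχR_loc n hn
    change χR n hn (σT y) ≠ 0
    rw [hχσT, Ne, residue_eq_zero_iff]
    intro hmem
    exact hmem (IsLocalization.map_units S y)
  let σS : S →+* (R ⧸ Ideal.span {t ^ n}) := IsLocalization.lift (M := q.primeCompl) hunits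
  have hσS : ∀ z : T, σS (algebraMap T S z) = σT z := fun z => IsLocalization.lift_eq hunits z
  have hσSR : ∀ r : R, σS (algebraMap R S r) = Ideal.Quotient.mk _ r := by
    intro r
    rw [IsScalarTower.algebraMap_apply R T S, hσS, AlgHom.commutes]
    rfl
  have hJ : ∀ s ∈ (Ideal.span {t ^ n}).map (algebraMap R S), σS s = 0 := by
    intro s hs
    have hle' : (Ideal.span {t ^ n}).map (algebraMap R S) ≤ RingHom.ker σS := by
      rw [Ideal.map_span, Ideal.span_le, Set.image_singleton, Set.singleton_subset_iff]
      change σS (algebraMap R S (t ^ n)) = 0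
      rw [hσSR, Ideal.Quotient.eq_zero_iff_mem]
      exact Ideal.mem_span_singleton_self _
    exact hle' hs
  let τ : (S ⧸ (Ideal.span {t ^ n}).map (algebraMap R S)) →+* (R ⧸ Ideal.span {t ^ n}) :=
    Ideal.Quotient.lift _ σS hJ
  -- characters on `S/(t^n)`
  let χS : (S ⧸ (Ideal.span {t ^ n}).map (algebraMap R S)) →ₐ[R] ResidueField S :=
    Ideal.Quotient.liftₐ _ (IsScalarTower.toAlgHom R S (ResidueField S)) (by
      intro s hs
      have hle' : (Ideal.span {t ^ n}).map (algebraMap R S) ≤
          RingHom.ker (IsScalarTower.toAlgHom R S (ResidueField S) : S →+* ResidueField S) := by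
        rw [Ideal.map_span, Ideal.span_le, Set.image_singleton, Set.singleton_subset_iff]
        change algebraMap S (ResidueField S) (algebraMap R S (t ^ n)) = 0
        rw [← IsScalarTower.algebraMap_apply, htK n hn]
      exact hle' hs)
  have hχS_loc : ∀ y, χS y ≠ 0 → IsUnit y := by
    intro y hy
    obtain ⟨s, rfl⟩ := Ideal.Quotient.mk_surjective y
    have hs : residue S s ≠ 0 := hy
    rw [Ne, residue_eq_zero_iff] at hs
    have hu : IsUnit s := by
      by_contra hnu
      exact hs hnu
    exact hu.map _
  -- the two maps `T → S/(t^n)`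
  let ι : (R ⧸ Ideal.span {t ^ n}) →ₐ[R] (S ⧸ (Ideal.span {t ^ n}).map (algebraMap R S)) :=
    Ideal.quotientMapₐ _ (Algebra.ofId R S) Ideal.le_comap_map
  let u : T →ₐ[R] (S ⧸ (Ideal.span {t ^ n}).map (algebraMap R S)) :=
    (Ideal.Quotient.mkₐ R _).comp (IsScalarTower.toAlgHom R T S)
  let v : T →ₐ[R] (S ⧸ (Ideal.span {t ^ n}).map (algebraMap R S)) := ι.comp σT
  have hχι : χS.comp ι = χR n hn := by
    apply Ideal.Quotient.algHom_ext
    ext
  have : Algebra.EssFiniteType R T := inferInstance
  have huv : u = v := by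
    apply algHom_eq_of_residue_eq χS hχS_loc
    ext z
    change residue S (algebraMap T S z) = χS (ι (σT z))
    have := AlgHom.congr_fun hχι (σT z)
    rw [AlgHom.comp_apply] at this
    rw [this, hχσT]
  rw [Function.bijective_iff_has_inverse]
  refine ⟨τ, ?_, ?_⟩
  · intro y
    obtain ⟨r, rfl⟩ := Ideal.Quotient.mk_surjective y
    rw [Ideal.quotientMap_mk]
    change σS (algebraMap R S r) = _
    exact hσSR r
  · intro y
    obtain ⟨s, rfl⟩ := Ideal.Quotient.mk_surjective y
    have key : (ι.toRingHom.comp σS) = Ideal.Quotient.mk _ := by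
      apply IsLocalization.ringHom_ext q.primeCompl
      ext z
      change ι (σS (algebraMap T S z)) = Ideal.Quotient.mk _ (algebraMap T S z)
      rw [hσS]
      exact (AlgHom.congr_fun huv z).symm
    change ι (σS s) = _
    exact RingHom.congr_fun key s

end Groth.Agent.S9433
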