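import Groth.Statements.S9453
import Mathlib
import Groth.Agent.Lib.Helper22.SplitAlg

set_option autoImplicit false
universe u
open CAlg

namespace Groth.Agent.S9453

section helpers
open TensorProduct

theorem exists_common_field {R S B : Type u} [CommRing R] [CommRing S] [CommRing B] [Algebra R S]
    [Algebra R B] (q : Ideal S) [q.IsPrime] (q' : Ideal B) [q'.IsPrime]
    (h : q'.under R = q.under R) :
    ∃ (K : Type u) (_ : Field K) (u : S →+* K) (v : B →+* K), RingHom.ker u = q ∧
      RingHom.ker v = q' ∧ u.comp (algebraMap R S) = v.comp (algebraMap R B) := by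
  let p : Ideal R := q.under R
  have hp : p.IsPrime := Ideal.IsPrime.under R q
  let ι : p.ResidueField →+* q.ResidueField := Ideal.ResidueField.map p q (algebraMap R S) rfl
  let ι' : p.ResidueField →+* q'.ResidueField :=
    Ideal.ResidueField.map p q' (algebraMap R B) h.symm
  let _ : Algebra p.ResidueField q.ResidueField := ι.toAlgebra
  let _ : Algebra p.ResidueField q'.ResidueField := ι'.toAlgebra
  let Ω := q.ResidueField ⊗[p.ResidueField] q'.ResidueField
  have hnt : Nontrivial Ω :=
    Algebra.TensorProduct.nontrivial_of_algebraMap_injective_of_isDomain _ _ _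
      (RingHom.injective _) (RingHom.injective _)
  obtain ⟨𝔪, h𝔪⟩ := Ideal.exists_maximal Ω
  let _ : Field (Ω ⧸ 𝔪) := Ideal.Quotient.field 𝔪
  let jl : q.ResidueField →+* Ω ⧸ 𝔪 :=
    (Ideal.Quotient.mk 𝔪).comp (Algebra.TensorProduct.includeLeftRingHom)
  let jr : q'.ResidueField →+* Ω ⧸ 𝔪 :=
    (Ideal.Quotient.mk 𝔪).comp (Algebra.TensorProduct.includeRight :
      q'.ResidueField →ₐ[p.ResidueField] Ω).toRingHom
  refine ⟨Ω ⧸ 𝔪, inferInstance, jl.comp (algebraMap S q.ResidueField),
    jr.comp (algebraMap B q'.ResidueField), ?_, ?_, ?_⟩
  · ext x
    rw [RingHom.mem_ker, RingHom.comp_apply, map_eq_zero_iff _ jl.injective,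
      Ideal.algebraMap_residueField_eq_zero]
  · ext x
    rw [RingHom.mem_ker, RingHom.comp_apply, map_eq_zero_iff _ jr.injective,
      Ideal.algebraMap_residueField_eq_zero]
  · ext r
    simp only [RingHom.comp_apply]
    have h1 : algebraMap S q.ResidueField (algebraMap R S r) =
        algebraMap p.ResidueField q.ResidueField (algebraMap R p.ResidueField r) :=
      (Ideal.ResidueField.map_algebraMap p q (algebraMap R S) rfl r).symm
    have h2 : algebraMap B q'.ResidueField (algebraMap R B r) =
        algebraMap p.ResidueField q'.ResidueField (algebraMap R p.ResidueField r) :=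
      (Ideal.ResidueField.map_algebraMap p q' (algebraMap R B) h.symm r).symm
    rw [h1, h2]
    simp only [jl, jr, RingHom.comp_apply]
    congr 1
    have e1 : Algebra.TensorProduct.includeLeftRingHom
        (algebraMap p.ResidueField q.ResidueField (algebraMap R p.ResidueField r)) =
        algebraMap p.ResidueField Ω (algebraMap R p.ResidueField r) := rfl
    rw [e1]
    exact ((Algebra.TensorProduct.includeRight :
      q'.ResidueField →ₐ[p.ResidueField] Ω).commutes _).symm



end helpers

/-- For a standard étale R-algebra S there is an R-algebra S' which is finite, finitely presented and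
flat over R, with Spec S' → Spec R surjective, and such that for every prime q of S and every prime
q' of S' lying over the same prime of R there are g' ∉ q' and an R-algebra map φ : S → S'_{g'} under
which the extension of q' pulls back to q. -/
theorem result (R : Type u) [CommRing R] (S : Type u)
    [CommRing S] [Algebra R S] [Algebra.IsStandardEtale R S] :
    ∃ (S' : Type u) (_ : CommRing S') (_ : Algebra R S'),
      Module.Finite R S' ∧ Algebra.FinitePresentation R S' ∧ Module.Flat R S' ∧
        Function.Surjective (PrimeSpectrum.comap (algebraMap R S')) ∧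
        ∀ (q : Ideal S) [q.IsPrime] (q' : Ideal S') [q'.IsPrime], q'.under R = q.under R →
          ∃ (g' : S') (_ : g' ∉ q') (φ : S →ₐ[R] Localization.Away g'),
            (q'.map (algebraMap S' (Localization.Away g'))).comap φ = q := by
  classical
  obtain ⟨P⟩ := Algebra.IsStandardEtale.nonempty_standardEtalePresentation (R := R) (S := S)
  obtain ⟨B, _, _, b, hB, ⟨β⟩⟩ :=
    Groth.Agent.Lib.helper22.SplitAlg.exists_isSplit P.f.natDegree R P.f P.monic_f rfl
  have hfree : Module.Free R B := Module.Free.of_basis β
  have hfin : Module.Finite R B := Module.Finite.of_basis β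
  have hfp : Module.FinitePresentation R B := Module.finitePresentation_of_projective R B
  refine ⟨B, inferInstance, inferInstance, hfin, inferInstance, inferInstance, ?_, ?_⟩
  · rcases subsingleton_or_nontrivial R with hR | hR
    · intro x
      exact (x.isPrime.ne_top (Subsingleton.elim _ _)).elim
    · have hntB : Nontrivial B :=
        nontrivial_of_ne _ _ (β.ne_zero ⟨0, Nat.factorial_pos _⟩)
      exact PrimeSpectrum.comap_surjective_of_faithfullyFlat
  · intro q _ q' _ hqq'
    obtain ⟨K, _, u, v, hu, hv, huv⟩ := exists_common_field q q' hqq'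
    -- the root
    have hfx : Polynomial.aeval P.x P.f = 0 := P.hasMap.1
    have hgx : IsUnit (Polynomial.aeval P.x P.g) := P.hasMap.2
    -- `f` splits in `K` through `v`
    have hsplitK : P.f.map (v.comp (algebraMap R B)) = ∏ i, (Polynomial.X - Polynomial.C (v (b i))) := by
      have := congrArg (Polynomial.map v) hB.splits
      rw [Polynomial.map_map, Polynomial.map_prod] at this
      simpa using this
    have hroot : (P.f.map (u.comp (algebraMap R S))).eval (u P.x) = 0 := by
      rw [← Polynomial.map_map, Polynomial.eval_map_apply, Polynomial.eval_map, ← Polynomial.aeval_def, hfx,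
        map_zero]
    rw [huv, hsplitK, Polynomial.eval_prod] at hroot
    obtain ⟨i, -, hi⟩ := Finset.prod_eq_zero_iff.mp hroot
    simp only [Polynomial.eval_sub, Polynomial.eval_X, Polynomial.eval_C] at hi
    have hi' : u P.x = v (b i) := sub_eq_zero.mp hi
    -- g' and its image in K
    let g' : B := Polynomial.aeval (b i) P.g
    have hvg' : v g' = u (Polynomial.aeval P.x P.g) := by
      simp only [g', Polynomial.aeval_def, Polynomial.hom_eval₂, ← huv, hi']
    have hg'K : v g' ≠ 0 := by
      rw [hvg']
      intro h0
      have : Polynomial.aeval P.x P.g ∈ q := by rw [← hu]; exact h0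
      exact (Ideal.IsPrime.ne_top ‹q.IsPrime›) (Ideal.eq_top_of_isUnit_mem _ this hgx)
    have hg'q' : g' ∉ q' := by
      intro hmem
      apply hg'K
      have : g' ∈ RingHom.ker v := by rw [hv]; exact hmem
      exact this
    -- the map φ
    have hfbi : Polynomial.aeval (b i) P.f = 0 := by
      have := congrArg (Polynomial.eval (b i)) hB.splits
      rw [Polynomial.eval_map, ← Polynomial.aeval_def, Polynomial.eval_prod,
        Finset.prod_eq_zero (Finset.mem_univ i) (by simp)] at this
      exact this
    have hmap : P.HasMap (algebraMap B (Localization.Away g') (b i)) := by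
      refine ⟨?_, ?_⟩
      · rw [Polynomial.aeval_algebraMap_apply, hfbi, map_zero]
      · rw [Polynomial.aeval_algebraMap_apply]
        exact IsLocalization.Away.algebraMap_isUnit g'
    let φ : S →ₐ[R] Localization.Away g' := (P.lift _ hmap).comp P.equivRing.toAlgHom
    have hφx : φ P.x = algebraMap B (Localization.Away g') (b i) := by
      simp [φ]
    refine ⟨g', hg'q', φ, ?_⟩
    -- extension of `v` to the localization
    let ρ : Localization.Away g' →+* K :=
      IsLocalization.Away.lift g' (g := v) (isUnit_iff_ne_zero.mpr hg'K)
    have hρ : ∀ y : B, ρ (algebraMap B (Localization.Away g') y) = v y := fun y =>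
      IsLocalization.Away.lift_eq _ _ _
    have hkerρ : RingHom.ker ρ = q'.map (algebraMap B (Localization.Away g')) := by
      apply le_antisymm
      · intro z hz
        obtain ⟨⟨y, m⟩, hym⟩ := IsLocalization.surj (Submonoid.powers g') z
        have hmu : IsUnit (algebraMap B (Localization.Away g') (m : B)) :=
          IsLocalization.map_units _ m
        have hy : y ∈ q' := by
          rw [← hv, RingHom.mem_ker, ← hρ, ← hym, map_mul, RingHom.mem_ker.mp hz, zero_mul]
        have : z * algebraMap B (Localization.Away g') (m : B) ∈
            q'.map (algebraMap B (Localization.Away g')) := by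
          rw [hym]; exact Ideal.mem_map_of_mem _ hy
        obtain ⟨w, hw⟩ := hmu.exists_right_inv
        have h2 := Ideal.mul_mem_right w _ this
        rwa [mul_assoc, hw, mul_one] at h2
      · rw [Ideal.map_le_iff_le_comap]
        intro y hy
        rw [Ideal.mem_comap, RingHom.mem_ker, hρ]
        have : y ∈ RingHom.ker v := by rw [hv]; exact hy
        exact this
    -- two maps out of `S` agree
    let _ : Algebra R K := (u.comp (algebraMap R S)).toAlgebra
    let uA : S →ₐ[R] K := { u with commutes' := fun _ => rfl }
    let ρA : Localization.Away g' →ₐ[R] K :=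
      { ρ with
        commutes' := fun r => by
          change ρ (algebraMap R (Localization.Away g') r) = u (algebraMap R S r)
          rw [IsScalarTower.algebraMap_apply R B (Localization.Away g'), hρ]
          exact (congrArg (fun F : R →+* K => F r) huv).symm }
    have hagree : ρA.comp φ = uA := by
      have h1 : ((ρA.comp φ).comp P.equivRing.symm.toAlgHom) =
          (uA.comp P.equivRing.symm.toAlgHom) := by
        apply StandardEtalePair.hom_ext
        have hX : P.equivRing.symm.toAlgHom P.X = P.x := P.equivRing_symm_X
        simp only [AlgHom.comp_apply, hX]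
        change ρ (φ P.x) = u P.x
        rw [hφx, hρ, hi']
      ext s
      have := congrArg (fun F : P.Ring →ₐ[R] K => F (P.equivRing s)) h1
      simpa using this
    ext s
    rw [Ideal.mem_comap, ← hkerρ, RingHom.mem_ker]
    have : ρ (φ s) = u s := congrArg (fun F : S →ₐ[R] K => F s) hagree
    rw [this, ← RingHom.mem_ker, hu]

end Groth.Agent.S9453
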