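import Groth.Statements.S9434
import Mathlib
import Groth.Agent.S9453

set_option autoImplicit false
universe u
open CAlg

namespace Groth.Agent.S9434

/-- Let R → S be a local homomorphism of local rings with S the localization of an étale R-algebra at a
prime. Then there is a finite, finitely presented, faithfully flat R-algebra S' such that for every
maximal ideal m' of S' the structure map R → S'_{m'} factors through some R-algebra map S → S'_{m'}. -/
theorem result (R : Type u) [CommRing R] [IsLocalRing R] (T : Type u) [CommRing T] [Algebra R T]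
    [Algebra.Etale R T] (q : Ideal T) [q.IsPrime] (S : Type u) [CommRing S] [IsLocalRing S]
    [Algebra T S] [IsLocalization.AtPrime S q] [Algebra R S] [IsScalarTower R T S]
    [IsLocalHom (algebraMap R S)] :
    ∃ (S' : Type u) (_ : CommRing S') (_ : Algebra R S'),
      Module.Finite R S' ∧ Algebra.FinitePresentation R S' ∧ Module.FaithfullyFlat R S' ∧
        ∀ (m' : Ideal S') [m'.IsMaximal], Nonempty (S →ₐ[R] Localization.AtPrime m') := by
  classical
  -- `q ∩ R = m_R`
  have hqR : q.under R = IsLocalRing.maximalIdeal R := by
    ext r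
    rw [Ideal.under, Ideal.mem_comap, ← IsLocalization.AtPrime.to_map_mem_maximal_iff S q,
      ← IsScalarTower.algebraMap_apply, IsLocalRing.mem_maximalIdeal, IsLocalRing.mem_maximalIdeal,
      mem_nonunits_iff, mem_nonunits_iff, isUnit_map_iff]
  -- standard étale neighbourhood
  have hEt : Algebra.IsEtaleAt R q := by
    have : Algebra.FormallyEtale T (Localization.AtPrime q) :=
      Algebra.FormallyEtale.of_isLocalization q.primeCompl
    exact Algebra.FormallyEtale.comp R T (Localization.AtPrime q)
  obtain ⟨f, hfq, hf⟩ := Algebra.IsEtaleAt.exists_isStandardEtale (R := R) q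
  obtain ⟨S', _, _, hfin, hfp, hflat, hsurj, hmain⟩ :=
    Groth.Agent.S9453.result R (Localization.Away f)
  have hff : Module.FaithfullyFlat R S' := Module.FaithfullyFlat.of_comap_surjective hsurj
  refine ⟨S', inferInstance, inferInstance, hfin, hfp, hff, ?_⟩
  intro m' hm'
  have hint : Algebra.IsIntegral R S' := Algebra.IsIntegral.of_finite R S'
  have hm'R : m'.under R = IsLocalRing.maximalIdeal R := by
    have : (m'.under R).IsMaximal :=
      Ideal.isMaximal_comap_of_isIntegral_of_isMaximal (R := R) m'
    exact IsLocalRing.eq_maximalIdeal this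
  have hdisj : Disjoint (Submonoid.powers f : Set T) (q : Set T) :=
    (Ideal.disjoint_powers_iff_notMem_of_isPrime _).mpr hfq
  let q₁ : Ideal (Localization.Away f) := q.map (algebraMap T (Localization.Away f))
  have hq₁ : q₁.IsPrime :=
    IsLocalization.isPrime_of_isPrime_disjoint (Submonoid.powers f) _ _ ‹q.IsPrime› hdisj
  have hcomap : q₁.comap (algebraMap T (Localization.Away f)) = q :=
    IsLocalization.under_map_of_isPrime_disjoint (Submonoid.powers f) _ ‹q.IsPrime› hdisj
  have h1 : m'.under R = q₁.under R := by
    rw [hm'R, ← hqR, ← hcomap]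
    ext r
    simp only [Ideal.under, Ideal.mem_comap]
    rw [← IsScalarTower.algebraMap_apply R T (Localization.Away f)]
  obtain ⟨g', hg', φ, hφ⟩ := hmain q₁ m' h1
  -- map to the localization at `m'`
  let L := Localization.AtPrime m'
  have hunitg : ∀ y : Submonoid.powers g', IsUnit (IsScalarTower.toAlgHom R S' L y) := by
    rintro ⟨_, n, rfl⟩
    have : IsUnit (algebraMap S' L g') := IsLocalization.map_units L (⟨g', hg'⟩ : m'.primeCompl)
    simpa using this.pow n
  let χ : Localization.Away g' →ₐ[R] L :=
    IsLocalization.liftAlgHom (M := Submonoid.powers g') (f := IsScalarTower.toAlgHom R S' L) hunitg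
  have hχ : ∀ y : S', χ (algebraMap S' (Localization.Away g') y) = algebraMap S' L y := fun y => by
    simp [χ]
  have hχmem : ∀ z : Localization.Away g', χ z ∈ IsLocalRing.maximalIdeal L →
      z ∈ m'.map (algebraMap S' (Localization.Away g')) := by
    intro z hz
    obtain ⟨⟨y, m⟩, hym⟩ := IsLocalization.surj (Submonoid.powers g') z
    have hmu : IsUnit (algebraMap S' (Localization.Away g') (m : S')) :=
      IsLocalization.map_units _ m
    have hy : y ∈ m' := by
      rw [← IsLocalization.AtPrime.to_map_mem_maximal_iff L m', ← hχ, ← hym, map_mul]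
      exact Ideal.mul_mem_right _ _ hz
    have : z * algebraMap S' (Localization.Away g') (m : S') ∈
        m'.map (algebraMap S' (Localization.Away g')) := by
      rw [hym]; exact Ideal.mem_map_of_mem _ hy
    obtain ⟨w, hw⟩ := hmu.exists_right_inv
    have h2 := Ideal.mul_mem_right w _ this
    rwa [mul_assoc, hw, mul_one] at h2
  let θ : T →ₐ[R] L := χ.comp (φ.comp (IsScalarTower.toAlgHom R T (Localization.Away f)))
  have hθunit : ∀ t : q.primeCompl, IsUnit (θ t) := by
    rintro ⟨t, ht⟩
    by_contra hnu
    have hmem : θ t ∈ IsLocalRing.maximalIdeal L := by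
      rw [IsLocalRing.mem_maximalIdeal, mem_nonunits_iff]; exact hnu
    have h3 := hχmem _ hmem
    have h4 : algebraMap T (Localization.Away f) t ∈ q₁ := by
      rw [← hφ]; exact h3
    have h5 : t ∈ q := by rw [← hcomap]; exact h4
    exact ht h5
  exact ⟨IsLocalization.liftAlgHom (M := q.primeCompl) (f := θ) hθunit⟩

end Groth.Agent.S9434
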