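import Groth.Statements.S9435
import Mathlib

set_option autoImplicit false
universe u
open CAlg

namespace Groth.Agent.S9435

open Polynomial IntermediateField in
/-- Given a prime p of a ring R and a finite separable extension L of κ(p), there is an étale R-algebra
R' with a prime p' over p whose residue field is κ(p)-isomorphic to L. Stated through an R-algebra
map ψ : R' → L whose image generates the field L: its kernel is such a prime p' and the induced
κ(p') → L is then an isomorphism over κ(p). -/
theorem result (R : Type u) [CommRing R]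
    (p : Ideal R) [p.IsPrime] (L : Type u) [Field L] [Algebra p.ResidueField L] [Algebra R L]
    [IsScalarTower R p.ResidueField L] [Module.Finite p.ResidueField L]
    [Algebra.IsSeparable p.ResidueField L] :
    ∃ (R' : Type u) (_ : CommRing R') (_ : Algebra R R') (_ : Algebra.Etale R R') (ψ : R' →ₐ[R] L),
      Subfield.closure (Set.range ψ) = ⊤ := by
  classical
  set K := p.ResidueField with hK
  obtain ⟨α, hα⟩ := Field.exists_primitive_element K L
  have hαint : IsIntegral K α := Algebra.IsIntegral.isIntegral α
  set m := minpoly K α with hm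
  have hmmonic : m.Monic := minpoly.monic hαint
  let d := IsLocalization.commonDenom (nonZeroDivisors (R ⧸ p)) m.support m.coeff
  set σ : K := algebraMap (R ⧸ p) K d with hσ
  have hσ0 : σ ≠ 0 := by
    have := IsFractionRing.injective (R ⧸ p) K
    rw [hσ, Ne, map_eq_zero_iff _ this]
    exact nonZeroDivisors.ne_zero d.2
  set m' := m.scaleRoots σ with hm'
  have hm'monic : m'.Monic := (monic_scaleRoots_iff σ).mpr hmmonic
  have hlift0 : m' ∈ Polynomial.lifts (algebraMap (R ⧸ p) K) := by
    apply IsLocalization.scaleRoots_commonDenom_mem_lifts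
    rw [hmmonic.leadingCoeff]
    exact ⟨1, map_one _⟩
  have hlift : m' ∈ Polynomial.lifts (algebraMap R K) := by
    rw [Polynomial.lifts_iff_coeff_lifts] at hlift0 ⊢
    intro n
    obtain ⟨y, hy⟩ := hlift0 n
    obtain ⟨x, rfl⟩ := Ideal.Quotient.mk_surjective y
    exact ⟨x, by rw [← hy, IsScalarTower.algebraMap_apply R (R ⧸ p) K]; rfl⟩
  obtain ⟨q, hqmap, hqdeg, hqmonic⟩ := Polynomial.lifts_and_natDegree_eq_and_monic hlift hm'monic
  set α' : L := algebraMap K L σ * α with hα'
  have hroot : aeval α' m' = 0 := Polynomial.scaleRoots_aeval_eq_zero (minpoly.aeval K α)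
  have hα'int : IsIntegral K α' := Algebra.IsIntegral.isIntegral α'
  have hα'top : K⟮α'⟯ = ⊤ := by
    rw [← hα]
    apply le_antisymm
    · rw [adjoin_simple_le_iff]
      exact mul_mem (IntermediateField.algebraMap_mem _ σ) (mem_adjoin_simple_self K α)
    · rw [adjoin_simple_le_iff]
      have h1 : α = algebraMap K L σ⁻¹ * α' := by
        rw [hα', ← mul_assoc, ← map_mul, inv_mul_cancel₀ hσ0, map_one, one_mul]
      rw [h1]
      exact mul_mem (IntermediateField.algebraMap_mem _ _) (mem_adjoin_simple_self K α')
  have hminpoly : m' = minpoly K α' := by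
    refine Polynomial.eq_of_monic_of_dvd_of_natDegree_le (minpoly.monic hα'int) hm'monic
      (minpoly.dvd K α' hroot) ?_
    rw [hm', natDegree_scaleRoots, ← adjoin.finrank hαint, ← adjoin.finrank hα'int, hα, hα'top]
  have hsep : m'.Separable := by
    rw [hminpoly]
    exact Algebra.IsSeparable.isSeparable K α'
  let P : StandardEtalePair R :=
    { f := q
      monic_f := hqmonic
      g := derivative q
      cond := ⟨1, 0, 1, by simp⟩ }
  have hq_aeval : ∀ r : R[X], aeval α' r = aeval α' (r.map (algebraMap R K)) := fun r =>
    (Polynomial.aeval_map_algebraMap K α' r).symm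
  have hmap : P.HasMap α' := by
    refine ⟨?_, ?_⟩
    · show aeval α' q = 0
      rw [hq_aeval, hqmap, hroot]
    · show IsUnit (aeval α' (derivative q))
      rw [hq_aeval, ← derivative_map, hqmap, isUnit_iff_ne_zero]
      exact hsep.aeval_derivative_ne_zero hroot
  refine ⟨P.Ring, inferInstance, inferInstance, inferInstance, P.lift α' hmap, ?_⟩
  set F := Subfield.closure (Set.range (P.lift α' hmap)) with hF
  have hR : ∀ r : R, algebraMap R L r ∈ F := fun r =>
    Subfield.subset_closure ⟨algebraMap R P.Ring r, AlgHom.commutes _ r⟩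
  have hKmem : ∀ x : K, algebraMap K L x ∈ F := by
    intro x
    obtain ⟨a, b, hb, rfl⟩ := IsFractionRing.div_surjective (A := R ⧸ p) x
    obtain ⟨a, rfl⟩ := Ideal.Quotient.mk_surjective a
    obtain ⟨b, rfl⟩ := Ideal.Quotient.mk_surjective b
    rw [map_div₀]
    have h1 : ∀ c : R, algebraMap K L (algebraMap (R ⧸ p) K (Ideal.Quotient.mk p c)) =
        algebraMap R L c := by
      intro c
      rw [IsScalarTower.algebraMap_apply R K L, IsScalarTower.algebraMap_apply R (R ⧸ p) K]
      rfl
    rw [h1, h1]
    exact div_mem (hR a) (hR b)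
  have hαF : α' ∈ F := Subfield.subset_closure ⟨P.X, P.lift_X α' hmap⟩
  let F' : IntermediateField K L := Subfield.toIntermediateField F hKmem
  have hle : K⟮α'⟯ ≤ F' := by
    rw [adjoin_simple_le_iff]
    exact hαF
  rw [hα'top] at hle
  rw [eq_top_iff]
  intro x _
  exact hle (IntermediateField.mem_top (x := x))

end Groth.Agent.S9435
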