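import Groth.Statements.S9439
import Groth.Agent.S0542
import Mathlib

set_option autoImplicit false
universe u
open CAlg

namespace Groth.Agent.S9439

open IsLocalRing

theorem dvr_of_principal_nzd (S : Type u) [CommRing S] [IsLocalRing S] [IsNoetherianRing S]
    (a : S) (ha : maximalIdeal S = Ideal.span {a}) (hreg : a ∈ nonZeroDivisors S) :
    ∃ _ : IsDomain S, IsDiscreteValuationRing S := by
  classical
  have key : ∀ x : S, x ≠ 0 → ∃ (n : ℕ) (u : S), IsUnit u ∧ x = u * a ^ n := by
    intro x hx
    have hinf : (⨅ n : ℕ, (maximalIdeal S) ^ n) = ⊥ :=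
      Ideal.iInf_pow_eq_bot_of_isLocalRing _ Ideal.IsPrime.ne_top'
    have hex : ∃ n, x ∉ (maximalIdeal S) ^ n := by
      by_contra hcon
      push Not at hcon
      apply hx
      have : x ∈ (⨅ n : ℕ, (maximalIdeal S) ^ n) := by
        rw [Ideal.mem_iInf]; exact hcon
      rw [hinf] at this
      simpa using this
    have hn : x ∉ maximalIdeal S ^ (Nat.find hex) := Nat.find_spec hex
    have hn0 : Nat.find hex ≠ 0 := by
      intro h; rw [h] at hn; simp at hn
    obtain ⟨m, hm⟩ := Nat.exists_eq_add_one_of_ne_zero hn0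
    have hxm : x ∈ maximalIdeal S ^ m := by
      by_contra h
      exact Nat.find_min hex (by omega : m < Nat.find hex) h
    rw [ha, Ideal.span_singleton_pow, Ideal.mem_span_singleton'] at hxm
    obtain ⟨u, hu⟩ := hxm
    refine ⟨m, u, ?_, hu.symm⟩
    by_contra hnu
    have hum : u ∈ maximalIdeal S := (mem_maximalIdeal u).2 hnu
    rw [ha, Ideal.mem_span_singleton'] at hum
    obtain ⟨v, hv⟩ := hum
    apply hn
    rw [hm, ha, Ideal.span_singleton_pow, Ideal.mem_span_singleton']
    exact ⟨v, by rw [← hu, ← hv, pow_succ]; ring⟩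
  have hpow : ∀ n : ℕ, a ^ n ∈ nonZeroDivisors S := fun n => pow_mem hreg n
  haveI : NoZeroDivisors S := by
    refine ⟨fun {x y} hxy => ?_⟩
    by_contra hcon
    push Not at hcon
    obtain ⟨n, u, hu, rfl⟩ := key x hcon.1
    obtain ⟨k, v, hv, rfl⟩ := key y hcon.2
    have h1 : (u * v) * a ^ (n + k) = 0 := by rw [← hxy, pow_add]; ring
    have h2 : u * v = 0 := (mem_nonZeroDivisors_iff_right.1 (hpow (n + k))) _ h1
    exact (hu.mul hv).ne_zero h2
  haveI hdom : IsDomain S := NoZeroDivisors.to_isDomain S
  refine ⟨hdom, ?_⟩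
  have ha0 : a ≠ 0 := nonZeroDivisors.ne_zero hreg
  have hnf : ¬ IsField S := by
    rw [isField_iff_maximalIdeal_eq, ha]
    intro h
    exact ha0 (Ideal.span_singleton_eq_bot.1 h)
  refine ((IsDiscreteValuationRing.TFAE S hnf).out 4 0).1 ?_
  rw [ha]
  exact ⟨⟨a, rfl⟩⟩

theorem result
    (R : Type u) [CommRing R] [IsLocalRing R] [IsNoetherianRing R] (p : Ideal R) [p.IsPrime]
    [IsDomain (Localization.AtPrime p)] [IsDiscreteValuationRing (Localization.AtPrime p)]
    (hp : IsReduced (AdicCompletion (IsLocalRing.maximalIdeal R) R ⧸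
      p.map (algebraMap R (AdicCompletion (IsLocalRing.maximalIdeal R) R))))
    (q : Ideal (AdicCompletion (IsLocalRing.maximalIdeal R) R)) [q.IsPrime]
    (hq : q ∈ associatedPrimes (AdicCompletion (IsLocalRing.maximalIdeal R) R)
      (AdicCompletion (IsLocalRing.maximalIdeal R) R ⧸
        p.map (algebraMap R (AdicCompletion (IsLocalRing.maximalIdeal R) R)))) :
    ∃ _ : IsDomain (Localization.AtPrime q), IsDiscreteValuationRing (Localization.AtPrime q) := by
  classical
  haveI hN : IsNoetherianRing (AdicCompletion (maximalIdeal R) R) :=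
    Groth.Agent.S0542.result R (maximalIdeal R) (IsNoetherian.noetherian _)
  obtain ⟨-, xb, hxb⟩ := (isAssociatedPrime_iff).1 hq
  obtain ⟨x, rfl⟩ := Ideal.Quotient.mk_surjective xb
  have hmem : ∀ y : AdicCompletion (maximalIdeal R) R, y ∈ q ↔
      y * x ∈ p.map (algebraMap R (AdicCompletion (maximalIdeal R) R)) := by
    intro y
    rw [hxb, Submodule.mem_colon_singleton, Submodule.mem_bot, ← Ideal.Quotient.eq_zero_iff_mem,
      map_mul]
    rfl
  have hPq : p.map (algebraMap R (AdicCompletion (maximalIdeal R) R)) ≤ q :=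
    fun y hy => (hmem y).2 (Ideal.mul_mem_right x _ hy)
  have hxq : x ∉ q := by
    intro h
    have h2 : x * x ∈ p.map (algebraMap R (AdicCompletion (maximalIdeal R) R)) := (hmem x).1 h
    have h3 : (Ideal.Quotient.mk (p.map (algebraMap R (AdicCompletion (maximalIdeal R) R))) x) = 0 := by
      have hh : (Ideal.Quotient.mk (p.map (algebraMap R (AdicCompletion (maximalIdeal R) R))) x) ^ 2
          = 0 := by
        rw [← map_pow, pow_two]; exact Ideal.Quotient.eq_zero_iff_mem.2 h2
      exact IsReduced.eq_zero _ ⟨2, hh⟩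
    have h4 : (1 : AdicCompletion (maximalIdeal R) R) ∈ q := by
      rw [hmem, one_mul]; exact Ideal.Quotient.eq_zero_iff_mem.1 h3
    exact (Ideal.IsPrime.ne_top ‹_›) ((Ideal.eq_top_iff_one _).2 h4)
  have hcomap : ∀ t : R, t ∉ p → algebraMap R (AdicCompletion (maximalIdeal R) R) t ∉ q := by
    intro t ht htq
    have h1 := (hmem _).1 htq
    have hreg : IsSMulRegular (R ⧸ p) t := by
      intro a b hab
      obtain ⟨a, rfl⟩ := Ideal.Quotient.mk_surjective a
      obtain ⟨b, rfl⟩ := Ideal.Quotient.mk_surjective b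
      simp only [Algebra.smul_def, Ideal.Quotient.algebraMap_eq] at hab
      rw [← sub_eq_zero, ← mul_sub, ← map_sub, ← map_mul, Ideal.Quotient.eq_zero_iff_mem] at hab
      rw [← sub_eq_zero, ← map_sub, Ideal.Quotient.eq_zero_iff_mem]
      exact (Ideal.IsPrime.mem_or_mem ‹_› hab).resolve_left ht
    have hreg2 : IsSMulRegular
        (TensorProduct R (AdicCompletion (maximalIdeal R) R) (R ⧸ p)) t :=
      hreg.lTensor (AdicCompletion (maximalIdeal R) R)
    have hreg3 : IsSMulRegular ((AdicCompletion (maximalIdeal R) R) ⧸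
        (p • ⊤ : Submodule R (AdicCompletion (maximalIdeal R) R))) t :=
      (LinearEquiv.isSMulRegular_congr
        (TensorProduct.tensorQuotEquivQuotSMul (AdicCompletion (maximalIdeal R) R) p) t).1 hreg2
    have h2 : t • x ∈ (p • ⊤ : Submodule R (AdicCompletion (maximalIdeal R) R)) := by
      rw [Ideal.smul_top_eq_map, Submodule.restrictScalars_mem, Algebra.smul_def]
      exact h1
    have h3 : (Submodule.Quotient.mk x : (AdicCompletion (maximalIdeal R) R) ⧸
        (p • ⊤ : Submodule R (AdicCompletion (maximalIdeal R) R))) = 0 := by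
      apply hreg3
      simp only [smul_zero]
      rw [← Submodule.Quotient.mk_smul, Submodule.Quotient.mk_eq_zero]
      exact h2
    rw [Submodule.Quotient.mk_eq_zero, Ideal.smul_top_eq_map, Submodule.restrictScalars_mem] at h3
    exact hxq (hPq h3)
  have hpq : p = q.comap (algebraMap R (AdicCompletion (maximalIdeal R) R)) := by
    ext t
    constructor
    · intro ht
      exact hPq (Ideal.mem_map_of_mem _ ht)
    · intro ht
      by_contra hcon
      exact hcomap t hcon ht
  haveI : IsNoetherianRing (Localization.AtPrime q) :=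
    IsLocalization.isNoetherianRing q.primeCompl _ hN
  have hflat : (algebraMap R (AdicCompletion (maximalIdeal R) R)).Flat := by
    rw [RingHom.flat_algebraMap_iff]; infer_instance
  have hφflat := RingHom.Flat.localRingHom hflat q p hpq
  obtain ⟨ϖ, hϖ⟩ := IsDiscreteValuationRing.exists_irreducible (Localization.AtPrime p)
  have hmax := hϖ.maximalIdeal_eq
  set φ := Localization.localRingHom p q (algebraMap R (AdicCompletion (maximalIdeal R) R)) hpq
    with hφ
  refine dvr_of_principal_nzd (Localization.AtPrime q) (φ ϖ) ?_ ?_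
  · -- maximal ideal
    have hloc : IsLocalHom φ := Localization.isLocalHom_localRingHom _ _ _ hpq
    have hmem1 : φ ϖ ∈ maximalIdeal (Localization.AtPrime q) := by
      rw [mem_maximalIdeal, mem_nonunits_iff]
      intro hu
      exact hϖ.not_isUnit (hloc.map_nonunit _ hu)
    apply le_antisymm
    · rw [← Localization.AtPrime.map_eq_maximalIdeal, Ideal.map_le_iff_le_comap]
      intro y hy
      rw [Ideal.mem_comap]
      have hyx := (hmem y).1 hy
      have hxu : IsUnit (algebraMap _ (Localization.AtPrime q) x) :=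
        IsLocalization.map_units (Localization.AtPrime q) (⟨x, hxq⟩ : q.primeCompl)
      have hP : (p.map (algebraMap R (AdicCompletion (maximalIdeal R) R))).map
          (algebraMap _ (Localization.AtPrime q)) ≤ Ideal.span {φ ϖ} := by
        rw [Ideal.map_map, Ideal.map_le_iff_le_comap]
        intro r hr
        rw [Ideal.mem_comap, RingHom.comp_apply, ← Localization.localRingHom_to_map p q _ hpq r]
        have : algebraMap R (Localization.AtPrime p) r ∈ Ideal.span {ϖ} := by
          rw [← hmax, ← Localization.AtPrime.map_eq_maximalIdeal]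
          exact Ideal.mem_map_of_mem _ hr
        obtain ⟨c, hc⟩ := Ideal.mem_span_singleton'.1 this
        rw [← hc, map_mul]
        exact Ideal.mul_mem_left _ _ (Ideal.subset_span rfl)
      have h5 : algebraMap _ (Localization.AtPrime q) (y * x) ∈ Ideal.span {φ ϖ} :=
        hP (Ideal.mem_map_of_mem _ hyx)
      rw [map_mul] at h5
      obtain ⟨u, hu⟩ := hxu
      have : algebraMap _ (Localization.AtPrime q) y =
          algebraMap _ (Localization.AtPrime q) y * (u : Localization.AtPrime q) * ((u⁻¹ : (Localization.AtPrime q)ˣ) : Localization.AtPrime q) := by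
        rw [mul_assoc, Units.mul_inv, mul_one]
      rw [this, hu]
      exact Ideal.mul_mem_right _ _ h5
    · rw [Ideal.span_singleton_le_iff_mem]
      exact hmem1
  · -- nonzerodivisor
    have hϖ0 : ϖ ≠ 0 := hϖ.ne_zero
    have hreg : IsSMulRegular (Localization.AtPrime p) ϖ :=
      (IsRegular.of_ne_zero hϖ0).left.isSMulRegular
    letI := φ.toAlgebra
    haveI : Module.Flat (Localization.AtPrime p) (Localization.AtPrime q) := hφflat
    have h := IsSMulRegular.of_flat (S := Localization.AtPrime q) hreg
    rw [mem_nonZeroDivisors_iff_right]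
    intro z hz
    apply h
    simp only [smul_eq_mul, mul_zero]
    rw [mul_comm]
    exact hz

end Groth.Agent.S9439
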