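import Groth.Statements.S9441
import Groth.Agent.LibJacLoc29
import Groth.Agent.LibRelGCI29
import Groth.Agent.LibRelGCIDim29
import Groth.Agent.LibMinor29
-- import your own Groth.Agent.* helpers here

set_option autoImplicit false
universe u
open Synt

namespace Groth.Agent.S9441

open Groth.Agent.LibRelGCI29 Groth.Agent.LibJacLoc29 Groth.Agent.LibRelGCIDim29
  Groth.Agent.LibMinor29 MvPolynomial

/-- a derivation of a polynomial ring in terms of partial derivatives. -/
lemma derivation_eq_sum {R : Type u} [CommRing R] {n : ℕ}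
    (D : Derivation R (MvPolynomial (Fin n) R) (MvPolynomial (Fin n) R))
    (f : MvPolynomial (Fin n) R) :
    D f = ∑ k, D (X k) * pderiv k f := by
  classical
  have hsum : ∀ (d : Fin n → Derivation R (MvPolynomial (Fin n) R) (MvPolynomial (Fin n) R))
      (a : MvPolynomial (Fin n) R), (∑ k, d k) a = ∑ k, d k a := by
    intro d a
    have h := map_sum (Derivation.coeFnAddMonoidHom (R := R) (A := MvPolynomial (Fin n) R)
      (M := MvPolynomial (Fin n) R)) d Finset.univ
    have h2 := congrFun h a
    rw [Finset.sum_apply] at h2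
    exact h2
  let D' : Derivation R (MvPolynomial (Fin n) R) (MvPolynomial (Fin n) R) :=
    ∑ k, D (X k) • (pderiv k : Derivation R (MvPolynomial (Fin n) R) (MvPolynomial (Fin n) R))
  have h : D = D' := by
    apply MvPolynomial.derivation_ext
    intro i
    simp only [D', hsum, Derivation.smul_apply, pderiv_X, smul_eq_mul]
    rw [Finset.sum_eq_single i]
    · simp
    · intro b _ hb
      simp [hb.symm]
    · simp
  conv_lhs => rw [h]
  simp only [D', hsum, Derivation.smul_apply, smul_eq_mul]

/-- the fibre of a relative global complete intersection through a point has the expected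
dimension. -/
lemma fibre_dim {R : Type u} [CommRing R] (n c : ℕ)
    (F : Fin c → MvPolynomial (Fin n) R) (hF : Synt.IsRelGCI R n c F)
    (q' : Ideal (MvPolynomial (Fin n) R)) [q'.IsPrime] (hJq' : Ideal.span (Set.range F) ≤ q')
    (p : Ideal R) [p.IsPrime] (hp : p = q'.comap (C : R →+* MvPolynomial (Fin n) R)) :
    c ≤ n ∧ ringKrullDim (MvPolynomial (Fin n) p.ResidueField ⧸
      Ideal.span (Set.range (Fbar p.ResidueField F))) = ((n - c : ℕ) : WithBot ℕ∞) := by
  have hQ : Ideal.span (Set.range (Fbar p.ResidueField F)) ≤ primeOver q' p hp := by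
    rw [Ideal.span_le]
    rintro _ ⟨l, rfl⟩
    exact (map_mem_primeOver_iff q' p hp (F l)).mpr (hJq' (Ideal.subset_span ⟨l, rfl⟩))
  have hnt : Nontrivial (MvPolynomial (Fin n) p.ResidueField ⧸
      Ideal.span (Set.range (Fbar p.ResidueField F))) := by
    rw [Ideal.Quotient.nontrivial_iff]
    intro h
    exact (inferInstance : (primeOver q' p hp).IsPrime).ne_top (top_le_iff.mp (h ▸ hQ))
  have hnt' : Nontrivial (p.Fiber (Synt.RelGCIRing R n c F)) :=
    (tensorEquiv p.ResidueField F).toEquiv.nontrivial
  obtain ⟨hcn, hdim⟩ := hF ⟨p, inferInstance⟩ hnt'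
  refine ⟨hcn, ?_⟩
  rw [← hdim]
  exact (ringKrullDim_eq_of_ringEquiv (tensorEquiv p.ResidueField F).toRingEquiv).symm


/-- For a relative global complete intersection S = R[x_1, …, x_n]/(f_1, …, f_c) and a prime q of S, the
map R → S is smooth at q if and only if some c × c minor of the Jacobian matrix (∂f_j/∂x_i), taken
on c distinct variables, has image outside q. -/
theorem result (R : Type u) [CommRing R] (n c : ℕ)
    (F : Fin c → MvPolynomial (Fin n) R) (hF : Synt.IsRelGCI R n c F)
    (q : Ideal (Synt.RelGCIRing R n c F)) [q.IsPrime] :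
    Algebra.IsSmoothAt R q ↔ ∃ I : Fin c ↪ Fin n,
      Ideal.Quotient.mk (Ideal.span (Set.range F))
        (Matrix.det (Matrix.of fun j i => MvPolynomial.pderiv (I i) (F j))) ∉ q := by
  classical
  let J : Ideal (MvPolynomial (Fin n) R) := Ideal.span (Set.range F)
  let q' : Ideal (MvPolynomial (Fin n) R) := q.comap (Ideal.Quotient.mk J)
  have hq'prime : q'.IsPrime := Ideal.comap_isPrime _ _
  have hJq' : J ≤ q' := by
    intro x hx
    change Ideal.Quotient.mk J x ∈ q
    rw [Ideal.Quotient.eq_zero_iff_mem.mpr hx]
    exact q.zero_mem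
  have hmapq : q'.map (Ideal.Quotient.mk J) = q :=
    Ideal.map_comap_of_surjective _ Ideal.Quotient.mk_surjective q
  have hmem : ∀ x, Ideal.Quotient.mk J x ∈ q ↔ x ∈ q' := fun x => Iff.rfl
  have hprime2 : (q'.map (Ideal.Quotient.mk J)).IsPrime := hmapq.symm ▸ ‹q.IsPrime›
  have key : ∀ (q₂ : Ideal (Synt.RelGCIRing R n c F)) [q₂.IsPrime], q₂ = q →
      (Algebra.FormallySmooth R (Localization.AtPrime q₂) ↔
        Algebra.FormallySmooth R (Localization.AtPrime q)) := by
    rintro q₂ _ rfl
    exact Iff.rfl
  have hfg : J.FG := ⟨Finset.univ.image F, by simp [J]⟩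
  change Algebra.FormallySmooth R (Localization.AtPrime q) ↔ _
  rw [← key _ hmapq, main' (k₀ := R) (MvPolynomial (Fin n) R) J q' hJq' (Set.range F) rfl hfg]
  constructor
  · rintro ⟨m, f, D, hfT, hspan, hdet⟩
    choose σ hσ using hfT
    -- the residue field of `q'`
    let ρ : MvPolynomial (Fin n) R →+* q'.ResidueField :=
      algebraMap (MvPolynomial (Fin n) R) q'.ResidueField
    have hρ : ∀ x, ρ x = 0 ↔ x ∈ q' := fun x => Ideal.algebraMap_residueField_eq_zero
    -- matrices
    let JF : Matrix (Fin c) (Fin n) q'.ResidueField := Matrix.of fun j k => ρ (pderiv k (F j))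
    let Jσ : Matrix (Fin m) (Fin n) q'.ResidueField := Matrix.of fun i k => ρ (pderiv k (f i))
    let Λ : Matrix (Fin n) (Fin m) q'.ResidueField := Matrix.of fun k j => ρ (D j (X k))
    have hA : ρ.mapMatrix (Matrix.of fun i j => D j (f i)) = Jσ * Λ := by
      ext i j
      simp only [RingHom.mapMatrix_apply, Matrix.map_apply, Matrix.of_apply, Matrix.mul_apply, Jσ,
        Λ]
      rw [derivation_eq_sum (D j) (f i), map_sum]
      refine Finset.sum_congr rfl fun k _ => ?_
      rw [map_mul, mul_comm]
    have hdetA : (Jσ * Λ).det ≠ 0 := by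
      rw [← hA, ← RingHom.map_det]
      intro h0
      exact hdet ((hρ _).mp h0)
    -- rows of `Jσ` are independent
    have hrowsA : LinearIndependent q'.ResidueField (Jσ * Λ).row :=
      Matrix.linearIndependent_rows_iff_isUnit.mpr
        ((Matrix.isUnit_iff_isUnit_det _).mpr (IsUnit.mk0 _ hdetA))
    have hrowsσ : LinearIndependent q'.ResidueField Jσ.row := by
      have h1 : (Jσ * Λ).row = (Matrix.vecMulLinear Λ) ∘ Jσ.row := by
        ext i j
        simp [Matrix.row, Matrix.mul_apply, Matrix.vecMul, dotProduct]
      rw [h1] at hrowsA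
      exact LinearIndependent.of_comp _ hrowsA
    have hrowsσ' : Jσ.row = JF.row ∘ σ := by
      ext i k
      simp [Matrix.row, Jσ, JF, hσ]
    have hσinj : Function.Injective σ := by
      intro i i' hii
      apply hrowsσ.injective
      rw [hrowsσ']
      simp [hii]
    have hmc : m ≤ c := by
      simpa using Fintype.card_le_of_injective σ hσinj
    -- the dimension count gives `c ≤ m`
    have hcm : c ≤ m := by
      let p : Ideal R := q'.comap (C : R →+* MvPolynomial (Fin n) R)
      have hpprime : p.IsPrime := Ideal.comap_isPrime _ _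
      obtain ⟨hcn, hdim⟩ := fibre_dim n c F hF q' hJq' p rfl
      have hQ : Ideal.span (Set.range (Fbar p.ResidueField F)) ≤ primeOver q' p rfl := by
        rw [Ideal.span_le]
        rintro _ ⟨l, rfl⟩
        exact (map_mem_primeOver_iff q' p rfl (F l)).mpr (hJq' (Ideal.subset_span ⟨l, rfl⟩))
      -- the common denominator
      have hloc : ∀ l, ∃ s ∈ q'.primeCompl, s * F l ∈ Ideal.span (Set.range f) := by
        intro l
        have h1 : algebraMap _ (Localization.AtPrime q') (F l) ∈
            J.map (algebraMap _ (Localization.AtPrime q')) :=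
          Ideal.mem_map_of_mem _ (Ideal.subset_span ⟨l, rfl⟩)
        rw [hspan] at h1
        have h2 : Ideal.span (Set.range fun i => algebraMap (MvPolynomial (Fin n) R)
            (Localization.AtPrime q') (f i)) =
            (Ideal.span (Set.range f)).map (algebraMap _ (Localization.AtPrime q')) := by
          rw [Ideal.map_span, ← Set.range_comp]
          rfl
        rw [h2, IsLocalization.algebraMap_mem_map_algebraMap_iff q'.primeCompl] at h1
        exact h1
      choose s hs hsF using hloc
      let g : MvPolynomial (Fin n) R := ∏ l, s l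
      have hg : g ∉ q' := by
        intro hg
        obtain ⟨l, -, hl⟩ := (Ideal.IsPrime.prod_mem_iff.mp hg)
        exact hs l hl
      have hgF : ∀ l, g * F l ∈ Ideal.span (Set.range f) := by
        intro l
        have h1 : g = (∏ l' ∈ Finset.univ.erase l, s l') * s l := by
          rw [Finset.prod_erase_mul _ _ (Finset.mem_univ l)]
        rw [h1, mul_assoc]
        exact Ideal.mul_mem_left _ _ (hsF l)
      refine le_card_of_local_generators p.ResidueField n c hcn (Fbar p.ResidueField F) hdim
        (primeOver q' p rfl) hQ m (fun i => MvPolynomial.map (algebraMap R p.ResidueField) (f i))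
        ?_ (MvPolynomial.map (algebraMap R p.ResidueField) g) ?_ ?_
      · intro i
        rw [← hσ i]
        exact Ideal.subset_span ⟨σ i, rfl⟩
      · rw [map_mem_primeOver_iff]
        exact hg
      · intro l
        have h1 := Ideal.mem_map_of_mem (MvPolynomial.map (algebraMap R p.ResidueField)) (hgF l)
        rw [Ideal.map_span, ← Set.range_comp, map_mul] at h1
        exact h1
    have hmceq : m = c := le_antisymm hmc hcm
    have hσbij : Function.Bijective σ := by
      rw [Fintype.bijective_iff_injective_and_card]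
      exact ⟨hσinj, by simpa using hmceq⟩
    have hrowsF : LinearIndependent q'.ResidueField JF.row := by
      rw [hrowsσ'] at hrowsσ
      exact (linearIndependent_equiv (Equiv.ofBijective σ hσbij)).mp hrowsσ
    obtain ⟨cols, hcols⟩ := exists_minor_ne_zero JF hrowsF
    refine ⟨cols, ?_⟩
    rw [hmem, ← hρ]
    have h3 : ρ.mapMatrix (Matrix.of fun j i => pderiv (cols i) (F j)) =
        JF.submatrix id cols := by
      ext j i
      simp [JF]
    rw [RingHom.map_det, h3]
    exact hcols
  · rintro ⟨I, hI⟩
    refine ⟨c, F, fun j => pderiv (I j), fun i => ⟨i, rfl⟩, ?_, ?_⟩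
    · rw [Ideal.map_span, ← Set.range_comp]
      rfl
    · rw [hmem] at hI
      exact hI

end Groth.Agent.S9441
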