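import Groth.Statements.S9445
import Groth.Agent.LibEt29
import Mathlib.RingTheory.Kaehler.Basic
-- import your own Groth.Agent.* helpers here

set_option autoImplicit false
universe u
open CAlg

namespace Groth.Agent.S9445
open scoped TensorProduct
set_option autoImplicit false


section

variable (R : Type u) [CommRing R]
    (S : Type u) [CommRing S] [Algebra R S] (S' : Type u) [CommRing S'] [Algebra R S']
    [Algebra S S'] [IsScalarTower R S S'] (k : ℕ)

/-- the map `S' ⊗ S → S' ⊗ S'` -/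
noncomputable abbrev mm : S' ⊗[R] S →ₐ[S'] S' ⊗[R] S' :=
  Algebra.TensorProduct.map (AlgHom.id S' S') (IsScalarTower.toAlgHom R S S')

/-- the ideal `I₁` -/
noncomputable abbrev I₁ : Ideal (S' ⊗[R] S) :=
  (KaehlerDifferential.ideal R S').comap (mm R S S').toRingHom

/-- the source ring -/
abbrev CC := (S' ⊗[R] S) ⧸ (I₁ R S S') ^ (k + 1)

/-- the target ring -/
abbrev CC' := (S' ⊗[R] S') ⧸ (KaehlerDifferential.ideal R S') ^ (k + 1)

/-- the map in question -/
noncomputable abbrev Phi : CC R S S' k →+* CC' R S' k :=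
  Ideal.quotientMap (KaehlerDifferential.ideal R S' ^ (k + 1)) (mm R S S').toRingHom
    (Ideal.le_comap_pow (mm R S S').toRingHom (K := KaehlerDifferential.ideal R S') (k + 1))

lemma Phi_mk (t : S' ⊗[R] S) :
    Phi R S S' k (Ideal.Quotient.mk _ t) = Ideal.Quotient.mk _ (mm R S S' t) := rfl

/-- the nilpotent ideal of the source -/
noncomputable def NN : Ideal (CC R S S' k) :=
  (I₁ R S S').map (Ideal.Quotient.mk ((I₁ R S S') ^ (k + 1)))

lemma NN_pow : NN R S S' k ^ (k + 1) = ⊥ := by
  unfold NN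
  rw [← Ideal.map_pow]
  exact Ideal.map_quotient_self _

/-- the nilpotent ideal of the target -/
noncomputable def NN' : Ideal (CC' R S' k) :=
  (KaehlerDifferential.ideal R S').map
    (Ideal.Quotient.mk ((KaehlerDifferential.ideal R S') ^ (k + 1)))

lemma NN'_pow : NN' R S' k ^ (k + 1) = ⊥ := by
  unfold NN'
  rw [← Ideal.map_pow]
  exact Ideal.map_quotient_self _

/-- the left structure map -/
noncomputable def lam : S' →+* CC R S S' k :=
  (Ideal.Quotient.mk _).comp (Algebra.TensorProduct.includeLeft : S' →ₐ[R] S' ⊗[R] S).toRingHom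

/-- the right structure map -/
noncomputable def rho : S →+* CC R S S' k :=
  (Ideal.Quotient.mk _).comp (Algebra.TensorProduct.includeRight : S →ₐ[R] S' ⊗[R] S).toRingHom

lemma lam_apply (s' : S') : lam R S S' k s' = Ideal.Quotient.mk _ (s' ⊗ₜ[R] (1 : S)) := rfl

lemma rho_apply (s : S) : rho R S S' k s = Ideal.Quotient.mk _ ((1 : S') ⊗ₜ[R] s) := rfl

lemma lam_sub_rho_mem (s : S) :
    lam R S S' k (algebraMap S S' s) - rho R S S' k s ∈ NN R S S' k := by
  rw [lam_apply, rho_apply, ← map_sub]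
  refine Ideal.mem_map_of_mem _ ?_
  rw [Ideal.mem_comap]
  change mm R S S' _ ∈ _
  rw [map_sub, Algebra.TensorProduct.map_tmul, Algebra.TensorProduct.map_tmul]
  simp only [AlgHom.coe_id, id_eq, map_one, IsScalarTower.coe_toAlgHom']
  have := KaehlerDifferential.one_smul_sub_smul_one_mem_ideal R (algebraMap S S' s)
  have h2 := Ideal.neg_mem_iff _ |>.2 this
  rwa [neg_sub] at h2

/-- `lam` as an `R`-algebra map -/
noncomputable def lamA : S' →ₐ[R] CC R S S' k :=
  (Ideal.Quotient.mkₐ R _).comp (Algebra.TensorProduct.includeLeft : S' →ₐ[R] S' ⊗[R] S)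

lemma lamA_apply (s' : S') : lamA R S S' k s' = lam R S S' k s' := rfl

lemma rho_algebraMap (r : R) : rho R S S' k (algebraMap R S r) = algebraMap R (CC R S S' k) r := by
  rw [rho_apply]
  have h1 : ((1 : S') ⊗ₜ[R] (algebraMap R S r) : S' ⊗[R] S) = algebraMap R (S' ⊗[R] S) r :=
    (Algebra.TensorProduct.includeRight : S →ₐ[R] S' ⊗[R] S).commutes r
  rw [h1]
  rfl

variable (g : S' →+* CC R S S' k)

/-- `g` as an `R`-algebra map -/
noncomputable def gA (hg : ∀ s, g (algebraMap S S' s) = rho R S S' k s) : S' →ₐ[R] CC R S S' k :=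
  { g with
    commutes' := fun r => by
      simp only [RingHom.toMonoidHom_eq_coe, OneHom.toFun_eq_coe, MonoidHom.toOneHom_coe,
        MonoidHom.coe_coe]
      rw [IsScalarTower.algebraMap_apply R S S', hg, rho_algebraMap] }

lemma gA_apply (hg : ∀ s, g (algebraMap S S' s) = rho R S S' k s) (s' : S') :
    gA R S S' k g hg s' = g s' := rfl

/-- the inverse map before passing to the quotient -/
noncomputable def psi (hg : ∀ s, g (algebraMap S S' s) = rho R S S' k s) :
    S' ⊗[R] S' →ₐ[R] CC R S S' k :=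
  Algebra.TensorProduct.lift (lamA R S S' k) (gA R S S' k g hg) (fun _ _ => Commute.all _ _)

lemma psi_tmul (hg : ∀ s, g (algebraMap S S' s) = rho R S S' k s) (s₁ s₂ : S') :
    psi R S S' k g hg (s₁ ⊗ₜ[R] s₂) = lam R S S' k s₁ * g s₂ := by
  unfold psi
  rw [Algebra.TensorProduct.lift_tmul]
  rfl

lemma psi_mem (hg : ∀ s, g (algebraMap S S' s) = rho R S S' k s)
    (hg2 : ∀ s', g s' - lam R S S' k s' ∈ NN R S S' k) :
    (KaehlerDifferential.ideal R S').map (psi R S S' k g hg) ≤ NN R S S' k := by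
  rw [← KaehlerDifferential.span_range_eq_ideal, Ideal.map_span, Ideal.span_le]
  rintro _ ⟨_, ⟨s, rfl⟩, rfl⟩
  rw [map_sub, psi_tmul, psi_tmul, map_one, map_one, one_mul, mul_one]
  exact hg2 s

lemma psi_pow (hg : ∀ s, g (algebraMap S S' s) = rho R S S' k s)
    (hg2 : ∀ s', g s' - lam R S S' k s' ∈ NN R S S' k)
    (t : S' ⊗[R] S') (ht : t ∈ KaehlerDifferential.ideal R S' ^ (k + 1)) :
    psi R S S' k g hg t = 0 := by
  have h2 := Ideal.pow_right_mono (psi_mem R S S' k g hg hg2) (k + 1)
  rw [← Ideal.map_pow, NN_pow] at h2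
  have h3 := h2 (Ideal.mem_map_of_mem _ ht)
  simpa using h3

/-- the inverse map -/
noncomputable def Psi (hg : ∀ s, g (algebraMap S S' s) = rho R S S' k s)
    (hg2 : ∀ s', g s' - lam R S S' k s' ∈ NN R S S' k) : CC' R S' k →+* CC R S S' k :=
  Ideal.Quotient.lift _ (psi R S S' k g hg).toRingHom
    (fun t ht => psi_pow R S S' k g hg hg2 t ht)

lemma Psi_mk (hg : ∀ s, g (algebraMap S S' s) = rho R S S' k s)
    (hg2 : ∀ s', g s' - lam R S S' k s' ∈ NN R S S' k) (t : S' ⊗[R] S') :
    Psi R S S' k g hg hg2 (Ideal.Quotient.mk _ t) = psi R S S' k g hg t := rfl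

lemma Psi_Phi (hg : ∀ s, g (algebraMap S S' s) = rho R S S' k s)
    (hg2 : ∀ s', g s' - lam R S S' k s' ∈ NN R S S' k) (x : CC R S S' k) :
    Psi R S S' k g hg hg2 (Phi R S S' k x) = x := by
  obtain ⟨t, rfl⟩ := Ideal.Quotient.mk_surjective x
  rw [Phi_mk, Psi_mk]
  induction t using TensorProduct.induction_on with
  | zero => simp
  | tmul s' s =>
    rw [Algebra.TensorProduct.map_tmul]
    simp only [AlgHom.coe_id, id_eq, IsScalarTower.coe_toAlgHom']
    rw [psi_tmul, hg, lam_apply, rho_apply, ← map_mul, Algebra.TensorProduct.tmul_mul_tmul,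
      mul_one, one_mul]
  | add x y hx hy => rw [map_add, map_add, hx, hy, map_add]

lemma Phi_mem (x : CC R S S' k) (hx : x ∈ NN R S S' k) : Phi R S S' k x ∈ NN' R S' k := by
  have h1 : (NN R S S' k).map (Phi R S S' k) ≤ NN' R S' k := by
    unfold NN
    rw [Ideal.map_map, Ideal.map_le_iff_le_comap]
    intro t ht
    rw [Ideal.mem_comap, RingHom.comp_apply, Phi_mk]
    exact Ideal.mem_map_of_mem _ ht
  exact h1 (Ideal.mem_map_of_mem _ hx)

lemma Phi_g [Algebra.FormallyUnramified S S'] (hg : ∀ s, g (algebraMap S S' s) = rho R S S' k s)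
    (hg2 : ∀ s', g s' - lam R S S' k s' ∈ NN R S S' k) (s' : S') :
    Phi R S S' k (g s') = Ideal.Quotient.mk _ ((1 : S') ⊗ₜ[R] s') := by
  have key : (Phi R S S' k).comp g =
      (Ideal.Quotient.mk ((KaehlerDifferential.ideal R S') ^ (k + 1))).comp
        (Algebra.TensorProduct.includeRight : S' →ₐ[R] S' ⊗[R] S').toRingHom := by
    refine LibEt29.lift_unique (S := S) (NN' R S' k) ⟨k + 1, NN'_pow R S' k⟩ _ _ ?_ ?_
    · intro s
      simp only [RingHom.comp_apply]
      rw [hg, rho_apply, Phi_mk, Algebra.TensorProduct.map_tmul]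
      simp only [AlgHom.coe_id, id_eq, IsScalarTower.coe_toAlgHom']
      rfl
    · intro s'
      simp only [RingHom.comp_apply]
      have e : Phi R S S' k (g s') - (Ideal.Quotient.mk _)
            ((Algebra.TensorProduct.includeRight : S' →ₐ[R] S' ⊗[R] S').toRingHom s') =
          Phi R S S' k (g s' - lam R S S' k s') -
            Ideal.Quotient.mk _ ((1 : S') ⊗ₜ[R] s' - s' ⊗ₜ[R] (1 : S')) := by
        rw [map_sub, map_sub, lam_apply, Phi_mk, Algebra.TensorProduct.map_tmul]
        simp only [AlgHom.coe_id, id_eq, map_one]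
        change _ - Ideal.Quotient.mk _ ((1 : S') ⊗ₜ[R] s') = _
        ring
      rw [e]
      refine Ideal.sub_mem _ (Phi_mem R S S' k _ (hg2 s')) ?_
      exact Ideal.mem_map_of_mem _ (KaehlerDifferential.one_smul_sub_smul_one_mem_ideal R s')
  exact RingHom.congr_fun key s'

lemma Phi_Psi [Algebra.FormallyUnramified S S'] (hg : ∀ s, g (algebraMap S S' s) = rho R S S' k s)
    (hg2 : ∀ s', g s' - lam R S S' k s' ∈ NN R S S' k) (y : CC' R S' k) :
    Phi R S S' k (Psi R S S' k g hg hg2 y) = y := by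
  obtain ⟨t, rfl⟩ := Ideal.Quotient.mk_surjective y
  rw [Psi_mk]
  induction t using TensorProduct.induction_on with
  | zero => simp
  | tmul s₁ s₂ =>
    rw [psi_tmul, map_mul, Phi_g R S S' k g hg hg2, lam_apply, Phi_mk,
      Algebra.TensorProduct.map_tmul]
    simp only [AlgHom.coe_id, id_eq, map_one]
    rw [← map_mul, Algebra.TensorProduct.tmul_mul_tmul, mul_one, one_mul]
  | add x y hx hy => rw [map_add, map_add, hx, hy, map_add]

end



open TensorProduct in
/-- For ring maps R → S → S' with S → S' formally étale and k ≥ 0, let J' ⊆ S' ⊗_R S' be the kernel of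
multiplication and I ⊆ S' ⊗_R S its preimage under the map induced by S → S' (I is the kernel of S'
⊗_R S → S', and (S' ⊗_R S)/I^{k+1} is S' ⊗_S P^k_{S/R}); then (S' ⊗_R S)/I^{k+1} → (S' ⊗_R
S')/J'^{k+1} is bijective. (The consequence S' ⊗_S Ω_{S/R} ≅ Ω_{S'/R} is Mathlib's
KaehlerDifferential.isBaseChange_of_formallyEtale.) -/
theorem result (R : Type u) [CommRing R]
    (S : Type u) [CommRing S] [Algebra R S] (S' : Type u) [CommRing S'] [Algebra R S']
    [Algebra S S'] [IsScalarTower R S S'] [Algebra.FormallyEtale S S'] (k : ℕ) :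
    Function.Bijective (Ideal.quotientMap (KaehlerDifferential.ideal R S' ^ (k + 1))
      (Algebra.TensorProduct.map (AlgHom.id S' S') (IsScalarTower.toAlgHom R S S')).toRingHom
      (Ideal.le_comap_pow
        (Algebra.TensorProduct.map (AlgHom.id S' S') (IsScalarTower.toAlgHom R S S')).toRingHom
        (K := KaehlerDifferential.ideal R S') (k + 1))) := by
  obtain ⟨g, hg, hg2⟩ := LibEt29.exists_lift (S := S) (NN R S S' k) ⟨k + 1, NN_pow R S S' k⟩
    (lam R S S' k) (rho R S S' k) (lam_sub_rho_mem R S S' k)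
  rw [Function.bijective_iff_has_inverse]
  exact ⟨Psi R S S' k g hg hg2, Psi_Phi R S S' k g hg hg2, Phi_Psi R S S' k g hg hg2⟩

end Groth.Agent.S9445
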