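import Groth.Statements.S9452
import Mathlib

set_option autoImplicit false
universe u
open Unram

namespace Groth.Agent.S9452

open TensorProduct

section gluing
variable {T T' A : Type*} [CommRing T] [CommRing T'] [CommRing A]

lemma exists_glue (f : T) [Algebra T T'] [IsLocalization.Away f T'] (ν : T' →+* A)
    (hμ : Function.Surjective (ν.comp (algebraMap T T')))
    (ebar : T') (h1 : ν ebar = 1)
    (h2 : ∀ w : T, ν (algebraMap T T' w) = 0 → ebar * algebraMap T T' w = 0) :
    ∃ ε : T, ν (algebraMap T T' ε) = 1 ∧ ∀ w : T, ν (algebraMap T T' w) = 0 → ε * w = 0 := by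
  have hker : ∀ x : T, algebraMap T T' x = 0 → ∃ k : ℕ, f ^ k * x = 0 := by
    intro x hx
    obtain ⟨⟨_, k, rfl⟩, hk⟩ := (IsLocalization.map_eq_zero_iff (Submonoid.powers f) T' x).mp hx
    exact ⟨k, hk⟩
  have hfu : IsUnit (algebraMap T T' f) := IsLocalization.Away.algebraMap_isUnit f
  have hfu' : IsUnit (ν (algebraMap T T' f)) := hfu.map ν
  obtain ⟨t, ht⟩ := hμ (↑hfu'.unit⁻¹)
  have htf : ν (algebraMap T T' (t * f)) = 1 := by
    rw [map_mul, map_mul]
    rw [RingHom.comp_apply] at ht
    rw [ht]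
    exact hfu'.val_inv_mul
  have h1u : ν (algebraMap T T' (1 - t * f)) = 0 := by
    rw [map_sub, map_sub, map_one, map_one, htf, sub_self]
  have he_u : ebar * algebraMap T T' (t * f) = ebar := by
    have := h2 (1 - t * f) h1u
    rw [map_sub, map_one, mul_sub, mul_one, sub_eq_zero] at this
    exact this.symm
  have he_un : ∀ n : ℕ, ebar * algebraMap T T' (t * f) ^ n = ebar := by
    intro n
    induction n with
    | zero => simp
    | succ n ih => rw [pow_succ, ← mul_assoc, ih, he_u]
  obtain ⟨n, a, ha⟩ := IsLocalization.Away.surj f ebar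
  have hε₀ : algebraMap T T' (t ^ n * a) = ebar := by
    rw [map_mul, map_pow, ← ha]
    calc algebraMap T T' t ^ n * (ebar * algebraMap T T' f ^ n)
        = ebar * (algebraMap T T' t * algebraMap T T' f) ^ n := by ring
      _ = ebar := by rw [← map_mul]; exact he_un n
  have h3 : algebraMap T T' (t ^ n * a * (1 - t * f)) = 0 := by
    rw [map_mul, hε₀]
    exact h2 _ h1u
  obtain ⟨k, hk⟩ := hker _ h3
  have hε1 : (t * f) ^ k * (t ^ n * a) * (1 - t * f) = 0 := by
    calc _ = t ^ k * (f ^ k * (t ^ n * a * (1 - t * f))) := by ring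
      _ = 0 := by rw [hk, mul_zero]
  have hεu : (t * f) * ((t * f) ^ k * (t ^ n * a)) = (t * f) ^ k * (t ^ n * a) := by
    linear_combination (-1 : T) * hε1
  have hεun : ∀ m : ℕ, (t * f) ^ m * ((t * f) ^ k * (t ^ n * a)) = (t * f) ^ k * (t ^ n * a) := by
    intro m
    induction m with
    | zero => simp
    | succ m ih => rw [pow_succ, mul_assoc, hεu, ih]
  have hlocε : algebraMap T T' ((t * f) ^ k * (t ^ n * a)) = ebar := by
    rw [map_mul, map_pow, hε₀, mul_comm]
    exact he_un k
  refine ⟨(t * f) ^ k * (t ^ n * a), by rw [hlocε, h1], fun w hw => ?_⟩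
  have h4 : algebraMap T T' ((t * f) ^ k * (t ^ n * a) * w) = 0 := by
    rw [map_mul, hlocε]
    exact h2 w hw
  obtain ⟨m, hm⟩ := hker _ h4
  calc (t * f) ^ k * (t ^ n * a) * w = (t * f) ^ m * ((t * f) ^ k * (t ^ n * a)) * w := by
        rw [hεun]
    _ = t ^ m * (f ^ m * ((t * f) ^ k * (t ^ n * a) * w)) := by ring
    _ = 0 := by rw [hm, mul_zero]

end gluing

section prod
variable {R' T A : Type*} [CommRing R'] [CommRing T] [CommRing A] [Algebra R' T] [Algebra R' A]

lemma prod_bijective (μ : T →ₐ[R'] A) (hμ : Function.Surjective μ) (ε : T) (h1 : μ ε = 1)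
    (h2 : ∀ w, μ w = 0 → ε * w = 0) :
    Function.Bijective (μ.prod (Ideal.Quotient.mkₐ R' (Ideal.span {ε}))) := by
  have hidem : ε * ε = ε := by
    have := h2 (1 - ε) (by rw [map_sub, map_one, h1, sub_self])
    linear_combination (-1 : T) * this
  constructor
  · rw [injective_iff_map_eq_zero]
    intro z hz
    rw [AlgHom.prod_apply, Prod.mk_eq_zero] at hz
    obtain ⟨hz1, hz2⟩ := hz
    rw [Ideal.Quotient.mkₐ_eq_mk, Ideal.Quotient.eq_zero_iff_mem, Ideal.mem_span_singleton'] at hz2
    obtain ⟨c, rfl⟩ := hz2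
    have := h2 _ hz1
    calc c * ε = c * (ε * ε) := by rw [hidem]
      _ = ε * (c * ε) := by ring
      _ = 0 := this
  · rintro ⟨a, b⟩
    obtain ⟨z₁, rfl⟩ := hμ a
    obtain ⟨z₂, rfl⟩ := Ideal.Quotient.mk_surjective b
    refine ⟨ε * z₁ + (1 - ε) * z₂, ?_⟩
    rw [AlgHom.prod_apply]
    refine Prod.ext ?_ ?_
    · simp [h1]
    · simp only [Ideal.Quotient.mkₐ_eq_mk, map_add, map_mul, map_sub, map_one]
      have : Ideal.Quotient.mk (Ideal.span {ε}) ε = 0 :=
        Ideal.Quotient.eq_zero_iff_mem.mpr (Ideal.mem_span_singleton_self ε)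
      rw [this]
      ring

end prod

set_option maxHeartbeats 800000 in
open TensorProduct in

open TensorProduct in
/-- Let R → S be of finite type and unramified at a prime q lying over p. Then there are an étale
R-algebra R', a prime p' of R' over p and an R'-algebra isomorphism e : R' ⊗_R S ≅ A × B with R' → A
surjective and p'A a prime ideal of A lying over p' whose pull-back along S → R' ⊗_R S ≅ A × B → A
is q. -/
theorem result (R : Type u) [CommRing R]
    (S : Type u) [CommRing S] [Algebra R S] [Algebra.FiniteType R S] (q : Ideal S) [q.IsPrime]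
    [Algebra.IsUnramifiedAt R q] :
    ∃ (R' : Type u) (_ : CommRing R') (_ : Algebra R R') (_ : Algebra.Etale R R') (p' : Ideal R')
      (_ : p'.IsPrime) (_ : p'.LiesOver (q.under R)) (A : Type u) (_ : CommRing A) (_ : Algebra R' A)
      (B : Type u) (_ : CommRing B) (_ : Algebra R' B) (e : (R' ⊗[R] S) ≃ₐ[R'] (A × B)),
      Function.Surjective (algebraMap R' A) ∧ (p'.map (algebraMap R' A)).IsPrime ∧
        (p'.map (algebraMap R' A)).comap (algebraMap R' A) = p' ∧
        (p'.map (algebraMap R' A)).comap (((RingHom.fst A B).comp e.toRingHom).comp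
          (Algebra.TensorProduct.includeRight : S →ₐ[R] R' ⊗[R] S).toRingHom) = q := by
  obtain ⟨f₀, hf₀, P, φ, hφ⟩ :=
    Algebra.IsUnramifiedAt.exists_hasStandardEtaleSurjectionOn (R := R) q
  -- notation
  let locA : P.Ring ⊗[R] S →ₐ[P.Ring] P.Ring ⊗[R] Localization.Away f₀ :=
    Algebra.TensorProduct.map (AlgHom.id P.Ring P.Ring) (IsScalarTower.toAlgHom R S _)
  let algT : Algebra (P.Ring ⊗[R] S) (P.Ring ⊗[R] Localization.Away f₀) :=
    locA.toRingHom.toAlgebra
  have hst : IsScalarTower P.Ring (P.Ring ⊗[R] S) (P.Ring ⊗[R] Localization.Away f₀) :=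
    .of_algebraMap_eq (by intro; simp [RingHom.algebraMap_toAlgebra, locA])
  have hloc0 := IsLocalization.tensorProduct_tensorProduct_right R P.Ring (Submonoid.powers f₀)
    (Localization.Away f₀) (by ext; simp [RingHom.algebraMap_toAlgebra, locA])
  have hloc : IsLocalization.Away ((1 : P.Ring) ⊗ₜ[R] f₀) (P.Ring ⊗[R] Localization.Away f₀) := by
    have : (Submonoid.powers f₀).map (Algebra.TensorProduct.includeRight (R := R) (A := P.Ring))
        = Submonoid.powers ((1 : P.Ring) ⊗ₜ[R] f₀) := by
      rw [Submonoid.map_powers]; rfl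
    rw [this] at hloc0
    exact hloc0
  let νA : P.Ring ⊗[R] Localization.Away f₀ →ₐ[R] Localization.Away f₀ :=
    Algebra.TensorProduct.productMap φ (AlgHom.id R _)
  let θ : P.Ring ⊗[R] P.Ring →ₐ[R] P.Ring ⊗[R] Localization.Away f₀ :=
    Algebra.TensorProduct.map (AlgHom.id R P.Ring) φ
  have hft : Algebra.EssFiniteType R P.Ring := inferInstance
  have hfu : Algebra.FormallyUnramified R P.Ring := inferInstance
  let e₀ := Algebra.FormallyUnramified.elem R P.Ring
  have hνθ : ∀ z, νA (θ z) = φ (Algebra.TensorProduct.lmul' R z) := by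
    intro z
    induction z using TensorProduct.induction_on with
    | zero => simp
    | tmul x y => simp [νA, θ]
    | add x y hx hy => simp only [map_add, hx, hy]
  have h1 : νA (θ e₀) = 1 := by
    rw [hνθ, Algebra.FormallyUnramified.lmul_elem, map_one]
  have hkey : ∀ r : P.Ring, θ e₀ * (r ⊗ₜ[R] (1 : Localization.Away f₀)) =
      θ e₀ * ((1 : P.Ring) ⊗ₜ[R] φ r) := by
    intro r
    have := congr(θ $(Algebra.FormallyUnramified.one_tmul_mul_elem (R := R) (S := P.Ring) r))
    rw [map_mul, map_mul] at this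
    simp only [θ, Algebra.TensorProduct.map_tmul, AlgHom.id_apply, map_one] at this
    rw [mul_comm, ← this, mul_comm]
  have hgen : ∀ z : P.Ring ⊗[R] Localization.Away f₀,
      θ e₀ * z = θ e₀ * ((1 : P.Ring) ⊗ₜ[R] νA z) := by
    intro z
    induction z using TensorProduct.induction_on with
    | zero => simp
    | tmul x y =>
      have : x ⊗ₜ[R] y = (x ⊗ₜ[R] (1 : Localization.Away f₀)) * ((1 : P.Ring) ⊗ₜ[R] y) := by
        simp
      rw [this, ← mul_assoc, hkey, mul_assoc]
      simp [νA]
    | add x y hx hy => simp only [mul_add, map_add, TensorProduct.tmul_add, hx, hy]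
  have h2 : ∀ w : P.Ring ⊗[R] S, νA.toRingHom (algebraMap _ _ w) = 0 →
      θ e₀ * algebraMap _ (P.Ring ⊗[R] Localization.Away f₀) w = 0 := by
    intro w hw
    rw [hgen]
    have hw' : νA (algebraMap _ _ w) = 0 := hw
    rw [hw', TensorProduct.tmul_zero, mul_zero]
  have hμ : Function.Surjective (νA.toRingHom.comp
      (algebraMap (P.Ring ⊗[R] S) (P.Ring ⊗[R] Localization.Away f₀))) := by
    intro y
    obtain ⟨r, rfl⟩ := hφ y
    refine ⟨r ⊗ₜ 1, ?_⟩
    simp [RingHom.algebraMap_toAlgebra, locA, νA]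
  obtain ⟨ε, hε1, hε2⟩ := exists_glue ((1 : P.Ring) ⊗ₜ[R] f₀) νA.toRingHom hμ (θ e₀) h1 h2
  -- the algebra structure on A
  let algA : Algebra P.Ring (Localization.Away f₀) := φ.toRingHom.toAlgebra
  have hstA : IsScalarTower R P.Ring (Localization.Away f₀) :=
    .of_algebraMap_eq (fun r => (φ.commutes r).symm)
  let μA : P.Ring ⊗[R] S →ₐ[P.Ring] Localization.Away f₀ :=
    Algebra.TensorProduct.lift (Algebra.ofId P.Ring _) (IsScalarTower.toAlgHom R S _)
      (fun _ _ => Commute.all _ _)
  have hμν : ∀ w, μA w = νA (algebraMap _ _ w) := by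
    intro w
    induction w using TensorProduct.induction_on with
    | zero => simp
    | tmul x y =>
      simp [μA, νA, RingHom.algebraMap_toAlgebra, locA, Algebra.ofId_apply]
    | add x y hx hy => simp only [map_add, hx, hy]
  have hμsurj : Function.Surjective μA := by
    intro y
    obtain ⟨w, hw⟩ := hμ y
    exact ⟨w, (hμν w).trans hw⟩
  have hbij := prod_bijective μA hμsurj ε ((hμν ε).trans hε1)
    (fun w hw => hε2 w ((hμν w).symm.trans hw))
  let e := AlgEquiv.ofBijective _ hbij
  -- the primes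
  have hdisj : Disjoint (Submonoid.powers f₀ : Set S) (q : Set S) :=
    (Ideal.disjoint_powers_iff_notMem_of_isPrime _).mpr hf₀
  have hQ : (q.map (algebraMap S (Localization.Away f₀))).IsPrime :=
    IsLocalization.isPrime_of_isPrime_disjoint (.powers f₀) _ _ ‹_› hdisj
  have hQq : (q.map (algebraMap S (Localization.Away f₀))).comap (algebraMap S _) = q :=
    IsLocalization.comap_map_of_isPrime_disjoint (.powers f₀) _ ‹_› hdisj
  have hmap : ((q.map (algebraMap S (Localization.Away f₀))).comap φ.toRingHom).map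
      (algebraMap P.Ring (Localization.Away f₀)) = q.map (algebraMap S (Localization.Away f₀)) :=
    Ideal.map_comap_of_surjective φ.toRingHom hφ _
  refine ⟨P.Ring, inferInstance, inferInstance, inferInstance,
    (q.map (algebraMap S (Localization.Away f₀))).comap φ.toRingHom, inferInstance, ⟨?_⟩,
    Localization.Away f₀, inferInstance, algA, _ ⧸ Ideal.span {ε}, inferInstance, inferInstance,
    e, hφ, ?_, ?_, ?_⟩
  · rw [Ideal.under, Ideal.under, Ideal.comap_comap]
    have : φ.toRingHom.comp (algebraMap R P.Ring) = algebraMap R (Localization.Away f₀) :=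
      φ.comp_algebraMap
    rw [this, IsScalarTower.algebraMap_eq R S (Localization.Away f₀), ← Ideal.comap_comap, hQq]
  · rw [hmap]; exact hQ
  · rw [hmap]; rfl
  · rw [hmap]
    have : ((RingHom.fst _ _).comp e.toRingHom).comp
        (Algebra.TensorProduct.includeRight : S →ₐ[R] P.Ring ⊗[R] S).toRingHom =
        algebraMap S (Localization.Away f₀) := by
      ext s
      simp [e, μA]
    rw [this, hQq]

end Groth.Agent.S9452
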