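import Groth.Statements.S9449
import Mathlib
import Groth.Agent.S9452

set_option autoImplicit false
universe u
open Unram

namespace Groth.Agent.S9449

section aux

open TensorProduct

/-- L1: the fibre rank is invariant under base change. -/
theorem finrank_fiber_baseChange {R : Type u} [CommRing R] (S : Type u) [CommRing S] [Algebra R S]
    (R₁ : Type u) [CommRing R₁] [Algebra R R₁] (p : Ideal R) [p.IsPrime] (p₁ : Ideal R₁)
    [p₁.IsPrime] [p₁.LiesOver p] :
    Module.finrank p₁.ResidueField (p₁.Fiber (R₁ ⊗[R] S)) =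
      Module.finrank p.ResidueField (p.Fiber S) := by
  let := Localization.AtPrime.algebraOfLiesOver p p₁
  let e : p₁.Fiber (R₁ ⊗[R] S) ≃ₐ[p₁.ResidueField]
      p₁.ResidueField ⊗[p.ResidueField] (p.Fiber S) :=
    (Algebra.TensorProduct.cancelBaseChange _ _ _ _ _).trans
      (Algebra.TensorProduct.cancelBaseChange _ _ _ _ _).symm
  rw [LinearEquiv.finrank_eq e.toLinearEquiv, Module.finrank_baseChange]

/-- L3 -/
theorem finrank_fiber_congr {R : Type u} [CommRing R] (p : Ideal R) [p.IsPrime]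
    {S S' : Type u} [CommRing S] [CommRing S'] [Algebra R S] [Algebra R S'] (e : S ≃ₐ[R] S') :
    Module.finrank p.ResidueField (p.Fiber S) = Module.finrank p.ResidueField (p.Fiber S') :=
  LinearEquiv.finrank_eq
    (TensorProduct.AlgebraTensorModule.congr (LinearEquiv.refl p.ResidueField p.ResidueField)
      e.toLinearEquiv)

/-- L2 -/
theorem finrank_fiber_prod {R : Type u} [CommRing R] (p : Ideal R) [p.IsPrime]
    (A B : Type u) [CommRing A] [CommRing B] [Algebra R A] [Algebra R B]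
    [Module.Finite p.ResidueField (p.Fiber A)] [Module.Finite p.ResidueField (p.Fiber B)] :
    Module.finrank p.ResidueField (p.Fiber (A × B)) =
      Module.finrank p.ResidueField (p.Fiber A) + Module.finrank p.ResidueField (p.Fiber B) := by
  rw [LinearEquiv.finrank_eq (TensorProduct.prodRight R p.ResidueField p.ResidueField A B),
    Module.finrank_prod]

/-- L4 -/
theorem finrank_fiber_pos {R : Type u} [CommRing R] (p : Ideal R) [p.IsPrime]
    (A : Type u) [CommRing A] [Algebra R A] [Module.Finite p.ResidueField (p.Fiber A)]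
    (q : Ideal A) [q.IsPrime] (hq : q.comap (algebraMap R A) = p) :
    0 < Module.finrank p.ResidueField (p.Fiber A) := by
  have hne : Nonempty (PrimeSpectrum (p.Fiber A)) := by
    refine ⟨PrimeSpectrum.preimageEquivFiber R A ⟨p, inferInstance⟩ ⟨⟨q, inferInstance⟩, ?_⟩⟩
    rw [Set.mem_preimage, Set.mem_singleton_iff]
    exact PrimeSpectrum.ext hq
  haveI : Nontrivial (p.Fiber A) := (PrimeSpectrum.nonempty_iff_nontrivial).mp hne
  exact Module.finrank_pos

/-- G1 -/
theorem map_isPrime_comap_eq {R A : Type*} [CommRing R] [CommRing A] (f : R →+* A)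
    (hf : Function.Surjective f) (P : Ideal R) [P.IsPrime] (hk : RingHom.ker f ≤ P) :
    (P.map f).IsPrime ∧ (P.map f).comap f = P := by
  refine ⟨Ideal.map_isPrime_of_surjective hf hk, ?_⟩
  rw [Ideal.comap_map_of_surjective f hf, ← RingHom.ker_eq_comap_bot]
  exact sup_eq_left.mpr hk

/-- G3: base change of a "good" quotient. -/
theorem ker_baseChange_le {R₁ R₂ A : Type u} [CommRing R₁] [CommRing R₂] [CommRing A]
    [Algebra R₁ R₂] [Algebra R₁ A] (hs : Function.Surjective (algebraMap R₁ A))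
    (p₁ : Ideal R₁) (p₂ : Ideal R₂) [p₂.LiesOver p₁]
    (hk : RingHom.ker (algebraMap R₁ A) ≤ p₁) :
    Function.Surjective (algebraMap R₂ (R₂ ⊗[R₁] A)) ∧
      RingHom.ker (algebraMap R₂ (R₂ ⊗[R₁] A)) ≤ p₂ := by
  constructor
  · intro x
    induction x using TensorProduct.induction_on with
    | zero => exact ⟨0, map_zero _⟩
    | tmul r a =>
      obtain ⟨s, rfl⟩ := hs a
      refine ⟨r * algebraMap R₁ R₂ s, ?_⟩
      rw [Algebra.TensorProduct.algebraMap_apply, Algebra.algebraMap_self, RingHom.id_apply,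
        Algebra.algebraMap_eq_smul_one (A := A) s, ← TensorProduct.smul_tmul, Algebra.smul_def,
        mul_comm]
    | add x y hx hy =>
      obtain ⟨x', rfl⟩ := hx
      obtain ⟨y', rfl⟩ := hy
      exact ⟨x' + y', map_add _ _ _⟩
  · intro r hr
    -- the map to R₂ ⧸ p₂
    have hcomap : p₁ = p₂.comap (algebraMap R₁ R₂) := Ideal.LiesOver.over
    let g₀ : R₁ →+* R₂ ⧸ p₂ := (Ideal.Quotient.mk p₂).comp (algebraMap R₁ R₂)
    have hg₀ : RingHom.ker (algebraMap R₁ A) ≤ RingHom.ker g₀ := by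
      intro x hx
      have hx' : x ∈ p₁ := hk hx
      rw [hcomap, Ideal.mem_comap] at hx'
      rw [RingHom.mem_ker, RingHom.comp_apply, Ideal.Quotient.eq_zero_iff_mem]
      exact hx'
    let g : A →+* R₂ ⧸ p₂ := RingHom.liftOfSurjective (algebraMap R₁ A) hs ⟨g₀, hg₀⟩
    have hg : ∀ x, g (algebraMap R₁ A x) = g₀ x := fun x =>
      RingHom.liftOfRightInverse_comp_apply _ _ _ ⟨g₀, hg₀⟩ x
    have hg' : ∀ x, g (algebraMap R₁ A x) = algebraMap R₁ (R₂ ⧸ p₂) x := by
      intro x
      rw [IsScalarTower.algebraMap_apply R₁ R₂ (R₂ ⧸ p₂)]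
      exact hg x
    let gA : A →ₐ[R₁] R₂ ⧸ p₂ := { toRingHom := g, commutes' := hg' }
    let ψ : R₂ ⊗[R₁] A →ₐ[R₂] R₂ ⧸ p₂ :=
      Algebra.TensorProduct.lift (Algebra.ofId R₂ (R₂ ⧸ p₂)) gA (fun _ _ => Commute.all _ _)
    have h1 : ψ (algebraMap R₂ (R₂ ⊗[R₁] A) r) = Ideal.Quotient.mk p₂ r := by
      rw [ψ.commutes]
      rfl
    rw [RingHom.mem_ker] at hr
    rw [hr, map_zero] at h1
    exact Ideal.Quotient.eq_zero_iff_mem.mp h1.symm

/-- G4: `Fin.consEquiv` as an algebra equivalence. -/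
noncomputable def consAlgEquiv (R : Type*) [CommRing R] {n : ℕ} (α : Fin (n + 1) → Type*)
    [∀ i, CommRing (α i)] [∀ i, Algebra R (α i)] :
    (α 0 × (∀ i : Fin n, α i.succ)) ≃ₐ[R] (∀ i, α i) :=
  { Fin.consEquiv α with
    map_mul' := fun x y => by
      funext i
      refine Fin.cases ?_ (fun j => ?_) i
      · rfl
      · rfl
    map_add' := fun x y => by
      funext i
      refine Fin.cases ?_ (fun j => ?_) i
      · rfl
      · rfl
    commutes' := fun r => by
      funext i
      refine Fin.cases ?_ (fun j => ?_) i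
      · rfl
      · rfl }

theorem prodAssocAlgEquiv (R X Y Z : Type*) [CommRing R] [CommRing X] [CommRing Y] [CommRing Z]
    [Algebra R X] [Algebra R Y] [Algebra R Z] : Nonempty ((X × (Y × Z)) ≃ₐ[R] ((X × Y) × Z)) :=
  ⟨{ (Equiv.prodAssoc X Y Z).symm with
      map_mul' := fun _ _ => rfl
      map_add' := fun _ _ => rfl
      commutes' := fun _ => rfl }⟩

theorem claim : ∀ (d : ℕ) (R : Type u) [CommRing R] (S : Type u) [CommRing S] [Algebra R S]
    [Algebra.Unramified R S] (p : Ideal R) [p.IsPrime],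
    Module.finrank p.ResidueField (p.Fiber S) = d →
    ∃ (R' : Type u) (_ : CommRing R') (_ : Algebra R R') (_ : Algebra.Etale R R') (p' : Ideal R')
      (_ : p'.IsPrime) (_ : p'.LiesOver p) (n : ℕ) (I : Fin n → Ideal R')
      (B : Type u) (_ : CommRing B) (_ : Algebra R' B),
      Nonempty ((R' ⊗[R] S) ≃ₐ[R'] ((∀ i, R' ⧸ I i) × B)) ∧ (∀ i, I i ≤ p') ∧
        ∀ (q : Ideal B) [q.IsPrime], q.comap (algebraMap R' B) ≠ p' := by
  intro d
  induction d using Nat.strong_induction_on with
  | _ d IH =>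
  intro R _ S _ _ _ p _ hd
  by_cases hq : ∃ q : Ideal S, q.IsPrime ∧ q.comap (algebraMap R S) = p
  · obtain ⟨q, hqp, hqc⟩ := hq
    haveI := hqp
    obtain ⟨R₁, _, _, _, p₁, _, hp₁, A, _, _, B₁, _, _, e, hsurj, hprime, hcomap, -⟩ :=
      Groth.Agent.S9452.result R S q
    haveI : p₁.LiesOver p := by
      have : q.under R = p := hqc
      rw [← this]
      exact hp₁
    haveI : Algebra.Unramified R₁ (A × B₁) := Algebra.Unramified.of_equiv e
    haveI : Algebra.Unramified R₁ B₁ :=
      ⟨Algebra.FormallyUnramified.of_surjective (AlgHom.snd R₁ A B₁) Prod.snd_surjective,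
        Algebra.FiniteType.of_surjective (AlgHom.snd R₁ A B₁) Prod.snd_surjective⟩
    haveI : Module.Finite R₁ A := Module.Finite.of_surjective (Algebra.linearMap R₁ A) hsurj
    have hlt : Module.finrank p₁.ResidueField (p₁.Fiber B₁) < d := by
      have h1 := finrank_fiber_baseChange S R₁ p p₁
      have h2 := finrank_fiber_congr p₁ e
      have h3 := finrank_fiber_prod p₁ A B₁
      have h4 := finrank_fiber_pos p₁ A (p₁.map (algebraMap R₁ A)) hcomap
      omega
    obtain ⟨R₂, _, _, _, p₂, _, _, n, I, B, _, _, ⟨e₂⟩, hI, hB⟩ := IH _ hlt R₁ B₁ p₁ rfl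
    letI algRR₂ : Algebra R R₂ := ((algebraMap R₁ R₂).comp (algebraMap R R₁)).toAlgebra
    haveI towRR₁R₂ : IsScalarTower R R₁ R₂ := IsScalarTower.of_algebraMap_eq' rfl
    haveI etRR₂ : Algebra.Etale R R₂ := Algebra.Etale.comp R R₁ R₂
    haveI liesp₂ : p₂.LiesOver p := Ideal.LiesOver.trans p₂ p₁ p
    have hk : RingHom.ker (algebraMap R₁ A) ≤ p₁ := by
      intro x hx
      rw [← hcomap, Ideal.mem_comap, RingHom.mem_ker.mp hx]
      exact Ideal.zero_mem _
    obtain ⟨hsX, hkX⟩ := ker_baseChange_le hsurj p₁ p₂ hk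
    set I₀ : Ideal R₂ := RingHom.ker (Algebra.ofId R₂ (R₂ ⊗[R₁] A)) with hI₀
    have hsX' : Function.Surjective (Algebra.ofId R₂ (R₂ ⊗[R₁] A)) := hsX
    let eX : (R₂ ⊗[R₁] A) ≃ₐ[R₂] R₂ ⧸ I₀ :=
      (Ideal.quotientKerAlgEquivOfSurjective hsX').symm
    let I' : Fin (n + 1) → Ideal R₂ := Fin.cons I₀ I
    obtain ⟨eassoc⟩ := prodAssocAlgEquiv R₂ (R₂ ⧸ I₀) (∀ i, R₂ ⧸ I i) B
    let e3 : ((R₂ ⧸ I₀) × (∀ i, R₂ ⧸ I i)) ≃ₐ[R₂] (∀ i, R₂ ⧸ I' i) :=
      consAlgEquiv R₂ (fun i => R₂ ⧸ I' i)
    refine ⟨R₂, inferInstance, algRR₂, etRR₂, p₂, inferInstance, liesp₂, n + 1, I', B,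
      inferInstance, inferInstance, ⟨?_⟩, ?_, hB⟩
    · exact (((((Algebra.TensorProduct.cancelBaseChange R R₁ R₂ R₂ S).symm.trans
        (Algebra.TensorProduct.congr AlgEquiv.refl e)).trans
        (Algebra.TensorProduct.prodRight R₁ R₂ R₂ A B₁)).trans
        (AlgEquiv.prodCongr eX e₂)).trans eassoc).trans (AlgEquiv.prodCongr e3 AlgEquiv.refl)
    · intro i
      refine Fin.cases ?_ (fun j => ?_) i
      · exact hkX
      · exact hI j
  · refine ⟨R, inferInstance, inferInstance, inferInstance, p, inferInstance, ⟨?_⟩, 0,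
      fun i => i.elim0, S, inferInstance, inferInstance, ?_, fun i => i.elim0, ?_⟩
    · rw [Ideal.under_def, Algebra.algebraMap_self, Ideal.comap_id]
    · let f : S →ₐ[R] ∀ i : Fin 0, R ⧸ (i.elim0 : Ideal R) := AlgHom.pi (fun i => i.elim0)
      have hbij : Function.Bijective (f.prod (AlgHom.id R S)) := by
        constructor
        · intro x y hxy
          have := congrArg Prod.snd hxy
          simpa using this
        · rintro ⟨x, s⟩
          refine ⟨s, ?_⟩
          refine Prod.ext ?_ rfl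
          funext i
          exact i.elim0
      exact ⟨(Algebra.TensorProduct.lid R S).trans (AlgEquiv.ofBijective _ hbij)⟩
    · intro q hqp hqc
      exact hq ⟨q, hqp, hqc⟩

end aux

open TensorProduct in
/-- For an unramified ring map R → S and a prime p of R there exist an étale R-algebra R', a prime p' of
R' lying over p and a decomposition R' ⊗_R S ≅ A_1 × ⋯ × A_n × B of R'-algebras with every R' → A_i
surjective, p'A_i a prime ideal of A_i whose preimage in R' is p', and no prime of B lying over p'. -/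
theorem result (R : Type u) [CommRing R]
    (S : Type u) [CommRing S] [Algebra R S] [Algebra.Unramified R S] (p : Ideal R) [p.IsPrime] :
    ∃ (R' : Type u) (_ : CommRing R') (_ : Algebra R R') (_ : Algebra.Etale R R') (p' : Ideal R')
      (_ : p'.IsPrime) (_ : p'.LiesOver p) (n : ℕ) (A : Fin n → Type u) (_ : ∀ i, CommRing (A i))
      (_ : ∀ i, Algebra R' (A i)) (B : Type u) (_ : CommRing B) (_ : Algebra R' B),
      Nonempty ((R' ⊗[R] S) ≃ₐ[R'] ((∀ i, A i) × B)) ∧
        (∀ i, Function.Surjective (algebraMap R' (A i)) ∧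
          (p'.map (algebraMap R' (A i))).IsPrime ∧
          (p'.map (algebraMap R' (A i))).comap (algebraMap R' (A i)) = p') ∧
        ∀ (q : Ideal B) [q.IsPrime], q.comap (algebraMap R' B) ≠ p' := by
  obtain ⟨R', _, _, _, p', _, _, n, I, B, _, _, ⟨e⟩, hI, hB⟩ := claim _ R S p rfl
  refine ⟨R', inferInstance, inferInstance, inferInstance, p', inferInstance, inferInstance, n,
    fun i => R' ⧸ I i, fun i => inferInstance, fun i => inferInstance, B, inferInstance,
    inferInstance, ⟨e⟩, fun i => ?_, hB⟩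
  have hs : Function.Surjective (algebraMap R' (R' ⧸ I i)) := Ideal.Quotient.mk_surjective
  have hk : RingHom.ker (algebraMap R' (R' ⧸ I i)) ≤ p' := by
    rw [Ideal.Quotient.algebraMap_eq, Ideal.mk_ker]
    exact hI i
  obtain ⟨h1, h2⟩ := map_isPrime_comap_eq _ hs p' hk
  exact ⟨hs, h1, h2⟩

end Groth.Agent.S9449
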