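import Groth.Statements.S9450
import Groth.Agent.LibCot29
import Mathlib.RingTheory.Smooth.Basic
-- import your own Groth.Agent.* helpers here

set_option autoImplicit false
universe u
open CAlg

namespace Groth.Agent.S9450


open scoped TensorProduct

section

variable (A : Type u) [CommRing A]
    (B : Type u) [CommRing B] [Algebra A B] (C : Type u) [CommRing C]
    [Algebra B C] [Algebra A C] [IsScalarTower A B C]

/-- the map `A / I² → C` -/
noncomputable def gq : A ⧸ (RingHom.ker (algebraMap A C)) ^ 2 →ₐ[A] C :=
  Ideal.Quotient.liftₐ ((RingHom.ker (algebraMap A C)) ^ 2) (Algebra.ofId A C) (fun a ha => by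
    have h1 : a ∈ RingHom.ker (algebraMap A C) := Ideal.pow_le_self two_ne_zero ha
    exact RingHom.mem_ker.1 h1)

lemma gq_mk (a : A) : gq A C (Ideal.Quotient.mk _ a) = algebraMap A C a := rfl

lemma gq_surjective (hC : Function.Surjective (algebraMap A C)) :
    Function.Surjective (gq A C) := by
  intro c
  obtain ⟨a, rfl⟩ := hC c
  exact ⟨Ideal.Quotient.mk _ a, rfl⟩

lemma ker_gq : RingHom.ker (gq A C : A ⧸ (RingHom.ker (algebraMap A C)) ^ 2 →+* C) =
    (RingHom.ker (algebraMap A C)).cotangentIdeal := by
  ext y
  obtain ⟨a, rfl⟩ := Ideal.Quotient.mk_surjective y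
  rw [RingHom.mem_ker, Ideal.mk_mem_cotangentIdeal, RingHom.mem_ker]
  rfl

lemma ker_gq_nilpotent :
    IsNilpotent (RingHom.ker (gq A C : A ⧸ (RingHom.ker (algebraMap A C)) ^ 2 →+* C)) := by
  rw [ker_gq]
  exact ⟨2, Ideal.cotangentIdeal_square _⟩

variable [Algebra.FormallySmooth A B] (hC : Function.Surjective (algebraMap A C))

/-- the lift `B → A / I²` -/
noncomputable def tauL : B →ₐ[A] A ⧸ (RingHom.ker (algebraMap A C)) ^ 2 :=
  Algebra.FormallySmooth.liftOfSurjective (IsScalarTower.toAlgHom A B C) (gq A C)
    (gq_surjective A C hC) (ker_gq_nilpotent A C)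

lemma gq_tauL (b : B) : gq A C (tauL A B C hC b) = algebraMap B C b :=
  Algebra.FormallySmooth.liftOfSurjective_apply _ _ _ _ b

lemma tauL_mem (x : B) (hx : x ∈ RingHom.ker (algebraMap B C)) :
    tauL A B C hC x ∈ (RingHom.ker (algebraMap A C)).cotangentIdeal := by
  rw [← ker_gq, RingHom.mem_ker]
  change gq A C (tauL A B C hC x) = 0
  rw [gq_tauL]
  exact RingHom.mem_ker.1 hx

/-- the map `J → I/I²` -/
noncomputable def fJ : ↥(RingHom.ker (algebraMap B C)) →ₗ[A]
    (RingHom.ker (algebraMap A C)).Cotangent where
  toFun x := (RingHom.ker (algebraMap A C)).cotangentEquivIdeal.symm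
    ⟨tauL A B C hC x, tauL_mem A B C hC x x.2⟩
  map_add' x y := by
    rw [← map_add]
    congr 1
    apply Subtype.ext
    change tauL A B C hC ((x : B) + (y : B)) = _
    rw [map_add]
    rfl
  map_smul' r x := by
    rw [RingHom.id_apply, ← map_smul]
    congr 1
    apply Subtype.ext
    change tauL A B C hC (r • (x : B)) = r • tauL A B C hC (x : B)
    rw [map_smul]

lemma fJ_mul (x y : ↥(RingHom.ker (algebraMap B C))) : fJ A B C hC (x * y) = 0 := by
  change (RingHom.ker (algebraMap A C)).cotangentEquivIdeal.symm _ = 0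
  rw [LinearEquiv.map_eq_zero_iff]
  apply Subtype.ext
  change tauL A B C hC ((x : B) * (y : B)) = 0
  rw [map_mul]
  have h1 := Ideal.mul_mem_mul (tauL_mem A B C hC x x.2) (tauL_mem A B C hC y y.2)
  rw [← pow_two, Ideal.cotangentIdeal_square] at h1
  exact h1

/-- the retraction `J/J² → I/I²` -/
noncomputable def retr : (RingHom.ker (algebraMap B C)).Cotangent →ₗ[A]
    (RingHom.ker (algebraMap A C)).Cotangent :=
  Ideal.Cotangent.lift (fJ A B C hC) (fJ_mul A B C hC)

lemma retr_comp (h : RingHom.ker (algebraMap A C) ≤
    (RingHom.ker (algebraMap B C)).comap (Algebra.ofId A B)) :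
    retr A B C hC ∘ₗ (Ideal.mapCotangent (RingHom.ker (algebraMap A C))
      (RingHom.ker (algebraMap B C)) (Algebra.ofId A B) h) = LinearMap.id := by
  refine LinearMap.ext fun z => ?_
  obtain ⟨⟨a, ha⟩, rfl⟩ := Ideal.toCotangent_surjective _ z
  rw [LinearMap.comp_apply, Ideal.mapCotangent_toCotangent, LinearMap.id_apply]
  unfold retr
  rw [Ideal.Cotangent.lift_toCotangent]
  change (RingHom.ker (algebraMap A C)).cotangentEquivIdeal.symm _ = _
  rw [← Ideal.cotangentEquivIdeal_symm_apply _ a ha]
  congr 1
  apply Subtype.ext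
  change tauL A B C hC (algebraMap A B a) = _
  rw [AlgHom.commutes]
  rfl

end



/-- For ring maps A → B → C with A → C surjective and A → B formally smooth, writing I = ker(A → C) and
J = ker(B → C), the sequence 0 → I/I² → J/J² → C ⊗_B Ω_{B/A} → 0 is split exact: the first map is
injective and admits an A-linear retraction, its range is the kernel of the second map (class of x ↦
1 ⊗ dx), and the second map is surjective. -/
theorem result (A : Type u) [CommRing A]
    (B : Type u) [CommRing B] [Algebra A B] [Algebra.FormallySmooth A B] (C : Type u) [CommRing C]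
    [Algebra B C] [Algebra A C] [IsScalarTower A B C] (hC : Function.Surjective (algebraMap A C)) :
    Function.Injective (Ideal.mapCotangent (RingHom.ker (algebraMap A C))
        (RingHom.ker (algebraMap B C)) (Algebra.ofId A B)
        (le_of_eq (congrArg RingHom.ker (IsScalarTower.algebraMap_eq A B C)))) ∧
      (∃ r : (RingHom.ker (algebraMap B C)).Cotangent →ₗ[A] (RingHom.ker (algebraMap A C)).Cotangent,
        r ∘ₗ (Ideal.mapCotangent (RingHom.ker (algebraMap A C)) (RingHom.ker (algebraMap B C))
          (Algebra.ofId A B)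
          (le_of_eq (congrArg RingHom.ker (IsScalarTower.algebraMap_eq A B C)))) = LinearMap.id) ∧
      LinearMap.range (Ideal.mapCotangent (RingHom.ker (algebraMap A C))
          (RingHom.ker (algebraMap B C)) (Algebra.ofId A B)
          (le_of_eq (congrArg RingHom.ker (IsScalarTower.algebraMap_eq A B C)))) =
        LinearMap.ker ((KaehlerDifferential.kerCotangentToTensor A B C).restrictScalars A) ∧
      Function.Surjective (KaehlerDifferential.kerCotangentToTensor A B C) := by
  have hretr := retr_comp A B C hC
    (le_of_eq (congrArg RingHom.ker (IsScalarTower.algebraMap_eq A B C)))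
  have hex := Groth.Agent.LibCot29.exact_mapCotangent_kerCotangentToTensor A B C
    (le_of_eq (congrArg RingHom.ker (IsScalarTower.algebraMap_eq A B C))) hC
  refine ⟨?_, ⟨retr A B C hC, hretr⟩, ?_, ?_⟩
  · exact Function.LeftInverse.injective (g := retr A B C hC) (fun z => LinearMap.congr_fun hretr z)
  · ext y
    rw [LinearMap.mem_range, LinearMap.mem_ker, LinearMap.restrictScalars_apply]
    exact (hex y).symm
  · have hBC : Function.Surjective (algebraMap B C) :=
      Groth.Agent.LibCot29.surjective_algebraMap_BC A B C hC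
    have h1 := KaehlerDifferential.range_kerCotangentToTensor A B C hBC
    have h2 : Subsingleton (Ω[C⁄A]) := KaehlerDifferential.subsingleton_of_surjective A C hC
    intro t
    have h3 : t ∈ (LinearMap.ker (KaehlerDifferential.mapBaseChange A B C)).restrictScalars B := by
      rw [Submodule.restrictScalars_mem, LinearMap.mem_ker]
      exact Subsingleton.elim _ _
    rw [← h1] at h3
    exact h3

end Groth.Agent.S9450
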