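import Groth.Statements.S9454
import Mathlib
import Groth.Agent.S9453

set_option autoImplicit false
universe u
open CAlg

namespace Groth.Agent.S9454

section helpers
open TensorProduct

/-- A finite flat cover over which `S` acquires sections Zariski-locally, for primes in `U`. -/
def Good (R S : Type u) [CommRing R] [CommRing S] [Algebra R S] (U : Set (PrimeSpectrum S)) : Prop :=
  ∃ (S' : Type u) (_ : CommRing S') (_ : Algebra R S'),
    Module.FinitePresentation R S' ∧ Module.FaithfullyFlat R S' ∧
      ∀ q ∈ U, ∀ (q' : Ideal S') [q'.IsPrime], q'.under R = q.asIdeal.under R →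
        ∃ (g' : S') (_ : g' ∉ q'), Nonempty (S →ₐ[R] Localization.Away g')

variable {R S : Type u} [CommRing R] [CommRing S] [Algebra R S]

theorem Good.mono {U V : Set (PrimeSpectrum S)} (h : U ⊆ V) (hV : Good R S V) : Good R S U := by
  obtain ⟨S', _, _, h1, h2, h3⟩ := hV
  exact ⟨S', _, _, h1, h2, fun q hq q' _ hqq' => h3 q (h hq) q' hqq'⟩

theorem good_empty : Good R S (∅ : Set (PrimeSpectrum S)) :=
  ⟨R, inferInstance, inferInstance, inferInstance, inferInstance, fun _ hq => hq.elim⟩

theorem good_union {U V : Set (PrimeSpectrum S)} (hU : Good R S U) (hV : Good R S V) :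
    Good R S (U ∪ V) := by
  obtain ⟨A, _, _, hA1, hA2, hA3⟩ := hU
  obtain ⟨B, _, _, hB1, hB2, hB3⟩ := hV
  refine ⟨A ⊗[R] B, inferInstance, inferInstance, ?_, ?_, ?_⟩
  · exact Module.FinitePresentation.trans (R := R) (M := A ⊗[R] B) A
  · exact Module.FaithfullyFlat.trans R A (A ⊗[R] B)
  · rintro q (hq | hq) q' _ hqq'
    · let q₁ : Ideal A := q'.comap (Algebra.TensorProduct.includeLeft : A →ₐ[R] A ⊗[R] B)
      have hq₁ : q₁.IsPrime := Ideal.comap_isPrime _ _
      have h1 : q₁.under R = q.asIdeal.under R := by
        rw [← hqq']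
        ext r
        simp only [Ideal.under, Ideal.mem_comap, q₁]
        rw [AlgHom.commutes]
      obtain ⟨g, hg, ⟨ψ⟩⟩ := hA3 q hq q₁ h1
      refine ⟨Algebra.TensorProduct.includeLeft g, hg, ⟨?_⟩⟩
      exact (Localization.awayMapₐ (Algebra.TensorProduct.includeLeft : A →ₐ[R] A ⊗[R] B) g).comp ψ
    · let q₁ : Ideal B := q'.comap (Algebra.TensorProduct.includeRight : B →ₐ[R] A ⊗[R] B)
      have hq₁ : q₁.IsPrime := Ideal.comap_isPrime _ _
      have h1 : q₁.under R = q.asIdeal.under R := by
        rw [← hqq']
        ext r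
        simp only [Ideal.under, Ideal.mem_comap, q₁]
        rw [AlgHom.commutes]
      obtain ⟨g, hg, ⟨ψ⟩⟩ := hB3 q hq q₁ h1
      refine ⟨Algebra.TensorProduct.includeRight g, hg, ⟨?_⟩⟩
      exact (Localization.awayMapₐ (Algebra.TensorProduct.includeRight : B →ₐ[R] A ⊗[R] B) g).comp ψ

theorem good_basicOpen (f : S) [Algebra.IsStandardEtale R (Localization.Away f)] :
    Good R S (PrimeSpectrum.basicOpen f : Set (PrimeSpectrum S)) := by
  obtain ⟨S', _, _, hfin, hfp, hflat, hsurj, hmain⟩ :=
    Groth.Agent.S9453.result R (Localization.Away f)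
  have hff : Module.FaithfullyFlat R S' := Module.FaithfullyFlat.of_comap_surjective hsurj
  have hmfp : Module.FinitePresentation R S' :=
    Module.FinitePresentation.of_finite_of_finitePresentation R S'
  refine ⟨S', inferInstance, inferInstance, hmfp, hff, ?_⟩
  intro q hq q' _ hqq'
  have hfq : f ∉ q.asIdeal := hq
  have hdisj : Disjoint (Submonoid.powers f : Set S) (q.asIdeal : Set S) :=
    (Ideal.disjoint_powers_iff_notMem_of_isPrime _).mpr hfq
  let q₁ : Ideal (Localization.Away f) := q.asIdeal.map (algebraMap S (Localization.Away f))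
  have hq₁ : q₁.IsPrime :=
    IsLocalization.isPrime_of_isPrime_disjoint (Submonoid.powers f) _ _ q.isPrime hdisj
  have hcomap : q₁.comap (algebraMap S (Localization.Away f)) = q.asIdeal :=
    IsLocalization.under_map_of_isPrime_disjoint (Submonoid.powers f) _ q.isPrime hdisj
  have h1 : q'.under R = q₁.under R := by
    rw [hqq', ← hcomap]
    ext r
    simp only [Ideal.under, Ideal.mem_comap]
    rw [← IsScalarTower.algebraMap_apply R S (Localization.Away f)]
  obtain ⟨g', hg', φ, -⟩ := hmain q₁ q' h1
  exact ⟨g', hg', ⟨φ.comp (IsScalarTower.toAlgHom R S (Localization.Away f))⟩⟩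

theorem good_univ [Algebra.Etale R S] : Good R S (Set.univ : Set (PrimeSpectrum S)) := by
  classical
  have hex : ∀ x : PrimeSpectrum S, ∃ f : S, f ∉ x.asIdeal ∧
      Algebra.IsStandardEtale R (Localization.Away f) := by
    intro x
    have : Algebra.IsEtaleAt R x.asIdeal := by
      have : Algebra.FormallyEtale S (Localization.AtPrime x.asIdeal) :=
        Algebra.FormallyEtale.of_isLocalization x.asIdeal.primeCompl
      exact Algebra.FormallyEtale.comp R S (Localization.AtPrime x.asIdeal)
    exact Algebra.IsEtaleAt.exists_isStandardEtale (R := R) x.asIdeal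
  choose f hf1 hf2 using hex
  have hcover : (Set.univ : Set (PrimeSpectrum S)) ⊆
      ⋃ x : PrimeSpectrum S, (PrimeSpectrum.basicOpen (f x) : Set (PrimeSpectrum S)) := by
    intro x _
    exact Set.mem_iUnion.mpr ⟨x, hf1 x⟩
  obtain ⟨t, ht⟩ := isCompact_univ.elim_finite_subcover
    (fun x : PrimeSpectrum S => (PrimeSpectrum.basicOpen (f x) : Set (PrimeSpectrum S)))
    (fun x => (PrimeSpectrum.basicOpen (f x)).isOpen) hcover
  refine Good.mono ht ?_
  clear ht
  induction t using Finset.induction_on with
  | empty => simpa using good_empty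
  | insert a t _ ih =>
    rw [Finset.set_biUnion_insert]
    have := hf2 a
    exact good_union (good_basicOpen (f a)) ih


end helpers

/-- For an étale ring map R → S which is surjective on spectra there is a finite, finitely presented,
flat R-algebra S' with Spec S' → Spec R surjective such that, Zariski locally on S', the structure
map factors through S: every prime q' of S' has some g' ∉ q' and an R-algebra map S → S'_{g'}. -/
theorem result (R : Type u) [CommRing R]
    (S : Type u) [CommRing S] [Algebra R S] [Algebra.Etale R S]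
    (hs : Function.Surjective (PrimeSpectrum.comap (algebraMap R S))) :
    ∃ (S' : Type u) (_ : CommRing S') (_ : Algebra R S'),
      Module.Finite R S' ∧ Algebra.FinitePresentation R S' ∧ Module.Flat R S' ∧
        Function.Surjective (PrimeSpectrum.comap (algebraMap R S')) ∧
        ∀ (q' : Ideal S') [q'.IsPrime], ∃ (g' : S') (_ : g' ∉ q'),
          Nonempty (S →ₐ[R] Localization.Away g') := by
  obtain ⟨S', _, _, hfp, hff, hmain⟩ := good_univ (R := R) (S := S)
  refine ⟨S', inferInstance, inferInstance, inferInstance, inferInstance, inferInstance,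
    PrimeSpectrum.comap_surjective_of_faithfullyFlat, ?_⟩
  intro q' _
  obtain ⟨q, hq⟩ := hs ⟨q'.under R, inferInstance⟩
  refine hmain q (Set.mem_univ _) q' ?_
  have := congrArg PrimeSpectrum.asIdeal hq
  exact this.symm

end Groth.Agent.S9454
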