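import Groth.Statements.S9456
import Groth.Agent.Lib.Helper3.FlatDescQ

set_option autoImplicit false
universe u
open CAlg

namespace Groth.Agent.S9456

/-- Let R → S be of finite presentation and M a finitely presented S-module which is flat over R. Then
the triple descends to a finite type ℤ-algebra: there are R₀ of finite type over ℤ with R₀ → R, a
finite type R₀-algebra S₀ with a compatible map S₀ → S making S the base change R ⊗_{R₀} S₀, and a
finite S₀-module M₀ flat over R₀ with an S₀-linear map M₀ → M making M the base change S ⊗_{S₀} M₀. -/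
theorem result (R : Type u) [CommRing R]
    (S : Type u) [CommRing S] [Algebra R S] [Algebra.FinitePresentation R S] (M : Type u)
    [AddCommGroup M] [Module S M] [Module R M] [IsScalarTower R S M]
    [Module.FinitePresentation S M] [Module.Flat R M] :
    ∃ (R₀ : Type u) (_ : CommRing R₀) (_ : Algebra R₀ R) (S₀ : Type u) (_ : CommRing S₀)
      (_ : Algebra R₀ S₀) (_ : Algebra S₀ S) (_ : Algebra R₀ S) (_ : IsScalarTower R₀ R S)
      (_ : IsScalarTower R₀ S₀ S) (M₀ : Type u) (_ : AddCommGroup M₀) (_ : Module S₀ M₀)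
      (_ : Module R₀ M₀) (_ : IsScalarTower R₀ S₀ M₀) (_ : Module S₀ M) (_ : IsScalarTower S₀ S M)
      (f : M₀ →ₗ[S₀] M),
      Algebra.FiniteType ℤ R₀ ∧ Algebra.FiniteType R₀ S₀ ∧ Module.Finite S₀ M₀ ∧ Module.Flat R₀ M₀ ∧
        Algebra.IsPushout R₀ R S₀ S ∧ IsBaseChange S f := by
  obtain ⟨A₀, iA₀, algA, algAS, towAS, hft, -, -, B₀, iB₀, algAB, algB, tow, hfp, hpo, -, M₀, iM₀,
    modA, modB, towM, hfin, hflat, ⟨ε⟩⟩ :=
    Groth.Agent.Lib.helper3.FlatDesc.exists_fg_model_flat_module (A := R) (B := S) (M := M) ∅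
  letI modBM : Module B₀ M := Module.compHom M (algebraMap B₀ S)
  haveI towBM : IsScalarTower B₀ S M := IsScalarTower.of_algebraMap_smul (fun _ _ => rfl)
  let f : M₀ →ₗ[B₀] M :=
    { toFun := fun m => ε ((1 : S) ⊗ₜ[B₀] m)
      map_add' := fun x y => by rw [TensorProduct.tmul_add, map_add]
      map_smul' := fun b m => by
        simp only [RingHom.id_apply]
        rw [TensorProduct.tmul_smul, ← algebraMap_smul S b ((1 : S) ⊗ₜ[B₀] m), map_smul]
        rfl }
  haveI : Algebra.FiniteType A₀ B₀ := inferInstance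
  exact ⟨A₀, iA₀, algA, B₀, iB₀, algAB, algB, algAS, towAS, tow, M₀, iM₀, modB, modA, towM, modBM,
    towBM, f, hft, inferInstance, hfin, hflat, hpo, IsBaseChange.of_equiv ε (fun x => rfl)⟩

end Groth.Agent.S9456
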