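import Groth.Statements.S9457
import Mathlib

set_option autoImplicit false
universe u
open CAlg

namespace Groth.Agent.S9457

section aux
open TensorProduct


/-- isolated primes in the fibre (order-theoretic) -/
def isoSet {R : Type*} [CommRing R] (S : Type*) [CommRing S] [Algebra R S] (p : Ideal R) :
    Set (p.primesOver S) := {q | IsMin q ∧ IsMax q}

theorem quasiFiniteAt_iff_mem_isoSet {R S : Type*} [CommRing R] [CommRing S] [Algebra R S]
    [Algebra.FiniteType R S] (p : Ideal R) [p.IsPrime] (q : p.primesOver S) :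
    (haveI := q.2.1; Algebra.QuasiFiniteAt R q.1) ↔ q ∈ isoSet S p := by
  haveI := q.2.1
  haveI := q.2.2
  let G := PrimeSpectrum.primesOverOrderIsoFiber R S p
  let x := G q
  have hx : x.asIdeal.comap Algebra.TensorProduct.includeRight.toRingHom = q.1 :=
    congr($(G.symm_apply_apply q).1)
  have : IsNoetherianRing (p.Fiber S) := Algebra.FiniteType.isNoetherianRing p.ResidueField _
  have : IsJacobsonRing (p.Fiber S) := isJacobsonRing_of_finiteType (A := p.ResidueField)
  have h1 : Algebra.QuasiFiniteAt R q.1 ↔ Algebra.QuasiFiniteAt p.ResidueField x.asIdeal := by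
    constructor
    · intro h; exact .baseChange q.1 _ hx.symm
    · intro h; exact .of_quasiFiniteAt_residueField p q.1 x.asIdeal hx
  have h2 : Algebra.QuasiFiniteAt p.ResidueField x.asIdeal ↔ IsOpen {x} :=
    ⟨fun h => (Algebra.QuasiFiniteAt.isClopen_singleton (R := p.ResidueField) x).isOpen,
      fun h => .of_isOpen_singleton x h⟩
  have h3 : IsOpen {x} ↔ IsClosed {x} ∧ StableUnderGeneralization {x} :=
    (PrimeSpectrum.isOpen_singleton_tfae_of_isNoetherian_of_isJacobsonRing x).out 0 2
  rw [h1, h2, h3, PrimeSpectrum.isClosed_singleton_iff_isMaximal, ← PrimeSpectrum.isMax_iff,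
    PrimeSpectrum.stableUnderGeneralization_singleton, ← PrimeSpectrum.isMin_iff]
  rw [isoSet, Set.mem_setOf_eq, ← G.isMin_apply, ← G.isMax_apply]
  exact and_comm

theorem isoSet_finite {R S : Type*} [CommRing R] [CommRing S] [Algebra R S]
    [Algebra.FiniteType R S] (p : Ideal R) [p.IsPrime] : (isoSet S p).Finite := by
  let G := PrimeSpectrum.primesOverOrderIsoFiber R S p
  have : IsNoetherianRing (p.Fiber S) := Algebra.FiniteType.isNoetherianRing p.ResidueField _
  have hfin := PrimeSpectrum.finite_setOfPred_isMin (p.Fiber S)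
  refine (hfin.preimage G.injective.injOn).subset ?_
  intro q hq
  exact (G.isMin_apply).mpr hq.1

theorem mem_isoSet_orderIso {R R' S T : Type*} [CommRing R] [CommRing R'] [CommRing S] [CommRing T]
    [Algebra R S] [Algebra R' T] (p : Ideal R) (P : Ideal R')
    (F : P.primesOver T ≃o p.primesOver S) (x : P.primesOver T) :
    F x ∈ isoSet S p ↔ x ∈ isoSet T P := by
  simp only [isoSet, Set.mem_ofPred_eq, F.isMin_apply, F.isMax_apply]

theorem ncard_isoSet_orderIso {R R' S T : Type*} [CommRing R] [CommRing R'] [CommRing S]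
    [CommRing T]
    [Algebra R S] [Algebra R' T] (p : Ideal R) (P : Ideal R')
    (F : P.primesOver T ≃o p.primesOver S) :
    (isoSet S p).ncard = (isoSet T P).ncard := by
  have : isoSet S p = F '' (isoSet T P) := by
    ext y
    constructor
    · intro hy
      refine ⟨F.symm y, ?_, F.apply_symm_apply y⟩
      rw [← mem_isoSet_orderIso p P F]
      simpa using hy
    · rintro ⟨x, hx, rfl⟩
      exact (mem_isoSet_orderIso p P F x).mpr hx
  rw [this, Set.ncard_image_of_injective _ F.injective]

theorem ncard_isoSet_quotient_lt {R T : Type*} [CommRing R] [CommRing T] [Algebra R T]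
    (P : Ideal R) (e : T) (he : IsIdempotentElem e) (P' : P.primesOver T)
    (hP' : P' ∈ isoSet T P) (heP' : e ∉ P'.1) (hfin : (isoSet T P).Finite) :
    (isoSet (T ⧸ Ideal.span {e}) P).ncard < (isoSet T P).ncard := by
  let f : T →ₐ[R] T ⧸ Ideal.span {e} := Ideal.Quotient.mkₐ R (Ideal.span {e})
  have hf : Function.Surjective f := Ideal.Quotient.mkₐ_surjective R _
  let ι : P.primesOver (T ⧸ Ideal.span {e}) → P.primesOver T := fun x =>
    haveI := x.2.1
    haveI := x.2.2
    ⟨x.1.comap f, inferInstance, inferInstanceAs ((x.1.comap f).LiesOver P)⟩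
  have hιinj : Function.Injective ι := by
    intro x y hxy
    have : x.1.comap f = y.1.comap f := congrArg Subtype.val hxy
    exact Subtype.ext (Ideal.comap_injective_of_surjective _ hf this)
  have hιle : ∀ x y, ι x ≤ ι y ↔ x ≤ y := by
    intro x y
    exact Ideal.comap_le_comap_iff_of_surjective f hf x.1 y.1
  have hemem : ∀ x, e ∈ (ι x).1 := by
    intro x
    change f e ∈ x.1
    have : f e = 0 := by
      simp [f, Ideal.Quotient.eq_zero_iff_mem, Ideal.mem_span_singleton_self]
    rw [this]; exact zero_mem _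
  have hrange : ∀ y : P.primesOver T, e ∈ y.1 → ∃ x, ι x = y := by
    intro y hy
    haveI := y.2.1
    haveI := y.2.2
    have hker : RingHom.ker f ≤ y.1 := by
      have : RingHom.ker f = Ideal.span {e} := Ideal.Quotient.mkₐ_ker R _
      rw [this, Ideal.span_le, Set.singleton_subset_iff]
      exact hy
    have hcm : (y.1.map f).comap f = y.1 := by
      rw [Ideal.comap_map_of_surjective _ hf]
      simpa [← RingHom.ker_eq_comap_bot] using hker
    have h1 : (y.1.map f).IsPrime := Ideal.map_isPrime_of_surjective hf hker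
    have h2 : (y.1.map f).LiesOver P := ⟨by
      have h3 : P = Ideal.under R y.1 := y.1.over_def P
      have h4 : Ideal.under R ((y.1.map f).comap f) = Ideal.under R (y.1.map f) := by
        ext r
        simp only [Ideal.under, Ideal.mem_comap]
        rw [show f (algebraMap R T r) = algebraMap R (T ⧸ Ideal.span {e}) r from f.commutes r]
      rw [← h4, hcm]
      exact h3⟩
    exact ⟨⟨y.1.map f, h1, h2⟩, Subtype.ext hcm⟩
  have hclosed : ∀ y z : P.primesOver T, (y ≤ z ∨ z ≤ y) → e ∈ y.1 → e ∈ z.1 := by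
    intro y z hyz hy
    rcases hyz with h | h
    · exact h hy
    · haveI := z.2.1
      haveI := y.2.1
      have h0 : e * (1 - e) ∈ z.1 := by
        have : e * (1 - e) = 0 := by rw [mul_sub, mul_one, he.eq, sub_self]
        rw [this]; exact zero_mem _
      rcases Ideal.IsPrime.mem_or_mem z.2.1 h0 with h1 | h1
      · exact h1
      · exfalso
        have : (1 : T) ∈ y.1 := by
          have : (1 : T) = e + (1 - e) := by ring
          rw [this]; exact add_mem hy (h h1)
        exact y.2.1.ne_top ((Ideal.eq_top_iff_one _).mpr this)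
  have hιiso : ∀ x, x ∈ isoSet (T ⧸ Ideal.span {e}) P → ι x ∈ isoSet T P := by
    intro x hx
    constructor
    · intro z hz
      obtain ⟨z', rfl⟩ := hrange z (hclosed _ _ (Or.inr hz) (hemem x))
      exact (hιle _ _).mpr (hx.1 ((hιle _ _).mp hz))
    · intro z hz
      obtain ⟨z', rfl⟩ := hrange z (hclosed _ _ (Or.inl hz) (hemem x))
      exact (hιle _ _).mpr (hx.2 ((hιle _ _).mp hz))
  rw [← Set.ncard_image_of_injective _ hιinj]
  refine Set.ncard_lt_ncard (Set.ssubset_iff_exists.mpr ⟨?_, P', hP', ?_⟩) hfin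
  · rintro _ ⟨x, hx, rfl⟩
    exact hιiso x hx
  · rintro ⟨x, -, rfl⟩
    exact heP' (hemem x)



theorem closure_range_residueField {R : Type*} [CommRing R] (p : Ideal R) [p.IsPrime] :
    Subfield.closure (Set.range (algebraMap R p.ResidueField)) = ⊤ := by
  rw [eq_top_iff]
  intro x _
  obtain ⟨a, b, hb, rfl⟩ := IsFractionRing.div_surjective (A := R ⧸ p) x
  obtain ⟨a, rfl⟩ := Ideal.Quotient.mk_surjective a
  obtain ⟨b, rfl⟩ := Ideal.Quotient.mk_surjective b
  refine div_mem ?_ ?_
  · exact Subfield.subset_closure ⟨a, IsScalarTower.algebraMap_apply R (R ⧸ p) p.ResidueField a⟩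
  · exact Subfield.subset_closure ⟨b, IsScalarTower.algebraMap_apply R (R ⧸ p) p.ResidueField b⟩

theorem closure_range_of_surjective {R R' : Type*} [CommRing R] [CommRing R'] [Algebra R R']
    (p : Ideal R) [p.IsPrime] (P : Ideal R') [P.IsPrime] [P.LiesOver p]
    (H : Function.Surjective (Ideal.ResidueField.mapₐ p P (Algebra.ofId _ _) (P.over_def p))) :
    Subfield.closure (Set.range (algebraMap R P.ResidueField)) = ⊤ := by
  set φ := Ideal.ResidueField.mapₐ p P (Algebra.ofId _ _) (P.over_def p) with hφ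
  have h1 := closure_range_residueField p
  have h2 : (Subfield.closure (Set.range (algebraMap R p.ResidueField))).map φ.toRingHom =
      Subfield.closure (Set.range (algebraMap R P.ResidueField)) := by
    rw [RingHom.map_field_closure]
    congr 1
    ext y
    constructor
    · rintro ⟨_, ⟨r, rfl⟩, rfl⟩
      exact ⟨r, (φ.commutes r).symm⟩
    · rintro ⟨r, rfl⟩
      exact ⟨_, ⟨r, rfl⟩, φ.commutes r⟩
  rw [← h2, h1, eq_top_iff]
  intro y _
  obtain ⟨x, rfl⟩ := H y
  exact ⟨x, trivial, rfl⟩

theorem existsUnique_of_unique_primesOver {R A : Type*} [CommRing R] [CommRing A] [Algebra R A]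
    (P : Ideal R) (h : Nonempty (Unique (P.primesOver A))) :
    ∃! r : Ideal A, r.IsPrime ∧ r.comap (algebraMap R A) = P := by
  obtain ⟨h⟩ := h
  refine ⟨h.default.1, ⟨h.default.2.1, (h.default.2.2.over).symm⟩, fun r hr => ?_⟩
  have := h.uniq ⟨r, hr.1, ⟨hr.2.symm⟩⟩
  exact congrArg Subtype.val this

theorem unique_primesOver_quotient {R T : Type*} [CommRing R] [CommRing T] [Algebra R T]
    (P : Ideal R) (e : T) (he : IsIdempotentElem e) (P' : Ideal T) [P'.IsPrime] [P'.LiesOver P]
    (heP' : e ∉ P')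
    (H : ∀ P'' : Ideal T, P''.IsPrime → P''.LiesOver P → e ∉ P'' → P'' = P') :
    Nonempty (Unique (P.primesOver (T ⧸ Ideal.span {1 - e}))) := by
  let f : T →ₐ[R] T ⧸ Ideal.span {1 - e} := Ideal.Quotient.mkₐ R (Ideal.span {1 - e})
  have hf : Function.Surjective f := Ideal.Quotient.mkₐ_surjective R _
  have hkerf : RingHom.ker f = Ideal.span {1 - e} := Ideal.Quotient.mkₐ_ker R _
  have h1e : 1 - e ∈ P' := by
    have h0 : e * (1 - e) ∈ P' := by
      have : e * (1 - e) = 0 := by rw [mul_sub, mul_one, he.eq, sub_self]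
      rw [this]; exact zero_mem _
    exact (Ideal.IsPrime.mem_or_mem ‹P'.IsPrime› h0).resolve_left heP'
  have hker : RingHom.ker f ≤ P' := by
    rw [hkerf, Ideal.span_le, Set.singleton_subset_iff]
    exact h1e
  have hcm : (P'.map f).comap f = P' := by
    rw [Ideal.comap_map_of_surjective _ hf]
    simpa [← RingHom.ker_eq_comap_bot] using hker
  have hd1 : (P'.map f).IsPrime := Ideal.map_isPrime_of_surjective hf hker
  have hunder : ∀ I : Ideal (T ⧸ Ideal.span {1 - e}),
      Ideal.under R (I.comap f) = Ideal.under R I := by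
    intro I
    ext r
    simp only [Ideal.under, Ideal.mem_comap]
    rw [show f (algebraMap R T r) = algebraMap R (T ⧸ Ideal.span {1 - e}) r from f.commutes r]
  have hd2 : (P'.map f).LiesOver P := ⟨by
    rw [← hunder, hcm]
    exact P'.over_def P⟩
  refine ⟨⟨⟨⟨P'.map f, hd1, hd2⟩⟩, fun x => ?_⟩⟩
  haveI := x.2.1
  haveI := x.2.2
  have hy1 : (x.1.comap f).IsPrime := inferInstance
  have hy2 : (x.1.comap f).LiesOver P := ⟨by
    rw [hunder]
    exact x.1.over_def P⟩
  have hy3 : e ∉ x.1.comap f := by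
    intro he'
    have h1 : 1 - e ∈ x.1.comap f := by
      change f (1 - e) ∈ x.1
      have : f (1 - e) = 0 := by
        rw [← RingHom.mem_ker, hkerf]
        exact Ideal.mem_span_singleton_self _
      rw [this]; exact zero_mem _
    have : (1 : T) ∈ x.1.comap f := by
      have h2 : e + (1 - e) = (1 : T) := by ring
      have h3 := add_mem he' h1
      rwa [h2] at h3
    exact hy1.ne_top ((Ideal.eq_top_iff_one _).mpr this)
  have hy := H _ hy1 hy2 hy3
  apply Subtype.ext
  change x.1 = P'.map f
  rw [← hy, Ideal.map_comap_of_surjective _ hf]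


/-- `Fin.consEquiv` as an algebra equivalence. -/
noncomputable def consAlgEquiv (R : Type*) [CommRing R] {n : ℕ} (α : Fin (n + 1) → Type*)
    [∀ i, CommRing (α i)] [∀ i, Algebra R (α i)] :
    (α 0 × (∀ i : Fin n, α i.succ)) ≃ₐ[R] (∀ i, α i) :=
  { Fin.consEquiv α with
    map_mul' := fun x y => by
      funext i
      refine Fin.cases ?_ (fun j => ?_) i
      · rfl
      · rfl
    map_add' := fun x y => by
      funext i
      refine Fin.cases ?_ (fun j => ?_) i
      · rfl
      · rfl
    commutes' := fun r => by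
      funext i
      refine Fin.cases ?_ (fun j => ?_) i
      · rfl
      · rfl }

theorem prodAssocAlgEquiv (R X Y Z : Type*) [CommRing R] [CommRing X] [CommRing Y] [CommRing Z]
    [Algebra R X] [Algebra R Y] [Algebra R Z] : Nonempty ((X × (Y × Z)) ≃ₐ[R] ((X × Y) × Z)) :=
  ⟨{ (Equiv.prodAssoc X Y Z).symm with
      map_mul' := fun _ _ => rfl
      map_add' := fun _ _ => rfl
      commutes' := fun _ => rfl }⟩

theorem claim : ∀ (N : ℕ) (R : Type u) [CommRing R] (S : Type u) [CommRing S] [Algebra R S]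
    [Algebra.FiniteType R S] (p : Ideal R) [p.IsPrime],
    (isoSet S p).ncard = N →
    ∃ (R' : Type u) (_ : CommRing R') (_ : Algebra R R') (_ : Algebra.Etale R R') (p' : Ideal R')
      (_ : p'.IsPrime) (_ : p'.LiesOver p) (n : ℕ) (A : Fin n → Type u) (_ : ∀ i, CommRing (A i))
      (_ : ∀ i, Algebra R' (A i)) (B : Type u) (_ : CommRing B) (_ : Algebra R' B),
      Function.Bijective (Ideal.ResidueField.mapₐ p p' (Algebra.ofId _ _) (p'.over_def p)) ∧
      Nonempty ((R' ⊗[R] S) ≃ₐ[R'] ((∀ i, A i) × B)) ∧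
        (∀ i, Module.Finite R' (A i) ∧
          ∃! r : Ideal (A i), r.IsPrime ∧ r.comap (algebraMap R' (A i)) = p') ∧
        ∀ (q : Ideal B) [q.IsPrime], q.comap (algebraMap R' B) = p' →
          ¬ Algebra.QuasiFiniteAt R' q := by
  intro N
  induction N using Nat.strong_induction_on with
  | _ N IH =>
  intro R _ S _ _ _ p _ hN
  by_cases hq : (isoSet S p).Nonempty
  · obtain ⟨q, hq⟩ := hq
    haveI := q.2.1
    haveI := q.2.2
    haveI : Algebra.QuasiFiniteAt R q.1 := (quasiFiniteAt_iff_mem_isoSet p q).mpr hq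
    obtain ⟨R', _, _, _, P, _, _, e, he, P', _, _, hP'q, heP', hpP, hfinA, H⟩ :=
      Algebra.exists_etale_isIdempotentElem_forall_liesOver_eq p q.1
    let F := Ideal.fiberIsoOfBijectiveResidueField hpP (S := S)
    have hFP' : F ⟨P', ‹_›, ‹_›⟩ = q := Subtype.ext (by
      rw [Ideal.comap_fiberIsoOfBijectiveResidueField_apply]; exact hP'q)
    have hP'iso : (⟨P', ‹_›, ‹_›⟩ : P.primesOver (R' ⊗[R] S)) ∈ isoSet (R' ⊗[R] S) P := by
      rw [← mem_isoSet_orderIso p P F, hFP']; exact hq
    have hcard : (isoSet (R' ⊗[R] S) P).ncard = N := by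
      rw [← ncard_isoSet_orderIso p P F]; exact hN
    have hfinT : (isoSet (R' ⊗[R] S) P).Finite := isoSet_finite P
    have hlt : (isoSet ((R' ⊗[R] S) ⧸ Ideal.span {e}) P).ncard < N :=
      hcard ▸ ncard_isoSet_quotient_lt P e he _ hP'iso heP' hfinT
    obtain ⟨R'', _, _, _, Q, _, _, n, A, _, _, B, _, _, hPQ, ⟨e₂⟩, hA, hB⟩ :=
      IH _ hlt R' ((R' ⊗[R] S) ⧸ Ideal.span {e}) P rfl
    letI algRR'' : Algebra R R'' := ((algebraMap R' R'').comp (algebraMap R R')).toAlgebra
    haveI towRR'R'' : IsScalarTower R R' R'' := IsScalarTower.of_algebraMap_eq' rfl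
    haveI etRR'' : Algebra.Etale R R'' := Algebra.Etale.comp R R' R''
    haveI liesQ : Q.LiesOver p := Ideal.LiesOver.trans Q P p
    have hpQ : Function.Bijective
        (Ideal.ResidueField.mapₐ p Q (Algebra.ofId _ _) (Q.over_def p)) := by
      convert hPQ.comp hpP
      rw [← @AlgHom.coe_restrictScalars' R R', ← AlgHom.coe_comp]; congr 1; ext
    -- the finite part
    have he1 : (1 - e) + e = 1 := by ring
    have he2 : (1 - e) * e = 0 := by rw [sub_mul, one_mul, he.eq, sub_self]
    let eT : (R' ⊗[R] S) ≃ₐ[R'] ((R' ⊗[R] S) ⧸ Ideal.span {1 - e}) × ((R' ⊗[R] S) ⧸ Ideal.span {e}) :=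
      AlgEquiv.prodQuotientOfIsIdempotentElem R' he.one_sub he he1 he2
    haveI : IsLocalization.Away e ((R' ⊗[R] S) ⧸ Ideal.span {1 - e}) :=
      IsLocalization.Away.quotient_of_isIdempotentElem he
    haveI finA₀ : Module.Finite R' ((R' ⊗[R] S) ⧸ Ideal.span {1 - e}) :=
      Module.Finite.equiv ((IsLocalization.algEquiv (.powers e) (Localization.Away e)
        ((R' ⊗[R] S) ⧸ Ideal.span {1 - e})).restrictScalars R').toLinearEquiv
    have huniq : Nonempty (Unique (P.primesOver ((R' ⊗[R] S) ⧸ Ideal.span {1 - e}))) :=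
      unique_primesOver_quotient P e he P' heP' H
    have huniq' : Nonempty (Unique (Q.primesOver (R'' ⊗[R'] ((R' ⊗[R] S) ⧸ Ideal.span {1 - e})))) := by
      obtain ⟨hu⟩ := huniq
      exact ⟨(Ideal.fiberIsoOfBijectiveResidueField hPQ
        (S := (R' ⊗[R] S) ⧸ Ideal.span {1 - e})).toEquiv.unique⟩
    let X : Fin (n + 1) → CommAlgCat.{u} R'' :=
      Fin.cons (CommAlgCat.of R'' (R'' ⊗[R'] ((R' ⊗[R] S) ⧸ Ideal.span {1 - e})))
        (fun i => CommAlgCat.of R'' (A i))
    obtain ⟨eassoc⟩ := prodAssocAlgEquiv R'' (R'' ⊗[R'] ((R' ⊗[R] S) ⧸ Ideal.span {1 - e}))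
      (∀ i, A i) B
    let e3 : ((R'' ⊗[R'] ((R' ⊗[R] S) ⧸ Ideal.span {1 - e})) × (∀ i, A i)) ≃ₐ[R'']
        (∀ i, X i) := consAlgEquiv R'' (fun i => X i)
    refine ⟨R'', inferInstance, algRR'', etRR'', Q, inferInstance, liesQ, n + 1,
      fun i => X i, fun i => inferInstance, fun i => inferInstance, B,
      inferInstance, inferInstance, hpQ, ⟨?_⟩, ?_, hB⟩
    · exact (((((Algebra.TensorProduct.cancelBaseChange R R' R'' R'' S).symm.trans
        (Algebra.TensorProduct.congr AlgEquiv.refl eT)).trans
        (Algebra.TensorProduct.prodRight R' R'' R'' _ _)).trans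
        (AlgEquiv.prodCongr AlgEquiv.refl e₂)).trans eassoc).trans
        (AlgEquiv.prodCongr e3 AlgEquiv.refl)
    · intro i
      refine Fin.cases ?_ (fun j => ?_) i
      · exact ⟨inferInstanceAs (Module.Finite R''
          (R'' ⊗[R'] ((R' ⊗[R] S) ⧸ Ideal.span {1 - e}))),
          existsUnique_of_unique_primesOver Q huniq'⟩
      · exact hA j
  · refine ⟨R, inferInstance, inferInstance, inferInstance, p, inferInstance, ⟨?_⟩, 0,
      fun _ => PUnit.{u + 1}, fun _ => inferInstance, fun _ => inferInstance, S, inferInstance,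
      inferInstance, ?_, ?_, fun i => i.elim0, ?_⟩
    · rw [Ideal.under_def, Algebra.algebraMap_self, Ideal.comap_id]
    · rw! [Algebra.ofId_self, Ideal.ResidueField.mapₐ_id]; exact Function.bijective_id
    · let f : S →ₐ[R] ∀ i : Fin 0, PUnit.{u + 1} := AlgHom.pi (fun i => i.elim0)
      have hbij : Function.Bijective (f.prod (AlgHom.id R S)) := by
        constructor
        · intro x y hxy
          have := congrArg Prod.snd hxy
          simpa using this
        · rintro ⟨x, s⟩
          refine ⟨s, ?_⟩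
          refine Prod.ext ?_ rfl
          funext i
          exact i.elim0
      exact ⟨(Algebra.TensorProduct.lid R S).trans (AlgEquiv.ofBijective _ hbij)⟩
    · intro q hqp hqc hqf
      apply hq
      have hlies : q.LiesOver p := ⟨hqc.symm⟩
      refine ⟨⟨q, hqp, hlies⟩, ?_⟩
      exact (quasiFiniteAt_iff_mem_isoSet p ⟨q, hqp, hlies⟩).mp hqf

end aux


open TensorProduct in
/-- For a finite type ring map R → S and a prime p of R there are an étale R-algebra R', a prime p' of
R' over p with trivial residue field extension κ(p) = κ(p') (the image of R generates κ(p') as a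
field), and a decomposition R' ⊗_R S ≅ A_1 × ⋯ × A_n × B of R'-algebras in which every A_i is finite
over R' with exactly one prime lying over p' and R' → B is quasi-finite at no prime of B lying over
p'. -/
theorem result (R : Type u) [CommRing R]
    (S : Type u) [CommRing S] [Algebra R S] [Algebra.FiniteType R S] (p : Ideal R) [p.IsPrime] :
    ∃ (R' : Type u) (_ : CommRing R') (_ : Algebra R R') (_ : Algebra.Etale R R') (p' : Ideal R')
      (_ : p'.IsPrime) (_ : p'.LiesOver p) (n : ℕ) (A : Fin n → Type u) (_ : ∀ i, CommRing (A i))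
      (_ : ∀ i, Algebra R' (A i)) (B : Type u) (_ : CommRing B) (_ : Algebra R' B),
      Subfield.closure (Set.range (algebraMap R p'.ResidueField)) = ⊤ ∧
      Nonempty ((R' ⊗[R] S) ≃ₐ[R'] ((∀ i, A i) × B)) ∧
        (∀ i, Module.Finite R' (A i) ∧
          ∃! r : Ideal (A i), r.IsPrime ∧ r.comap (algebraMap R' (A i)) = p') ∧
        ∀ (q : Ideal B) [q.IsPrime], q.comap (algebraMap R' B) = p' →
          ¬ Algebra.QuasiFiniteAt R' q := by
  obtain ⟨R', _, _, _, p', _, _, n, A, _, _, B, _, _, hpP, he, hA, hB⟩ := claim _ R S p rfl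
  exact ⟨R', inferInstance, inferInstance, inferInstance, p', inferInstance, inferInstance, n, A,
    inferInstance, inferInstance, B, inferInstance, inferInstance,
    closure_range_of_surjective p p' hpP.2, he, hA, hB⟩

end Groth.Agent.S9457
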