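import Groth.Statements.S9458
import Groth.Agent.S9459
import Groth.Agent.Lib.Helper24.QuasiFiniteLocal
import Groth.Agent.Lib.Helper24.HensRegular
import Groth.Agent.Lib.Helper24.IntegralHensel
-- import your own Groth.Agent.* helpers here

set_option autoImplicit false
universe u
open Hensel

namespace Groth.Agent.S9458

theorem comap_maximalIdeal_of_isLocalHom {A B : Type*} [CommRing A] [CommRing B] [IsLocalRing A]
    [IsLocalRing B] (f : A →+* B) [IsLocalHom f] :
    (IsLocalRing.maximalIdeal B).comap f = IsLocalRing.maximalIdeal A := by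
  ext x
  rw [Ideal.mem_comap, IsLocalRing.mem_maximalIdeal, IsLocalRing.mem_maximalIdeal,
    mem_nonunits_iff, mem_nonunits_iff, isUnit_map_iff]

/-- Let R → S be of finite type and quasi-finite at a prime q lying over p, and let R_p^h, S_q^h be
henselizations of the local rings, S_q^h carrying the compatible R_p^h-algebra structure (the
canonical local map R_p^h → S_q^h). Then S_q^h is finite over R_p^h. (The published statement also
identifies S_q^h with a localization of R_p^h ⊗_{R_p} S_q; this row states only that S_q^h is finite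
over R_p^h.) -/
theorem result (R : Type u) [CommRing R] (S : Type u)
    [CommRing S] [Algebra R S] [Algebra.FiniteType R S] (p : Ideal R) [p.IsPrime] (q : Ideal S)
    [q.IsPrime] [q.LiesOver p] [Algebra.QuasiFiniteAt R q]
    (Rh : Type u) [CommRing Rh] [IsLocalRing Rh] [Algebra (Localization.AtPrime p) Rh]
    [IsLocalHom (algebraMap (Localization.AtPrime p) Rh)]
    [Hensel.IsHenselization (Localization.AtPrime p) Rh]
    (Sh : Type u) [CommRing Sh] [IsLocalRing Sh] [Algebra (Localization.AtPrime q) Sh]
    [IsLocalHom (algebraMap (Localization.AtPrime q) Sh)]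
    [Hensel.IsHenselization (Localization.AtPrime q) Sh]
    [Algebra (Localization.AtPrime p) (Localization.AtPrime q)]
    [IsScalarTower R (Localization.AtPrime p) (Localization.AtPrime q)]
    [Algebra Rh Sh] [Algebra (Localization.AtPrime p) Sh]
    [IsScalarTower (Localization.AtPrime p) Rh Sh]
    [IsScalarTower (Localization.AtPrime p) (Localization.AtPrime q) Sh] :
    Module.Finite Rh Sh := by
  classical
  -- the auxiliary algebra structures
  letI aRRh : Algebra R Rh :=
    ((algebraMap (Localization.AtPrime p) Rh).comp (algebraMap R (Localization.AtPrime p))).toAlgebra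
  haveI : IsScalarTower R (Localization.AtPrime p) Rh := IsScalarTower.of_algebraMap_eq' rfl
  letI aSSh : Algebra S Sh :=
    ((algebraMap (Localization.AtPrime q) Sh).comp (algebraMap S (Localization.AtPrime q))).toAlgebra
  haveI : IsScalarTower S (Localization.AtPrime q) Sh := IsScalarTower.of_algebraMap_eq' rfl
  letI aRSh : Algebra R Sh :=
    ((algebraMap (Localization.AtPrime p) Sh).comp (algebraMap R (Localization.AtPrime p))).toAlgebra
  haveI : IsScalarTower R (Localization.AtPrime p) Sh := IsScalarTower.of_algebraMap_eq' rfl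
  haveI hRSSh : IsScalarTower R S Sh := by
    refine IsScalarTower.of_algebraMap_eq (fun r => ?_)
    show algebraMap (Localization.AtPrime p) Sh (algebraMap R (Localization.AtPrime p) r) =
      algebraMap (Localization.AtPrime q) Sh (algebraMap S (Localization.AtPrime q) (algebraMap R S r))
    rw [IsScalarTower.algebraMap_apply (Localization.AtPrime p) (Localization.AtPrime q) Sh,
      ← IsScalarTower.algebraMap_apply R (Localization.AtPrime p) (Localization.AtPrime q),
      IsScalarTower.algebraMap_apply R S (Localization.AtPrime q)]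
  haveI hRRhSh : IsScalarTower R Rh Sh := by
    refine IsScalarTower.of_algebraMap_eq (fun r => ?_)
    show algebraMap (Localization.AtPrime p) Sh (algebraMap R (Localization.AtPrime p) r) =
      algebraMap Rh Sh (algebraMap (Localization.AtPrime p) Rh (algebraMap R (Localization.AtPrime p) r))
    rw [← IsScalarTower.algebraMap_apply (Localization.AtPrime p) Rh Sh]
  haveI hRhH : HenselianLocalRing Rh :=
    Hensel.IsHenselization.henselian (R := Localization.AtPrime p)
  -- the maximal ideal of `Rh`
  have hmRh : IsLocalRing.maximalIdeal Rh = Ideal.map (algebraMap R Rh) p := by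
    rw [← Groth.Agent.Lib.Helper24.HensRegular.map_maximalIdeal_of_isHenselization
      (Localization.AtPrime p) Rh, ← Localization.AtPrime.map_eq_maximalIdeal (I := p),
      Ideal.map_map]
    rfl
  have hcomapS : (IsLocalRing.maximalIdeal Sh).comap (algebraMap S Sh) = q := by
    show (IsLocalRing.maximalIdeal Sh).comap
      ((algebraMap (Localization.AtPrime q) Sh).comp (algebraMap S (Localization.AtPrime q))) = q
    rw [← Ideal.comap_comap, comap_maximalIdeal_of_isLocalHom]
    exact IsLocalization.AtPrime.under_maximalIdeal (Localization.AtPrime q) q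
  have hlocRhSh : IsLocalHom (algebraMap Rh Sh) := by
    constructor
    intro x hx
    by_contra hnu
    have hx1 : x ∈ IsLocalRing.maximalIdeal Rh := (IsLocalRing.mem_maximalIdeal _).2 hnu
    rw [hmRh] at hx1
    have hx2 : algebraMap Rh Sh x ∈ Ideal.map (algebraMap Rh Sh) (Ideal.map (algebraMap R Rh) p) :=
      Ideal.mem_map_of_mem _ hx1
    rw [Ideal.map_map, ← IsScalarTower.algebraMap_eq R Rh Sh] at hx2
    have hle : Ideal.map (algebraMap R Sh) p ≤ IsLocalRing.maximalIdeal Sh := by
      rw [Ideal.map_le_iff_le_comap, IsScalarTower.algebraMap_eq R S Sh, ← Ideal.comap_comap,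
        hcomapS]
      exact (Ideal.LiesOver.over (P := q) (p := p)).le
    exact (IsLocalRing.mem_maximalIdeal _).1 (hle hx2) hx
  -- the tensor product and the prime `Q`
  set φ : TensorProduct R Rh S →ₐ[R] Sh :=
    Algebra.TensorProduct.lift (IsScalarTower.toAlgHom R Rh Sh) (IsScalarTower.toAlgHom R S Sh)
      (fun _ _ => Commute.all _ _) with hφ
  have hφl : ∀ r : Rh, φ (algebraMap Rh (TensorProduct R Rh S) r) = algebraMap Rh Sh r := by
    intro r
    rw [Algebra.TensorProduct.algebraMap_apply, hφ, Algebra.TensorProduct.lift_tmul, map_one,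
      mul_one]
    rfl
  have hφr : ∀ s : S, φ (Algebra.TensorProduct.includeRight s) = algebraMap S Sh s := by
    intro s
    rw [Algebra.TensorProduct.includeRight_apply, hφ, Algebra.TensorProduct.lift_tmul, map_one,
      one_mul]
    rfl
  haveI hQlies : (Ideal.comap φ (IsLocalRing.maximalIdeal Sh)).LiesOver
      (IsLocalRing.maximalIdeal Rh) := by
    refine ⟨?_⟩
    ext r
    rw [Ideal.under_def, Ideal.mem_comap, Ideal.mem_comap, hφl,
      ← comap_maximalIdeal_of_isLocalHom (algebraMap Rh Sh), Ideal.mem_comap]
  haveI hQqf : Algebra.QuasiFiniteAt Rh (Ideal.comap φ (IsLocalRing.maximalIdeal Sh)) := by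
    apply Algebra.QuasiFiniteAt.baseChange (R := R) (S := S) q
    ext s
    rw [Ideal.mem_comap, AlgHom.toRingHom_eq_coe, RingHom.coe_coe, Ideal.mem_comap, hφr,
      ← hcomapS, Ideal.mem_comap]
  obtain ⟨hfin, -⟩ :=
    Groth.Agent.Lib.Helper24.QuasiFiniteLocal.finite_atPrime_of_quasiFiniteAt Rh
      (TensorProduct R Rh S) (Ideal.comap φ (IsLocalRing.maximalIdeal Sh))
  haveI := hfin
  haveI hDQh : HenselianLocalRing
      (Localization.AtPrime (Ideal.comap φ (IsLocalRing.maximalIdeal Sh))) :=
    Groth.Agent.Lib.Helper24.IntegralHensel.henselian_of_finite Rh _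
  haveI hidloc : IsLocalHom (algebraMap
      (Localization.AtPrime (Ideal.comap φ (IsLocalRing.maximalIdeal Sh)))
      (Localization.AtPrime (Ideal.comap φ (IsLocalRing.maximalIdeal Sh)))) := by
    constructor
    intro a ha
    exact ha
  haveI hself : Hensel.IsHenselization
      (Localization.AtPrime (Ideal.comap φ (IsLocalRing.maximalIdeal Sh)))
      (Localization.AtPrime (Ideal.comap φ (IsLocalRing.maximalIdeal Sh))) :=
    { henselian := hDQh
      universal := fun T _ _ f _ => ⟨f, RingHom.ext fun x => rfl, fun g hg => by
        rw [← hg]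
        exact RingHom.ext fun x => rfl⟩ }
  obtain ⟨e, he⟩ := Groth.Agent.S9459.result R S p q Rh Sh
    (Localization.AtPrime (Ideal.comap φ (IsLocalRing.maximalIdeal Sh)))
  -- transport finiteness
  have hlin : ∀ (r : Rh)
      (x : Localization.AtPrime (Ideal.comap φ (IsLocalRing.maximalIdeal Sh))),
      e (r • x) = r • e x := by
    intro r x
    rw [Algebra.smul_def, Algebra.smul_def, map_mul]
    congr 1
    rw [IsScalarTower.algebraMap_apply Rh (TensorProduct R Rh S)
      (Localization.AtPrime (Ideal.comap φ (IsLocalRing.maximalIdeal Sh)))]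
    have := he (algebraMap Rh (TensorProduct R Rh S) r)
    rw [Algebra.algebraMap_self, RingHom.id_apply] at this
    rw [this]
    exact hφl r
  let l : Localization.AtPrime (Ideal.comap φ (IsLocalRing.maximalIdeal Sh)) →ₗ[Rh] Sh :=
    { toFun := e
      map_add' := map_add e
      map_smul' := hlin }
  exact Module.Finite.of_surjective l e.surjective

end Groth.Agent.S9458
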