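import Groth.Statements.S9461
import Mathlib
import Groth.Agent.S9460
import Groth.Agent.Lib.Helper24.QuasiFiniteLocal
import Groth.Agent.Lib.Helper24.IntegralHensel

set_option autoImplicit false
universe u
open Hensel

namespace Groth.Agent.S9461

section aux

theorem comap_maximalIdeal_of_isLocalHom {A B : Type*} [CommRing A] [CommRing B] [IsLocalRing A]
    [IsLocalRing B] (f : A →+* B) [IsLocalHom f] :
    (IsLocalRing.maximalIdeal B).comap f = IsLocalRing.maximalIdeal A := by
  ext x
  rw [Ideal.mem_comap, IsLocalRing.mem_maximalIdeal, IsLocalRing.mem_maximalIdeal,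
    mem_nonunits_iff, mem_nonunits_iff, isUnit_map_iff]

end aux


/-- Let R → S be of finite type and quasi-finite at a prime q over p, and R^{sh}, S^{sh} strict
henselizations of R_p and S_q with a compatible local map R^{sh} → S^{sh} (over R). Then R^{sh} →
S^{sh} is finite and its residue field extension is finite and purely inseparable. (The published
statement also identifies S^{sh} with a localization of R^{sh} ⊗_{R_p} S_q; this row states only the
finiteness and the residue-field assertions.) -/
theorem result (R : Type u) [CommRing R] (S : Type u)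
    [CommRing S] [Algebra R S] [Algebra.FiniteType R S] (p : Ideal R) [p.IsPrime] (q : Ideal S)
    [q.IsPrime] [q.LiesOver p] [Algebra.QuasiFiniteAt R q]
    (Rh : Type u) [CommRing Rh] [IsLocalRing Rh] [Algebra (Localization.AtPrime p) Rh]
    [IsLocalHom (algebraMap (Localization.AtPrime p) Rh)]
    [Hensel.IsStrictHenselization (Localization.AtPrime p) Rh] [Algebra R Rh]
    [IsScalarTower R (Localization.AtPrime p) Rh]
    (Sh : Type u) [CommRing Sh] [IsLocalRing Sh] [Algebra (Localization.AtPrime q) Sh]
    [IsLocalHom (algebraMap (Localization.AtPrime q) Sh)]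
    [Hensel.IsStrictHenselization (Localization.AtPrime q) Sh] [Algebra S Sh]
    [IsScalarTower S (Localization.AtPrime q) Sh] [Algebra R Sh] [IsScalarTower R S Sh]
    [Algebra Rh Sh] [IsScalarTower R Rh Sh] [IsLocalHom (algebraMap Rh Sh)] :
    Module.Finite Rh Sh ∧
      Module.Finite (IsLocalRing.ResidueField Rh) (IsLocalRing.ResidueField Sh) ∧
      IsPurelyInseparable (IsLocalRing.ResidueField Rh) (IsLocalRing.ResidueField Sh) := by
  classical
  haveI hRhH : HenselianLocalRing Rh :=
    Hensel.IsStrictHenselization.henselian (R := Localization.AtPrime p)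
  have hsc : IsSepClosure (IsLocalRing.ResidueField (Localization.AtPrime p))
      (IsLocalRing.ResidueField Rh) :=
    Hensel.IsStrictHenselization.isSepClosure
  haveI hscRh : IsSepClosed (IsLocalRing.ResidueField Rh) := hsc.sep_closed
  have hcomapS : (IsLocalRing.maximalIdeal Sh).comap (algebraMap S Sh) = q := by
    rw [IsScalarTower.algebraMap_eq S (Localization.AtPrime q) Sh, ← Ideal.comap_comap,
      comap_maximalIdeal_of_isLocalHom]
    exact IsLocalization.AtPrime.under_maximalIdeal (Localization.AtPrime q) q
  -- the tensor product and the prime `Q`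
  set φ : TensorProduct R Rh S →ₐ[R] Sh :=
    Algebra.TensorProduct.lift (IsScalarTower.toAlgHom R Rh Sh) (IsScalarTower.toAlgHom R S Sh)
      (fun _ _ => Commute.all _ _) with hφ
  have hφl : ∀ r : Rh, φ (algebraMap Rh (TensorProduct R Rh S) r) = algebraMap Rh Sh r := by
    intro r
    rw [Algebra.TensorProduct.algebraMap_apply, hφ, Algebra.TensorProduct.lift_tmul, map_one,
      mul_one]
    rfl
  have hφr : ∀ s : S, φ (Algebra.TensorProduct.includeRight s) = algebraMap S Sh s := by
    intro s
    rw [Algebra.TensorProduct.includeRight_apply, hφ, Algebra.TensorProduct.lift_tmul, map_one,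
      one_mul]
    rfl
  haveI hQlies : (Ideal.comap φ (IsLocalRing.maximalIdeal Sh)).LiesOver
      (IsLocalRing.maximalIdeal Rh) := by
    refine ⟨?_⟩
    ext r
    rw [Ideal.under_def, Ideal.mem_comap, Ideal.mem_comap, hφl,
      ← comap_maximalIdeal_of_isLocalHom (algebraMap Rh Sh), Ideal.mem_comap]
  haveI hQqf : Algebra.QuasiFiniteAt Rh (Ideal.comap φ (IsLocalRing.maximalIdeal Sh)) := by
    apply Algebra.QuasiFiniteAt.baseChange (R := R) (S := S) q
    ext s
    rw [Ideal.mem_comap, AlgHom.toRingHom_eq_coe, RingHom.coe_coe, Ideal.mem_comap, hφr,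
      ← hcomapS, Ideal.mem_comap]
  obtain ⟨hfin, -⟩ :=
    Groth.Agent.Lib.Helper24.QuasiFiniteLocal.finite_atPrime_of_quasiFiniteAt Rh
      (TensorProduct R Rh S) (Ideal.comap φ (IsLocalRing.maximalIdeal Sh))
  haveI := hfin
  haveI hDQh : HenselianLocalRing
      (Localization.AtPrime (Ideal.comap φ (IsLocalRing.maximalIdeal Sh))) :=
    Groth.Agent.Lib.Helper24.IntegralHensel.henselian_of_finite Rh _
  -- `Rh → B` is local, `B` being finite (hence integral) over `Rh`
  haveI hlocRhB : IsLocalHom (algebraMap Rh
      (Localization.AtPrime (Ideal.comap φ (IsLocalRing.maximalIdeal Sh)))) := by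
    constructor
    intro a ha
    by_contra hnu
    have h1 : a ∈ IsLocalRing.maximalIdeal Rh := (IsLocalRing.mem_maximalIdeal _).2 hnu
    have h2 : algebraMap Rh (TensorProduct R Rh S) a ∈
        Ideal.comap φ (IsLocalRing.maximalIdeal Sh) := by
      have := hQlies.over
      rw [this] at h1
      exact h1
    have h3 : algebraMap (TensorProduct R Rh S)
        (Localization.AtPrime (Ideal.comap φ (IsLocalRing.maximalIdeal Sh)))
        (algebraMap Rh (TensorProduct R Rh S) a) ∈ IsLocalRing.maximalIdeal _ :=
      (IsLocalization.AtPrime.to_map_mem_maximal_iff _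
        (Ideal.comap φ (IsLocalRing.maximalIdeal Sh)) _).mpr h2
    rw [← IsScalarTower.algebraMap_apply] at h3
    exact (IsLocalRing.mem_maximalIdeal _).1 h3 ha
  -- the residue field of `B` is separably closed
  haveI hfinres : Module.Finite (IsLocalRing.ResidueField Rh) (IsLocalRing.ResidueField
      (Localization.AtPrime (Ideal.comap φ (IsLocalRing.maximalIdeal Sh)))) := inferInstance
  haveI hscB : IsSepClosed (IsLocalRing.ResidueField
      (Localization.AtPrime (Ideal.comap φ (IsLocalRing.maximalIdeal Sh)))) :=
    Algebra.IsAlgebraic.isSepClosed (F := IsLocalRing.ResidueField Rh)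
  haveI hidloc : IsLocalHom (algebraMap
      (Localization.AtPrime (Ideal.comap φ (IsLocalRing.maximalIdeal Sh)))
      (Localization.AtPrime (Ideal.comap φ (IsLocalRing.maximalIdeal Sh)))) := by
    constructor
    intro a ha
    exact ha
  haveI hself : Hensel.IsStrictHenselization
      (Localization.AtPrime (Ideal.comap φ (IsLocalRing.maximalIdeal Sh)))
      (Localization.AtPrime (Ideal.comap φ (IsLocalRing.maximalIdeal Sh))) :=
    { henselian := hDQh
      isSepClosure := by
        refine @IsSepClosure.mk _ _ _ _ IsLocalRing.ResidueField.instAlgebra hscB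
          (@Algebra.IsSeparable.mk _ _ _ _ IsLocalRing.ResidueField.instAlgebra (fun x => ?_))
        obtain ⟨y, rfl⟩ := IsLocalRing.residue_surjective x
        exact @isSeparable_algebraMap _ _ _ _ IsLocalRing.ResidueField.instAlgebra
          (IsLocalRing.residue _ y)
      universal := fun T _ _ f _ τ hτ => ⟨f, ⟨RingHom.ext fun x => rfl, fun x => by
          have := RingHom.congr_fun hτ (IsLocalRing.residue _ x)
          exact this.symm⟩, fun g hg => by
        rw [← hg.1]
        exact RingHom.ext fun x => rfl⟩ }
  obtain ⟨e, he⟩ := Groth.Agent.S9460.result R S p q Rh Sh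
    (Localization.AtPrime (Ideal.comap φ (IsLocalRing.maximalIdeal Sh)))
  -- transport finiteness
  have hlin : ∀ (r : Rh)
      (x : Localization.AtPrime (Ideal.comap φ (IsLocalRing.maximalIdeal Sh))),
      e (r • x) = r • e x := by
    intro r x
    rw [Algebra.smul_def, Algebra.smul_def, map_mul]
    congr 1
    rw [IsScalarTower.algebraMap_apply Rh (TensorProduct R Rh S)
      (Localization.AtPrime (Ideal.comap φ (IsLocalRing.maximalIdeal Sh)))]
    have := he (algebraMap Rh (TensorProduct R Rh S) r)
    rw [Algebra.algebraMap_self, RingHom.id_apply] at this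
    rw [this]
    exact hφl r
  let l : Localization.AtPrime (Ideal.comap φ (IsLocalRing.maximalIdeal Sh)) →ₗ[Rh] Sh :=
    { toFun := e
      map_add' := map_add e
      map_smul' := hlin }
  haveI hfinSh : Module.Finite Rh Sh := Module.Finite.of_surjective l e.surjective
  refine ⟨hfinSh, inferInstance, ?_⟩
  haveI : Module.Finite (IsLocalRing.ResidueField Rh) (IsLocalRing.ResidueField Sh) := inferInstance
  exact inferInstance

end Groth.Agent.S9461
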