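import Groth.Statements.S9463
import Mathlib

set_option autoImplicit false
universe u
open OmegaSh

namespace Groth.Agent.S9463


/-- Let A → B be formally unramified, π : B' → B a universal first order thickening of B relative to A,
and S ⊆ A a multiplicative subset. Localizing everything at S (A_S, B_S and B'_S with compatible
algebra structures, π_S : B'_S → B_S the A_S-algebra map induced by π), the map π_S is a universal
first order thickening of B_S relative to A_S. (The published statement adds the consequence that
the conormal module localizes accordingly.) -/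
theorem result (A B B' : Type u) [CommRing A] [CommRing B]
    [CommRing B'] [Algebra A B] [Algebra.FormallyUnramified A B] [Algebra A B'] (π : B' →ₐ[A] B)
    (hπ : OmegaSh.IsUnivThickeningRing A B B' π) (S : Submonoid A)
    (AS BS B'S : Type u) [CommRing AS] [CommRing BS] [CommRing B'S]
    [Algebra A AS] [IsLocalization S AS]
    [Algebra B BS] [IsLocalization (Algebra.algebraMapSubmonoid B S) BS]
    [Algebra B' B'S] [IsLocalization (Algebra.algebraMapSubmonoid B' S) B'S]
    [Algebra AS BS] [Algebra A BS] [IsScalarTower A AS BS] [IsScalarTower A B BS]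
    [Algebra AS B'S] [Algebra A B'S] [IsScalarTower A AS B'S] [IsScalarTower A B' B'S]
    (πS : B'S →ₐ[AS] BS) (hπS : ∀ x : B', πS (algebraMap B' B'S x) = algebraMap B BS (π x)) :
    OmegaSh.IsUnivThickeningRing AS BS B'S πS := by
  classical
  obtain ⟨hsurj, hsq, huniv⟩ := hπ
  have hmemB' : ∀ s ∈ S, algebraMap A B' s ∈ Algebra.algebraMapSubmonoid B' S :=
    fun s hs => ⟨s, hs, rfl⟩
  have hmemB : ∀ s ∈ S, algebraMap A B s ∈ Algebra.algebraMapSubmonoid B S :=
    fun s hs => ⟨s, hs, rfl⟩
  refine ⟨?_, ?_, ?_⟩
  · intro y
    obtain ⟨b, ⟨_, s, hs, rfl⟩, rfl⟩ :=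
      IsLocalization.exists_mk'_eq (Algebra.algebraMapSubmonoid B S) y
    obtain ⟨b', rfl⟩ := hsurj b
    refine ⟨IsLocalization.mk' B'S b' ⟨algebraMap A B' s, hmemB' s hs⟩, ?_⟩
    rw [IsLocalization.eq_mk'_iff_mul_eq]
    have h1 : algebraMap B BS (algebraMap A B s) =
        πS (algebraMap B' B'S (algebraMap A B' s)) := by rw [hπS, π.commutes]
    change πS _ * algebraMap B BS (algebraMap A B s) = _
    rw [h1, ← map_mul]
    have h2 := IsLocalization.mk'_spec B'S b' ⟨algebraMap A B' s, hmemB' s hs⟩
    change IsLocalization.mk' B'S b' ⟨algebraMap A B' s, hmemB' s hs⟩ *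
      algebraMap B' B'S (algebraMap A B' s) = _ at h2
    rw [h2, hπS]
  · have hker : RingHom.ker πS.toRingHom =
        (RingHom.ker π.toRingHom).map (algebraMap B' B'S) := by
      apply le_antisymm
      · intro x hx
        obtain ⟨b', ⟨_, s, hs, rfl⟩, rfl⟩ :=
          IsLocalization.exists_mk'_eq (Algebra.algebraMapSubmonoid B' S) x
        have hx0 : πS (IsLocalization.mk' B'S b' ⟨algebraMap A B' s, hmemB' s hs⟩) = 0 := hx
        have h1 : algebraMap B BS (π b') = 0 := by
          have h2 := IsLocalization.mk'_spec B'S b' ⟨algebraMap A B' s, hmemB' s hs⟩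
          have h3 := congrArg πS h2
          rw [map_mul, hx0, zero_mul, hπS] at h3
          exact h3.symm
        obtain ⟨⟨_, t, ht, rfl⟩, htb⟩ :=
          (IsLocalization.map_eq_zero_iff (Algebra.algebraMapSubmonoid B S) BS (π b')).mp h1
        have h3 : algebraMap A B' t * b' ∈ RingHom.ker π.toRingHom := by
          rw [RingHom.mem_ker]
          change π (_ * _) = 0
          rw [map_mul, π.commutes]
          exact htb
        have hu : IsUnit (algebraMap B' B'S (algebraMap A B' t)) :=
          IsLocalization.map_units B'S (⟨_, hmemB' t ht⟩ : Algebra.algebraMapSubmonoid B' S)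
        have h5 : algebraMap B' B'S b' ∈ (RingHom.ker π.toRingHom).map (algebraMap B' B'S) := by
          have h6 : algebraMap B' B'S (algebraMap A B' t * b') ∈
              (RingHom.ker π.toRingHom).map (algebraMap B' B'S) := Ideal.mem_map_of_mem _ h3
          rw [map_mul] at h6
          exact (Ideal.unit_mul_mem_iff_mem _ hu).mp h6
        rw [IsLocalization.mk'_eq_mul_mk'_one]
        exact Ideal.mul_mem_right _ _ h5
      · rw [Ideal.map_le_iff_le_comap]
        intro x hx
        rw [Ideal.mem_comap, RingHom.mem_ker]
        change πS (algebraMap B' B'S x) = 0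
        have hx0 : π x = 0 := hx
        rw [hπS, hx0, map_zero]
    rw [hker, ← Ideal.map_pow, hsq, Ideal.map_bot]
  · intro C _ _ I hI a
    let _ : Algebra A C := ((algebraMap AS C).comp (algebraMap A AS)).toAlgebra
    have : IsScalarTower A AS C := IsScalarTower.of_algebraMap_eq (fun _ => rfl)
    let a₀ : B →ₐ[A] C ⧸ I := (a.restrictScalars A).comp (IsScalarTower.toAlgHom A B BS)
    obtain ⟨a₀', ha₀', huniq⟩ := huniv C I hI a₀
    have hunit : ∀ y : Algebra.algebraMapSubmonoid B' S, IsUnit (a₀'.toRingHom y) := by
      rintro ⟨_, s, hs, rfl⟩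
      change IsUnit (a₀' (algebraMap A B' s))
      rw [a₀'.commutes]
      exact (IsLocalization.map_units AS ⟨s, hs⟩).map (algebraMap AS C)
    let g : B'S →+* C := IsLocalization.lift hunit
    have hg : ∀ x : B', g (algebraMap B' B'S x) = a₀' x := fun x => IsLocalization.lift_eq hunit x
    have hgalg : ∀ r : AS, g (algebraMap AS B'S r) = algebraMap AS C r := by
      intro r
      have h1 : (g.comp (algebraMap AS B'S)) = algebraMap AS C := by
        apply IsLocalization.ringHom_ext S
        ext x
        simp only [RingHom.coe_comp, Function.comp_apply]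
        rw [← IsScalarTower.algebraMap_apply A AS B'S, IsScalarTower.algebraMap_apply A B' B'S, hg,
          a₀'.commutes]
        rfl
      exact congrArg (fun f => f r) h1
    let a' : B'S →ₐ[AS] C := { g with commutes' := hgalg }
    have ha'g : ∀ x, a' x = g x := fun x => rfl
    refine ⟨a', ?_, ?_⟩
    · apply AlgHom.coe_ringHom_injective
      apply IsLocalization.ringHom_ext (Algebra.algebraMapSubmonoid B' S)
      refine RingHom.ext (fun x => ?_)
      change Ideal.Quotient.mk I (g (algebraMap B' B'S x)) = a (πS (algebraMap B' B'S x))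
      rw [hg, hπS]
      exact AlgHom.congr_fun ha₀' x
    · intro a'' ha''
      let b'' : B' →ₐ[A] C := (a''.restrictScalars A).comp (IsScalarTower.toAlgHom A B' B'S)
      have hb'' : b'' = a₀' := huniq b'' (by
        apply AlgHom.ext
        intro x
        change Ideal.Quotient.mk I (a'' (algebraMap B' B'S x)) = a (algebraMap B BS (π x))
        rw [← hπS]
        exact AlgHom.congr_fun ha'' (algebraMap B' B'S x))
      apply AlgHom.coe_ringHom_injective
      apply IsLocalization.ringHom_ext (Algebra.algebraMapSubmonoid B' S)
      ext x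
      change a'' (algebraMap B' B'S x) = g (algebraMap B' B'S x)
      rw [hg, ← hb'']
      rfl

end Groth.Agent.S9463
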