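import Groth.Statements.S9464
import Mathlib

set_option autoImplicit false
universe u
open OmegaSh

namespace Groth.Agent.S9464

/-- Let A → B be formally unramified, π : B' → B a universal first order thickening of B relative to A,
S ⊆ B a multiplicative subset and S' = π⁻¹(S) ⊆ B'. With B_S the localization of B at S, B'_{S'} the
localization of B' at S' (both as A-algebras) and π' : B'_{S'} → B_S the A-algebra map induced by π,
the map π' is a universal first order thickening of B_S relative to A. (The published statement adds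
the consequence that the conormal module localizes accordingly.) -/
theorem result (A B B' : Type u) [CommRing A] [CommRing B]
    [CommRing B'] [Algebra A B] [Algebra.FormallyUnramified A B] [Algebra A B'] (π : B' →ₐ[A] B)
    (hπ : OmegaSh.IsUnivThickeningRing A B B' π) (S : Submonoid B)
    (BS B'S : Type u) [CommRing BS] [CommRing B'S]
    [Algebra B BS] [IsLocalization S BS]
    [Algebra B' B'S] [IsLocalization (S.comap π.toRingHom.toMonoidHom) B'S]
    [Algebra A BS] [IsScalarTower A B BS] [Algebra A B'S] [IsScalarTower A B' B'S]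
    (πS : B'S →ₐ[A] BS) (hπS : ∀ x : B', πS (algebraMap B' B'S x) = algebraMap B BS (π x)) :
    OmegaSh.IsUnivThickeningRing A BS B'S πS := by
  classical
  obtain ⟨hsurj, hsq, huniv⟩ := hπ
  set S' : Submonoid B' := S.comap π.toRingHom.toMonoidHom with hS'
  have hmemS' : ∀ y : B', y ∈ S' ↔ π y ∈ S := fun y => Iff.rfl
  refine ⟨?_, ?_, ?_⟩
  · intro y
    obtain ⟨b, ⟨s, hs⟩, rfl⟩ := IsLocalization.exists_mk'_eq S y
    obtain ⟨b', rfl⟩ := hsurj b
    obtain ⟨s', rfl⟩ := hsurj s
    have hs' : s' ∈ S' := hs
    refine ⟨IsLocalization.mk' B'S b' ⟨s', hs'⟩, ?_⟩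
    rw [IsLocalization.eq_mk'_iff_mul_eq]
    change πS _ * algebraMap B BS (π s') = _
    rw [← hπS, ← map_mul]
    have h2 := IsLocalization.mk'_spec B'S b' ⟨s', hs'⟩
    change IsLocalization.mk' B'S b' ⟨s', hs'⟩ * algebraMap B' B'S s' = _ at h2
    rw [h2, hπS]
  · have hker : RingHom.ker πS.toRingHom =
        (RingHom.ker π.toRingHom).map (algebraMap B' B'S) := by
      apply le_antisymm
      · intro x hx
        obtain ⟨b', ⟨s', hs'⟩, rfl⟩ := IsLocalization.exists_mk'_eq S' x
        have hx0 : πS (IsLocalization.mk' B'S b' ⟨s', hs'⟩) = 0 := hx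
        have h1 : algebraMap B BS (π b') = 0 := by
          have h2 := IsLocalization.mk'_spec B'S b' ⟨s', hs'⟩
          have h3 := congrArg πS h2
          rw [map_mul, hx0, zero_mul, hπS] at h3
          exact h3.symm
        obtain ⟨⟨t, ht⟩, htb⟩ := (IsLocalization.map_eq_zero_iff S BS (π b')).mp h1
        obtain ⟨t', rfl⟩ := hsurj t
        have ht' : t' ∈ S' := ht
        have h3 : t' * b' ∈ RingHom.ker π.toRingHom := by
          rw [RingHom.mem_ker]
          change π (_ * _) = 0
          rw [map_mul]
          exact htb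
        have hu : IsUnit (algebraMap B' B'S t') :=
          IsLocalization.map_units B'S (⟨t', ht'⟩ : S')
        have h5 : algebraMap B' B'S b' ∈ (RingHom.ker π.toRingHom).map (algebraMap B' B'S) := by
          have h6 : algebraMap B' B'S (t' * b') ∈
              (RingHom.ker π.toRingHom).map (algebraMap B' B'S) := Ideal.mem_map_of_mem _ h3
          rw [map_mul] at h6
          exact (Ideal.unit_mul_mem_iff_mem _ hu).mp h6
        rw [IsLocalization.mk'_eq_mul_mk'_one]
        exact Ideal.mul_mem_right _ _ h5
      · rw [Ideal.map_le_iff_le_comap]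
        intro x hx
        rw [Ideal.mem_comap, RingHom.mem_ker]
        change πS (algebraMap B' B'S x) = 0
        have hx0 : π x = 0 := hx
        rw [hπS, hx0, map_zero]
    rw [hker, ← Ideal.map_pow, hsq, Ideal.map_bot]
  · intro C _ _ I hI a
    let a₀ : B →ₐ[A] C ⧸ I := a.comp (IsScalarTower.toAlgHom A B BS)
    obtain ⟨a₀', ha₀', huniq⟩ := huniv C I hI a₀
    have hInil : IsNilpotent I := ⟨2, by rw [hI]; rfl⟩
    have hunit : ∀ y : S', IsUnit (a₀'.toRingHom y) := by
      rintro ⟨y, hy⟩
      change IsUnit (a₀' y)
      rw [← hInil.isUnit_quotient_mk_iff]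
      have h1 : Ideal.Quotient.mk I (a₀' y) = a (algebraMap B BS (π y)) :=
        AlgHom.congr_fun ha₀' y
      rw [h1]
      exact (IsLocalization.map_units BS (⟨π y, hy⟩ : S)).map a
    let g : B'S →+* C := IsLocalization.lift hunit
    have hg : ∀ x : B', g (algebraMap B' B'S x) = a₀' x := fun x => IsLocalization.lift_eq hunit x
    have hgalg : ∀ r : A, g (algebraMap A B'S r) = algebraMap A C r := by
      intro r
      rw [IsScalarTower.algebraMap_apply A B' B'S, hg, a₀'.commutes]
    let a' : B'S →ₐ[A] C := { g with commutes' := hgalg }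
    refine ⟨a', ?_, ?_⟩
    · apply AlgHom.coe_ringHom_injective
      apply IsLocalization.ringHom_ext S'
      refine RingHom.ext (fun x => ?_)
      change Ideal.Quotient.mk I (g (algebraMap B' B'S x)) = a (πS (algebraMap B' B'S x))
      rw [hg, hπS]
      exact AlgHom.congr_fun ha₀' x
    · intro a'' ha''
      let b'' : B' →ₐ[A] C := a''.comp (IsScalarTower.toAlgHom A B' B'S)
      have hb'' : b'' = a₀' := huniq b'' (by
        apply AlgHom.ext
        intro x
        change Ideal.Quotient.mk I (a'' (algebraMap B' B'S x)) = a (algebraMap B BS (π x))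
        rw [← hπS]
        exact AlgHom.congr_fun ha'' (algebraMap B' B'S x))
      apply AlgHom.coe_ringHom_injective
      apply IsLocalization.ringHom_ext S'
      refine RingHom.ext (fun x => ?_)
      change a'' (algebraMap B' B'S x) = g (algebraMap B' B'S x)
      rw [hg, ← hb'']
      rfl

end Groth.Agent.S9464
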