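import Groth.Statements.S9472
import Groth.Agent.LibDiff29i
import Mathlib.RingTheory.Etale.Basic
-- import your own Groth.Agent.* helpers here

set_option autoImplicit false
universe u
open Diff16

namespace Groth.Agent.S9472

open Groth.Agent.LibDiff29
open scoped TensorProduct

section
variable {R S S' : Type u} [CommRing R] [CommRing S] [CommRing S'] [Algebra R S] [Algebra R S']
  [Algebra S S'] [IsScalarTower R S S']
variable {M : Type u} [AddCommGroup M] [Module S M] [Module R M] [IsScalarTower R S M]
variable {N' : Type u} [AddCommGroup N'] [Module S' N'] [Module R N'] [IsScalarTower R S' N']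
  [Module S N'] [IsScalarTower S S' N'] [IsScalarTower R S N']

/-- restriction of a differential operator on `S' ⊗ M` to `M` -/
lemma isDiffOpLE_comp_mk (k : ℕ) : ∀ (D' : S' ⊗[S] M →ₗ[R] N'),
    IsDiffOpLE R S' (S' ⊗[S] M) N' k D' →
    IsDiffOpLE R S M N' k (D' ∘ₗ (TensorProduct.mk S S' M 1).restrictScalars R) := by
  induction k with
  | zero =>
    intro D' hD' s m
    simp only [LinearMap.coe_comp, LinearMap.coe_restrictScalars, Function.comp_apply,
      TensorProduct.mk_apply]
    rw [← algebraMap_tmul_eq, ← algebraMap_smul S' s (D' _), ← hD',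
      TensorProduct.smul_tmul', smul_eq_mul, mul_one]
  | succ k ih =>
    intro D' hD' s
    have h1 := ih _ (hD' (algebraMap S S' s))
    convert h1 using 1
    ext m
    simp only [commutator_apply, LinearMap.coe_comp, LinearMap.coe_restrictScalars,
      Function.comp_apply, TensorProduct.mk_apply]
    rw [← algebraMap_tmul_eq, TensorProduct.smul_tmul', smul_eq_mul, mul_one, algebraMap_smul]

end

open TensorProduct in
/-- Let R → S → S' be ring maps with S → S' formally étale, M an S-module and (P, D_u) a module of
principal parts of order k of M relative to R → S, i.e. D_u : M → P is a differential operator of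
order at most k through which every differential operator of order at most k from M to an S-module
factors by a unique S-linear map. If D_u' : S' ⊗_S M → S' ⊗_S P is a differential operator of order
at most k relative to R → S' with D_u'(1 ⊗ m) = 1 ⊗ D_u(m), then (S' ⊗_S P, D_u') is a module of
principal parts of order k of S' ⊗_S M relative to R → S'. (The published statement writes this as
an identification of S' ⊗_S P^k_{S/R}(M) with P^k_{S'/R}(M') and forms M' by base change over R
rather than over S; with base change over R the identification fails already for k = 0, R the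
rationals, S = S' a polynomial ring in one variable and M = S, and the published proof computes with
the base change over S, used here. Target modules are taken in one universe.) -/
theorem result (R S S' : Type u) [CommRing R]
    [CommRing S] [CommRing S'] [Algebra R S] [Algebra R S'] [Algebra S S'] [IsScalarTower R S S']
    [Algebra.FormallyEtale S S'] (M : Type u) [AddCommGroup M] [Module S M] [Module R M]
    [IsScalarTower R S M] (k : ℕ) (P : Type u) [AddCommGroup P] [Module S P] [Module R P]
    [IsScalarTower R S P] (Du : M →ₗ[R] P) (hDu : Diff16.IsDiffOpLE R S M P k Du)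
    (huniv : ∀ (N : Type u) [AddCommGroup N] [Module S N] [Module R N] [IsScalarTower R S N]
      (D : M →ₗ[R] N), Diff16.IsDiffOpLE R S M N k D → ∃! α : P →ₗ[S] N, α.restrictScalars R ∘ₗ Du = D)
    (Du' : S' ⊗[S] M →ₗ[R] S' ⊗[S] P) (hDu' : Diff16.IsDiffOpLE R S' (S' ⊗[S] M) (S' ⊗[S] P) k Du')
    (hext : Du' ∘ₗ (TensorProduct.mk S S' M 1).restrictScalars R =
      (TensorProduct.mk S S' P 1).restrictScalars R ∘ₗ Du) :
    ∀ (N' : Type u) [AddCommGroup N'] [Module S' N'] [Module R N'] [IsScalarTower R S' N']
      (D' : S' ⊗[S] M →ₗ[R] N'), Diff16.IsDiffOpLE R S' (S' ⊗[S] M) N' k D' →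
        ∃! α : S' ⊗[S] P →ₗ[S'] N', α.restrictScalars R ∘ₗ Du' = D' := by
  intro N' _ _ _ _ D' hD'
  letI : Module S N' := Module.compHom N' (algebraMap S S')
  haveI : IsScalarTower S S' N' := IsScalarTower.of_algebraMap_smul fun _ _ => rfl
  haveI : IsScalarTower R S N' := by
    refine ⟨fun r s n => ?_⟩
    change (algebraMap S S' (r • s)) • n = r • ((algebraMap S S' s) • n)
    rw [Algebra.smul_def, map_mul, ← IsScalarTower.algebraMap_apply, ← Algebra.smul_def, smul_assoc]
  haveI : Algebra.FormallyUnramified S S' := ⟨inferInstance⟩
  obtain ⟨β, hβ, hβu⟩ := huniv N' (D' ∘ₗ (TensorProduct.mk S S' M 1).restrictScalars R)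
    (isDiffOpLE_comp_mk k D' hD')
  have hβ' : ∀ m, β (Du m) = D' ((1 : S') ⊗ₜ[S] m) := fun m => LinearMap.congr_fun hβ m
  have hext' : ∀ m, Du' ((1 : S') ⊗ₜ[S] m) = (1 : S') ⊗ₜ[S] Du m := fun m =>
    LinearMap.congr_fun hext m
  refine ⟨β.liftBaseChange S', ?_, ?_⟩
  · change (β.liftBaseChange S').restrictScalars R ∘ₗ Du' = D'
    rw [← sub_eq_zero]
    have h0 : IsDiffOpLE R S' (S' ⊗[S] P) N' 0 ((β.liftBaseChange S').restrictScalars R) :=
      fun b t => by simp
    have h1 := isDiffOpLE_comp hDu' h0
    rw [add_zero] at h1
    refine eq_zero_of_vanish_on_mk k _ (isDiffOpLE_sub h1 hD') ?_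
    intro m
    rw [LinearMap.sub_apply, LinearMap.comp_apply, hext', LinearMap.coe_restrictScalars,
      LinearMap.liftBaseChange_tmul, one_smul, hβ', sub_self]
  · intro α' hα'
    have hα'' : ∀ t, α' (Du' t) = D' t := fun t => LinearMap.congr_fun hα' t
    have hβ2 : (α'.restrictScalars S ∘ₗ TensorProduct.mk S S' P 1) = β := by
      apply hβu
      ext m
      simp only [LinearMap.coe_comp, LinearMap.coe_restrictScalars, Function.comp_apply,
        TensorProduct.mk_apply]
      rw [← hext', hα'']
    apply TensorProduct.AlgebraTensorModule.curry_injective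
    ext p
    simp only [TensorProduct.AlgebraTensorModule.curry_apply, LinearMap.restrictScalars_self,
      TensorProduct.curry_apply, LinearMap.liftBaseChange_tmul, one_smul]
    rw [← hβ2]
    simp only [LinearMap.coe_restrictScalars, LinearMap.liftBaseChange_tmul, one_smul,
      LinearMap.coe_comp, Function.comp_apply, TensorProduct.mk_apply]

end Groth.Agent.S9472
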