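import Groth.Statements.S9473
import Mathlib
import Groth.Agent.Lib.Helper22.StrictHensTensor

set_option autoImplicit false
universe u
open Hensel

namespace Groth.Agent.S9473

section aux

open IsLocalRing TensorProduct

/-- abstract integrality lemma for the "localized" hypothesis -/
theorem isIntegral_of_mem_adjoin_range
    (A B : Type u) [CommRing A] [CommRing B] [Algebra A B]
    (pA : Ideal A) [pA.IsPrime] (pB : Ideal B) [pB.IsPrime]
    (AP BP : Type u) [CommRing AP] [CommRing BP] [Algebra A AP] [IsLocalization.AtPrime AP pA]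
    [Algebra B BP] [IsLocalization.AtPrime BP pB] [Algebra A BP] [IsScalarTower A B BP]
    [Algebra AP BP] [IsScalarTower A AP BP]
    (hB : ∀ s : Finset BP, ∃ B₀ : Subalgebra AP BP, (↑s : Set BP) ⊆ ↑B₀ ∧
      Algebra.FiniteType AP ↥B₀ ∧ Algebra.QuasiFinite AP ↥B₀)
    (Ash : Type u) [CommRing Ash] [HenselianLocalRing Ash] [Algebra A Ash] [Algebra AP Ash]
    [IsScalarTower A AP Ash]
    (L : Type u) [CommRing L] [IsLocalRing L] [Algebra Ash L] [IsLocalHom (algebraMap Ash L)]
    (γ : B →+* L) (hγ : ∀ a : A, γ (algebraMap A B a) = algebraMap Ash L (algebraMap A Ash a))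
    (hγu : ∀ b : B, b ∉ pB → IsUnit (γ b))
    (x s t : L) (hs : s ∈ Algebra.adjoin Ash (Set.range γ))
    (ht : t ∈ Algebra.adjoin Ash (Set.range γ)) (hsu : IsUnit s) (hx : x * s = t) :
    IsIntegral Ash x := by
  classical
  letI algAPL : Algebra AP L := ((algebraMap Ash L).comp (algebraMap AP Ash)).toAlgebra
  haveI towAPL : IsScalarTower AP Ash L := IsScalarTower.of_algebraMap_eq (fun _ => rfl)
  have hγu' : ∀ y : pB.primeCompl, IsUnit (γ y) := fun y => hγu y y.2
  let β₀ : BP →+* L := IsLocalization.lift hγu'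
  have hβ₀ : ∀ b, β₀ (algebraMap B BP b) = γ b := fun b => IsLocalization.lift_eq hγu' b
  have hcomm : ∀ y : AP, β₀ (algebraMap AP BP y) = algebraMap AP L y := by
    intro y
    have : β₀.comp (algebraMap AP BP) = algebraMap AP L := by
      apply IsLocalization.ringHom_ext pA.primeCompl
      refine RingHom.ext (fun a => ?_)
      simp only [RingHom.comp_apply]
      rw [← IsScalarTower.algebraMap_apply A AP BP, IsScalarTower.algebraMap_apply A B BP, hβ₀, hγ,
        IsScalarTower.algebraMap_apply A AP Ash]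
      rfl
    exact RingHom.congr_fun this y
  let β : BP →ₐ[AP] L := { toRingHom := β₀, commutes' := hcomm }
  have hβ : ∀ b, β (algebraMap B BP b) = γ b := hβ₀
  -- the maps `ρ`
  let ρ : ∀ B₀ : Subalgebra AP BP, Ash ⊗[AP] B₀ →ₐ[Ash] L := fun B₀ =>
    Algebra.TensorProduct.lift (Algebra.ofId Ash L) (β.comp B₀.val) (fun _ _ => Commute.all _ _)
  have hρ : ∀ (B₀ : Subalgebra AP BP) (a : Ash) (b : B₀), ρ B₀ (a ⊗ₜ[AP] b) =
      algebraMap Ash L a * β (b : BP) := by
    intro B₀ a b
    simp only [ρ, Algebra.TensorProduct.lift_tmul]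
    rfl
  have key : ∀ z ∈ Algebra.adjoin Ash (Set.range γ), ∃ F : Finset BP,
      ∀ B₀ : Subalgebra AP BP, (↑F : Set BP) ⊆ ↑B₀ → z ∈ Set.range (ρ B₀) := by
    intro z hz
    induction hz using Algebra.adjoin_induction with
    | mem z hz =>
      obtain ⟨b, rfl⟩ := hz
      refine ⟨{algebraMap B BP b}, fun B₀ h => ⟨(1 : Ash) ⊗ₜ[AP] (⟨algebraMap B BP b, h (by simp)⟩ : B₀), ?_⟩⟩
      rw [hρ, map_one, one_mul]
      exact hβ b
    | algebraMap r =>
      refine ⟨∅, fun B₀ _ => ⟨r ⊗ₜ[AP] (1 : B₀), ?_⟩⟩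
      rw [hρ]
      simp
    | add z w _ _ hz hw =>
      obtain ⟨F₁, h₁⟩ := hz
      obtain ⟨F₂, h₂⟩ := hw
      refine ⟨F₁ ∪ F₂, fun B₀ h => ?_⟩
      obtain ⟨z', hz'⟩ := h₁ B₀ (fun u hu => h (by simp [Finset.mem_coe.mp hu]))
      obtain ⟨w', hw'⟩ := h₂ B₀ (fun u hu => h (by simp [Finset.mem_coe.mp hu]))
      exact ⟨z' + w', by rw [map_add, hz', hw']⟩
    | mul z w _ _ hz hw =>
      obtain ⟨F₁, h₁⟩ := hz
      obtain ⟨F₂, h₂⟩ := hw
      refine ⟨F₁ ∪ F₂, fun B₀ h => ?_⟩
      obtain ⟨z', hz'⟩ := h₁ B₀ (fun u hu => h (by simp [Finset.mem_coe.mp hu]))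
      obtain ⟨w', hw'⟩ := h₂ B₀ (fun u hu => h (by simp [Finset.mem_coe.mp hu]))
      exact ⟨z' * w', by rw [map_mul, hz', hw']⟩
  obtain ⟨F₁, hF₁⟩ := key t ht
  obtain ⟨F₂, hF₂⟩ := key s hs
  obtain ⟨B₀, hsub, hft, hqf⟩ := hB (F₁ ∪ F₂)
  obtain ⟨t'', ht''⟩ := hF₁ B₀ (fun z hz => hsub (by simp [Finset.mem_coe.mp hz]))
  obtain ⟨s'', hs''⟩ := hF₂ B₀ (fun z hz => hsub (by simp [Finset.mem_coe.mp hz]))
  haveI := hft
  haveI := hqf
  refine Groth.Agent.Lib.Helper22.StrictHensTensor.isIntegral_of_quasiFinite_range Ash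
    L (Ash ⊗[AP] B₀) (ρ B₀) t'' s'' x ?_ ?_
  · rw [hs'']; exact hsu
  · rw [hs'', ht'']; exact hx

end aux

open TensorProduct in
/-- Let A → B and A → C be ring maps, D = B ⊗_A C, and p_D a prime of D with images p_B, p_C, p_A in B,
C, A. Let A^{sh}, B^{sh}, C^{sh}, D^{sh} be strict henselizations of the local rings A_{p_A},
B_{p_B}, C_{p_C}, D_{p_D}, equipped with local homomorphisms A^{sh} → B^{sh} → D^{sh} and A^{sh} →
C^{sh} → D^{sh} forming a commutative square compatible with A → B → D and A → C → D (such maps are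
the ones attached to a compatible choice of residue-field embeddings into one separably closed
field, and are unique given that choice). If B_{p_B}, an A_{p_A}-algebra through the induced map, is
a filtered colimit of quasi-finite A_{p_A}-algebras — every finite subset of B_{p_B} lies in an
A_{p_A}-subalgebra of finite type which is quasi-finite — then the induced A^{sh}-algebra map B^{sh}
⊗_{A^{sh}} C^{sh} → D^{sh} is bijective. -/
theorem result (A B C : Type u) [CommRing A] [CommRing B]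
    [CommRing C] [Algebra A B] [Algebra A C]
    (pA : Ideal A) [pA.IsPrime] (pB : Ideal B) [pB.IsPrime] [pB.LiesOver pA]
    (pC : Ideal C) [pC.IsPrime] [pC.LiesOver pA]
    (pD : Ideal (B ⊗[A] C)) [pD.IsPrime] [pD.LiesOver pB]
    (hDC : pD.comap (Algebra.TensorProduct.includeRight : C →ₐ[A] B ⊗[A] C).toRingHom = pC)
    (Ash : Type u) [CommRing Ash] [IsLocalRing Ash] [Algebra (Localization.AtPrime pA) Ash]
    [IsLocalHom (algebraMap (Localization.AtPrime pA) Ash)]
    [Hensel.IsStrictHenselization (Localization.AtPrime pA) Ash] [Algebra A Ash]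
    [IsScalarTower A (Localization.AtPrime pA) Ash]
    (Bsh : Type u) [CommRing Bsh] [IsLocalRing Bsh] [Algebra (Localization.AtPrime pB) Bsh]
    [IsLocalHom (algebraMap (Localization.AtPrime pB) Bsh)]
    [Hensel.IsStrictHenselization (Localization.AtPrime pB) Bsh] [Algebra B Bsh]
    [IsScalarTower B (Localization.AtPrime pB) Bsh] [Algebra A Bsh] [IsScalarTower A B Bsh]
    [Algebra Ash Bsh] [IsScalarTower A Ash Bsh] [IsLocalHom (algebraMap Ash Bsh)]
    (Csh : Type u) [CommRing Csh] [IsLocalRing Csh] [Algebra (Localization.AtPrime pC) Csh]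
    [IsLocalHom (algebraMap (Localization.AtPrime pC) Csh)]
    [Hensel.IsStrictHenselization (Localization.AtPrime pC) Csh] [Algebra C Csh]
    [IsScalarTower C (Localization.AtPrime pC) Csh] [Algebra A Csh] [IsScalarTower A C Csh]
    [Algebra Ash Csh] [IsScalarTower A Ash Csh] [IsLocalHom (algebraMap Ash Csh)]
    (Dsh : Type u) [CommRing Dsh] [IsLocalRing Dsh] [Algebra (Localization.AtPrime pD) Dsh]
    [IsLocalHom (algebraMap (Localization.AtPrime pD) Dsh)]
    [Hensel.IsStrictHenselization (Localization.AtPrime pD) Dsh] [Algebra (B ⊗[A] C) Dsh]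
    [IsScalarTower (B ⊗[A] C) (Localization.AtPrime pD) Dsh]
    [Algebra Bsh Dsh] [IsLocalHom (algebraMap Bsh Dsh)] [Algebra B Dsh] [IsScalarTower B Bsh Dsh]
    [IsScalarTower B (B ⊗[A] C) Dsh]
    [Algebra Csh Dsh] [IsLocalHom (algebraMap Csh Dsh)]
    (hC : ∀ c : C, algebraMap Csh Dsh (algebraMap C Csh c) = algebraMap (B ⊗[A] C) Dsh (1 ⊗ₜ[A] c))
    [Algebra Ash Dsh] [IsScalarTower Ash Bsh Dsh] [IsScalarTower Ash Csh Dsh]
    [Algebra (Localization.AtPrime pA) (Localization.AtPrime pB)]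
    [IsScalarTower A (Localization.AtPrime pA) (Localization.AtPrime pB)]
    (hB : ∀ s : Finset (Localization.AtPrime pB),
      ∃ B₀ : Subalgebra (Localization.AtPrime pA) (Localization.AtPrime pB),
        (↑s : Set (Localization.AtPrime pB)) ⊆ ↑B₀ ∧
          Algebra.FiniteType (Localization.AtPrime pA) ↥B₀ ∧
            Algebra.QuasiFinite (Localization.AtPrime pA) ↥B₀) :
    Function.Bijective (Algebra.TensorProduct.lift (IsScalarTower.toAlgHom Ash Bsh Dsh)
      (IsScalarTower.toAlgHom Ash Csh Dsh) (fun _ _ => Commute.all _ _)) := by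
  classical
  apply Groth.Agent.Lib.Helper22.StrictHensTensor.tensor_bijective_of_isIntegral
    A B C pA pB pC pD hDC Ash Bsh Csh Dsh hC
  haveI hAshH : HenselianLocalRing Ash :=
    Hensel.IsStrictHenselization.henselian (R := Localization.AtPrime pA)
  haveI := Groth.Agent.Lib.Helper22.StrictHensTensor.isLocalHom_loc A B pA pB Ash Bsh
  set φ : Ash ⊗[A] B →ₐ[A] Bsh := Algebra.TensorProduct.lift
        (IsScalarTower.toAlgHom A Ash Bsh) (IsScalarTower.toAlgHom A B Bsh)
        (fun _ _ => Commute.all _ _) with hφ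
  set Q : Ideal (Ash ⊗[A] B) := Ideal.comap φ (IsLocalRing.maximalIdeal Bsh) with hQ
  have hφr : ∀ s : B, φ ((1 : Ash) ⊗ₜ[A] s) = algebraMap B Bsh s := by
    intro s
    rw [hφ, Algebra.TensorProduct.lift_tmul, map_one, one_mul]
    rfl
  have hcomapS : (IsLocalRing.maximalIdeal Bsh).comap (algebraMap B Bsh) = pB := by
    rw [IsScalarTower.algebraMap_eq B (Localization.AtPrime pB) Bsh, ← Ideal.comap_comap,
      Groth.Agent.Lib.Helper22.StrictHensTensor.comap_maximalIdeal_of_isLocalHom]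
    exact IsLocalization.AtPrime.under_maximalIdeal (Localization.AtPrime pB) pB
  let γ : B →+* Localization.AtPrime Q :=
    (algebraMap (Ash ⊗[A] B) (Localization.AtPrime Q)).comp
      (Algebra.TensorProduct.includeRight : B →ₐ[A] Ash ⊗[A] B).toRingHom
  have hγ' : ∀ b, γ b = algebraMap (Ash ⊗[A] B) (Localization.AtPrime Q) ((1 : Ash) ⊗ₜ[A] b) :=
    fun b => rfl
  have hγ : ∀ a : A, γ (algebraMap A B a) =
      algebraMap Ash (Localization.AtPrime Q) (algebraMap A Ash a) := by
    intro a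
    rw [hγ', IsScalarTower.algebraMap_apply Ash (Ash ⊗[A] B) (Localization.AtPrime Q)]
    congr 1
    rw [Algebra.TensorProduct.algebraMap_apply, Algebra.algebraMap_self, RingHom.id_apply,
      Algebra.algebraMap_eq_smul_one, Algebra.algebraMap_eq_smul_one, TensorProduct.smul_tmul]
  have hγu : ∀ b : B, b ∉ pB → IsUnit (γ b) := by
    intro b hb
    rw [hγ']
    refine IsLocalization.map_units (Localization.AtPrime Q) (⟨(1 : Ash) ⊗ₜ[A] b, ?_⟩ : Q.primeCompl)
    intro h
    have h' : φ ((1 : Ash) ⊗ₜ[A] b) ∈ IsLocalRing.maximalIdeal Bsh := h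
    rw [hφr] at h'
    rw [← hcomapS] at hb
    exact hb h'
  have hmem : ∀ t : Ash ⊗[A] B, algebraMap (Ash ⊗[A] B) (Localization.AtPrime Q) t ∈
      Algebra.adjoin Ash (Set.range γ) := by
    intro t
    induction t using TensorProduct.induction_on with
    | zero => rw [map_zero]; exact Subalgebra.zero_mem _
    | tmul a b =>
      have : a ⊗ₜ[A] b = a • ((1 : Ash) ⊗ₜ[A] b) := by
        rw [TensorProduct.smul_tmul', smul_eq_mul, mul_one]
      rw [this, Algebra.smul_def, map_mul, ← IsScalarTower.algebraMap_apply, ← hγ']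
      exact Subalgebra.mul_mem _ (Subalgebra.algebraMap_mem _ _)
        (Algebra.subset_adjoin ⟨b, rfl⟩)
    | add x y hx hy => rw [map_add]; exact Subalgebra.add_mem _ hx hy
  refine ⟨fun x => ?_⟩
  obtain ⟨⟨t, s⟩, rfl⟩ := IsLocalization.mk'_surjective Q.primeCompl x
  exact isIntegral_of_mem_adjoin_range A B pA pB (Localization.AtPrime pA)
    (Localization.AtPrime pB) hB Ash (Localization.AtPrime Q) γ hγ hγu _
    (algebraMap (Ash ⊗[A] B) (Localization.AtPrime Q) s)
    (algebraMap (Ash ⊗[A] B) (Localization.AtPrime Q) t) (hmem s) (hmem t)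
    (IsLocalization.map_units _ s) (IsLocalization.mk'_spec _ t s)

end Groth.Agent.S9473
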