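import Groth.Statements.S9474
import Groth.Agent.Lib.Helper5.UnramQuot
import Groth.Agent.S12085

set_option autoImplicit false
universe u
open CAlg

namespace Groth.Agent.S9474

open TensorProduct in
/-- If R → S is unramified (of finite type with vanishing module of differentials), then there are a
finite type ℤ-algebra R₀, an unramified R₀-algebra S₀, a ring map R₀ → R, and a surjective R-algebra
map from R ⊗_{R₀} S₀ onto S. -/
theorem result (R : Type u) [CommRing R] (S : Type u)
    [CommRing S] [Algebra R S] [Algebra.Unramified R S] :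
    ∃ (R₀ : Type u) (_ : CommRing R₀) (_ : Algebra.FiniteType ℤ R₀) (S₀ : Type u) (_ : CommRing S₀)
      (_ : Algebra R₀ S₀) (_ : Algebra.Unramified R₀ S₀) (_ : Algebra R₀ R)
      (ψ : R ⊗[R₀] S₀ →ₐ[R] S), Function.Surjective ψ := by
  have hfu : Algebra.FormallyUnramified R S := inferInstance
  have hft : Algebra.FiniteType R S := inferInstance
  obtain ⟨S', _, _, hfp, hfu', φ, hφ⟩ :=
    Groth.Agent.Lib.helper5.UnramQuot.exists_finitePresentation_formallyUnramified_surjective R S
  obtain ⟨R₀, _, hR₀, S₀, _, _, hS₀fp, hS₀fu, _, ⟨e⟩⟩ := Groth.Agent.S12085.result R S'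
  have hS₀ft : Algebra.FiniteType R₀ S₀ := inferInstance
  exact ⟨R₀, inferInstance, hR₀, S₀, inferInstance, inferInstance, ⟨hS₀fu, hS₀ft⟩, inferInstance,
    φ.comp e.toAlgHom, hφ.comp e.surjective⟩

end Groth.Agent.S9474
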