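import Groth.Statements.S9485
-- import your own Groth.Agent.* helpers here
import Groth.Agent.Lib.Helper9.FEtFaithful1

set_option linter.style.haveILetI false
set_option backward.isDefEq.respectTransparency false

set_option autoImplicit false
universe u
open Pi1

namespace Groth.Agent.S9485

open AlgebraicGeometry CategoryTheory CategoryTheory.Limits in
/-- Let A be a Noetherian local ring with maximal ideal m and f ∈ m, U the punctured spectrum of A and
U₀ that of A/fA (realised as U ×_{Spec A} Spec(A/fA)). Let U' ⊆ U be an open through which U₀ ⟶ Spec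
A factors (as u'). If dim(A/p) ≥ 2 for every minimal prime p of A which lies in U' and does not
contain f, then restriction of finite etale covers along u' is faithful. (Such U' exist, e.g. the
complement in U of the one-dimensional irreducible components not meeting U₀, and the condition
passes to smaller such opens, so restriction from the system of these opens is faithful.) -/
theorem result (A : Type u) [CommRing A] [IsNoetherianRing A] [IsLocalRing A] (f : A) (hf : f ∈ IsLocalRing.maximalIdeal A)
    (U' : (Spec (CommRingCat.of A)).Opens) (hU' : U' ≤ FEt.puncturedSpec A)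
    (u' : pullback (FEt.puncturedSpec A).ι (Spec.map (CommRingCat.ofHom (Ideal.Quotient.mk (Ideal.span {f})))) ⟶ (U' : Scheme.{u})) (hu' : u' ≫ U'.ι = (pullback.fst (FEt.puncturedSpec A).ι (Spec.map (CommRingCat.ofHom (Ideal.Quotient.mk (Ideal.span {f})))) ≫ (FEt.puncturedSpec A).ι))
    (hdim : ∀ p : PrimeSpectrum A, p.asIdeal ∈ minimalPrimes A → p ∈ U' → f ∉ p.asIdeal →
      (2 : WithBot ℕ∞) ≤ ringKrullDim (A ⧸ p.asIdeal)) :
    (FEt.restrict u').Faithful := by
  classical
  apply Groth.Agent.Lib.helper9.FEtFaithful.faithful_of_clopen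
  intro T hT hTne
  -- points of `U'` containing `f` are in the range of `u'`
  have hrange : ∀ q : PrimeSpectrum A, ∀ hq : q ∈ U', f ∈ q.asIdeal →
      (⟨q, hq⟩ : U') ∈ Set.range u'.base := by
    intro q hq hfq
    have h1 : (⟨q, hU' hq⟩ : FEt.puncturedSpec A) ∈ Set.range
        (pullback.fst (FEt.puncturedSpec A).ι
          (Spec.map (CommRingCat.ofHom (Ideal.Quotient.mk (Ideal.span {f}))))).base := by
      rw [Scheme.Pullback.range_fst]
      have h2 : Set.range (PrimeSpectrum.comap (Ideal.Quotient.mk (Ideal.span {f}))) =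
          PrimeSpectrum.zeroLocus (RingHom.ker (Ideal.Quotient.mk (Ideal.span {f}))) :=
        range_comap_of_surjective _ _ Ideal.Quotient.mk_surjective
      have h2' : q ∈ Set.range (PrimeSpectrum.comap (Ideal.Quotient.mk (Ideal.span {f}))) := by
        rw [h2, Ideal.mk_ker, PrimeSpectrum.mem_zeroLocus, SetLike.coe_subset_coe,
          Ideal.span_singleton_le_iff_mem]
        exact hfq
      exact h2'
    obtain ⟨w, hw⟩ := h1
    refine ⟨w, ?_⟩
    apply U'.ι.injective
    have h3 : U'.ι.base (u'.base w) = (FEt.puncturedSpec A).ι.base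
        ((pullback.fst (FEt.puncturedSpec A).ι
          (Spec.map (CommRingCat.ofHom (Ideal.Quotient.mk (Ideal.span {f}))))).base w) := by
      rw [← Scheme.Hom.comp_apply, ← Scheme.Hom.comp_apply, hu']
    rw [h3, hw]
    rfl
  obtain ⟨x, hx⟩ := hTne
  obtain ⟨p, hpmin, hpx⟩ := Ideal.exists_minimalPrimes_le (I := (⊥ : Ideal A))
    (J := x.1.asIdeal) bot_le
  haveI hpprime : p.IsPrime := hpmin.1.1
  let p' : PrimeSpectrum A := ⟨p, hpprime⟩
  have hspec : p' ⤳ x.1 := (PrimeSpectrum.le_iff_specializes p' x.1).1 hpx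
  have hp'U : p' ∈ U' := hspec.mem_open U'.2 x.2
  have hspec' : (⟨(p' : ↥(Spec (CommRingCat.of A))), hp'U⟩ : U') ⤳ x :=
    (Topology.IsInducing.subtypeVal.specializes_iff).1 hspec
  have hp'T : (⟨(p' : ↥(Spec (CommRingCat.of A))), hp'U⟩ : U') ∈ T := hspec'.mem_open hT.2 hx
  by_cases hfp : f ∈ p
  · exact ⟨⟨p', hp'U⟩, hp'T, hrange p' hp'U hfp⟩
  · have hdim2 := hdim p' hpmin hp'U hfp
    -- find a non-maximal prime containing `p` and `f`
    let B := A ⧸ p
    haveI : IsDomain B := Ideal.Quotient.isDomain p
    haveI : Nontrivial B := inferInstance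
    haveI : IsLocalRing B := IsLocalRing.of_surjective' (Ideal.Quotient.mk p)
      Ideal.Quotient.mk_surjective
    let fb : B := Ideal.Quotient.mk p f
    have hfb : fb ∈ IsLocalRing.maximalIdeal B := by
      rw [IsLocalRing.mem_maximalIdeal, mem_nonunits_iff]
      intro hu
      have : IsUnit f := by
        have hloc : IsLocalHom (Ideal.Quotient.mk p) :=
          IsLocalHom.of_surjective _ Ideal.Quotient.mk_surjective
        exact isUnit_of_map_unit (Ideal.Quotient.mk p) f hu
      exact hf this
    haveI : IsNoetherianRing B := Ideal.Quotient.isNoetherianRing p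
    obtain ⟨Q, hQmin, hQle⟩ := Ideal.exists_minimalPrimes_le (I := Ideal.span {fb})
      (J := IsLocalRing.maximalIdeal B) (by rw [Ideal.span_singleton_le_iff_mem]; exact hfb)
    haveI hQprime : Q.IsPrime := hQmin.1.1
    have hQht : Q.height ≤ 1 :=
      Ideal.height_le_one_of_isPrincipal_of_mem_minimalPrimes (Ideal.span {fb}) Q hQmin
    have hQne : Q ≠ IsLocalRing.maximalIdeal B := by
      intro hQeq
      have h1 : ((IsLocalRing.maximalIdeal B).height : WithBot ℕ∞) ≤ ((1 : ℕ∞) : WithBot ℕ∞) := by
        rw [← hQeq]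
        exact WithBot.coe_le_coe.2 hQht
      rw [IsLocalRing.maximalIdeal_height_eq_ringKrullDim] at h1
      have h2 : (2 : WithBot ℕ∞) ≤ ((1 : ℕ∞) : WithBot ℕ∞) := hdim2.trans h1
      have h3 : ((2 : ℕ∞) : WithBot ℕ∞) ≤ ((1 : ℕ∞) : WithBot ℕ∞) := h2
      rw [WithBot.coe_le_coe] at h3
      exact absurd h3 (by decide)
    -- an element of the maximal ideal of `B` outside `Q`
    obtain ⟨y, hym, hyQ⟩ : ∃ y, y ∈ IsLocalRing.maximalIdeal B ∧ y ∉ Q := by
      by_contra hcon
      push Not at hcon
      exact hQne (le_antisymm hQle hcon)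
    obtain ⟨a, rfl⟩ := Ideal.Quotient.mk_surjective y
    let q : PrimeSpectrum A := ⟨Q.comap (Ideal.Quotient.mk p), inferInstance⟩
    have hpq : p ≤ q.asIdeal := by
      intro z hz
      show Ideal.Quotient.mk p z ∈ Q
      rw [Ideal.Quotient.eq_zero_iff_mem.2 hz]
      exact Q.zero_mem
    have hfq : f ∈ q.asIdeal := by
      show fb ∈ Q
      exact hQmin.1.2 (Ideal.mem_span_singleton_self fb)
    have haq : a ∉ q.asIdeal := hyQ
    have ham : a ∈ IsLocalRing.maximalIdeal A := by
      rw [IsLocalRing.mem_maximalIdeal, mem_nonunits_iff]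
      intro hu
      exact ((IsLocalRing.mem_maximalIdeal _).1 hym) (hu.map (Ideal.Quotient.mk p))
    have hqpunct : q ∈ FEt.puncturedSpec A := by
      show q ∈ ({IsLocalRing.closedPoint A}ᶜ : Set (PrimeSpectrum A))
      rw [Set.mem_compl_iff, Set.mem_singleton_iff]
      intro hq
      apply haq
      rw [hq]
      exact ham
    -- `q` lies in the range of `u'`, hence in `U'`
    have hqrange : q ∈ Set.range (pullback.fst (FEt.puncturedSpec A).ι
        (Spec.map (CommRingCat.ofHom (Ideal.Quotient.mk (Ideal.span {f})))) ≫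
          (FEt.puncturedSpec A).ι).base := by
      have h1 : (⟨q, hqpunct⟩ : FEt.puncturedSpec A) ∈ Set.range
          (pullback.fst (FEt.puncturedSpec A).ι
            (Spec.map (CommRingCat.ofHom (Ideal.Quotient.mk (Ideal.span {f}))))).base := by
        rw [Scheme.Pullback.range_fst]
        have h2 : Set.range (PrimeSpectrum.comap (Ideal.Quotient.mk (Ideal.span {f}))) =
            PrimeSpectrum.zeroLocus (RingHom.ker (Ideal.Quotient.mk (Ideal.span {f}))) :=
          range_comap_of_surjective _ _ Ideal.Quotient.mk_surjective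
        have h2' : q ∈ Set.range (PrimeSpectrum.comap (Ideal.Quotient.mk (Ideal.span {f}))) := by
          rw [h2, Ideal.mk_ker, PrimeSpectrum.mem_zeroLocus, SetLike.coe_subset_coe,
            Ideal.span_singleton_le_iff_mem]
          exact hfq
        exact h2'
      obtain ⟨w, hw⟩ := h1
      refine ⟨w, ?_⟩
      rw [Scheme.Hom.comp_apply, hw]
      rfl
    rw [← hu'] at hqrange
    obtain ⟨w, hw⟩ := hqrange
    have hqU : q ∈ U' := by
      rw [← hw, Scheme.Hom.comp_apply]
      exact (u'.base w).2
    have hspecq : p' ⤳ q := (PrimeSpectrum.le_iff_specializes p' q).1 hpq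
    have hspecq' : (⟨(p' : ↥(Spec (CommRingCat.of A))), hp'U⟩ : U') ⤳
        (⟨(q : ↥(Spec (CommRingCat.of A))), hqU⟩ : U') :=
      (Topology.IsInducing.subtypeVal.specializes_iff).1 hspecq
    exact ⟨⟨q, hqU⟩, hspecq'.mem_closed hT.1 hp'T, hrange q hqU hfq⟩

end Groth.Agent.S9485
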