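import Groth.Statements.S9491
import Groth.Agent.Lib.Helper18.GenNorm4

set_option autoImplicit false
universe u
open Pi1

namespace Groth.Agent.S9491

open AlgebraicGeometry CategoryTheory CategoryTheory.Limits in
/-- The essential image of restriction of finite etale covers from a normal integral scheme X to its
generic point Spec K consists of the finite etale K-schemes whose points are spectra of finite
extensions L of K in which X is unramified. Precisely: let L be a finite field extension of K and Y₀
the object Spec L → Spec K of the category of finite etale covers of Spec K; then Y₀ is isomorphic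
to the restriction of a finite etale cover of X if and only if the normalization of X in Spec L is
finite etale over X. (With full faithfulness of this restriction functor for normal X, this says
that the fundamental group of X is the Galois group of the union M of all finite subextensions of a
separable closure in which X is unramified.) -/
theorem result {X : Scheme.{u}} [IsIntegral X] (hX : Pi1.IsNormalScheme X)
    (L : Type u) [Field L] [Algebra X.functionField L] [FiniteDimensional X.functionField L]
    [QuasiCompact (Spec.map (CommRingCat.ofHom (algebraMap X.functionField L)) ≫ X.fromSpecStalk (genericPoint X))] [QuasiSeparated (Spec.map (CommRingCat.ofHom (algebraMap X.functionField L)) ≫ X.fromSpecStalk (genericPoint X))]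
    (Y₀ : FEt.Cat (Spec X.functionField)) (e : Y₀.left ≅ Spec (CommRingCat.of L))
    (he : e.hom ≫ Spec.map (CommRingCat.ofHom (algebraMap X.functionField L)) = Y₀.hom) :
    (FEt.restrict (X.fromSpecStalk (genericPoint X))).essImage Y₀ ↔
      (Etale (Spec.map (CommRingCat.ofHom (algebraMap X.functionField L)) ≫ X.fromSpecStalk (genericPoint X)).fromNormalization ∧ IsFinite (Spec.map (CommRingCat.ofHom (algebraMap X.functionField L)) ≫ X.fromSpecStalk (genericPoint X)).fromNormalization) := by
  classical
  haveI : Algebra.IsAlgebraic X.functionField L := inferInstance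
  constructor
  · rintro ⟨T, ⟨φ⟩⟩
    obtain ⟨a, ha⟩ : ∃ a : pullback (T.hom : T.left ⟶ X) (X.fromSpecStalk (genericPoint X)) ⟶
        Y₀.left, a = φ.hom.left := ⟨φ.hom.left, rfl⟩
    obtain ⟨b, hb⟩ : ∃ b : Y₀.left ⟶
        pullback (T.hom : T.left ⟶ X) (X.fromSpecStalk (genericPoint X)),
        b = φ.inv.left := ⟨φ.inv.left, rfl⟩
    have h1 : b ≫ a = 𝟙 _ := by
      rw [ha, hb]
      show (φ.inv ≫ φ.hom).left = 𝟙 _
      rw [φ.inv_hom_id]; rfl
    have h2 : a ≫ b = 𝟙 _ := by
      rw [ha, hb]
      show (φ.hom ≫ φ.inv).left = 𝟙 _
      rw [φ.hom_inv_id]; rfl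
    have h3 : a ≫ Y₀.hom =
        pullback.snd (T.hom : T.left ⟶ X) (X.fromSpecStalk (genericPoint X)) := by
      rw [ha]
      exact CategoryTheory.Over.w φ.hom.hom
    haveI : IsFinite (T.hom : T.left ⟶ X) := T.prop.1
    haveI : Etale (T.hom : T.left ⟶ X) := T.prop.2
    clear ha hb
    let ψ : pullback (T.hom : T.left ⟶ X) (X.fromSpecStalk (genericPoint X)) ≅
        Spec (CommRingCat.of L) :=
      { hom := a ≫ e.hom
        inv := e.inv ≫ b
        hom_inv_id := by
          rw [Category.assoc, e.hom_inv_id_assoc]; exact h2
        inv_hom_id := by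
          rw [Category.assoc, reassoc_of% h1, e.inv_hom_id] }
    have hpb : IsPullback (ψ.inv ≫ pullback.fst (T.hom : T.left ⟶ X)
          (X.fromSpecStalk (genericPoint X)))
        (Spec.map (CommRingCat.ofHom (algebraMap X.functionField L))) (T.hom : T.left ⟶ X)
        (X.fromSpecStalk (genericPoint X)) := by
      refine IsPullback.of_iso (IsPullback.of_hasPullback (T.hom : T.left ⟶ X)
          (X.fromSpecStalk (genericPoint X)))
        ψ (Iso.refl _) (Iso.refl _) (Iso.refl _) ?_ ?_ ?_ ?_
      · simp
      · show pullback.snd _ _ ≫ 𝟙 _ = (a ≫ e.hom) ≫ _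
        rw [Category.comp_id, Category.assoc, he, h3]
      · simp
      · simp
    exact Groth.Agent.Lib.Helper18.GenNorm.etale_and_isFinite_fromNormalization (X := X) L
      (T := T.left) (T.hom : T.left ⟶ X) _ hpb hX
  · rintro ⟨het, hfin⟩
    have hpb := Groth.Agent.Lib.Helper18.GenNorm.isPullback_toNormalization (X := X) L
    let T : FEt.Cat X := MorphismProperty.Over.mk ⊤
      (Spec.map (CommRingCat.ofHom (algebraMap X.functionField L)) ≫
        X.fromSpecStalk (genericPoint X)).fromNormalization ⟨hfin, het⟩
    refine ⟨T, ⟨?_⟩⟩
    let e' : ((FEt.restrict (X.fromSpecStalk (genericPoint X))).obj T).left ≅ Y₀.left :=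
      hpb.isoPullback.symm ≪≫ e.symm
    refine MorphismProperty.Over.isoMk e' ?_
    show (hpb.isoPullback.inv ≫ e.inv) ≫ Y₀.hom = pullback.snd _ _
    rw [Category.assoc, ← he, e.inv_hom_id_assoc]
    exact hpb.isoPullback_inv_snd

end Groth.Agent.S9491
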