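import Groth.Statements.S9494
import Groth.Agent.Lib.Helper22.IndInertia
import Groth.Agent.Lib.Helper22.IndLevels

set_option autoImplicit false
universe u
open Pi1
open Groth.Agent.Lib.helper22.IndInertia

namespace Groth.Agent.S9494

/-- Let A be an integrally closed domain with fraction field K, L/K a (possibly infinite) Galois
extension with group G = Gal(L/K), B the integral closure of A in L and q a prime of B. Let I ⊆ G be
the inertia group of q: the automorphisms σ with σ(b) - b ∈ q for every b ∈ B. Then the localization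
of the ring of invariants B^I = B ∩ L^I at the prime q ∩ B^I is an ind-etale A-algebra, i.e. a
filtered colimit of etale A-algebras. -/
theorem result (A K L : Type u) [CommRing A] [IsDomain A] [IsIntegrallyClosed A]
    [Field K] [Field L] [Algebra A K] [IsFractionRing A K] [Algebra K L] [Algebra A L] [IsScalarTower A K L]
    [IsGalois K L] (q : Ideal (integralClosure A L)) [q.IsPrime]
    (I : Subgroup (L ≃ₐ[K] L))
    (hI : ∀ σ : L ≃ₐ[K] L, σ ∈ I ↔ ∀ b : integralClosure A L, ∃ c ∈ q, (c : L) = σ b - b) :
    EtPBC.IsIndEtale A (Localization.AtPrime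
      (q.comap (Subalgebra.inclusion
        (inf_le_left : integralClosure A L ⊓ (IntermediateField.fixedField I).toSubalgebra.restrictScalars A ≤
          integralClosure A L)))) := by
  classical
  set BI : Subalgebra A L := integralClosure A L ⊓
    (IntermediateField.fixedField I).toSubalgebra.restrictScalars A with hBI
  set incl : BI →ₐ[A] integralClosure A L := Subalgebra.inclusion inf_le_left with hincl
  set qI : Ideal BI := q.comap incl with hqI
  -- the hypothesis on `I`, reformulated
  have hI' : ∀ σ : L ≃ₐ[K] L, σ ∈ I ↔ ∀ b : integralClosure A L, σ • b - b ∈ q := by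
    intro σ
    rw [hI σ]
    constructor
    · intro h b
      obtain ⟨c, hc, hce⟩ := h b
      have : c = σ • b - b := Subtype.ext hce
      rwa [← this]
    · intro h b
      exact ⟨_, h b, rfl⟩
  have hIsub : ∀ N : Subgroup (L ≃ₐ[K] L), (I : Set (L ≃ₐ[K] L)) ⊆ inertiaAt q N :=
    fun N σ hσ y _ => (hI' σ).mp hσ y
  have hle : ∀ N : Subgroup (L ≃ₐ[K] L), fixedAlg q N ≤ BI := by
    intro N x hx
    refine ⟨hx.1, ?_⟩
    show x ∈ IntermediateField.fixedField I
    rw [IntermediateField.mem_fixedField_iff]
    intro σ hσ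
    exact hx.2 σ (hIsub N hσ)
  have hcover : ∀ z : BI, ∃ N : OpenNormalSubgroup (L ≃ₐ[K] L),
      (z : L) ∈ fixedAlg q (N : Subgroup (L ≃ₐ[K] L)) := by
    intro z
    refine exists_level q I (fun σ h => (hI' σ).mpr h) z z.2.1 ?_
    have hz : (z : L) ∈ IntermediateField.fixedField I := z.2.2
    rw [IntermediateField.mem_fixedField_iff] at hz
    exact hz
  haveI hqIprime : qI.IsPrime := Ideal.comap_isPrime _ _
  haveI : Nonempty (OpenNormalSubgroup (L ≃ₐ[K] L)) := by
    obtain ⟨N, -⟩ := ProfiniteGrp.exist_openNormalSubgroup_sub_open_nhds_of_one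
      (G := L ≃ₐ[K] L) isOpen_univ (Set.mem_univ _)
    exact ⟨N⟩
  exact Groth.Agent.Lib.helper22.IndLevels.isIndEtale_of_levels BI qI
    (J := OpenNormalSubgroup (L ≃ₐ[K] L))
    (fun N => fixedAlg q (N : Subgroup (L ≃ₐ[K] L))) (fun N => hle _)
    (fun N N' h => fixedAlg_mono q h) hcover (by
      intro N
      obtain ⟨g, hg, hEt⟩ := exists_etale_away_level q (N : Subgroup (L ≃ₐ[K] L))
      refine ⟨g, ?_, hEt⟩
      intro h
      apply hg
      have : incl (Subalgebra.inclusion (hle _) g) = ⟨g.1, g.2.1⟩ := Subtype.ext rfl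
      rw [← this]
      exact h)

end Groth.Agent.S9494
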