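import Groth.Statements.S9495
import Mathlib.AlgebraicGeometry.Morphisms.QuasiCompact

set_option autoImplicit false
universe u
open SchMor

namespace Groth.Agent.S9495

theorem isClosed_of_openEmbeddings {ι : Type*} {T : ι → Type*} [∀ i, TopologicalSpace (T i)]
    {S : Type*} [TopologicalSpace S] (e : ∀ i, T i → S) (he : ∀ i, Topology.IsOpenEmbedding (e i))
    (hsurj : ∀ s, ∃ i t, e i t = s) (Z : Set S) (h : ∀ i, IsClosed (e i ⁻¹' Z)) : IsClosed Z := by
  rw [← isOpen_compl_iff]
  have : Zᶜ = ⋃ i, e i '' (e i ⁻¹' Zᶜ) := by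
    ext s
    constructor
    · intro hs
      obtain ⟨i, t, rfl⟩ := hsurj s
      exact Set.mem_iUnion.2 ⟨i, t, hs, rfl⟩
    · rintro ⟨_, ⟨i, rfl⟩, t, ht, rfl⟩
      exact ht
  rw [this]
  exact isOpen_iUnion fun i => (he i).isOpenMap _ ((h i).isOpen_compl)

open AlgebraicGeometry in
open CategoryTheory in
/-- For a quasi-compact morphism of schemes f : X → S, the image f(X) is closed in S if and only if it
is stable under specialization. -/
theorem result
    {X S : Scheme.{u}} (f : X ⟶ S) [QuasiCompact f] :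
    IsClosed (Set.range f) ↔ StableUnderSpecialization (Set.range f) := by
  refine ⟨fun h => h.stableUnderSpecialization, fun H => ?_⟩
  refine isClosed_of_openEmbeddings (ι := S.affineOpens) (T := fun U => Spec Γ(S, U.1))
    (fun U => U.2.fromSpec) (fun U => U.2.fromSpec.isOpenEmbedding) ?_ _ ?_
  · intro s
    obtain ⟨_, ⟨U, hU : IsAffineOpen U, rfl⟩, hsU, -⟩ :=
      S.isBasis_affineOpens.exists_subset_of_mem_open (Set.mem_univ s) isOpen_univ
    have : s ∈ Set.range hU.fromSpec := by rw [hU.range_fromSpec]; exact hsU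
    obtain ⟨t, ht⟩ := this
    exact ⟨⟨U, hU⟩, t, ht⟩
  · rintro ⟨U, hU⟩
    -- the preimage of U is compact
    have hc : IsCompact ((f ⁻¹ᵁ U : X.Opens) : Set X) :=
      QuasiCompact.isCompact_preimage (f := f) _ U.isOpen hU.isCompact
    obtain ⟨R, g, hg⟩ := isCompact_iff_exists.mp hc
    have hsub : Set.range (g ≫ f) ⊆ Set.range hU.fromSpec := by
      rw [hU.range_fromSpec]
      rintro _ ⟨t, rfl⟩
      have : g t ∈ ((f ⁻¹ᵁ U : X.Opens) : Set X) := by rw [← hg]; exact ⟨t, rfl⟩
      exact this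
    let h : Spec R ⟶ Spec Γ(S, U) := IsOpenImmersion.lift hU.fromSpec (g ≫ f) hsub
    have hfac : h ≫ hU.fromSpec = g ≫ f := IsOpenImmersion.lift_fac _ _ _
    have hrange : hU.fromSpec ⁻¹' (Set.range f) = Set.range h := by
      ext t
      constructor
      · rintro ⟨x, hx⟩
        have hxU : x ∈ ((f ⁻¹ᵁ U : X.Opens) : Set X) := by
          show f x ∈ (U : Set S)
          rw [hx, ← hU.range_fromSpec]
          exact ⟨t, rfl⟩
        rw [← hg] at hxU
        obtain ⟨r, rfl⟩ := hxU
        refine ⟨r, ?_⟩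
        apply hU.fromSpec.isOpenEmbedding.injective
        rw [← hx, ← Scheme.Hom.comp_apply, hfac, Scheme.Hom.comp_apply]
      · rintro ⟨r, rfl⟩
        refine ⟨g r, ?_⟩
        rw [← Scheme.Hom.comp_apply, ← Scheme.Hom.comp_apply, hfac]
    show IsClosed (hU.fromSpec ⁻¹' (Set.range f))
    have Hpre : StableUnderSpecialization (hU.fromSpec ⁻¹' (Set.range f)) :=
      H.preimage hU.fromSpec.continuous
    rw [hrange] at Hpre ⊢
    obtain ⟨φ, hφ⟩ := Spec.map_surjective h
    rw [← hφ] at Hpre ⊢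
    exact PrimeSpectrum.isClosed_range_of_stableUnderSpecialization φ.hom Hpre

end Groth.Agent.S9495
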