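import Groth.Statements.S9499
import Groth.Agent.Lib.Helper21.MonoField
-- import your own Groth.Agent.* helpers here

set_option autoImplicit false
universe u
open SchMor

namespace Groth.Agent.S9499

open AlgebraicGeometry in
open CategoryTheory in
/-- Let (k_i) be a finite family of fields and f : X → Spec(∏_i k_i) a monomorphism of schemes. Then
there are a subset I of the index set and an isomorphism X ≅ Spec(∏_{i∈I} k_i) over Spec(∏_i k_i),
where Spec(∏_{i∈I} k_i) maps to Spec(∏_i k_i) through the projection ring homomorphism ∏_i k_i →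
∏_{i∈I} k_i. -/
theorem result
    {ι : Type u} [Finite ι] (k : ι → Type u) [∀ i, Field (k i)]
    {X : Scheme.{u}} (f : X ⟶ Spec (CommRingCat.of (Π i, k i))) [Mono f] :
    ∃ (I : Set ι) (e : X ≅ Spec (CommRingCat.of (Π i : I, k i))),
      e.hom ≫ Spec.map (CommRingCat.ofHom (Pi.ringHom fun i : I => Pi.evalRingHom k i.1)) = f := by
  let R : ι → CommRingCat.{u} := fun i => CommRingCat.of (k i)
  let σ : (∐ fun i => Spec (R i)) ⟶ Spec (CommRingCat.of (Π i, k i)) := AlgebraicGeometry.sigmaSpec R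
  haveI : IsIso σ := inferInstanceAs (IsIso (AlgebraicGeometry.sigmaSpec R))
  haveI : Mono (f ≫ inv σ) := mono_comp _ _
  obtain ⟨J, e, he⟩ := Groth.Agent.Lib.helper21.MonoField.exists_iso_sigma_of_mono k (f ≫ inv σ)
  let RJ : J → CommRingCat.{u} := fun j => CommRingCat.of (k j.1)
  let σJ : (∐ fun j : J => Spec (RJ j)) ⟶ Spec (CommRingCat.of (Π j : J, k j)) :=
    AlgebraicGeometry.sigmaSpec RJ
  haveI : IsIso σJ := inferInstanceAs (IsIso (AlgebraicGeometry.sigmaSpec RJ))
  refine ⟨J, e ≪≫ asIso σJ, ?_⟩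
  have key : σJ ≫ Spec.map (CommRingCat.ofHom (Pi.ringHom fun i : J => Pi.evalRingHom k i.1)) =
      Limits.Sigma.desc (fun j : J => Limits.Sigma.ι (fun i => Spec (CommRingCat.of (k i))) j.1) ≫ σ := by
    apply Limits.Sigma.hom_ext
    intro j
    rw [← Category.assoc, ← Category.assoc, Limits.Sigma.ι_desc]
    have h1 : Limits.Sigma.ι (fun j : J => Spec (RJ j)) j ≫ σJ =
        Spec.map (CommRingCat.ofHom (Pi.evalRingHom (fun j : J => k j.1) j)) :=
      AlgebraicGeometry.ι_sigmaSpec RJ j
    have h2 : Limits.Sigma.ι (fun i => Spec (R i)) j.1 ≫ σ =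
        Spec.map (CommRingCat.ofHom (Pi.evalRingHom k j.1)) :=
      AlgebraicGeometry.ι_sigmaSpec R j.1
    rw [h1, ← Spec.map_comp]
    exact h2.symm
  show (e.hom ≫ σJ) ≫ _ = f
  rw [Category.assoc, key, ← Category.assoc, he, Category.assoc, IsIso.inv_hom_id, Category.comp_id]

end Groth.Agent.S9499
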