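import Groth.Statements.S9508
import Mathlib
-- import your own Groth.Agent.* helpers here

set_option autoImplicit false
universe u
open SchMor

namespace Groth.Agent.S9508

open AlgebraicGeometry in
open CategoryTheory in
/-- (1) ⇔ (2): A morphism of schemes f : X → S is quasi-separated if and only if, whenever two affine
opens U and V of X both lie in the preimage f⁻¹(W) of one affine open W of S, their intersection U ∩
V is quasi-compact (equivalently, is covered by finitely many affine opens). -/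
theorem result
    {X S : Scheme.{u}} (f : X ⟶ S) :
    QuasiSeparated f ↔
      ∀ (U V : X.affineOpens) (W : S.affineOpens),
        (U : X.Opens) ≤ f ⁻¹ᵁ (W : S.Opens) → (V : X.Opens) ≤ f ⁻¹ᵁ (W : S.Opens) →
          IsCompact ((U : Set X) ∩ (V : Set X)) := by
  have h0 : QuasiSeparated f ↔
      ∀ W : S.affineOpens, QuasiSeparatedSpace ↥(f ⁻¹ᵁ (W : S.Opens)) := by
    have := HasAffineProperty.eq_targetAffineLocally (P := @QuasiSeparated)
    rw [this]
    rfl
  rw [h0]
  constructor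
  · intro H U V W hU hV
    have hqs := (isQuasiSeparated_iff_quasiSeparatedSpace _ (f ⁻¹ᵁ (W : S.Opens)).2).mpr (H W)
    exact hqs U V hU U.1.2 U.2.isCompact hV V.1.2 V.2.isCompact
  · intro H W
    refine (quasiSeparatedSpace_iff_forall_affineOpens
      (X := (f ⁻¹ᵁ (W : S.Opens)).toScheme)).mpr ?_
    intro U V
    have hU : IsAffineOpen ((f ⁻¹ᵁ (W : S.Opens)).ι ''ᵁ U.1) :=
      U.2.image_of_isOpenImmersion (f ⁻¹ᵁ (W : S.Opens)).ι
    have hV : IsAffineOpen ((f ⁻¹ᵁ (W : S.Opens)).ι ''ᵁ V.1) :=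
      V.2.image_of_isOpenImmersion (f ⁻¹ᵁ (W : S.Opens)).ι
    have hle : ∀ T : (f ⁻¹ᵁ (W : S.Opens)).toScheme.Opens,
        (f ⁻¹ᵁ (W : S.Opens)).ι ''ᵁ T ≤ f ⁻¹ᵁ (W : S.Opens) := by
      intro T
      rintro _ ⟨t, _, rfl⟩
      exact t.2
    have := H ⟨_, hU⟩ ⟨_, hV⟩ W (hle _) (hle _)
    rw [(f ⁻¹ᵁ (W : S.Opens)).ι.isOpenEmbedding.isEmbedding.isCompact_iff,
      Set.image_inter (f ⁻¹ᵁ (W : S.Opens)).ι.isOpenEmbedding.injective]
    exact this

end Groth.Agent.S9508
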