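import Groth.Statements.S9511
import Mathlib
-- import your own Groth.Agent.* helpers here

set_option autoImplicit false
universe u
open LRSImm

namespace Groth.Agent.S9511

open AlgebraicGeometry in
open CategoryTheory TopologicalSpace in
/-- Let X be a locally ringed space and U, V ⊆ X open with X = U ⊔ V (they cover X and are disjoint),
such that the open subspaces X|_U and X|_V are affine schemes. Then X is an affine scheme: the
canonical morphism X → Spec Γ(X, O_X) is an isomorphism of locally ringed spaces. -/
theorem result
    (X : LocallyRingedSpace.{u}) (U V : Opens X.toTopCat) (hUV : IsCompl U V)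
    (A B : CommRingCat.{u})
    (eU : X.restrict U.isOpenEmbedding ≅ (Spec A).toLocallyRingedSpace)
    (eV : X.restrict V.isOpenEmbedding ≅ (Spec B).toLocallyRingedSpace) :
    IsIso X.toΓSpec := by
  classical
  -- build the scheme structure
  have hcov : ∀ x : X.toTopCat, x ∈ U ∨ x ∈ V := by
    intro x
    have : x ∈ (U ⊔ V : Opens X.toTopCat) := by rw [hUV.sup_eq_top]; trivial
    exact this
  let X' : Scheme.{u} :=
    { toLocallyRingedSpace := X
      local_affine := fun x => by
        rcases hcov x with hx | hx
        · exact ⟨⟨U, hx⟩, A, ⟨eU⟩⟩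
        · exact ⟨⟨V, hx⟩, B, ⟨eV⟩⟩ }
  let U' : X'.Opens := U
  let V' : X'.Opens := V
  have hUaff : IsAffine U'.toScheme := by
    let e : U'.toScheme ≅ Spec A :=
      Scheme.forgetToLocallyRingedSpace.preimageIso eU
    exact IsAffine.of_isIso e.hom
  have hVaff : IsAffine V'.toScheme := by
    let e : V'.toScheme ≅ Spec B :=
      Scheme.forgetToLocallyRingedSpace.preimageIso eV
    exact IsAffine.of_isIso e.hom
  have hcompl : IsCompl U'.ι.opensRange V'.ι.opensRange := by
    rw [Scheme.Opens.opensRange_ι, Scheme.Opens.opensRange_ι]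
    exact hUV
  obtain ⟨hcolim⟩ := nonempty_isColimit_binaryCofanMk_of_isCompl U'.ι V'.ι hcompl
  let e : X' ≅ U'.toScheme ⨿ V'.toScheme :=
    hcolim.coconePointUniqueUpToIso (CategoryTheory.Limits.colimit.isColimit _)
  have hX' : IsAffine X' := IsAffine.of_isIso e.hom
  have h1 : IsIso X'.toSpecΓ := hX'.affine
  have h2 : IsIso (Scheme.forgetToLocallyRingedSpace.map X'.toSpecΓ) := inferInstance
  exact h2

end Groth.Agent.S9511
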