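import Groth.Statements.S9512
import Mathlib
-- import your own Groth.Agent.* helpers here

set_option autoImplicit false
universe u
open LRSImm

namespace Groth.Agent.S9512

open AlgebraicGeometry in
open CategoryTheory Opposite in
/-- Let X be a locally ringed space, Y = Spec R an affine scheme and f : X → Y a morphism of locally
ringed spaces. Given a point x of X, the image f(x) is the prime of R obtained as the inverse image
of the maximal ideal of O_{X,x} under the composite R = Γ(Y, O_Y) → Γ(X, O_X) → O_{X,x}. -/
theorem result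
    (X : LocallyRingedSpace.{u}) (R : CommRingCat.{u})
    (f : X ⟶ (Spec R).toLocallyRingedSpace) (x : X.toTopCat) :
    f.base x = PrimeSpectrum.comap
      ((Scheme.ΓSpecIso R).inv ≫ f.c.app (op ⊤) ≫ X.presheaf.germ ⊤ x trivial).hom
      (IsLocalRing.closedPoint (X.presheaf.stalk x)) := by
  apply PrimeSpectrum.ext
  ext r
  rw [PrimeSpectrum.comap_asIdeal, Ideal.mem_comap]
  show r ∈ (f.base x).asIdeal ↔ _ ∈ IsLocalRing.maximalIdeal _
  rw [IsLocalRing.mem_maximalIdeal, mem_nonunits_iff]
  have h1 : r ∈ (f.base x).asIdeal ↔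
      ¬ IsUnit ((StructureSheaf.toStalk R (f.base x)).hom r) := by
    have := IsLocalization.AtPrime.isUnit_to_map_iff
      ((structurePresheafInCommRingCat R).stalk (f.base x)) (f.base x).asIdeal r
    rw [show (StructureSheaf.toStalk R (f.base x)).hom r = algebraMap R
      ((structurePresheafInCommRingCat R).stalk (f.base x)) r from rfl, this]
    simp [Ideal.primeCompl]
  rw [h1, not_iff_not]
  have h2 : ((Scheme.ΓSpecIso R).inv ≫ f.c.app (op ⊤) ≫ X.presheaf.germ ⊤ x trivial).hom r =
      (f.stalkMap x).hom ((StructureSheaf.toStalk R (f.base x)).hom r) := by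
    have := LocallyRingedSpace.stalkMap_germ_apply f ⊤ x trivial ((Scheme.ΓSpecIso R).inv.hom r)
    exact this.symm
  rw [h2]
  exact (isUnit_map_iff (f.stalkMap x).hom _).symm

end Groth.Agent.S9512
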