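import Groth.Statements.S9519
import Groth.Agent.Lib.Helper27.CechOXBC3
import Groth.Agent.Lib.Helper27.CechOXRpush2
import Groth.Agent.Lib.Helper16.QCohPullback
-- import your own Groth.Agent.* helpers here

set_option autoImplicit false
universe u
open CategoryTheory CategoryTheory.Limits AlgebraicGeometry
attribute [local instance] HasDerivedCategory.standard
open CechOX

namespace Groth.Agent.S9519

/-- Let f : X → S be a morphism of schemes with X quasi-compact and X and S with affine diagonal, F a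
quasi-coherent O_X-module, 𝒰 a finite covering of X by affine opens and g : S' → S a morphism; write
X' = X ×_S S' with projections g' : X' → X and f' : X' → S', F' = g'^* F and 𝒰' for the covering of
X' by the preimages (g')⁻¹(𝒰 i). Then g^* Č(𝒰, f, F) (termwise pullback) is isomorphic as a complex
of O_S'-modules to the relative Čech complex Č(𝒰', f', F'), and its image in the derived category of
O_S'-modules is isomorphic to Rf'_* F'. (The published statement calls the first identification an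
equality and states it for g affine, in which case the opens of 𝒰' are affine; this row asserts the
existence of the isomorphisms for any g, with Rf'_* the unbounded derived functor under its
existence binder.) -/
theorem result {X S S' : Scheme.{u}} (f : X ⟶ S) [CompactSpace X]
    [IsAffineHom (pullback.diagonal (terminal.from X))] [IsAffineHom (pullback.diagonal (terminal.from S))]
    (F : X.Modules) (hF : Coh.IsQCoh F) {ι : Type u} [Finite ι] (𝒰 : ι → X.Opens)
    (h𝒰 : ∀ i, IsAffineOpen (𝒰 i)) (hcov : ⨆ i, 𝒰 i = ⊤) (g : S' ⟶ S)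
    [(Scheme.Modules.pullback g).Additive] [DCoh.HasRpush (pullback.snd f g)] :
    Nonempty (((Scheme.Modules.pullback g).mapHomologicalComplex (ComplexShape.up ℕ)).obj
        ((CechOX.relCech 𝒰 f).obj F) ≅
      (CechOX.relCech (fun i => (pullback.fst f g) ⁻¹ᵁ (𝒰 i)) (pullback.snd f g)).obj
        ((Scheme.Modules.pullback (pullback.fst f g)).obj F)) ∧
    Nonempty (DCoh.toD S' ((((Scheme.Modules.pullback g).mapHomologicalComplex (ComplexShape.up ℕ)).obj
        ((CechOX.relCech 𝒰 f).obj F)).extend ComplexShape.embeddingUpNat) ≅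
      (DCoh.Rpush (pullback.snd f g)).obj
        (DCoh.inD _ ((Scheme.Modules.pullback (pullback.fst f g)).obj F))) := by
  haveI : F.IsQuasicoherent := hF
  haveI : QuasiSeparatedSpace X :=
    Groth.Agent.Lib.helper27.CechOXGeom.quasiSeparatedSpace_of_affineDiagonal X
  haveI : QuasiSeparatedSpace S :=
    Groth.Agent.Lib.helper27.CechOXGeom.quasiSeparatedSpace_of_affineDiagonal S
  haveI : QuasiCompact f := inferInstance
  haveI : QuasiSeparated f := inferInstance
  have hsq : IsPullback (pullback.fst f g) (pullback.snd f g) f g := IsPullback.of_hasPullback f g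
  have h1 : ∀ (n : ℕ) (a : Fin (n + 1) → ι), IsAffineHom (∏ᶜ (𝒰 ∘ a)).ι := fun n a =>
    Groth.Agent.Lib.helper27.CechOXGeom.isAffineHom_ι _
      (Groth.Agent.Lib.helper27.CechOXGeom.isAffineOpen_pi 𝒰 h𝒰 a)
  have h2 : ∀ (n : ℕ) (a : Fin (n + 1) → ι), IsAffineHom ((∏ᶜ (𝒰 ∘ a)).ι ≫ f) := fun n a =>
    Groth.Agent.Lib.helper27.CechOXGeom.isAffineHom_ι_comp f _
      (Groth.Agent.Lib.helper27.CechOXGeom.isAffineOpen_pi 𝒰 h𝒰 a)
  obtain ⟨e1⟩ := Groth.Agent.Lib.helper27.CechOXBC.relCech_baseChange_iso f g (pullback.fst f g)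
    (pullback.snd f g) hsq F 𝒰 h1 h2
  refine ⟨⟨e1⟩, ?_⟩
  haveI : QuasiCompact (pullback.snd f g) := inferInstance
  haveI : QuasiSeparated (pullback.snd f g) := inferInstance
  haveI : ((Scheme.Modules.pullback (pullback.fst f g)).obj F).IsQuasicoherent :=
    Groth.Agent.Lib.helper16.QCohPullback.isQuasicoherent_pullback (pullback.fst f g) F
  have hcov' : ⨆ i, (pullback.fst f g) ⁻¹ᵁ (𝒰 i) = ⊤ :=
    Scheme.Hom.iSup_preimage_eq_top (pullback.fst f g) hcov
  have key1 : ∀ (W : X.Opens) (O : (pullback f g).Opens), O = (pullback.fst f g) ⁻¹ᵁ W →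
      IsAffineHom W.ι → IsAffineHom O.ι := by
    rintro W _ rfl hW
    exact MorphismProperty.of_isPullback (isPullback_morphismRestrict (pullback.fst f g) W) hW
  have key2 : ∀ (W : X.Opens) (O : (pullback f g).Opens), O = (pullback.fst f g) ⁻¹ᵁ W →
      IsAffineHom (W.ι ≫ f) → IsAffineHom (O.ι ≫ pullback.snd f g) := by
    rintro W _ rfl hW
    exact MorphismProperty.of_isPullback
      ((isPullback_morphismRestrict (pullback.fst f g) W).paste_vert hsq) hW
  have h1' : ∀ (n : ℕ) (a : Fin (n + 1) → ι),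
      IsAffineHom (∏ᶜ ((fun i => (pullback.fst f g) ⁻¹ᵁ (𝒰 i)) ∘ a)).ι := fun n a =>
    key1 (∏ᶜ (𝒰 ∘ a)) _
      (Groth.Agent.Lib.helper27.CechOXBC.preimage_pi (pullback.fst f g) (𝒰 ∘ a)).symm (h1 n a)
  have h2' : ∀ (n : ℕ) (a : Fin (n + 1) → ι),
      IsAffineHom ((∏ᶜ ((fun i => (pullback.fst f g) ⁻¹ᵁ (𝒰 i)) ∘ a)).ι ≫ pullback.snd f g) :=
    fun n a => key2 (∏ᶜ (𝒰 ∘ a)) _
      (Groth.Agent.Lib.helper27.CechOXBC.preimage_pi (pullback.fst f g) (𝒰 ∘ a)).symm (h2 n a)
  obtain ⟨e2⟩ := Groth.Agent.Lib.helper27.CechOXRpush2.main' (pullback.snd f g)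
    ((Scheme.Modules.pullback (pullback.fst f g)).obj F)
    (fun i => (pullback.fst f g) ⁻¹ᵁ (𝒰 i)) h1' h2' hcov'
  have e3 : DCoh.toD S' ((((Scheme.Modules.pullback g).mapHomologicalComplex
      (ComplexShape.up ℕ)).obj ((CechOX.relCech 𝒰 f).obj F)).extend ComplexShape.embeddingUpNat) ≅
      DCoh.toD S' (CechOX.relCechZ (fun i => (pullback.fst f g) ⁻¹ᵁ (𝒰 i)) (pullback.snd f g)
        ((Scheme.Modules.pullback (pullback.fst f g)).obj F)) :=
    DerivedCategory.Q.mapIso ((ComplexShape.embeddingUpNat.extendFunctor _).mapIso e1)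
  exact ⟨e3 ≪≫ e2⟩

end Groth.Agent.S9519
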