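import Groth.Statements.S9525
import Mathlib
import Groth.Agent.Lib.Helper21.CohSpread
-- import your own Groth.Agent.* helpers here

set_option autoImplicit false
universe u
open Coherent

namespace Groth.Agent.S9525

open CategoryTheory CategoryTheory.Limits AlgebraicGeometry in
/-- Let X be a locally Noetherian scheme, F and G coherent O_X-modules, φ : G → F a morphism and x ∈ X.
(1) If F_x = 0 there is an open neighbourhood U of x with F|_U = 0. (2) If the stalk map φ_x : G_x →
F_x is injective there is an open neighbourhood U of x with φ|_U injective. (4) If φ_x is bijective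
there is an open neighbourhood U of x with φ|_U an isomorphism. (Part (3), surjectivity, is the
finite-type statement valid on any ringed space and is not restated.) -/
theorem result (X : Scheme.{u}) [IsLocallyNoetherian X]
    (F G : X.Modules) (hF : Coh.IsCoh F) (hG : Coh.IsCoh G) (φ : G ⟶ F) (x : X) :
    (Subsingleton ↑(F.presheaf.stalk x) →
      ∃ U : X.Opens, x ∈ U ∧ IsZero ((Scheme.Modules.restrictFunctor U.ι).obj F)) ∧
    (Function.Injective ((TopCat.Presheaf.stalkFunctor _ x).map φ.mapPresheaf).hom →
      ∃ U : X.Opens, x ∈ U ∧ Mono ((Scheme.Modules.restrictFunctor U.ι).map φ)) ∧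
    (Function.Bijective ((TopCat.Presheaf.stalkFunctor _ x).map φ.mapPresheaf).hom →
      ∃ U : X.Opens, x ∈ U ∧ IsIso ((Scheme.Modules.restrictFunctor U.ι).map φ)) := by
  refine ⟨fun h => Groth.Agent.Lib.helper21.CohSpread.exists_isZero_restrict F hF x h,
    fun hinj => ?_, fun hbij => ?_⟩
  · refine Groth.Agent.Lib.helper21.CohSpread.exists_mono_restrict hF hG φ x ?_
    rw [ModuleCat.mono_iff_injective]
    exact fun a b h => hinj h
  · refine Groth.Agent.Lib.helper21.CohSpread.exists_isIso_restrict hF hG φ x ?_ ?_
    · rw [ModuleCat.mono_iff_injective]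
      exact fun a b h => hbij.1 h
    · rw [ModuleCat.epi_iff_surjective]
      exact fun b => hbij.2 b

end Groth.Agent.S9525
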