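import Groth.Statements.S9529
import Mathlib
import Groth.Agent.Lib.Helper21.HomStalk2
-- import your own Groth.Agent.* helpers here

set_option autoImplicit false
universe u
open CategoryTheory CategoryTheory.Limits AlgebraicGeometry
attribute [local instance] HasDerivedCategory.standard
open Coherent

namespace Groth.Agent.S9529

/-- Let X be a locally Noetherian scheme, F and G coherent O_X-modules and H = Hom_{O_X}(F, G). If G has
property (S_1), so has H; if G has property (S_2), so has H. Here a coherent module M has (S_k) when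
depth M_x ≥ min(k, dim Supp M_x) for every x ∈ X, with M_x regarded as a module over O_{X,x} (the
zero module has depth ∞ and support dimension −∞); the sheaf Hom is the right adjoint of F ⊗ − under
its existence binder. -/
theorem result (X : Scheme.{u}) [IsLocallyNoetherian X] (F G : X.Modules)
    (hF : Coh.IsCoh F) (hG : Coh.IsCoh G) [DCoh.HasSheafHom F] (k : ℕ) (hk : k = 1 ∨ k = 2)
    (hS : ∀ x : X, min (k : WithBot ℕ∞) (Module.supportDim (X.presheaf.stalk x) ↑(G.presheaf.stalk x)) ≤
      ((LocCoh.depth (X.presheaf.stalk x) ↑(G.presheaf.stalk x) : ℕ∞) : WithBot ℕ∞)) (x : X) :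
    min (k : WithBot ℕ∞)
        (Module.supportDim (X.presheaf.stalk x) ↑(((DCoh.sheafHom F).obj G).presheaf.stalk x)) ≤
      ((LocCoh.depth (X.presheaf.stalk x) ↑(((DCoh.sheafHom F).obj G).presheaf.stalk x) : ℕ∞) :
        WithBot ℕ∞) := by
  haveI : HasInjectiveResolutions (ModSite.Mod X.sheaf) :=
    Groth.Agent.Lib.helper21.ShHomCoh.hasInjRes X
  haveI := Groth.Agent.Lib.helper21.ExtShDelta.preservesFiniteLimits_sheafHom X.sheaf F
  let i : ((ModSite.extSh (O := X.sheaf) F 0).obj G : X.Modules) ≅ (DCoh.sheafHom F).obj G :=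
    (Functor.rightDerivedZeroIsoSelf (ModSite.sheafHom (O := X.sheaf) F)).app G ≪≫
      ((Groth.Agent.Lib.helper21.ShHomCoh.dcohSheafHomIso F).app G).symm
  exact Groth.Agent.Lib.helper21.HomStalk.sk_stalk_of_iso_extSh_zero F G hF hG k hk hS _ i x

end Groth.Agent.S9529
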