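import Groth.Statements.S9530
import Groth.Agent.Lib.Helper8.FormalTorsion

set_option autoImplicit false
universe u
open CategoryTheory CategoryTheory.Limits AlgebraicGeometry Opposite
open Algz

namespace Groth.Agent.S9530

/-- The functor from Coh(X, I O_X) to pro-objects of quasi-coherent modules is fully faithful: for the
ideal sheaf I O_X of an ideal I of a base ring A and with positions shifted by one. Let X be a
Noetherian scheme over Spec A and F, G objects of Coh(X, I O_X). Let m be a monotone self-map of ℕ
with n ≤ m n, let π be the levelwise map from the re-indexed system n ↦ F_(m n) to F whose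
components are the transition maps of F, and let α be any levelwise map from the re-indexed system
to G. Then α factors as π followed by a unique morphism of systems β from F to G. (Existence is
fullness on this representative of a pro-morphism, uniqueness is faithfulness.) -/
theorem result (A : Type u) [CommRing A] (I : Ideal A) (X : Scheme.{u})
    [X.Over (Spec (CommRingCat.of A))] [IsNoetherian X] (F G : ℕᵒᵖ ⥤ X.Modules)
    (hF : Formal.IsCohFormal I F) (hG : Formal.IsCohFormal I G) (m : ℕ → ℕ) (hm : Monotone m)
    (hle : ∀ n : ℕ, n ≤ m n) (π : DerCA.reindex F hm ⟶ F)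
    (hπ : ∀ n : ℕ, π.app (op n) = F.map (homOfLE (hle n)).op) (α : DerCA.reindex F hm ⟶ G) :
    ∃! β : F ⟶ G, π ≫ β = α := by
  classical
  -- repackage the data with plain types
  obtain ⟨a', hnat_a, ha'⟩ : ∃ a' : ∀ n : ℕ, F.obj (op (m n)) ⟶ G.obj (op n),
      (∀ {n k : ℕ} (h : n ≤ k),
        F.map (homOfLE (hm h)).op ≫ a' n = a' k ≫ G.map (homOfLE h).op) ∧
      (∀ n : ℕ, a' n = α.app (op n)) :=
    ⟨fun n => α.app (op n), fun h => α.naturality (homOfLE h).op, fun n => rfl⟩
  -- factorisation through cokernels
  have desc : ∀ {J : Ideal A} {P R Z : X.Modules} {g : P ⟶ R}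
      (_ : Groth.Agent.Lib.helper8.FTors.IsCok J g)
      (k : P ⟶ Z) (_ : Formal.KilledBy J Z), ∃ l : R ⟶ Z, g ≫ l = k := by
    intro J P R Z g hg k hZ
    have h2 : Formal.smulFamily J P ≫ k = 0 :=
      Groth.Agent.Lib.helper8.FF.smulFamily_comp_eq_zero _ (fun a ha => by
        rw [Groth.Agent.Lib.helper8.FF.smulMod_naturality, hZ a ha, comp_zero])
    exact ⟨(CokernelCofork.IsColimit.desc' hg.isColimit k h2).1,
      (CokernelCofork.IsColimit.desc' hg.isColimit k h2).2⟩
  have tF : ∀ {n k : ℕ} (h : n ≤ k),
      Groth.Agent.Lib.helper8.FTors.IsCok (I ^ (n + 1)) (F.map (homOfLE h).op) :=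
    fun h => Groth.Agent.Lib.helper8.FTors.isCok_map I F hF h
  have Fcomp : ∀ {i j k : ℕ} (h1 : i ≤ j) (h2 : j ≤ k),
      F.map (homOfLE h2).op ≫ F.map (homOfLE h1).op = F.map (homOfLE (h1.trans h2)).op := by
    intro i j k h1 h2
    rw [← F.map_comp]; rfl
  -- the level maps
  have hf : ∀ n : ℕ, ∃ f : F.obj (op n) ⟶ G.obj (op n),
      F.map (homOfLE (hle n)).op ≫ f = a' n := fun n =>
    desc (tF (hle n)) (a' n) (hG.2.1 n)
  choose f hf using hf
  have hnat : ∀ {n k : ℕ} (h : n ≤ k),
      F.map (homOfLE h).op ≫ f n = f k ≫ G.map (homOfLE h).op := by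
    intro n k h
    haveI := (tF (hle k)).epi
    rw [← cancel_epi (F.map (homOfLE (hle k)).op), ← Category.assoc, ← Category.assoc, hf k,
      ← hnat_a h, ← hf n, ← Category.assoc, Fcomp, Fcomp]
  refine ⟨{ app := fun n => f n.unop, naturality := ?_ }, ?_, ?_⟩
  · intro n k g
    have hle' : k.unop ≤ n.unop := leOfHom g.unop
    have eg : g = (homOfLE hle').op := Quiver.Hom.unop_inj (Subsingleton.elim _ _)
    rw [eg]
    exact hnat hle'
  · apply NatTrans.ext
    funext n
    induction n using Opposite.rec with
    | op n =>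
      rw [NatTrans.comp_app, hπ n]
      exact (hf n).trans (ha' n)
  · intro β' hβ'
    apply NatTrans.ext
    funext n
    induction n using Opposite.rec with
    | op n =>
      haveI := (tF (hle n)).epi
      rw [← cancel_epi (F.map (homOfLE (hle n)).op)]
      have e0 : π.app (op n) ≫ β'.app (op n) = α.app (op n) :=
        congrArg (fun t => NatTrans.app t (op n)) hβ'
      have e1 : F.map (homOfLE (hle n)).op ≫ β'.app (op n) = α.app (op n) := by
        rw [← e0, hπ n]
        rfl
      exact e1.trans ((ha' n).symm.trans (hf n).symm)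

end Groth.Agent.S9530
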