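import Groth.Statements.S9531
import Groth.Agent.Lib.Helper8.AlgzBasic

set_option autoImplicit false
universe u
open CategoryTheory CategoryTheory.Limits AlgebraicGeometry Opposite
open Algz

namespace Groth.Agent.S9531

/-- Let A be a Noetherian ring, I ⊆ 𝔞 ideals, U = Spec A ∖ V(𝔞), and take (F_n) in Coh(U, I O_U).
Suppose (F_n) extends canonically to Spec A; then (F_n) extends to Spec A: there is an object of
Coh(Spec A, I O) whose restriction to U is isomorphic to (F_n). (Spec A is regarded over itself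
through the identity.) -/
theorem result (A : Type u) [CommRing A] [IsNoetherianRing A] (I 𝔞 : Ideal A) (hI𝔞 : I ≤ 𝔞)
    (G : ℕᵒᵖ ⥤ (↑(LocCoh.puncturedOpen A 𝔞) : Scheme.{u}).Modules) (hG : Formal.IsCohFormal I G)
    (h : Algz.CanonicallyExtends A I (LocCoh.puncturedOpen A 𝔞) G) :
    @Algz.Extends A _ (Spec (CommRingCat.of A)) ⟨𝟙 (Spec (CommRingCat.of A))⟩ I (LocCoh.puncturedOpen A 𝔞) G := by
  classical
  letI iS : (Spec (CommRingCat.of A)).Over (Spec (CommRingCat.of A)) := ⟨𝟙 _⟩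
  let U := LocCoh.puncturedOpen A 𝔞
  obtain ⟨G', hG', hpro⟩ := h
  have hf : U.ι ≫ (Spec (CommRingCat.of A) ↘ Spec (CommRingCat.of A)) =
      (↑U : Scheme.{u}) ↘ Spec (CommRingCat.of A) := by
    change U.ι ≫ 𝟙 _ = U.ι
    exact Category.comp_id _
  haveI : QuasiCompact U.ι := inferInstance
  refine ⟨G', hG', ?_⟩
  -- restrict the pro-isomorphism to `U`
  have h1 : Algz.IsProIsomorphic (Algz.sectSys A U G ⋙ Scheme.Modules.restrictFunctor U.ι)
      (G' ⋙ Scheme.Modules.restrictFunctor U.ι) :=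
    Groth.Agent.Lib.helper8.AlgzB.isProIsomorphic_comp_functor hpro _
  have h2 : Algz.IsProIsomorphic G (G' ⋙ Scheme.Modules.pullback U.ι) :=
    Groth.Agent.Lib.helper8.AlgzB.isProIsomorphic_of_iso_right
      (Groth.Agent.Lib.helper8.AlgzB.isProIsomorphic_of_iso_left h1
        (Groth.Agent.Lib.helper8.AlgzB.sectSysRestrictIso A U G (fun n => (hG.1 n.unop).1)))
      (Functor.isoWhiskerLeft G' (Scheme.Modules.restrictFunctorIsoPullback U.ι))
  have h3 : Formal.IsCohFormal I (G' ⋙ Scheme.Modules.pullback U.ι) :=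
    Groth.Agent.Lib.helper8.FPull.isCohFormal_pullback U.ι hf I G' hG'
  obtain ⟨e⟩ := Groth.Agent.Lib.helper8.AlgzB.iso_of_isProIsomorphic I G _ hG h3 h2
  exact ⟨Functor.isoWhiskerLeft G' (Scheme.Modules.restrictFunctorIsoPullback U.ι) ≪≫ e.symm⟩

end Groth.Agent.S9531
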