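import Groth.Statements.S9532
import Groth.Agent.Lib.Helper8.AlgzBasic
import Groth.Agent.Lib.Helper8.MLProIso
import Groth.Agent.Lib.Helper16.QCohEpi

set_option autoImplicit false
universe u
open CategoryTheory CategoryTheory.Limits AlgebraicGeometry Opposite
open Algz

namespace Groth.Agent.S9532

/-- Let A be a Noetherian ring, I ⊆ 𝔞 ideals, U = Spec A ∖ V(𝔞), and let (F_n) belong to Coh(U, I O_U).
Suppose (F_n) admits a canonical extension to Spec A; then the inverse system of A-modules n ↦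
H^0(U, F_n) satisfies the Mittag-Leffler condition. -/
theorem result (A : Type u) [CommRing A] [IsNoetherianRing A] (I 𝔞 : Ideal A) (hI𝔞 : I ≤ 𝔞)
    (G : ℕᵒᵖ ⥤ (↑(LocCoh.puncturedOpen A 𝔞) : Scheme.{u}).Modules) (hG : Formal.IsCohFormal I G)
    (h : Algz.CanonicallyExtends A I (LocCoh.puncturedOpen A 𝔞) G) :
    ARSys.IsML (Algz.sectMod A (LocCoh.puncturedOpen A 𝔞) G) := by
  classical
  letI iS : (Spec (CommRingCat.of A)).Over (Spec (CommRingCat.of A)) := ⟨𝟙 _⟩
  obtain ⟨G', hG', hpro⟩ := h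
  have h1 := Groth.Agent.Lib.helper8.AlgzB.isProIsomorphic_comp_functor hpro
    (moduleSpecΓFunctor (R := CommRingCat.of A))
  have e : Algz.sectSys A (LocCoh.puncturedOpen A 𝔞) G ⋙ moduleSpecΓFunctor (R := CommRingCat.of A) ≅
      Algz.sectMod A (LocCoh.puncturedOpen A 𝔞) G :=
    Functor.associator _ _ _ ≪≫
      Functor.isoWhiskerLeft (Algz.sectMod A (LocCoh.puncturedOpen A 𝔞) G)
        (tilde.toTildeΓNatIso (R := CommRingCat.of A)).symm ≪≫ Functor.rightUnitor _
  have h2 := Groth.Agent.Lib.helper8.AlgzB.isProIsomorphic_of_iso_left h1 e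
  apply Groth.Agent.Lib.helper8.MLMod.isML_of_isProIsomorphic_strict _ _ h2
  intro n k hnk
  haveI : Epi (G'.map (homOfLE hnk).op) :=
    (Groth.Agent.Lib.helper8.FTors.isCok_map I G' hG' hnk).epi
  haveI : (G'.obj (op n)).IsQuasicoherent := (hG'.1 n).1
  haveI : (G'.obj (op k)).IsQuasicoherent := (hG'.1 k).1
  have hs := Groth.Agent.Lib.helper16.QCohEpi.surjective_app_of_epi (G'.map (homOfLE hnk).op)
    (isAffineOpen_top (Spec (CommRingCat.of A)))
  exact hs

end Groth.Agent.S9532
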