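import Groth.Statements.S9535
import Groth.Agent.Lib.Helper8.AffineExistence
import Groth.Agent.Lib.Helper8.FormalCompletion
import Groth.Agent.Lib.Helper8.FormalPullback

set_option autoImplicit false
universe u
open CategoryTheory CategoryTheory.Limits AlgebraicGeometry Opposite
open Algz

namespace Groth.Agent.S9535

/-- (6) ⇒ (2): Let A be a Noetherian ring complete for the I-adic topology, I ⊆ 𝔞 ideals, U = Spec A ∖
V(𝔞) and (F_n) an object of Coh(U, I O_U). If (F_n) extends to Spec A, then (F_n) is isomorphic to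
the completion of a coherent O_U-module. -/
theorem result (A : Type u) [CommRing A] [IsNoetherianRing A] (I 𝔞 : Ideal A) (hI𝔞 : I ≤ 𝔞)
    (G : ℕᵒᵖ ⥤ (↑(LocCoh.puncturedOpen A 𝔞) : Scheme.{u}).Modules) (hG : Formal.IsCohFormal I G) [IsAdicComplete I A]
    (h : @Algz.Extends A _ (Spec (CommRingCat.of A)) ⟨𝟙 (Spec (CommRingCat.of A))⟩ I (LocCoh.puncturedOpen A 𝔞) G) :
    ∃ F : (↑(LocCoh.puncturedOpen A 𝔞) : Scheme.{u}).Modules, Coh.IsCoh F ∧ Nonempty (Formal.completion I F ≅ G) := by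
  classical
  letI iS : (Spec (CommRingCat.of A)).Over (Spec (CommRingCat.of A)) := ⟨𝟙 _⟩
  let U := LocCoh.puncturedOpen A 𝔞
  obtain ⟨G', hG', ⟨e⟩⟩ := h
  have hf : U.ι ≫ (Spec (CommRingCat.of A) ↘ Spec (CommRingCat.of A)) =
      (↑U : Scheme.{u}) ↘ Spec (CommRingCat.of A) := by
    change U.ι ≫ 𝟙 _ = U.ι
    exact Category.comp_id _
  obtain ⟨N, hN, ⟨e'⟩⟩ :=
    Groth.Agent.Lib.helper8.AffEx.exists_completion_iso_of_complete I G' hG'
  haveI : N.IsQuasicoherent := hN.1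
  refine ⟨(Scheme.Modules.pullback U.ι).obj N,
    ⟨Groth.Agent.Lib.helper16.QCohPullback.isQuasicoherent_pullback U.ι N,
      Groth.Agent.Lib.helper16.QCohPullback2.isFiniteType_pullback U.ι N hN.2⟩, ⟨?_⟩⟩
  exact Groth.Agent.Lib.helper8.FCompl.completionPullbackIso U.ι hf I N ≪≫
    Functor.isoWhiskerRight e' (Scheme.Modules.pullback U.ι) ≪≫
    (Functor.isoWhiskerLeft G' (Scheme.Modules.restrictFunctorIsoPullback U.ι)).symm ≪≫ e

end Groth.Agent.S9535
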