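import Groth.Statements.S9536
import Groth.Agent.Lib.Helper8.FormalCompletion
import Groth.Agent.Lib.Helper16.Satur5

set_option autoImplicit false
universe u
open CategoryTheory CategoryTheory.Limits AlgebraicGeometry Opposite
open Algz

namespace Groth.Agent.S9536

/-- (2) ⇒ (6): Let A be a Noetherian ring, I ⊆ 𝔞 ideals, U = Spec A ∖ V(𝔞) and (F_n) an object of Coh(U,
I O_U). If (F_n) is isomorphic to the completion of a coherent O_U-module, then (F_n) extends to
Spec A. -/
theorem result (A : Type u) [CommRing A] [IsNoetherianRing A] (I 𝔞 : Ideal A) (hI𝔞 : I ≤ 𝔞)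
    (G : ℕᵒᵖ ⥤ (↑(LocCoh.puncturedOpen A 𝔞) : Scheme.{u}).Modules) (hG : Formal.IsCohFormal I G)
    (F : (↑(LocCoh.puncturedOpen A 𝔞) : Scheme.{u}).Modules) (hF : Coh.IsCoh F) (e : Formal.completion I F ≅ G) :
    @Algz.Extends A _ (Spec (CommRingCat.of A)) ⟨𝟙 (Spec (CommRingCat.of A))⟩ I (LocCoh.puncturedOpen A 𝔞) G := by
  classical
  letI iS : (Spec (CommRingCat.of A)).Over (Spec (CommRingCat.of A)) := ⟨𝟙 _⟩
  let U := LocCoh.puncturedOpen A 𝔞
  haveI : F.IsQuasicoherent := hF.1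
  have hUc : IsCompact (U : Set (Spec (CommRingCat.of A))) :=
    TopologicalSpace.NoetherianSpace.isCompact _
  obtain ⟨F', hq, hft, ⟨e0⟩⟩ :=
    Groth.Agent.Lib.helper16.Satur.exists_ft_extension_module U hUc F hF.2
  have hF' : Coh.IsCoh F' := ⟨hq, hft⟩
  have hf : U.ι ≫ (Spec (CommRingCat.of A) ↘ Spec (CommRingCat.of A)) =
      (↑U : Scheme.{u}) ↘ Spec (CommRingCat.of A) := by
    change U.ι ≫ 𝟙 _ = U.ι
    exact Category.comp_id _
  refine ⟨Formal.completion I F',
    Groth.Agent.Lib.helper8.FCompl.isCohFormal_completion I F' hF', ⟨?_⟩⟩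
  have e1 : (Scheme.Modules.pullback U.ι).obj F' ≅ F :=
    ((Scheme.Modules.restrictFunctorIsoPullback U.ι).app F').symm ≪≫ e0
  exact Functor.isoWhiskerLeft (Formal.completion I F')
      (Scheme.Modules.restrictFunctorIsoPullback U.ι) ≪≫
    (Groth.Agent.Lib.helper8.FCompl.completionPullbackIso U.ι hf I F').symm ≪≫
    Groth.Agent.Lib.helper8.FCompl.completionIso I e1 ≪≫ e

end Groth.Agent.S9536
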