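import Groth.Statements.S9551
import Groth.Agent.Lib.Helper8.AlgzBasic
import Groth.Agent.Lib.Helper8.MLModule

set_option autoImplicit false
universe u
open CategoryTheory CategoryTheory.Limits AlgebraicGeometry Opposite
open Algz

namespace Groth.Agent.S9551

/-- Let A be a Noetherian ring, I ⊆ 𝔞 ideals, U = Spec A ∖ V(𝔞) with inclusion j, (F_n) an object of
Coh(U, I O_U) and M = lim_n H^0(U, F_n). If the system H^0(U, F_n) is Mittag-Leffler, then for every
n the canonical map from M~|_U to F_n, adjoint (under the tilde and restriction adjunctions) to the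
projection M → H^0(U, F_n) = Γ(Spec A, j_*F_n), is an epimorphism. (The source states surjectivity
of (M/I^nM)~|_U → F_n; the map from M~|_U factors through it after the epimorphism M~ → (M/I^nM)~,
so the two surjectivity statements are equivalent.) -/
theorem result (A : Type u) [CommRing A] [IsNoetherianRing A] (I 𝔞 : Ideal A) (hI𝔞 : I ≤ 𝔞)
    (G : ℕᵒᵖ ⥤ (↑(LocCoh.puncturedOpen A 𝔞) : Scheme.{u}).Modules) (hG : Formal.IsCohFormal I G)
    (ha : ARSys.IsML (Algz.sectMod A (LocCoh.puncturedOpen A 𝔞) G)) (n : ℕ) :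
    Epi (((Scheme.Modules.restrictAdjunction (LocCoh.puncturedOpen A 𝔞).ι).homEquiv _ (G.obj (op n))).symm
      (((tilde.adjunction (R := CommRingCat.of A)).homEquiv (limit (Algz.sectMod A (LocCoh.puncturedOpen A 𝔞) G))
        ((Scheme.Modules.pushforward (LocCoh.puncturedOpen A 𝔞).ι).obj (G.obj (op n)))).symm
          (limit.π (Algz.sectMod A (LocCoh.puncturedOpen A 𝔞) G) (op n)))) := by
  classical
  haveI : QuasiCompact (LocCoh.puncturedOpen A 𝔞).ι := inferInstance
  haveI : (tilde.functor (CommRingCat.of A)).PreservesEpimorphisms :=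
    Functor.preservesEpimorphisms_of_adjunction (tilde.adjunction (R := CommRingCat.of A))
  haveI : (Scheme.Modules.restrictFunctor (LocCoh.puncturedOpen A 𝔞).ι).PreservesEpimorphisms :=
    Functor.preservesEpimorphisms_of_adjunction
      (Scheme.Modules.restrictAdjunction (LocCoh.puncturedOpen A 𝔞).ι)
  haveI : (tilde.functor (CommRingCat.of A) ⋙
      Scheme.Modules.restrictFunctor (LocCoh.puncturedOpen A 𝔞).ι).PreservesEpimorphisms :=
    inferInstance
  -- the main point
  have key : Epi ((tilde.functor (CommRingCat.of A) ⋙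
      Scheme.Modules.restrictFunctor (LocCoh.puncturedOpen A 𝔞).ι).map
        (limit.π (Algz.sectMod A (LocCoh.puncturedOpen A 𝔞) G) (op n))) := by
    apply Groth.Agent.Lib.helper8.MLMod.epi_map_limitπ _ _ ha n
    intro m hnm
    let η := Groth.Agent.Lib.helper8.AlgzB.sectSysRestrictIso A (LocCoh.puncturedOpen A 𝔞) G
      (fun n => (hG.1 n.unop).1)
    have hnat := η.hom.naturality (homOfLE hnm).op
    haveI : Epi (G.map (homOfLE hnm).op) :=
      (Groth.Agent.Lib.helper8.FTors.isCok_map I G hG hnm).epi
    haveI : IsIso (η.hom.app (op m)) := (η.app (op m)).isIso_hom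
    haveI : IsIso (η.inv.app (op n)) := (η.app (op n)).isIso_inv
    have e : (tilde.functor (CommRingCat.of A) ⋙
        Scheme.Modules.restrictFunctor (LocCoh.puncturedOpen A 𝔞).ι).map
          ((Algz.sectMod A (LocCoh.puncturedOpen A 𝔞) G).map (homOfLE hnm).op) =
        η.hom.app (op m) ≫ G.map (homOfLE hnm).op ≫ η.inv.app (op n) := by
      rw [← Category.assoc, ← hnat, Category.assoc, ← NatTrans.comp_app, η.hom_inv_id,
        NatTrans.id_app, Category.comp_id]
      rfl
    rw [e]
    have h0 : Epi (η.hom.app (op m)) := IsIso.epi_of_iso _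
    have h1 : Epi (G.map (homOfLE hnm).op ≫ η.inv.app (op n)) :=
      @epi_comp _ _ _ _ _ _ inferInstance _ (IsIso.epi_of_iso _)
    exact @epi_comp _ _ _ _ _ _ h0 _ h1
  rw [Adjunction.homEquiv_counit, Adjunction.homEquiv_counit, Functor.map_comp, Category.assoc]
  haveI : IsIso ((tilde.adjunction (R := CommRingCat.of A)).counit.app
      ((Scheme.Modules.pushforward (LocCoh.puncturedOpen A 𝔞).ι).obj (G.obj (op n)))) := by
    haveI : (G.obj (op n)).IsQuasicoherent := (hG.1 n).1
    exact Groth.Agent.Lib.helper8.AlgzB.isIso_fromTildeΓ_push A (LocCoh.puncturedOpen A 𝔞)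
      (G.obj (op n))
  haveI : Epi ((Scheme.Modules.restrictFunctor (LocCoh.puncturedOpen A 𝔞).ι).map
      ((tilde.functor (CommRingCat.of A)).map
        (limit.π (Algz.sectMod A (LocCoh.puncturedOpen A 𝔞) G) (op n)))) := key
  haveI h2 : Epi ((Scheme.Modules.restrictFunctor (LocCoh.puncturedOpen A 𝔞).ι).map
        ((tilde.adjunction (R := CommRingCat.of A)).counit.app
          ((Scheme.Modules.pushforward (LocCoh.puncturedOpen A 𝔞).ι).obj (G.obj (op n)))) ≫
      (Scheme.Modules.restrictAdjunction (LocCoh.puncturedOpen A 𝔞).ι).counit.app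
        (G.obj (op n))) := epi_comp _ _
  exact @epi_comp _ _ _ _ _ _ key _ h2

end Groth.Agent.S9551
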