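import Groth.Statements.S9552
import Groth.Agent.Lib.Helper8.FormalTorsion

set_option autoImplicit false
universe u
open CategoryTheory CategoryTheory.Limits AlgebraicGeometry Opposite
open Algz

namespace Groth.Agent.S9552

/-- For the ideal sheaf I O_X of an ideal I of a base ring A and a Noetherian scheme X over Spec A, two
objects of Coh(X, I O_X) which are pro-isomorphic are isomorphic as inverse systems (existence of an
isomorphism; positions shifted by one). -/
theorem result (A : Type u) [CommRing A] (I : Ideal A) (X : Scheme.{u})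
    [X.Over (Spec (CommRingCat.of A))] [IsNoetherian X] (F G : ℕᵒᵖ ⥤ X.Modules)
    (hF : Formal.IsCohFormal I F) (hG : Formal.IsCohFormal I G) (h : Algz.IsProIsomorphic F G) :
    Nonempty (F ≅ G) := by
  classical
  obtain ⟨m, hm, hmn, a, ha⟩ := h
  -- repackage the data with plain types
  obtain ⟨a', hnat_a, ha'⟩ : ∃ a' : ∀ n : ℕ, F.obj (op (m n)) ⟶ G.obj (op n),
      (∀ {n k : ℕ} (h : n ≤ k),
        F.map (homOfLE (hm h)).op ≫ a' n = a' k ≫ G.map (homOfLE h).op) ∧
      (∀ n : ℕ, ∃ (k : ℕ) (h : n ≤ k) (b : G.obj (op k) ⟶ F.obj (op (m n))),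
        a' k ≫ b = F.map (homOfLE (hm h)).op ∧ b ≫ a' n = G.map (homOfLE h).op) :=
    ⟨fun n => a.app (op n), fun h => a.naturality (homOfLE h).op, fun n => ha n⟩
  clear ha a
  -- factorisation through cokernels
  have desc : ∀ {J : Ideal A} {P R Z : X.Modules} {g : P ⟶ R}
      (_ : Groth.Agent.Lib.helper8.FTors.IsCok J g)
      (k : P ⟶ Z) (_ : Formal.KilledBy J Z), ∃ l : R ⟶ Z, g ≫ l = k := by
    intro J P R Z g hg k hZ
    have h2 : Formal.smulFamily J P ≫ k = 0 :=
      Groth.Agent.Lib.helper8.FF.smulFamily_comp_eq_zero _ (fun a ha => by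
        rw [Groth.Agent.Lib.helper8.FF.smulMod_naturality, hZ a ha, comp_zero])
    exact ⟨(CokernelCofork.IsColimit.desc' hg.isColimit k h2).1,
      (CokernelCofork.IsColimit.desc' hg.isColimit k h2).2⟩
  have tF : ∀ {n k : ℕ} (h : n ≤ k),
      Groth.Agent.Lib.helper8.FTors.IsCok (I ^ (n + 1)) (F.map (homOfLE h).op) :=
    fun h => Groth.Agent.Lib.helper8.FTors.isCok_map I F hF h
  have tG : ∀ {n k : ℕ} (h : n ≤ k),
      Groth.Agent.Lib.helper8.FTors.IsCok (I ^ (n + 1)) (G.map (homOfLE h).op) :=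
    fun h => Groth.Agent.Lib.helper8.FTors.isCok_map I G hG h
  have Fcomp : ∀ {i j k : ℕ} (h1 : i ≤ j) (h2 : j ≤ k),
      F.map (homOfLE h2).op ≫ F.map (homOfLE h1).op = F.map (homOfLE (h1.trans h2)).op := by
    intro i j k h1 h2
    rw [← F.map_comp]; rfl
  -- the level maps
  have hf : ∀ n : ℕ, ∃ f : F.obj (op n) ⟶ G.obj (op n),
      F.map (homOfLE (hmn n)).op ≫ f = a' n := fun n =>
    desc (tF (hmn n)) (a' n) (hG.2.1 n)
  choose f hf using hf
  have hnat : ∀ {n k : ℕ} (h : n ≤ k),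
      F.map (homOfLE h).op ≫ f n = f k ≫ G.map (homOfLE h).op := by
    intro n k h
    haveI := (tF (hmn k)).epi
    rw [← cancel_epi (F.map (homOfLE (hmn k)).op), ← Category.assoc, ← Category.assoc, hf k,
      ← hnat_a h, ← hf n, ← Category.assoc, Fcomp, Fcomp]
  have hiso : ∀ n : ℕ, IsIso (f n) := by
    intro n
    obtain ⟨k, hk, b, hb1, hb2⟩ := ha' n
    obtain ⟨g, hg⟩ := desc (tG hk) (b ≫ F.map (homOfLE (hmn n)).op) (hF.2.1 n)
    refine ⟨g, ?_, ?_⟩
    · haveI := (tF ((hmn n).trans (hm hk))).epi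
      rw [← cancel_epi (F.map (homOfLE ((hmn n).trans (hm hk))).op), Category.comp_id]
      conv_lhs => rw [← Fcomp hk (hmn k)]
      rw [Category.assoc, ← Category.assoc (F.map (homOfLE hk).op), hnat hk, Category.assoc, hg,
        ← Category.assoc, ← Category.assoc, hf k, hb1, Fcomp]
    · haveI := (tG hk).epi
      rw [← cancel_epi (G.map (homOfLE hk).op), ← Category.assoc, hg, Category.assoc, hf n, hb2,
        Category.comp_id]
  exact ⟨NatIso.ofComponents (fun n => @asIso _ _ _ _ (f n.unop) (hiso n.unop)) (by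
    intro n k g
    have hle : k.unop ≤ n.unop := leOfHom g.unop
    have eg : g = (homOfLE hle).op := rfl
    rw [eg]
    exact hnat hle)⟩

end Groth.Agent.S9552
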