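import Groth.Statements.S9553
import Groth.Agent.Lib.Helper8.AlgzLimit

set_option autoImplicit false
universe u
open CategoryTheory CategoryTheory.Limits AlgebraicGeometry Opposite
open Algz

namespace Groth.Agent.S9553

open CategoryTheory CategoryTheory.Limits AlgebraicGeometry Opposite in
/-- the abstract statement, for an arbitrary tower `S` of modules -/
theorem aux (A : Type u) [CommRing A] (I : Ideal A) (U : (Spec (CommRingCat.of A)).Opens)
    [IsLocallyNoetherian (↑U : Scheme.{u})] (S : ℕᵒᵖ ⥤ ModuleCat.{u} A)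
    (hcoh : ∀ m : ℕ, Coh.IsCoh ((Scheme.Modules.restrictFunctor U.ι).obj
      (tilde (R := CommRingCat.of A) (S.obj (op m)))))
    (hb : ∀ k : ℕ, ∃ n : ℕ, LinearMap.ker (limit.π S (op n)).hom ≤
      I ^ k • (⊤ : Submodule A ↑(limit S)))
    (ℓ : ∀ n : ℕ, ModuleCat.of A (Formal2.quotPow A I ↑(limit S) n) ⟶ S.obj (op n))
    (hℓ : ∀ n : ℕ, ModuleCat.ofHom (Formal2.quotPowπ A I ↑(limit S) n) ≫ ℓ n = limit.π S (op n)) :
    (∀ n : ℕ, Coh.IsCoh ((Scheme.Modules.restrictFunctor U.ι).obj
      (Formal2.tmod A (Formal2.quotPow A I ↑(limit S) n)))) ∧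
    ∀ (V : (Spec (CommRingCat.of A)).Opens)
      (x : ∀ n : ℕ, Γ(Formal2.tmod A (Formal2.quotPow A I ↑(limit S) n), V)),
      (∀ n : ℕ, ((Formal2.tmodMap A (Formal2.quotPowTrans A I ↑(limit S) n)).app V).hom
        (x (n + 1)) = x n) →
      (∀ n : ℕ, ((tilde.map (R := CommRingCat.of A) (ℓ n)).app V).hom (x n) = 0) →
      ∀ n : ℕ, x n = 0 := by
  classical
  -- kernels decrease
  have hKanti : ∀ {n n' : ℕ} (_ : n ≤ n'), LinearMap.ker (limit.π S (op n')).hom ≤
      LinearMap.ker (limit.π S (op n)).hom := by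
    intro n n' h y hy
    have hw := limit.w S (homOfLE h).op
    rw [LinearMap.mem_ker] at hy ⊢
    rw [← hw]
    change (S.map (homOfLE h).op).hom ((limit.π S (op n')).hom y) = 0
    rw [hy, map_zero]
  -- for every `n` a good index `m ≥ n`
  have hgood : ∀ n : ℕ, ∃ m : ℕ, n ≤ m ∧ LinearMap.ker (limit.π S (op m)).hom ≤
      I ^ (n + 1) • (⊤ : Submodule A ↑(limit S)) := by
    intro n
    obtain ⟨m₀, hm₀⟩ := hb (n + 1)
    exact ⟨max m₀ n, le_max_right _ _, (hKanti (le_max_left m₀ n)).trans hm₀⟩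
  -- transition maps between the quotients
  let tr : ∀ {n m : ℕ} (_ : n ≤ m), Formal2.quotPow A I ↑(limit S) m →ₗ[A]
      Formal2.quotPow A I ↑(limit S) n := fun {n m} h =>
    Submodule.mapQ _ _ LinearMap.id (by
      rw [Submodule.comap_id]
      exact Submodule.smul_mono_left (Ideal.pow_le_pow_right (Nat.succ_le_succ h)))
  have htr_mk : ∀ {n m : ℕ} (h : n ≤ m) (y : ↑(limit S)),
      tr h (Submodule.Quotient.mk y) = Submodule.Quotient.mk y := fun h y => rfl
  have hℓ_mk : ∀ (m : ℕ) (y : ↑(limit S)),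
      (ℓ m).hom (Submodule.Quotient.mk y) = (limit.π S (op m)).hom y := by
    intro m y
    have := congrArg (fun φ => φ.hom y) (hℓ m)
    exact this
  have hker : ∀ {n m : ℕ} (h : n ≤ m), LinearMap.ker (limit.π S (op m)).hom ≤
      I ^ (n + 1) • (⊤ : Submodule A ↑(limit S)) →
      LinearMap.ker (ℓ m).hom ≤ LinearMap.ker (ModuleCat.ofHom (tr h)).hom := by
    intro n m h hK q hq
    obtain ⟨y, rfl⟩ := Submodule.Quotient.mk_surjective _ q
    rw [LinearMap.mem_ker, hℓ_mk] at hq
    rw [LinearMap.mem_ker]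
    change tr h (Submodule.Quotient.mk y) = 0
    rw [htr_mk h, Submodule.Quotient.mk_eq_zero]
    exact hK hq
  refine ⟨fun n => ?_, fun V x hx1 hx2 n => ?_⟩
  · -- coherence
    obtain ⟨m, hnm, hK⟩ := hgood n
    let E : Submodule A (S.obj (op m)) := LinearMap.range (limit.π S (op m)).hom
    let q : E →ₗ[A] Formal2.quotPow A I ↑(limit S) n :=
      (Submodule.mapQ (LinearMap.ker (limit.π S (op m)).hom)
        (I ^ (n + 1) • (⊤ : Submodule A ↑(limit S))) LinearMap.id
          (by rw [Submodule.comap_id]; exact hK)) ∘ₗ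
      ((limit.π S (op m)).hom.quotKerEquivRange).symm.toLinearMap
    have hq : Function.Surjective q := by
      intro z
      obtain ⟨y, rfl⟩ := Submodule.Quotient.mk_surjective _ z
      refine ⟨⟨(limit.π S (op m)).hom y, ⟨y, rfl⟩⟩, ?_⟩
      have e1 : ((limit.π S (op m)).hom.quotKerEquivRange).symm
          ⟨(limit.π S (op m)).hom y, ⟨y, rfl⟩⟩ =
            (LinearMap.ker (limit.π S (op m)).hom).mkQ y :=
        LinearMap.quotKerEquivRange_symm_apply_image _ y _
      change Submodule.mapQ (LinearMap.ker (limit.π S (op m)).hom)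
        (I ^ (n + 1) • (⊤ : Submodule A ↑(limit S))) LinearMap.id
          (by rw [Submodule.comap_id]; exact hK)
        (((limit.π S (op m)).hom.quotKerEquivRange).symm
          ⟨(limit.π S (op m)).hom y, ⟨y, rfl⟩⟩) = _
      rw [e1]
      rfl
    exact Groth.Agent.Lib.helper8.AlgzL.isCoh_restrict_tilde_of_factor A U (S.obj (op m))
      (hcoh m) E (ModuleCat.of A (Formal2.quotPow A I ↑(limit S) n)) (ModuleCat.ofHom q) hq
  · -- vanishing
    obtain ⟨m, hnm, hK⟩ := hgood n
    -- `x n` is the image of `x m`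
    have hxtr : ∀ (d : ℕ), ((Formal2.tmodMap A (tr (Nat.le_add_right n d))).app V).hom
        (x (n + d)) = x n := by
      intro d
      induction d with
      | zero =>
        have e : tr (Nat.le_add_right n 0) = LinearMap.id := by
          apply Submodule.linearMap_qext
          rfl
        have e2 : Formal2.tmodMap A (tr (Nat.le_add_right n 0)) = 𝟙 _ := by
          rw [e]
          exact (tilde.functor (CommRingCat.of A)).map_id _
        rw [e2]
        exact Groth.Agent.Lib.helper8.AlgzL.id_app_apply V (x n)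
      | succ d ih =>
        have e : tr (Nat.le_add_right n (d + 1)) =
            tr (Nat.le_add_right n d) ∘ₗ Formal2.quotPowTrans A I ↑(limit S) (n + d) := by
          refine Submodule.linearMap_qext _ (LinearMap.ext fun y => ?_)
          have e0 : Formal2.quotPowTrans A I ↑(limit S) (n + d) (Submodule.Quotient.mk y) =
              Submodule.Quotient.mk y := by
            unfold Formal2.quotPowTrans
            rw [Submodule.mapQ_apply, LinearMap.id_apply]
          rw [LinearMap.comp_apply, LinearMap.comp_apply, LinearMap.comp_apply,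
            Submodule.mkQ_apply, htr_mk (Nat.le_add_right n (d + 1))]
          exact ((congrArg (tr (Nat.le_add_right n d)) e0).trans
            (htr_mk (Nat.le_add_right n d) y)).symm
        have e2 : Formal2.tmodMap A (tr (Nat.le_add_right n (d + 1))) =
            Formal2.tmodMap A (Formal2.quotPowTrans A I ↑(limit S) (n + d)) ≫
              Formal2.tmodMap A (tr (Nat.le_add_right n d)) := by
          rw [e]
          exact (tilde.functor (CommRingCat.of A)).map_comp
            (ModuleCat.ofHom (Formal2.quotPowTrans A I ↑(limit S) (n + d)))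
            (ModuleCat.ofHom (tr (Nat.le_add_right n d)))
        rw [e2]
        have h3 := Groth.Agent.Lib.helper8.AlgzL.comp_app_apply
          (Formal2.tmodMap A (Formal2.quotPowTrans A I ↑(limit S) (n + d)))
          (Formal2.tmodMap A (tr (Nat.le_add_right n d))) V (x (n + d + 1))
        exact h3.trans ((congrArg _ (hx1 (n + d))).trans ih)
    obtain ⟨d, rfl⟩ : ∃ d, m = n + d := ⟨m - n, by omega⟩
    rw [← hxtr d]
    exact Groth.Agent.Lib.helper8.AlgzL.tilde_map_app_eq_zero_of_ker_le (R := CommRingCat.of A)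
      (ℓ (n + d)) (ModuleCat.ofHom (tr (Nat.le_add_right n d))) (hker (Nat.le_add_right n d) hK) V (x (n + d))
      (hx2 (n + d))


/-- Let A be a Noetherian ring, I ⊆ 𝔞 ideals, U = Spec A ∖ V(𝔞) with inclusion j, (F_n) an object of
Coh(U, I O_U), M = lim_n H^0(U, F_n) and G_n = (M/I^(n+1)M)~ (positions shifted by one). Assume the
limit topology of M agrees with the I-adic one: for every k some kernel of M → H^0(U, F_n) lies in
I^k M. Let ℓ_n : M/I^(n+1)M → H^0(U, F_n) = Γ(Spec A, j_*F_n) be the factorisations of the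
projections (they exist since F_n is killed by I^(n+1); they are pinned here by that property) and
G_n → j_*F_n the adjoint maps. Then (i) each G_n|_U is coherent, and (ii) the resulting morphism
(G_n|_U) → (F_n) of inverse systems is a monomorphism in Coh(U, I O_U) (an abelian category), in the
form the printed proof establishes: for every f ∈ 𝔞, a family of sections of the G_n over D(f),
compatible under the transition maps, whose images in the Γ(D(f), j_*F_n) = Γ(D(f) ∩ U, F_n) all
vanish, is zero. -/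
theorem result (A : Type u) [CommRing A] [IsNoetherianRing A] (I 𝔞 : Ideal A) (hI𝔞 : I ≤ 𝔞)
    (G : ℕᵒᵖ ⥤ (↑(LocCoh.puncturedOpen A 𝔞) : Scheme.{u}).Modules) (hG : Formal.IsCohFormal I G)
    (hb : ∀ k : ℕ, ∃ n : ℕ, LinearMap.ker (limit.π (Algz.sectMod A (LocCoh.puncturedOpen A 𝔞) G) (op n)).hom ≤
      I ^ k • (⊤ : Submodule A ↑(limit (Algz.sectMod A (LocCoh.puncturedOpen A 𝔞) G))))
    (ℓ : ∀ n : ℕ, ModuleCat.of A (Formal2.quotPow A I ↑(limit (Algz.sectMod A (LocCoh.puncturedOpen A 𝔞) G)) n) ⟶ (Algz.sectMod A (LocCoh.puncturedOpen A 𝔞) G).obj (op n))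
    (hℓ : ∀ n : ℕ, ModuleCat.ofHom (Formal2.quotPowπ A I ↑(limit (Algz.sectMod A (LocCoh.puncturedOpen A 𝔞) G)) n) ≫ ℓ n = limit.π (Algz.sectMod A (LocCoh.puncturedOpen A 𝔞) G) (op n)) :
    (∀ n : ℕ, Coh.IsCoh ((Scheme.Modules.restrictFunctor (LocCoh.puncturedOpen A 𝔞).ι).obj (Formal2.tmod A (Formal2.quotPow A I ↑(limit (Algz.sectMod A (LocCoh.puncturedOpen A 𝔞) G)) n)))) ∧
    ∀ (f : A), f ∈ 𝔞 →
      ∀ x : (∀ n : ℕ, (Scheme.Modules.presheaf (Formal2.tmod A (Formal2.quotPow A I ↑(limit (Algz.sectMod A (LocCoh.puncturedOpen A 𝔞) G)) n))).obj (op (PrimeSpectrum.basicOpen f : (Spec (CommRingCat.of A)).Opens))),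
        (∀ n : ℕ, Scheme.Modules.Hom.app (Formal2.tmodMap A (Formal2.quotPowTrans A I ↑(limit (Algz.sectMod A (LocCoh.puncturedOpen A 𝔞) G)) n)) (PrimeSpectrum.basicOpen f : (Spec (CommRingCat.of A)).Opens) (x (n + 1)) = x n) →
        (∀ n : ℕ, Scheme.Modules.Hom.app
            (((tilde.adjunction (R := CommRingCat.of A)).homEquiv (ModuleCat.of A (Formal2.quotPow A I ↑(limit (Algz.sectMod A (LocCoh.puncturedOpen A 𝔞) G)) n))
              ((Scheme.Modules.pushforward (LocCoh.puncturedOpen A 𝔞).ι).obj (G.obj (op n)))).symm (ℓ n))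
            (PrimeSpectrum.basicOpen f : (Spec (CommRingCat.of A)).Opens) (x n) = 0) →
        ∀ n : ℕ, x n = 0 := by
  classical
  haveI : QuasiCompact (LocCoh.puncturedOpen A 𝔞).ι := inferInstance
  have hcoh : ∀ m : ℕ, Coh.IsCoh ((Scheme.Modules.restrictFunctor (LocCoh.puncturedOpen A 𝔞).ι).obj
      (tilde (R := CommRingCat.of A)
        ((Algz.sectMod A (LocCoh.puncturedOpen A 𝔞) G).obj (op m)))) := by
    intro m
    let η := Groth.Agent.Lib.helper8.AlgzB.sectSysRestrictIso A (LocCoh.puncturedOpen A 𝔞) G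
      (fun n => (hG.1 n.unop).1)
    exact Groth.Agent.Lib.helper7.CohKer.isCoh_of_iso (η.app (op m)).symm (hG.1 m)
  obtain ⟨h1, h2⟩ := aux A I (LocCoh.puncturedOpen A 𝔞)
    (Algz.sectMod A (LocCoh.puncturedOpen A 𝔞) G) hcoh hb ℓ hℓ
  refine ⟨h1, fun f hf x hx1 hx2 => h2 _ x hx1 ?_⟩
  intro n
  have h3 := hx2 n
  rw [Adjunction.homEquiv_counit] at h3
  haveI hiso : IsIso ((tilde.adjunction (R := CommRingCat.of A)).counit.app
      ((Scheme.Modules.pushforward (LocCoh.puncturedOpen A 𝔞).ι).obj (G.obj (op n)))) := by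
    haveI : (G.obj (op n)).IsQuasicoherent := (hG.1 n).1
    exact Groth.Agent.Lib.helper8.AlgzB.isIso_fromTildeΓ_push A (LocCoh.puncturedOpen A 𝔞)
      (G.obj (op n))
  exact @Groth.Agent.Lib.helper8.AlgzL.app_eq_zero_of_comp_iso _ _ _ _
    (tilde.map (R := CommRingCat.of A) (ℓ n))
    ((tilde.adjunction (R := CommRingCat.of A)).counit.app
      ((Scheme.Modules.pushforward (LocCoh.puncturedOpen A 𝔞).ι).obj (G.obj (op n)))) hiso _ (x n) h3

end Groth.Agent.S9553
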