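import Groth.Statements.S9557
import Mathlib
import Groth.Agent.Lib.Helper13.UR4
-- import your own Groth.Agent.* helpers here

set_option autoImplicit false
universe u
open EtLocal

namespace Groth.Agent.S9557

open AlgebraicGeometry CategoryTheory Limits in
/-- Let f : X ⟶ S be any morphism of schemes, s a point of S and x_1, …, x_n pairwise distinct points of
X over s such that f is étale at each x_i (the restriction of f to some open neighbourhood of x_i is
étale). Then there are an étale morphism g : U ⟶ S, a point u of U over s and finitely many opens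
V_k of X_U = X ×_S U, each labelled by one of the x_i, such that (1) each V_k ⟶ U is an isomorphism,
(2) no point of X_U over u lies in two different V_k, and (3) every point of X_U over u mapping to
x_i lies in some V_k labelled by x_i. -/
theorem result {X S : Scheme.{u}} (f : X ⟶ S) (s : S)
    {ι : Type} [Finite ι] (x : ι → ↑X) (hinj : Function.Injective x) (hs : ∀ i, f (x i) = s)
    (hx : ∀ i, ∃ W : X.Opens, x i ∈ W ∧ Etale (W.ι ≫ f)) :
    ∃ (U : Scheme.{u}) (g : U ⟶ S) (u : U), Etale g ∧ g u = s ∧
      ∃ (K : Type) (_ : Finite K) (lab : K → ι) (V : K → (pullback f g).Opens),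
        (∀ k, IsIso ((V k).ι ≫ pullback.snd f g)) ∧
        (∀ (k k' : K) (w : ↑(pullback f g)), w ∈ V k → w ∈ V k' → pullback.snd f g w = u → k = k') ∧
        (∀ (w : ↑(pullback f g)) (i : ι), pullback.snd f g w = u → pullback.fst f g w = x i →
          ∃ k, lab k = i ∧ w ∈ V k) := by
  classical
  choose W hxW hEt using hx
  haveI : Etale ((⨆ i, W i).ι ≫ f) :=
    Groth.Agent.Lib.helper13.UR.of_iSup_opens f @Etale W hEt
  have hxX₀ : ∀ i, x i ∈ (⨆ i, W i) := fun i ↦ (le_iSup W i) (hxW i)
  obtain ⟨U, g, u, hg, hgu, K, hK, lab, V, v, hdata, -, hiso, -⟩ :=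
    Groth.Agent.Lib.helper13.UR.exists_etale_nbhd_main f s x hinj hs (⨆ i, W i) hxX₀
  refine ⟨U, g, u, hg, hgu, K, hK, lab, V, hiso inferInstance, ?_, ?_⟩
  · intro k k' w hw hw' hwu
    apply hdata.inj
    rw [← hdata.uniq k w hw hwu, ← hdata.uniq k' w hw' hwu]
  · intro w i hwu hwx
    obtain ⟨k, hk, hwk⟩ := hdata.exh w i hwu hwx
    exact ⟨k, hk, hwk ▸ hdata.mem k⟩

end Groth.Agent.S9557
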