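import Groth.Statements.S9559
import Mathlib
import Groth.Agent.Lib.Helper13.UR5
-- import your own Groth.Agent.* helpers here

set_option autoImplicit false
open CategoryTheory CategoryTheory.Limits AlgebraicGeometry Opposite
universe u
open EtLocal

namespace Groth.Agent.S9559

/-- A finite étale morphism f : X ⟶ S becomes, after base change to a suitable étale neighbourhood (U,
u) of any point s of S, a finite disjoint union of copies of U: X_U is isomorphic over U to a finite
coproduct of schemes V_j each of which maps isomorphically onto U. -/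
theorem result {X S : Scheme.{u}} (f : X ⟶ S) [IsFinite f] [Etale f] (s : S) :
    ∃ (U : Scheme.{u}) (g : U ⟶ S) (_ : AlgebraicGeometry.Etale g) (u : U) (_ : g.base u = s)
      (n : ℕ) (V : Fin n → Scheme.{u}) (c : ∀ j, V j ⟶ U) (_ : ∀ j, IsIso (c j))
      (e : (∐ V) ≅ pullback f g), ∀ j, Sigma.ι V j ≫ e.hom ≫ pullback.snd f g = c j := by
  obtain ⟨U, g, u, hg, hgu, K, hK, V, hcov, hdisj, -, hI⟩ :=
    Groth.Agent.Lib.helper13.UR.exists_etale_nbhd_finite f s
  obtain ⟨n, e, iso, hiso⟩ := Groth.Agent.Lib.helper13.UR.exists_sigma_iso V hcov hdisj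
  refine ⟨U, g, hg, u, hgu, n, fun j ↦ (V (e j)).toScheme,
    fun j ↦ (V (e j)).ι ≫ pullback.snd f g, fun j ↦ hI inferInstance (e j), iso, fun j ↦ ?_⟩
  rw [← Category.assoc, hiso j]

end Groth.Agent.S9559
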