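import Groth.Statements.S9564
import Mathlib
import Groth.Agent.S9563

set_option autoImplicit false
universe u
open EtLocal

namespace Groth.Agent.S9564

open TensorProduct IsLocalRing Algebra Groth.Agent.S9563

/-- Let A → B be an unramified homomorphism of Noetherian local rings, i.e. a local homomorphism with B
essentially of finite type over A, m_A B = m_B, and residue field of B finite separable over that of
A. Then there are a standard étale A-algebra B' = A[t]_g/(f) (f monic and f' invertible in B'), a
prime 𝔮 of B' and an ideal I of the localization of B' at 𝔮 such that B is isomorphic as an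
A-algebra to the quotient of that localization by I (existence of an isomorphism). -/
theorem result (A B : Type u) [CommRing A] [CommRing B]
    [IsLocalRing A] [IsLocalRing B] [IsNoetherianRing A] [IsNoetherianRing B] [Algebra A B]
    [IsLocalHom (algebraMap A B)] [Algebra.EssFiniteType A B]
    (hm : (IsLocalRing.maximalIdeal A).map (algebraMap A B) = IsLocalRing.maximalIdeal B)
    [Module.Finite (IsLocalRing.ResidueField A) (IsLocalRing.ResidueField B)]
    [Algebra.IsSeparable (IsLocalRing.ResidueField A) (IsLocalRing.ResidueField B)] :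
    ∃ (P : StandardEtalePair A) (𝔮 : Ideal P.Ring) (_ : 𝔮.IsPrime) (I : Ideal (Localization.AtPrime 𝔮)),
      Nonempty (B ≃ₐ[A] (Localization.AtPrime 𝔮 ⧸ I)) := by
  let C := EssFiniteType.subalgebra A B
  let M := EssFiniteType.submonoid A B
  have : IsLocalization M B := EssFiniteType.isLocalization A B
  have hU : FormallyUnramified A B := formallyUnramified_of A B hm
  let q : Ideal C := (maximalIdeal B).comap (algebraMap C B)
  have hq : IsLocalization.AtPrime B q := atPrime_of_isLocalization M
  let e₁ : B ≃ₐ[C] Localization.AtPrime q := IsLocalization.algEquiv q.primeCompl _ _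
  have : IsUnramifiedAt A q := FormallyUnramified.of_equiv (e₁.restrictScalars A)
  obtain ⟨f, hf, P, φ, hφ⟩ := IsUnramifiedAt.exists_hasStandardEtaleSurjectionOn (R := A) q
  have hfu : IsUnit (algebraMap C B f) := IsLocalization.map_units (M := q.primeCompl) B ⟨f, hf⟩
  obtain ⟨𝔮', h𝔮', ⟨e₂⟩⟩ := exists_equiv_away (A := A) M f hfu
  let 𝔮 : Ideal P.Ring := 𝔮'.comap φ
  have : 𝔮.IsPrime := Ideal.comap_isPrime _ _
  let Φ : Localization.AtPrime 𝔮 →ₐ[A] Localization.AtPrime 𝔮' :=
    Localization.localAlgHom 𝔮 𝔮' φ rfl
  have hΦ : Function.Surjective Φ := localAlgHom_surjective φ hφ 𝔮'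
  exact ⟨P, 𝔮, inferInstance, RingHom.ker Φ,
    ⟨e₂.trans (Ideal.quotientKerAlgEquivOfSurjective hΦ).symm⟩⟩

end Groth.Agent.S9564
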