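import Groth.Statements.S9722
import Mathlib
import Groth.Agent.Lib.Helper18.StalkEtale4

set_option autoImplicit false
universe u
open CategoryTheory AlgebraicGeometry
open Mor

namespace Groth.Agent.S9722

theorem appLE_ι_comp {X S : Scheme.{u}} (f : X ⟶ S) (W : X.Opens) (V : S.Opens)
    (U'' : W.toScheme.Opens)
    (e' : U'' ≤ (W.ι ≫ f) ⁻¹ᵁ V) (e : W.ι ''ᵁ U'' ≤ f ⁻¹ᵁ V) :
    (W.ι ≫ f).appLE V U'' e' = f.appLE V (W.ι ''ᵁ U'') e := by
  rw [Scheme.Hom.comp_appLE]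
  simp only [Scheme.Opens.ι_appLE]
  rfl

/-- Let f : X ⟶ S be a morphism, x a point of X and V an affine open neighbourhood of f(x) in S. Then f
is étale on some open neighbourhood of x if and only if there is an affine open neighbourhood U of x
with f(U) ⊆ V such that Γ(X, U) is a standard étale algebra over Γ(S, V) through the induced ring
map. -/
theorem result {X S : Scheme.{u}} (f : X ⟶ S) (x : X)
    (V : S.Opens) (hV : IsAffineOpen V) (hxV : f x ∈ V) :
    (∃ W : X.Opens, x ∈ W ∧ Etale (W.ι ≫ f)) ↔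
      ∃ (U : X.Opens) (_ : IsAffineOpen U) (_ : x ∈ U) (e : U ≤ f ⁻¹ᵁ V),
        letI := (f.appLE V U e).hom.toAlgebra
        Algebra.IsStandardEtale Γ(S, V) Γ(X, U) := by
  constructor
  · rintro ⟨W, hxW, hW⟩
    obtain ⟨U, hU, hxU, e', hstd⟩ :=
      H18Stalk.exists_standardEtale_of_etale (W.ι ≫ f) (⟨x, hxW⟩ : W.toScheme) V hV hxV
    have e : W.ι ''ᵁ U ≤ f ⁻¹ᵁ V := by
      rintro _ ⟨y, hy, rfl⟩
      exact e' hy
    refine ⟨W.ι ''ᵁ U, hU.image_of_isOpenImmersion W.ι, ⟨⟨x, hxW⟩, hxU, rfl⟩, e, ?_⟩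
    have key := appLE_ι_comp f W V U e' e
    have h2 : (f.appLE V (W.ι ''ᵁ U) e).hom.toAlgebra =
        ((W.ι ≫ f).appLE V U e').hom.toAlgebra := by rw [key]; rfl
    show @Algebra.IsStandardEtale Γ(S, V) Γ(X, W.ι ''ᵁ U) _ _
      (f.appLE V (W.ι ''ᵁ U) e).hom.toAlgebra
    rw [h2]
    exact hstd
  · rintro ⟨U, hU, hxU, e, hstd⟩
    refine ⟨U, hxU, ?_⟩
    refine H18Stalk.comp_ι_of_appLE (P := @Etale) (fun g _ ↦ inferInstance) f V hV U hU e ?_
    let := (f.appLE V U e).hom.toAlgebra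
    have : Algebra.Etale Γ(S, V) Γ(X, U) := inferInstance
    rw [← RingHom.etale_algebraMap] at this
    exact this

end Groth.Agent.S9722
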