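import Groth.Statements.S9567
import Mathlib
import Groth.Agent.S9722

set_option autoImplicit false
universe u
open EtLocal

namespace Groth.Agent.S9567

open AlgebraicGeometry CategoryTheory Polynomial in

open AlgebraicGeometry CategoryTheory in
/-- Let φ : X ⟶ Y be any morphism of schemes, x a point of X and V an affine open neighbourhood of φ(x),
with ring R = Γ(Y, V). If φ is étale on some open neighbourhood of x, then there are an affine open
neighbourhood U of x with φ(U) ⊆ V, a monic polynomial p over R and an open immersion j of U into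
Spec of (R[t]/(p))[1/p′] (the localization of R[t]/(p) away from the image of the derivative of p)
such that j followed by the projection to Spec R is the morphism U → Spec R induced by φ. -/
theorem result {X Y : Scheme.{u}} (φ : X ⟶ Y) (x : X)
    (V : Y.Opens) (hV : IsAffineOpen V) (hxV : φ.base x ∈ V)
    (hφ : ∃ W : X.Opens, x ∈ W ∧ Etale (W.ι ≫ φ)) :
    ∃ (U : X.Opens) (hU : IsAffineOpen U) (_ : x ∈ U) (e : U ≤ φ ⁻¹ᵁ V)
      (p : Polynomial Γ(Y, V)) (_ : p.Monic)
      (j : U.toScheme ⟶ Spec (CommRingCat.of (Localization.Away (AdjoinRoot.mk p (Polynomial.derivative p))))),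
      IsOpenImmersion j ∧
        j ≫ Spec.map (CommRingCat.ofHom
            (algebraMap Γ(Y, V) (Localization.Away (AdjoinRoot.mk p (Polynomial.derivative p))))) =
          hU.isoSpec.hom ≫ Spec.map (φ.appLE V U e) := by
  obtain ⟨U, hU, hxU, e, hstd⟩ := (Groth.Agent.S9722.result φ x V hV hxV).mp hφ
  let := (φ.appLE V U e).hom.toAlgebra
  obtain ⟨⟨PP⟩⟩ := hstd
  let P := PP.P
  let p := P.f
  let AR := AdjoinRoot p
  let ARg := Localization.Away (AdjoinRoot.mk p P.g)
  let ARd := Localization.Away (AdjoinRoot.mk p (derivative p))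
  let e₁ : Γ(X, U) ≃ₐ[Γ(Y, V)] P.Ring := PP.equivRing
  let e₂ : P.Ring ≃ₐ[Γ(Y, V)] ARg := P.equivAwayAdjoinRoot
  -- the derivative is a unit in ARg
  have hu : IsUnit (algebraMap AR ARg (AdjoinRoot.mk p (derivative p))) := by
    have hmap : P.HasMap (algebraMap AR ARg (AdjoinRoot.root p)) := by
      refine ⟨?_, ?_⟩
      · rw [aeval_algebraMap_apply, AdjoinRoot.aeval_eq, AdjoinRoot.mk_self, map_zero]
      · rw [aeval_algebraMap_apply, AdjoinRoot.aeval_eq]
        exact IsLocalization.Away.algebraMap_isUnit ..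
    have h := hmap.isUnit_derivative_f
    rwa [aeval_algebraMap_apply, AdjoinRoot.aeval_eq] at h
  let ψ : ARd →ₐ[Γ(Y, V)] ARg :=
    IsLocalization.Away.liftAlgHom (AdjoinRoot.mk p (derivative p))
      (f := IsScalarTower.toAlgHom Γ(Y, V) AR ARg) hu
  let θ : ARd →ₐ[Γ(Y, V)] Γ(X, U) := e₁.symm.toAlgHom.comp (e₂.symm.toAlgHom.comp ψ)
  refine ⟨U, hU, hxU, e, p, P.monic_f, hU.isoSpec.hom ≫ Spec.map (CommRingCat.ofHom θ.toRingHom),
    ?_, ?_⟩
  · have h1 : IsOpenImmersion (Spec.map (CommRingCat.ofHom (algebraMap AR ARd))) :=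
      IsOpenImmersion.of_isLocalization (AdjoinRoot.mk p (derivative p))
    have h2 : IsOpenImmersion (Spec.map (CommRingCat.ofHom (algebraMap AR ARg))) :=
      IsOpenImmersion.of_isLocalization (AdjoinRoot.mk p P.g)
    have h3 : Spec.map (CommRingCat.ofHom ψ.toRingHom) ≫
        Spec.map (CommRingCat.ofHom (algebraMap AR ARd)) =
        Spec.map (CommRingCat.ofHom (algebraMap AR ARg)) := by
      rw [← Spec.map_comp, ← CommRingCat.ofHom_comp]
      congr 2
      exact IsLocalization.Away.lift_comp _ hu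
    have h4 : IsOpenImmersion (Spec.map (CommRingCat.ofHom ψ.toRingHom)) := by
      have : IsOpenImmersion (Spec.map (CommRingCat.ofHom ψ.toRingHom) ≫
        Spec.map (CommRingCat.ofHom (algebraMap AR ARd))) := by rw [h3]; exact h2
      exact IsOpenImmersion.of_comp _ (Spec.map (CommRingCat.ofHom (algebraMap AR ARd)))
    have h5 : θ.toRingHom = (e₁.symm.toRingEquiv.toRingHom.comp
        e₂.symm.toRingEquiv.toRingHom).comp ψ.toRingHom := rfl
    rw [h5, CommRingCat.ofHom_comp, Spec.map_comp]
    have h6 : IsIso (CommRingCat.ofHom (e₁.symm.toRingEquiv.toRingHom.comp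
        e₂.symm.toRingEquiv.toRingHom)) :=
      inferInstanceAs (IsIso ((e₂.symm.toRingEquiv.trans
        e₁.symm.toRingEquiv).toCommRingCatIso.hom))
    infer_instance
  · rw [Category.assoc, ← Spec.map_comp, ← CommRingCat.ofHom_comp]
    congr 2
    have := θ.comp_algebraMap
    ext a
    exact congr($this a)

end Groth.Agent.S9567
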