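import Groth.Statements.S9572
import Groth.Agent.S3596
import Groth.Agent.Lib.Helper28.GTwistLoc2
import Mathlib.AlgebraicGeometry.Morphisms.IsIso
-- import your own Groth.Agent.* helpers here

set_option autoImplicit false
universe u
open CategoryTheory CategoryTheory.Limits AlgebraicGeometry TopologicalSpace Opposite
open Constr

namespace Groth.Agent.S9572

/-- Let ψ : A → B be a homomorphism of graded rings such that A_d → B_d is bijective for all d ≥ d₀. Let
U(ψ) ⊆ Proj B be the union of the opens D_+(ψ f) over homogeneous f of positive degree, and r_ψ :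
U(ψ) → Proj A the morphism whose restriction to each chart Spec B_(ψ f) is Spec of the induced map
A_(f) → B_(ψ f) followed by the chart of Proj A. Then U(ψ) = Proj B and r_ψ is an isomorphism. (Here
r_ψ is any morphism with that chart description; it is unique.) -/
theorem result {R A : Type u} [CommRing R] [CommRing A] [Algebra R A] (𝒜 : ℕ → Submodule R A) [GradedAlgebra 𝒜]
    {B : Type u} [CommRing B] [Algebra R B] (ℬ : ℕ → Submodule R B) [GradedAlgebra ℬ] (ψ : 𝒜 →+*ᵍ ℬ)
    (d₀ : ℕ) (hbij : ∀ d : ℕ, d₀ ≤ d → Set.BijOn ψ (𝒜 d) (ℬ d))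
    (r : (PCone.dom ψ : Scheme.{u}) ⟶ Proj 𝒜)
    (hr : ∀ (d : ℕ) (f : A) (hd : 0 < d) (hf : f ∈ 𝒜 d),
      PCone.chart ψ hf hd ≫ r =
        Spec.map (CommRingCat.ofHom (HomogeneousLocalization.Away.map ψ f)) ≫ Proj.awayι 𝒜 f hf hd) :
    PCone.dom ψ = ⊤ ∧ IsIso r := by
  classical
  -- every point of `Proj ℬ` lies in some `D₊(ψ t)`
  have hdom : PCone.dom ψ = ⊤ := by
    rw [← top_le_iff]
    intro y _
    obtain ⟨e', t', he', ht', hty'⟩ :=
      Groth.Agent.Lib.helper28.ProjLocAway.exists_pos_notMem' (𝒜 := ℬ) y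
    have hle : d₀ ≤ (d₀ + 1) • e' := by
      rw [smul_eq_mul]
      calc d₀ ≤ d₀ + 1 := Nat.le_succ _
        _ = (d₀ + 1) * 1 := (mul_one _).symm
        _ ≤ (d₀ + 1) * e' := Nat.mul_le_mul_left _ he'
    have hpos : 0 < (d₀ + 1) • e' := by
      rw [smul_eq_mul]
      exact Nat.mul_pos (Nat.succ_pos _) he'
    obtain ⟨t, ht, htψ⟩ := (hbij _ hle).surjOn (SetLike.pow_mem_graded (d₀ + 1) ht')
    refine Opens.mem_iSup.mpr ⟨⟨t, _, hpos, ht⟩, ?_⟩
    change y ∈ Proj.basicOpen ℬ (ψ t)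
    rw [Proj.mem_basicOpen, htψ]
    exact fun h => hty' (y.isPrime.mem_of_pow_mem _ h)
  refine ⟨hdom, ?_⟩
  change MorphismProperty.isomorphisms Scheme r
  refine IsZariskiLocalAtTarget.of_openCover (P := MorphismProperty.isomorphisms Scheme.{u})
    (Proj.affineOpenCover 𝒜).openCover ?_
  intro i
  have hf : (i.2 : A) ∈ 𝒜 i.1 := i.2.2
  have hd : 0 < (i.1 : ℕ) := i.1.2
  have hb := Groth.Agent.Lib.helper28.GTwistLoc2.away_map_bijective_of_eventually ψ d₀ hbij hd
    (i.2 : A) hf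
  have hiso : IsIso (Spec.map (CommRingCat.ofHom (HomogeneousLocalization.Away.map ψ (i.2 : A)))) := by
    have : IsIso (CommRingCat.ofHom (HomogeneousLocalization.Away.map ψ (i.2 : A))) :=
      (ConcreteCategory.isIso_iff_bijective _).mpr hb
    infer_instance
  have hpb : IsPullback (PCone.chart ψ hf hd)
      (Spec.map (CommRingCat.ofHom (HomogeneousLocalization.Away.map ψ (i.2 : A))))
      r (Proj.awayι 𝒜 (i.2 : A) hf hd) := by
    refine (IsOpenImmersion.isPullback _ (PCone.chart ψ hf hd) (Proj.awayι 𝒜 (i.2 : A) hf hd) r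
      (hr _ _ hd hf) ?_).flip
    rw [Proj.opensRange_awayι]
    exact Groth.Agent.S3596.preimage_eq 𝒜 ℬ ψ r hr hf hd
  have e1 : hpb.isoPullback.hom ≫ pullback.snd r (Proj.awayι 𝒜 (i.2 : A) hf hd) =
      Spec.map (CommRingCat.ofHom (HomogeneousLocalization.Away.map ψ (i.2 : A))) :=
    hpb.isoPullback_hom_snd
  have e2 : pullback.snd r (Proj.awayι 𝒜 (i.2 : A) hf hd) = hpb.isoPullback.inv ≫
      Spec.map (CommRingCat.ofHom (HomogeneousLocalization.Away.map ψ (i.2 : A))) := by
    rw [Iso.eq_inv_comp]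
    exact e1
  change IsIso (pullback.snd r (Proj.awayι 𝒜 (i.2 : A) hf hd))
  rw [e2]
  infer_instance

end Groth.Agent.S9572
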