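import Groth.Statements.S9573
import Groth.Agent.Lib.Helper28.AdjOpenImm
import Groth.Agent.Lib.Helper28.GTwistLoc
-- import your own Groth.Agent.* helpers here

set_option autoImplicit false
universe u
open CategoryTheory CategoryTheory.Limits AlgebraicGeometry TopologicalSpace Opposite
open scoped HomogeneousIdeal
open Constr

namespace Groth.Agent.S9573

/-- Let A be a graded ring, g an element of degree zero and ψ : A → B = A_g the localization map, B
carrying the induced grading (B_n consists of the b with g^k b = ψ(a) for some k and some a ∈ A_n).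
Then the morphism r_ψ : Proj B → Proj A induced by ψ is everywhere defined, it is an open immersion
whose image is the inverse image of the basic open D(g) of Spec A_0 under the structure morphism
Proj A → Spec A_0, and for every integer n the canonical map θ : r_ψ^* O_{Proj A}(n) → O_{Proj B}(n)
(adjoint to a/f ↦ ψ(a)/ψ(f)) is an isomorphism. (The containment of B_+ in the ideal generated by
ψ(A_+), through which r_ψ is Proj.map here, follows from the other hypotheses and is carried as
data.) -/
theorem result {R A : Type u} [CommRing R] [CommRing A] [Algebra R A] (𝒜 : ℕ → Submodule R A) [GradedAlgebra 𝒜]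
    {B : Type u} [CommRing B] [Algebra R B] (ℬ : ℕ → Submodule R B) [GradedAlgebra ℬ] (ψ : 𝒜 →+*ᵍ ℬ)
    (g : A) (hg : g ∈ 𝒜 0) [Algebra A B] (hψA : ∀ a : A, ψ a = algebraMap A B a) [IsLocalization.Away g B]
    (hdeg : ∀ (n : ℕ) (b : B), b ∈ ℬ n ↔ ∃ (k : ℕ) (a : A), a ∈ 𝒜 n ∧ ψ g ^ k * b = ψ a)
    (hψ : HomogeneousIdeal.irrelevant ℬ ≤ (HomogeneousIdeal.irrelevant 𝒜).map ψ) :
    IsOpenImmersion (Proj.map ψ hψ) ∧
      Set.range (Proj.map ψ hψ).base =
        (Proj.toSpecZero 𝒜).base ⁻¹' (PrimeSpectrum.basicOpen (⟨g, hg⟩ : 𝒜 0) : Set (PrimeSpectrum (𝒜 0))) ∧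
      ∀ n : ℤ, IsIso (((Scheme.Modules.pullbackPushforwardAdjunction (Proj.map ψ hψ)).homEquiv _ _).symm
        (GrTwist.comap ψ hψ n)) := by
  have hloc : Groth.Agent.Lib.helper28.ProjLocAway.IsLocAt ψ g := by
    refine ⟨hg, ?_, ?_, ?_⟩
    · rw [hψA]
      exact IsLocalization.map_units (M := Submonoid.powers g) B ⟨g, Submonoid.mem_powers g⟩
    · intro b
      obtain ⟨⟨a, ⟨_, k, rfl⟩⟩, hak⟩ := IsLocalization.surj (Submonoid.powers g) b
      refine ⟨a, k, ?_⟩
      simp only at hak
      rw [hψA, hψA, ← map_pow]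
      exact hak
    · intro a a' haa
      rw [hψA, hψA] at haa
      obtain ⟨⟨_, k, rfl⟩, hk⟩ := (IsLocalization.eq_iff_exists (Submonoid.powers g) B).mp haa
      exact ⟨k, hk⟩
  have himm := Groth.Agent.Lib.helper28.ProjLocAway.isOpenImmersion_map hloc hψ
  refine ⟨himm, ?_, ?_⟩
  · ext x
    rw [Groth.Agent.Lib.helper28.ProjLocAway.mem_range_map_iff hloc hψ x]
    rfl
  · intro n
    refine Groth.Agent.Lib.helper28.AdjOpenImm.isIso_homEquiv_symm (Proj.map ψ hψ)
      (GrTwist.comap ψ hψ n) ?_
    intro V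
    refine Groth.Agent.Lib.helper28.GTwistLoc.comap_app_bijective hloc hψ n _ ?_
    rintro _ ⟨z, -, rfl⟩
    exact ⟨z, rfl⟩

end Groth.Agent.S9573
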