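import Groth.Statements.S9575
import Groth.Agent.Lib.Helper28.TwistInv
-- import your own Groth.Agent.* helpers here

set_option autoImplicit false
universe u
open CategoryTheory CategoryTheory.Limits AlgebraicGeometry TopologicalSpace Opposite
open Constr

namespace Groth.Agent.S9575

/-- Let S be a graded ring, X = Proj S, d ≥ 1, and a, b homogeneous elements with deg a = deg b + d.
Then for every integer n the restriction of the twisting sheaf O_X(nd) to the standard open D_+(ab)
is isomorphic to the structure sheaf of D_+(ab): it is free of rank one, generated by the section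
(a/b)^n. (This is the invertibility half of the fact that D_+(ab) lies in the open W_d where the
O_X(nd) are invertible with compatible multiplications; existence of an isomorphism only. The
compatibility of the multiplication maps O_X(nd) ⊗ O_X(md) → O_X(nd+md) on this open, and the
converse statement that the largest such open is the union of the D_+(ab), are not stated here.) -/
theorem result {R A : Type u} [CommRing R] [CommRing A] [Algebra R A] (𝒜 : ℕ → Submodule R A) [GradedAlgebra 𝒜]
    {d : ℕ} (hd : 0 < d) {i j : ℕ} {a b : A} (ha : a ∈ 𝒜 i) (hb : b ∈ 𝒜 j) (hij : i = j + d) (n : ℤ) :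
    Nonempty ((Twist.twist 𝒜 (n * d)).restrict (Proj.basicOpen 𝒜 (a * b)).ι ≅
      Coh.structureModule ↑(Proj.basicOpen 𝒜 (a * b))) := by
  subst hij
  have hab : a * b ∈ 𝒜 (j + d + j) := SetLike.mul_mem_graded ha hb
  have h1 : a ^ n.toNat * b ^ (-n).toNat ∈ 𝒜 (n.toNat * (j + d) + (-n).toNat * j) := by
    have h1 := SetLike.pow_mem_graded n.toNat ha
    have h2 := SetLike.pow_mem_graded (-n).toNat hb
    simp only [smul_eq_mul] at h1 h2
    exact SetLike.mul_mem_graded h1 h2
  have h2 : b ^ n.toNat * a ^ (-n).toNat ∈ 𝒜 (n.toNat * j + (-n).toNat * (j + d)) := by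
    have h1 := SetLike.pow_mem_graded n.toNat hb
    have h2 := SetLike.pow_mem_graded (-n).toNat ha
    simp only [smul_eq_mul] at h1 h2
    exact SetLike.mul_mem_graded h1 h2
  have hna : ∀ x : ProjectiveSpectrum 𝒜, a * b ∉ x.asHomogeneousIdeal →
      a ∉ x.asHomogeneousIdeal := fun x hx hmem =>
    hx (Ideal.mul_mem_right _ _ hmem)
  have hnb : ∀ x : ProjectiveSpectrum 𝒜, a * b ∉ x.asHomogeneousIdeal →
      b ∉ x.asHomogeneousIdeal := fun x hx hmem =>
    hx (Ideal.mul_mem_left _ _ hmem)
  refine Groth.Agent.Lib.helper28.TwistInv.isTrivOn_of_unit_fraction 𝒜 (n * d) (by omega) hab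
    ⟨_, h1⟩ ⟨_, h2⟩ ?_ ?_ ?_
  · intro x hx hmem
    rcases x.isPrime.mem_or_mem hmem with h | h
    · exact hna x hx (x.isPrime.mem_of_pow_mem _ h)
    · exact hnb x hx (x.isPrime.mem_of_pow_mem _ h)
  · intro x hx hmem
    rcases x.isPrime.mem_or_mem hmem with h | h
    · exact hnb x hx (x.isPrime.mem_of_pow_mem _ h)
    · exact hna x hx (x.isPrime.mem_of_pow_mem _ h)
  · push_cast
    have : (n.toNat : ℤ) - ((-n).toNat : ℤ) = n := Int.toNat_sub_toNat_neg n
    linear_combination (d : ℤ) * this

end Groth.Agent.S9575
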