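import Groth.Statements.S9578
import Groth.Agent.Lib.Helper28.TildeTwist
import Groth.Agent.Lib.Helper28.SheafifyLocal
-- import your own Groth.Agent.* helpers here

set_option autoImplicit false
universe u
open CategoryTheory CategoryTheory.Limits AlgebraicGeometry TopologicalSpace Opposite
open Constr

namespace Groth.Agent.S9578

/-- Let S be a graded ring, M a graded S-module (graded in non-negative degrees here), X = Proj S and d
≥ 1; let W_d ⊆ X be the union of the standard opens D_+(ab) over the pairs of homogeneous elements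
a, b with deg a = deg b + d (the open over which the twisting sheaves O_X(nd) are invertible with
compatible multiplications). Then for every integer n the restrictions to W_d of M~(nd) = M~ ⊗
O_X(nd) and of M(nd)~, the module attached to the shifted module, are isomorphic. (Existence of an
isomorphism only; in the published statement it is the canonical multiplication map M~ ⊗ O_X(nd) →
M(nd)~ that restricts to an isomorphism over W_d. That W_d is the largest open over which the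
O_X(nd) are invertible with compatible multiplications is not stated here.) -/
theorem result {R A : Type u} [CommRing R] [CommRing A] [Algebra R A] (𝒜 : ℕ → Submodule R A) [GradedAlgebra 𝒜]
    {M : Type u} [AddCommGroup M] [Module R M] [Module A M] [IsScalarTower R A M] (ℳ : ℕ → Submodule R M)
    [DirectSum.Decomposition ℳ] [SetLike.GradedSMul 𝒜 ℳ]
    {d : ℕ} (hd : 0 < d) (n : ℤ) :
    Nonempty ((Twist.twistBy 𝒜 (GrTilde.tilde 𝒜 ℳ 0) (n * d)).restrict
        (⨆ (j : ℕ) (a : 𝒜 (j + d)) (b : 𝒜 j), Proj.basicOpen 𝒜 ((a : A) * b)).ι ≅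
      (GrTilde.tilde 𝒜 ℳ (n * d)).restrict
        (⨆ (j : ℕ) (a : 𝒜 (j + d)) (b : 𝒜 j), Proj.basicOpen 𝒜 ((a : A) * b)).ι) := by
  classical
  let W : (Proj 𝒜).Opens := ⨆ (j : ℕ) (a : 𝒜 (j + d)) (b : 𝒜 j), Proj.basicOpen 𝒜 ((a : A) * b)
  let B : Set (Proj 𝒜).Opens := {V | ∃ (j : ℕ) (a : 𝒜 (j + d)) (b : 𝒜 j) (e : ℕ) (h : A),
    h ∈ 𝒜 e ∧ V = Proj.basicOpen 𝒜 ((a : A) * b * h)}
  have hB : ∀ (U : (Proj 𝒜).Opens) (x : ↥(Proj 𝒜)), x ∈ U → x ∈ W →
      ∃ V ∈ B, x ∈ V ∧ V ≤ U ⊓ W := by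
    intro U x hxU hxW
    simp only [W, TopologicalSpace.Opens.mem_iSup] at hxW
    obtain ⟨j, a, b, hxab⟩ := hxW
    have hle : Proj.basicOpen 𝒜 ((a : A) * b) ≤ W :=
      le_iSup_of_le j (le_iSup_of_le a (le_iSup_of_le b le_rfl))
    have hxab' : (a : A) * b ∉ (show ProjectiveSpectrum 𝒜 from x).asHomogeneousIdeal :=
      (ProjectiveSpectrum.mem_basicOpen 𝒜 _ _).mp hxab
    obtain ⟨e, h, hh, hhx, hhU⟩ :=
      Groth.Agent.Lib.helper28.GrTildeSec.exists_homogeneous_basicOpen 𝒜
        (U ⊓ Proj.basicOpen 𝒜 ((a : A) * b)) x ⟨hxU, hxab⟩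
    refine ⟨Proj.basicOpen 𝒜 ((a : A) * b * h), ⟨j, a, b, e, h, hh, rfl⟩, ?_, ?_⟩
    · exact (ProjectiveSpectrum.mem_basicOpen 𝒜 _ _).mpr fun hmem =>
        ((show ProjectiveSpectrum 𝒜 from x).isPrime.mem_or_mem hmem).elim hxab' hhx
    · intro z hz
      have hz' := hhU z fun hmem =>
        (ProjectiveSpectrum.mem_basicOpen 𝒜 ((a : A) * b * h) z).mp hz (Ideal.mul_mem_left _ _ hmem)
      exact ⟨hz'.1, hle hz'.2⟩
  have hφ : ∀ V ∈ B, Function.Bijective
      ((Groth.Agent.Lib.helper28.TildeTwist.pairHom 𝒜 ℳ 0 (n * d)).app (Opposite.op V)).hom := by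
    rintro _ ⟨j, a, b, e, h, hh, rfl⟩
    have hF : (a : A) * b * h ∈ 𝒜 (j + d + j + e) :=
      SetLike.mul_mem_graded (SetLike.mul_mem_graded a.2 b.2) hh
    have h1 : (a : A) ^ n.toNat * (b : A) ^ (-n).toNat ∈
        𝒜 (n.toNat * (j + d) + (-n).toNat * j) := by
      have h1 := SetLike.pow_mem_graded n.toNat a.2
      have h2 := SetLike.pow_mem_graded (-n).toNat b.2
      simp only [smul_eq_mul] at h1 h2
      exact SetLike.mul_mem_graded h1 h2
    have h2 : (b : A) ^ n.toNat * (a : A) ^ (-n).toNat ∈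
        𝒜 (n.toNat * j + (-n).toNat * (j + d)) := by
      have h1 := SetLike.pow_mem_graded n.toNat b.2
      have h2 := SetLike.pow_mem_graded (-n).toNat a.2
      simp only [smul_eq_mul] at h1 h2
      exact SetLike.mul_mem_graded h1 h2
    have hna : ∀ x : ProjectiveSpectrum 𝒜, (a : A) * b * h ∉ x.asHomogeneousIdeal →
        (a : A) ∉ x.asHomogeneousIdeal := fun x hx hmem =>
      hx (Ideal.mul_mem_right _ _ (Ideal.mul_mem_right _ _ hmem))
    have hnb : ∀ x : ProjectiveSpectrum 𝒜, (a : A) * b * h ∉ x.asHomogeneousIdeal →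
        (b : A) ∉ x.asHomogeneousIdeal := fun x hx hmem =>
      hx (Ideal.mul_mem_right _ _ (Ideal.mul_mem_left _ _ hmem))
    refine Groth.Agent.Lib.helper28.TildeTwist.pairHomApp_bijective_of_unit 𝒜 ℳ 0 (n * d)
      (by omega) hF ⟨_, h1⟩ ⟨_, h2⟩ ?_ ?_ ?_
    · intro x hx hmem
      rcases x.isPrime.mem_or_mem hmem with h' | h'
      · exact hna x hx (x.isPrime.mem_of_pow_mem _ h')
      · exact hnb x hx (x.isPrime.mem_of_pow_mem _ h')
    · intro x hx hmem
      rcases x.isPrime.mem_or_mem hmem with h' | h'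
      · exact hnb x hx (x.isPrime.mem_of_pow_mem _ h')
      · exact hna x hx (x.isPrime.mem_of_pow_mem _ h')
    · push_cast
      have : (n.toNat : ℤ) - ((-n).toNat : ℤ) = n := Int.toNat_sub_toNat_neg n
      linear_combination (d : ℤ) * this
  have hiso := Groth.Agent.Lib.helper28.SheafifyLocal.isIso_restrict_sheafify_map_of_bijective_on_basis
    (Groth.Agent.Lib.helper28.TildeTwist.pairHom 𝒜 ℳ 0 (n * d)) W B hB hφ
  have e0 : (0 : ℤ) + n * d = n * d := zero_add _
  exact ⟨@asIso _ _ _ _ _ hiso ≪≫ (Scheme.Modules.restrictFunctor W.ι).mapIso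
    ((asIso (PresheafOfModules.sheafificationAdjunction.{u, u, u, u}
      (J := Opens.grothendieckTopology (Proj 𝒜))
      (𝟙 (Proj 𝒜).ringCatSheaf.obj)).counit).app (GrTilde.tilde 𝒜 ℳ (0 + n * d)) ≪≫
      (eqToIso (by rw [e0]) : GrTilde.tilde 𝒜 ℳ (0 + n * d) ≅ GrTilde.tilde 𝒜 ℳ (n * d)))⟩

end Groth.Agent.S9578
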