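import Groth.Statements.S9589
import Mathlib
import Groth.Agent.Lib.Helper28.WeakAss
-- import your own Groth.Agent.* helpers here

set_option autoImplicit false
universe u
open CAlg

namespace Groth.Agent.S9589

/-- For a ring R, an R-module M, a multiplicative subset S of R and a prime p of R not meeting S, p is
weakly associated to M if and only if the extended prime p S⁻¹R is weakly associated to the
S⁻¹R-module S⁻¹M. -/
theorem result {R : Type u} [CommRing R] (S : Submonoid R) (M : Type u) [AddCommGroup M] [Module R M] (p : Ideal R) [p.IsPrime] (hS : Disjoint (S : Set R) (p : Set R)) :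
    p ∈ FlatCA.weakAss R M ↔ Ideal.map (algebraMap R (Localization S)) p ∈ FlatCA.weakAss (Localization S) (LocalizedModule S M) := by
  have hcm : (Ideal.map (algebraMap R (Localization S)) p).comap (algebraMap R (Localization S)) = p :=
    IsLocalization.comap_map_of_isPrime_disjoint S (Localization S) inferInstance hS
  constructor
  · rintro ⟨m, hp⟩
    refine ⟨LocalizedModule.mk m 1, ?_⟩
    have h1 := (Groth.Agent.Lib.helper28.mem_minimalPrimes_ann_mk_iff S p hS m 1).mpr hp
    rw [Groth.Agent.Lib.helper28.ann_eq_comap_ann, IsLocalization.minimalPrimes_comap S] at h1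
    obtain ⟨Q, hQ, hQp⟩ := h1
    have : Q = Ideal.map (algebraMap R (Localization S)) p := by
      rw [← hQp, IsLocalization.map_comap S]
    rw [← this]
    exact hQ
  · rintro ⟨z, hz⟩
    induction z using LocalizedModule.induction_on with
    | h m s =>
      refine ⟨m, ?_⟩
      rw [← Groth.Agent.Lib.helper28.mem_minimalPrimes_ann_mk_iff S p hS m s,
        Groth.Agent.Lib.helper28.ann_eq_comap_ann, IsLocalization.minimalPrimes_comap S]
      exact ⟨_, hz, hcm⟩

end Groth.Agent.S9589
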