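import Groth.Statements.S9581
import Mathlib
import Groth.Agent.S9589
-- import your own Groth.Agent.* helpers here

set_option autoImplicit false
universe u
open CAlg

namespace Groth.Agent.S9581

theorem maximalIdeal_mem_minimalPrimes_iff {A : Type u} [CommRing A] [IsLocalRing A] (J : Ideal A) :
    IsLocalRing.maximalIdeal A ∈ J.minimalPrimes ↔ IsLocalRing.maximalIdeal A = J.radical := by
  constructor
  · intro h
    apply le_antisymm
    · rw [Ideal.radical_eq_sInf]
      apply le_sInf
      rintro Q ⟨hJQ, hQ⟩
      exact h.2 ⟨hQ, hJQ⟩ (IsLocalRing.le_maximalIdeal hQ.ne_top)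
    · exact (h.isPrime.radical_le_iff).mpr h.le
  · intro h
    refine ⟨⟨inferInstance, ?_⟩, ?_⟩
    · rw [h]; exact Ideal.le_radical
    · rintro Q ⟨hQ, hJQ⟩ _
      rw [h]
      exact (hQ.radical_le_iff).mpr hJQ

/-- (1) ⇔ (3): for a ring R, an R-module M and a prime p of R, the prime p is weakly associated to M
(minimal among the primes containing the annihilator of some element of M) if and only if the
localization M_p contains an element whose annihilator in R_p has radical equal to the maximal ideal
p R_p. -/
theorem result {R : Type u} [CommRing R] (M : Type u) [AddCommGroup M] [Module R M] (p : Ideal R) [p.IsPrime] :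
    p ∈ FlatCA.weakAss R M ↔ IsAssociatedPrime (IsLocalRing.maximalIdeal (Localization.AtPrime p)) (LocalizedModule p.primeCompl M) := by
  have hS : Disjoint (p.primeCompl : Set R) (p : Set R) := by
    rw [Set.disjoint_left]
    intro a ha hap
    exact ha hap
  rw [Groth.Agent.S9589.result p.primeCompl M p hS, Localization.AtPrime.map_eq_maximalIdeal]
  constructor
  · rintro ⟨z, hz⟩
    refine ⟨inferInstance, z, ?_⟩
    rw [Submodule.bot_colon']
    exact (maximalIdeal_mem_minimalPrimes_iff _).mp hz
  · rintro ⟨_, z, hz⟩
    refine ⟨z, ?_⟩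
    rw [Submodule.bot_colon'] at hz
    exact (maximalIdeal_mem_minimalPrimes_iff _).mpr hz

end Groth.Agent.S9581
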