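import Groth.Statements.S9582
import Mathlib
-- import your own Groth.Agent.* helpers here

set_option autoImplicit false
universe u
open CAlg

namespace Groth.Agent.S9582

/-- For a reduced ring R, the primes weakly associated to the R-module R (primes minimal over the
annihilator of some element) are exactly the minimal primes of R. -/
theorem result {R : Type u} [CommRing R] [IsReduced R] :
    FlatCA.weakAss R R = minimalPrimes R := by
  ext p
  constructor
  · rintro ⟨x, hp⟩
    haveI hpp := hp.isPrime
    have hann : ∀ q : Ideal R, q.IsPrime → x ∉ q → (Submodule.span R {x}).annihilator ≤ q := by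
      intro q hq hxq a ha
      rw [Submodule.mem_annihilator_span_singleton, smul_eq_mul] at ha
      have : a * x ∈ q := by rw [ha]; exact zero_mem _
      exact (hq.mem_or_mem this).resolve_right hxq
    -- Step A: x ∉ p
    have hxp : x ∉ p := by
      intro hxp
      let S : Submonoid R := p.primeCompl ⊔ Submonoid.powers x
      have h0 : Disjoint ((⊥ : Ideal R) : Set R) (S : Set R) := by
        rw [Set.disjoint_left]
        intro z hz hzS
        have hz0 : z = 0 := hz
        rw [hz0] at hzS
        obtain ⟨s, hs, t, ht, hst⟩ := Submonoid.mem_sup.mp hzS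
        obtain ⟨n, rfl⟩ := ht
        have hnil : IsNilpotent (s * x) := by
          refine ⟨n + 1, ?_⟩
          calc (s * x) ^ (n + 1) = s ^ n * x * (s * x ^ n) := by ring
            _ = 0 := by rw [hst, mul_zero]
        have hsx : s * x = 0 := hnil.eq_zero
        have : s ∈ (Submodule.span R {x}).annihilator := by
          rw [Submodule.mem_annihilator_span_singleton, smul_eq_mul]
          exact hsx
        exact hs (hp.le this)
      obtain ⟨q, hq, -, hqS⟩ := Ideal.exists_le_prime_disjoint (⊥ : Ideal R) S h0
      have hqp : q ≤ p := by
        intro a ha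
        by_contra hap
        exact Set.disjoint_left.mp hqS ha (Submonoid.mem_sup_left (show a ∈ p.primeCompl from hap))
      have hxq : x ∉ q := fun hxq =>
        Set.disjoint_left.mp hqS hxq (Submonoid.mem_sup_right (Submonoid.mem_powers x))
      have hpq : p ≤ q := hp.2 ⟨hq, hann q hq hxq⟩ hqp
      exact hxq (hpq hxp)
    refine ⟨⟨hpp, bot_le⟩, ?_⟩
    rintro q ⟨hq, -⟩ hqp
    exact hp.2 ⟨hq, hann q hq (fun h => hxp (hqp h))⟩ hqp
  · intro hp
    refine ⟨1, ?_⟩
    have : (Submodule.span R {(1 : R)}).annihilator = ⊥ := by
      rw [eq_bot_iff]
      intro r hr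
      rw [Submodule.mem_annihilator_span_singleton, smul_eq_mul, mul_one] at hr
      rw [hr]
      exact zero_mem _
    rw [this]
    exact hp

end Groth.Agent.S9582
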