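import Groth.Statements.S9586
import Mathlib
import Groth.Agent.Lib.Helper28.WeakAss
-- import your own Groth.Agent.* helpers here

set_option autoImplicit false
universe u
open CAlg

namespace Groth.Agent.S9586

/-- For a ring R, an R-module M and a finitely generated prime ideal p of R, p is associated to M (equal
to the annihilator of an element) if and only if p is weakly associated to M (minimal over the
annihilator of an element). -/
theorem result {R : Type u} [CommRing R] (M : Type u) [AddCommGroup M] [Module R M] (p : Ideal R) [p.IsPrime] (hp : p.FG) :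
    p ∈ FlatCA.ass R M ↔ p ∈ FlatCA.weakAss R M := by
  constructor
  · rintro ⟨hpp, m, hm⟩
    refine ⟨m, ?_⟩
    rw [← hm, Ideal.minimalPrimes_eq_subsingleton_self]
    rfl
  · rintro ⟨m, hmin⟩
    have hJp : (Submodule.span R {m}).annihilator ≤ p := hmin.1.2
    have hminimal : ∀ q : Ideal R, q.IsPrime → (Submodule.span R {m}).annihilator ≤ q → q ≤ p →
        p ≤ q := fun q hq hJq hqp => hmin.2 ⟨hq, hJq⟩ hqp
    have hJ' : ∀ r : R, r ∈ (Submodule.span R
        {LocalizedModule.mk m (1 : p.primeCompl)}).annihilator ↔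
        ∃ u : p.primeCompl, (u : R) • r • m = 0 :=
      fun r => Groth.Agent.Lib.helper28.mem_ann_mk_iff p.primeCompl m 1 r
    -- Claim 1
    have hrad : p ≤ ((Submodule.span R
        {LocalizedModule.mk m (1 : p.primeCompl)}).annihilator).radical := by
      intro x hx
      by_contra hnot
      have hdisj : Disjoint (((Submodule.span R {m}).annihilator : Ideal R) : Set R)
          ((p.primeCompl ⊔ Submonoid.powers x : Submonoid R) : Set R) := by
        rw [Set.disjoint_left]
        intro y hyJ hyS
        obtain ⟨t, ht, z, ⟨N, rfl⟩, rfl⟩ := Submonoid.mem_sup.mp hyS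
        apply hnot
        refine ⟨N, (hJ' _).mpr ⟨⟨t, ht⟩, ?_⟩⟩
        have := (Submodule.mem_annihilator_span_singleton m _).mp hyJ
        rwa [mul_smul] at this
      obtain ⟨q, hq, hJq, hqS⟩ := Ideal.exists_le_prime_disjoint _ _ hdisj
      rw [Set.disjoint_left] at hqS
      have hqp : q ≤ p := by
        intro y hy
        by_contra hyp
        exact hqS hy (SetLike.le_def.mp le_sup_left hyp)
      have hxq : x ∈ q := hminimal q hq hJq hqp hx
      exact hqS hxq (SetLike.le_def.mp le_sup_right (Submonoid.mem_powers x))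
    obtain ⟨k₀, hk₀⟩ := Ideal.exists_pow_le_of_le_radical_of_fg hrad hp
    classical
    have hex : ∃ k, p ^ k ≤ (Submodule.span R
        {LocalizedModule.mk m (1 : p.primeCompl)}).annihilator := ⟨k₀, hk₀⟩
    have hk := Nat.find_spec hex
    have hkmin := fun j (hj : j < Nat.find hex) => Nat.find_min hex hj
    have hk0 : Nat.find hex ≠ 0 := by
      intro h0
      rw [h0, pow_zero] at hk
      have h11 : (1 : R) ∈ (1 : Ideal R) := by rw [Ideal.one_eq_top]; exact Submodule.mem_top
      obtain ⟨u, hu⟩ := (hJ' 1).mp (hk h11)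
      rw [one_smul] at hu
      exact u.2 (hJp ((Submodule.mem_annihilator_span_singleton m _).mpr hu))
    obtain ⟨k', hk'⟩ := Nat.exists_eq_succ_of_ne_zero hk0
    have hnot := hkmin k' (by omega)
    rw [SetLike.not_le_iff_exists] at hnot
    obtain ⟨a, hak, haJ⟩ := hnot
    obtain ⟨T, hT⟩ := hp
    have hchoice : ∀ f : R, f ∈ T → ∃ u : R, u ∉ p ∧ u • (f * a) • m = 0 := by
      intro f hf
      have hfa : f * a ∈ p ^ (Nat.find hex) := by
        rw [hk', pow_succ']
        exact Ideal.mul_mem_mul (hT ▸ Ideal.subset_span hf) hak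
      obtain ⟨u, hu⟩ := (hJ' _).mp (hk hfa)
      exact ⟨u, u.2, hu⟩
    choose! υ hυ1 hυ2 using hchoice
    have hprod : (∏ f ∈ T, υ f) ∉ p := by
      intro hmemp
      obtain ⟨f, hf, hfp⟩ := (Ideal.IsPrime.prod_mem_iff (hp := ‹p.IsPrime›)).mp hmemp
      exact hυ1 f hf hfp
    refine ⟨inferInstance, ((∏ f ∈ T, υ f) * a) • m, ?_⟩
    apply le_antisymm
    · rw [← hT, Ideal.span_le]
      intro f hf
      rw [SetLike.mem_coe, Submodule.mem_annihilator_span_singleton,
        ← Finset.mul_prod_erase T υ hf, smul_smul]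
      have : f * ((υ f * ∏ x ∈ T.erase f, υ x) * a) =
          (∏ x ∈ T.erase f, υ x) * (υ f * (f * a)) := by
        ring
      rw [this, mul_smul, mul_smul, hυ2 f hf, smul_zero]
    · intro r hr
      rw [Submodule.mem_annihilator_span_singleton, smul_smul] at hr
      by_contra hrp
      apply haJ
      refine (hJ' a).mpr ⟨⟨r * ∏ f ∈ T, υ f, ?_⟩, ?_⟩
      · intro hmem
        rcases (Ideal.IsPrime.mem_or_mem ‹p.IsPrime› hmem) with h1 | h1
        · exact hrp h1
        · exact hprod h1
      · show (r * ∏ f ∈ T, υ f) • a • m = 0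
        rw [smul_smul, ← mul_assoc] at *
        exact hr

end Groth.Agent.S9586
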