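import Groth.Statements.S9588
import Mathlib
import Groth.Agent.Lib.Helper28.WeakAss
-- import your own Groth.Agent.* helpers here

set_option autoImplicit false
universe u
open CAlg

namespace Groth.Agent.S9588

/-- For a ring R, an R-module M and a multiplicative subset S of R, the primes of R weakly associated to
S⁻¹M regarded as an R-module are exactly the inverse images under R → S⁻¹R of the primes of S⁻¹R
weakly associated to S⁻¹M. -/
theorem result {R : Type u} [CommRing R] (S : Submonoid R) (M : Type u) [AddCommGroup M] [Module R M] :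
    FlatCA.weakAss R (LocalizedModule S M) = Ideal.comap (algebraMap R (Localization S)) '' FlatCA.weakAss (Localization S) (LocalizedModule S M) := by
  ext p
  constructor
  · rintro ⟨z, hp⟩
    rw [Groth.Agent.Lib.helper28.ann_eq_comap_ann, IsLocalization.minimalPrimes_comap S] at hp
    obtain ⟨Q, hQ, rfl⟩ := hp
    exact ⟨Q, ⟨z, hQ⟩, rfl⟩
  · rintro ⟨Q, ⟨z, hQ⟩, rfl⟩
    refine ⟨z, ?_⟩
    rw [Groth.Agent.Lib.helper28.ann_eq_comap_ann, IsLocalization.minimalPrimes_comap S]
    exact ⟨Q, hQ, rfl⟩

end Groth.Agent.S9588
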