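import Groth.Statements.S9590
import Mathlib
import Groth.Agent.Lib.Helper28.WeakAss
-- import your own Groth.Agent.* helpers here

set_option autoImplicit false
universe u
open CAlg

namespace Groth.Agent.S9590

/-- For a ring R, an R-module M and a multiplicative subset S of R such that every element of S is a
nonzerodivisor on M, the primes of R weakly associated to M are the same as those weakly associated
to the R-module S⁻¹M. -/
theorem result {R : Type u} [CommRing R] (S : Submonoid R) (M : Type u) [AddCommGroup M] [Module R M] (hS : ∀ s ∈ S, IsSMulRegular M s) :
    FlatCA.weakAss R M = FlatCA.weakAss R (LocalizedModule S M) := by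
  ext p
  constructor
  · rintro ⟨m, hpm⟩
    refine ⟨LocalizedModule.mk m 1, ?_⟩
    rw [Groth.Agent.Lib.helper28.ann_mk_of_regular S hS]
    exact hpm
  · rintro ⟨z, hpz⟩
    induction z using LocalizedModule.induction_on with
    | h m s =>
      refine ⟨m, ?_⟩
      rw [Groth.Agent.Lib.helper28.ann_mk_of_regular S hS] at hpz
      exact hpz

end Groth.Agent.S9590
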