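import Groth.Statements.S9592
import Mathlib
import Groth.Agent.Lib.Helper17.WeakAssField2

set_option autoImplicit false
universe u
open CAlg

namespace Groth.Agent.S9592

/-- Let K/k be a field extension, R a k-algebra and M an R-module; let R_K = R ⊗_k K (any pushout of k →
K along k → R) and let M_K be the base change of M to R_K. If a prime q of R_K is weakly associated
to M_K, then its inverse image in R is weakly associated to M. -/
theorem result {k K R : Type u} [Field k] [Field K] [Algebra k K] [CommRing R] [Algebra k R] (RK : Type u) [CommRing RK] [Algebra k RK] [Algebra K RK] [Algebra R RK] [IsScalarTower k K RK] [IsScalarTower k R RK] [Algebra.IsPushout k K R RK] (M : Type u) [AddCommGroup M] [Module R M] (MK : Type u) [AddCommGroup MK] [Module RK MK] [Module R MK] [IsScalarTower R RK MK] (f : M →ₗ[R] MK) (hf : IsBaseChange RK f) (q : Ideal RK) [q.IsPrime] (hq : q ∈ FlatCA.weakAss RK MK) :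
    q.comap (algebraMap R RK) ∈ FlatCA.weakAss R M := by
  haveI : (q.comap (algebraMap R RK)).IsPrime := Ideal.comap_isPrime _ _
  rw [Groth.Agent.Lib.Helper24.WeakAssBC.mem_weakAss_iff] at hq ⊢
  have h1 : Groth.Agent.Lib.Helper24.WeakAssBC.W RK q (TensorProduct R RK M) :=
    Groth.Agent.Lib.Helper24.WeakAssBC.W_of_linearEquiv hf.equiv.symm q hq
  exact Groth.Agent.Lib.helper17.WeakAssField.W_comap_of_field (k := k) (K := K) RK M q h1

end Groth.Agent.S9592
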