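import Groth.Statements.S9594
import Mathlib
import Groth.Agent.Lib.Helper28.WeakAss
-- import your own Groth.Agent.* helpers here

set_option autoImplicit false
universe u
open CAlg

namespace Groth.Agent.S9594

/-- For a ring R, an R-module M and a multiplicative subset S of R, (1) the primes of R associated to
the R-module S⁻¹M are the inverse images of the primes of S⁻¹R associated to S⁻¹M, and (2) a prime
of R associated to M which does not meet S is associated to the R-module S⁻¹M. Here a prime is
associated to a module when it equals the annihilator of some element. -/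
theorem result {R : Type u} [CommRing R] (S : Submonoid R) (M : Type u) [AddCommGroup M] [Module R M] :
    FlatCA.ass R (LocalizedModule S M) = Ideal.comap (algebraMap R (Localization S)) '' FlatCA.ass (Localization S) (LocalizedModule S M) ∧
      ∀ p ∈ FlatCA.ass R M, Disjoint (S : Set R) (p : Set R) → p ∈ FlatCA.ass R (LocalizedModule S M) := by
  constructor
  · ext p
    constructor
    · rintro ⟨hp, z, hpz⟩
      have hdisj : Disjoint (S : Set R) (p : Set R) := by
        rw [hpz]
        exact Groth.Agent.Lib.helper28.disjoint_ann_of_ne_top S z (by rw [← hpz]; exact hp.ne_top)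
      have hJ : (Submodule.span (Localization S) {z}).annihilator
          = p.map (algebraMap R (Localization S)) := by
        rw [hpz, Groth.Agent.Lib.helper28.ann_eq_comap_ann, IsLocalization.map_comap S]
      refine ⟨(Submodule.span (Localization S) {z}).annihilator, ⟨?_, z, rfl⟩, ?_⟩
      · rw [hJ]
        exact IsLocalization.isPrime_of_isPrime_disjoint S _ p hp hdisj
      · rw [hpz, Groth.Agent.Lib.helper28.ann_eq_comap_ann]
    · rintro ⟨J, ⟨hJ, z, hJz⟩, rfl⟩
      exact ⟨Ideal.comap_isPrime _ J, z, by rw [hJz, Groth.Agent.Lib.helper28.ann_eq_comap_ann]⟩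
  · rintro p ⟨hp, m, hpm⟩ hdisj
    refine ⟨hp, LocalizedModule.mk m 1, ?_⟩
    ext r
    rw [Groth.Agent.Lib.helper28.mem_ann_mk_iff]
    constructor
    · intro hr
      refine ⟨1, ?_⟩
      rw [hpm, Submodule.mem_annihilator_span_singleton] at hr
      rw [hr, smul_zero]
    · rintro ⟨u, hu⟩
      have hmem : (u : R) * r ∈ p := by
        rw [hpm, Submodule.mem_annihilator_span_singleton, mul_smul]
        exact hu
      exact (hp.mem_or_mem hmem).resolve_left (fun h => Set.disjoint_left.mp hdisj u.2 h)

end Groth.Agent.S9594
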