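import Groth.Statements.S9596
import Mathlib.RingTheory.Ideal.AssociatedPrime.Localization
import Mathlib.RingTheory.Support

set_option autoImplicit false
universe u
open CAlg

namespace Groth.Agent.S9596

/-- For a Noetherian ring R and any R-module M, a prime which is minimal among the primes in the support
of M is an associated prime of M. -/
theorem result {R : Type u} [CommRing R] [IsNoetherianRing R] (M : Type u) [AddCommGroup M] [Module R M] (p : PrimeSpectrum R) (hp : Minimal (fun q : PrimeSpectrum R => q ∈ Module.support R M) p) :
    p.asIdeal ∈ associatedPrimes R M := by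
  have hpsupp : p ∈ Module.support R M := hp.1
  have : Nontrivial (LocalizedModule p.asIdeal.primeCompl M) := by
    rwa [Module.mem_support_iff] at hpsupp
  rcases associatedPrimes.nonempty (Localization.AtPrime p.asIdeal)
    (LocalizedModule p.asIdeal.primeCompl M) with ⟨q, hq⟩
  have q_prime : q.IsPrime := IsAssociatedPrime.isPrime hq
  simp only [← Module.associatedPrimes.preimage_comap_associatedPrimes_eq_associatedPrimes_of_isLocalizedModule
    p.asIdeal.primeCompl (Localization.AtPrime p.asIdeal)
    (LocalizedModule.mkLinearMap p.asIdeal.primeCompl M), Set.mem_preimage] at hq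
  have le : Ideal.comap (algebraMap R (Localization.AtPrime p.asIdeal)) q ≤ p.asIdeal := by
    have := (IsLocalization.disjoint_under_iff p.asIdeal.primeCompl
      (Localization.AtPrime p.asIdeal) q).mpr q_prime.ne_top
    simpa only [Ideal.primeCompl, Submonoid.coe_set_mk, Subsemigroup.coe_set_mk,
      Set.disjoint_compl_left_iff_subset] using! this
  have hqprime : (Ideal.comap (algebraMap R (Localization.AtPrime p.asIdeal)) q).IsPrime :=
    IsAssociatedPrime.isPrime hq
  -- associated primes lie in the support
  have hsupp : (⟨_, hqprime⟩ : PrimeSpectrum R) ∈ Module.support R M := by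
    rw [Module.mem_support_iff_exists_annihilator]
    obtain ⟨-, x, hx⟩ := isAssociatedPrime_iff.1 hq
    refine ⟨x, ?_⟩
    intro a ha
    change a ∈ Ideal.comap (algebraMap R (Localization.AtPrime p.asIdeal)) q
    rw [hx, Submodule.mem_colon_singleton]
    rw [Submodule.mem_annihilator_span_singleton] at ha
    rw [ha]
    exact Submodule.zero_mem _
  have hle' : p ≤ (⟨_, hqprime⟩ : PrimeSpectrum R) := hp.2 hsupp le
  have heq : Ideal.comap (algebraMap R (Localization.AtPrime p.asIdeal)) q = p.asIdeal :=
    le_antisymm le hle'
  rw [← heq]
  exact hq

end Groth.Agent.S9596
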