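import Groth.Statements.S9597
import Mathlib

set_option autoImplicit false
universe u
open CAlg

namespace Groth.Agent.S9597


theorem comap_mem {R : Type u} [CommRing R] [IsNoetherianRing R] (M : Type u) [AddCommGroup M]
    [Module R M] [Module.Finite R M]
    (p : Ideal (R ⧸ Module.annihilator R M))
    (hp : p ∈ associatedPrimes (R ⧸ Module.annihilator R M) (R ⧸ Module.annihilator R M)) :
    p.comap (Ideal.Quotient.mk (Module.annihilator R M)) ∈ associatedPrimes R M := by
  obtain ⟨hprime, x, hx⟩ := isAssociatedPrime_iff.mp hp
  obtain ⟨r, rfl⟩ := Ideal.Quotient.mk_surjective x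
  set N : Submodule R M := LinearMap.range (LinearMap.lsmul R M r) with hN
  have hann : Module.annihilator R N =
      p.comap (Ideal.Quotient.mk (Module.annihilator R M)) := by
    ext s
    rw [Ideal.mem_comap, hx, Submodule.mem_colon_singleton, Submodule.mem_bot, smul_eq_mul,
      ← map_mul, Ideal.Quotient.eq_zero_iff_mem, Module.mem_annihilator, Module.mem_annihilator]
    constructor
    · intro h m
      have h1 := h ⟨r • m, ⟨m, rfl⟩⟩
      have h2 := congrArg Subtype.val h1
      rw [mul_smul]
      exact h2
    · rintro h ⟨n, m, rfl⟩
      apply Subtype.ext
      show s • (r • m) = 0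
      rw [← mul_smul]; exact h m
  have hprime' : (p.comap (Ideal.Quotient.mk (Module.annihilator R M))).IsPrime :=
    Ideal.comap_isPrime _ _
  have hmin : p.comap (Ideal.Quotient.mk (Module.annihilator R M)) ∈
      (Module.annihilator R N).minimalPrimes := by
    rw [hann, Ideal.minimalPrimes_eq_subsingleton_self]; exact Set.mem_singleton _
  have h1 := Module.associatedPrimes.minimalPrimes_annihilator_subset_associatedPrimes R N hmin
  exact associatedPrimes.subset_of_injective (f := N.subtype) N.injective_subtype h1


/-- Let R be a Noetherian ring, M a finite R-module whose associated primes are pairwise incomparable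
under inclusion (M has no embedded associated primes), and I the annihilator of M. Then the
associated primes of R/I, viewed as a module over itself, are again pairwise incomparable: R/I has
no embedded primes either. -/
theorem result {R : Type u} [CommRing R] [IsNoetherianRing R] (M : Type u) [AddCommGroup M] [Module R M] [Module.Finite R M] (hM : ∀ p ∈ associatedPrimes R M, ∀ q ∈ associatedPrimes R M, p ≤ q → p = q) :
    ∀ p ∈ associatedPrimes (R ⧸ Module.annihilator R M) (R ⧸ Module.annihilator R M), ∀ q ∈ associatedPrimes (R ⧸ Module.annihilator R M) (R ⧸ Module.annihilator R M), p ≤ q → p = q := by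
  intro p hp q hq hpq
  have h1 := comap_mem M p hp
  have h2 := comap_mem M q hq
  have := hM _ h1 _ h2 (Ideal.comap_mono hpq)
  exact Ideal.comap_injective_of_surjective _ Ideal.Quotient.mk_surjective this


end Groth.Agent.S9597
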