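import Groth.Statements.S9598
import Mathlib.RingTheory.Jacobson.Ring
import Mathlib.RingTheory.Ideal.AssociatedPrime.Finiteness
import Mathlib.RingTheory.Localization.FractionRing
import Mathlib.RingTheory.Spectrum.Maximal.Basic

set_option autoImplicit false
universe u
open CAlg

namespace Groth.Agent.S9598

/-- For a field k and a finite type k-algebra S with dim S > 0, some element of S is a nonzerodivisor
and a nonunit. -/
theorem result {k S : Type u} [Field k] [CommRing S] [Algebra k S] [Algebra.FiniteType k S] (hdim : 0 < ringKrullDim S) :
    ∃ f : S, f ∈ nonZeroDivisors S ∧ ¬ IsUnit f := by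
  by_contra hcon
  push Not at hcon
  have hNoeth : IsNoetherianRing S := Algebra.FiniteType.isNoetherianRing k S
  have hJac : IsJacobsonRing S := isJacobsonRing_of_finiteType (A := k)
  have hfrac : IsFractionRing S S :=
    IsFractionRing.self_iff_nonZeroDivisors_le_isUnit.mpr fun f hf => hcon f hf
  have hfin : Finite (MaximalSpectrum S) := inferInstance
  have hdim0 : Ring.KrullDimLE 0 S := by
    rw [Ring.krullDimLE_zero_iff]
    intro P hP
    have hPj : P.jacobson = P := hJac.out hP.isRadical
    have hfinset : {J : Ideal S | P ≤ J ∧ J.IsMaximal}.Finite := by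
      have : {J : Ideal S | J.IsMaximal}.Finite := by
        have := (MaximalSpectrum.equivSubtype S).finite_iff.mp hfin
        exact Set.finite_coe_iff.mp this
      exact this.subset fun J hJ => hJ.2
    have hle : hfinset.toFinset.inf id ≤ P := by
      conv_rhs => rw [← hPj]
      rw [Ideal.jacobson]
      refine le_sInf fun J hJ => ?_
      exact Finset.inf_le (f := id) (hfinset.mem_toFinset.mpr hJ)
    obtain ⟨J, hJmem, hJle⟩ := hP.inf_le'.mp hle
    have hJ := hfinset.mem_toFinset.mp hJmem
    have : P = J := le_antisymm hJ.1 hJle
    rw [this]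
    exact hJ.2
  have := Ring.krullDimLE_iff.mp hdim0
  exact absurd hdim (not_lt.mpr (by simpa using this))

end Groth.Agent.S9598
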