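import Groth.Statements.S9599
import Mathlib
import Groth.Agent.Lib.Helper8.AdicExact

set_option autoImplicit false
universe u
open CAlg

namespace Groth.Agent.S9599


open TensorProduct in
lemma mem_smul_top_of_flat {R : Type u} [CommRing R] (J : Ideal R) {K M N : Type u}
    [AddCommGroup K] [Module R K] [AddCommGroup M] [Module R M] [AddCommGroup N] [Module R N]
    [Module.Flat R N] (i : K →ₗ[R] M) (g : M →ₗ[R] N) (hi : Function.Injective i)
    (hg : Function.Surjective g) (hig : Function.Exact i g) (k : K)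
    (hmem : i k ∈ (J • ⊤ : Submodule R M)) : k ∈ (J • ⊤ : Submodule R K) := by
  have inj := LinearMap.lTensor_injective_of_exact_of_flat g hg i hi hig (R ⧸ J)
  have h1 : (1 : R ⧸ J) ⊗ₜ[R] i k = 0 := by
    rw [← TensorProduct.quotTensorEquivQuotSMul_symm_mk, (Submodule.Quotient.mk_eq_zero _).mpr hmem,
      map_zero]
  have h2 : (i.lTensor (R ⧸ J)) ((1 : R ⧸ J) ⊗ₜ[R] k) = 0 := by
    rw [LinearMap.lTensor_tmul, h1]
  have h3 : (1 : R ⧸ J) ⊗ₜ[R] k = 0 := inj (h2.trans (map_zero _).symm)
  rw [← Submodule.Quotient.mk_eq_zero,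
    ← (TensorProduct.quotTensorEquivQuotSMul K J).symm.map_eq_zero_iff,
    TensorProduct.quotTensorEquivQuotSMul_symm_mk, h3]

/-- For a ring R, an ideal I of R and a short exact sequence 0 → K → M → N → 0 of R-modules with N flat
over R, the induced sequence of I-adic completions 0 → K^ → M^ → N^ → 0 is again short exact. -/
theorem result {R : Type u} [CommRing R] (I : Ideal R) {K M N : Type u} [AddCommGroup K] [Module R K] [AddCommGroup M] [Module R M] [AddCommGroup N] [Module R N] [Module.Flat R N] (i : K →ₗ[R] M) (g : M →ₗ[R] N) (hi : Function.Injective i) (hg : Function.Surjective g) (hig : Function.Exact i g) :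
    Function.Injective (AdicCompletion.map I i) ∧ Function.Exact (AdicCompletion.map I i) (AdicCompletion.map I g) ∧ Function.Surjective (AdicCompletion.map I g) := by
  have hk : ∀ n, (I ^ (0 + n) • ⊤ : Submodule R M) ⊓ LinearMap.range i ≤
      Submodule.map i (I ^ n • ⊤ : Submodule R K) := by
    intro n
    rintro x ⟨hx1, ⟨k, rfl⟩⟩
    rw [zero_add] at hx1
    exact ⟨k, mem_smul_top_of_flat (I ^ n) i g hi hg hig k hx1, rfl⟩
  exact ⟨Groth.Agent.Lib.Helper8.AdicExact.map_injective_of_shift I hi 0 hk,
    Groth.Agent.Lib.Helper8.AdicExact.map_exact_of_shift I hi hig hg 0 hk,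
    AdicCompletion.map_surjective I hg⟩

end Groth.Agent.S9599
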