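import Groth.Statements.S9600
import Mathlib
import Groth.Agent.Lib.Helper8.AdicExact

set_option autoImplicit false
universe u
open CAlg

namespace Groth.Agent.S9600


section
variable {R : Type u} [CommRing R] (I : Ideal R) {Q : Type u} [AddCommGroup Q] [Module R Q]

lemma pow_smul_top_eq_bot (c : ℕ) (hc : ∀ x ∈ I ^ c, ∀ q : Q, x • q = 0) (n : ℕ) (hn : c ≤ n) :
    (I ^ n • ⊤ : Submodule R Q) = ⊥ := by
  rw [eq_bot_iff, Submodule.smul_le]
  intro x hx q _
  rw [Submodule.mem_bot]
  exact hc x (Ideal.pow_le_pow_right hn hx) q

lemma complete_of_killed (c : ℕ) (hc : ∀ x ∈ I ^ c, ∀ q : Q, x • q = 0) :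
    IsAdicComplete I Q := by
  have hbot := pow_smul_top_eq_bot I c hc
  refine { toIsHausdorff := ⟨fun x hx => ?_⟩, toIsPrecomplete := ⟨fun f hf => ⟨f c, fun n => ?_⟩⟩ }
  · have := hx c
    rw [SModEq.zero, hbot c le_rfl, Submodule.mem_bot] at this
    exact this
  · rcases le_total n c with h | h
    · exact hf h
    · have := hf h
      rw [SModEq.sub_mem, hbot c le_rfl, Submodule.mem_bot, sub_eq_zero] at this
      rw [this]

end

/-- Let R be a ring, I an ideal of R and 0 → M → N → Q → 0 a short exact sequence of R-modules in which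
Q is killed by some power I^c of I. Then on I-adic completions the map M^ → N^ is injective, N^ → Q^
is surjective with kernel equal to the image of M^, and the canonical map Q → Q^ is bijective; so 0
→ M^ → N^ → Q → 0 is again short exact. -/
theorem result {R : Type u} [CommRing R] (I : Ideal R) {M N Q : Type u} [AddCommGroup M] [Module R M] [AddCommGroup N] [Module R N] [AddCommGroup Q] [Module R Q] (i : M →ₗ[R] N) (g : N →ₗ[R] Q) (hi : Function.Injective i) (hg : Function.Surjective g) (hig : Function.Exact i g) (c : ℕ) (hc : ∀ x ∈ I ^ c, ∀ q : Q, x • q = 0) :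
    Function.Injective (AdicCompletion.map I i) ∧ Function.Exact (AdicCompletion.map I i) (AdicCompletion.map I g) ∧ Function.Surjective (AdicCompletion.map I g) ∧ Function.Bijective (AdicCompletion.of I Q) := by
  have hk : ∀ n, (I ^ (c + n) • ⊤ : Submodule R N) ⊓ LinearMap.range i ≤
      Submodule.map i (I ^ n • ⊤ : Submodule R M) := by
    intro n
    refine le_trans inf_le_left ?_
    have h1 : (I ^ c • ⊤ : Submodule R N) ≤ LinearMap.range i := by
      rw [Submodule.smul_le]
      intro x hx y _
      rw [← hig.linearMap_ker_eq, LinearMap.mem_ker, map_smul]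
      exact hc x hx (g y)
    rw [add_comm, pow_add, Submodule.mul_smul, Submodule.map_smul'', Submodule.map_top]
    exact Submodule.smul_mono le_rfl h1
  refine ⟨Groth.Agent.Lib.Helper8.AdicExact.map_injective_of_shift I hi c hk,
    Groth.Agent.Lib.Helper8.AdicExact.map_exact_of_shift I hi hig hg c hk,
    AdicCompletion.map_surjective I hg, ?_⟩
  exact AdicCompletion.of_bijective_iff.mpr (complete_of_killed I c hc)

end Groth.Agent.S9600
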