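import Groth.Statements.S9601
import Groth.Agent.Lib.Helper18.AdicComp

set_option autoImplicit false
universe u
open CAlg

namespace Groth.Agent.S9601

/-- For a ring R, an ideal I of R and an R-module M, let M^ be the I-adic completion and K_n the kernel
of the projection M^ → M/IⁿM. The completion M^ is I-adically complete exactly when K_n = Iⁿ M^
holds for every n ≥ 1. -/
theorem result {R : Type u} [CommRing R] (I : Ideal R) (M : Type u) [AddCommGroup M] [Module R M] :
    IsAdicComplete I (AdicCompletion I M) ↔ ∀ n : ℕ, 1 ≤ n → LinearMap.ker (AdicCompletion.eval I M n) = I ^ n • (⊤ : Submodule R (AdicCompletion I M)) := by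
  constructor
  · intro h n _
    exact Lib.helper18.ker_eval_eq_of_exists_sub_of_mem I M
      (Lib.helper18.exists_sub_of_mem_of_isPrecomplete I M h.toIsPrecomplete) n
  · intro h
    exact Lib.helper18.isAdicComplete_of_ker_eval_eq I M h

end Groth.Agent.S9601
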