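import Groth.Statements.S9603
import Mathlib

set_option autoImplicit false
universe u
open CAlg

namespace Groth.Agent.S9603


lemma precomplete_sup {A : Type u} [CommRing A] (J K : Ideal A) (M : Type u) [AddCommGroup M]
    [Module A M] [hJ : IsPrecomplete J M] [hK : IsPrecomplete K M] :
    IsPrecomplete (J ⊔ K) M := by
  refine ⟨fun g hg => ?_⟩
  have hstep : ∀ n, g (2 * (n+1)) - g (2 * n) ∈
      (J ^ n • ⊤ : Submodule A M) ⊔ (K ^ n • ⊤ : Submodule A M) := by
    intro n
    have h1 : g (2 * n) ≡ g (2 * (n+1)) [SMOD ((J ⊔ K) ^ (2*n) • ⊤ : Submodule A M)] :=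
      hg (by omega)
    rw [SModEq.sub_mem] at h1
    have h2 : ((J ⊔ K) ^ (2 * n) • ⊤ : Submodule A M) ≤ J ^ n • ⊤ ⊔ K ^ n • ⊤ := by
      rw [← Submodule.sup_smul, two_mul]
      exact Submodule.smul_mono_left Ideal.sup_pow_add_le_pow_sup_pow
    have h3 := h2 h1
    have e : g (2 * (n+1)) - g (2 * n) = -(g (2 * n) - g (2 * (n+1))) := by abel
    rw [e]
    exact Submodule.neg_mem _ h3
  have hdec : ∀ n, ∃ y ∈ (J ^ n • ⊤ : Submodule A M), ∃ w ∈ (K ^ n • ⊤ : Submodule A M),
      g (2 * (n+1)) - g (2 * n) = y + w := by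
    intro n
    obtain ⟨y, hy, w, hw, h⟩ := Submodule.mem_sup.mp (hstep n)
    exact ⟨y, hy, w, hw, h.symm⟩
  choose y hy w hw hyw using hdec
  have hcauchy : ∀ (L : Ideal A) (t : ℕ → M), (∀ n, t n ∈ (L ^ n • ⊤ : Submodule A M)) →
      ∀ {m n}, m ≤ n → (∑ k ∈ Finset.range m, t k) ≡ (∑ k ∈ Finset.range n, t k)
        [SMOD (L ^ m • ⊤ : Submodule A M)] := by
    intro L t ht m n hmn
    rw [SModEq.sub_mem]
    have e : (∑ k ∈ Finset.range m, t k) - (∑ k ∈ Finset.range n, t k) =
        -(∑ k ∈ Finset.Ico m n, t k) := by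
      rw [Finset.sum_Ico_eq_sub _ hmn]
      abel
    rw [e]
    refine Submodule.neg_mem _ (Submodule.sum_mem _ (fun k hk => ?_))
    have hk' := (Finset.mem_Ico.mp hk).1
    exact Submodule.smul_mono_left (Ideal.pow_le_pow_right hk') (ht k)
  obtain ⟨y', hy'⟩ := hJ.prec' (fun n => ∑ k ∈ Finset.range n, y k) (hcauchy J y hy)
  obtain ⟨w', hw'⟩ := hK.prec' (fun n => ∑ k ∈ Finset.range n, w k) (hcauchy K w hw)
  have htel : ∀ n, g (2 * n) = g 0 + (∑ k ∈ Finset.range n, y k) +
      (∑ k ∈ Finset.range n, w k) := by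
    intro n
    induction n with
    | zero => simp
    | succ n ih =>
      rw [Finset.sum_range_succ, Finset.sum_range_succ]
      have h1 := hyw n
      have e : g (2 * (n+1)) = g (2 * n) + (y n + w n) := by
        rw [← h1]
        abel
      rw [e, ih]
      abel
  refine ⟨g 0 + y' + w', fun n => ?_⟩
  rw [SModEq.sub_mem]
  have h1 : g n - g (2 * n) ∈ ((J ⊔ K) ^ n • ⊤ : Submodule A M) :=
    (SModEq.sub_mem).mp (hg (by omega))
  have h2 : (∑ k ∈ Finset.range n, y k) - y' ∈ ((J ⊔ K) ^ n • ⊤ : Submodule A M) :=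
    Submodule.smul_mono_left (Ideal.pow_right_mono le_sup_left n) ((SModEq.sub_mem).mp (hy' n))
  have h3 : (∑ k ∈ Finset.range n, w k) - w' ∈ ((J ⊔ K) ^ n • ⊤ : Submodule A M) :=
    Submodule.smul_mono_left (Ideal.pow_right_mono le_sup_right n) ((SModEq.sub_mem).mp (hw' n))
  have e : g n - (g 0 + y' + w') = (g n - g (2 * n)) + ((∑ k ∈ Finset.range n, y k) - y') +
      ((∑ k ∈ Finset.range n, w k) - w') := by
    rw [htel n]
    abel
  rw [e]
  exact add_mem (add_mem h1 h2) h3


/-- For a ring A, elements f_1, …, f_r generating an ideal I and an A-module M, if the canonical map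
from M to its (f_i)-adic completion is surjective for every i, then the canonical map from M to its
I-adic completion is surjective. -/
theorem result {A : Type u} [CommRing A] {r : ℕ} (f : Fin r → A) (M : Type u) [AddCommGroup M] [Module A M] (h : ∀ i, Function.Surjective (AdicCompletion.of (Ideal.span {f i}) M)) :
    Function.Surjective (AdicCompletion.of (Ideal.span (Set.range f)) M) := by
  rw [AdicCompletion.of_surjective_iff]
  have h' : ∀ i, IsPrecomplete (Ideal.span {f i}) M :=
    fun i => (AdicCompletion.of_surjective_iff).mp (h i)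
  clear h
  induction r with
  | zero =>
    have e : Set.range f = ∅ := Set.range_eq_empty f
    rw [e, Ideal.span_empty]
    infer_instance
  | succ r ih =>
    rw [Fin.range_fin_succ, Ideal.span_insert]
    have i1 := h' 0
    have i2 := ih (Fin.tail f) (fun i => h' i.succ)
    exact precomplete_sup _ _ M


end Groth.Agent.S9603
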