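import Groth.Statements.S9604
import Mathlib.RingTheory.Ideal.Operations

set_option autoImplicit false
universe u
open CAlg

namespace Groth.Agent.S9604

theorem pow_mul_le {R : Type*} [CommRing R] {I J : Ideal R} {d : ℕ} (hJ : J ^ d ≤ I) (n : ℕ) :
    J ^ (d * n) ≤ I ^ n := by
  rw [pow_mul]
  exact Ideal.pow_right_mono hJ n

theorem aux {R : Type*} [CommRing R] (I J : Ideal R) (c d : ℕ) (hc : 0 < c) (hd : 0 < d)
    (hI : I ^ c ≤ J) (hJ : J ^ d ≤ I) (M : Type*) [AddCommGroup M] [Module R M]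
    (h : IsAdicComplete I M) : IsAdicComplete J M := by
  have hH : IsHausdorff I M := inferInstance
  have hP : IsPrecomplete I M := inferInstance
  have e1 : ∀ n, (J ^ (d * n) • ⊤ : Submodule R M) ≤ I ^ n • ⊤ := fun n =>
    Submodule.smul_mono (pow_mul_le hJ n) le_rfl
  have e2 : ∀ n, (I ^ (c * n) • ⊤ : Submodule R M) ≤ J ^ n • ⊤ := fun n =>
    Submodule.smul_mono (pow_mul_le hI n) le_rfl
  refine { toIsHausdorff := ⟨fun x hx => ?_⟩, toIsPrecomplete := ⟨fun f hf => ?_⟩ }
  · apply hH.haus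
    intro n
    exact (hx (d * n)).mono (e1 n)
  · obtain ⟨L, hL⟩ := hP.prec' (fun k => f (d * k)) (fun {k l} hkl =>
      (hf (Nat.mul_le_mul_left d hkl)).mono (e1 k))
    refine ⟨L, fun n => ?_⟩
    have hn : n ≤ d * (c * n) := by
      calc n = 1 * (1 * n) := by ring
        _ ≤ d * (c * n) := Nat.mul_le_mul hd (Nat.mul_le_mul hc le_rfl)
    exact (hf hn).trans ((hL (c * n)).mono (e2 n))

/-- Let R be a ring and I, J ideals of R with I^c ⊆ J and J^d ⊆ I for some integers c, d > 0. Then for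
an R-module, being complete in the I-adic topology is equivalent to being complete in the J-adic
topology. -/
theorem result {R : Type u} [CommRing R] (I J : Ideal R) (c d : ℕ) (hc : 0 < c) (hd : 0 < d) (hI : I ^ c ≤ J) (hJ : J ^ d ≤ I) (M : Type u) [AddCommGroup M] [Module R M] :
    IsAdicComplete I M ↔ IsAdicComplete J M :=
  ⟨aux I J c d hc hd hI hJ M, aux J I d c hd hc hJ hI M⟩

end Groth.Agent.S9604
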