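import Groth.Statements.S9606
import Mathlib

set_option autoImplicit false
universe u
open CAlg

namespace Groth.Agent.S9606

section aux
variable {R S : Type u} [CommRing R] [CommRing S] [Algebra R S]

lemma Bmem
    (hgen : Algebra.adjoin R {x : S | x ^ 2 ∈ Set.range (algebraMap R S) ∧
      x ^ 3 ∈ Set.range (algebraMap R S)} = ⊤)
    (Q : Ideal S) (p : Ideal R) [hp : p.IsPrime]
    (hQ : ∀ a : R, a ∈ p → ∀ x : S, x ^ 2 = algebraMap R S a → x ∈ Q) (s : S) :
    ∃ u : R, u ∉ p ∧ ∃ r : R, algebraMap R S u * s - algebraMap R S r ∈ Q := by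
  have hs : s ∈ Algebra.adjoin R {x : S | x ^ 2 ∈ Set.range (algebraMap R S) ∧
      x ^ 3 ∈ Set.range (algebraMap R S)} := by rw [hgen]; trivial
  have h1 : (1 : R) ∉ p := (Ideal.ne_top_iff_one p).mp hp.ne_top
  induction hs using Algebra.adjoin_induction with
  | mem x hx =>
    obtain ⟨⟨a, ha⟩, ⟨b, hb⟩⟩ := hx
    by_cases hap : a ∈ p
    · refine ⟨1, h1, 0, ?_⟩
      rw [map_one, one_mul, map_zero, sub_zero]
      exact hQ a hap x ha.symm
    · refine ⟨a, hap, b, ?_⟩
      rw [ha, hb]
      have e : x ^ 2 * x - x ^ 3 = 0 := by ring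
      rw [e]
      exact Q.zero_mem
  | algebraMap r =>
    refine ⟨1, h1, r, ?_⟩
    rw [map_one, one_mul, sub_self]
    exact Q.zero_mem
  | add x y _ _ hx hy =>
    obtain ⟨u, hu, r, hr⟩ := hx
    obtain ⟨u', hu', r', hr'⟩ := hy
    refine ⟨u * u', fun h => (hp.mem_or_mem h).elim hu hu', u' * r + u * r', ?_⟩
    have e : algebraMap R S (u * u') * (x + y) - algebraMap R S (u' * r + u * r') =
        algebraMap R S u' * (algebraMap R S u * x - algebraMap R S r) +
        algebraMap R S u * (algebraMap R S u' * y - algebraMap R S r') := by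
      simp only [map_mul, map_add]; ring
    rw [e]
    exact Q.add_mem (Q.mul_mem_left _ hr) (Q.mul_mem_left _ hr')
  | mul x y _ _ hx hy =>
    obtain ⟨u, hu, r, hr⟩ := hx
    obtain ⟨u', hu', r', hr'⟩ := hy
    refine ⟨u * u', fun h => (hp.mem_or_mem h).elim hu hu', r * r', ?_⟩
    have e : algebraMap R S (u * u') * (x * y) - algebraMap R S (r * r') =
        (algebraMap R S u * x) * (algebraMap R S u' * y - algebraMap R S r') +
        algebraMap R S r' * (algebraMap R S u * x - algebraMap R S r) := by
      simp only [map_mul]; ring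
    rw [e]
    exact Q.add_mem (Q.mul_mem_left _ hr') (Q.mul_mem_left _ hr)

end aux

/-- Let R → S be a ring map with locally nilpotent kernel such that S is generated over R by elements x
with x² and x³ in the image of R. Then the induced map on spectra is a homeomorphism and every
residue field map κ(p) → κ(q), for q a prime of S with inverse image p, is bijective. -/
theorem result {R S : Type u} [CommRing R] [CommRing S] [Algebra R S]
    (hgen : Algebra.adjoin R {x : S | x ^ 2 ∈ Set.range (algebraMap R S) ∧ x ^ 3 ∈ Set.range (algebraMap R S)} = ⊤)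
    (hker : ∀ r : R, algebraMap R S r = 0 → IsNilpotent r) :
    IsHomeomorph (PrimeSpectrum.comap (algebraMap R S)) ∧
      ∀ (q : Ideal S) [q.IsPrime], Function.Bijective (Ideal.ResidueField.map (q.comap (algebraMap R S)) q (algebraMap R S) rfl) := by
  have hint : Algebra.IsIntegral R S := by
    constructor
    intro s
    have hle : Algebra.adjoin R {x : S | x ^ 2 ∈ Set.range (algebraMap R S) ∧
        x ^ 3 ∈ Set.range (algebraMap R S)} ≤ integralClosure R S := by
      apply Algebra.adjoin_le
      rintro x ⟨⟨a, ha⟩, -⟩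
      exact IsIntegral.of_pow (n := 2) (by norm_num) (ha ▸ isIntegral_algebraMap)
    have hs : s ∈ Algebra.adjoin R {x : S | x ^ 2 ∈ Set.range (algebraMap R S) ∧
        x ^ 3 ∈ Set.range (algebraMap R S)} := by rw [hgen]; trivial
    exact hle hs
  have hnil : ∀ (P : Ideal R) [P.IsPrime], RingHom.ker (algebraMap R S) ≤ P := by
    intro P hP r hr
    obtain ⟨n, hn⟩ := hker r hr
    exact hP.mem_of_pow_mem n (hn ▸ P.zero_mem)
  have key : ∀ (q q' : Ideal S) [q.IsPrime] [q'.IsPrime],
      q.comap (algebraMap R S) = q'.comap (algebraMap R S) → q ≤ q' := by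
    intro q q' hq hq' hc s hs
    obtain ⟨u, hu, r, hr⟩ := Bmem hgen (q ⊓ q') (q.comap (algebraMap R S)) (by
      intro a ha x hx
      have h1 : x ^ 2 ∈ q := by rw [hx]; exact ha
      have h2 : x ^ 2 ∈ q' := by
        rw [hx]
        have h3 : a ∈ q'.comap (algebraMap R S) := by rw [← hc]; exact ha
        exact h3
      exact ⟨hq.mem_of_pow_mem 2 h1, hq'.mem_of_pow_mem 2 h2⟩) s
    have hr1 : algebraMap R S r ∈ q := by
      have h4 := q.sub_mem (q.mul_mem_left (algebraMap R S u) hs) hr.1
      simpa using h4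
    have hr2 : algebraMap R S r ∈ q' := by
      have h5 : r ∈ q'.comap (algebraMap R S) := by rw [← hc]; exact hr1
      exact h5
    have hus : algebraMap R S u * s ∈ q' := by
      have h6 := q'.add_mem hr.2 hr2
      simpa using h6
    rcases hq'.mem_or_mem hus with h | h
    · exfalso
      apply hu
      rw [hc]
      exact h
    · exact h
  constructor
  · rw [isHomeomorph_iff_continuous_isClosedMap_bijective]
    refine ⟨PrimeSpectrum.continuous_comap _,
      PrimeSpectrum.isClosedMap_comap_of_isIntegral _ (algebraMap_isIntegral_iff.mpr hint), ?_, ?_⟩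
    · intro q q' h
      have hc : q.asIdeal.comap (algebraMap R S) = q'.asIdeal.comap (algebraMap R S) :=
        congrArg PrimeSpectrum.asIdeal h
      apply PrimeSpectrum.ext
      apply le_antisymm
      · exact key q.asIdeal q'.asIdeal hc
      · exact key q'.asIdeal q.asIdeal hc.symm
    · intro P
      obtain ⟨Q, -, hQ, hQP⟩ := Ideal.exists_ideal_over_prime_of_isIntegral P.asIdeal
        (⊥ : Ideal S) (by
          intro r hr
          exact hnil P.asIdeal (by simpa [RingHom.mem_ker] using hr))
      exact ⟨⟨Q, hQ⟩, PrimeSpectrum.ext hQP⟩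
  · intro q hq
    refine ⟨RingHom.injective _, ?_⟩
    intro y
    obtain ⟨sbar, tbar, ht, rfl⟩ := IsFractionRing.div_surjective (A := S ⧸ q) y
    obtain ⟨s, rfl⟩ := Ideal.Quotient.mk_surjective sbar
    obtain ⟨t, rfl⟩ := Ideal.Quotient.mk_surjective tbar
    have hrange : ∀ s : S, ∃ z, Ideal.ResidueField.map (q.comap (algebraMap R S)) q
        (algebraMap R S) rfl z = algebraMap S q.ResidueField s := by
      intro s
      obtain ⟨u, hu, r, hr⟩ := Bmem hgen q (q.comap (algebraMap R S)) (by
        intro a ha x hx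
        exact hq.mem_of_pow_mem 2 (by rw [hx]; exact ha)) s
      refine ⟨algebraMap R _ r / algebraMap R _ u, ?_⟩
      rw [map_div₀, Ideal.ResidueField.map_algebraMap, Ideal.ResidueField.map_algebraMap]
      have hu0 : algebraMap S q.ResidueField (algebraMap R S u) ≠ 0 := by
        rw [Ne, Ideal.algebraMap_residueField_eq_zero]
        exact hu
      rw [div_eq_iff hu0]
      have h7 := (Ideal.algebraMap_residueField_eq_zero (I := q)).mpr hr
      rw [map_sub, map_mul, sub_eq_zero] at h7
      rw [← h7, mul_comm]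
    obtain ⟨z1, hz1⟩ := hrange s
    obtain ⟨z2, hz2⟩ := hrange t
    refine ⟨z1 / z2, ?_⟩
    rw [map_div₀, hz1, hz2]
    rfl

end Groth.Agent.S9606
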