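import Groth.Statements.S9607
import Mathlib

set_option autoImplicit false
universe u
open CAlg

namespace Groth.Agent.S9607

open MvPolynomial in
theorem term_mem (p n m : ℕ) (T : Subalgebra ℤ (MvPolynomial (Fin 2) ℤ))
    (h1 : (X 0 : MvPolynomial (Fin 2) ℤ) ^ (p ^ n) ∈ T)
    (h2 : (p : MvPolynomial (Fin 2) ℤ) ^ n * X 0 ∈ T)
    (h3 : (X 1 : MvPolynomial (Fin 2) ℤ) ^ (p ^ m) ∈ T)
    (h4 : (p : MvPolynomial (Fin 2) ℤ) ^ m * X 1 ∈ T)
    (d q r q' r' : ℕ) :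
    ((p ^ (n * r + m * r') * d : ℕ) : MvPolynomial (Fin 2) ℤ) * X 0 ^ (p ^ n * q + r)
      * X 1 ^ (p ^ m * q' + r') ∈ T := by
  have key : ((p ^ (n * r + m * r') * d : ℕ) : MvPolynomial (Fin 2) ℤ) * X 0 ^ (p ^ n * q + r)
      * X 1 ^ (p ^ m * q' + r')
      = (d : MvPolynomial (Fin 2) ℤ) * (X 0 ^ (p ^ n)) ^ q
        * ((p : MvPolynomial (Fin 2) ℤ) ^ n * X 0) ^ r
        * (X 1 ^ (p ^ m)) ^ q' * ((p : MvPolynomial (Fin 2) ℤ) ^ m * X 1) ^ r' := by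
    push_cast
    ring
  rw [key]
  exact T.mul_mem (T.mul_mem (T.mul_mem (T.mul_mem (natCast_mem T d) (T.pow_mem h1 _))
    (T.pow_mem h2 _)) (T.pow_mem h3 _)) (T.pow_mem h4 _)

theorem val_lemma (p : ℕ) (hp : p.Prime) (a t i : ℕ) (hile : i ≤ p ^ a)
    (hr : i % p ^ t ≠ 0) :
    a < ((p ^ a).choose i).factorization p + t := by
  have hi0 : i ≠ 0 := by rintro rfl; exact hr (Nat.zero_mod _)
  have h1 := Nat.factorization_choose_prime_pow_add_factorization hp hile hi0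
  have h2 : ¬ p ^ t ∣ i := fun h => hr (Nat.mod_eq_zero_of_dvd h)
  rw [hp.pow_dvd_iff_le_factorization hi0] at h2
  omega

open MvPolynomial in
theorem main (p : ℕ) (hp : p.Prime) (n m : ℕ) (T : Subalgebra ℤ (MvPolynomial (Fin 2) ℤ))
    (h1 : (X 0 : MvPolynomial (Fin 2) ℤ) ^ (p ^ n) ∈ T)
    (h2 : (p : MvPolynomial (Fin 2) ℤ) ^ n * X 0 ∈ T)
    (h3 : (X 1 : MvPolynomial (Fin 2) ℤ) ^ (p ^ m) ∈ T)
    (h4 : (p : MvPolynomial (Fin 2) ℤ) ^ m * X 1 ∈ T)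
    (a : ℕ) (ha : n + m + n * p ^ n + m * p ^ m ≤ a) :
    ((X 0 + X 1 : MvPolynomial (Fin 2) ℤ)) ^ (p ^ a) ∈ T := by
  rw [add_pow]
  apply T.sum_mem
  intro i hi
  have hile : i ≤ p ^ a := Nat.lt_succ_iff.mp (Finset.mem_range.mp hi)
  obtain ⟨j, hj⟩ : ∃ j, j = p ^ a - i := ⟨_, rfl⟩
  rw [← hj]
  have hjle : j ≤ p ^ a := by omega
  have hC : (p ^ a).choose i ≠ 0 := (Nat.choose_pos hile).ne'
  have hsymm : (p ^ a).choose j = (p ^ a).choose i := by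
    rw [hj]; exact Nat.choose_symm hile
  have hr : i % p ^ n < p ^ n := Nat.mod_lt _ (Nat.pow_pos hp.pos)
  have hr' : j % p ^ m < p ^ m := Nat.mod_lt _ (Nat.pow_pos hp.pos)
  have hnr : n * (i % p ^ n) ≤ n * p ^ n := Nat.mul_le_mul_left n hr.le
  have hmr : m * (j % p ^ m) ≤ m * p ^ m := Nat.mul_le_mul_left m hr'.le
  have hval : n * (i % p ^ n) + m * (j % p ^ m) ≤ ((p ^ a).choose i).factorization p := by
    by_cases hr0 : i % p ^ n = 0
    · by_cases hr0' : j % p ^ m = 0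
      · rw [hr0, hr0', mul_zero, mul_zero]; exact Nat.zero_le _
      · have := val_lemma p hp a m j hjle hr0'
        rw [hsymm] at this
        omega
    · have := val_lemma p hp a n i hile hr0
      omega
  have hdiv : p ^ (n * (i % p ^ n) + m * (j % p ^ m)) ∣ (p ^ a).choose i :=
    (hp.pow_dvd_iff_le_factorization hC).mpr hval
  obtain ⟨d, hd⟩ := hdiv
  have hmem := term_mem p n m T h1 h2 h3 h4 d (i / p ^ n) (i % p ^ n) (j / p ^ m) (j % p ^ m)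
  rw [← hd, Nat.div_add_mod, Nat.div_add_mod] at hmem
  have e : (X 0 : MvPolynomial (Fin 2) ℤ) ^ i * X 1 ^ j * ((p ^ a).choose i : MvPolynomial (Fin 2) ℤ)
      = ((p ^ a).choose i : MvPolynomial (Fin 2) ℤ) * X 0 ^ i * X 1 ^ j := by ring
  rw [e]; exact hmem

open MvPolynomial in
theorem second (p n m : ℕ) (T : Subalgebra ℤ (MvPolynomial (Fin 2) ℤ))
    (h2 : (p : MvPolynomial (Fin 2) ℤ) ^ n * X 0 ∈ T)
    (h4 : (p : MvPolynomial (Fin 2) ℤ) ^ m * X 1 ∈ T)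
    (a : ℕ) (han : n ≤ a) (ham : m ≤ a) :
    (p : MvPolynomial (Fin 2) ℤ) ^ a * (X 0 + X 1) ∈ T := by
  have e1 : (p : MvPolynomial (Fin 2) ℤ) ^ a * (X 0 + X 1)
      = (p : MvPolynomial (Fin 2) ℤ) ^ (a - n) * ((p : MvPolynomial (Fin 2) ℤ) ^ n * X 0)
        + (p : MvPolynomial (Fin 2) ℤ) ^ (a - m) * ((p : MvPolynomial (Fin 2) ℤ) ^ m * X 1) := by
    rw [← mul_assoc, ← mul_assoc, ← pow_add, ← pow_add, Nat.sub_add_cancel han,
      Nat.sub_add_cancel ham, mul_add]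
  rw [e1]
  exact T.add_mem (T.mul_mem (T.pow_mem (natCast_mem T p) _) h2)
    (T.mul_mem (T.pow_mem (natCast_mem T p) _) h4)



/-- For a prime number p and integers n, m > 0 there exists an integer a such that (x + y)^(p^a) and p^a
(x + y) both belong to the subring ℤ[x^(p^n), p^n x, y^(p^m), p^m y] of the polynomial ring ℤ[x, y]. -/
theorem result (p : ℕ) (hp : p.Prime) (n m : ℕ) (hn : 0 < n) (hm : 0 < m) :
    ∃ a : ℕ, ((MvPolynomial.X 0 + MvPolynomial.X 1 : MvPolynomial (Fin 2) ℤ) ^ (p ^ a) ∈ Algebra.adjoin ℤ ({MvPolynomial.X 0 ^ (p ^ n), (p : MvPolynomial (Fin 2) ℤ) ^ n * MvPolynomial.X 0, MvPolynomial.X 1 ^ (p ^ m), (p : MvPolynomial (Fin 2) ℤ) ^ m * MvPolynomial.X 1} : Set (MvPolynomial (Fin 2) ℤ)) ∧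
      (p : MvPolynomial (Fin 2) ℤ) ^ a * (MvPolynomial.X 0 + MvPolynomial.X 1) ∈ Algebra.adjoin ℤ ({MvPolynomial.X 0 ^ (p ^ n), (p : MvPolynomial (Fin 2) ℤ) ^ n * MvPolynomial.X 0, MvPolynomial.X 1 ^ (p ^ m), (p : MvPolynomial (Fin 2) ℤ) ^ m * MvPolynomial.X 1} : Set (MvPolynomial (Fin 2) ℤ))) := by
  refine ⟨n + m + n * p ^ n + m * p ^ m, main p hp n m _ ?_ ?_ ?_ ?_ _ le_rfl,
    second p n m _ ?_ ?_ _ (by omega) (by omega)⟩
  · exact Algebra.subset_adjoin (Set.mem_insert _ _)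
  · exact Algebra.subset_adjoin (Set.mem_insert_of_mem _ (Set.mem_insert _ _))
  · exact Algebra.subset_adjoin
      (Set.mem_insert_of_mem _ (Set.mem_insert_of_mem _ (Set.mem_insert _ _)))
  · exact Algebra.subset_adjoin (Set.mem_insert_of_mem _
      (Set.mem_insert_of_mem _ (Set.mem_insert_of_mem _ (Set.mem_singleton _))))
  · exact Algebra.subset_adjoin (Set.mem_insert_of_mem _ (Set.mem_insert _ _))
  · exact Algebra.subset_adjoin (Set.mem_insert_of_mem _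
      (Set.mem_insert_of_mem _ (Set.mem_insert_of_mem _ (Set.mem_singleton _))))


end Groth.Agent.S9607
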