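import Groth.Statements.S9608
import Mathlib

set_option autoImplicit false
universe u
open CAlg

namespace Groth.Agent.S9608



/-- Let k'/k be a field extension and p a prime number. Then k' is generated over k by elements x for
which some n > 0 has x^(p^n) ∈ k and p^n x ∈ k, if and only if either k' = k, or k has
characteristic p and k'/k is purely inseparable. -/
theorem result {k k' : Type u} [Field k] [Field k'] [Algebra k k'] (p : ℕ) (hp : p.Prime) :
    IntermediateField.adjoin k {x : k' | ∃ n : ℕ, 0 < n ∧ x ^ (p ^ n) ∈ Set.range (algebraMap k k') ∧ (p : k') ^ n * x ∈ Set.range (algebraMap k k')} = ⊤ ↔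
      (Function.Surjective (algebraMap k k') ∨ (CharP k p ∧ IsPurelyInseparable k k')) := by
  constructor
  · intro h
    by_cases hp0 : (p : k) = 0
    · right
      haveI : CharP k p := (CharP.charP_iff_prime_eq_zero hp).mpr hp0
      haveI : Fact p.Prime := ⟨hp⟩
      refine ⟨inferInstance, ?_⟩
      rw [isPurelyInseparable_iff_perfectClosure_eq_top]
      apply top_unique
      rw [← h, IntermediateField.adjoin_le_iff]
      rintro x ⟨n, _, hxn, _⟩
      exact (mem_perfectClosure_iff_pow_mem p).mpr ⟨n, RingHom.mem_range.mpr (Set.mem_range.mp hxn)⟩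
    · left
      have hS : {x : k' | ∃ n : ℕ, 0 < n ∧ x ^ (p ^ n) ∈ Set.range (algebraMap k k') ∧
          (p : k') ^ n * x ∈ Set.range (algebraMap k k')} ⊆
          ((⊥ : IntermediateField k k') : Set k') := by
        rintro x ⟨n, _, _, y, hy⟩
        have hp' : (p : k') ≠ 0 := by
          rw [← map_natCast (algebraMap k k')]
          exact (map_ne_zero _).mpr hp0
        have hx : x = algebraMap k k' (y / (p : k) ^ n) := by
          rw [map_div₀, hy, map_pow, map_natCast, mul_div_cancel_left₀]
          exact pow_ne_zero n hp'
        rw [hx]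
        exact IntermediateField.algebraMap_mem _ _
      have hle : (⊤ : IntermediateField k k') ≤ ⊥ := by
        rw [← h, IntermediateField.adjoin_le_iff]; exact hS
      intro z
      have hz : z ∈ (⊥ : IntermediateField k k') := hle IntermediateField.mem_top
      exact IntermediateField.mem_bot.mp hz
  · rintro (h | ⟨hc, hpi⟩)
    · apply top_unique
      intro z _
      obtain ⟨y, rfl⟩ := h z
      exact IntermediateField.algebraMap_mem _ y
    · haveI : Fact p.Prime := ⟨hp⟩
      apply top_unique
      intro z _
      apply IntermediateField.subset_adjoin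
      obtain ⟨n, hn⟩ := (isPurelyInseparable_iff_pow_mem k p).1 hpi z
      obtain ⟨y, hy⟩ := RingHom.mem_range.mp hn
      refine ⟨n + 1, Nat.succ_pos n, ?_, ?_⟩
      · rw [pow_succ, pow_mul]
        exact ⟨y ^ p, by rw [map_pow, hy]⟩
      · refine ⟨0, ?_⟩
        have h0 : (p : k') = 0 := by
          rw [← map_natCast (algebraMap k k'), CharP.cast_eq_zero k p, map_zero]
        rw [map_zero, h0, zero_pow (Nat.succ_ne_zero n), zero_mul]


end Groth.Agent.S9608
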