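import Groth.Statements.S9609
import Mathlib

set_option autoImplicit false
universe u
open CAlg

namespace Groth.Agent.S9609

/-- Property (B): field-valued points of the target are determined by their restriction. -/
def PropB {A B : Type u} [CommRing A] [CommRing B] (f : A →+* B) : Prop :=
  ∀ (K : Type u) [Field K] (g₁ g₂ : B →+* K), g₁.comp f = g₂.comp f → g₁ = g₂

theorem eq_of_comp_map_eq {A B : Type u} [CommRing A] [CommRing B] (f : A →+* B)
    (q : Ideal B) [q.IsPrime]
    (hq : ∀ x : q.ResidueField, ∃ n : ℕ,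
      x ^ (ringExpChar (q.comap f).ResidueField) ^ n ∈
        Set.range (Ideal.ResidueField.map (q.comap f) q f rfl))
    {K : Type u} [Field K] (h₁ h₂ : q.ResidueField →+* K)
    (h : (h₁.comp (algebraMap B _)).comp f = (h₂.comp (algebraMap B _)).comp f) : h₁ = h₂ := by
  set φ := Ideal.ResidueField.map (q.comap f) q f rfl with hφ
  have hcomp : h₁.comp φ = h₂.comp φ := by
    apply Ideal.ResidueField.ringHom_ext
    ext r
    have := congrArg (fun g => g r) h
    simpa [hφ] using this
  have : ExpChar K (ringExpChar (q.comap f).ResidueField) :=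
    expChar_of_injective_ringHom (h₁.comp φ).injective _
  refine RingHom.ext fun x => ?_
  obtain ⟨n, y, hy⟩ := hq x
  apply iterateFrobenius_inj K (ringExpChar (q.comap f).ResidueField) n
  rw [iterateFrobenius_def, iterateFrobenius_def, ← map_pow, ← map_pow, ← hy]
  exact congrArg (fun g => g y) hcomp

theorem propB_of_hyps {R S : Type u} [CommRing R] [CommRing S] [Algebra R S]
    (hinj : Function.Injective (PrimeSpectrum.comap (algebraMap R S)))
    (hpi : ∀ (q : Ideal S) [q.IsPrime] (x : q.ResidueField), ∃ n : ℕ,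
      x ^ (ringExpChar (q.comap (algebraMap R S)).ResidueField) ^ n ∈
        Set.range (Ideal.ResidueField.map (q.comap (algebraMap R S)) q (algebraMap R S) rfl)) :
    PropB (algebraMap R S) := by
  intro K _ g₁ g₂ h
  have hp₁ : (RingHom.ker g₁).IsPrime := RingHom.ker_isPrime g₁
  have hp₂ : (RingHom.ker g₂).IsPrime := RingHom.ker_isPrime g₂
  have hq : RingHom.ker g₁ = RingHom.ker g₂ := by
    have h1 : (RingHom.ker g₁).comap (algebraMap R S) = (RingHom.ker g₂).comap (algebraMap R S) := by
      rw [RingHom.comap_ker, RingHom.comap_ker, h]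
    have := hinj (a₁ := ⟨RingHom.ker g₁, hp₁⟩) (a₂ := ⟨RingHom.ker g₂, hp₂⟩) (PrimeSpectrum.ext h1)
    exact congrArg PrimeSpectrum.asIdeal this
  have hu₁ : (RingHom.ker g₁).primeCompl ≤ (IsUnit.submonoid K).comap g₁ := by
    intro x hx
    exact isUnit_iff_ne_zero.mpr hx
  have hu₂ : (RingHom.ker g₁).primeCompl ≤ (IsUnit.submonoid K).comap g₂ := by
    intro x hx
    have hx' : x ∉ RingHom.ker g₂ := fun h' => hx (hq ▸ h')
    exact isUnit_iff_ne_zero.mpr hx'
  have key := eq_of_comp_map_eq (algebraMap R S) (RingHom.ker g₁) (hpi _)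
    (Ideal.ResidueField.lift (RingHom.ker g₁) g₁ le_rfl hu₁)
    (Ideal.ResidueField.lift (RingHom.ker g₁) g₂ hq.le hu₂) (by
      ext r
      simpa using congrArg (fun g => g r) h)
  ext s
  have := congrArg (fun g => g (algebraMap S _ s)) key
  simpa using this

open TensorProduct in
theorem propB_baseChange {R S R' : Type u} [CommRing R] [CommRing S] [CommRing R'] [Algebra R S]
    [Algebra R R'] (hB : PropB (algebraMap R S)) : PropB (algebraMap R' (R' ⊗[R] S)) := by
  intro K _ g₁ g₂ h
  have hl : ∀ a : R', g₁ (a ⊗ₜ[R] (1 : S)) = g₂ (a ⊗ₜ[R] (1 : S)) := by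
    intro a
    have := congrArg (fun g => g a) h
    simpa [Algebra.TensorProduct.algebraMap_apply] using this
  have hr : g₁.comp (Algebra.TensorProduct.includeRight (R := R) (A := R') (B := S)).toRingHom =
      g₂.comp (Algebra.TensorProduct.includeRight (R := R) (A := R') (B := S)).toRingHom := by
    apply hB
    ext r
    simp only [RingHom.coe_comp, Function.comp_apply, AlgHom.toRingHom_eq_coe, RingHom.coe_coe,
      Algebra.TensorProduct.includeRight_apply]
    have e : (1 : R') ⊗ₜ[R] (algebraMap R S r) = (algebraMap R R' r) ⊗ₜ[R] (1 : S) := by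
      rw [Algebra.algebraMap_eq_smul_one, Algebra.algebraMap_eq_smul_one, TensorProduct.smul_tmul]
    rw [e]
    exact hl _
  refine RingHom.ext fun x => ?_
  induction x using TensorProduct.induction_on with
  | zero => simp
  | tmul a s =>
    have e : a ⊗ₜ[R] s = (a ⊗ₜ[R] (1 : S)) * ((1 : R') ⊗ₜ[R] s) := by
      simp
    rw [e, map_mul, map_mul, hl a]
    congr 1
    exact congrArg (fun g => g s) hr
  | add x y hx hy => rw [map_add, map_add, hx, hy]

theorem pow_mem_of_propB {A B : Type u} [CommRing A] [CommRing B] (f : A →+* B) (hB : PropB f)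
    (q : Ideal B) [q.IsPrime] (x : q.ResidueField) : ∃ n : ℕ,
      x ^ (ringExpChar (q.comap f).ResidueField) ^ n ∈
        Set.range (Ideal.ResidueField.map (q.comap f) q f rfl) := by
  let φ := Ideal.ResidueField.map (q.comap f) q f rfl
  let _ : Algebra (q.comap f).ResidueField q.ResidueField := φ.toAlgebra
  have hne : Nonempty (q.ResidueField →+* AlgebraicClosure q.ResidueField) :=
    ⟨algebraMap _ _⟩
  have hpi : IsPurelyInseparable (q.comap f).ResidueField q.ResidueField := by
    refine IsPurelyInseparable.of_injective_comp_algebraMap (F := (q.comap f).ResidueField)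
      (E := q.ResidueField) (AlgebraicClosure q.ResidueField) ?_
    intro f₁ f₂ h
    apply Ideal.ResidueField.ringHom_ext
    apply hB
    ext a
    have := congrArg (fun g => g (algebraMap A _ a)) h
    simpa [RingHom.algebraMap_toAlgebra, φ] using this
  obtain ⟨n, y, hy⟩ := (isPurelyInseparable_iff_pow_mem (q.comap f).ResidueField
    (ringExpChar (q.comap f).ResidueField)).mp hpi x
  exact ⟨n, y, hy⟩

open TensorProduct in
theorem comap_injective_of_propB {A B : Type u} [CommRing A] [CommRing B] (f : A →+* B)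
    (hB : PropB f) : Function.Injective (PrimeSpectrum.comap f) := by
  intro q₁ q₂ h
  have hp : q₁.asIdeal.comap f = q₂.asIdeal.comap f := congrArg PrimeSpectrum.asIdeal h
  let φ₁ := Ideal.ResidueField.map (q₁.asIdeal.comap f) q₁.asIdeal f rfl
  let φ₂ := Ideal.ResidueField.map (q₁.asIdeal.comap f) q₂.asIdeal f hp
  let _ : Algebra (q₁.asIdeal.comap f).ResidueField q₁.asIdeal.ResidueField := φ₁.toAlgebra
  let _ : Algebra (q₁.asIdeal.comap f).ResidueField q₂.asIdeal.ResidueField := φ₂.toAlgebra
  have hnt : Nontrivial (q₁.asIdeal.ResidueField ⊗[(q₁.asIdeal.comap f).ResidueField]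
      q₂.asIdeal.ResidueField) :=
    Algebra.TensorProduct.nontrivial_of_algebraMap_injective_of_flat_left
      (R := (q₁.asIdeal.comap f).ResidueField) (A := q₁.asIdeal.ResidueField)
      (B := q₂.asIdeal.ResidueField) (RingHom.injective _)
  obtain ⟨m, hm⟩ := Ideal.exists_maximal (q₁.asIdeal.ResidueField ⊗[(q₁.asIdeal.comap f).ResidueField]
      q₂.asIdeal.ResidueField)
  let _ : Field ((q₁.asIdeal.ResidueField ⊗[(q₁.asIdeal.comap f).ResidueField]
      q₂.asIdeal.ResidueField) ⧸ m) := Ideal.Quotient.field m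
  let ψ₁ : q₁.asIdeal.ResidueField →+* ((q₁.asIdeal.ResidueField ⊗[(q₁.asIdeal.comap f).ResidueField]
      q₂.asIdeal.ResidueField) ⧸ m) :=
    (Ideal.Quotient.mk m).comp (Algebra.TensorProduct.includeLeft
      (R := (q₁.asIdeal.comap f).ResidueField) (S := (q₁.asIdeal.comap f).ResidueField)
      (A := q₁.asIdeal.ResidueField) (B := q₂.asIdeal.ResidueField)).toRingHom
  let ψ₂ : q₂.asIdeal.ResidueField →+* ((q₁.asIdeal.ResidueField ⊗[(q₁.asIdeal.comap f).ResidueField]
      q₂.asIdeal.ResidueField) ⧸ m) :=
    (Ideal.Quotient.mk m).comp (Algebra.TensorProduct.includeRight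
      (R := (q₁.asIdeal.comap f).ResidueField)
      (A := q₁.asIdeal.ResidueField) (B := q₂.asIdeal.ResidueField)).toRingHom
  have heq : ψ₁.comp (algebraMap B _) = ψ₂.comp (algebraMap B _) := by
    apply hB
    ext a
    have e₁ : algebraMap B q₁.asIdeal.ResidueField (f a) =
        (algebraMap A (q₁.asIdeal.comap f).ResidueField a) • (1 : q₁.asIdeal.ResidueField) := by
      rw [Algebra.smul_def, mul_one, RingHom.algebraMap_toAlgebra]
      exact (Ideal.ResidueField.map_algebraMap _ _ f rfl a).symm
    have e₂ : algebraMap B q₂.asIdeal.ResidueField (f a) =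
        (algebraMap A (q₁.asIdeal.comap f).ResidueField a) • (1 : q₂.asIdeal.ResidueField) := by
      rw [Algebra.smul_def, mul_one, RingHom.algebraMap_toAlgebra]
      exact (Ideal.ResidueField.map_algebraMap _ _ f hp a).symm
    simp only [RingHom.coe_comp, Function.comp_apply, ψ₁, ψ₂, AlgHom.toRingHom_eq_coe,
      RingHom.coe_coe, Algebra.TensorProduct.includeLeft_apply,
      Algebra.TensorProduct.includeRight_apply]
    rw [e₁, e₂, TensorProduct.smul_tmul]
  have k₁ : ∀ x : B, x ∈ q₁.asIdeal ↔ (ψ₁.comp (algebraMap B _)) x = 0 := by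
    intro x
    rw [RingHom.comp_apply, map_eq_zero, Ideal.algebraMap_residueField_eq_zero]
  have k₂ : ∀ x : B, x ∈ q₂.asIdeal ↔ (ψ₂.comp (algebraMap B _)) x = 0 := by
    intro x
    rw [RingHom.comp_apply, map_eq_zero, Ideal.algebraMap_residueField_eq_zero]
  apply PrimeSpectrum.ext
  ext x
  rw [k₁, k₂, heq]


open TensorProduct in
/-- Let R → S be a ring map which is injective on spectra and whose residue field extensions κ(p) → κ(q)
(q a prime of S with inverse image p) are purely inseparable: every element of κ(q) has a power with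
exponent a power of the characteristic exponent lying in the image of κ(p). Then, given an arbitrary
R-algebra R', the induced map R' → R' ⊗_R S is likewise injective on spectra and has purely
inseparable residue field extensions. -/
theorem result {R S R' : Type u} [CommRing R] [CommRing S] [CommRing R'] [Algebra R S] [Algebra R R']
    (hinj : Function.Injective (PrimeSpectrum.comap (algebraMap R S)))
    (hpi : ∀ (q : Ideal S) [q.IsPrime] (x : q.ResidueField), ∃ n : ℕ, x ^ (ringExpChar (q.comap (algebraMap R S)).ResidueField) ^ n ∈ Set.range (Ideal.ResidueField.map (q.comap (algebraMap R S)) q (algebraMap R S) rfl)) :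
    Function.Injective (PrimeSpectrum.comap (algebraMap R' (R' ⊗[R] S))) ∧
      ∀ (q' : Ideal (R' ⊗[R] S)) [q'.IsPrime] (x : q'.ResidueField), ∃ n : ℕ, x ^ (ringExpChar (q'.comap (algebraMap R' (R' ⊗[R] S))).ResidueField) ^ n ∈ Set.range (Ideal.ResidueField.map (q'.comap (algebraMap R' (R' ⊗[R] S))) q' (algebraMap R' (R' ⊗[R] S)) rfl) := by
  have hB : PropB (algebraMap R' (R' ⊗[R] S)) := propB_baseChange (propB_of_hyps hinj hpi)
  refine ⟨comap_injective_of_propB _ hB, ?_⟩
  intro q' _ x
  exact pow_mem_of_propB _ hB q' x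


end Groth.Agent.S9609
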