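import Groth.Statements.S9610
import Mathlib

set_option autoImplicit false
universe u
open CAlg

namespace Groth.Agent.S9610



/-- Let k be a field and V a nonzero k-vector space with dim_k V < #k as cardinals. Then every k-linear
endomorphism T of V admits a monic polynomial P over k for which P(T) is not invertible. -/
theorem result {k V : Type u} [Field k] [AddCommGroup V] [Module k V] [Nontrivial V] (hV : Module.rank k V < Cardinal.mk k) (T : Module.End k V) :
    ∃ P : Polynomial k, P.Monic ∧ ¬ IsUnit (Polynomial.aeval T P) := by
  classical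
  by_contra hcon
  push Not at hcon
  obtain ⟨v, hv⟩ := exists_ne (0 : V)
  have hunit : ∀ a : k, IsUnit (Polynomial.aeval T (Polynomial.X - Polynomial.C a)) :=
    fun a => hcon _ (Polynomial.monic_X_sub_C a)
  choose u hu using hunit
  let w : k → V := fun a => ((u a)⁻¹ : (Module.End k V)ˣ).1 v
  have hw : ∀ a, Polynomial.aeval T (Polynomial.X - Polynomial.C a) (w a) = v := by
    intro a
    rw [← hu a]
    show ((u a : Module.End k V) * ((u a)⁻¹ : (Module.End k V)ˣ)) v = v
    rw [Units.mul_inv]; rfl
  have hli : LinearIndependent k w := by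
    rw [linearIndependent_iff']
    intro s g hsum a ha
    set Q : Polynomial k := ∑ a ∈ s, Polynomial.C (g a) *
      ∏ b ∈ s.erase a, (Polynomial.X - Polynomial.C b) with hQ
    have hQv : Polynomial.aeval T Q v = 0 := by
      have h1 : Polynomial.aeval T (∏ b ∈ s, (Polynomial.X - Polynomial.C b))
          (∑ a ∈ s, g a • w a) = 0 := by rw [hsum, map_zero]
      rw [map_sum] at h1
      rw [hQ, map_sum, LinearMap.sum_apply]
      refine Eq.trans ?_ h1
      refine Finset.sum_congr rfl fun a ha => ?_
      rw [Polynomial.C_mul', map_smul, LinearMap.smul_apply, map_smul,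
        ← Finset.prod_erase_mul s _ ha, map_mul, Module.End.mul_apply, hw a]
    have hQ0 : Q = 0 := by
      by_contra hne
      have hmonic := Polynomial.monic_mul_leadingCoeff_inv hne
      have hun := hcon _ hmonic
      have h0 : Polynomial.aeval T (Q * Polynomial.C (Polynomial.leadingCoeff Q)⁻¹) v = 0 := by
        rw [mul_comm, Polynomial.C_mul', map_smul, LinearMap.smul_apply, hQv, smul_zero]
      obtain ⟨U, hU⟩ := hun
      apply hv
      have h2 : ((U⁻¹ : (Module.End k V)ˣ) : Module.End k V) ((U : Module.End k V) v) = v := by
        show ((U⁻¹ : (Module.End k V)ˣ).1 * U.1) v = v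
        rw [Units.inv_mul]; rfl
      rw [← h2, hU, h0, map_zero]
    have heval : Polynomial.eval a Q = g a * ∏ b ∈ s.erase a, (a - b) := by
      rw [hQ, Polynomial.eval_finsetSum]
      rw [Finset.sum_eq_single a]
      · rw [Polynomial.eval_mul, Polynomial.eval_C, Polynomial.eval_prod]
        simp only [Polynomial.eval_sub, Polynomial.eval_X, Polynomial.eval_C]
      · intro a' ha' hne
        rw [Polynomial.eval_mul, Polynomial.eval_prod]
        have : ∏ b ∈ s.erase a', Polynomial.eval a (Polynomial.X - Polynomial.C b) = 0 := by
          refine Finset.prod_eq_zero (Finset.mem_erase.mpr ⟨hne.symm, ha⟩) ?_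
          simp
        rw [this, mul_zero]
      · intro h; exact absurd ha h
    rw [hQ0, Polynomial.eval_zero] at heval
    have hprod : ∏ b ∈ s.erase a, (a - b) ≠ 0 := by
      refine Finset.prod_ne_zero_iff.mpr fun b hb => ?_
      exact sub_ne_zero.mpr (Finset.ne_of_mem_erase hb).symm
    rcases mul_eq_zero.mp heval.symm with h | h
    · exact h
    · exact absurd h hprod
  have := hli.cardinal_le_rank
  exact absurd hV (not_lt.mpr this)


end Groth.Agent.S9610
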