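import Groth.Statements.S9611
import Mathlib.RingTheory.Ideal.Operations

set_option autoImplicit false
universe u
open CAlg

namespace Groth.Agent.S9611

/-- Let R be a Jacobson ring, p a prime ideal of R which is not maximal, and f an element of R not in p.
Then the set of primes of R containing p and not containing f is infinite. -/
theorem result {R : Type u} [CommRing R] [IsJacobsonRing R] (p : Ideal R) [p.IsPrime] (hp : ¬ p.IsMaximal) (f : R) (hf : f ∉ p) :
    {q : PrimeSpectrum R | p ≤ q.asIdeal ∧ f ∉ q.asIdeal}.Infinite := by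
  intro hfin
  have hpprime : p.IsPrime := inferInstance
  have hT : {J : Ideal R | J.IsMaximal ∧ p ≤ J ∧ f ∉ J}.Finite := by
    refine (hfin.image PrimeSpectrum.asIdeal).subset ?_
    rintro J ⟨hJmax, hpJ, hfJ⟩
    exact ⟨⟨J, hJmax.isPrime⟩, ⟨hpJ, hfJ⟩, rfl⟩
  set B : Ideal R := sInf {J : Ideal R | p ≤ J ∧ J.IsMaximal ∧ f ∈ J} with hB
  have hfB : f ∈ B := by
    rw [hB, Ideal.mem_sInf]
    intro J hJ
    exact hJ.2.2
  have hpj : p.jacobson = p := (inferInstance : IsJacobsonRing R).out hpprime.isRadical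
  have hle : hT.toFinset.inf id ⊓ B ≤ p := by
    conv_rhs => rw [← hpj]
    rw [Ideal.jacobson]
    refine le_sInf fun J hJ => ?_
    by_cases hfJ : f ∈ J
    · exact inf_le_right.trans (sInf_le ⟨hJ.1, hJ.2, hfJ⟩)
    · exact inf_le_left.trans
        (Finset.inf_le (f := id) (hT.mem_toFinset.mpr ⟨hJ.2, hJ.1, hfJ⟩))
  rcases hpprime.inf_le.mp hle with h | h
  · obtain ⟨J, hJmem, hJle⟩ := hpprime.inf_le'.mp h
    have hJ := hT.mem_toFinset.mp hJmem
    have : p = J := le_antisymm hJ.2.1 hJle
    exact hp (this ▸ hJ.1)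
  · exact hf (h hfB)

end Groth.Agent.S9611
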