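import Groth.Statements.S9614
import Mathlib
import Groth.Agent.Lib.Helper6.GrMod

set_option autoImplicit false
universe u
open CAlg

namespace Groth.Agent.S9614


open DirectSum Groth.Agent.Lib.Helper6.GrMod


/-- Let S be an ℕ-graded ring and M a finitely generated graded S-module, graded in nonnegative degrees
(the source allows all integer degrees). If x_1, …, x_n are homogeneous elements of M which generate
M modulo S₊ M (S₊ the irrelevant ideal), then x_1, …, x_n generate M. -/
theorem result {R S : Type u} [CommRing R] [CommRing S] [Algebra R S] (𝒜 : ℕ → Submodule R S) [GradedAlgebra 𝒜]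
    (M : Type u) [AddCommGroup M] [Module R M] [Module S M] [IsScalarTower R S M] [Module.Finite S M] (ℳ : ℕ → Submodule R M) [DirectSum.Decomposition ℳ] [SetLike.GradedSMul 𝒜 ℳ]
    {n : ℕ} (x : Fin n → M) (hx : ∀ i, SetLike.IsHomogeneousElem ℳ (x i))
    (h : Submodule.span S (Set.range x) ⊔ (HomogeneousIdeal.irrelevant 𝒜).toIdeal • (⊤ : Submodule S M) = ⊤) :
    Submodule.span S (Set.range x) = ⊤ := by
  classical
  set N : Submodule S M := Submodule.span S (Set.range x) with hN
  choose e he using hx
  have hN_comp : ∀ (d : ℕ) (w : M), w ∈ N → ((decompose ℳ w d : ℳ d) : M) ∈ N := by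
    intro d w hw
    induction hw using Submodule.closure_induction with
    | zero => simp
    | add a b _ _ ha hb =>
      rw [decompose_add, DirectSum.add_apply, Submodule.coe_add]
      exact N.add_mem ha hb
    | smul_mem s y hy =>
      obtain ⟨i, rfl⟩ := hy
      rw [decompose_smul_right 𝒜 ℳ s (he i) d]
      split_ifs
      · exact N.smul_mem _ (Submodule.subset_span ⟨i, rfl⟩)
      · exact N.zero_mem
  have hhom : ∀ d, ∀ m ∈ ℳ d, m ∈ N := by
    intro d
    induction d using Nat.strong_induction_on with
    | _ d ih =>
      intro m hm
      have hirr : ∀ z ∈ (HomogeneousIdeal.irrelevant 𝒜).toIdeal • (⊤ : Submodule S M),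
          ((decompose ℳ z d : ℳ d) : M) ∈ N := by
        intro z hz
        refine Submodule.smul_induction_on hz ?_ ?_
        · intro a ha w _
          have e2 : a • w = ∑ j ∈ (decompose ℳ w).support, a • ((decompose ℳ w j : ℳ j) : M) := by
            conv_lhs => rw [← sum_support_decompose ℳ w]
            rw [Finset.smul_sum]
          rw [e2, coe_decompose_sum]
          refine N.sum_mem (fun j _ => ?_)
          rw [decompose_smul_right 𝒜 ℳ a (SetLike.coe_mem _) d]
          split_ifs with hjd
          · rcases Nat.lt_or_ge j d with hlt | hge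
            · exact N.smul_mem _ (ih j hlt _ (SetLike.coe_mem _))
            · have hj : j = d := le_antisymm hjd hge
              subst hj
              rw [Nat.sub_self]
              have h0 : ((decompose 𝒜 a 0 : 𝒜 0) : S) = 0 := by
                have h1 := (HomogeneousIdeal.mem_irrelevant_iff 𝒜 a).mp ha
                rwa [GradedRing.proj_apply] at h1
              rw [h0, zero_smul]
              exact N.zero_mem
          · exact N.zero_mem
        · intro a b ha hb
          rw [decompose_add, DirectSum.add_apply, Submodule.coe_add]
          exact N.add_mem ha hb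
      have hm' : m ∈ N ⊔ (HomogeneousIdeal.irrelevant 𝒜).toIdeal • (⊤ : Submodule S M) := by
        rw [h]
        trivial
      obtain ⟨y, hy, z, hz, rfl⟩ := Submodule.mem_sup.mp hm'
      have e1 : ((decompose ℳ (y + z) d : ℳ d) : M) = y + z := decompose_of_mem_same ℳ hm
      rw [← e1, decompose_add, DirectSum.add_apply, Submodule.coe_add]
      exact N.add_mem (hN_comp d y hy) (hirr z hz)
  rw [eq_top_iff]
  intro m _
  rw [← sum_support_decompose ℳ m]
  exact N.sum_mem (fun j _ => hhom j _ (SetLike.coe_mem _))


end Groth.Agent.S9614
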