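import Groth.Statements.S9615
import Mathlib

set_option autoImplicit false
universe u
open CAlg

namespace Groth.Agent.S9615

open Polynomial
attribute [local instance] Polynomial.algebra

section
variable {S : Type u} [CommRing S] (𝒮 : ℕ → AddSubgroup S) [GradedRing 𝒮]

/-- `s ↦ ∑ s_i X^i` as a ring hom -/
noncomputable def toPoly : S →+* S[X] :=
  (DirectSum.toSemiring (fun i => ((monomial i : S →ₗ[S] S[X]).toAddMonoidHom).comp (𝒮 i).subtype)
    (by simp [GradedMonoid.GOne.one])
    (by
      intro i j ai aj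
      simp only [AddMonoidHom.coe_comp, Function.comp_apply]
      show monomial (i + j) ((ai : S) * (aj : S)) = monomial i (ai : S) * monomial j (aj : S)
      rw [monomial_mul_monomial])).comp
  (DirectSum.decomposeRingEquiv 𝒮).toRingHom

theorem toPoly_of_mem {i : ℕ} {s : S} (hs : s ∈ 𝒮 i) : toPoly 𝒮 s = monomial i s := by
  simp only [toPoly, RingHom.coe_comp, Function.comp_apply]
  show DirectSum.toSemiring _ _ _ (DirectSum.decompose 𝒮 s) = _
  rw [DirectSum.decompose_of_mem _ hs]
  erw [DirectSum.toSemiring_of]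
  rfl

theorem toPoly_coeff (s : S) (i : ℕ) : (toPoly 𝒮 s).coeff i = (DirectSum.decompose 𝒮 s i : 𝒮 i) := by
  induction s using DirectSum.Decomposition.inductionOn 𝒮 with
  | zero => simp
  | @homogeneous j s =>
    rw [toPoly_of_mem 𝒮 s.2, coeff_monomial]
    split_ifs with h
    · subst h; rw [DirectSum.decompose_of_mem_same _ s.2]
    · rw [DirectSum.decompose_of_mem_ne _ s.2 h]
  | add s s' h h' => rw [map_add, coeff_add, h, h', DirectSum.decompose_add]; rfl

end

theorem main {R S : Type u} [CommRing R] [CommRing S] [Algebra R S] (ℛ : ℕ → AddSubgroup R) [GradedRing ℛ] (𝒮 : ℕ → AddSubgroup S) [GradedRing 𝒮]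
    (hmap : ∀ i : ℕ, ∀ r ∈ ℛ i, algebraMap R S r ∈ 𝒮 i) (s : S) (hs : IsIntegral R s) (i : ℕ) :
    IsIntegral R ((DirectSum.decompose 𝒮 s i : 𝒮 i) : S) := by
  have hcomm : (algebraMap R[X] S[X]).comp (toPoly ℛ) = (toPoly 𝒮).comp (algebraMap R S) := by
    refine RingHom.ext fun r => ?_
    simp only [RingHom.coe_comp, Function.comp_apply]
    induction r using DirectSum.Decomposition.inductionOn ℛ with
    | zero => simp
    | @homogeneous j r =>
      rw [toPoly_of_mem ℛ r.2, toPoly_of_mem 𝒮 (hmap j _ r.2)]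
      simp [Polynomial.algebraMap_def]
    | add r r' h h' => simp only [map_add, h, h']
  have h1 := IsIntegral.map_of_comp_eq (toPoly ℛ) (toPoly 𝒮) hcomm hs
  have h2 := h1.coeff i
  rwa [toPoly_coeff] at h2




/-- Let R → S be a homomorphism of ℕ-graded rings, i.e. the structure map carries each graded piece R_i
into S_i. If an element s of S is integral over R, then each homogeneous component of s is integral
over R; so the integral closure of R in S is a graded subring of S. -/
theorem result {R S : Type u} [CommRing R] [CommRing S] [Algebra R S] (ℛ : ℕ → AddSubgroup R) [GradedRing ℛ] (𝒮 : ℕ → AddSubgroup S) [GradedRing 𝒮]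
    (hmap : ∀ i : ℕ, ∀ r ∈ ℛ i, algebraMap R S r ∈ 𝒮 i) (s : S) (hs : IsIntegral R s) (i : ℕ) :
    IsIntegral R ((DirectSum.decompose 𝒮 s i : 𝒮 i) : S) := by
  exact main ℛ 𝒮 hmap s hs i

end Groth.Agent.S9615
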