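import Groth.Statements.S9616
import Mathlib
import Groth.Agent.S15708

set_option autoImplicit false
universe u
open CAlg

namespace Groth.Agent.S9616



/-- Let S be an ℕ-graded ring, p_1, …, p_r homogeneous prime ideals of S and I ⊆ S₊ a homogeneous ideal
not contained in any p_i. Then there is a homogeneous element x ∈ I of positive degree with x ∉ p_i
for all i. -/
theorem result {R S : Type u} [CommRing R] [CommRing S] [Algebra R S] (𝒜 : ℕ → Submodule R S) [GradedAlgebra 𝒜]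
    {r : ℕ} (p : Fin r → HomogeneousIdeal 𝒜) (hp : ∀ i, (p i).toIdeal.IsPrime) (I : HomogeneousIdeal 𝒜) (hI : I ≤ HomogeneousIdeal.irrelevant 𝒜) (h : ∀ i, ¬ I ≤ p i) :
    ∃ x : S, ∃ d : ℕ, 0 < d ∧ x ∈ 𝒜 d ∧ x ∈ I ∧ ∀ i, x ∉ p i := by
  classical
  have h1 : ∀ q ∈ (Finset.univ.image (fun i => (p i).toIdeal) : Finset (Ideal S)),
      q.IsPrime ∧ q.IsHomogeneous 𝒜 := by
    intro q hq
    rw [Finset.mem_image] at hq
    obtain ⟨i, _, rfl⟩ := hq
    exact ⟨hp i, (p i).isHomogeneous⟩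
  have h2 : ∀ q ∈ (Finset.univ.image (fun i => (p i).toIdeal) : Finset (Ideal S)),
      ¬ I.toIdeal ≤ q := by
    intro q hq
    rw [Finset.mem_image] at hq
    obtain ⟨i, _, rfl⟩ := hq
    intro hle
    exact h i (toIdeal_le_toIdeal_iff.mp hle)
  obtain ⟨z, n, hn, hz, hzI, hav⟩ := Groth.Agent.S15708.HPA 𝒜 _ h1 I.toIdeal I.isHomogeneous
    (toIdeal_le_toIdeal_iff.mpr hI) h2
  refine ⟨z, n, hn, hz, hzI, fun i hzi => ?_⟩
  exact hav _ (Finset.mem_image_of_mem _ (Finset.mem_univ i)) hzi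


end Groth.Agent.S9616
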