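import Groth.Statements.S9617
import Mathlib
import Groth.Agent.Lib.Helper6.GrMod
import Groth.Agent.Lib.Helper6.SNat2

set_option autoImplicit false
universe u
open CAlg

namespace Groth.Agent.S9617


open DirectSum Groth.Agent.Lib.Helper6.GrMod

section
variable {A S : Type u} [CommRing A] [CommRing S] [Algebra A S] (𝒜 : ℕ → Submodule A S)
  [GradedAlgebra 𝒜]
  {M : Type u} [AddCommGroup M] [Module A M] [Module S M] [IsScalarTower A S M]
  (ℳ : ℕ → Submodule A M) [DirectSum.Decomposition ℳ] [SetLike.GradedSMul 𝒜 ℳ]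

lemma FGsup (n : ℕ) (T : Finset M) (e : M → ℕ) (hT : ∀ t ∈ T, t ∈ ℳ (e t))
    (hfg : ∀ t ∈ T, e t ≤ n → (𝒜 (n - e t)).FG)
    (hgen : ∀ m ∈ ℳ n, ∃ c : M → S, m = ∑ t ∈ T, c t • t) : (ℳ n).FG := by
  classical
  let φ : M → (S →ₗ[A] M) := fun t => (LinearMap.toSpanSingleton S M t).restrictScalars A
  have hφ : ∀ t s, φ t s = s • t := fun t s => rfl
  have heq : ℳ n = (T.filter (fun t => e t ≤ n)).sup (fun t => (𝒜 (n - e t)).map (φ t)) := by
    apply le_antisymm
    · intro m hm
      obtain ⟨c, hc⟩ := hgen m hm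
      have e1 : ((decompose ℳ m n : ℳ n) : M) = m := decompose_of_mem_same ℳ hm
      rw [← e1, hc, coe_decompose_sum]
      refine Submodule.sum_mem _ (fun t ht => ?_)
      rw [decompose_smul_right 𝒜 ℳ (c t) (hT t ht) n]
      split_ifs with htn
      · have hmem : t ∈ T.filter (fun t => e t ≤ n) := Finset.mem_filter.mpr ⟨ht, htn⟩
        refine (Finset.le_sup (f := fun t => (𝒜 (n - e t)).map (φ t)) hmem) ?_
        exact ⟨_, SetLike.coe_mem _, rfl⟩
      · exact Submodule.zero_mem _
    · refine Finset.sup_le (fun t ht => ?_)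
      rw [Finset.mem_filter] at ht
      rintro _ ⟨s, hs, rfl⟩
      rw [hφ]
      have h1 : s • t ∈ ℳ ((n - e t) +ᵥ e t) := SetLike.GradedSMul.smul_mem hs (hT t ht.1)
      rw [vadd_eq_add, Nat.sub_add_cancel ht.2] at h1
      exact h1
  rw [heq]
  refine Submodule.fg_finset_sup _ _ (fun t ht => ?_)
  rw [Finset.mem_filter] at ht
  exact (hfg t ht.1 ht.2).map _

end


/-- Let S be an ℕ-graded ring, presented as a graded algebra over a ring A mapping onto S₀, such that S
is of finite type over A, i.e. over S₀. If M is a finitely generated graded S-module, graded in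
nonnegative degrees (the source allows all integer degrees), then each graded piece M_n is a finite
module over A, i.e. over S₀. -/
theorem result {A S : Type u} [CommRing A] [CommRing S] [Algebra A S] (𝒜 : ℕ → Submodule A S) [GradedAlgebra 𝒜]
    (h0 : ∀ s ∈ 𝒜 0, s ∈ Set.range (algebraMap A S)) [Algebra.FiniteType A S]
    (M : Type u) [AddCommGroup M] [Module A M] [Module S M] [IsScalarTower A S M] [Module.Finite S M] (ℳ : ℕ → Submodule A M) [DirectSum.Decomposition ℳ] [SetLike.GradedSMul 𝒜 ℳ] (n : ℕ) :
    Module.Finite A (ℳ n) := by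
  classical
  have hft : Algebra.FiniteType (𝒜 0) S := by
    obtain ⟨t, ht⟩ := (Algebra.FiniteType.out : (⊤ : Subalgebra A S).FG)
    have key : ∀ x ∈ Algebra.adjoin A (t : Set S), x ∈ Algebra.adjoin (𝒜 0) (t : Set S) := by
      intro x hx
      induction hx using Algebra.adjoin_induction with
      | mem y hy => exact Algebra.subset_adjoin hy
      | algebraMap a =>
        exact Subalgebra.algebraMap_mem _
          (⟨algebraMap A S a, SetLike.algebraMap_mem_graded 𝒜 a⟩ : 𝒜 0)
      | add a b _ _ ha hb => exact Subalgebra.add_mem _ ha hb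
      | mul a b _ _ ha hb => exact Subalgebra.mul_mem _ ha hb
    refine ⟨⟨t, eq_top_iff.mpr ?_⟩⟩
    intro x _
    exact key x (by rw [ht]; trivial)
  obtain ⟨H, hH, hHhom⟩ := GradedAlgebra.exists_finset_adjoin_eq_top_and_homogeneous_ne_zero 𝒜
  choose! deg hdeg using hHhom
  have hspan := Groth.Agent.Lib.Helper6.SNat.mem_span_of_adjoin_eq_top 𝒜 H deg
    (fun f hf => (hdeg f hf).2) hH
  have hSfg : ∀ k, (𝒜 k).FG := by
    intro k
    induction k using Nat.strong_induction_on with
    | _ k ih =>
      rcases Nat.eq_zero_or_pos k with rfl | hk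
      · have e0 : 𝒜 0 = Submodule.span A {(1 : S)} := by
          apply le_antisymm
          · intro s hs
            obtain ⟨a, rfl⟩ := h0 s hs
            rw [Algebra.algebraMap_eq_smul_one]
            exact Submodule.smul_mem _ _ (Submodule.subset_span rfl)
          · rw [Submodule.span_le]
            rintro _ rfl
            exact SetLike.GradedOne.one_mem
        rw [e0]
        exact Submodule.fg_span_singleton _
      · refine FGsup 𝒜 𝒜 k H deg (fun t ht => (hdeg t ht).2) (fun t ht _ => ih _ ?_) ?_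
        · have h1 := (hdeg t ht).1
          omega
        · intro m hm
          have h1 := hspan k hk m hm
          obtain ⟨c, -, hc⟩ := Submodule.mem_span_finset.mp h1
          exact ⟨c, hc.symm⟩
  obtain ⟨G, hG⟩ := (Module.Finite.fg_top : (⊤ : Submodule S M).FG)
  set T : Finset M := G.biUnion (fun g => (decompose ℳ g).support.image
    (fun j => ((decompose ℳ g j : ℳ j) : M))) with hT
  have hThom : ∀ t ∈ T, ∃ j, t ∈ ℳ j := by
    intro t ht
    rw [hT, Finset.mem_biUnion] at ht
    obtain ⟨g, _, ht⟩ := ht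
    rw [Finset.mem_image] at ht
    obtain ⟨j, _, rfl⟩ := ht
    exact ⟨j, SetLike.coe_mem _⟩
  choose! e he using hThom
  have hTspan : Submodule.span S (T : Set M) = ⊤ := by
    rw [eq_top_iff, ← hG, Submodule.span_le]
    intro g hg
    rw [SetLike.mem_coe, ← sum_support_decompose ℳ g]
    refine Submodule.sum_mem _ (fun j hj => Submodule.subset_span ?_)
    rw [hT, Finset.mem_coe, Finset.mem_biUnion]
    exact ⟨g, hg, Finset.mem_image_of_mem _ hj⟩
  rw [Module.Finite.iff_fg]
  refine FGsup 𝒜 ℳ n T e he (fun t _ _ => hSfg _) ?_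
  intro m _
  have h1 : m ∈ Submodule.span S (T : Set M) := by
    rw [hTspan]
    trivial
  obtain ⟨c, -, hc⟩ := Submodule.mem_span_finset.mp h1
  exact ⟨c, hc.symm⟩


end Groth.Agent.S9617
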