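import Groth.Statements.S9620
import Mathlib

set_option autoImplicit false
universe u
open CAlg

namespace Groth.Agent.S9620


theorem exists_idem {R : Type u} [CommRing R] (P : Ideal R) (x : R)
    (hx : x ∈ Ideal.span {e : R | IsIdempotentElem e ∧ e ∈ P}) :
    ∃ e : R, IsIdempotentElem e ∧ e ∈ P ∧ x * (1 - e) = 0 := by
  refine Submodule.span_induction
    (p := fun x _ => ∃ e : R, IsIdempotentElem e ∧ e ∈ P ∧ x * (1 - e) = 0) ?_ ?_ ?_ ?_ hx
  · rintro x ⟨hx, hxP⟩
    refine ⟨x, hx, hxP, ?_⟩
    rw [mul_sub, mul_one, hx.eq, sub_self]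
  · exact ⟨0, IsIdempotentElem.zero, P.zero_mem, by rw [zero_mul]⟩
  · rintro x y _ _ ⟨a, ha, haP, hxa⟩ ⟨b, hb, hbP, hyb⟩
    refine ⟨1 - (1 - a) * (1 - b), (ha.one_sub.mul hb.one_sub).one_sub, ?_, ?_⟩
    · have : 1 - (1 - a) * (1 - b) = a + b - a * b := by ring
      rw [this]
      exact P.sub_mem (P.add_mem haP hbP) (P.mul_mem_right _ haP)
    · have : (x + y) * (1 - (1 - (1 - a) * (1 - b)))
          = x * (1 - a) * (1 - b) + y * (1 - b) * (1 - a) := by ring
      rw [this, hxa, hyb, zero_mul, zero_mul, add_zero]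
  · rintro r x _ ⟨a, ha, haP, hxa⟩
    refine ⟨a, ha, haP, ?_⟩
    rw [smul_eq_mul, mul_assoc, hxa, mul_zero]


/-- For a ring R and a point p of Spec R, the connected component of p is the zero locus of the ideal I
generated by the idempotents of R contained in p, and every idempotent e of R satisfies e ∈ I or 1 -
e ∈ I (e maps to 0 or 1 in R/I). -/
theorem result {R : Type u} [CommRing R] (p : PrimeSpectrum R) :
    connectedComponent p = PrimeSpectrum.zeroLocus {e : R | IsIdempotentElem e ∧ e ∈ p.asIdeal} ∧
      ∀ e : R, IsIdempotentElem e → (e ∈ Ideal.span {e : R | IsIdempotentElem e ∧ e ∈ p.asIdeal} ∨ 1 - e ∈ Ideal.span {e : R | IsIdempotentElem e ∧ e ∈ p.asIdeal}) := by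
  set E : Set R := {e : R | IsIdempotentElem e ∧ e ∈ p.asIdeal} with hE
  have hprime : p.asIdeal.IsPrime := p.2
  have hdich : ∀ e : R, IsIdempotentElem e → e ∈ E ∨ 1 - e ∈ E := by
    intro e he
    have h0 : e * (1 - e) ∈ p.asIdeal := by
      rw [mul_sub, mul_one, he.eq, sub_self]; exact p.asIdeal.zero_mem
    rcases hprime.mem_or_mem h0 with h | h
    · exact Or.inl ⟨he, h⟩
    · exact Or.inr ⟨he.one_sub, h⟩
  refine ⟨?_, fun e he => (hdich e he).imp (fun h => Ideal.subset_span h)
    (fun h => Ideal.subset_span h)⟩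
  apply Set.Subset.antisymm
  · intro x hx
    rw [PrimeSpectrum.mem_zeroLocus]
    intro e he
    have hclopen : IsClopen (PrimeSpectrum.zeroLocus ({e} : Set R)) :=
      PrimeSpectrum.isClopen_iff_zeroLocus.mpr ⟨e, he.1, rfl⟩
    have hp : p ∈ PrimeSpectrum.zeroLocus ({e} : Set R) := by
      rw [PrimeSpectrum.mem_zeroLocus, Set.singleton_subset_iff]; exact he.2
    have := hclopen.connectedComponent_subset hp hx
    rw [PrimeSpectrum.mem_zeroLocus, Set.singleton_subset_iff] at this
    exact this
  · set I : Ideal R := Ideal.span E with hI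
    have hIp : I ≤ p.asIdeal := Ideal.span_le.mpr fun e he => he.2
    have : PreconnectedSpace (PrimeSpectrum (R ⧸ I)) := by
      rw [preconnectedSpace_iff_clopen]
      intro s hs
      obtain ⟨ē, hē, rfl⟩ := PrimeSpectrum.isClopen_iff_zeroLocus.mp hs
      obtain ⟨e, rfl⟩ := Ideal.Quotient.mk_surjective ē
      have hdiff : e * e - e ∈ I := by
        rw [← Ideal.Quotient.eq, map_mul]
        exact hē.eq
      obtain ⟨e', he', he'p, hz⟩ := exists_idem p.asIdeal _ hdiff
      have hf : IsIdempotentElem (e * (1 - e')) := by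
        show e * (1 - e') * (e * (1 - e')) = e * (1 - e')
        have h1 : (1 - e') * (1 - e') = 1 - e' := he'.one_sub.eq
        calc e * (1 - e') * (e * (1 - e')) = e * e * ((1 - e') * (1 - e')) := by ring
          _ = e * e * (1 - e') := by rw [h1]
          _ = (e * e - e) * (1 - e') + e * (1 - e') := by ring
          _ = e * (1 - e') := by rw [hz, zero_add]
      have hmk : Ideal.Quotient.mk I (e * (1 - e')) = Ideal.Quotient.mk I e := by
        have h0 : Ideal.Quotient.mk I e' = 0 :=
          Ideal.Quotient.eq_zero_iff_mem.mpr (Ideal.subset_span ⟨he', he'p⟩)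
        rw [map_mul, map_sub, map_one, h0, sub_zero, mul_one]
      rcases hdich _ hf with h | h
      · right
        have h0 : Ideal.Quotient.mk I e = 0 := by
          rw [← hmk]; exact Ideal.Quotient.eq_zero_iff_mem.mpr (Ideal.subset_span h)
        rw [h0]
        exact PrimeSpectrum.zeroLocus_singleton_zero
      · left
        have h1 : Ideal.Quotient.mk I e = 1 := by
          have := Ideal.Quotient.eq_zero_iff_mem.mpr
            (Ideal.subset_span h : 1 - e * (1 - e') ∈ I)
          rw [map_sub, map_one, hmk, sub_eq_zero] at this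
          exact this.symm
        rw [h1]
        exact PrimeSpectrum.zeroLocus_singleton_one
    have hrange : Set.range (PrimeSpectrum.comap (Ideal.Quotient.mk I)) =
        PrimeSpectrum.zeroLocus E := by
      rw [_root_.range_comap_of_surjective _ _ Ideal.Quotient.mk_surjective,
        Ideal.mk_ker, hI, PrimeSpectrum.zeroLocus_span]
    rw [← hrange]
    refine IsPreconnected.subset_connectedComponent
      (isPreconnected_range (PrimeSpectrum.continuous_comap _)) ?_
    rw [hrange, PrimeSpectrum.mem_zeroLocus]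
    exact fun e he => he.2


end Groth.Agent.S9620
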