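import Groth.Statements.S9618
import Mathlib
import Groth.Agent.S9620

set_option autoImplicit false
universe u
open CAlg

namespace Groth.Agent.S9618



/-- For a ring R and a subset T of Spec R the following are equivalent: (1) T is closed and contains the
connected component of each of its points; (2) T can be written as an intersection of subsets of
Spec R that are both open and closed; (3) T is the common zero locus of some set of idempotent
elements of R (equivalently, of the ideal they generate). -/
theorem result {R : Type u} [CommRing R] (T : Set (PrimeSpectrum R)) :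
    [IsClosed T ∧ ∀ x ∈ T, connectedComponent x ⊆ T,
      ∃ U : Set (Set (PrimeSpectrum R)), (∀ u ∈ U, IsClopen u) ∧ T = ⋂₀ U,
      ∃ E : Set R, (∀ e ∈ E, IsIdempotentElem e) ∧ T = PrimeSpectrum.zeroLocus E].TFAE := by
  tfae_have 3 → 2 := by
    rintro ⟨E, hE, rfl⟩
    refine ⟨(fun e => PrimeSpectrum.zeroLocus ({e} : Set R)) '' E, ?_, ?_⟩
    · rintro u ⟨e, he, rfl⟩
      exact PrimeSpectrum.isClopen_iff_zeroLocus.mpr ⟨e, hE e he, rfl⟩
    · ext x
      constructor
      · intro hx
        rw [Set.mem_sInter]
        rintro u ⟨e, he, rfl⟩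
        show x ∈ PrimeSpectrum.zeroLocus ({e} : Set R)
        rw [PrimeSpectrum.mem_zeroLocus, Set.singleton_subset_iff]
        exact hx he
      · intro hx
        rw [Set.mem_sInter] at hx
        rw [PrimeSpectrum.mem_zeroLocus]
        intro e he
        have : x ∈ PrimeSpectrum.zeroLocus ({e} : Set R) := hx _ ⟨e, he, rfl⟩
        rw [PrimeSpectrum.mem_zeroLocus, Set.singleton_subset_iff] at this
        exact this
  tfae_have 2 → 1 := by
    rintro ⟨U, hU, rfl⟩
    refine ⟨isClosed_sInter fun u hu => (hU u hu).1, ?_⟩
    intro x hx y hy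
    rw [Set.mem_sInter] at hx ⊢
    intro u hu
    exact (hU u hu).connectedComponent_subset (hx u hu) hy
  tfae_have 1 → 3 := by
    rintro ⟨hcl, hsat⟩
    refine ⟨{e : R | IsIdempotentElem e ∧ T ⊆ PrimeSpectrum.zeroLocus {e}},
      fun e he => he.1, ?_⟩
    apply Set.Subset.antisymm
    · intro y hy
      rw [PrimeSpectrum.mem_zeroLocus]
      intro e he
      have := he.2 hy
      rw [PrimeSpectrum.mem_zeroLocus, Set.singleton_subset_iff] at this
      exact this
    · intro x hx
      by_contra hxT
      obtain ⟨J, rfl⟩ := (PrimeSpectrum.isClosed_iff_zeroLocus_ideal T).mp hcl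
      have hdisj : connectedComponent x ∩ PrimeSpectrum.zeroLocus (J : Set R) = ∅ := by
        rw [Set.eq_empty_iff_forall_notMem]
        rintro y ⟨hy1, hy2⟩
        have := hsat y hy2
        rw [← connectedComponent_eq hy1] at this
        exact hxT (this mem_connectedComponent)
      rw [(Groth.Agent.S9620.result x).1,
        ← PrimeSpectrum.zeroLocus_span {e : R | IsIdempotentElem e ∧ e ∈ x.asIdeal},
        ← PrimeSpectrum.zeroLocus_sup, PrimeSpectrum.zeroLocus_empty_iff_eq_top] at hdisj
      have h1 : (1 : R) ∈ Ideal.span {e : R | IsIdempotentElem e ∧ e ∈ x.asIdeal} ⊔ J := by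
        rw [hdisj]; trivial
      obtain ⟨a, ha, b, hb, hab⟩ := Submodule.mem_sup.mp h1
      obtain ⟨e', he', he'x, hz⟩ := Groth.Agent.S9620.exists_idem x.asIdeal a ha
      have hmemE : (1 - e') ∈ {e : R | IsIdempotentElem e ∧
          PrimeSpectrum.zeroLocus (J : Set R) ⊆ PrimeSpectrum.zeroLocus {e}} := by
        refine ⟨he'.one_sub, fun y hy => ?_⟩
        rw [PrimeSpectrum.mem_zeroLocus, Set.singleton_subset_iff]
        have hby : b ∈ y.asIdeal := hy hb
        have : 1 - e' = b * (1 - e') := by
          calc 1 - e' = (a + b) * (1 - e') := by rw [hab, one_mul]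
            _ = a * (1 - e') + b * (1 - e') := by ring
            _ = b * (1 - e') := by rw [hz, zero_add]
        rw [SetLike.mem_coe, this]
        exact y.asIdeal.mul_mem_right _ hby
      have h2 : 1 - e' ∈ x.asIdeal := hx hmemE
      have h1x : (1 : R) ∈ x.asIdeal := by
        have := x.asIdeal.add_mem h2 he'x
        rwa [sub_add_cancel] at this
      exact x.2.ne_top ((Ideal.eq_top_iff_one _).mpr h1x)
  tfae_finish


end Groth.Agent.S9618
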