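import Groth.Statements.S9619
import Mathlib
-- import your own Groth.Agent.* helpers here

set_option autoImplicit false
universe u
open CAlg

namespace Groth.Agent.S9619

/-- For a ring R and two sets E, E' of idempotent elements of R with the same zero locus in Spec R, the
ideals generated by E and by E' are equal. -/
theorem result {R : Type u} [CommRing R] (E E' : Set R) (hE : ∀ e ∈ E, IsIdempotentElem e) (hE' : ∀ e ∈ E', IsIdempotentElem e) (h : PrimeSpectrum.zeroLocus E = PrimeSpectrum.zeroLocus E') :
    Ideal.span E = Ideal.span E' := by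
  have key : ∀ (E E' : Set R), (∀ e ∈ E', IsIdempotentElem e) →
      PrimeSpectrum.zeroLocus E = PrimeSpectrum.zeroLocus E' → Ideal.span E' ≤ Ideal.span E := by
    intro E E' hE' h
    rw [Ideal.span_le]
    intro e he
    have h1 : e ∈ PrimeSpectrum.vanishingIdeal (PrimeSpectrum.zeroLocus E') :=
      PrimeSpectrum.subset_vanishingIdeal_zeroLocus E' he
    rw [← h, ← PrimeSpectrum.zeroLocus_span, PrimeSpectrum.vanishingIdeal_zeroLocus_eq_radical] at h1
    obtain ⟨n, hn⟩ := h1
    rcases n with _ | n
    · rw [pow_zero] at hn
      rw [(Ideal.eq_top_iff_one _).mpr hn]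
      trivial
    · rw [(hE' e he).pow_succ_eq] at hn
      exact hn
  exact le_antisymm (key E' E hE h.symm) (key E E' hE' h)

end Groth.Agent.S9619
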