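import Groth.Statements.S9621
import Mathlib.RingTheory.Spectrum.Prime.Topology
import Mathlib.RingTheory.Ideal.MinimalPrime.Basic

set_option autoImplicit false
universe u
open CAlg

namespace Groth.Agent.S9621


/-- An element of a minimal prime is nilpotent in the localisation at that prime. -/
theorem exists_mul_pow_eq_zero {R : Type u} [CommRing R] {p : Ideal R}
    (hp : p ∈ minimalPrimes R) {x : R} (hx : x ∈ p) :
    ∃ f : R, f ∉ p ∧ ∃ n : ℕ, f * x ^ n = 0 := by
  have : p.IsPrime := hp.1.1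
  by_contra hcon
  simp only [not_exists, not_and] at hcon
  have hdisj : Disjoint ((⊥ : Ideal R) : Set R) (p.primeCompl ⊔ Submonoid.powers x : Submonoid R) := by
    rw [Set.disjoint_left]
    intro a ha haS
    have ha0 : a = 0 := ha
    rw [SetLike.mem_coe, Submonoid.mem_sup] at haS
    obtain ⟨y, hy, z, ⟨n, rfl⟩, hyz⟩ := haS
    exact hcon y hy n (by rw [hyz, ha0])
  obtain ⟨q, hq, -, hqS⟩ := Ideal.exists_le_prime_disjoint ⊥ _ hdisj
  have hqp : q ≤ p := by
    intro a ha
    by_contra hap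
    exact Set.disjoint_left.1 hqS ha
      ((le_sup_left : p.primeCompl ≤ p.primeCompl ⊔ Submonoid.powers x) hap)
  have hpq : p ≤ q := hp.2 ⟨hq, bot_le⟩ hqp
  exact Set.disjoint_left.1 hqS (hpq hx)
    ((le_sup_right : Submonoid.powers x ≤ p.primeCompl ⊔ Submonoid.powers x)
      (Submonoid.mem_powers x))

/-- Let R be a ring, p a minimal prime of R and W a quasi-compact open subset of Spec R not containing
p. Then there is an f ∈ R, f ∉ p, whose basic open D(f) is disjoint from W. -/
theorem result {R : Type u} [CommRing R] (p : PrimeSpectrum R) (hp : p.asIdeal ∈ minimalPrimes R) (W : Set (PrimeSpectrum R)) (hWo : IsOpen W) (hWc : IsCompact W) (hpW : p ∉ W) :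
    ∃ f : R, f ∉ p.asIdeal ∧ Disjoint (PrimeSpectrum.basicOpen f : Set (PrimeSpectrum R)) W := by
  classical
  obtain ⟨t, ht⟩ := PrimeSpectrum.isCompact_isOpen_iff.1 ⟨hWc, hWo⟩
  have htp : ∀ g ∈ t, g ∈ p.asIdeal := by
    intro g hg
    have : p ∈ PrimeSpectrum.zeroLocus (t : Set R) := by
      by_contra hcon
      exact hpW (ht ▸ hcon)
    exact this hg
  choose! F hF n hn using fun g (hg : g ∈ t) => exists_mul_pow_eq_zero hp (htp g hg)
  refine ⟨∏ g ∈ t, F g, ?_, ?_⟩
  · intro hmem
    obtain ⟨g, hg, hFg⟩ := Ideal.IsPrime.prod_mem_iff.1 hmem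
    exact hF g hg hFg
  · rw [Set.disjoint_left]
    intro q hqf hqW
    rw [← ht] at hqW
    have hq1 : ¬ (t : Set R) ⊆ q.asIdeal := hqW
    rw [Set.not_subset] at hq1
    obtain ⟨g, hg, hgq⟩ := hq1
    have hqf' : (∏ g ∈ t, F g) ∉ q.asIdeal := hqf
    have hFg : F g ∉ q.asIdeal := by
      intro h
      exact hqf' (Ideal.mem_of_dvd _ (Finset.dvd_prod_of_mem F hg) h)
    have h0 : F g * g ^ n g ∈ q.asIdeal := by
      rw [hn g hg]
      exact Ideal.zero_mem _
    rcases q.isPrime.mem_or_mem h0 with h1 | h1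
    · exact hFg h1
    · exact hgq (q.isPrime.mem_of_pow_mem _ h1)

end Groth.Agent.S9621
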