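import Groth.Statements.S9622
import Mathlib.RingTheory.Finiteness.NilpotentKer
import Mathlib.RingTheory.Artinian.Ring
import Mathlib.RingTheory.FiniteType
import Mathlib.RingTheory.Jacobson.Ideal
import Mathlib.RingTheory.HopkinsLevitzki

set_option autoImplicit false
universe u
open CAlg

namespace Groth.Agent.S9622

/-- Let R → S be a ring map whose target S is a local Artinian ring, and write m for the maximal ideal
of S. Then S is a finite R-module exactly when S/m is, and S is an R-algebra of finite type exactly
when S/m is. -/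
theorem result {R S : Type u} [CommRing R] [CommRing S] [Algebra R S] [IsArtinianRing S] [IsLocalRing S] :
    (Module.Finite R S ↔ Module.Finite R (S ⧸ IsLocalRing.maximalIdeal S)) ∧
      (Algebra.FiniteType R S ↔ Algebra.FiniteType R (S ⧸ IsLocalRing.maximalIdeal S)) := by
  set m := IsLocalRing.maximalIdeal S with hm
  have hnil : m ≤ nilradical S := by
    intro x hx
    have h1 : IsNilpotent (Ideal.jacobson (⊥ : Ideal S)) := IsArtinianRing.isNilpotent_jacobson_bot
    rw [IsLocalRing.jacobson_eq_maximalIdeal ⊥ bot_ne_top] at h1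
    obtain ⟨n, hn⟩ := h1
    rw [mem_nilradical]
    refine ⟨n, ?_⟩
    have h2 : x ^ n ∈ m ^ n := Ideal.pow_mem_pow hx n
    rw [hn, Ideal.zero_eq_bot, Ideal.mem_bot] at h2
    exact h2
  have key : ∀ (R' : Type u) [CommRing R'] [Algebra R' S],
      Module.Finite R' (S ⧸ m) → Module.Finite R' S := by
    intro R' _ _ h
    have hker : RingHom.ker (Ideal.Quotient.mkₐ R' m) = m := by
      ext x
      rw [RingHom.mem_ker]
      exact Ideal.Quotient.eq_zero_iff_mem
    refine Module.finite_of_surjective_of_ker_le_nilradical (Ideal.Quotient.mkₐ R' m)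
      (Ideal.Quotient.mkₐ_surjective R' m) ?_ ?_
    · rw [hker]; exact hnil
    · rw [hker]; exact IsNoetherian.noetherian _
  refine ⟨⟨fun h => ?_, fun h => key R h⟩, ⟨fun h => ?_, fun h => ?_⟩⟩
  · exact Module.Finite.of_surjective (Ideal.Quotient.mkₐ R m).toLinearMap
      (Ideal.Quotient.mkₐ_surjective R m)
  · exact Algebra.FiniteType.of_surjective (Ideal.Quotient.mkₐ R m)
      (Ideal.Quotient.mkₐ_surjective R m)
  · obtain ⟨n, f, hf⟩ := Algebra.FiniteType.iff_quotient_mvPolynomial''.mp h
    choose s hs using fun i : Fin n => Ideal.Quotient.mk_surjective (f (MvPolynomial.X i))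
    let g : MvPolynomial (Fin n) R →ₐ[R] S := MvPolynomial.aeval s
    have hgf : (Ideal.Quotient.mkₐ R m).comp g = f := by
      apply MvPolynomial.algHom_ext
      intro i
      simp [g, hs]
    letI : Algebra (MvPolynomial (Fin n) R) S := g.toRingHom.toAlgebra
    haveI : IsScalarTower R (MvPolynomial (Fin n) R) S :=
      IsScalarTower.of_algebraMap_eq (fun r => (g.commutes r).symm)
    have hfin : Module.Finite (MvPolynomial (Fin n) R) (S ⧸ m) := by
      apply Module.Finite.of_surjective (Algebra.linearMap (MvPolynomial (Fin n) R) (S ⧸ m))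
      intro y
      obtain ⟨p, hp⟩ := hf y
      refine ⟨p, ?_⟩
      rw [← hp, ← hgf]
      rfl
    haveI := key (MvPolynomial (Fin n) R) hfin
    exact Algebra.FiniteType.trans
      (inferInstance : Algebra.FiniteType R (MvPolynomial (Fin n) R)) inferInstance

end Groth.Agent.S9622
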