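import Groth.Statements.S9624
import Mathlib
import Groth.Agent.Lib.Helper3.TensorFibre

set_option autoImplicit false
universe u
open CAlg

namespace Groth.Agent.S9624

open TensorProduct in
/-- Let k be a field, S a geometrically connected k-algebra (the spectrum of k' ⊗_k S is connected for
every field extension k'/k) and R any k-algebra. Then the map R → R ⊗_k S induces a bijection on
idempotents: each idempotent of R ⊗_k S comes from exactly one idempotent of R. Here the test fields
range over field extensions in the universe of k; this is equivalent to the unrestricted notion,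
since an algebraic closure of k suffices as a test. -/
theorem result {k R S : Type u} [Field k] [CommRing R] [CommRing S] [Algebra k R] [Algebra k S]
    (hS : ∀ (k' : Type u) [Field k'] [Algebra k k'], ConnectedSpace (PrimeSpectrum (k' ⊗[k] S)))
    (x : R ⊗[k] S) (hx : IsIdempotentElem x) :
    ∃! e : R, IsIdempotentElem e ∧ algebraMap R (R ⊗[k] S) e = x := by
  classical
  haveI := Groth.Agent.Lib.helper3.TensorFibre.geomConn_proj k R S hS
  let f := Groth.Agent.Lib.helper3.TensorFibre.proj k R S
  have hopen : IsOpenMap f := f.isOpenMap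
  have hsurj : Function.Surjective f := f.surjective
  have hfib : ∀ y, _root_.IsConnected (f ⁻¹' {y}) := f.isConnected_preimage_singleton
  have hpre : ∀ a : R, f ⁻¹' (PrimeSpectrum.basicOpen a : Set (PrimeSpectrum R)) =
      (PrimeSpectrum.basicOpen (algebraMap R (R ⊗[k] S) a) : Set (PrimeSpectrum (R ⊗[k] S))) :=
    fun a => Set.ext fun p => Iff.rfl
  have hinjpre : Function.Injective (Set.preimage f) := Set.preimage_injective.mpr hsurj
  set U : Set (PrimeSpectrum (R ⊗[k] S)) := SetLike.coe (PrimeSpectrum.basicOpen x) with hUdef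
  have hU : IsClopen U :=
    PrimeSpectrum.isClopen_basicOpen_of_mul_add x (1 - x)
      (by rw [mul_sub, mul_one, hx.eq, sub_self]) (by ring)
  have hsat : f ⁻¹' (f '' U) = U := by
    apply Set.Subset.antisymm
    · rintro z ⟨u, hu, huz⟩
      have h1 : f ⁻¹' {f z} ⊆ U :=
        (hfib (f z)).isPreconnected.subset_isClopen hU ⟨u, huz, hu⟩
      exact h1 rfl
    · exact Set.subset_preimage_image f U
  have hV : IsClopen (f '' U) := by
    refine ⟨?_, hopen U hU.isOpen⟩
    have hc : (f '' U)ᶜ = f '' Uᶜ := by
      apply Set.Subset.antisymm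
      · intro y hy
        obtain ⟨z, rfl⟩ := hsurj y
        exact ⟨z, fun hz => hy ⟨z, hz, rfl⟩, rfl⟩
      · rintro _ ⟨z, hz, rfl⟩ hmem
        have : z ∈ f ⁻¹' (f '' U) := hmem
        rw [hsat] at this
        exact hz this
    rw [← isOpen_compl_iff, hc]
    exact hopen _ hU.compl.isOpen
  obtain ⟨e, he, heq⟩ := PrimeSpectrum.exists_idempotent_basicOpen_eq_of_isClopen hV
  have hkey : ∀ e' : R, IsIdempotentElem e' →
      (algebraMap R (R ⊗[k] S) e' = x ↔
        f ⁻¹' (PrimeSpectrum.basicOpen e' : Set (PrimeSpectrum R)) = U) := by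
    intro e' he'
    rw [hpre]
    constructor
    · intro h
      rw [h]
    · intro h
      exact PrimeSpectrum.basicOpen_injOn_isIdempotentElem (he'.map _) hx (SetLike.ext' h)
  refine ⟨e, ⟨he, (hkey e he).mpr (by rw [← heq, hsat])⟩, ?_⟩
  rintro e' ⟨he', hx'⟩
  have h1 := (hkey e' he').mp hx'
  have h2 : f ⁻¹' (PrimeSpectrum.basicOpen e : Set (PrimeSpectrum R)) = U := by
    rw [← heq, hsat]
  have h3 := hinjpre (h1.trans h2.symm)
  exact PrimeSpectrum.basicOpen_injOn_isIdempotentElem he' he (SetLike.ext' h3)

end Groth.Agent.S9624
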