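import Groth.Statements.S9625
import Mathlib.RingTheory.Spectrum.Prime.Topology
import Mathlib.RingTheory.Flat.Basic
import Mathlib.RingTheory.TensorProduct.Maps
import Mathlib.RingTheory.Flat.FaithfullyFlat.Basic

set_option autoImplicit false
universe u
open CAlg

namespace Groth.Agent.S9625

open TensorProduct in
/-- Let k be a field and S a k-algebra such that Spec(k' ⊗_k S) is irreducible for every field extension
k'/k. Then every k-subalgebra of S has the same property. Here the test fields range over field
extensions in the universe of k; this is equivalent to the unrestricted notion, since an algebraic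
closure of k suffices as a test. -/
theorem result {k S : Type u} [Field k] [CommRing S] [Algebra k S]
    (hS : ∀ (k' : Type u) [Field k'] [Algebra k k'], IrreducibleSpace (PrimeSpectrum (k' ⊗[k] S))) (S' : Subalgebra k S) :
    ∀ (k' : Type u) [Field k'] [Algebra k k'], IrreducibleSpace (PrimeSpectrum (k' ⊗[k] S')) := by
  intro k' _ _
  haveI := hS k'
  let ι : k' ⊗[k] S' →ₐ[k'] k' ⊗[k] S := Algebra.TensorProduct.map (AlgHom.id k' k') S'.val
  have hι : Function.Injective ι := by
    have : Function.Injective (S'.val.toLinearMap.lTensor k') :=
      Module.Flat.lTensor_preserves_injective_linearMap S'.val.toLinearMap Subtype.val_injective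
    intro x y hxy
    apply this
    have h1 : ∀ z, ι z = S'.val.toLinearMap.lTensor k' z := by
      intro z
      induction z using TensorProduct.induction_on with
      | zero => simp
      | tmul a b => simp [ι]
      | add a b ha hb => rw [map_add, map_add, ha, hb]
    rw [← h1, ← h1, hxy]
  have hd : DenseRange (PrimeSpectrum.comap ι.toRingHom) := by
    rw [PrimeSpectrum.denseRange_comap_iff_ker_le_nilRadical]
    have : RingHom.ker ι.toRingHom = ⊥ := (RingHom.injective_iff_ker_eq_bot _).mp hι
    rw [this]
    exact bot_le
  rw [irreducibleSpace_def]
  have h1 : IsIrreducible (Set.range (PrimeSpectrum.comap ι.toRingHom)) := by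
    rw [← Set.image_univ]
    exact (IrreducibleSpace.isIrreducible_univ _).image _ (PrimeSpectrum.continuous_comap ι.toRingHom).continuousOn
  have h2 := h1.closure
  rw [hd.closure_range] at h2
  exact h2

end Groth.Agent.S9625
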