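import Groth.Statements.S9626
import Mathlib
import Groth.Agent.Lib.Helper3.TensorFibre

set_option autoImplicit false
universe u
open CAlg

namespace Groth.Agent.S9626

open TensorProduct in
/-- Let k be a field, S a k-algebra with Spec(k' ⊗_k S) irreducible for every field extension k'/k, and
R any k-algebra. Then Spec(R ⊗_k S) → Spec(R) induces a bijection on irreducible components: taking
inverse images along R → R ⊗_k S maps the set of minimal primes of R ⊗_k S bijectively onto the set
of minimal primes of R. Here the test fields range over field extensions in the universe of k; this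
is equivalent to the unrestricted notion, since an algebraic closure of k suffices as a test. -/
theorem result {k R S : Type u} [Field k] [CommRing R] [CommRing S] [Algebra k R] [Algebra k S]
    (hS : ∀ (k' : Type u) [Field k'] [Algebra k k'], IrreducibleSpace (PrimeSpectrum (k' ⊗[k] S))) :
    Set.BijOn (Ideal.comap (algebraMap R (R ⊗[k] S))) (minimalPrimes (R ⊗[k] S)) (minimalPrimes R) := by
  classical
  haveI := Groth.Agent.Lib.helper3.TensorFibre.geomIrr_proj k R S hS
  let f := Groth.Agent.Lib.helper3.TensorFibre.proj k R S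
  let g : PrimeSpectrum (R ⊗[k] S) → PrimeSpectrum R := fun p => f p
  have hcont : Continuous g := f.continuous
  have hopen : IsOpenMap g := f.isOpenMap
  have hsurj : Function.Surjective g := f.surjective
  have hfib : ∀ y, IsPreirreducible (g ⁻¹' {y}) := fun y =>
    (f.isIrreducible_preimage f.isOpenMap isIrreducible_singleton).isPreirreducible
  -- vanishing ideal of an image
  have hvan : ∀ Z : Set (PrimeSpectrum (R ⊗[k] S)),
      PrimeSpectrum.vanishingIdeal (g '' Z) =
        (PrimeSpectrum.vanishingIdeal Z).comap (algebraMap R (R ⊗[k] S)) := by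
    intro Z
    ext a
    rw [PrimeSpectrum.mem_vanishingIdeal, Ideal.mem_comap, PrimeSpectrum.mem_vanishingIdeal]
    constructor
    · intro h z hz
      exact h (g z) ⟨z, hz, rfl⟩
    · rintro h _ ⟨z, hz, rfl⟩
      exact h z hz
  have hVP : ∀ P : Ideal (R ⊗[k] S), P.IsPrime →
      PrimeSpectrum.vanishingIdeal (PrimeSpectrum.zeroLocus (P : Set (R ⊗[k] S))) = P := by
    intro P hP
    rw [PrimeSpectrum.vanishingIdeal_zeroLocus_eq_radical, hP.radical]
  have hVq : ∀ q : Ideal R, q.IsPrime →
      PrimeSpectrum.vanishingIdeal (PrimeSpectrum.zeroLocus (q : Set R)) = q := by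
    intro q hq
    rw [PrimeSpectrum.vanishingIdeal_zeroLocus_eq_radical, hq.radical]
  have hcompX : ∀ P ∈ minimalPrimes (R ⊗[k] S),
      PrimeSpectrum.zeroLocus (P : Set (R ⊗[k] S)) ∈
        irreducibleComponents (PrimeSpectrum (R ⊗[k] S)) := by
    intro P hP
    rw [← PrimeSpectrum.zeroLocus_minimalPrimes]
    exact ⟨P, hP, rfl⟩
  have hcompY : ∀ q ∈ minimalPrimes R,
      PrimeSpectrum.zeroLocus (q : Set R) ∈ irreducibleComponents (PrimeSpectrum R) := by
    intro q hq
    rw [← PrimeSpectrum.zeroLocus_minimalPrimes]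
    exact ⟨q, hq, rfl⟩
  have himg : ∀ Z ∈ irreducibleComponents (PrimeSpectrum (R ⊗[k] S)),
      g '' Z ∈ irreducibleComponents (PrimeSpectrum R) := fun Z hZ =>
    image_mem_irreducibleComponents_of_isPreirreducible_fiber g hcont hopen hfib hsurj hZ
  have hcomap : ∀ P ∈ minimalPrimes (R ⊗[k] S), P.comap (algebraMap R (R ⊗[k] S)) =
      PrimeSpectrum.vanishingIdeal (g '' PrimeSpectrum.zeroLocus (P : Set (R ⊗[k] S))) := by
    intro P hP
    rw [hvan, hVP P hP.1.1]
  have hZeq : ∀ Z ∈ irreducibleComponents (PrimeSpectrum (R ⊗[k] S)), g ⁻¹' (g '' Z) = Z := by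
    intro Z hZ
    refine (Set.subset_preimage_image _ _).antisymm' (hZ.2 ?_ (Set.subset_preimage_image _ _))
    refine ⟨?_, (hZ.1.image _ hcont.continuousOn).2.preimage_of_isPreirreducible_fiber _ hopen hfib⟩
    obtain ⟨z, hz⟩ := hZ.1.1
    exact ⟨_, z, hz, rfl⟩
  refine ⟨?_, ?_, ?_⟩
  · intro P hP
    rw [hcomap P hP, ← PrimeSpectrum.vanishingIdeal_irreducibleComponents]
    exact ⟨_, himg _ (hcompX P hP), rfl⟩
  · intro P hP P' hP' heq
    rw [hcomap P hP, hcomap P' hP'] at heq
    have hc1 := isClosed_of_mem_irreducibleComponents _ (himg _ (hcompX P hP))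
    have hc2 := isClosed_of_mem_irreducibleComponents _ (himg _ (hcompX P' hP'))
    have h1 : g '' PrimeSpectrum.zeroLocus (P : Set (R ⊗[k] S)) =
        g '' PrimeSpectrum.zeroLocus (P' : Set (R ⊗[k] S)) := by
      rw [← hc1.closure_eq, ← hc2.closure_eq, ← PrimeSpectrum.zeroLocus_vanishingIdeal_eq_closure,
        ← PrimeSpectrum.zeroLocus_vanishingIdeal_eq_closure, heq]
    have h2 := congrArg (Set.preimage g) h1
    rw [hZeq _ (hcompX P hP), hZeq _ (hcompX P' hP')] at h2
    rw [← hVP P hP.1.1, ← hVP P' hP'.1.1, h2]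
  · intro q hq
    have hT := hcompY q hq
    have hZ : g ⁻¹' PrimeSpectrum.zeroLocus (q : Set R) ∈
        irreducibleComponents (PrimeSpectrum (R ⊗[k] S)) :=
      preimage_mem_irreducibleComponents_of_isPreirreducible_fiber hT hcont hopen hfib
        (by rw [hsurj.range_eq, Set.inter_univ]; exact hT.1.1)
    have hPmin : PrimeSpectrum.vanishingIdeal (g ⁻¹' PrimeSpectrum.zeroLocus (q : Set R)) ∈
        minimalPrimes (R ⊗[k] S) := by
      rw [← PrimeSpectrum.vanishingIdeal_irreducibleComponents]
      exact ⟨_, hZ, rfl⟩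
    refine ⟨_, hPmin, ?_⟩
    rw [← hvan, Set.image_preimage_eq _ hsurj, hVq q hq.1.1]

end Groth.Agent.S9626
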