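import Groth.Statements.S9629
import Groth.Agent.Lib.Helper3.GeomIrr2

set_option autoImplicit false
universe u
open CAlg

namespace Groth.Agent.S9629


open TensorProduct Groth.Agent.Lib.helper3.GeomIrr in
theorem dom_algClosure_of_finite {k S : Type u} [Field k] [CommRing S] [Algebra k S]
    (h : ∀ (k' : Type u) [Field k'] [Algebra k k'] [Module.Finite k k'], IsDomain (k' ⊗[k] S)) :
    IsDomain (AlgebraicClosure k ⊗[k] S) := by
  have hnz : NoZeroDivisors (AlgebraicClosure k ⊗[k] S) := by
    refine ⟨fun {a b} hab => ?_⟩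
    obtain ⟨F1, hF1, ha'⟩ := exists_finite_mem_range (R := S) a
    obtain ⟨F2, hF2, hb'⟩ := exists_finite_mem_range (R := S) b
    have hfin : FiniteDimensional k ↥(F1 ⊔ F2) := IntermediateField.finiteDimensional_sup F1 F2
    obtain ⟨a'', ha''⟩ := range_incl_mono (R := S) (le_sup_left : F1 ≤ F1 ⊔ F2) ha'
    obtain ⟨b'', hb''⟩ := range_incl_mono (R := S) (le_sup_right : F2 ≤ F1 ⊔ F2) hb'
    have hd : IsDomain (↥(F1 ⊔ F2) ⊗[k] S) := h _
    rw [← ha'', ← hb'', ← RingHom.map_mul] at hab
    have hab' : a'' * b'' = 0 := by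
      apply incl_injective (R := S) (F1 ⊔ F2)
      rw [hab, RingHom.map_zero]
    have hp : (⊥ : Ideal (↥(F1 ⊔ F2) ⊗[k] S)).IsPrime := Ideal.isPrime_bot
    have hmem := hp.mem_or_mem (x := a'') (y := b'') (by rw [hab']; exact Ideal.zero_mem _)
    simp only [Ideal.mem_bot] at hmem
    rcases hmem with h1 | h1
    · left; rw [← ha'', h1, RingHom.map_zero]
    · right; rw [← hb'', h1, RingHom.map_zero]
  have hd0 : IsDomain (k ⊗[k] S) := h k
  have hS : Nontrivial S := (Algebra.TensorProduct.lid k S).symm.surjective.nontrivial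
  have hnt : Nontrivial (AlgebraicClosure k ⊗[k] S) :=
    (Algebra.TensorProduct.includeRight_injective (R := k) (A := AlgebraicClosure k) (B := S)
      (algebraMap k (AlgebraicClosure k)).injective).nontrivial
  exact NoZeroDivisors.to_isDomain _

open TensorProduct Groth.Agent.Lib.helper3.AlgClosedTensor in
theorem dom_of_algClosure {k S : Type u} [Field k] [CommRing S] [Algebra k S]
    (h : IsDomain (AlgebraicClosure k ⊗[k] S)) (k' : Type u) [Field k'] [Algebra k k'] :
    IsDomain (k' ⊗[k] S) := by
  let ι : AlgebraicClosure k →ₐ[k] AlgebraicClosure k' := IsAlgClosed.lift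
  let _ : Algebra (AlgebraicClosure k) (AlgebraicClosure k') := ι.toRingHom.toAlgebra
  have : IsScalarTower k (AlgebraicClosure k) (AlgebraicClosure k') :=
    IsScalarTower.of_algebraMap_eq (fun x => (ι.commutes x).symm)
  have h0 : IsDomain (AlgebraicClosure k' ⊗[AlgebraicClosure k]
      FractionRing (AlgebraicClosure k ⊗[k] S)) :=
    isDomain_tensor (AlgebraicClosure k) (AlgebraicClosure k')
      (FractionRing (AlgebraicClosure k ⊗[k] S))
  let j : AlgebraicClosure k' ⊗[AlgebraicClosure k] (AlgebraicClosure k ⊗[k] S) →ₐ[AlgebraicClosure k]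
      AlgebraicClosure k' ⊗[AlgebraicClosure k] FractionRing (AlgebraicClosure k ⊗[k] S) :=
    Algebra.TensorProduct.map (AlgHom.id _ _)
      (IsScalarTower.toAlgHom (AlgebraicClosure k) (AlgebraicClosure k ⊗[k] S)
        (FractionRing (AlgebraicClosure k ⊗[k] S)))
  have hj : Function.Injective j :=
    Module.Flat.lTensor_preserves_injective_linearMap (M := AlgebraicClosure k')
      (IsScalarTower.toAlgHom (AlgebraicClosure k) (AlgebraicClosure k ⊗[k] S)
        (FractionRing (AlgebraicClosure k ⊗[k] S))).toLinearMap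
      (IsFractionRing.injective _ _)
  have h1 : IsDomain (AlgebraicClosure k' ⊗[AlgebraicClosure k] (AlgebraicClosure k ⊗[k] S)) :=
    hj.isDomain j.toRingHom
  let e : AlgebraicClosure k' ⊗[AlgebraicClosure k] (AlgebraicClosure k ⊗[k] S) ≃ₐ[AlgebraicClosure k]
      AlgebraicClosure k' ⊗[k] S :=
    Algebra.TensorProduct.cancelBaseChange k (AlgebraicClosure k) (AlgebraicClosure k)
      (AlgebraicClosure k') S
  have h2 : IsDomain (AlgebraicClosure k' ⊗[k] S) := e.symm.injective.isDomain e.symm.toRingHom
  let φ : k' ⊗[k] S →ₐ[k] AlgebraicClosure k' ⊗[k] S :=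
    Algebra.TensorProduct.map (IsScalarTower.toAlgHom k k' (AlgebraicClosure k')) (AlgHom.id k S)
  have hφ : Function.Injective φ :=
    Module.Flat.rTensor_preserves_injective_linearMap (M := S)
      (IsScalarTower.toAlgHom k k' (AlgebraicClosure k')).toLinearMap
      (algebraMap k' (AlgebraicClosure k')).injective
  exact hφ.isDomain φ.toRingHom

open TensorProduct in
/-- For a field k and a k-algebra S the following are equivalent: (1) S is geometrically integral, i.e.
k' ⊗_k S is an integral domain for every field extension k'/k; (2) k' ⊗_k S is an integral domain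
for every finite field extension k'/k; (3) k̄ ⊗_k S is an integral domain for the algebraic closure
k̄ of k. Here the test fields range over field extensions in the universe of k; this is equivalent
to the unrestricted notion, since an algebraic closure of k suffices as a test. -/
theorem result {k S : Type u} [Field k] [CommRing S] [Algebra k S] :
    [∀ (k' : Type u) [Field k'] [Algebra k k'], IsDomain (k' ⊗[k] S),
      ∀ (k' : Type u) [Field k'] [Algebra k k'] [Module.Finite k k'], IsDomain (k' ⊗[k] S),
      IsDomain (AlgebraicClosure k ⊗[k] S)].TFAE := by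
  tfae_have 1 → 2 := fun h k' _ _ _ => h k'
  tfae_have 2 → 3 := fun h => dom_algClosure_of_finite h
  tfae_have 3 → 1 := fun h k' _ _ => dom_of_algClosure h k'
  tfae_finish

end Groth.Agent.S9629
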