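import Groth.Statements.S9633
import Mathlib

set_option autoImplicit false
universe u
open CAlg

namespace Groth.Agent.S9633

/-- For a ring R with spectrum X the following are equivalent: (1) X is profinite, i.e. compact,
Hausdorff and totally disconnected; (2) X is Hausdorff; (3) X is totally disconnected; (4) every
quasi-compact open subset of X is closed; (5) there are no nontrivial inclusions among prime ideals
of R; (6) every prime ideal of R is maximal; (7) every prime ideal of R is a minimal prime; (8)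
every standard open D(f) is closed. -/
theorem result {R : Type u} [CommRing R] :
    [CompactSpace (PrimeSpectrum R) ∧ T2Space (PrimeSpectrum R) ∧ TotallyDisconnectedSpace (PrimeSpectrum R),
      T2Space (PrimeSpectrum R),
      TotallyDisconnectedSpace (PrimeSpectrum R),
      ∀ W : Set (PrimeSpectrum R), IsOpen W → IsCompact W → IsClosed W,
      ∀ p q : PrimeSpectrum R, p ≤ q → p = q,
      ∀ p : Ideal R, p.IsPrime → p.IsMaximal,
      ∀ p : Ideal R, p.IsPrime → p ∈ minimalPrimes R,
      ∀ f : R, IsClosed (PrimeSpectrum.basicOpen f : Set (PrimeSpectrum R))].TFAE := by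
  have h56 : (∀ p q : PrimeSpectrum R, p ≤ q → p = q) → ∀ p : Ideal R, p.IsPrime → p.IsMaximal := by
    intro h p hp
    obtain ⟨m, hm, hpm⟩ := Ideal.exists_le_maximal p hp.ne_top
    have h1 := h ⟨p, hp⟩ ⟨m, hm.isPrime⟩ hpm
    have h2 : p = m := congrArg PrimeSpectrum.asIdeal h1
    rw [h2]
    exact hm
  have h67 : (∀ p : Ideal R, p.IsPrime → p.IsMaximal) →
      ∀ p : Ideal R, p.IsPrime → p ∈ minimalPrimes R := by
    intro h p hp
    refine ⟨⟨hp, bot_le⟩, fun q hq hqp => ?_⟩
    have h1 := (h q hq.1).eq_of_le hp.ne_top hqp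
    exact h1 ▸ le_refl _
  have h75 : (∀ p : Ideal R, p.IsPrime → p ∈ minimalPrimes R) →
      ∀ p q : PrimeSpectrum R, p ≤ q → p = q := by
    intro h p q hpq
    have hq := h q.asIdeal q.isPrime
    have h1 : q.asIdeal ≤ p.asIdeal := hq.2 ⟨p.isPrime, bot_le⟩ hpq
    exact le_antisymm hpq h1
  have h68 : (∀ p : Ideal R, p.IsPrime → p.IsMaximal) →
      ∀ f : R, IsClosed (PrimeSpectrum.basicOpen f : Set (PrimeSpectrum R)) := by
    intro h f
    rw [← isOpen_compl_iff, isOpen_iff_forall_mem_open]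
    intro p hp
    have hfp : f ∈ p.asIdeal := by
      by_contra hc
      exact hp hc
    -- the multiplicative set generated by `f` and the complement of `p` contains `0`
    have h0 : (0 : R) ∈ Submonoid.powers f ⊔ p.asIdeal.primeCompl := by
      by_contra hc
      have hdisj : Disjoint ((⊥ : Ideal R) : Set R)
          ((Submonoid.powers f ⊔ p.asIdeal.primeCompl : Submonoid R) : Set R) := by
        rw [Set.disjoint_left]
        intro x hx hx'
        have hx0 : x = 0 := hx
        rw [hx0] at hx'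
        exact hc hx'
      obtain ⟨q, hq, -, hqd⟩ := Ideal.exists_le_prime_disjoint ⊥ _ hdisj
      have hqp : q ≤ p.asIdeal := by
        intro x hxq
        by_contra hxp
        exact Set.disjoint_left.mp hqd hxq
          ((le_sup_right : p.asIdeal.primeCompl ≤ _) hxp)
      have hfq : f ∉ q := fun hfq => Set.disjoint_left.mp hqd hfq
        ((le_sup_left : Submonoid.powers f ≤ _) (Submonoid.mem_powers f))
      have h1 := (h q hq).eq_of_le p.isPrime.ne_top hqp
      exact hfq (h1 ▸ hfp)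
    obtain ⟨y, hy, s, hs, hys⟩ := Submonoid.mem_sup.mp h0
    obtain ⟨n, rfl⟩ := hy
    refine ⟨(PrimeSpectrum.basicOpen s : Set (PrimeSpectrum R)), ?_,
      PrimeSpectrum.isOpen_basicOpen, hs⟩
    intro q hq hfq
    have hsq : s ∉ q.asIdeal := hq
    have hfq' : f ∉ q.asIdeal := hfq
    have h1 : f ^ n * s ∈ q.asIdeal := by
      rw [hys]
      exact q.asIdeal.zero_mem
    rcases q.isPrime.mem_or_mem h1 with h2 | h2
    · exact hfq' (q.isPrime.mem_of_pow_mem n h2)
    · exact hsq h2
  have h84 : (∀ f : R, IsClosed (PrimeSpectrum.basicOpen f : Set (PrimeSpectrum R))) →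
      ∀ W : Set (PrimeSpectrum R), IsOpen W → IsCompact W → IsClosed W := by
    intro h W hWo hWc
    obtain ⟨t, rfl⟩ := PrimeSpectrum.isCompact_isOpen_iff.mp ⟨hWc, hWo⟩
    have h1 : (PrimeSpectrum.zeroLocus (t : Set R))ᶜ =
        ⋃ f ∈ t, (PrimeSpectrum.basicOpen f : Set (PrimeSpectrum R)) := by
      ext q
      simp only [Set.mem_compl_iff, PrimeSpectrum.mem_zeroLocus, Set.mem_iUnion,
        SetLike.mem_coe, PrimeSpectrum.mem_basicOpen, exists_prop, Set.not_subset]
    rw [h1]
    exact t.finite_toSet.isClosed_biUnion fun f _ => h f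
  have h48 : (∀ W : Set (PrimeSpectrum R), IsOpen W → IsCompact W → IsClosed W) →
      ∀ f : R, IsClosed (PrimeSpectrum.basicOpen f : Set (PrimeSpectrum R)) :=
    fun h f => h _ PrimeSpectrum.isOpen_basicOpen (PrimeSpectrum.isCompact_basicOpen f)
  have hsep : (∀ f : R, IsClosed (PrimeSpectrum.basicOpen f : Set (PrimeSpectrum R))) →
      ∀ p q : PrimeSpectrum R, p ≠ q → ∃ U : Set (PrimeSpectrum R), IsClopen U ∧
        ((p ∈ U ∧ q ∉ U) ∨ (q ∈ U ∧ p ∉ U)) := by
    intro h p q hpq
    have h1 : ¬ (p.asIdeal ≤ q.asIdeal ∧ q.asIdeal ≤ p.asIdeal) := by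
      rintro ⟨h1, h2⟩
      exact hpq (PrimeSpectrum.ext (le_antisymm h1 h2))
    by_cases hle : p.asIdeal ≤ q.asIdeal
    · have h2 : ¬ q.asIdeal ≤ p.asIdeal := fun h2 => h1 ⟨hle, h2⟩
      obtain ⟨f, hfq, hfp⟩ := SetLike.not_le_iff_exists.mp h2
      exact ⟨_, ⟨h f, PrimeSpectrum.isOpen_basicOpen⟩, Or.inl ⟨hfp, fun hc => hc hfq⟩⟩
    · obtain ⟨f, hfp, hfq⟩ := SetLike.not_le_iff_exists.mp hle
      exact ⟨_, ⟨h f, PrimeSpectrum.isOpen_basicOpen⟩, Or.inr ⟨hfq, fun hc => hc hfp⟩⟩
  have h82 : (∀ f : R, IsClosed (PrimeSpectrum.basicOpen f : Set (PrimeSpectrum R))) →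
      T2Space (PrimeSpectrum R) := by
    intro h
    refine ⟨fun p q hpq => ?_⟩
    obtain ⟨U, hU, hU' | hU'⟩ := hsep h p q hpq
    · exact ⟨U, Uᶜ, hU.isOpen, hU.compl.isOpen, hU'.1, hU'.2, disjoint_compl_right⟩
    · exact ⟨Uᶜ, U, hU.compl.isOpen, hU.isOpen, hU'.2, hU'.1, disjoint_compl_left⟩
  have h83 : (∀ f : R, IsClosed (PrimeSpectrum.basicOpen f : Set (PrimeSpectrum R))) →
      TotallyDisconnectedSpace (PrimeSpectrum R) := by
    intro h
    have : TotallySeparatedSpace (PrimeSpectrum R) := by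
      rw [totallySeparatedSpace_iff_exists_isClopen]
      intro p q hpq
      obtain ⟨U, hU, hU' | hU'⟩ := hsep h p q hpq
      · exact ⟨U, hU, hU'.1, hU'.2⟩
      · exact ⟨Uᶜ, hU.compl, hU'.2, fun hc => hc hU'.1⟩
    infer_instance
  have h25 : T2Space (PrimeSpectrum R) → ∀ p q : PrimeSpectrum R, p ≤ q → p = q := by
    intro h p q hpq
    exact ((PrimeSpectrum.le_iff_specializes p q).mp hpq).eq
  have h35 : TotallyDisconnectedSpace (PrimeSpectrum R) →
      ∀ p q : PrimeSpectrum R, p ≤ q → p = q := by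
    intro h p q hpq
    have h1 : q ∈ closure ({p} : Set (PrimeSpectrum R)) :=
      (PrimeSpectrum.le_iff_mem_closure p q).mp hpq
    have h2 : IsPreconnected (closure ({p} : Set (PrimeSpectrum R))) :=
      isPreconnected_singleton.closure
    exact (h2.subsingleton (subset_closure rfl) h1)
  tfae_have 1 → 2 := fun h => h.2.1
  tfae_have 2 → 5 := h25
  tfae_have 3 → 5 := h35
  tfae_have 5 → 6 := h56
  tfae_have 6 → 7 := h67
  tfae_have 7 → 5 := h75
  tfae_have 6 → 8 := h68
  tfae_have 8 → 4 := h84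
  tfae_have 4 → 8 := h48
  tfae_have 8 → 3 := h83
  tfae_have 8 → 1 := fun h => ⟨inferInstance, h82 h, h83 h⟩
  tfae_finish

end Groth.Agent.S9633
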