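import Groth.Statements.S9634
import Mathlib
import Groth.Agent.Lib.Helper3.GeomRed2
import Groth.Agent.Lib.Helper3.GeomIrr2

set_option autoImplicit false
universe u
open CAlg

namespace Groth.Agent.S9634


open TensorProduct Groth.Agent.Lib.helper3 in
theorem one_imp_four {k S : Type u} [Field k] [CommRing S] [Algebra k S]
    (h : ∀ (k' : Type u) [Field k'] [Algebra k k'] [Module.Finite k k'] [IsPurelyInseparable k k'],
      IsReduced (k' ⊗[k] S)) :
    Algebra.IsGeometricallyReduced k S := by
  have hE : IsReduced ((perfectClosure k (AlgebraicClosure k)) ⊗[k] S) := by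
    refine ⟨fun a ha => ?_⟩
    obtain ⟨F, hF, a', rfl⟩ := GeomIrr.exists_finite_mem_range (R := S) a
    have hpi : IsPurelyInseparable k F :=
      IsPurelyInseparable.tower_bot k F (perfectClosure k (AlgebraicClosure k))
    have hr := h F
    have ha' : IsNilpotent a' := (IsNilpotent.map_iff (GeomIrr.incl_injective F)).mp ha
    rw [ha'.eq_zero, map_zero]
  exact GeomRed.isGeometricallyReduced_of_perfect_ext (perfectClosure k (AlgebraicClosure k)) S hE

open TensorProduct in
/-- (1) ⇔ (4) ⇔ (5): for a field k and a k-algebra S the following are equivalent: (1) the ring k' ⊗_k S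
is reduced whenever k'/k is a finite purely inseparable field extension; (4) S is geometrically
reduced in Mathlib's sense, which over a field amounts to k̄ ⊗_k S being reduced for an algebraic
closure k̄; (5) K ⊗_k S is reduced for all field extensions K/k. In (1) and (5) the test fields
range over field extensions in the universe of k; this is equivalent to the unrestricted notion,
since an algebraic closure of k suffices as a test. -/
theorem result {k S : Type u} [Field k] [CommRing S] [Algebra k S] :
    [∀ (k' : Type u) [Field k'] [Algebra k k'] [Module.Finite k k'] [IsPurelyInseparable k k'], IsReduced (k' ⊗[k] S),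
      Algebra.IsGeometricallyReduced k S,
      ∀ (K : Type u) [Field K] [Algebra k K], IsReduced (K ⊗[k] S)].TFAE := by
  tfae_have 1 → 2 := fun h => one_imp_four h
  tfae_have 2 → 3 := fun h K _ _ =>
    Groth.Agent.Lib.helper3.GeomRed.isReduced_tensor_of_isGeometricallyReduced k K S
  tfae_have 3 → 1 := fun h k' _ _ _ _ => h k'
  tfae_finish

end Groth.Agent.S9634
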