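import Groth.Statements.S9635
import Mathlib
import Groth.Agent.Lib.Helper3.FrobRed2
import Groth.Agent.Lib.Helper3.GeomRed
import Groth.Agent.Lib.Helper17.SmoothArtin

set_option autoImplicit false
universe u
open CAlg

namespace Groth.Agent.S9635

open TensorProduct in
theorem exists_pth_root {k k' : Type u} [Field k] [Field k'] [Algebra k k']
    [Algebra.IsSeparable k k'] (p : ℕ) [Fact p.Prime] [CharP k p] (E : Type u) [Field E]
    [Algebra k E] [IsAlgClosed E] (a : k') :
    ∃ b : k' ⊗[k] E, b ^ p = algebraMap k' (k' ⊗[k] E) a := by
  have hp : p.Prime := Fact.out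
  haveI : ExpChar k p := ExpChar.prime hp
  have hspan : Submodule.span k (Set.range fun v : k' => v ^ p) = ⊤ := by
    have := Field.span_map_pow_expChar_pow_eq_top_of_isSeparable (F := k) (E := k') p 1
      (v := id) (by simp)
    simpa using this
  haveI hchar : CharP (k' ⊗[k] E) p :=
    charP_of_injective_algebraMap (algebraMap k (k' ⊗[k] E)).injective p
  have ha : a ∈ Submodule.span k (Set.range fun v : k' => v ^ p) := hspan ▸ Submodule.mem_top
  induction ha using Submodule.span_induction with
  | mem x hx =>
    obtain ⟨v, rfl⟩ := hx
    exact ⟨v ⊗ₜ 1, by rw [Algebra.TensorProduct.tmul_pow, one_pow]; rfl⟩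
  | zero => exact ⟨0, by rw [zero_pow hp.ne_zero, map_zero]⟩
  | add x y _ _ hx hy =>
    obtain ⟨bx, hbx⟩ := hx
    obtain ⟨by', hby⟩ := hy
    exact ⟨bx + by', by rw [add_pow_char, hbx, hby, map_add]⟩
  | smul c x _ hx =>
    obtain ⟨bx, hbx⟩ := hx
    obtain ⟨r, hr⟩ := IsAlgClosed.exists_pow_nat_eq (algebraMap k E c) hp.pos
    refine ⟨bx * (1 ⊗ₜ r), ?_⟩
    rw [mul_pow, hbx, Algebra.TensorProduct.tmul_pow, one_pow, hr,
      Algebra.TensorProduct.algebraMap_apply, Algebra.TensorProduct.algebraMap_apply,
      Algebra.TensorProduct.tmul_mul_tmul, mul_one, one_mul]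
    simp only [Algebra.algebraMap_self, RingHom.id_apply]
    rw [Algebra.algebraMap_eq_smul_one, TensorProduct.tmul_smul, TensorProduct.smul_tmul']

open TensorProduct in
/-- Let k ⊆ k' be fields with k' separable algebraic over k, and A a k'-algebra. Then A is geometrically
reduced over k (K ⊗_k A reduced for all field extensions K/k) if and only if A is geometrically
reduced over k' (K ⊗_{k'} A reduced for all field extensions K/k'). Here the test fields K range
over field extensions (of k, respectively of k') in the common universe of k and k'; this is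
equivalent to the unrestricted notions, since an algebraic closure of the base field suffices as a
test. -/
theorem result {k k' A : Type u} [Field k] [Field k'] [Algebra k k'] [Algebra.IsSeparable k k'] [CommRing A] [Algebra k' A] [Algebra k A] [IsScalarTower k k' A] :
    (∀ (K : Type u) [Field K] [Algebra k K], IsReduced (K ⊗[k] A)) ↔
      ∀ (K : Type u) [Field K] [Algebra k' K], IsReduced (K ⊗[k'] A) := by
  classical
  constructor
  · -- over `k` implies over `k'`
    intro h K _ _
    obtain _ | ⟨p, hp, hpk⟩ := CharP.exists' k
    · -- characteristic zero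
      haveI : CharZero k' := charZero_of_injective_algebraMap (algebraMap k k').injective
      have hA : IsReduced A := by
        have h1 := h k
        exact isReduced_of_injective (Algebra.TensorProduct.lid k A).symm.toRingEquiv.toRingHom
          (Algebra.TensorProduct.lid k A).symm.injective
      haveI := Groth.Agent.Lib.helper3.GeomRed.isGeometricallyReduced_of_perfectField k' A
      exact Groth.Agent.Lib.helper3.GeomRed.isReduced_tensor_of_isGeometricallyReduced k' K A
    · haveI : Fact p.Prime := hp
      haveI : CharP k' p := charP_of_injective_algebraMap (algebraMap k k').injective p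
      let E := AlgebraicClosure k
      have h1 : IsReduced (E ⊗[k] A) := h E
      have h2 : IsReduced (A ⊗[k] E) :=
        isReduced_of_injective (Algebra.TensorProduct.comm k A E).toRingEquiv.toRingHom
          (Algebra.TensorProduct.comm k A E).injective
      let e1 : A ⊗[k'] (k' ⊗[k] E) ≃ₐ[k'] A ⊗[k] E :=
        Algebra.TensorProduct.cancelBaseChange k k' k' A E
      have h3 : IsReduced (A ⊗[k'] (k' ⊗[k] E)) :=
        isReduced_of_injective e1.toRingEquiv.toRingHom e1.injective
      haveI h4 : IsReduced ((k' ⊗[k] E) ⊗[k'] A) :=
        isReduced_of_injective (Algebra.TensorProduct.comm k' (k' ⊗[k] E) A).toRingEquiv.toRingHom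
          (Algebra.TensorProduct.comm k' (k' ⊗[k] E) A).injective
      exact Groth.Agent.Lib.helper3.FrobRed2.isReduced_tensor p (k' ⊗[k] E)
        (fun a => exists_pth_root p E a) A K
  · -- over `k'` implies over `k`
    intro h K _ _
    haveI : Algebra.FormallyEtale k k' := Algebra.FormallyEtale.of_isSeparable k k'
    haveI : Algebra.FormallySmooth k k' := inferInstance
    haveI : Algebra.IsGeometricallyReduced k k' :=
      Groth.Agent.Lib.helper17.SmoothArtin.isGeometricallyReduced_of_formallySmooth
    have h1 : IsReduced (K ⊗[k] k') :=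
      Groth.Agent.Lib.helper3.GeomRed.isReduced_tensor_of_isGeometricallyReduced k K k'
    haveI h2 : IsReduced (k' ⊗[k] K) :=
      isReduced_of_injective (Algebra.TensorProduct.comm k k' K).toRingEquiv.toRingHom
        (Algebra.TensorProduct.comm k k' K).injective
    have h3 : IsReduced (A ⊗[k'] (k' ⊗[k] K)) := by
      refine Groth.Agent.Lib.helper3.GeomRed.isReduced_tensor_of_forall_field
        (k := k') (C := A) (fun L _ _ _ => ?_) (k' ⊗[k] K)
      have := h L
      exact isReduced_of_injective (Algebra.TensorProduct.comm k' A L).toRingEquiv.toRingHom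
        (Algebra.TensorProduct.comm k' A L).injective
    let e1 : A ⊗[k'] (k' ⊗[k] K) ≃ₐ[k'] A ⊗[k] K :=
      Algebra.TensorProduct.cancelBaseChange k k' k' A K
    have h4 : IsReduced (A ⊗[k] K) :=
      isReduced_of_injective e1.symm.toRingEquiv.toRingHom e1.symm.injective
    exact isReduced_of_injective (Algebra.TensorProduct.comm k K A).toRingEquiv.toRingHom
      (Algebra.TensorProduct.comm k K A).injective

end Groth.Agent.S9635
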