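import Groth.Statements.S9636
import Mathlib

set_option autoImplicit false
universe u
open CAlg

namespace Groth.Agent.S9636

open TensorProduct in
/-- Let k'/k be a separable algebraic field extension. Then for some multiplicative subset S of k' ⊗_k
k' the multiplication map k' ⊗_k k' → k' is a localization at S: there is a ring isomorphism S⁻¹(k'
⊗_k k') ≅ k' carrying the localization map to the multiplication map. -/
theorem result {k k' : Type u} [Field k] [Field k'] [Algebra k k'] [Algebra.IsSeparable k k'] :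
    ∃ (S : Submonoid (k' ⊗[k] k')) (e : Localization S ≃+* k'), ∀ x : k' ⊗[k] k', e (algebraMap (k' ⊗[k] k') (Localization S) x) = Algebra.TensorProduct.lmul' (S := k') k x := by
  classical
  let μ : k' ⊗[k] k' →ₐ[k] k' := Algebra.TensorProduct.lmul' (S := k') k
  have hμ : ∀ a b : k', μ (a ⊗ₜ[k] b) = a * b := fun a b => by simp [μ]
  let I : Ideal (k' ⊗[k] k') := RingHom.ker μ.toRingHom
  have hI : I.IsPrime := RingHom.ker_isPrime _
  have hmemI : ∀ z, z ∈ I ↔ μ z = 0 := fun z => Iff.rfl
  -- key: for b, exists t with (1⊗b - b⊗1) t = 0 and μ t = 1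
  have key : ∀ b : k', ∃ t : k' ⊗[k] k',
      ((1:k') ⊗ₜ[k] b - b ⊗ₜ[k] (1:k')) * t = 0 ∧ μ t = 1 := by
    intro b
    let F := IntermediateField.adjoin k {b}
    have hint : IsIntegral k b := (Algebra.IsSeparable.isSeparable k b).isIntegral
    have : FiniteDimensional k F := IntermediateField.adjoin.finiteDimensional hint
    have : Algebra.IsSeparable k F := inferInstance
    have : Algebra.FormallyUnramified k F := Algebra.FormallyUnramified.of_isSeparable k F
    let φ : F ⊗[k] F →ₐ[k] k' ⊗[k] k' := Algebra.TensorProduct.map (F.val) (F.val)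
    let bF : F := ⟨b, IntermediateField.mem_adjoin_simple_self k b⟩
    refine ⟨φ (Algebra.FormallyUnramified.elem k F), ?_, ?_⟩
    · have h1 := congrArg φ (Algebra.FormallyUnramified.one_tmul_sub_tmul_one_mul_elem
        (R := k) (S := F) bF)
      rw [map_mul, map_zero, map_sub] at h1
      simpa [φ, bF] using h1
    · have h2 : μ.comp φ = F.val.comp (Algebra.TensorProduct.lmul' (S := F) k) := by
        ext x <;> simp [μ, φ]
      have h3 := DFunLike.congr_fun h2 (Algebra.FormallyUnramified.elem k F)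
      rw [AlgHom.comp_apply, AlgHom.comp_apply, Algebra.FormallyUnramified.lmul_elem,
        map_one] at h3
      exact h3
  -- every element of I is killed by some element outside I
  have kill : ∀ z ∈ I, ∃ s : k' ⊗[k] k', μ s = 1 ∧ s * z = 0 := by
    intro z hz
    -- generalize: for all z, ∃ s with μ s = 1 and s * z = s * (μ z ⊗ 1)
    have gen : ∀ z : k' ⊗[k] k', ∃ s : k' ⊗[k] k', μ s = 1 ∧ s * z = s * ((μ z) ⊗ₜ[k] (1:k')) := by
      intro z
      induction z using TensorProduct.induction_on with
      | zero => exact ⟨1, map_one _, by simp⟩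
      | tmul a b =>
        obtain ⟨t, ht1, ht2⟩ := key b
        refine ⟨t, ht2, ?_⟩
        rw [hμ]
        have e1 : a ⊗ₜ[k] b - (a * b) ⊗ₜ[k] (1:k') =
            (a ⊗ₜ[k] (1:k')) * ((1:k') ⊗ₜ[k] b - b ⊗ₜ[k] (1:k')) := by
          rw [mul_sub, Algebra.TensorProduct.tmul_mul_tmul, Algebra.TensorProduct.tmul_mul_tmul]
          simp
        rw [← sub_eq_zero, ← mul_sub, e1, mul_comm, mul_assoc, ht1, mul_zero]
      | add x y hx hy =>
        obtain ⟨s1, hs1, hx1⟩ := hx
        obtain ⟨s2, hs2, hy2⟩ := hy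
        refine ⟨s1 * s2, by rw [map_mul, hs1, hs2, one_mul], ?_⟩
        rw [map_add, TensorProduct.add_tmul, mul_add, mul_add]
        congr 1
        · rw [mul_comm s1 s2, mul_assoc, hx1, mul_assoc]
        · rw [mul_assoc, hy2, mul_assoc]
    obtain ⟨s, hs, hsz⟩ := gen z
    refine ⟨s, hs, ?_⟩
    rw [hsz, (hmemI z).mp hz, TensorProduct.zero_tmul, mul_zero]
  let _ : Algebra (k' ⊗[k] k') k' := μ.toRingHom.toAlgebra
  have halg : ∀ x : k' ⊗[k] k', algebraMap (k' ⊗[k] k') k' x = μ x := fun x => rfl
  have hloc : IsLocalization I.primeCompl k' := by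
    refine ⟨?_, ?_, ?_⟩
    · rintro ⟨s, hs⟩
      rw [halg]
      exact isUnit_iff_ne_zero.mpr (fun h => hs ((hmemI s).mpr h))
    · intro y
      refine ⟨(y ⊗ₜ[k] (1:k'), 1), ?_⟩
      simp [halg, hμ]
    · intro x y hxy
      rw [halg, halg] at hxy
      have hz : x - y ∈ I := by rw [hmemI, map_sub, hxy, sub_self]
      obtain ⟨s, hs, hsz⟩ := kill _ hz
      refine ⟨⟨s, ?_⟩, ?_⟩
      · intro hsI
        have hsI' : μ s = 0 := (hmemI s).mp hsI
        rw [hs] at hsI'
        exact one_ne_zero hsI'
      · rw [mul_sub, sub_eq_zero] at hsz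
        exact hsz
  refine ⟨I.primeCompl, (IsLocalization.algEquiv I.primeCompl (Localization I.primeCompl) k').toRingEquiv, ?_⟩
  intro x
  change (IsLocalization.algEquiv I.primeCompl (Localization I.primeCompl) k') _ = _
  rw [AlgEquiv.commutes]
  rfl

end Groth.Agent.S9636
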