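import Groth.Statements.S9639
import Mathlib
-- import your own Groth.Agent.* helpers here

set_option autoImplicit false
universe u
open CAlg

namespace Groth.Agent.S9639

theorem connectedSpace_of_injective {A B : Type u} [CommRing A] [CommRing B] (φ : A →+* B)
    (hφ : Function.Injective φ) [ConnectedSpace (PrimeSpectrum B)] :
    ConnectedSpace (PrimeSpectrum A) := by
  have hB : Nontrivial B := (PrimeSpectrum.nonempty_iff_nontrivial).mp inferInstance
  have hA : Nontrivial A := φ.domain_nontrivial
  have key : ∀ e : A, IsIdempotentElem e → (∀ p : PrimeSpectrum B, φ e ∈ p.asIdeal) → e = 0 := by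
    intro e he h
    have hnil : IsNilpotent (φ e) := by
      rw [nilpotent_iff_mem_prime]
      intro J hJ
      exact h ⟨J, hJ⟩
    obtain ⟨n, hn⟩ := hnil
    have he' : IsIdempotentElem (φ e) := he.map φ
    have : φ e = 0 := by
      rcases n with _ | n
      · rw [pow_zero] at hn
        exact absurd hn one_ne_zero
      · rw [he'.pow_succ_eq] at hn
        exact hn
    exact hφ (by rw [this, map_zero])
  have hpre : PreconnectedSpace (PrimeSpectrum A) := by
    rw [preconnectedSpace_iff_clopen]
    intro s hs
    obtain ⟨e, he, rfl⟩ := PrimeSpectrum.isClopen_iff.mp hs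
    have hcl : IsClopen ((PrimeSpectrum.comap φ) ⁻¹' (PrimeSpectrum.basicOpen e : Set (PrimeSpectrum A))) :=
      hs.preimage (PrimeSpectrum.continuous_comap φ)
    rcases isClopen_iff.mp hcl with h | h
    · left
      have : e = 0 := by
        apply key e he
        intro p
        by_contra hp
        have : p ∈ (PrimeSpectrum.comap φ) ⁻¹' (PrimeSpectrum.basicOpen e : Set (PrimeSpectrum A)) := hp
        rw [h] at this
        exact this
      rw [this, PrimeSpectrum.basicOpen_zero]
      rfl
    · right
      have : 1 - e = 0 := by
        apply key (1 - e) he.one_sub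
        intro p
        have hp : p ∈ (PrimeSpectrum.comap φ) ⁻¹' (PrimeSpectrum.basicOpen e : Set (PrimeSpectrum A)) := by
          rw [h]; trivial
        have hp' : φ e ∉ p.asIdeal := hp
        have hmul : φ e * φ (1 - e) ∈ p.asIdeal := by
          rw [← map_mul, mul_sub, mul_one, he.eq, sub_self, map_zero]
          exact zero_mem _
        exact (p.2.mem_or_mem hmul).resolve_left hp'
      have he1 : e = 1 := by
        rw [sub_eq_zero] at this
        exact this.symm
      rw [he1, PrimeSpectrum.basicOpen_one]
      rfl
  exact { toPreconnectedSpace := hpre, toNonempty := inferInstance }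

open TensorProduct in
/-- Let k be a field and S a k-algebra such that Spec(k' ⊗_k S) is connected for every field extension
k'/k. Then every k-subalgebra of S has the same property. Here the test fields range over field
extensions in the universe of k; this is equivalent to the unrestricted notion, since an algebraic
closure of k suffices as a test. -/
theorem result {k S : Type u} [Field k] [CommRing S] [Algebra k S]
    (hS : ∀ (k' : Type u) [Field k'] [Algebra k k'], ConnectedSpace (PrimeSpectrum (k' ⊗[k] S))) (S' : Subalgebra k S) :
    ∀ (k' : Type u) [Field k'] [Algebra k k'], ConnectedSpace (PrimeSpectrum (k' ⊗[k] S')) := by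
  intro k' _ _
  haveI := hS k'
  let φ : TensorProduct k k' S' →ₐ[k'] TensorProduct k k' S :=
    Algebra.TensorProduct.map (AlgHom.id k' k') S'.val
  have hφ : Function.Injective φ := by
    have h := Module.Flat.lTensor_preserves_injective_linearMap (M := k') S'.val.toLinearMap
      Subtype.val_injective
    intro x y hxy
    apply h
    exact hxy
  exact connectedSpace_of_injective φ.toRingHom hφ

end Groth.Agent.S9639
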