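import Groth.Statements.S9642


set_option autoImplicit false
universe u
open CAlg

namespace Groth.Agent.S9642

/-- In the general form stated there: let R → S be a ring map inducing an open map Spec(S) → Spec(R),
with Spec(R) irreducible, such that for a dense set of primes p of R the fibre ring κ(p) ⊗_R S has
irreducible spectrum. Then Spec(S) is irreducible. The flat and finitely presented case is the
special case in which the map on spectra is open by fppf-openness. -/
theorem result {R S : Type u} [CommRing R] [CommRing S] [Algebra R S]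
    (hopen : IsOpenMap (PrimeSpectrum.comap (algebraMap R S))) [IrreducibleSpace (PrimeSpectrum R)]
    (D : Set (PrimeSpectrum R)) (hD : Dense D) (hfib : ∀ p ∈ D, IrreducibleSpace (PrimeSpectrum (p.asIdeal.Fiber S))) :
    IrreducibleSpace (PrimeSpectrum S) := by
  classical
  set f := PrimeSpectrum.comap (algebraMap R S) with hf
  -- fibres over D are irreducible subsets
  have hF : ∀ p ∈ D, IsIrreducible (f ⁻¹' {p}) := by
    intro p hp
    haveI := hfib p hp
    let e := PrimeSpectrum.preimageHomeomorphFiber R S p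
    have h1 : IsIrreducible (Set.univ : Set (PrimeSpectrum (p.asIdeal.Fiber S))) :=
      (irreducibleSpace_def _).1 inferInstance
    have h2 : IsIrreducible ((fun x => ((e.symm x : f ⁻¹' {p}) : PrimeSpectrum S)) '' Set.univ) :=
      h1.image _ (continuous_subtype_val.comp e.symm.continuous).continuousOn
    convert h2 using 1
    ext q
    constructor
    · intro hq
      exact ⟨e ⟨q, hq⟩, trivial, by simp⟩
    · rintro ⟨x, -, rfl⟩
      exact (e.symm x).2
  obtain ⟨p₀, hp₀⟩ : D.Nonempty := hD.nonempty
  have hne : Nonempty (PrimeSpectrum S) := by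
    obtain ⟨q, _⟩ := (hF p₀ hp₀).nonempty
    exact ⟨q⟩
  refine @IrreducibleSpace.mk _ _ ⟨?_⟩ hne
  intro U V hU hV hUne hVne
  rw [Set.univ_inter] at hUne hVne ⊢
  have hfU : IsOpen (f '' U) := hopen U hU
  have hfV : IsOpen (f '' V) := hopen V hV
  have hne2 : ((f '' U) ∩ (f '' V)).Nonempty :=
    nonempty_preirreducible_inter hfU hfV (hUne.image f) (hVne.image f)
  obtain ⟨p, hpD, hpU, hpV⟩ : (D ∩ ((f '' U) ∩ (f '' V))).Nonempty := by
    rw [Set.inter_comm]
    exact hD.inter_open_nonempty _ (hfU.inter hfV) hne2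
  obtain ⟨u, huU, hu⟩ := hpU
  obtain ⟨v, hvV, hv⟩ := hpV
  have := (hF p hpD).2 U V hU hV ⟨u, hu, huU⟩ ⟨v, hv, hvV⟩
  obtain ⟨w, -, hw⟩ := this
  exact ⟨w, hw⟩

end Groth.Agent.S9642
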