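import Groth.Statements.S9643
import Mathlib

set_option autoImplicit false
universe u
open CAlg

namespace Groth.Agent.S9643

/-- Let R be a Noetherian ring, M a finite R-module and 0 = M_0 ⊆ M_1 ⊆ ⋯ ⊆ M_n = M a chain of
submodules whose successive quotients M_i/M_{i-1} are isomorphic to R/p_i for prime ideals p_i. Then
the primes minimal among p_1, …, p_n are exactly the primes minimal in the support of M. -/
theorem result {R : Type u} [CommRing R] [IsNoetherianRing R] (M : Type u) [AddCommGroup M] [Module R M] [Module.Finite R M]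
    {n : ℕ} (N : Fin (n + 1) → Submodule R M) (hN : Monotone N) (h0 : N 0 = ⊥) (hlast : N (Fin.last n) = ⊤)
    (p : Fin n → PrimeSpectrum R)
    (hquot : ∀ i : Fin n, Nonempty ((↥(N i.succ) ⧸ Submodule.comap (N i.succ).subtype (N i.castSucc)) ≃ₗ[R] (R ⧸ (p i).asIdeal))) :
    {q : PrimeSpectrum R | Minimal (fun x => x ∈ Set.range p) q} = {q : PrimeSpectrum R | Minimal (fun x => x ∈ Module.support R M) q} := by
  classical
  -- support of each step
  have hstep : ∀ (k : ℕ) (hk : k ≤ n),
      Module.support R (N ⟨k, Nat.lt_succ_of_le hk⟩) =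
        {q : PrimeSpectrum R | ∃ i : Fin n, (i : ℕ) < k ∧ p i ≤ q} := by
    intro k
    induction k with
    | zero =>
      intro hk
      have h00 : (⟨0, Nat.lt_succ_of_le hk⟩ : Fin (n + 1)) = 0 := rfl
      rw [h00, h0]
      have : Subsingleton (⊥ : Submodule R M) := inferInstance
      rw [Module.support_eq_empty]
      ext q
      simp
    | succ k ih =>
      intro hk
      have hk' : k ≤ n := Nat.le_of_succ_le hk
      have hkn : k < n := hk
      let i : Fin n := ⟨k, hkn⟩
      have hsucc : (⟨k + 1, Nat.lt_succ_of_le hk⟩ : Fin (n + 1)) = i.succ := rfl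
      have hcast : (⟨k, Nat.lt_succ_of_le hk'⟩ : Fin (n + 1)) = i.castSucc := rfl
      have hle : N i.castSucc ≤ N i.succ := hN (Fin.castSucc_lt_succ (i := i)).le
      obtain ⟨e⟩ := hquot i
      -- exact sequence
      have hex : Function.Exact
          (Submodule.comap (N i.succ).subtype (N i.castSucc)).subtype
          (Submodule.comap (N i.succ).subtype (N i.castSucc)).mkQ := by
        intro x
        rw [Submodule.mkQ_apply, Submodule.Quotient.mk_eq_zero]
        constructor
        · intro hx
          exact ⟨⟨x, hx⟩, rfl⟩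
        · rintro ⟨y, rfl⟩
          exact y.2
      have hsupp := Module.support_of_exact hex (Submodule.injective_subtype _)
        (Submodule.mkQ_surjective _)
      have h1 : Module.support R (Submodule.comap (N i.succ).subtype (N i.castSucc)) =
          Module.support R (N i.castSucc) :=
        (Submodule.comapSubtypeEquivOfLe hle).support_eq
      have h2 : Module.support R (↥(N i.succ) ⧸ Submodule.comap (N i.succ).subtype (N i.castSucc)) =
          PrimeSpectrum.zeroLocus ((p i).asIdeal : Set R) := by
        rw [e.support_eq, Module.support_of_algebra]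
        congr 1
        ext x
        simp
      rw [hsucc, hsupp, h1, h2, ← hcast, ih hk']
      ext q
      simp only [Set.mem_union, Set.mem_ofPred_eq, PrimeSpectrum.mem_zeroLocus, SetLike.coe_subset_coe]
      constructor
      · rintro (⟨j, hj, hjq⟩ | hq)
        · exact ⟨j, Nat.lt_succ_of_lt hj, hjq⟩
        · exact ⟨i, Nat.lt_succ_self k, hq⟩
      · rintro ⟨j, hj, hjq⟩
        rcases Nat.lt_succ_iff_lt_or_eq.1 hj with hlt | heq
        · exact Or.inl ⟨j, hlt, hjq⟩
        · right
          have : j = i := Fin.ext heq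
          rw [← this]
          exact hjq
  have hM : Module.support R M = {q : PrimeSpectrum R | ∃ i : Fin n, p i ≤ q} := by
    have h1 := hstep n le_rfl
    have hl : (⟨n, Nat.lt_succ_of_le le_rfl⟩ : Fin (n + 1)) = Fin.last n := rfl
    rw [hl, hlast] at h1
    rw [← (Submodule.topEquiv (R := R) (M := M)).support_eq, h1]
    ext q
    constructor
    · rintro ⟨i, _, hi⟩
      exact ⟨i, hi⟩
    · rintro ⟨i, hi⟩
      exact ⟨i, i.2, hi⟩
  ext q
  simp only [Set.mem_ofPred_eq]
  rw [hM]
  constructor
  · rintro ⟨⟨i, rfl⟩, hmin⟩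
    refine ⟨⟨i, le_rfl⟩, ?_⟩
    rintro u ⟨j, hj⟩ huq
    have h1 : p i ≤ p j := hmin ⟨j, rfl⟩ (hj.trans huq)
    exact h1.trans hj
  · rintro ⟨⟨i, hi⟩, hmin⟩
    have h1 : q ≤ p i := hmin ⟨i, le_rfl⟩ hi
    have hq : q = p i := le_antisymm h1 hi
    refine ⟨⟨i, hq.symm⟩, ?_⟩
    rintro t ⟨j, rfl⟩ htq
    exact hmin ⟨j, le_rfl⟩ htq

end Groth.Agent.S9643
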