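import Groth.Statements.S9644
import Mathlib

set_option autoImplicit false
universe u
open CAlg

namespace Groth.Agent.S9644

section Aux

variable {R : Type u} [CommRing R] (M : Type u) [AddCommGroup M] [Module R M]

/-- The submodule of elements vanishing at all generic points of the support. -/
def genKer : Submodule R M where
  carrier := {x | ∀ p ∈ (Module.annihilator R M).minimalPrimes, ∃ s : R, s ∉ p ∧ s • x = 0}
  add_mem' := by
    intro x y hx hy p hp
    obtain ⟨s, hs, hsx⟩ := hx p hp
    obtain ⟨t, ht, hty⟩ := hy p hp
    haveI := hp.1.1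
    refine ⟨s * t, fun h => (Ideal.IsPrime.mem_or_mem ‹_› h).elim hs ht, ?_⟩
    rw [smul_add, mul_smul, smul_comm, hsx, smul_zero, mul_smul, hty, smul_zero, add_zero]
  zero_mem' := by
    intro p hp
    haveI := hp.1.1
    exact ⟨1, fun h => Ideal.IsPrime.ne_top ‹_› ((Ideal.eq_top_iff_one _).mpr h), smul_zero _⟩
  smul_mem' := by
    intro c x hx p hp
    obtain ⟨s, hs, hsx⟩ := hx p hp
    exact ⟨s, hs, by rw [smul_comm, hsx, smul_zero]⟩

variable {M}

theorem mem_genKer {x : M} : x ∈ genKer (R := R) M ↔
    ∀ p ∈ (Module.annihilator R M).minimalPrimes, ∃ s : R, s ∉ p ∧ s • x = 0 := Iff.rfl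

/-- A generic point of the support is not in the support of a submodule of `genKer`. -/
theorem notMem_support_of_le_genKer (K' : Submodule R M) (hK' : K' ≤ genKer M)
    (p : PrimeSpectrum R) (hp : p.asIdeal ∈ (Module.annihilator R M).minimalPrimes) :
    p ∉ Module.support R K' := by
  rw [Module.notMem_support_iff']
  intro m
  obtain ⟨s, hs, hsm⟩ := hK' m.2 p.asIdeal hp
  exact ⟨s, hs, Subtype.ext hsm⟩

theorem mk_eq_zero_iff' {S : Submonoid R} (m : M) (s : S) :
    LocalizedModule.mk m s = 0 ↔ ∃ u : S, u • m = 0 := by
  rw [← LocalizedModule.zero_mk s, LocalizedModule.mk_eq]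
  constructor
  · rintro ⟨u, hu⟩
    refine ⟨u * s, ?_⟩
    rw [mul_smul, hu, smul_zero, smul_zero]
  · rintro ⟨u, hu⟩
    exact ⟨u, by rw [smul_comm, hu, smul_zero, smul_zero]⟩

end Aux

/-- Let R be a Noetherian ring and M a finite R-module. Among the submodules K' of M whose support is
nowhere dense inside Supp(M) there is a largest one, K. The quotient M' = M/K then satisfies
Supp(M') = Supp(M), its associated primes are pairwise incomparable (no embedded ones), and whenever
f ∈ R belongs to every embedded associated prime of M the localized map M_f → M'_f is bijective. -/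
theorem result {R : Type u} [CommRing R] [IsNoetherianRing R] (M : Type u) [AddCommGroup M] [Module R M] [Module.Finite R M] :
    ∃ K : Submodule R M,
      IsGreatest {K' : Submodule R M | ∀ U : Set (PrimeSpectrum R), IsOpen U → U ∩ Module.support R M ⊆ closure (Module.support R ↥K') → U ∩ Module.support R M = ∅} K ∧
      Module.support R (M ⧸ K) = Module.support R M ∧
      (∀ p ∈ associatedPrimes R (M ⧸ K), ∀ q ∈ associatedPrimes R (M ⧸ K), p ≤ q → p = q) ∧
      ∀ f : R, (∀ p ∈ associatedPrimes R M, ¬ Minimal (fun x => x ∈ associatedPrimes R M) p → f ∈ p) →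
        Function.Bijective (LocalizedModule.map (Submonoid.powers f) K.mkQ) := by
  classical
  set K := genKer (R := R) M with hK
  have hprime : ∀ p ∈ (Module.annihilator R M).minimalPrimes, p.IsPrime := fun p hp => hp.1.1
  -- every point of the support specializes from a generic point
  have hgen : ∀ P : PrimeSpectrum R, P ∈ Module.support R M →
      ∃ p : PrimeSpectrum R, p.asIdeal ∈ (Module.annihilator R M).minimalPrimes ∧ p ≤ P := by
    intro P hP
    rw [Module.mem_support_iff_of_finite] at hP
    obtain ⟨p, hp, hpP⟩ := Ideal.exists_minimalPrimes_le hP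
    exact ⟨⟨p, hprime p hp⟩, hp, hpP⟩
  have hgen_mem : ∀ p : PrimeSpectrum R, p.asIdeal ∈ (Module.annihilator R M).minimalPrimes →
      p ∈ Module.support R M := by
    intro p hp
    rw [Module.mem_support_iff_of_finite]
    exact hp.1.2
  have hsuppK : ∀ p : PrimeSpectrum R, p.asIdeal ∈ (Module.annihilator R M).minimalPrimes →
      p ∉ Module.support R K := fun p hp => notMem_support_of_le_genKer K le_rfl p hp
  refine ⟨K, ⟨?_, ?_⟩, ?_, ?_, ?_⟩
  · -- `K` has nowhere dense support
    intro U hU hsub
    by_contra hne
    obtain ⟨P, hPU, hPM⟩ := Set.nonempty_iff_ne_empty.mpr hne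
    obtain ⟨p, hp, hpP⟩ := hgen P hPM
    have hpU : p ∈ U := ((PrimeSpectrum.le_iff_specializes p P).mp hpP).mem_open hU hPU
    have h1 : p ∈ closure (Module.support R K) := hsub ⟨hpU, hgen_mem p hp⟩
    have hclosed : IsClosed (Module.support R K) := by
      rw [Module.support_eq_zeroLocus]
      exact PrimeSpectrum.isClosed_zeroLocus _
    rw [hclosed.closure_eq] at h1
    exact hsuppK p hp h1
  · -- `K` is the largest such
    intro K' hK'
    intro x hx
    rw [hK, mem_genKer]
    intro p hp
    by_contra hcon
    push Not at hcon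
    haveI := hprime p hp
    let p' : PrimeSpectrum R := ⟨p, hprime p hp⟩
    -- the open set of points not on the other components
    have hfin : ((Module.annihilator R M).minimalPrimes \ {p}).Finite :=
      (Ideal.finite_minimalPrimes_of_isNoetherianRing R _).subset Set.sdiff_subset
    let Z : Set (PrimeSpectrum R) :=
      ⋃ q ∈ (Module.annihilator R M).minimalPrimes \ {p}, PrimeSpectrum.zeroLocus (q : Set R)
    have hZ : IsClosed Z := hfin.isClosed_biUnion (fun q _ => PrimeSpectrum.isClosed_zeroLocus _)
    have hp'M : p' ∈ Module.support R M := hgen_mem p' hp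
    have hp'Z : p' ∉ Z := by
      intro h
      simp only [Z, Set.mem_iUnion] at h
      obtain ⟨q, hq, hqp⟩ := h
      rw [PrimeSpectrum.mem_zeroLocus] at hqp
      have hqp' : q ≤ p := hqp
      have : p ≤ q := hp.2 hq.1.1 hqp'
      exact hq.2 (le_antisymm hqp' this)
    have hsub : Zᶜ ∩ Module.support R M ⊆ closure (Module.support R K') := by
      rintro P ⟨hPZ, hPM⟩
      apply subset_closure
      obtain ⟨q, hq, hqP⟩ := hgen P hPM
      have hqp : q.asIdeal = p := by
        by_contra hne
        apply hPZ
        simp only [Z, Set.mem_iUnion]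
        exact ⟨q.asIdeal, ⟨hq, hne⟩, hqP⟩
      rw [Module.mem_support_iff']
      refine ⟨⟨x, hx⟩, fun r hr h0 => ?_⟩
      have hrp : r ∉ p := fun h => hr (hqP (hqp ▸ h))
      exact hcon r hrp (congrArg Subtype.val h0)
    have hempty := hK' Zᶜ hZ.isOpen_compl hsub
    have : p' ∈ Zᶜ ∩ Module.support R M := ⟨hp'Z, hp'M⟩
    rw [hempty] at this
    exact this
  · -- the support of the quotient
    apply subset_antisymm (Module.support_subset_of_surjective K.mkQ (Submodule.mkQ_surjective K))
    intro P hP
    obtain ⟨p, hp, hpP⟩ := hgen P hP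
    have hex := Module.support_of_exact (LinearMap.exact_subtype_mkQ K)
      (Submodule.subtype_injective K) (Submodule.mkQ_surjective K)
    have hpM := hgen_mem p hp
    rw [hex] at hpM
    rcases hpM with h | h
    · exact absurd h (hsuppK p hp)
    · exact Module.mem_support_mono hpP h
  · -- no embedded primes
    have hass : ∀ q ∈ associatedPrimes R (M ⧸ K), q ∈ (Module.annihilator R M).minimalPrimes := by
      intro q hq
      rw [AssociatedPrimes.mem_iff, isAssociatedPrime_iff] at hq
      obtain ⟨hqprime, xb, hqx⟩ := hq
      obtain ⟨x, rfl⟩ := Submodule.mkQ_surjective K xb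
      have hmemq : ∀ r : R, r ∈ q ↔ r • x ∈ K := by
        intro r
        rw [hqx, Submodule.mem_colon_singleton, Submodule.mem_bot, ← map_smul,
          Submodule.mkQ_apply, Submodule.Quotient.mk_eq_zero]
      have hxK : x ∉ K := by
        intro hx
        apply hqprime.ne_top
        rw [Ideal.eq_top_iff_one, hmemq, one_smul]
        exact hx
      rw [hK, mem_genKer] at hxK
      push Not at hxK
      obtain ⟨p, hp, hpx⟩ := hxK
      haveI := hprime p hp
      have hqp : q ≤ p := by
        intro r hr
        have h1 := (hmemq r).mp hr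
        obtain ⟨s, hs, hsr⟩ := h1 p hp
        by_contra hrp
        have hsr' : s * r ∉ p := fun h => (Ideal.IsPrime.mem_or_mem ‹_› h).elim hs hrp
        exact hpx (s * r) hsr' (by rw [mul_smul]; exact hsr)
      have hannq : Module.annihilator R M ≤ q := by
        intro r hr
        rw [hmemq, Module.mem_annihilator.mp hr x]
        exact zero_mem _
      have hpq : p ≤ q := hp.2 ⟨hqprime, hannq⟩ hqp
      rw [le_antisymm hqp hpq]
      exact hp
    intro p hp q hq hpq
    have hq' := hass q hq
    have hp' := hass p hp
    exact le_antisymm hpq (hq'.2 hp'.1 hpq)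
  · -- localization away from the embedded primes
    intro f hf
    have hkill : ∀ x ∈ K, ∃ n : ℕ, f ^ n • x = 0 := by
      intro x hx
      by_contra hcon
      push Not at hcon
      let I : ℕ →o Ideal R :=
        ⟨fun n => (⊥ : Submodule R M).colon {f ^ n • x}, by
          intro a b hab r hr
          rw [Submodule.mem_colon_singleton, Submodule.mem_bot] at hr ⊢
          obtain ⟨c, rfl⟩ := Nat.exists_eq_add_of_le hab
          rw [pow_add, mul_comm, mul_smul, smul_comm, hr, smul_zero]⟩
      obtain ⟨n, hn⟩ := monotone_stabilizes_iff_noetherian.mpr inferInstance I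
      set y := f ^ n • x with hy
      have hy0 : y ≠ 0 := hcon n
      let N : Submodule R M := Submodule.span R {y}
      have hyN : y ∈ N := Submodule.mem_span_singleton_self y
      obtain ⟨q, hq, -⟩ := exists_le_isAssociatedPrime_of_isNoetherianRing R (⟨y, hyN⟩ : N)
        (fun h => hy0 (congrArg Subtype.val h))
      have hqM : q ∈ associatedPrimes R M :=
        associatedPrimes.subset_of_injective (Submodule.subtype_injective N) hq
      rw [isAssociatedPrime_iff] at hq
      obtain ⟨hqprime, z, hqz⟩ := hq
      obtain ⟨r, hr⟩ := Submodule.mem_span_singleton.mp z.2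
      have hmemq : ∀ a : R, a ∈ q ↔ a • (z : M) = 0 := by
        intro a
        rw [hqz, Submodule.mem_colon_singleton, Submodule.mem_bot]
        constructor
        · intro h
          have := congrArg Subtype.val h
          simpa using this
        · intro h
          exact Subtype.ext (by simpa using h)
      have hzK : (z : M) ∈ K := by
        rw [← hr, hy]
        exact K.smul_mem _ (K.smul_mem _ hx)
      have hnotmin : ¬ Minimal (fun x => x ∈ associatedPrimes R M) q := by
        intro hmin
        have hannq : Module.annihilator R M ≤ q := by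
          intro a ha
          rw [hmemq, Module.mem_annihilator.mp ha]
        obtain ⟨p, hp, hpq⟩ := Ideal.exists_minimalPrimes_le hannq
        have hpass : p ∈ associatedPrimes R M :=
          Module.associatedPrimes.minimalPrimes_annihilator_subset_associatedPrimes R M hp
        have hqp : q ≤ p := hmin.2 hpass hpq
        have hqeq : q = p := le_antisymm hqp hpq
        obtain ⟨s, hs, hsz⟩ := hzK p hp
        exact hs (hqeq ▸ (hmemq s).mpr hsz)
      have hfq : f ∈ q := hf q hqM hnotmin
      have h1 : f • (z : M) = 0 := (hmemq f).mp hfq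
      rw [← hr, hy] at h1
      have h2 : r ∈ I (n + 1) := by
        show r ∈ (⊥ : Submodule R M).colon {f ^ (n + 1) • x}
        rw [Submodule.mem_colon_singleton, Submodule.mem_bot, pow_succ', mul_smul, smul_comm r f]
        exact h1
      rw [← hn (n + 1) (Nat.le_succ n)] at h2
      have h3 : r • y = 0 := by
        have : r ∈ (⊥ : Submodule R M).colon {f ^ n • x} := h2
        rwa [Submodule.mem_colon_singleton, Submodule.mem_bot] at this
      apply hqprime.ne_top
      rw [Ideal.eq_top_iff_one, hmemq, one_smul, ← hr, h3]
    constructor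
    · rw [← LinearMap.ker_eq_bot, eq_bot_iff]
      intro a ha
      rw [LinearMap.mem_ker] at ha
      induction a using LocalizedModule.induction_on with
      | h m s =>
        rw [LocalizedModule.map_mk, mk_eq_zero_iff'] at ha
        obtain ⟨c, hc⟩ := ha
        have hcm : (c : R) • m ∈ K := by
          rw [← Submodule.Quotient.mk_eq_zero, Submodule.Quotient.mk_smul]
          exact hc
        obtain ⟨n, hn⟩ := hkill _ hcm
        rw [Submodule.mem_bot, mk_eq_zero_iff']
        refine ⟨⟨f ^ n, n, rfl⟩ * c, ?_⟩
        rw [Submonoid.smul_def, Submonoid.coe_mul, mul_smul]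
        exact hn
    · exact LocalizedModule.map_surjective _ _ (Submodule.mkQ_surjective K)

end Groth.Agent.S9644
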