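import Groth.Statements.S9646
import Mathlib
-- import your own Groth.Agent.* helpers here

set_option autoImplicit false
universe u
open CAlg

namespace Groth.Agent.S9646

/-- (2) ⇒ (1): let R → S be a ring map and x ∈ S. If for every prime ideal p of R the image of x in S_p
(the localization of S at the image of R ∖ p) is integral over R_p, then x is integral over R. Here
R_p and S_p are any rings satisfying the localization universal properties. -/
theorem result {R S : Type u} [CommRing R] [CommRing S] [Algebra R S] (x : S)
    (h : ∀ (p : Ideal R) [p.IsPrime] (Rp Sp : Type u) [CommRing Rp] [CommRing Sp] [Algebra R Rp] [Algebra S Sp] [Algebra Rp Sp] [Algebra R Sp] [IsScalarTower R S Sp] [IsScalarTower R Rp Sp] [IsLocalization.AtPrime Rp p] [IsLocalization (Algebra.algebraMapSubmonoid S p.primeCompl) Sp], IsIntegral Rp (algebraMap S Sp x)) :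
    IsIntegral R x := by
  let I : Ideal R :=
    { carrier := {r | IsIntegral R (r • x)}
      add_mem' := by
        intro a b ha hb
        simp only [Set.mem_setOf_eq, add_smul] at ha hb ⊢
        exact ha.add hb
      zero_mem' := by
        simp only [Set.mem_setOf_eq, zero_smul]
        exact isIntegral_zero
      smul_mem' := by
        intro c r hr
        simp only [Set.mem_setOf_eq, smul_eq_mul, mul_smul] at hr ⊢
        exact hr.smul c }
  have hI : I = ⊤ := by
    by_contra hne
    obtain ⟨p, hp, hIp⟩ := Ideal.exists_le_maximal I hne
    haveI := hp.isPrime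
    have hx := h p (Localization.AtPrime p)
      (Localization (Algebra.algebraMapSubmonoid S p.primeCompl))
    obtain ⟨⟨m₂, hm₂⟩, hm₂s⟩ :=
      IsIntegral.exists_multiple_integral_of_isLocalization p.primeCompl _ hx
    obtain ⟨m₃, hm₃, hm₃s⟩ := IsLocalization.exists_isIntegral_smul_of_isIntegral_map
      (Sₘ := Localization (Algebra.algebraMapSubmonoid S p.primeCompl)) p.primeCompl
      (x := m₂ • x) (by
        simp only [Submonoid.smul_def] at hm₂s
        rw [Algebra.smul_def, map_mul, ← IsScalarTower.algebraMap_apply, ← Algebra.smul_def]
        exact hm₂s)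
    have hmem : m₃ * m₂ ∈ I := by
      show IsIntegral R ((m₃ * m₂) • x)
      rwa [mul_smul]
    exact (hp.isPrime.mem_or_mem (hIp hmem)).elim hm₃ hm₂
  have h1 : (1 : R) ∈ I := by rw [hI]; trivial
  have h2 : IsIntegral R ((1 : R) • x) := h1
  rwa [one_smul] at h2

end Groth.Agent.S9646
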