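import Groth.Statements.S9647
import Mathlib
import Groth.Agent.Lib.Helper3.GaloisFibre

set_option autoImplicit false
universe u
open CAlg

namespace Groth.Agent.S9647


open TensorProduct in
/-- the residue map of a prime into an extension of its residue field -/
theorem exists_field_hom {k S K : Type u} [Field k] [Field S] [Field K] [Algebra k S]
    [Algebra k K] (P : Ideal (S ⊗[k] K)) [P.IsPrime] :
    ∃ (F : Type u) (_ : Field F) (a : S ⊗[k] K →+* F), ∀ r, a r = 0 ↔ r ∈ P := by
  refine ⟨FractionRing ((S ⊗[k] K) ⧸ P), inferInstance,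
    (algebraMap ((S ⊗[k] K) ⧸ P) (FractionRing ((S ⊗[k] K) ⧸ P))).comp (Ideal.Quotient.mk P), ?_⟩
  intro r
  rw [RingHom.comp_apply, map_eq_zero_iff _ (IsFractionRing.injective _ _),
    Ideal.Quotient.eq_zero_iff_mem]

open TensorProduct in
/-- Let K/k be a field extension and k^sep a separable algebraic closure of k. Then the automorphism
group of k^sep over k acts transitively on the primes of k^sep ⊗_k K: for any two primes P, Q there
is a k-automorphism σ of k^sep with Q the inverse image of P under σ ⊗ id_K. -/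
theorem result {k K : Type u} [Field k] [Field K] [Algebra k K]
    (P Q : Ideal (SeparableClosure k ⊗[k] K)) [P.IsPrime] [Q.IsPrime] :
    ∃ σ : SeparableClosure k ≃ₐ[k] SeparableClosure k, Q = P.comap (Algebra.TensorProduct.map (σ : SeparableClosure k →ₐ[k] SeparableClosure k) (AlgHom.id k K)) := by
  classical
  obtain ⟨F₁, _, a₁, ha₁⟩ := exists_field_hom P
  obtain ⟨F₂, _, a₂, ha₂⟩ := exists_field_hom Q
  let jK : K →+* SeparableClosure k ⊗[k] K :=
    (Algebra.TensorProduct.includeRight : K →ₐ[k] SeparableClosure k ⊗[k] K).toRingHom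
  let jS : SeparableClosure k →+* SeparableClosure k ⊗[k] K :=
    (Algebra.TensorProduct.includeLeft : SeparableClosure k →ₐ[k] SeparableClosure k ⊗[k] K).toRingHom
  let _ : Algebra K F₁ := (a₁.comp jK).toAlgebra
  let _ : Algebra K F₂ := (a₂.comp jK).toAlgebra
  obtain ⟨E, _, _, _, _, hE1, hE2⟩ :=
    Groth.Agent.Lib.helper3.CompCard.exists_common_extension K F₁ F₂
  let b₁ : SeparableClosure k ⊗[k] K →+* E := (algebraMap F₁ E).comp a₁
  let b₂ : SeparableClosure k ⊗[k] K →+* E := (algebraMap F₂ E).comp a₂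
  have hb₁ : ∀ r, b₁ r = 0 ↔ r ∈ P := fun r => by
    rw [RingHom.comp_apply, map_eq_zero_iff _ (algebraMap F₁ E).injective, ha₁]
  have hb₂ : ∀ r, b₂ r = 0 ↔ r ∈ Q := fun r => by
    rw [RingHom.comp_apply, map_eq_zero_iff _ (algebraMap F₂ E).injective, ha₂]
  have hK₁ : ∀ x : K, b₁ (jK x) = algebraMap K E x := fun x =>
    (IsScalarTower.algebraMap_apply K F₁ E x).symm
  have hK₂ : ∀ x : K, b₂ (jK x) = algebraMap K E x := fun x =>
    (IsScalarTower.algebraMap_apply K F₂ E x).symm
  have hjk : ∀ c : k, jS (algebraMap k _ c) = jK (algebraMap k K c) := by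
    intro c
    show (algebraMap k (SeparableClosure k) c) ⊗ₜ[k] (1 : K) = (1 : SeparableClosure k) ⊗ₜ[k] (algebraMap k K c)
    rw [Algebra.algebraMap_eq_smul_one, Algebra.algebraMap_eq_smul_one, TensorProduct.smul_tmul]
  have htt : (b₁.comp jS).comp (algebraMap k (SeparableClosure k)) =
      (b₂.comp jS).comp (algebraMap k (SeparableClosure k)) := by
    ext c
    simp only [RingHom.comp_apply]
    rw [hjk, hK₁, hK₂]
  obtain ⟨σ, hσ⟩ := Groth.Agent.Lib.helper3.GaloisFibre.exists_algEquiv_of_normal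
    (SeparableClosure k) (b₁.comp jS) (b₂.comp jS) htt
  refine ⟨σ, ?_⟩
  have key : ∀ r, b₂ r = b₁ (Algebra.TensorProduct.map
      (σ : SeparableClosure k →ₐ[k] SeparableClosure k) (AlgHom.id k K) r) := by
    intro r
    induction r using TensorProduct.induction_on with
    | zero => simp
    | add x y hx hy => rw [map_add, map_add, map_add, hx, hy]
    | tmul s x =>
      have h1 : s ⊗ₜ[k] x = jS s * jK x := by
        show s ⊗ₜ[k] x = (s ⊗ₜ[k] (1 : K)) * ((1 : SeparableClosure k) ⊗ₜ[k] x)
        rw [Algebra.TensorProduct.tmul_mul_tmul, mul_one, one_mul]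
      have h2 : Algebra.TensorProduct.map (σ : SeparableClosure k →ₐ[k] SeparableClosure k)
          (AlgHom.id k K) (s ⊗ₜ[k] x) = jS (σ s) * jK x := by
        rw [Algebra.TensorProduct.map_tmul]
        show (σ s) ⊗ₜ[k] x = ((σ s) ⊗ₜ[k] (1 : K)) * ((1 : SeparableClosure k) ⊗ₜ[k] x)
        rw [Algebra.TensorProduct.tmul_mul_tmul, mul_one, one_mul]
      rw [h2, h1, map_mul, map_mul, hK₁, hK₂]
      congr 1
      exact RingHom.congr_fun hσ s
  ext r
  rw [Ideal.mem_comap, ← hb₂, ← hb₁, key]

end Groth.Agent.S9647
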