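import Groth.Statements.S9648
import Mathlib

set_option autoImplicit false
universe u
open CAlg

namespace Groth.Agent.S9648

open TensorProduct FlatCA

attribute [local instance] Algebra.TensorProduct.rightAlgebra

section
variable {R S : Type u} [CommRing R] [CommRing S] [Algebra R S] (N : Type u) [AddCommGroup N] [Module S N] [Module R N] [IsScalarTower R S N]
    (p : Ideal R) [p.IsPrime]

theorem smul_fiber_tmul (s : S) (c : p.ResidueField) (t : S) :
    s • (c ⊗ₜ[R] t : p.Fiber S) = c ⊗ₜ[R] (s * t) := by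
  rw [Algebra.smul_def]
  change ((1 : p.ResidueField) ⊗ₜ[R] s) * (c ⊗ₜ[R] t) = _
  rw [Algebra.TensorProduct.tmul_mul_tmul, one_mul]

/-- S-linear comm -/
noncomputable def commS : p.Fiber S →ₗ[S] S ⊗[R] p.ResidueField :=
  { (TensorProduct.comm R p.ResidueField S).toLinearMap with
    map_smul' := by
      intro s x
      induction x using TensorProduct.induction_on with
      | zero => simp
      | tmul c t =>
        simp only [AddHom.toFun_eq_coe, LinearMap.coe_toAddHom, LinearEquiv.coe_coe, RingHom.id_apply]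
        rw [smul_fiber_tmul, TensorProduct.comm_tmul, TensorProduct.comm_tmul, smul_tmul', smul_eq_mul]
      | add x y hx hy =>
        simp only [AddHom.toFun_eq_coe, LinearMap.coe_toAddHom, LinearEquiv.coe_coe, RingHom.id_apply] at hx hy ⊢
        rw [smul_add, map_add, hx, hy, map_add, smul_add] }

theorem commS_tmul (c : p.ResidueField) (t : S) : commS p (c ⊗ₜ[R] t : p.Fiber S) = t ⊗ₜ[R] c := rfl

/-- comparison map -/
noncomputable def Psi : (p.Fiber S) ⊗[S] N →ₗ[S] N ⊗[R] p.ResidueField :=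
  (TensorProduct.AlgebraTensorModule.cancelBaseChange R S S N p.ResidueField).toLinearMap ∘ₗ
    (LinearMap.lTensor N (commS (S := S) p)) ∘ₗ (TensorProduct.comm S (p.Fiber S) N).toLinearMap

theorem Psi_one_tmul (n : N) : Psi N p ((1 : p.Fiber S) ⊗ₜ[S] n) = n ⊗ₜ[R] (1 : p.ResidueField) := by
  unfold Psi
  simp only [LinearMap.comp_apply, LinearEquiv.coe_coe, TensorProduct.comm_tmul, LinearMap.lTensor_tmul]
  rw [Algebra.TensorProduct.one_def, commS_tmul,
    TensorProduct.AlgebraTensorModule.cancelBaseChange_tmul, one_smul]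
end

section
variable {R S : Type u} [CommRing R] [CommRing S] [Algebra R S] (N : Type u) [AddCommGroup N] [Module S N] [Module R N] [IsScalarTower R S N]
    (p : Ideal R) [p.IsPrime]

/-- (B) -/
theorem tmul_one_quot_eq_zero [Module.Flat R N] (n : N)
    (h : ((1 : p.Fiber S) ⊗ₜ[S] n : (p.Fiber S) ⊗[S] N) = 0) :
    n ⊗ₜ[R] (1 : R ⧸ p) = 0 := by
  have h1 : n ⊗ₜ[R] (1 : p.ResidueField) = 0 := by
    rw [← Psi_one_tmul (S := S) N p n, h, map_zero]
  let j : (R ⧸ p) →ₗ[R] p.ResidueField :=
    (IsScalarTower.toAlgHom R (R ⧸ p) p.ResidueField).toLinearMap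
  have hj : Function.Injective j := Ideal.injective_algebraMap_quotient_residueField p
  have hinj := Module.Flat.lTensor_preserves_injective_linearMap (M := N) j hj
  apply hinj
  rw [map_zero, LinearMap.lTensor_tmul]
  have : j 1 = 1 := map_one (IsScalarTower.toAlgHom R (R ⧸ p) p.ResidueField)
  rw [this]
  exact h1

/-- (C) -/
theorem one_tmul_eq_zero_of_tmul_one_quot (n : N) (h : n ⊗ₜ[R] (1 : R ⧸ p) = 0) :
    ((1 : p.Fiber S) ⊗ₜ[S] n : (p.Fiber S) ⊗[S] N) = 0 := by
  have h1 : n ∈ (p • ⊤ : Submodule R N) := by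
    have h2 := congrArg (tensorQuotEquivQuotSMul N p) h
    rw [map_zero, ← map_one (Ideal.Quotient.mk p), tensorQuotEquivQuotSMul_tmul_mk, one_smul,
      Submodule.Quotient.mk_eq_zero] at h2
    exact h2
  refine Submodule.smul_induction_on
    (p := fun n : N => ((1 : p.Fiber S) ⊗ₜ[S] n : (p.Fiber S) ⊗[S] N) = 0) h1 ?_ ?_
  · intro π hπ n' _
    have e1 : π • n' = (algebraMap R S π) • n' := (algebraMap_smul S π n').symm
    rw [e1, ← TensorProduct.smul_tmul]
    have e2 : (algebraMap R S π) • (1 : p.Fiber S) = 0 := by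
      rw [Algebra.TensorProduct.one_def, smul_fiber_tmul, mul_one,
        Algebra.algebraMap_eq_smul_one, TensorProduct.tmul_smul, TensorProduct.smul_tmul',
        ← Algebra.algebraMap_eq_smul_one, Ideal.algebraMap_residueField_eq_zero.mpr hπ, zero_tmul]
    rw [e2, zero_tmul]
  · intro x y hx hy
    rw [tmul_add, hx, hy, add_zero]

/-- the unit of the fibre ring attached to an element outside `p` -/
noncomputable def sig (r : R) : p.Fiber S := (algebraMap R p.ResidueField r) ⊗ₜ[R] (1 : S)

theorem sig_isUnit (r : R) (hr : r ∉ p) : IsUnit (sig (S := S) p r) := by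
  have h0 : algebraMap R p.ResidueField r ≠ 0 := by
    rwa [Ne, Ideal.algebraMap_residueField_eq_zero]
  refine ⟨⟨sig p r, (algebraMap R p.ResidueField r)⁻¹ ⊗ₜ[R] (1 : S), ?_, ?_⟩, rfl⟩
  · unfold sig
    rw [Algebra.TensorProduct.tmul_mul_tmul, mul_inv_cancel₀ h0, one_mul,
      Algebra.TensorProduct.one_def]
  · unfold sig
    rw [Algebra.TensorProduct.tmul_mul_tmul, inv_mul_cancel₀ h0, one_mul,
      Algebra.TensorProduct.one_def]

theorem sig_mul (r : R) (x : p.Fiber S) : sig p r * x = r • x := by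
  unfold sig
  rw [Algebra.smul_def]
  rfl

/-- (A) -/
theorem exists_rep (ξ : (p.Fiber S) ⊗[S] N) :
    ∃ r : R, r ∉ p ∧ ∃ n : N, sig (S := S) p r • ξ = (1 : p.Fiber S) ⊗ₜ[S] n := by
  induction ξ using TensorProduct.induction_on with
  | zero => exact ⟨1, fun h => (Ideal.IsPrime.ne_top ‹_›) ((Ideal.eq_top_iff_one _).mpr h), 0, by simp⟩
  | tmul x n' =>
    obtain ⟨r, hr, s', e⟩ := Ideal.Fiber.exists_smul_eq_one_tmul p x
    refine ⟨r, hr, s' • n', ?_⟩
    rw [TensorProduct.smul_tmul', smul_eq_mul, sig_mul, e, ← TensorProduct.smul_tmul]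
    congr 1
    rw [Algebra.TensorProduct.one_def, smul_fiber_tmul, mul_one]
  | add ξ₁ ξ₂ h₁ h₂ =>
    obtain ⟨r₁, hr₁, n₁, e₁⟩ := h₁
    obtain ⟨r₂, hr₂, n₂, e₂⟩ := h₂
    refine ⟨r₁ * r₂, fun h => (Ideal.IsPrime.mem_or_mem ‹_› h).elim hr₁ hr₂,
      (algebraMap R S r₂) • n₁ + (algebraMap R S r₁) • n₂, ?_⟩
    have hsig : sig (S := S) p (r₁ * r₂) = sig p r₁ * sig p r₂ := by
      unfold sig
      rw [Algebra.TensorProduct.tmul_mul_tmul, mul_one, map_mul]
    have hs : ∀ (r : R) (n : N), sig (S := S) p r • ((1 : p.Fiber S) ⊗ₜ[S] n) =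
        (1 : p.Fiber S) ⊗ₜ[S] ((algebraMap R S r) • n) := by
      intro r n
      rw [TensorProduct.smul_tmul', smul_eq_mul, mul_one, ← TensorProduct.smul_tmul]
      congr 1
      unfold sig
      rw [Algebra.TensorProduct.one_def, smul_fiber_tmul, mul_one,
        Algebra.algebraMap_eq_smul_one (R := R) (A := S), TensorProduct.tmul_smul,
        TensorProduct.smul_tmul', ← Algebra.algebraMap_eq_smul_one (R := R) (A := p.ResidueField)]
    have a1 : (sig (S := S) p r₁ * sig (S := S) p r₂) • ξ₁ =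
        sig (S := S) p r₂ • (sig (S := S) p r₁ • ξ₁) := by
      rw [mul_comm, mul_smul]
    have a2 : (sig (S := S) p r₁ * sig (S := S) p r₂) • ξ₂ =
        sig (S := S) p r₁ • (sig (S := S) p r₂ • ξ₂) := by
      rw [mul_smul]
    rw [hsig, smul_add, a1, a2, e₁, e₂, hs, hs, tmul_add]
end


open TensorProduct in
/-- The inclusion, valid for any ring R: let R → S be a ring map, M an R-module and N an S-module which
is flat over R. For an associated prime p of M (a prime equal to the annihilator of an element) and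
an associated prime Q of the fibre module N ⊗_R κ(p) over the fibre ring S ⊗_R κ(p), the inverse
image of Q in S is an associated prime of N ⊗_R M. -/
theorem result {R S : Type u} [CommRing R] [CommRing S] [Algebra R S] (M : Type u) [AddCommGroup M] [Module R M] (N : Type u) [AddCommGroup N] [Module S N] [Module R N] [IsScalarTower R S N] [Module.Flat R N]
    (p : Ideal R) [p.IsPrime] (hp : p ∈ FlatCA.ass R M) (Q : Ideal (p.Fiber S)) (hQ : Q ∈ FlatCA.ass (p.Fiber S) (FlatCA.fiberMod p S N)) :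
    Q.comap (Algebra.TensorProduct.includeRight (R := R) (A := p.ResidueField) (B := S)).toRingHom ∈ FlatCA.ass S (N ⊗[R] M) := by
  obtain ⟨-, m, hm⟩ := hp
  obtain ⟨hQprime, ξ', hξ'⟩ := hQ
  obtain ⟨ξ, hξ⟩ : ∃ ξ : (p.Fiber S) ⊗[S] N, ∀ x : p.Fiber S, x ∈ Q ↔ x • ξ = 0 := by
    refine ⟨ξ', fun x => ?_⟩
    rw [hξ', Submodule.mem_annihilator_span_singleton]
    exact Iff.rfl
  obtain ⟨r, hr, n, e⟩ := exists_rep N p ξ
  have hQp : Q.IsPrime := hQprime
  refine ⟨Ideal.comap_isPrime _ Q, n ⊗ₜ[R] m, ?_⟩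
  -- the embedding R/p → M
  have hpm : ∀ x : R, x ∈ p ↔ x • m = 0 := by
    intro x
    rw [hm, Submodule.mem_annihilator_span_singleton]
  have hle : p ≤ LinearMap.ker (LinearMap.toSpanSingleton R M m) := by
    intro x hx
    rw [LinearMap.mem_ker, LinearMap.toSpanSingleton_apply]
    exact (hpm x).mp hx
  let φ : (R ⧸ p) →ₗ[R] M := Submodule.liftQ p (LinearMap.toSpanSingleton R M m) hle
  have hφ : Function.Injective φ := by
    rw [← LinearMap.ker_eq_bot]
    apply Submodule.ker_liftQ_eq_bot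
    intro x hx
    rw [LinearMap.mem_ker, LinearMap.toSpanSingleton_apply] at hx
    exact (hpm x).mpr hx
  have hφ1 : φ (1 : R ⧸ p) = m := by
    change φ (Submodule.Quotient.mk (1 : R)) = m
    rw [Submodule.liftQ_apply, LinearMap.toSpanSingleton_apply, one_smul]
  have hinj := Module.Flat.lTensor_preserves_injective_linearMap (M := N) φ hφ
  ext t
  rw [Ideal.mem_comap, Submodule.mem_annihilator_span_singleton, hξ]
  have hu := sig_isUnit (S := S) p r hr
  have step1 : (Algebra.TensorProduct.includeRight (R := R) (A := p.ResidueField)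
      (B := S)).toRingHom t • ξ = 0 ↔
      ((1 : p.Fiber S) ⊗ₜ[S] (t • n) : (p.Fiber S) ⊗[S] N) = 0 := by
    have h1 : sig (S := S) p r • ((Algebra.TensorProduct.includeRight (R := R)
        (A := p.ResidueField) (B := S)).toRingHom t • ξ) =
        ((1 : p.Fiber S) ⊗ₜ[S] (t • n) : (p.Fiber S) ⊗[S] N) := by
      rw [smul_comm, e, TensorProduct.smul_tmul', smul_eq_mul, mul_one, ← TensorProduct.smul_tmul]
      congr 1
      change (1 : p.ResidueField) ⊗ₜ[R] t = t • (1 : p.Fiber S)
      rw [Algebra.TensorProduct.one_def, smul_fiber_tmul, mul_one]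
    rw [← h1]
    constructor
    · intro h
      rw [h, smul_zero]
    · intro h
      exact (hu.smul_left_cancel).mp (h.trans (smul_zero _).symm)
  rw [step1]
  constructor
  · intro h
    have h2 := tmul_one_quot_eq_zero (S := S) N p (t • n) h
    have h3 := congrArg (φ.lTensor N) h2
    rw [map_zero, LinearMap.lTensor_tmul, hφ1] at h3
    rw [TensorProduct.smul_tmul']
    exact h3
  · intro h
    apply one_tmul_eq_zero_of_tmul_one_quot (S := S) N p (t • n)
    apply hinj
    rw [map_zero, LinearMap.lTensor_tmul, hφ1, ← TensorProduct.smul_tmul']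
    exact h

end Groth.Agent.S9648
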