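import Groth.Statements.S9649
import Mathlib
import Groth.Agent.Lib.Helper3.FrobRed
import Groth.Agent.Lib.Helper17.SmoothArtin

set_option autoImplicit false
universe u
open CAlg

namespace Groth.Agent.S9649

open TensorProduct in
/-- if `k̄ ⊗ K` is reduced, `p`-th powers of linearly independent families stay independent -/
theorem lin_pow {k K : Type u} [Field k] [Field K] [Algebra k K] (p : ℕ) [Fact p.Prime] [CharP k p]
    [IsReduced (AlgebraicClosure k ⊗[k] K)] {ι : Type*} (v : ι → K)
    (hv : LinearIndependent k v) : LinearIndependent k (fun i => v i ^ p) := by
  classical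
  have hp : p.Prime := Fact.out
  have h' := hv.linearIndepOn_id
  let b := Module.Basis.extend h'
  have hk' : ∀ a : k, ∃ c : AlgebraicClosure k, c ^ p = algebraMap k (AlgebraicClosure k) a :=
    fun a => IsAlgClosed.exists_pow_nat_eq _ hp.pos
  have h1 := Groth.Agent.Lib.helper3.FrobRed.linearIndependent_pow p (AlgebraicClosure k) hk' K b
  let f (i : ι) : ↥(h'.extend (Set.range v).subset_univ) := ⟨v i, h'.subset_extend _ ⟨i, rfl⟩⟩
  have h2 := h1.comp f fun _ _ heq ↦ hv.injective (by simpa only [f, Subtype.mk.injEq] using heq)
  convert h2 using 1
  funext i
  simp only [Function.comp_apply, b, f]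
  rw [Module.Basis.extend_apply_self]

/-- A separably generated field extension is separable. Precisely: let K/k be a field extension
admitting a transcendence basis x over whose generated subfield k(x) the field K is separable
algebraic; then every finitely generated subextension K' of K/k also admits such a transcendence
basis. -/
theorem result {k K : Type u} [Field k] [Field K] [Algebra k K]
    (h : ∃ (ι : Type u) (x : ι → K), IsTranscendenceBasis k x ∧ Algebra.IsSeparable (IntermediateField.adjoin k (Set.range x)) K)
    (K' : IntermediateField k K) (hK' : ∃ s : Finset K, IntermediateField.adjoin k (s : Set K) = K') :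
    ∃ (ι : Type u) (x : ι → K'), IsTranscendenceBasis k x ∧ Algebra.IsSeparable (IntermediateField.adjoin k (Set.range x)) K' := by
  classical
  obtain ⟨ι, x, hx, hsep⟩ := h
  have := hsep
  have hfs : Algebra.FormallySmooth k K :=
    Algebra.FormallySmooth.of_algebraicIndependent_of_isSeparable hx.1
  have hgr : Algebra.IsGeometricallyReduced k K :=
    Groth.Agent.Lib.helper17.SmoothArtin.isGeometricallyReduced_of_formallySmooth
  have hred : IsReduced (TensorProduct k (AlgebraicClosure k) K) :=
    (Algebra.isGeometricallyReduced_field_iff k K).mp hgr
  have hess : Algebra.EssFiniteType k K' := by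
    rw [IntermediateField.essFiniteType_iff]
    obtain ⟨s, hs⟩ := hK'
    exact ⟨s, hs⟩
  have key : ∃ s : Finset K', IsTranscendenceBasis k ((↑) : s → K') ∧
      Algebra.IsSeparable (IntermediateField.adjoin k (s : Set K')) K' := by
    obtain _ | ⟨p, hp, hpk⟩ := CharP.exists' k
    · exact exists_isTranscendenceBasis_and_isSeparable_of_perfectField k K'
    · have : Fact p.Prime := hp
      refine exists_isTranscendenceBasis_and_isSeparable_of_linearIndepOn_pow_of_essFiniteType
        p hp.out ?_
      intro s hs
      have h1 : LinearIndependent k (fun i : (s : Set K') => ((i : K') : K)) := by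
        have := LinearIndependent.map' hs K'.val.toLinearMap
          (LinearMap.ker_eq_bot_of_injective K'.val.injective)
        exact this
      have h2 := lin_pow p _ h1
      have h3 : LinearIndependent k (fun i : (s : Set K') => (i : K') ^ p) := by
        apply LinearIndependent.of_comp K'.val.toLinearMap
        have he : (⇑K'.val.toLinearMap ∘ fun i : (s : Set K') => (i : K') ^ p) =
            fun i : (s : Set K') => ((i : K') : K) ^ p := by
          funext i
          simp
        rw [he]
        exact h2
      exact h3
  obtain ⟨s, hs1, hs2⟩ := key
  refine ⟨↥s, ((↑) : s → K'), hs1, ?_⟩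
  have : Set.range ((↑) : s → K') = (s : Set K') := Subtype.range_coe
  rw [this]
  exact hs2

end Groth.Agent.S9649
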