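import Groth.Statements.S9651
import Mathlib
import Groth.Agent.Lib.Helper11.GenFree8
-- import your own Groth.Agent.* helpers here

set_option autoImplicit false
universe u
open CAlg

namespace Groth.Agent.S9651

open Groth.Agent.Lib.helper11.GenFree TensorProduct

/-- domains `R ⊆ T` with `T` of finite type: the image of `Spec T` contains a nonempty basic open. -/
theorem exists_basicOpen_subset_range {R T : Type u} [CommRing R] [IsDomain R] [CommRing T]
    [IsDomain T] [Algebra R T] [Algebra.FiniteType R T]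
    (hinj : Function.Injective (algebraMap R T)) :
    ∃ a : R, a ≠ 0 ∧ ∀ p : PrimeSpectrum R, a ∉ p.asIdeal →
      p ∈ Set.range (PrimeSpectrum.comap (algebraMap R T)) := by
  obtain ⟨a, ha, hPF⟩ := GF_of_finiteType_domain (R := R) T T
  refine ⟨a, ha, fun p hp => ?_⟩
  unfold PF at hPF
  -- notation
  let L := Localization.Away a
  let P := L ⊗[R] T
  -- `P` is nontrivial: it maps to the fraction field of `T`
  have haT : algebraMap R (FractionRing T) a ≠ 0 := by
    rw [IsScalarTower.algebraMap_apply R T (FractionRing T)]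
    intro h
    have h1 := (IsFractionRing.injective T (FractionRing T)) (h.trans (map_zero _).symm)
    exact ha (hinj (h1.trans (map_zero _).symm))
  let φL : L →ₐ[R] FractionRing T :=
    IsLocalization.liftAlgHom (M := Submonoid.powers a) (f := Algebra.ofId R (FractionRing T))
      (by
        rintro ⟨_, n, rfl⟩
        simp only [Algebra.ofId_apply, map_pow]
        exact (IsUnit.mk0 _ haT).pow n)
  let φ : P →ₐ[R] FractionRing T :=
    Algebra.TensorProduct.productMap φL (IsScalarTower.toAlgHom R T (FractionRing T))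
  haveI : Nontrivial P := φ.toRingHom.domain_nontrivial
  haveI : Module.FaithfullyFlat L P := inferInstance
  -- the prime of `L` over `p`
  have hdisj : Disjoint (Submonoid.powers a : Set R) (p.asIdeal : Set R) := by
    rw [Set.disjoint_left]
    rintro _ ⟨n, rfl⟩ hn
    exact hp (p.2.mem_of_pow_mem n hn)
  obtain ⟨pL, hpL⟩ : ∃ pL : PrimeSpectrum L, PrimeSpectrum.comap (algebraMap R L) pL = p := by
    have := (PrimeSpectrum.localization_comap_range L (Submonoid.powers a))
    have hmem : p ∈ Set.range (PrimeSpectrum.comap (algebraMap R L)) := by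
      rw [this]; exact hdisj
    exact hmem
  obtain ⟨Q, hQ⟩ := PrimeSpectrum.comap_surjective_of_faithfullyFlat (A := L) (B := P) pL
  refine ⟨PrimeSpectrum.comap (Algebra.TensorProduct.includeRight : T →ₐ[R] P).toRingHom Q, ?_⟩
  rw [← hpL, ← hQ]
  rw [← PrimeSpectrum.comap_comp_apply, ← PrimeSpectrum.comap_comp_apply]
  congr 1
  ext r
  simp [Algebra.algebraMap_eq_smul_one]

theorem main {R S : Type u} [CommRing R] [CommRing S] [Algebra R S] [Algebra.FiniteType R S]
    (E : Set (PrimeSpectrum S)) (hE : Topology.IsConstructible E) (ξ : PrimeSpectrum R)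
    (hξ : ξ ∈ PrimeSpectrum.comap (algebraMap R S) '' E) :
    ∃ U : Set (PrimeSpectrum R), IsOpen U ∧
      closure ({ξ} : Set (PrimeSpectrum R)) ⊆ closure (U ∩ closure {ξ}) ∧
      U ∩ closure {ξ} ⊆ PrimeSpectrum.comap (algebraMap R S) '' E := by
  obtain ⟨q, hqE, rfl⟩ := hξ
  -- a basic open piece of `E` through `q`
  obtain ⟨g, hgq, hgE⟩ : ∃ g : S, g ∉ q.asIdeal ∧ ∀ q' : PrimeSpectrum S,
      q.asIdeal ≤ q'.asIdeal → g ∉ q'.asIdeal → q' ∈ E := by
    obtain ⟨D, rfl⟩ := PrimeSpectrum.exists_constructibleSetData_iff.mpr hE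
    rw [PrimeSpectrum.ConstructibleSetData.toSet, Set.mem_iUnion₂] at hqE
    obtain ⟨C, hC, hqC⟩ := hqE
    rw [PrimeSpectrum.BasicConstructibleSetData.toSet] at hqC
    refine ⟨C.f, ?_, fun q' hqq' hgq' => ?_⟩
    · intro h
      exact hqC.2 (by simpa [PrimeSpectrum.mem_zeroLocus] using h)
    · rw [PrimeSpectrum.ConstructibleSetData.toSet, Set.mem_iUnion₂]
      refine ⟨C, hC, ?_, ?_⟩
      · rw [PrimeSpectrum.mem_zeroLocus]
        exact fun x hx => hqq' ((PrimeSpectrum.mem_zeroLocus _ _).mp hqC.1 hx)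
      · intro h
        exact hgq' (by simpa [PrimeSpectrum.mem_zeroLocus] using h)
  -- the quotient domains
  set p : Ideal R := q.asIdeal.comap (algebraMap R S) with hp
  haveI : p.IsPrime := Ideal.IsPrime.comap _
  let Rb := R ⧸ p
  let Sb := S ⧸ q.asIdeal
  have hinj1 : Function.Injective (algebraMap Rb Sb) := Ideal.algebraMap_quotient_injective
  have hg0 : (Ideal.Quotient.mk q.asIdeal g : Sb) ≠ 0 := by
    rw [Ne, Ideal.Quotient.eq_zero_iff_mem]; exact hgq
  let T := Localization.Away (Ideal.Quotient.mk q.asIdeal g : Sb)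
  have hle : Submonoid.powers (Ideal.Quotient.mk q.asIdeal g : Sb) ≤ nonZeroDivisors Sb :=
    powers_le_nonZeroDivisors_of_noZeroDivisors hg0
  haveI : IsDomain T := IsLocalization.isDomain_localization hle
  have hinj2 : Function.Injective (algebraMap Sb T) := IsLocalization.injective T hle
  haveI : Algebra.FiniteType R Sb := Algebra.FiniteType.trans (inferInstance : Algebra.FiniteType R S)
    inferInstance
  haveI : Algebra.FiniteType Rb Sb := Algebra.FiniteType.of_restrictScalars_finiteType R Rb Sb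
  haveI : Algebra.FiniteType Sb T :=
    IsLocalization.finiteType_of_monoid_fg (Submonoid.powers (Ideal.Quotient.mk q.asIdeal g : Sb)) T
  haveI : Algebra.FiniteType Rb T := Algebra.FiniteType.trans (inferInstance : Algebra.FiniteType Rb Sb)
    inferInstance
  have hinj : Function.Injective (algebraMap Rb T) := by
    rw [IsScalarTower.algebraMap_eq Rb Sb T]
    exact hinj2.comp hinj1
  obtain ⟨a, ha0, ha⟩ := exists_basicOpen_subset_range (R := Rb) (T := T) hinj
  obtain ⟨a', rfl⟩ := Ideal.Quotient.mk_surjective a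
  have ha'p : a' ∉ p := by
    intro h
    exact ha0 (Ideal.Quotient.eq_zero_iff_mem.mpr h)
  have hξU : (⟨p, inferInstance⟩ : PrimeSpectrum R) ∈ (PrimeSpectrum.basicOpen a' : Set (PrimeSpectrum R)) :=
    ha'p
  have hξeq : PrimeSpectrum.comap (algebraMap R S) q = ⟨p, inferInstance⟩ := rfl
  refine ⟨PrimeSpectrum.basicOpen a', (PrimeSpectrum.basicOpen a').2, ?_, ?_⟩
  · apply closure_mono
    rw [Set.singleton_subset_iff, hξeq]
    exact ⟨hξU, subset_closure rfl⟩
  · rintro x ⟨hxU, hxcl⟩
    rw [hξeq, ← specializes_iff_mem_closure, ← PrimeSpectrum.le_iff_specializes] at hxcl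
    have hpx : p ≤ x.asIdeal := hxcl
    -- the prime of `Rb`
    obtain ⟨xb, hxb⟩ : ∃ xb : PrimeSpectrum Rb, PrimeSpectrum.comap (Ideal.Quotient.mk p) xb = x := by
      have hmem : x ∈ Set.range (PrimeSpectrum.comap (Ideal.Quotient.mk p)) := by
        rw [_root_.range_comap_of_surjective _ _ Ideal.Quotient.mk_surjective,
          Ideal.mk_ker, PrimeSpectrum.mem_zeroLocus]
        exact hpx
      exact hmem
    have haxb : Ideal.Quotient.mk p a' ∉ xb.asIdeal := by
      intro h
      apply hxU
      rw [← hxb]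
      exact h
    obtain ⟨t, ht⟩ := ha xb haxb
    let ψ : S →+* T := (algebraMap Sb T).comp (Ideal.Quotient.mk q.asIdeal)
    refine ⟨PrimeSpectrum.comap ψ t, hgE _ ?_ ?_, ?_⟩
    · intro s hs
      show ψ s ∈ t.asIdeal
      have : ψ s = 0 := by
        show algebraMap Sb T (Ideal.Quotient.mk q.asIdeal s) = 0
        rw [Ideal.Quotient.eq_zero_iff_mem.mpr hs, map_zero]
      rw [this]; exact zero_mem _
    · intro h
      have h1 : ψ g ∈ t.asIdeal := h
      have h2 : IsUnit (ψ g) := by
        show IsUnit (algebraMap Sb T (Ideal.Quotient.mk q.asIdeal g))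
        exact IsLocalization.Away.algebraMap_isUnit (Ideal.Quotient.mk q.asIdeal g)
      exact t.2.ne_top (Ideal.eq_top_of_isUnit_mem _ h1 h2)
    · rw [← hxb, ← ht, ← PrimeSpectrum.comap_comp_apply, ← PrimeSpectrum.comap_comp_apply]
      congr 1


/-- Let R → S be a ring map of finite type, f : Spec(S) → Spec(R) the induced map and E ⊆ Spec(S) a
constructible subset. If ξ ∈ f(E) then f(E) ∩ cl{ξ} contains an open dense subset of the closure
cl{ξ}: some open U of Spec(R) has U ∩ cl{ξ} dense in cl{ξ} and contained in f(E). -/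
theorem result {R S : Type u} [CommRing R] [CommRing S] [Algebra R S] [Algebra.FiniteType R S]
    (E : Set (PrimeSpectrum S)) (hE : Topology.IsConstructible E) (ξ : PrimeSpectrum R) (hξ : ξ ∈ PrimeSpectrum.comap (algebraMap R S) '' E) :
    ∃ U : Set (PrimeSpectrum R), IsOpen U ∧ closure ({ξ} : Set (PrimeSpectrum R)) ⊆ closure (U ∩ closure {ξ}) ∧ U ∩ closure {ξ} ⊆ PrimeSpectrum.comap (algebraMap R S) '' E := by
  exact main E hE ξ hξ

end Groth.Agent.S9651
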