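import Groth.Statements.S9652
import Mathlib
import Groth.Agent.S9651
-- import your own Groth.Agent.* helpers here

set_option autoImplicit false
universe u
open CAlg

namespace Groth.Agent.S9652

/-- closed points map to closed points under a finite type map of Jacobson rings -/
theorem isClosed_singleton_comap {R S : Type u} [CommRing R] [CommRing S] [Algebra R S]
    [IsJacobsonRing R] [Algebra.FiniteType R S] (y : PrimeSpectrum S)
    (hy : IsClosed ({y} : Set (PrimeSpectrum S))) :
    IsClosed ({PrimeSpectrum.comap (algebraMap R S) y} : Set (PrimeSpectrum R)) := by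
  rw [PrimeSpectrum.isClosed_singleton_iff_isMaximal] at hy ⊢
  letI : Field (S ⧸ y.asIdeal) := Ideal.Quotient.field _
  haveI : Algebra.FiniteType R (S ⧸ y.asIdeal) :=
    Algebra.FiniteType.trans (inferInstance : Algebra.FiniteType R S) inferInstance
  haveI : Module.Finite R (S ⧸ y.asIdeal) := finite_of_finite_type_of_isJacobsonRing R _
  haveI : Algebra.IsIntegral R (S ⧸ y.asIdeal) := inferInstance
  have h := Ideal.isMaximal_comap_of_isIntegral_of_isMaximal (R := R) (⊥ : Ideal (S ⧸ y.asIdeal))
  convert h using 1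
  ext r
  simp only [PrimeSpectrum.comap_asIdeal, Ideal.mem_comap, Ideal.mem_bot]
  rw [IsScalarTower.algebraMap_apply R S (S ⧸ y.asIdeal), Ideal.Quotient.algebraMap_eq,
    Ideal.Quotient.eq_zero_iff_mem]

/-- the points of a constructible subset of a Jacobson spectrum that are closed in it are closed -/
theorem isClosed_singleton_of_mem_closedIn {S : Type u} [CommRing S] [IsJacobsonRing S]
    (E : Set (PrimeSpectrum S)) (hE : Topology.IsConstructible E) (y : PrimeSpectrum S)
    (hyE : y ∈ E) (hy : closure {y} ∩ E = {y}) : IsClosed ({y} : Set (PrimeSpectrum S)) := by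
  obtain ⟨D, rfl⟩ := PrimeSpectrum.exists_constructibleSetData_iff.mpr hE
  rw [PrimeSpectrum.ConstructibleSetData.toSet, Set.mem_iUnion₂] at hyE
  obtain ⟨C, hC, hyC⟩ := hyE
  rw [PrimeSpectrum.BasicConstructibleSetData.toSet] at hyC
  apply isClosed_singleton_of_isLocallyClosed_singleton
  have hEq : ({y} : Set (PrimeSpectrum S)) =
      (PrimeSpectrum.zeroLocus {C.f})ᶜ ∩ closure {y} := by
    apply Set.Subset.antisymm
    · rw [Set.singleton_subset_iff]
      exact ⟨hyC.2, subset_closure rfl⟩
    · rintro z ⟨hz1, hz2⟩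
      rw [← hy]
      refine ⟨hz2, ?_⟩
      rw [PrimeSpectrum.ConstructibleSetData.toSet, Set.mem_iUnion₂]
      refine ⟨C, hC, ?_, hz1⟩
      have : closure {y} ⊆ PrimeSpectrum.zeroLocus (Set.range C.g) :=
        closure_minimal (Set.singleton_subset_iff.mpr hyC.1) (PrimeSpectrum.isClosed_zeroLocus _)
      exact this hz2
  rw [hEq]
  exact ((PrimeSpectrum.isClosed_zeroLocus _).isOpen_compl).isLocallyClosed.inter
    isClosed_closure.isLocallyClosed

/-- a closed point in the image of a constructible set is the image of a closed point -/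
theorem exists_closed_preimage {R S : Type u} [CommRing R] [CommRing S] [Algebra R S]
    [IsJacobsonRing S] (E : Set (PrimeSpectrum S)) (hE : Topology.IsConstructible E)
    (x : PrimeSpectrum R) (hx : IsClosed ({x} : Set (PrimeSpectrum R)))
    (hxE : x ∈ PrimeSpectrum.comap (algebraMap R S) '' E) :
    ∃ y ∈ E, IsClosed ({y} : Set (PrimeSpectrum S)) ∧
      PrimeSpectrum.comap (algebraMap R S) y = x := by
  obtain ⟨y', hy'E, rfl⟩ := hxE
  obtain ⟨D, rfl⟩ := PrimeSpectrum.exists_constructibleSetData_iff.mpr hE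
  rw [PrimeSpectrum.ConstructibleSetData.toSet, Set.mem_iUnion₂] at hy'E
  obtain ⟨C, hC, hyC⟩ := hy'E
  have hlc : IsLocallyClosed (C.toSet ∩
      PrimeSpectrum.comap (algebraMap R S) ⁻¹' {PrimeSpectrum.comap (algebraMap R S) y'}) := by
    apply IsLocallyClosed.inter
    · rw [PrimeSpectrum.BasicConstructibleSetData.toSet]
      exact (PrimeSpectrum.isClosed_zeroLocus _).isLocallyClosed.inter
        ((PrimeSpectrum.isClosed_zeroLocus _).isOpen_compl).isLocallyClosed
    · exact (hx.preimage (PrimeSpectrum.continuous_comap _)).isLocallyClosed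
  have hne : (C.toSet ∩ PrimeSpectrum.comap (algebraMap R S) ⁻¹'
      {PrimeSpectrum.comap (algebraMap R S) y'}).Nonempty := ⟨y', hyC, rfl⟩
  obtain ⟨y, ⟨hy1, hy2⟩, hy3⟩ := nonempty_inter_closedPoints hne hlc
  refine ⟨y, ?_, hy3, hy2⟩
  rw [PrimeSpectrum.ConstructibleSetData.toSet, Set.mem_iUnion₂]
  exact ⟨C, hC, hy1⟩

theorem main {R S : Type u} [CommRing R] [CommRing S] [Algebra R S] [IsJacobsonRing R]
    [IsJacobsonRing S] [Algebra.FiniteType R S]
    (E : Set (PrimeSpectrum S)) (hE : Topology.IsConstructible E) :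
    {x | x ∈ PrimeSpectrum.comap (algebraMap R S) '' E ∧
        closure {x} ∩ PrimeSpectrum.comap (algebraMap R S) '' E = {x}} =
        PrimeSpectrum.comap (algebraMap R S) '' {y | y ∈ E ∧ closure {y} ∩ E = {y}} ∧
      PrimeSpectrum.comap (algebraMap R S) '' {y | y ∈ E ∧ closure {y} ∩ E = {y}} =
        {x | IsClosed ({x} : Set (PrimeSpectrum R))} ∩
          PrimeSpectrum.comap (algebraMap R S) '' E := by
  have hsub : ∀ y : PrimeSpectrum S, y ∈ E → IsClosed ({y} : Set (PrimeSpectrum S)) →
      closure {y} ∩ E = {y} := by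
    intro y hy hcl
    rw [hcl.closure_eq]
    exact Set.inter_eq_left.mpr (Set.singleton_subset_iff.mpr hy)
  constructor
  · apply Set.Subset.antisymm
    · rintro x ⟨hx1, hx2⟩
      -- `x` is closed
      obtain ⟨U, hU, hU1, hU2⟩ := Groth.Agent.S9651.result E hE x hx1
      have hxcl : IsClosed ({x} : Set (PrimeSpectrum R)) := by
        apply isClosed_singleton_of_isLocallyClosed_singleton
        have hUx : U ∩ closure {x} ⊆ {x} := by
          intro z hz
          have hz' : z ∈ closure {x} ∩ PrimeSpectrum.comap (algebraMap R S) '' E :=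
            ⟨hz.2, hU2 hz⟩
          rw [hx2] at hz'
          exact hz'
        have hne : (U ∩ closure {x}).Nonempty := by
          by_contra h
          rw [Set.not_nonempty_iff_eq_empty] at h
          rw [h, closure_empty] at hU1
          exact hU1 (subset_closure rfl)
        have : U ∩ closure {x} = {x} := by
          apply Set.Subset.antisymm hUx
          obtain ⟨z, hz⟩ := hne
          rw [Set.singleton_subset_iff]
          have := hUx hz
          rw [Set.mem_singleton_iff] at this
          exact this ▸ hz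
        rw [← this]
        exact hU.isLocallyClosed.inter isClosed_closure.isLocallyClosed
      obtain ⟨y, hyE, hycl, rfl⟩ := exists_closed_preimage E hE x hxcl hx1
      exact ⟨y, ⟨hyE, hsub y hyE hycl⟩, rfl⟩
    · rintro _ ⟨y, ⟨hyE, hy⟩, rfl⟩
      have hycl := isClosed_singleton_of_mem_closedIn E hE y hyE hy
      have hxcl := isClosed_singleton_comap (R := R) y hycl
      refine ⟨⟨y, hyE, rfl⟩, ?_⟩
      rw [hxcl.closure_eq]
      exact Set.inter_eq_left.mpr (Set.singleton_subset_iff.mpr ⟨y, hyE, rfl⟩)
  · apply Set.Subset.antisymm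
    · rintro _ ⟨y, ⟨hyE, hy⟩, rfl⟩
      have hycl := isClosed_singleton_of_mem_closedIn E hE y hyE hy
      exact ⟨isClosed_singleton_comap (R := R) y hycl, ⟨y, hyE, rfl⟩⟩
    · rintro x ⟨hxcl, hx1⟩
      obtain ⟨y, hyE, hycl, rfl⟩ := exists_closed_preimage E hE x hxcl hx1
      exact ⟨y, ⟨hyE, hsub y hyE hycl⟩, rfl⟩


/-- Let R and S be Jacobson rings, R → S a ring map of finite type with induced map f : Spec(S) →
Spec(R), and E ⊆ Spec(S) a constructible subset. Writing T₀ for the set of points of a subspace T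
which are closed in T, one has f(E)₀ = f(E₀) = (Spec R)₀ ∩ f(E). -/
theorem result {R S : Type u} [CommRing R] [CommRing S] [Algebra R S] [IsJacobsonRing R] [IsJacobsonRing S] [Algebra.FiniteType R S]
    (E : Set (PrimeSpectrum S)) (hE : Topology.IsConstructible E) :
    {x | x ∈ PrimeSpectrum.comap (algebraMap R S) '' E ∧ closure {x} ∩ PrimeSpectrum.comap (algebraMap R S) '' E = {x}} =
        PrimeSpectrum.comap (algebraMap R S) '' {y | y ∈ E ∧ closure {y} ∩ E = {y}} ∧
      PrimeSpectrum.comap (algebraMap R S) '' {y | y ∈ E ∧ closure {y} ∩ E = {y}} =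
        {x | IsClosed ({x} : Set (PrimeSpectrum R))} ∩ PrimeSpectrum.comap (algebraMap R S) '' E := by
  exact main E hE

end Groth.Agent.S9652
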