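import Groth.Statements.S9653
import Mathlib
import Groth.Agent.S9651
import Groth.Agent.S9652
-- import your own Groth.Agent.* helpers here

set_option autoImplicit false
universe u
open CAlg

namespace Groth.Agent.S9653

/-- if the image of a basic constructible set meets `cl{ξ}` in a set whose closure contains `ξ`,
then `ξ` is in the image. -/
theorem mem_image_of_mem_closure {R S : Type u} [CommRing R] [CommRing S] [Algebra R S]
    (C : PrimeSpectrum.BasicConstructibleSetData S) (ξ : PrimeSpectrum R)
    (h : ξ ∈ closure (closure {ξ} ∩ PrimeSpectrum.comap (algebraMap R S) '' C.toSet)) :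
    ξ ∈ PrimeSpectrum.comap (algebraMap R S) '' C.toSet := by
  classical
  -- the ideal and the multiplicative set
  let J : Ideal S := Ideal.span (Set.range C.g) ⊔ ξ.asIdeal.map (algebraMap R S)
  let M : Submonoid S := Submonoid.powers C.f ⊔ (ξ.asIdeal.primeCompl.map (algebraMap R S))
  by_cases hJM : Disjoint (J : Set S) (M : Set S)
  · obtain ⟨q, hq, hJq, hqM⟩ := Ideal.exists_le_prime_disjoint J M hJM
    refine ⟨⟨q, hq⟩, ⟨?_, ?_⟩, ?_⟩
    · rw [PrimeSpectrum.mem_zeroLocus]
      exact fun x hx => hJq (Ideal.mem_sup_left (Ideal.subset_span hx))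
    · intro hf
      have hf' : C.f ∈ q := by simpa [PrimeSpectrum.mem_zeroLocus] using hf
      exact Set.disjoint_left.mp hqM hf' (Submonoid.mem_sup_left (Submonoid.mem_powers _))
    · apply PrimeSpectrum.ext
      apply le_antisymm
      · intro r hr
        by_contra hrξ
        have hr' : algebraMap R S r ∈ q := hr
        exact Set.disjoint_left.mp hqM hr'
          (Submonoid.mem_sup_right (Submonoid.mem_map_of_mem _ hrξ))
      · intro r hr
        exact hJq (Ideal.mem_sup_right (Ideal.mem_map_of_mem _ hr))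
  · exfalso
    rw [Set.not_disjoint_iff] at hJM
    obtain ⟨m, hmJ, hmM⟩ := hJM
    obtain ⟨m1, hm1, m2, hm2, rfl⟩ := Submonoid.mem_sup.mp hmM
    obtain ⟨n, rfl⟩ := hm1
    obtain ⟨a, ha, rfl⟩ := hm2
    -- the image meets `cl{ξ}` inside `V(a)`
    have hsub : closure {ξ} ∩ PrimeSpectrum.comap (algebraMap R S) '' C.toSet ⊆
        PrimeSpectrum.zeroLocus {a} := by
      rintro _ ⟨hx1, q, hq, rfl⟩
      rw [← specializes_iff_mem_closure, ← PrimeSpectrum.le_iff_specializes] at hx1
      have hJq : J ≤ q.asIdeal := by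
        apply sup_le
        · rw [Ideal.span_le]
          exact (PrimeSpectrum.mem_zeroLocus _ _).mp hq.1
        · rw [Ideal.map_le_iff_le_comap]
          exact hx1
      have hmem := hJq hmJ
      have hfq : C.f ∉ q.asIdeal := by
        intro hf
        exact hq.2 (by simpa [PrimeSpectrum.mem_zeroLocus] using hf)
      have : algebraMap R S a ∈ q.asIdeal := by
        rcases q.2.mem_or_mem hmem with h1 | h1
        · exact absurd (q.2.mem_of_pow_mem n h1) hfq
        · exact h1
      simpa [PrimeSpectrum.mem_zeroLocus] using this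
    have := closure_minimal hsub (PrimeSpectrum.isClosed_zeroLocus _) h
    have haξ : a ∈ ξ.asIdeal := by simpa [PrimeSpectrum.mem_zeroLocus] using this
    exact ha haξ

theorem main {R S : Type u} [CommRing R] [CommRing S] [Algebra R S] [IsJacobsonRing R]
    [IsJacobsonRing S] [Algebra.FiniteType R S]
    (E : Set (PrimeSpectrum S)) (hE : Topology.IsConstructible E) (ξ : PrimeSpectrum R) :
    ξ ∈ PrimeSpectrum.comap (algebraMap R S) '' E ↔
      closure ({ξ} : Set (PrimeSpectrum R)) ⊆
        closure (closure {ξ} ∩ PrimeSpectrum.comap (algebraMap R S) ''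
          {y | y ∈ E ∧ closure {y} ∩ E = {y}}) := by
  constructor
  · intro hξ
    obtain ⟨U, hU, hU1, hU2⟩ := Groth.Agent.S9651.result E hE ξ hξ
    rw [(Groth.Agent.S9652.result (R := R) E hE).2]
    refine hU1.trans ?_
    have hlc : IsLocallyClosed (U ∩ closure {ξ}) :=
      hU.isLocallyClosed.inter isClosed_closure.isLocallyClosed
    rw [← JacobsonSpace.closure_inter_closedPoints_eq_closure hlc]
    apply closure_mono
    rintro z ⟨hz1, hz2⟩
    exact ⟨hz1.2, hz2, hU2 hz1⟩
  · intro h
    have hξ : ξ ∈ closure (closure {ξ} ∩ PrimeSpectrum.comap (algebraMap R S) '' E) := by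
      have h1 := h (subset_closure rfl)
      refine closure_mono ?_ h1
      rintro z ⟨hz1, y, hy, rfl⟩
      exact ⟨hz1, y, hy.1, rfl⟩
    obtain ⟨D, rfl⟩ := PrimeSpectrum.exists_constructibleSetData_iff.mpr hE
    have hfin : closure {ξ} ∩ PrimeSpectrum.comap (algebraMap R S) '' D.toSet =
        ⋃ C ∈ D, (closure {ξ} ∩ PrimeSpectrum.comap (algebraMap R S) '' C.toSet) := by
      rw [PrimeSpectrum.ConstructibleSetData.toSet, Set.image_iUnion₂, Set.inter_iUnion₂]
    rw [hfin, Finset.closure_biUnion, Set.mem_iUnion₂] at hξ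
    obtain ⟨C, hC, hξC⟩ := hξ
    obtain ⟨y, hy, rfl⟩ := mem_image_of_mem_closure C ξ hξC
    refine ⟨y, ?_, rfl⟩
    rw [PrimeSpectrum.ConstructibleSetData.toSet, Set.mem_iUnion₂]
    exact ⟨C, hC, hy⟩


/-- Let R and S be Jacobson rings, R → S a ring map of finite type with induced map f : Spec(S) →
Spec(R), E ⊆ Spec(S) constructible and E₀ the set of points of E closed in E. Then a point ξ of
Spec(R) lies in f(E) if and only if cl{ξ} ∩ f(E₀) is dense in the closure cl{ξ}. -/
theorem result {R S : Type u} [CommRing R] [CommRing S] [Algebra R S] [IsJacobsonRing R] [IsJacobsonRing S] [Algebra.FiniteType R S]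
    (E : Set (PrimeSpectrum S)) (hE : Topology.IsConstructible E) (ξ : PrimeSpectrum R) :
    ξ ∈ PrimeSpectrum.comap (algebraMap R S) '' E ↔
      closure ({ξ} : Set (PrimeSpectrum R)) ⊆ closure (closure {ξ} ∩ PrimeSpectrum.comap (algebraMap R S) '' {y | y ∈ E ∧ closure {y} ∩ E = {y}}) := by
  exact main E hE ξ

end Groth.Agent.S9653
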