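import Groth.Statements.S9654
import Mathlib
import Groth.Agent.Lib.Helper22.AdjoinInv

set_option autoImplicit false
universe u
open CAlg

namespace Groth.Agent.S9654

/-- Let R be a ring and x, y ∈ R nonzerodivisors. In the localization R_{xy} let a = x/y and b = y/x,
and let R[a], R[b], R[a, b] be the R-subalgebras they generate. If R is integrally closed in R_x or
in R_y, then the sequence 0 → R → R[a] ⊕ R[b] → R[a, b] → 0 (difference map, then sum map) is short
exact; equivalently R[a] ∩ R[b] is the image of R and R[a] + R[b] = R[a, b] inside R_{xy}. -/
theorem result {R : Type u} [CommRing R] (x y : R) (hx : x ∈ nonZeroDivisors R) (hy : y ∈ nonZeroDivisors R)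
    (hint : IsIntegrallyClosedIn R (Localization.Away x) ∨ IsIntegrallyClosedIn R (Localization.Away y)) :
    (Algebra.adjoin R {algebraMap R (Localization.Away (x * y)) (x * x) * IsLocalization.Away.invSelf (x * y)}).toSubmodule ⊓
        (Algebra.adjoin R {algebraMap R (Localization.Away (x * y)) (y * y) * IsLocalization.Away.invSelf (x * y)}).toSubmodule =
        (⊥ : Subalgebra R (Localization.Away (x * y))).toSubmodule ∧
      (Algebra.adjoin R {algebraMap R (Localization.Away (x * y)) (x * x) * IsLocalization.Away.invSelf (x * y)}).toSubmodule ⊔
        (Algebra.adjoin R {algebraMap R (Localization.Away (x * y)) (y * y) * IsLocalization.Away.invSelf (x * y)}).toSubmodule =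
        (Algebra.adjoin R {algebraMap R (Localization.Away (x * y)) (x * x) * IsLocalization.Away.invSelf (x * y), algebraMap R (Localization.Away (x * y)) (y * y) * IsLocalization.Away.invSelf (x * y)}).toSubmodule := by
  set L := Localization.Away (x * y) with hL
  set inv : L := IsLocalization.Away.invSelf (x * y) with hinv
  have hmi : algebraMap R L (x * y) * inv = 1 := IsLocalization.Away.mul_invSelf (x * y)
  set a : L := algebraMap R L (x * x) * inv with ha
  set b : L := algebraMap R L (y * y) * inv with hb
  have hab : a * b = 1 := by
    have : a * b = (algebraMap R L (x * y) * inv) * (algebraMap R L (x * y) * inv) := by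
      rw [ha, hb]; simp only [map_mul]; ring
    rw [this, hmi, one_mul]
  have hay : a * algebraMap R L y = algebraMap R L x := by
    have : a * algebraMap R L y = algebraMap R L x * (algebraMap R L (x * y) * inv) := by
      rw [ha]; simp only [map_mul]; ring
    rw [this, hmi, mul_one]
  have hbx : b * algebraMap R L x = algebraMap R L y := by
    have : b * algebraMap R L x = algebraMap R L y * (algebraMap R L (x * y) * inv) := by
      rw [hb]; simp only [map_mul]; ring
    rw [this, hmi, mul_one]
  refine ⟨?_, Groth.Agent.Lib.helper22.AdjoinInv.adjoin_sup_adjoin a b hab⟩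
  apply le_antisymm
  · rintro z ⟨hza, hzb⟩
    have hz : ∃ r : R, algebraMap R L r = z := by
      rcases hint with h | h
      · exact Groth.Agent.Lib.helper22.AdjoinInv.mem_range_of_mem_inf a b hab x y hx hy hbx h z hza hzb
      · have : IsLocalization.Away (y * x) L := by rw [mul_comm y x]; infer_instance
        exact Groth.Agent.Lib.helper22.AdjoinInv.mem_range_of_mem_inf b a
          (by rw [mul_comm]; exact hab) y x hy hx hay h z hzb hza
    obtain ⟨r, rfl⟩ := hz
    exact Subalgebra.algebraMap_mem _ r
  · refine le_inf ?_ ?_
    · intro z hz
      exact (bot_le : (⊥ : Subalgebra R L) ≤ Algebra.adjoin R {a}) hz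
    · intro z hz
      exact (bot_le : (⊥ : Subalgebra R L) ≤ Algebra.adjoin R {b}) hz

end Groth.Agent.S9654
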