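import Groth.Statements.S9656
import Mathlib
-- import your own Groth.Agent.* helpers here

set_option autoImplicit false
universe u
open CAlg

namespace Groth.Agent.S9656

/-- Let R_i → S_i be ring maps indexed by a finite type ι, with product map R = Π R_i → S = Π S_i. Then
an element (s_i) of S is integral over R exactly when s_i is integral over R_i for every i; so
integral closure in a finite product is computed factor by factor. -/
theorem result {ι : Type u} [Fintype ι] {R S : ι → Type u} [∀ i, CommRing (R i)] [∀ i, CommRing (S i)] (f : ∀ i, R i →+* S i) (s : ∀ i, S i) :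
    (RingHom.pi fun i => (f i).comp (Pi.evalRingHom R i)).IsIntegralElem s ↔ ∀ i, (f i).IsIntegralElem (s i) := by
  classical
  have hcomp : ∀ i, (Pi.evalRingHom S i).comp (RingHom.pi fun i => (f i).comp (Pi.evalRingHom R i))
      = (f i).comp (Pi.evalRingHom R i) := fun i => rfl
  constructor
  · rintro ⟨p, hp, hps⟩ i
    refine ⟨p.map (Pi.evalRingHom R i), hp.map _, ?_⟩
    have := congrArg (Pi.evalRingHom S i) hps
    rw [Polynomial.hom_eval₂, hcomp, map_zero] at this
    rw [Polynomial.eval₂_map]
    exact this
  · intro h
    choose p hp hps using h
    let D : ℕ := ∑ i, (p i).natDegree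
    have hD : ∀ i, (p i).natDegree ≤ D := fun i =>
      Finset.single_le_sum (f := fun i => (p i).natDegree) (fun _ _ => Nat.zero_le _) (Finset.mem_univ i)
    let q : ∀ i, Polynomial (R i) := fun i => p i * Polynomial.X ^ (D - (p i).natDegree)
    have hqd : ∀ i, (q i).natDegree ≤ D := by
      intro i
      refine (Polynomial.natDegree_mul_le).trans ?_
      have h1 := Polynomial.natDegree_X_pow_le (R := R i) (D - (p i).natDegree)
      have := hD i
      omega
    have hqc : ∀ i, (q i).coeff D = 1 := by
      intro i
      have h1 := Polynomial.coeff_mul_X_pow (p i) (D - (p i).natDegree) (p i).natDegree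
      have h2 : (p i).natDegree + (D - (p i).natDegree) = D := by
        have := hD i
        omega
      rw [h2] at h1
      rw [h1]
      exact (hp i).coeff_natDegree
    have hqs : ∀ i, Polynomial.eval₂ (f i) (s i) (q i) = 0 := by
      intro i
      rw [Polynomial.eval₂_mul, hps i, zero_mul]
    let P : Polynomial (∀ i, R i) :=
      ∑ k ∈ Finset.range (D + 1), Polynomial.monomial k (fun i => (q i).coeff k)
    have hPcoeff : ∀ k, P.coeff k = fun i => (q i).coeff k := by
      intro k
      simp only [P, Polynomial.finsetSum_coeff, Polynomial.coeff_monomial]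
      rw [Finset.sum_ite_eq' (Finset.range (D + 1)) k]
      split_ifs with hk
      · rfl
      · funext i
        rw [Finset.mem_range] at hk
        have : (q i).natDegree < k := by have := hqd i; omega
        simp [Polynomial.coeff_eq_zero_of_natDegree_lt this]
    have hPmap : ∀ i, P.map (Pi.evalRingHom R i) = q i := by
      intro i
      ext k
      rw [Polynomial.coeff_map, hPcoeff]
      rfl
    have hPmonic : P.Monic := by
      apply Polynomial.monic_of_natDegree_le_of_coeff_eq_one D
      · rw [Polynomial.natDegree_le_iff_coeff_eq_zero]
        intro k hk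
        rw [hPcoeff]
        funext i
        have : (q i).natDegree < k := lt_of_le_of_lt (hqd i) hk
        simp [Polynomial.coeff_eq_zero_of_natDegree_lt this]
      · rw [hPcoeff]
        funext i
        simpa using hqc i
    refine ⟨P, hPmonic, ?_⟩
    funext i
    have : (Pi.evalRingHom S i) (Polynomial.eval₂ (RingHom.pi fun i => (f i).comp (Pi.evalRingHom R i)) s P)
        = 0 := by
      rw [Polynomial.hom_eval₂, hcomp, ← Polynomial.eval₂_map, hPmap]
      exact hqs i
    exact this

end Groth.Agent.S9656
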