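import Groth.Statements.S9657
import Mathlib
import Groth.Agent.S2150

set_option autoImplicit false
universe u
open CAlg

namespace Groth.Agent.S9657


section aux
open Finset


theorem comp1 {A : Type*} [CommRing A] (c : ℕ → A) (Qt Pt y : A) (d : ℕ)
    (h1 : ∑ i ∈ range (d + 1), c i * y ^ i = 0)
    (h2 : ∑ i ∈ range (d + 1), c i * Qt ^ (d - i) * Pt ^ i = 0) :
    (Qt * y - Pt) * (∑ i ∈ range (d + 1), c i * Qt ^ (d - i) *
      ∑ j ∈ range i, (Qt * y) ^ j * Pt ^ (i - 1 - j)) = 0 := by
  rw [Finset.mul_sum]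
  have hterm : ∀ i ∈ range (d + 1), (Qt * y - Pt) * (c i * Qt ^ (d - i) *
      ∑ j ∈ range i, (Qt * y) ^ j * Pt ^ (i - 1 - j)) =
      Qt ^ d * (c i * y ^ i) - c i * Qt ^ (d - i) * Pt ^ i := by
    intro i hi
    have hid : i ≤ d := by
      have := Finset.mem_range.mp hi
      omega
    have hg := Commute.geom_sum₂_mul (Commute.all (Qt * y) Pt) i
    have hq : Qt ^ d = Qt ^ (d - i) * Qt ^ i := by
      rw [← pow_add, Nat.sub_add_cancel hid]
    calc (Qt * y - Pt) * (c i * Qt ^ (d - i) * ∑ j ∈ range i, (Qt * y) ^ j * Pt ^ (i - 1 - j))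
        = c i * Qt ^ (d - i) * ((∑ j ∈ range i, (Qt * y) ^ j * Pt ^ (i - 1 - j)) *
            (Qt * y - Pt)) := by ring
      _ = c i * Qt ^ (d - i) * ((Qt * y) ^ i - Pt ^ i) := by rw [hg]
      _ = Qt ^ d * (c i * y ^ i) - c i * Qt ^ (d - i) * Pt ^ i := by
          rw [hq, mul_pow]; ring
  rw [Finset.sum_congr rfl hterm, Finset.sum_sub_distrib, ← Finset.mul_sum, h1, h2]
  simp

theorem comp2 {F : Type*} [CommRing F] (a : ℕ → F) (q p b : F) (d : ℕ) (hqb : q * b = p) :
    ∑ i ∈ range (d + 1), a i * q ^ (d - i) * ∑ j ∈ range i, (q * b) ^ j * p ^ (i - 1 - j) =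
      q ^ (d - 1) * ∑ i ∈ range (d + 1), a i * ((i : F) * b ^ (i - 1)) := by
  rw [Finset.mul_sum]
  refine Finset.sum_congr rfl fun i hi => ?_
  have hid : i ≤ d := by
    have := Finset.mem_range.mp hi
    omega
  rcases Nat.eq_zero_or_pos i with rfl | hipos
  · simp
  have hsum : ∑ j ∈ range i, (q * b) ^ j * p ^ (i - 1 - j) = (i : F) * p ^ (i - 1) := by
    rw [hqb]
    have : ∀ j ∈ range i, p ^ j * p ^ (i - 1 - j) = p ^ (i - 1) := by
      intro j hj
      have := Finset.mem_range.mp hj
      rw [← pow_add]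
      congr 1
      omega
    rw [Finset.sum_congr rfl this, Finset.sum_const, Finset.card_range, nsmul_eq_mul]
  rw [hsum, ← hqb, mul_pow]
  have hq : q ^ (d - 1) = q ^ (d - i) * q ^ (i - 1) := by
    rw [← pow_add]
    congr 1
    omega
  rw [hq]
  ring


open Polynomial IntermediateField in
theorem key_abstract {k K : Type u} [Field k] [Field K] [Algebra k K]
    (kt Kt : Type u) [Field kt] [Field Kt] [Algebra k[X] kt] [IsFractionRing k[X] kt]
    [Algebra K[X] Kt] [IsFractionRing K[X] Kt] [Algebra kt Kt]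
    (hcompat : ∀ p : k[X], algebraMap kt Kt (algebraMap k[X] kt p) =
      algebraMap K[X] Kt (p.map (algebraMap k K)))
    (β : Kt) (hβ : IsSeparable kt β) (hnot : β ∉ Set.range (algebraMap kt Kt))
    {A : Type u} [CommRing A] (jE : kt⟮β⟯ →+* A) (jK : K →+* A)
    (hj : ∀ c : k, jE (algebraMap kt kt⟮β⟯ (algebraMap k[X] kt (C c))) = jK (algebraMap k K c))
    (ψ₁ : A →+* Kt) (hψ₁E : ∀ e : kt⟮β⟯, ψ₁ (jE e) = (e : Kt))
    (hψ₁K : ∀ a : K, ψ₁ (jK a) = algebraMap K[X] Kt (C a))
    (hψ₂ : ∀ σ : kt⟮β⟯ →ₐ[kt] AlgebraicClosure Kt, ∃ ψ₂ : A →+* AlgebraicClosure Kt,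
      (∀ e, ψ₂ (jE e) = σ e) ∧
      ∀ a : K, ψ₂ (jK a) = algebraMap Kt (AlgebraicClosure Kt) (algebraMap K[X] Kt (C a)))
    (hprime : (nilradical A).IsPrime) : False := by
  classical
  have hint : IsIntegral kt β := hβ.isIntegral
  have hsep : (minpoly kt β).Separable := hβ
  let gen : kt⟮β⟯ := AdjoinSimple.gen kt β
  let τ : kt := algebraMap k[X] kt X
  let T : A := jE (algebraMap kt kt⟮β⟯ τ)
  let ev : K[X] →+* A := eval₂RingHom jK T
  let y : A := jE gen
  have hψ₁ev : ∀ p : K[X], ψ₁ (ev p) = algebraMap K[X] Kt p := by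
    intro p
    have : ψ₁.comp ev = algebraMap K[X] Kt := by
      apply Polynomial.ringHom_ext
      · intro a
        simp only [RingHom.comp_apply, ev, coe_eval₂RingHom, eval₂_C]
        exact hψ₁K a
      · simp only [RingHom.comp_apply, ev, coe_eval₂RingHom, eval₂_X]
        rw [hψ₁E]
        show algebraMap kt Kt τ = _
        rw [hcompat X, Polynomial.map_X]
    exact RingHom.congr_fun this p
  have hjE : ∀ p : k[X], jE (algebraMap kt kt⟮β⟯ (algebraMap k[X] kt p)) =
      ev (p.map (algebraMap k K)) := by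
    intro p
    have : (jE.comp ((algebraMap kt kt⟮β⟯).comp (algebraMap k[X] kt))) =
        ev.comp (mapRingHom (algebraMap k K)) := by
      apply Polynomial.ringHom_ext
      · intro c
        simp only [RingHom.comp_apply, coe_mapRingHom, map_C, ev, coe_eval₂RingHom, eval₂_C]
        exact hj c
      · simp only [RingHom.comp_apply, coe_mapRingHom, map_X, ev, coe_eval₂RingHom, eval₂_X]
        rfl
    exact RingHom.congr_fun this p
  -- clear denominators of β
  obtain ⟨P, Q, hQ, hPQ⟩ := IsFractionRing.div_surjective (A := K[X]) β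
  have hq0 : algebraMap K[X] Kt Q ≠ 0 :=
    IsFractionRing.to_map_ne_zero_of_mem_nonZeroDivisors hQ
  have hqβ : algebraMap K[X] Kt Q * β = algebraMap K[X] Kt P := by
    rw [← hPQ]; field_simp
  -- clear denominators of the minimal polynomial
  obtain ⟨c, hc, hf₀⟩ := IsLocalization.integerNormalization_spec (nonZeroDivisors k[X])
    (minpoly kt β)
  set f₀ := IsLocalization.integerNormalization (nonZeroDivisors k[X]) (minpoly kt β) with hf₀def
  set d := f₀.natDegree with hd
  have hc0 : algebraMap k[X] kt c ≠ 0 :=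
    IsFractionRing.to_map_ne_zero_of_mem_nonZeroDivisors hc

  -- coefficients
  let cA : ℕ → A := fun i => jE (algebraMap kt kt⟮β⟯ (algebraMap k[X] kt (f₀.coeff i)))
  let a : ℕ → Kt := fun i => algebraMap kt Kt (algebraMap k[X] kt (f₀.coeff i))
  have h1 : ∑ i ∈ range (d + 1), cA i * y ^ i = 0 := by
    have e1 : eval₂ ((algebraMap kt kt⟮β⟯).comp (algebraMap k[X] kt)) gen f₀ = 0 := by
      have e0 : eval₂ (algebraMap kt kt⟮β⟯) gen (minpoly kt β) = 0 := by
        rw [← aeval_def]; exact IntermediateField.aeval_gen_minpoly kt β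
      rw [← eval₂_map, hf₀, Algebra.smul_def, eval₂_mul, e0, mul_zero]
    rw [eval₂_eq_sum_range] at e1
    have e2 := congrArg jE e1
    rw [map_sum, map_zero] at e2
    rw [← e2]
    refine Finset.sum_congr rfl fun i _ => ?_
    rw [map_mul, map_pow]
    rfl
  -- the evaluation of f₀ at β vanishes
  have haβ : ∑ i ∈ range (d + 1), a i * β ^ i = 0 := by
    have e1 : eval₂ ((algebraMap kt Kt).comp (algebraMap k[X] kt)) β f₀ = 0 := by
      have e0 : eval₂ (algebraMap kt Kt) β (minpoly kt β) = 0 := by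
        rw [← aeval_def]; exact minpoly.aeval kt β
      rw [← eval₂_map, hf₀, Algebra.smul_def, eval₂_mul, e0, mul_zero]
    rw [eval₂_eq_sum_range] at e1
    exact e1
  let Qt : A := ev Q
  let Pt : A := ev P
  have h2 : ∑ i ∈ range (d + 1), cA i * Qt ^ (d - i) * Pt ^ i = 0 := by
    have e0 : ∑ i ∈ range (d + 1), (f₀.coeff i).map (algebraMap k K) * Q ^ (d - i) * P ^ i = 0 := by
      apply IsFractionRing.injective K[X] Kt
      rw [map_sum, map_zero]
      have hterm : ∀ i ∈ range (d + 1), algebraMap K[X] Kt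
          ((f₀.coeff i).map (algebraMap k K) * Q ^ (d - i) * P ^ i) =
          (algebraMap K[X] Kt Q) ^ d * (a i * β ^ i) := by
        intro i hi
        have hid : i ≤ d := by
          have := Finset.mem_range.mp hi
          omega
        rw [map_mul, map_mul, map_pow, map_pow, ← hcompat, ← hqβ, mul_pow]
        have hq : (algebraMap K[X] Kt Q) ^ d =
            (algebraMap K[X] Kt Q) ^ (d - i) * (algebraMap K[X] Kt Q) ^ i := by
          rw [← pow_add, Nat.sub_add_cancel hid]
        rw [hq]
        ring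
      rw [Finset.sum_congr rfl hterm, ← Finset.mul_sum, haβ, mul_zero]
    have e1 := congrArg ev e0
    rw [map_sum, map_zero] at e1
    rw [← e1]
    refine Finset.sum_congr rfl fun i _ => ?_
    rw [map_mul, map_mul, map_pow, map_pow, ← hjE]
  have hzw := comp1 cA Qt Pt y d h1 h2
  set z : A := Qt * y - Pt with hz
  set w : A := ∑ i ∈ range (d + 1), cA i * Qt ^ (d - i) *
      ∑ j ∈ range i, (Qt * y) ^ j * Pt ^ (i - 1 - j) with hw
  have hmem : z * w ∈ nilradical A := by rw [hzw]; exact zero_mem _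

  rcases hprime.mem_or_mem hmem with hzN | hwN
  · -- `z` is not nilpotent: use another root of the minimal polynomial
    have hdeg : 2 ≤ (minpoly kt β).natDegree := by
      have h1 : (minpoly kt β).natDegree ≠ 1 := by
        intro h
        apply hnot
        exact (minpoly.natDegree_eq_one_iff).mp h
      have h0 : 0 < (minpoly kt β).natDegree := minpoly.natDegree_pos hint
      omega
    have hspl : ((minpoly kt β).map (algebraMap kt (AlgebraicClosure Kt))).Splits :=
      IsAlgClosed.splits _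
    have hcard : Fintype.card ((minpoly kt β).rootSet (AlgebraicClosure Kt)) =
        (minpoly kt β).natDegree :=
      Polynomial.card_rootSet_eq_natDegree hsep hspl
    have hnt : Nontrivial ((minpoly kt β).rootSet (AlgebraicClosure Kt)) := by
      rw [← Fintype.one_lt_card_iff_nontrivial, hcard]; omega
    obtain ⟨r₁, r₂, hr⟩ := exists_pair_ne ((minpoly kt β).rootSet (AlgebraicClosure Kt))
    obtain ⟨r, hr', hrne⟩ : ∃ r : AlgebraicClosure Kt,
        r ∈ (minpoly kt β).aroots (AlgebraicClosure Kt) ∧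
        r ≠ algebraMap Kt (AlgebraicClosure Kt) β := by
      by_cases h1 : (r₁ : AlgebraicClosure Kt) = algebraMap Kt (AlgebraicClosure Kt) β
      · refine ⟨r₂, ?_, fun h2 => hr (Subtype.ext (h1.trans h2.symm))⟩
        rw [mem_aroots]; exact mem_rootSet.mp r₂.2
      · refine ⟨r₁, ?_, h1⟩
        rw [mem_aroots]; exact mem_rootSet.mp r₁.2
    obtain ⟨σ, hσ⟩ : ∃ σ : kt⟮β⟯ →ₐ[kt] AlgebraicClosure Kt, σ (AdjoinSimple.gen kt β) = r :=
      ⟨(algHomAdjoinIntegralEquiv kt hint).symm ⟨r, hr'⟩,
        algHomAdjoinIntegralEquiv_symm_apply_gen kt hint ⟨r, hr'⟩⟩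
    obtain ⟨ψ₂, hψ₂E, hψ₂K⟩ := hψ₂ σ
    have hψ₂ev : ∀ p : K[X], ψ₂ (ev p) =
        algebraMap Kt (AlgebraicClosure Kt) (algebraMap K[X] Kt p) := by
      intro p
      have : ψ₂.comp ev = (algebraMap Kt (AlgebraicClosure Kt)).comp (algebraMap K[X] Kt) := by
        apply Polynomial.ringHom_ext
        · intro a
          simp only [RingHom.comp_apply, ev, coe_eval₂RingHom, eval₂_C]
          exact hψ₂K a
        · simp only [RingHom.comp_apply, ev, coe_eval₂RingHom, eval₂_X]
          rw [hψ₂E, AlgHom.commutes, IsScalarTower.algebraMap_apply kt Kt (AlgebraicClosure Kt),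
            hcompat X, Polynomial.map_X]
      exact RingHom.congr_fun this p
    have hψy : ψ₂ y = r := (hψ₂E gen).trans hσ
    have hψz : ψ₂ z = algebraMap Kt (AlgebraicClosure Kt) (algebraMap K[X] Kt Q) *
        (r - algebraMap Kt (AlgebraicClosure Kt) β) := by
      rw [hz, map_sub, map_mul, hψ₂ev, hψ₂ev, ← hqβ, map_mul, hψy]
      ring
    have hnil : IsNilpotent (ψ₂ z) := (mem_nilradical.mp hzN).map ψ₂
    have h0 := hnil.eq_zero
    rw [hψz, mul_eq_zero] at h0
    rcases h0 with h0 | h0
    · exact hq0 ((map_eq_zero _).mp h0)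
    · exact hrne (sub_eq_zero.mp h0)
  · -- `w` is not nilpotent: its image under `ψ₁` is a derivative
    have hψy : ψ₁ y = β := hψ₁E gen
    have hψc : ∀ i, ψ₁ (cA i) = a i := fun i => hψ₁E _
    have hψw : ψ₁ w = (algebraMap K[X] Kt Q) ^ (d - 1) *
        ∑ i ∈ range (d + 1), a i * ((i : Kt) * β ^ (i - 1)) := by
      rw [← comp2 a (algebraMap K[X] Kt Q) (algebraMap K[X] Kt P) β d hqβ, hw, map_sum]
      refine Finset.sum_congr rfl fun i _ => ?_
      rw [map_mul, map_mul, map_pow, map_sum, hψc, hψ₁ev]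
      congr 1
      refine Finset.sum_congr rfl fun j _ => ?_
      rw [map_mul, map_pow, map_pow, map_mul, hψ₁ev, hψ₁ev, hψy]
    have hder : ∑ i ∈ range (d + 1), a i * ((i : Kt) * β ^ (i - 1)) =
        algebraMap kt Kt (algebraMap k[X] kt c) * aeval β (derivative (minpoly kt β)) := by
      have e1 : (f₀.map ((algebraMap kt Kt).comp (algebraMap k[X] kt))) =
          C (algebraMap kt Kt (algebraMap k[X] kt c)) * (minpoly kt β).map (algebraMap kt Kt) := by
        rw [← Polynomial.map_map, hf₀, Algebra.smul_def, Polynomial.map_mul,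
          Polynomial.algebraMap_apply, Polynomial.map_C]
      have e2 : (derivative (f₀.map ((algebraMap kt Kt).comp (algebraMap k[X] kt)))).eval β =
          ∑ i ∈ range (d + 1), a i * ((i : Kt) * β ^ (i - 1)) := by
        rw [derivative_eval, sum_over_range' _ _ (d + 1)]
        · refine Finset.sum_congr rfl fun i _ => ?_
          rw [coeff_map, mul_assoc]
          rfl
        · exact Nat.lt_succ_of_le (natDegree_map_le)
        · intro n; simp
      rw [← e2, e1, derivative_C_mul, eval_mul, eval_C, derivative_map, eval_map_algebraMap]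
    have hnil : IsNilpotent (ψ₁ w) := (mem_nilradical.mp hwN).map ψ₁
    have h0 := hnil.eq_zero
    rw [hψw, hder, mul_eq_zero, mul_eq_zero] at h0
    rcases h0 with h0 | h0 | h0
    · exact (pow_ne_zero _ hq0) h0
    · exact hc0 ((map_eq_zero _).mp h0)
    · exact hsep.aeval_derivative_ne_zero (minpoly.aeval kt β) h0



open TensorProduct Polynomial IntermediateField in
theorem mem_range_of_isSeparable {k K : Type u} [Field k] [Field K] [Algebra k K]
    (kt Kt : Type u) [Field kt] [Field Kt] [Algebra k[X] kt] [IsFractionRing k[X] kt]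
    [Algebra K[X] Kt] [IsFractionRing K[X] Kt] [Algebra kt Kt]
    (hcompat : ∀ p : k[X], algebraMap kt Kt (algebraMap k[X] kt p) =
      algebraMap K[X] Kt (p.map (algebraMap k K)))
    (H : ∀ (k' : Type u) [Field k'] [Algebra k k'], IrreducibleSpace (PrimeSpectrum (k' ⊗[k] K)))
    (β : Kt) (hβ : IsSeparable kt β) : β ∈ Set.range (algebraMap kt Kt) := by
  by_contra hnot
  let φE : k →+* kt⟮β⟯ := (algebraMap kt kt⟮β⟯).comp ((algebraMap k[X] kt).comp C)
  letI : Algebra k kt⟮β⟯ := φE.toAlgebra
  let φKt : k →+* Kt := (algebraMap K[X] Kt).comp (C.comp (algebraMap k K))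
  letI : Algebra k Kt := φKt.toAlgebra
  have hprime := PrimeSpectrum.irreducibleSpace_iff_isPrime_nilradical.mp (H kt⟮β⟯)
  have hcE : ∀ c : k, ((algebraMap k kt⟮β⟯ c : kt⟮β⟯) : Kt) = algebraMap k Kt c := by
    intro c
    show algebraMap kt Kt (algebraMap k[X] kt (C c)) = algebraMap K[X] Kt (C (algebraMap k K c))
    rw [hcompat, Polynomial.map_C]
  let f₁ : kt⟮β⟯ →ₐ[k] Kt :=
    { toRingHom := algebraMap kt⟮β⟯ Kt
      commutes' := hcE }
  let g₁ : K →ₐ[k] Kt :=
    { toRingHom := (algebraMap K[X] Kt).comp C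
      commutes' := fun c => rfl }
  refine key_abstract kt Kt hcompat β hβ hnot (A := kt⟮β⟯ ⊗[k] K)
    Algebra.TensorProduct.includeLeftRingHom
    (Algebra.TensorProduct.includeRight : K →ₐ[k] kt⟮β⟯ ⊗[k] K).toRingHom ?_
    (Algebra.TensorProduct.productMap f₁ g₁).toRingHom ?_ ?_ ?_ hprime
  · intro c
    show (algebraMap k kt⟮β⟯ c) ⊗ₜ[k] (1 : K) = (1 : kt⟮β⟯) ⊗ₜ[k] (algebraMap k K c)
    rw [Algebra.algebraMap_eq_smul_one, Algebra.algebraMap_eq_smul_one, TensorProduct.smul_tmul]
  · intro e
    show Algebra.TensorProduct.productMap f₁ g₁ (e ⊗ₜ[k] (1 : K)) = _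
    rw [Algebra.TensorProduct.productMap_apply_tmul, map_one, mul_one]
    rfl
  · intro a
    show Algebra.TensorProduct.productMap f₁ g₁ ((1 : kt⟮β⟯) ⊗ₜ[k] a) = _
    rw [Algebra.TensorProduct.productMap_apply_tmul, map_one, one_mul]
    rfl
  · intro σ
    let f₂ : kt⟮β⟯ →ₐ[k] AlgebraicClosure Kt :=
      { toRingHom := σ.toRingHom
        commutes' := by
          intro c
          show σ (algebraMap kt kt⟮β⟯ (algebraMap k[X] kt (C c))) = _
          rw [AlgHom.commutes, IsScalarTower.algebraMap_apply kt Kt (AlgebraicClosure Kt),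
            IsScalarTower.algebraMap_apply k Kt (AlgebraicClosure Kt)]
          congr 1
          rw [hcompat, Polynomial.map_C]
          rfl }
    let g₂ : K →ₐ[k] AlgebraicClosure Kt :=
      ((IsScalarTower.toAlgHom k Kt (AlgebraicClosure Kt)).comp g₁)
    refine ⟨(Algebra.TensorProduct.productMap f₂ g₂).toRingHom, ?_, ?_⟩
    · intro e
      show Algebra.TensorProduct.productMap f₂ g₂ (e ⊗ₜ[k] (1 : K)) = _
      rw [Algebra.TensorProduct.productMap_apply_tmul, map_one, mul_one]
      rfl
    · intro a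
      show Algebra.TensorProduct.productMap f₂ g₂ ((1 : kt⟮β⟯) ⊗ₜ[k] a) = _
      rw [Algebra.TensorProduct.productMap_apply_tmul, map_one, one_mul]
      rfl




open Polynomial in
theorem const_isSeparable {k K : Type u} [Field k] [Field K] [Algebra k K]
    (kt Kt : Type u) [Field kt] [Field Kt] [Algebra k[X] kt] [IsFractionRing k[X] kt]
    [Algebra K[X] Kt] [IsFractionRing K[X] Kt] [Algebra kt Kt]
    (hcompat : ∀ p : k[X], algebraMap kt Kt (algebraMap k[X] kt p) =
      algebraMap K[X] Kt (p.map (algebraMap k K)))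
    (α : K) (hα : IsSeparable k α) : IsSeparable kt (algebraMap K[X] Kt (C α)) := by
  have hsep : (minpoly k α).Separable := hα
  let φ : k →+* kt := (algebraMap k[X] kt).comp C
  let ρ : K →+* Kt := (algebraMap K[X] Kt).comp C
  have hφρ : (algebraMap kt Kt).comp φ = ρ.comp (algebraMap k K) := by
    ext c
    show algebraMap kt Kt (algebraMap k[X] kt (C c)) = algebraMap K[X] Kt (C (algebraMap k K c))
    rw [hcompat, Polynomial.map_C]
  have hroot : aeval (ρ α) ((minpoly k α).map φ) = 0 := by
    rw [aeval_def, eval₂_map, hφρ, ← hom_eval₂, ← aeval_def, minpoly.aeval, map_zero]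
  have hdvd : minpoly kt (ρ α) ∣ (minpoly k α).map φ := minpoly.dvd kt (ρ α) hroot
  exact (hsep.map (f := φ)).of_dvd hdvd

open Polynomial in
theorem const_mem_range {k K : Type u} [Field k] [Field K] [Algebra k K]
    (kt Kt : Type u) [Field kt] [Field Kt] [Algebra k[X] kt] [IsFractionRing k[X] kt]
    [Algebra K[X] Kt] [IsFractionRing K[X] Kt] [Algebra kt Kt]
    (hcompat : ∀ p : k[X], algebraMap kt Kt (algebraMap k[X] kt p) =
      algebraMap K[X] Kt (p.map (algebraMap k K)))
    (α : K) (h : algebraMap K[X] Kt (C α) ∈ Set.range (algebraMap kt Kt)) :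
    α ∈ Set.range (algebraMap k K) := by
  obtain ⟨x, hx⟩ := h
  obtain ⟨p, q, hq, hpq⟩ := IsFractionRing.div_surjective (A := k[X]) x
  have hq0 : algebraMap k[X] kt q ≠ 0 :=
    IsFractionRing.to_map_ne_zero_of_mem_nonZeroDivisors hq
  have h1 : algebraMap k[X] kt p = x * algebraMap k[X] kt q := by
    rw [← hpq]; field_simp
  have h2 := congrArg (algebraMap kt Kt) h1
  rw [map_mul, hcompat, hcompat, hx, ← map_mul] at h2
  have h3 : p.map (algebraMap k K) = C α * q.map (algebraMap k K) :=
    IsFractionRing.injective K[X] Kt h2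
  have hqne : q ≠ 0 := nonZeroDivisors.ne_zero hq
  obtain ⟨i, hi⟩ : ∃ i, q.coeff i ≠ 0 := by
    by_contra hcon
    push Not at hcon
    exact hqne (Polynomial.ext fun i => by rw [hcon i, coeff_zero])
  have h4 := congrArg (fun r => r.coeff i) h3
  simp only [coeff_map, coeff_C_mul] at h4
  refine ⟨p.coeff i / q.coeff i, ?_⟩
  rw [map_div₀, h4]
  have : algebraMap k K (q.coeff i) ≠ 0 := (_root_.map_ne_zero _).mpr hi
  field_simp


end aux

open TensorProduct in
/-- Let K/k be a field extension and let k(t) ⊆ K(t) be the purely transcendental extensions in one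
variable, realised as fraction fields of k[t] and K[t] compatibly with k[t] → K[t]. Then K is
geometrically irreducible over k (Spec(k' ⊗_k K) irreducible for every field extension k'/k) if and
only if K(t) is geometrically irreducible over k(t). Here the test fields range over field
extensions of k, respectively of k(t), in the universe of k; this is equivalent to the unrestricted
notions, since an algebraic closure of the base field suffices as a test. -/
theorem result {k K : Type u} [Field k] [Field K] [Algebra k K]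
    (kt Kt : Type u) [Field kt] [Field Kt] [Algebra (Polynomial k) kt] [IsFractionRing (Polynomial k) kt] [Algebra (Polynomial K) Kt] [IsFractionRing (Polynomial K) Kt]
    [Algebra kt Kt] (hcompat : ∀ p : Polynomial k, algebraMap kt Kt (algebraMap (Polynomial k) kt p) = algebraMap (Polynomial K) Kt (Polynomial.map (algebraMap k K) p)) :
    (∀ (k' : Type u) [Field k'] [Algebra k k'], IrreducibleSpace (PrimeSpectrum (k' ⊗[k] K))) ↔
      ∀ (L : Type u) [Field L] [Algebra kt L], IrreducibleSpace (PrimeSpectrum (L ⊗[kt] Kt)) := by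
  constructor
  · intro H
    apply (Groth.Agent.S2150.result (k := kt) (K := Kt)).mpr
    intro β hβ
    exact mem_range_of_isSeparable kt Kt hcompat H β hβ
  · intro H
    have h1 := (Groth.Agent.S2150.result (k := kt) (K := Kt)).mp H
    apply (Groth.Agent.S2150.result (k := k) (K := K)).mpr
    intro α hα
    exact const_mem_range kt Kt hcompat α (h1 _ (const_isSeparable kt Kt hcompat α hα))

end Groth.Agent.S9657
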