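import Groth.Statements.S9658
import Mathlib

set_option autoImplicit false
universe u
open CAlg

namespace Groth.Agent.S9658

theorem partition {R : Type u} [CommRing R] {ι : Type u} [Fintype ι] (f : ι → R)
    (hf : Ideal.span (Set.range f) = ⊤) (N : ℕ) : ∃ c : ι → R, ∑ i, c i * f i ^ N = 1 := by
  have h := Ideal.span_pow_eq_top (Set.range f) hf N
  have h2 : (fun x : R => x ^ N) '' Set.range f = Set.range (fun i => f i ^ N) := by
    rw [← Set.range_comp]; rfl
  rw [h2] at h
  have h1 : (1 : R) ∈ Ideal.span (Set.range fun i => f i ^ N) := by rw [h]; trivial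
  exact Ideal.mem_span_range_iff_exists_fun.mp h1



/-- Let R be a ring, f_1, …, f_n ∈ R generating the unit ideal and M an R-module. With M_i = M_{f_i},
M_ij = M_{f_i f_j} (any localizations, with the canonical compatible maps M → M_i → M_ij), the
sequence 0 → M → ⊕ M_i → ⊕ M_ij is exact: an element of M whose image vanishes in every M_i is zero,
and every family (m_i ∈ M_i) such that m_i and m_j have the same image in M_ij for all i, j is the
image of an element of M. -/
theorem result {R : Type u} [CommRing R] {ι : Type u} [Fintype ι] (f : ι → R) (hf : Ideal.span (Set.range f) = ⊤)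
    (M : Type u) [AddCommGroup M] [Module R M]
    (Mi : ι → Type u) [∀ i, AddCommGroup (Mi i)] [∀ i, Module R (Mi i)] (g : ∀ i, M →ₗ[R] Mi i) [∀ i, IsLocalizedModule (Submonoid.powers (f i)) (g i)]
    (Mij : ι → ι → Type u) [∀ i j, AddCommGroup (Mij i j)] [∀ i j, Module R (Mij i j)] (gij : ∀ i j, M →ₗ[R] Mij i j) [∀ i j, IsLocalizedModule (Submonoid.powers (f i * f j)) (gij i j)]
    (ρ₁ : ∀ i j, Mi i →ₗ[R] Mij i j) (hρ₁ : ∀ i j, ρ₁ i j ∘ₗ g i = gij i j) (ρ₂ : ∀ i j, Mi j →ₗ[R] Mij i j) (hρ₂ : ∀ i j, ρ₂ i j ∘ₗ g j = gij i j) :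
    (∀ m : M, (∀ i, g i m = 0) → m = 0) ∧
      ∀ s : ∀ i, Mi i, (∀ i j, ρ₁ i j (s i) = ρ₂ i j (s j)) → ∃ m : M, ∀ i, g i m = s i := by
  constructor
  · intro m hm
    have h1 : ∀ i, ∃ n : ℕ, f i ^ n • m = 0 := by
      intro i
      obtain ⟨n, hn⟩ := IsLocalizedModule.Away.exists_of_eq (f := g i) (f i) (x := m) (y := 0)
        (by rw [hm i, map_zero])
      exact ⟨n, by rw [hn, smul_zero]⟩
    choose n hn using h1
    obtain ⟨c, hc⟩ := partition f hf (Finset.univ.sup n)
    have hm' : m = ∑ i, (c i * f i ^ (Finset.univ.sup n)) • m := by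
      rw [← Finset.sum_smul, hc, one_smul]
    rw [hm']
    apply Finset.sum_eq_zero
    intro i _
    have hle : n i ≤ Finset.univ.sup n := Finset.le_sup (Finset.mem_univ i)
    obtain ⟨t, ht⟩ := Nat.exists_eq_add_of_le hle
    have e : c i * f i ^ (n i + t) = (c i * f i ^ t) * f i ^ n i := by ring
    rw [ht, e, mul_smul, hn i, smul_zero]
  · intro s hs
    have h1 : ∀ i, ∃ (n : ℕ) (x : M), f i ^ n • s i = g i x :=
      fun i => IsLocalizedModule.Away.surj (g i) (f i) (s i)
    choose n x hx using h1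
    obtain ⟨N, hN⟩ : ∃ N, ∀ i, n i ≤ N :=
      ⟨Finset.univ.sup n, fun i => Finset.le_sup (Finset.mem_univ i)⟩
    have h2 : ∀ i, ∃ y : M, f i ^ N • s i = g i y := by
      intro i
      obtain ⟨t, ht⟩ := Nat.exists_eq_add_of_le (hN i)
      refine ⟨f i ^ t • x i, ?_⟩
      rw [ht, pow_add, mul_comm (f i ^ n i) (f i ^ t), mul_smul, hx i, (g i).map_smul]
    choose y hy using h2
    have h3 : ∀ i j, gij i j (f j ^ N • y i) = gij i j (f i ^ N • y j) := by
      intro i j
      have e1 : gij i j (y i) = ρ₁ i j (g i (y i)) :=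
        (LinearMap.congr_fun (hρ₁ i j) (y i)).symm
      have e2 : gij i j (y j) = ρ₂ i j (g j (y j)) :=
        (LinearMap.congr_fun (hρ₂ i j) (y j)).symm
      rw [(gij i j).map_smul, (gij i j).map_smul, e1, e2, ← hy i, ← hy j,
        (ρ₁ i j).map_smul, (ρ₂ i j).map_smul, hs i j, smul_comm]
    have h4 : ∀ i j, ∃ k : ℕ, (f i * f j) ^ k • (f j ^ N • y i)
        = (f i * f j) ^ k • (f i ^ N • y j) :=
      fun i j => IsLocalizedModule.Away.exists_of_eq (f i * f j) (h3 i j)
    choose k hk using h4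
    obtain ⟨K, hK⟩ : ∃ K, ∀ i j, k i j ≤ K :=
      ⟨Finset.univ.sup (fun i => Finset.univ.sup (k i)), fun i j =>
        le_trans (Finset.le_sup (f := k i) (Finset.mem_univ j))
          (Finset.le_sup (f := fun i => Finset.univ.sup (k i)) (Finset.mem_univ i))⟩
    have h5 : ∀ i j, (f i * f j) ^ K • (f j ^ N • y i)
        = (f i * f j) ^ K • (f i ^ N • y j) := by
      intro i j
      obtain ⟨t, ht⟩ := Nat.exists_eq_add_of_le (hK i j)
      rw [ht, pow_add, mul_comm ((f i * f j) ^ k i j) ((f i * f j) ^ t), mul_smul, mul_smul,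
        hk i j]
    obtain ⟨c, hc⟩ := partition f hf (N + K)
    refine ⟨∑ i, (c i * f i ^ K) • y i, ?_⟩
    intro j
    have h6 : f j ^ (N + K) • (∑ i, (c i * f i ^ K) • y i) = f j ^ K • y j := by
      rw [Finset.smul_sum]
      have h7 : ∀ i, f j ^ (N + K) • (c i * f i ^ K) • y i
          = (c i * f i ^ (N + K)) • f j ^ K • y j := by
        intro i
        have a1 : f j ^ (N + K) • (c i * f i ^ K) • y i
            = c i • ((f i * f j) ^ K • (f j ^ N • y i)) := by
          rw [smul_smul, smul_smul, smul_smul]; congr 1; ring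
        have a2 : (c i * f i ^ (N + K)) • f j ^ K • y j
            = c i • ((f i * f j) ^ K • (f i ^ N • y j)) := by
          rw [smul_smul, smul_smul, smul_smul]; congr 1; ring
        rw [a1, a2, h5 i j]
      rw [Finset.sum_congr rfl (fun i _ => h7 i), ← Finset.sum_smul, hc, one_smul]
    apply IsLocalizedModule.smul_injective (g j)
      (⟨f j ^ (N + K), N + K, rfl⟩ : Submonoid.powers (f j))
    show f j ^ (N + K) • g j _ = f j ^ (N + K) • s j
    rw [← (g j).map_smul, h6, (g j).map_smul, ← hy j, smul_smul, ← pow_add, add_comm]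


end Groth.Agent.S9658
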