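import Groth.Statements.S9659
import Mathlib

set_option autoImplicit false
universe u
open CAlg

namespace Groth.Agent.S9659

section aux
open DirectSum

variable {R S : Type u} [CommRing R] [CommRing S] [Algebra R S] (𝒜 : ℤ → Submodule R S)
  [GradedAlgebra 𝒜]

/-- The inverse of a homogeneous unit is homogeneous. -/
lemma inv_mem (u : Sˣ) (d : ℤ) (hf : (u : S) ∈ 𝒜 d) : ((u⁻¹ : Sˣ) : S) ∈ 𝒜 (-d) := by
  classical
  have h1 : (decompose 𝒜 ((u : S) * ((u⁻¹ : Sˣ) : S)) (d + (-d)) : S)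
      = (u : S) * (decompose 𝒜 ((u⁻¹ : Sˣ) : S) (-d) : S) :=
    coe_decompose_mul_add_of_left_mem 𝒜 hf
  rw [Units.mul_inv, add_neg_cancel, decompose_of_mem_same 𝒜 (SetLike.GradedOne.one_mem)] at h1
  have h2 : ((u⁻¹ : Sˣ) : S) = (decompose 𝒜 ((u⁻¹ : Sˣ) : S) (-d) : S) := by
    calc ((u⁻¹ : Sˣ) : S) = ((u⁻¹ : Sˣ) : S) * 1 := (mul_one _).symm
      _ = ((u⁻¹ : Sˣ) : S) * ((u : S) * (decompose 𝒜 ((u⁻¹ : Sˣ) : S) (-d) : S)) := by
          rw [← h1]
      _ = _ := by rw [← mul_assoc, Units.inv_mul, one_mul]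
  rw [h2]; exact SetLike.coe_mem _

lemma zpow_mem (u : Sˣ) (d : ℤ) (hf : (u : S) ∈ 𝒜 d) (m : ℤ) :
    ((u ^ m : Sˣ) : S) ∈ 𝒜 (m * d) := by
  cases m with
  | ofNat n =>
    rw [Int.ofNat_eq_natCast, zpow_natCast, Units.val_pow_eq_pow_val]
    have := SetLike.pow_mem_graded n hf
    simpa [nsmul_eq_mul] using this
  | negSucc n =>
    rw [zpow_negSucc, ← inv_pow, Units.val_pow_eq_pow_val]
    have := SetLike.pow_mem_graded (n+1) (inv_mem 𝒜 u d hf)
    have e : (n + 1) • (-d) = Int.negSucc n * d := by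
      rw [Int.negSucc_eq, nsmul_eq_mul]; push_cast; ring
    rwa [e] at this

/-- membership in a homogeneous ideal is detected on components. -/
lemma mem_iff_forall_proj {p : Ideal S} (hp : p.IsHomogeneous 𝒜) (a : S) :
    a ∈ p ↔ ∀ n, (decompose 𝒜 a n : S) ∈ p := by
  classical
  constructor
  · intro ha n; exact hp n ha
  · intro h
    rw [← DirectSum.sum_support_decompose 𝒜 a]
    exact Ideal.sum_mem _ (fun n _ => h n)

/-- the degree-zero projection, as a function to the degree-zero subring. -/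
noncomputable def pr0 (s : S) : SetLike.GradeZero.subring 𝒜 :=
  ⟨(decompose 𝒜 s 0 : S), SetLike.coe_mem _⟩

lemma pr0_zero : pr0 𝒜 (0 : S) = 0 := by
  apply Subtype.ext; simp [pr0]

lemma pr0_add (a b : S) : pr0 𝒜 (a + b) = pr0 𝒜 a + pr0 𝒜 b := by
  apply Subtype.ext
  show (decompose 𝒜 (a + b) 0 : S) = (decompose 𝒜 a 0 : S) + (decompose 𝒜 b 0 : S)
  rw [decompose_add, DirectSum.add_apply]; rfl

lemma pr0_coe (y : SetLike.GradeZero.subring 𝒜) : pr0 𝒜 (y : S) = y := by
  apply Subtype.ext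
  exact decompose_of_mem_same 𝒜 y.2

lemma pr0_mul_coe (t : S) (y : SetLike.GradeZero.subring 𝒜) :
    pr0 𝒜 (t * (y : S)) = pr0 𝒜 t * y := by
  classical
  apply Subtype.ext
  have := coe_decompose_mul_add_of_right_mem 𝒜 (i := 0) (j := 0) (a := t) (b := (y : S)) y.2
  rw [add_zero] at this
  exact this

lemma comap_map_eq (p0 : Ideal (SetLike.GradeZero.subring 𝒜)) :
    (p0.map (SetLike.GradeZero.subring 𝒜).subtype).comap (SetLike.GradeZero.subring 𝒜).subtype
      = p0 := by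
  apply le_antisymm _ Ideal.le_comap_map
  intro x hx
  rw [Ideal.mem_comap] at hx
  have key : ∀ s ∈ p0.map (SetLike.GradeZero.subring 𝒜).subtype, ∀ t : S,
      pr0 𝒜 (t * s) ∈ p0 := by
    intro s hs
    refine Submodule.span_induction (p := fun s _ => ∀ t : S, pr0 𝒜 (t * s) ∈ p0)
      ?_ ?_ ?_ ?_ hs
    · rintro _ ⟨y, hy, rfl⟩ t
      rw [Subring.subtype_apply, pr0_mul_coe]
      exact Ideal.mul_mem_left _ _ hy
    · intro t; rw [mul_zero, pr0_zero]; exact zero_mem _
    · intro a b _ _ ha hb t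
      rw [mul_add, pr0_add]; exact add_mem (ha t) (hb t)
    · intro c a _ ha t
      rw [smul_eq_mul, ← mul_assoc]; exact ha _
  have := key _ hx 1
  rw [one_mul] at this
  have h2 := pr0_coe 𝒜 x
  rw [Subring.subtype_apply] at this
  rwa [h2] at this

end aux

/-- Let S be a ℤ-graded ring which contains an invertible homogeneous element of positive degree. Then
the set of homogeneous prime ideals of S, with the topology induced from Spec(S), maps
homeomorphically onto Spec(S₀) by p ↦ p ∩ S₀. -/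
theorem result {R S : Type u} [CommRing R] [CommRing S] [Algebra R S] (𝒜 : ℤ → Submodule R S) [GradedAlgebra 𝒜]
    (f : S) (d : ℤ) (hd : 0 < d) (hf : f ∈ 𝒜 d) (hu : IsUnit f) :
    IsHomeomorph (fun p : {p : PrimeSpectrum S // p.asIdeal.IsHomogeneous 𝒜} => PrimeSpectrum.comap (SetLike.GradeZero.subring 𝒜).subtype p.1) := by
  classical
  obtain ⟨u, rfl⟩ := hu
  obtain ⟨e, rfl⟩ := Int.eq_ofNat_of_zero_le hd.le
  have he : e ≠ 0 := by rintro rfl; simp at hd
  have hX : ∀ (a : S) (n : ℤ),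
      (DirectSum.decompose 𝒜 a n : S) ^ e * ((u ^ (-n) : Sˣ) : S) ∈ 𝒜 0 := by
    intro a n
    have h1 := SetLike.pow_mem_graded e (SetLike.coe_mem (DirectSum.decompose 𝒜 a n))
    have h2 := zpow_mem 𝒜 u (e : ℤ) hf (-n)
    have h3 := SetLike.mul_mem_graded h1 h2
    have e0 : e • n + -n * (e : ℤ) = 0 := by rw [nsmul_eq_mul]; ring
    rwa [e0] at h3
  let X : S → ℤ → SetLike.GradeZero.subring 𝒜 := fun a n => ⟨_, hX a n⟩
  have hK : ∀ (p : Ideal S) [p.IsPrime] (a : S) (n : ℤ),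
      (DirectSum.decompose 𝒜 a n : S) ∈ p ↔ ((X a n : SetLike.GradeZero.subring 𝒜) : S) ∈ p := by
    intro p _ a n
    show _ ↔ (DirectSum.decompose 𝒜 a n : S) ^ e * ((u ^ (-n) : Sˣ) : S) ∈ p
    rw [Ideal.mul_unit_mem_iff_mem _ (Units.isUnit _)]
    constructor
    · intro h; exact Ideal.pow_mem_of_mem _ h _ (Nat.pos_of_ne_zero he)
    · intro h; exact Ideal.IsPrime.mem_of_pow_mem inferInstance _ h
  have hmem : ∀ (p : {p : PrimeSpectrum S // p.asIdeal.IsHomogeneous 𝒜}) (a : S),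
      a ∈ p.1.asIdeal ↔ ∀ n, X a n ∈
        (PrimeSpectrum.comap (SetLike.GradeZero.subring 𝒜).subtype p.1).asIdeal := by
    intro p a
    rw [mem_iff_forall_proj 𝒜 p.2]
    refine forall_congr' (fun n => ?_)
    rw [hK p.1.asIdeal a n]
    rfl
  have hsurj : Function.Surjective (fun p : {p : PrimeSpectrum S // p.asIdeal.IsHomogeneous 𝒜} =>
      PrimeSpectrum.comap (SetLike.GradeZero.subring 𝒜).subtype p.1) := by
    intro p0
    obtain ⟨P, hP⟩ := (PrimeSpectrum.mem_range_comap_iff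
      (f := (SetLike.GradeZero.subring 𝒜).subtype)).2 (comap_map_eq 𝒜 p0.asIdeal)
    have := P.2
    refine ⟨⟨⟨(P.asIdeal.homogeneousCore 𝒜).toIdeal, Ideal.IsPrime.homogeneousCore P.2⟩,
      (P.asIdeal.homogeneousCore 𝒜).isHomogeneous⟩, ?_⟩
    rw [← hP]
    apply PrimeSpectrum.ext
    ext x
    simp only [PrimeSpectrum.comap_asIdeal, Ideal.mem_comap]
    constructor
    · intro h; exact Ideal.toIdeal_homogeneousCore_le 𝒜 _ h
    · intro h
      exact Ideal.mem_homogeneousCore_of_homogeneous_of_mem ⟨0, x.2⟩ h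
  refine ⟨?_, ?_, ⟨?_, hsurj⟩⟩
  · exact (PrimeSpectrum.continuous_comap _).comp continuous_subtype_val
  · rw [(isTopologicalBasis_subtype PrimeSpectrum.isTopologicalBasis_basic_opens
      (fun p : PrimeSpectrum S => p.asIdeal.IsHomogeneous 𝒜)).isOpenMap_iff]
    rintro _ ⟨_, ⟨g, rfl⟩, rfl⟩
    have : (fun p : {p : PrimeSpectrum S // p.asIdeal.IsHomogeneous 𝒜} =>
        PrimeSpectrum.comap (SetLike.GradeZero.subring 𝒜).subtype p.1) ''
        (Subtype.val ⁻¹' (PrimeSpectrum.basicOpen g : Set (PrimeSpectrum S)))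
        = ⋃ n : ℤ, (PrimeSpectrum.basicOpen (X g n) : Set (PrimeSpectrum _)) := by
      ext p0
      simp only [Set.mem_image, Set.mem_preimage, SetLike.mem_coe, PrimeSpectrum.mem_basicOpen,
        Set.mem_iUnion]
      constructor
      · rintro ⟨p, hp, rfl⟩
        by_contra hcon
        push Not at hcon
        exact hp ((hmem p g).2 hcon)
      · rintro ⟨n, hn⟩
        obtain ⟨p, rfl⟩ := hsurj p0
        refine ⟨p, ?_, rfl⟩
        intro hg
        exact hn ((hmem p g).1 hg n)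
    rw [this]
    exact isOpen_iUnion (fun n => (PrimeSpectrum.basicOpen _).isOpen)
  · intro p p' h
    apply Subtype.ext
    apply PrimeSpectrum.ext
    ext a
    rw [hmem p a, hmem p' a]
    simp only at h
    rw [h]

end Groth.Agent.S9659
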