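import Groth.Statements.S9661
import Groth.Agent.Lib.Helper26.GrHS3


set_option autoImplicit false
universe u
attribute [local instance] MvPolynomial.gradedAlgebra
open CAlg

namespace Groth.Agent.S9661


open Groth.Agent.Lib.helper26.GrHS Groth.Agent.Lib.helper26.HS Groth.Agent.Lib.helper26.HilbHyper


/-- Let k be a field, d ≥ 1, and I a nonzero homogeneous ideal of the standard-graded polynomial ring
k[X_1, …, X_d]; put M = k[X_1, …, X_d]/I. Then the function n ↦ dim_k M_n (equal to dim_k of the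
degree-n part of the polynomial ring minus dim_k of the degree-n part of I) coincides for all large
n with a polynomial of degree < d - 1, the zero polynomial if d = 1. -/
theorem result {k : Type u} [Field k] (d : ℕ) (hd : 0 < d)
    (I : HomogeneousIdeal (MvPolynomial.homogeneousSubmodule (Fin d) k)) (hI : I ≠ ⊥) :
    ∃ P : Polynomial ℚ, P.degree < ((d - 1 : ℕ) : WithBot ℕ) ∧ ∃ N : ℕ, ∀ n : ℕ, N ≤ n →
      ((Module.finrank k ↥(MvPolynomial.homogeneousSubmodule (Fin d) k n) : ℚ) -
        (Module.finrank k ↥(I.toIdeal.restrictScalars k ⊓ MvPolynomial.homogeneousSubmodule (Fin d) k n) : ℚ)) = P.eval (n : ℚ) := by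
  have hJ : I.toIdeal.IsHomogeneous (MvPolynomial.homogeneousSubmodule (Fin d) k) := I.isHomogeneous
  obtain ⟨P, hP⟩ := exists_hilbertPoly I.toIdeal hJ
  have hPN : ∃ N : ℕ, ∀ n : ℕ, N ≤ n →
      ((Module.finrank k ↥(MvPolynomial.homogeneousSubmodule (Fin d) k n) : ℚ) -
        (Module.finrank k ↥(I.toIdeal.restrictScalars k ⊓
          MvPolynomial.homogeneousSubmodule (Fin d) k n) : ℚ)) = P.eval (n : ℚ) := by
    obtain ⟨N, hN⟩ := hP
    exact ⟨N, fun n hn => (hN n hn).symm⟩
  refine ⟨P, ?_, hPN⟩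
  by_cases hP0 : P = 0
  · rw [hP0, Polynomial.degree_zero]
    exact WithBot.bot_lt_coe _
  have hdim := ringKrullDim_eq_of_isHilbPoly I.toIdeal hJ hP hP0
  have hJbot : I.toIdeal ≠ ⊥ := by
    intro h
    apply hI
    apply HomogeneousIdeal.toIdeal_injective
    rw [h, HomogeneousIdeal.toIdeal_bot]
  obtain ⟨f, hfJ, hf0⟩ := Submodule.exists_mem_ne_zero_of_ne_bot hJbot
  have hfreg : f ∈ nonZeroDivisors (MvPolynomial (Fin d) k) := mem_nonZeroDivisors_of_ne_zero hf0
  have h1 := ringKrullDim_quotient_succ_le_of_nonZeroDivisor hfreg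
  have hle : Ideal.span {f} ≤ I.toIdeal := by
    rw [Ideal.span_le, Set.singleton_subset_iff]
    exact hfJ
  have h2 : ringKrullDim (MvPolynomial (Fin d) k ⧸ I.toIdeal) ≤
      ringKrullDim (MvPolynomial (Fin d) k ⧸ Ideal.span {f}) :=
    ringKrullDim_le_of_surjective (Ideal.Quotient.factor hle) (Ideal.Quotient.factor_surjective hle)
  have h3 : ringKrullDim (MvPolynomial (Fin d) k) = d := by
    rw [MvPolynomial.ringKrullDim_of_isNoetherianRing, ringKrullDim_eq_zero_of_field, zero_add,
      Nat.card_eq_fintype_card, Fintype.card_fin]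
  rw [h3] at h1
  rw [hdim] at h2
  have h4 : ((P.natDegree + 1 : ℕ) : WithBot ℕ∞) + 1 ≤ (d : WithBot ℕ∞) :=
    le_trans (add_le_add h2 le_rfl) h1
  have h5 : P.natDegree + 1 + 1 ≤ d := by exact_mod_cast h4
  rw [Polynomial.degree_eq_natDegree hP0]
  have h6 : P.natDegree < d - 1 := by omega
  exact_mod_cast h6


end Groth.Agent.S9661
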