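import Groth.Statements.S9663
import Mathlib

set_option autoImplicit false
universe u
open CAlg

namespace Groth.Agent.S9663

section basic
variable {R : Type u} [CommRing R] {N : Type u} [AddCommGroup N] [Module R N]

theorem smul_eq_zero_of_isUnit {a : R} (h : IsUnit (algebraMap R (Module.End R N) a)) (x : N)
    (hx : a • x = 0) : x = 0 := by
  obtain ⟨e, he⟩ := h
  have h1 : (e : Module.End R N) x = 0 := by rw [he]; simpa using hx
  have h2 := congrArg (fun z => ((e⁻¹ : (Module.End R N)ˣ) : Module.End R N) z) h1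
  simpa [← Module.End.mul_apply] using h2

theorem pow_smul_eq_zero_of_isUnit {a : R} (h : IsUnit (algebraMap R (Module.End R N) a)) (n : ℕ)
    (x : N) (hx : a ^ n • x = 0) : x = 0 := by
  induction n with
  | zero => simpa using hx
  | succ n ih =>
    apply ih
    apply smul_eq_zero_of_isUnit h
    rw [← mul_smul, ← pow_succ']
    exact hx

/-- localized module at powers of `a`: `a` acts invertibly -/
theorem isUnit_of_loc {M : Type u} [AddCommGroup M] [Module R M] (a : R) (g : M →ₗ[R] N)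
    [IsLocalizedModule (Submonoid.powers a) g] : IsUnit (algebraMap R (Module.End R N) a) :=
  IsLocalizedModule.map_units g ⟨a, Submonoid.mem_powers a⟩

theorem loc_surj {M : Type u} [AddCommGroup M] [Module R M] (a : R) (g : M →ₗ[R] N)
    [IsLocalizedModule (Submonoid.powers a) g] (z : N) : ∃ (n : ℕ) (w : M), a ^ n • z = g w := by
  obtain ⟨⟨w, ⟨s, n, rfl⟩⟩, h⟩ := IsLocalizedModule.surj (Submonoid.powers a) g z
  exact ⟨n, w, h⟩

theorem loc_ker {M : Type u} [AddCommGroup M] [Module R M] (a : R) (g : M →ₗ[R] N)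
    [IsLocalizedModule (Submonoid.powers a) g] (w : M) (h : g w = 0) : ∃ n : ℕ, a ^ n • w = 0 := by
  have h' : g w = g 0 := by rw [h, map_zero]
  obtain ⟨⟨s, n, rfl⟩, hc⟩ := IsLocalizedModule.exists_of_eq (S := Submonoid.powers a) h'
  refine ⟨n, ?_⟩
  rw [smul_zero] at hc
  exact hc

end basic


section main
variable {R : Type u} [CommRing R] {ι : Type u} [Finite ι] (f : ι → R)
    (Mi : ι → Type u) [∀ i, AddCommGroup (Mi i)] [∀ i, Module R (Mi i)]
    (hMi : ∀ i, IsUnit (algebraMap R (Module.End R (Mi i)) (f i)))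
    (Mij : ι → ι → Type u) [∀ i j, AddCommGroup (Mij i j)] [∀ i j, Module R (Mij i j)]
    (g : ∀ i j, Mi i →ₗ[R] Mij i j) [∀ i j, IsLocalizedModule (Submonoid.powers (f j)) (g i j)]
    (ψ : ∀ i j, Mij i j ≃ₗ[R] Mij j i)
    (T : ι → ι → ι → Type u) [∀ i j k, AddCommGroup (T i j k)] [∀ i j k, Module R (T i j k)]
    (t : ∀ i j k, Mi i →ₗ[R] T i j k) [∀ i j k, IsLocalizedModule (Submonoid.powers (f j * f k)) (t i j k)]
    (u : ∀ i j k, Mij i j →ₗ[R] T i j k) (hu : ∀ i j k, u i j k ∘ₗ g i j = t i j k)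
    (v : ∀ i j k, Mij i k →ₗ[R] T i j k) (hv : ∀ i j k, v i j k ∘ₗ g i k = t i j k)
    (Ψ₁ : ∀ i j k, T i j k →ₗ[R] T j i k) (hΨ₁ : ∀ i j k, Ψ₁ i j k ∘ₗ u i j k = u j i k ∘ₗ (ψ i j).toLinearMap)
    (Ψ₂ : ∀ i j k, T j i k →ₗ[R] T k i j) (hΨ₂ : ∀ i j k, Ψ₂ i j k ∘ₗ v j i k = v k i j ∘ₗ (ψ j k).toLinearMap)
    (Ψ₃ : ∀ i j k, T i j k →ₗ[R] T k i j) (hΨ₃ : ∀ i j k, Ψ₃ i j k ∘ₗ v i j k = u k i j ∘ₗ (ψ i k).toLinearMap)
    (hcoc : ∀ i j k, Ψ₂ i j k ∘ₗ Ψ₁ i j k = Ψ₃ i j k)

include hv in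
/-- (F1) the kernel of `v i j k` is `f j`-power torsion. -/
theorem ker_v (i j k : ι) (x : Mij i k) (hx : v i j k x = 0) : ∃ n : ℕ, f j ^ n • x = 0 := by
  obtain ⟨a, y, hy⟩ := loc_surj (f k) (g i k) x
  have h1 : t i j k y = 0 := by
    rw [← hv i j k, LinearMap.comp_apply, ← hy, map_smul, hx, smul_zero]
  obtain ⟨b, hb⟩ := loc_ker (f j * f k) (t i j k) y h1
  refine ⟨b, ?_⟩
  have h2 : g i k ((f j * f k) ^ b • y) = 0 := by rw [hb, map_zero]
  rw [map_smul, ← hy, mul_pow, smul_smul] at h2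
  have h3 : f k ^ (b + a) • (f j ^ b • x) = 0 := by
    rw [smul_smul]
    convert h2 using 2
    ring
  exact pow_smul_eq_zero_of_isUnit (isUnit_of_loc (f k) (g i k)) _ _ h3


include f g t hu hv in
/-- `u i i i = v i i i`. -/
theorem u_eq_v (i : ι) (x : Mij i i) : u i i i x = v i i i x := by
  obtain ⟨a, y, hy⟩ := loc_surj (f i) (g i i) x
  have h1 : f i ^ a • (u i i i x - v i i i x) = 0 := by
    rw [smul_sub, ← map_smul, ← map_smul, hy]
    have e1 : u i i i (g i i y) = t i i i y := by rw [← hu i i i]; rfl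
    have e2 : v i i i (g i i y) = t i i i y := by rw [← hv i i i]; rfl
    rw [e1, e2, sub_self]
  have hunit : IsUnit (algebraMap R (Module.End R (T i i i)) (f i)) := by
    have := isUnit_of_loc (f i * f i) (t i i i)
    rw [← pow_two, map_pow] at this
    exact (isUnit_pow_iff two_ne_zero).mp this
  exact sub_eq_zero.mp (pow_smul_eq_zero_of_isUnit hunit _ _ h1)

include f g t hu hv hΨ₁ hΨ₂ hΨ₃ hcoc in
/-- (F3) `ψ i i = id`. -/
theorem psi_self (i : ι) (x : Mij i i) : ψ i i x = x := by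
  -- first on the image of `g i i`
  have key : ∀ y : Mi i, ψ i i (g i i y) = g i i y := by
    intro y
    set τ := t i i i y with hτ
    have e1 : u i i i (g i i y) = τ := by rw [hτ, ← hu i i i]; rfl
    have e2 : v i i i (g i i y) = τ := by rw [hτ, ← hv i i i]; rfl
    have h1 : Ψ₁ i i i τ = u i i i (ψ i i (g i i y)) := by
      rw [← e1]; exact LinearMap.congr_fun (hΨ₁ i i i) (g i i y)
    have h3 : Ψ₃ i i i τ = u i i i (ψ i i (g i i y)) := by
      rw [← e2]; exact LinearMap.congr_fun (hΨ₃ i i i) (g i i y)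
    have h2 : Ψ₂ i i i (Ψ₁ i i i τ) = Ψ₃ i i i τ := LinearMap.congr_fun (hcoc i i i) τ
    rw [h1, h3, u_eq_v f Mi Mij g T t u hu v hv i] at h2
    have h4 : Ψ₂ i i i (v i i i (ψ i i (g i i y))) = v i i i (ψ i i (ψ i i (g i i y))) :=
      LinearMap.congr_fun (hΨ₂ i i i) _
    rw [h4] at h2
    have h5 : v i i i (ψ i i (ψ i i (g i i y)) - ψ i i (g i i y)) = 0 := by
      rw [map_sub, h2, sub_self]
    obtain ⟨n, hn⟩ := ker_v f Mi Mij g T t v hv i i i _ h5
    have h6 := pow_smul_eq_zero_of_isUnit (isUnit_of_loc (f i) (g i i)) _ _ hn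
    have h7 : ψ i i (ψ i i (g i i y)) = ψ i i (g i i y) := sub_eq_zero.mp h6
    exact (ψ i i).injective h7
  obtain ⟨a, y, hy⟩ := loc_surj (f i) (g i i) x
  have h1 : f i ^ a • (ψ i i x - x) = 0 := by
    rw [smul_sub, ← map_smul, hy, key, sub_self]
  exact sub_eq_zero.mp (pow_smul_eq_zero_of_isUnit (isUnit_of_loc (f i) (g i i)) _ _ h1)


include f hMi g t hu hv hΨ₁ hΨ₂ hΨ₃ hcoc in
theorem main_result (M : Submodule R (∀ i, Mi i))
    (hM : ∀ m : ∀ i, Mi i, m ∈ M ↔ ∀ i j, g i j (m i) = ψ j i (g j i (m j))) (i : ι) :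
    IsLocalizedModule (Submonoid.powers (f i))
      ((LinearMap.proj i).comp M.subtype : ↥M →ₗ[R] Mi i) := by
  classical
  haveI := Fintype.ofFinite ι
  refine ⟨?_, ?_, ?_⟩
  · rintro ⟨_, n, rfl⟩
    rw [map_pow]
    exact (hMi i).pow n
  · intro y
    have hA : ∀ j, ∃ (n : ℕ) (w : Mi j), f i ^ n • ψ i j (g i j y) = g j i w :=
      fun j => loc_surj (f i) (g j i) _
    choose nA wA hwA using hA
    let n := Finset.univ.sup nA
    let w : ∀ j, Mi j := fun j => f i ^ (n - nA j) • wA j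
    set y' := f i ^ n • y with hy'
    have hw : ∀ j, g j i (w j) = ψ i j (g i j y') := by
      intro j
      have hle : nA j ≤ n := Finset.le_sup (Finset.mem_univ j)
      simp only [w, hy', map_smul]
      rw [← hwA j, smul_smul, ← pow_add, Nat.sub_add_cancel hle]
    have hC : ∀ j k, ∃ N : ℕ, f i ^ N • (g j k (w j) - ψ k j (g k j (w k))) = 0 := by
      intro j k
      apply ker_v f Mi Mij g T t v hv j i k
      rw [map_sub, sub_eq_zero]
      have l1 : v j i k (g j k (w j)) = Ψ₁ i j k (t i j k y') := by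
        have a1 : v j i k (g j k (w j)) = t j i k (w j) := by rw [← hv j i k]; rfl
        have a2 : t j i k (w j) = u j i k (g j i (w j)) := by rw [← hu j i k]; rfl
        have a3 : u j i k (ψ i j (g i j y')) = Ψ₁ i j k (u i j k (g i j y')) :=
          (LinearMap.congr_fun (hΨ₁ i j k) _).symm
        have a4 : u i j k (g i j y') = t i j k y' := by rw [← hu i j k]; rfl
        rw [a1, a2, hw j, a3, a4]
      have r1 : v j i k (ψ k j (g k j (w k))) = Ψ₂ i k j (Ψ₃ i j k (t i j k y')) := by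
        have b1 : v j i k (ψ k j (g k j (w k))) = Ψ₂ i k j (v k i j (g k j (w k))) :=
          (LinearMap.congr_fun (hΨ₂ i k j) _).symm
        have b2 : v k i j (g k j (w k)) = t k i j (w k) := by rw [← hv k i j]; rfl
        have b3 : t k i j (w k) = u k i j (g k i (w k)) := by rw [← hu k i j]; rfl
        have b4 : u k i j (ψ i k (g i k y')) = Ψ₃ i j k (v i j k (g i k y')) :=
          (LinearMap.congr_fun (hΨ₃ i j k) _).symm
        have b5 : v i j k (g i k y') = t i j k y' := by rw [← hv i j k]; rfl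
        rw [b1, b2, b3, hw k, b4, b5]
      have c1 : Ψ₃ i k j (t i k j y') = Ψ₁ i j k (t i j k y') := by
        have d1 : t i k j y' = v i k j (g i j y') := by rw [← hv i k j]; rfl
        have d2 : Ψ₃ i k j (v i k j (g i j y')) = u j i k (ψ i j (g i j y')) :=
          LinearMap.congr_fun (hΨ₃ i k j) _
        have d3 : u j i k (ψ i j (g i j y')) = Ψ₁ i j k (u i j k (g i j y')) :=
          (LinearMap.congr_fun (hΨ₁ i j k) _).symm
        have d4 : u i j k (g i j y') = t i j k y' := by rw [← hu i j k]; rfl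
        rw [d1, d2, d3, d4]
      have c2 : Ψ₁ i k j (t i k j y') = Ψ₃ i j k (t i j k y') := by
        have d1 : t i k j y' = u i k j (g i k y') := by rw [← hu i k j]; rfl
        have d2 : Ψ₁ i k j (u i k j (g i k y')) = u k i j (ψ i k (g i k y')) :=
          LinearMap.congr_fun (hΨ₁ i k j) _
        have d3 : u k i j (ψ i k (g i k y')) = Ψ₃ i j k (v i j k (g i k y')) :=
          (LinearMap.congr_fun (hΨ₃ i j k) _).symm
        have d4 : v i j k (g i k y') = t i j k y' := by rw [← hv i j k]; rfl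
        rw [d1, d2, d3, d4]
      have c3 : Ψ₂ i k j (Ψ₁ i k j (t i k j y')) = Ψ₃ i k j (t i k j y') :=
        LinearMap.congr_fun (hcoc i k j) _
      rw [l1, r1, ← c2, c3, c1]
    choose NC hNC using hC
    let N := Finset.univ.sup (fun p : ι × ι => NC p.1 p.2)
    let m : ∀ j, Mi j := fun j => f i ^ N • w j
    have hm : m ∈ M := by
      rw [hM]
      intro j k
      have hle : NC j k ≤ N :=
        Finset.le_sup (f := fun p : ι × ι => NC p.1 p.2) (Finset.mem_univ (j, k))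
      have h0 : f i ^ N • (g j k (w j) - ψ k j (g k j (w k))) = 0 := by
        rw [← Nat.sub_add_cancel hle, pow_add, mul_smul, hNC j k, smul_zero]
      simp only [m, map_smul]
      rw [smul_sub] at h0
      exact sub_eq_zero.mp h0
    have hwi : w i = y' := by
      have h1 : g i i (w i) = g i i y' := by
        rw [hw i, psi_self f Mi Mij g ψ T t u hu v hv Ψ₁ hΨ₁ Ψ₂ hΨ₂ Ψ₃ hΨ₃ hcoc i]
      have h2 : g i i (w i - y') = 0 := by rw [map_sub, h1, sub_self]
      obtain ⟨a, ha⟩ := loc_ker (f i) (g i i) _ h2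
      exact sub_eq_zero.mp (pow_smul_eq_zero_of_isUnit (hMi i) _ _ ha)
    refine ⟨(⟨m, hm⟩, ⟨f i ^ (N + n), N + n, rfl⟩), ?_⟩
    show f i ^ (N + n) • y = m i
    simp only [m]
    rw [hwi, hy', smul_smul, pow_add]
  · intro m₁ m₂ h
    have h' : (m₁ : ∀ j, Mi j) i = (m₂ : ∀ j, Mi j) i := h
    have hδ : ∀ j, ∃ nj : ℕ, f i ^ nj • ((m₁ : ∀ j, Mi j) j - (m₂ : ∀ j, Mi j) j) = 0 := by
      intro j
      apply loc_ker (f i) (g j i)
      have e1 := (hM _).mp m₁.2 j i
      have e2 := (hM _).mp m₂.2 j i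
      rw [map_sub, e1, e2, h', sub_self]
    choose nδ hnδ using hδ
    let n := Finset.univ.sup nδ
    refine ⟨⟨f i ^ n, n, rfl⟩, ?_⟩
    apply Subtype.ext
    funext j
    show f i ^ n • (m₁ : ∀ j, Mi j) j = f i ^ n • (m₂ : ∀ j, Mi j) j
    have hle : nδ j ≤ n := Finset.le_sup (Finset.mem_univ j)
    have h0 : f i ^ n • ((m₁ : ∀ j, Mi j) j - (m₂ : ∀ j, Mi j) j) = 0 := by
      rw [← Nat.sub_add_cancel hle, pow_add, mul_smul, hnδ j, smul_zero]
    rw [smul_sub] at h0
    exact sub_eq_zero.mp h0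

end main


/-- Let R be a ring and f_i, i in a finite index set, elements of R (no condition on the ideal they
generate). Suppose given for each i an R-module M_i on which f_i acts invertibly, for each pair (i,
j) an R-linear isomorphism ψ_ij : (M_i)_{f_j} → (M_j)_{f_i}, and suppose the cocycle condition ψ_jk
∘ ψ_ij = ψ_ik holds as maps (M_i)_{f_j f_k} → (M_k)_{f_i f_j} for all triples (i, j, k). All
localizations are given through their universal properties: (M_i)_{f_j} with its map g from M_i;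
(M_i)_{f_j f_k} with its map t from M_i and the compatible maps u from (M_i)_{f_j} and v from
(M_i)_{f_k}; and the three localized isomorphisms Ψ₁ (ψ_ij on (M_i)_{f_j f_k}), Ψ₂ (ψ_jk on
(M_j)_{f_i f_k}) and Ψ₃ (ψ_ik on (M_i)_{f_j f_k}) are given as maps compatible with the ψ's. Let M ⊆
Π_i M_i be the submodule of families (m_i) with m_i/1 = ψ_ji(m_j/1) in (M_i)_{f_j} for all i, j.
Then for each i the projection M → M_i exhibits M_i as the localization of M at f_i. -/
theorem result {R : Type u} [CommRing R] {ι : Type u} [Finite ι] (f : ι → R)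
    (Mi : ι → Type u) [∀ i, AddCommGroup (Mi i)] [∀ i, Module R (Mi i)]
    (hMi : ∀ i, IsUnit (algebraMap R (Module.End R (Mi i)) (f i)))
    (Mij : ι → ι → Type u) [∀ i j, AddCommGroup (Mij i j)] [∀ i j, Module R (Mij i j)]
    (g : ∀ i j, Mi i →ₗ[R] Mij i j) [∀ i j, IsLocalizedModule (Submonoid.powers (f j)) (g i j)]
    (ψ : ∀ i j, Mij i j ≃ₗ[R] Mij j i)
    (T : ι → ι → ι → Type u) [∀ i j k, AddCommGroup (T i j k)] [∀ i j k, Module R (T i j k)]
    (t : ∀ i j k, Mi i →ₗ[R] T i j k) [∀ i j k, IsLocalizedModule (Submonoid.powers (f j * f k)) (t i j k)]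
    (u : ∀ i j k, Mij i j →ₗ[R] T i j k) (hu : ∀ i j k, u i j k ∘ₗ g i j = t i j k)
    (v : ∀ i j k, Mij i k →ₗ[R] T i j k) (hv : ∀ i j k, v i j k ∘ₗ g i k = t i j k)
    (Ψ₁ : ∀ i j k, T i j k →ₗ[R] T j i k) (hΨ₁ : ∀ i j k, Ψ₁ i j k ∘ₗ u i j k = u j i k ∘ₗ (ψ i j).toLinearMap)
    (Ψ₂ : ∀ i j k, T j i k →ₗ[R] T k i j) (hΨ₂ : ∀ i j k, Ψ₂ i j k ∘ₗ v j i k = v k i j ∘ₗ (ψ j k).toLinearMap)
    (Ψ₃ : ∀ i j k, T i j k →ₗ[R] T k i j) (hΨ₃ : ∀ i j k, Ψ₃ i j k ∘ₗ v i j k = u k i j ∘ₗ (ψ i k).toLinearMap)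
    (hcoc : ∀ i j k, Ψ₂ i j k ∘ₗ Ψ₁ i j k = Ψ₃ i j k)
    (M : Submodule R (∀ i, Mi i)) (hM : ∀ m : ∀ i, Mi i, m ∈ M ↔ ∀ i j, g i j (m i) = ψ j i (g j i (m j))) (i : ι) :
    IsLocalizedModule (Submonoid.powers (f i)) ((LinearMap.proj i).comp M.subtype : ↥M →ₗ[R] Mi i) := by
  exact main_result f Mi hMi Mij g ψ T t u hu v hv Ψ₁ hΨ₁ Ψ₂ hΨ₂ Ψ₃ hΨ₃ hcoc M hM i

end Groth.Agent.S9663
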