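import Groth.Statements.S9664
import Mathlib
import Groth.Agent.Lib.Helper28.FiberMod
-- import your own Groth.Agent.* helpers here

set_option autoImplicit false
universe u
open CAlg

namespace Groth.Agent.S9664

open TensorProduct
attribute [local instance] Algebra.TensorProduct.rightAlgebra

/-- Let R → S be a ring map, N an S-module, q a prime of S and p the prime of R below q; an associated
prime of a module is a prime ideal equal to the annihilator of some element. Then q is an associated
prime of the S-module N ⊗_R κ(p) (the fibre module of N over p, an S-module by restriction of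
scalars along S → S ⊗_R κ(p)) if and only if q is the inverse image in S of an associated prime of N
⊗_R κ(p) regarded as a module over the fibre ring S ⊗_R κ(p). -/
theorem result {R S : Type u} [CommRing R] [CommRing S] [Algebra R S] (N : Type u) [AddCommGroup N] [Module S N] [Module R N] [IsScalarTower R S N]
    (p : Ideal R) [p.IsPrime] (q : Ideal S) [q.IsPrime] (hq : q.comap (algebraMap R S) = p) :
    q ∈ FlatCA.ass S (FlatCA.fiberMod p S N) ↔
      ∃ Q ∈ FlatCA.ass (p.Fiber S) (FlatCA.fiberMod p S N),
        Q.comap (Algebra.TensorProduct.includeRight (R := R) (A := p.ResidueField) (B := S)).toRingHom = q := by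
  have hsm : ∀ (s : S) (x' : (p.Fiber S) ⊗[S] N), s • x' = 0 ↔
      ((Algebra.TensorProduct.includeRight (R := R) (A := p.ResidueField) (B := S)).toRingHom s)
        • x' = 0 := by
    intro s x'
    rw [Groth.Agent.Lib.helper28.fiber_smul_eq]
    rfl
  constructor
  · rintro ⟨hqp, x, hx⟩
    have hx' : ∃ x' : (p.Fiber S) ⊗[S] N, q = (Submodule.span S {x'}).annihilator := ⟨x, hx⟩
    clear hx x
    obtain ⟨x', hx⟩ := hx'
    have hmem : ∀ s : S, s ∈ q ↔ s • x' = 0 := by
      intro s
      rw [hx, Submodule.mem_annihilator_span_singleton]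
    have hQ : ∀ f : p.Fiber S, f ∈ (Submodule.span (p.Fiber S) {x'}).annihilator ↔ f • x' = 0 :=
      fun f => Submodule.mem_annihilator_span_singleton _ _
    have hprime : ((Submodule.span (p.Fiber S) {x'}).annihilator).IsPrime := by
      constructor
      · intro htop
        have h1 : (1 : p.Fiber S) • x' = 0 := (hQ 1).mp (by rw [htop]; trivial)
        rw [one_smul] at h1
        apply hqp.ne_top
        rw [Ideal.eq_top_iff_one, hmem, h1, smul_zero]
      · intro f g hfg
        rw [hQ] at hfg
        obtain ⟨r₁, hr₁, s₁, hs₁⟩ := Ideal.Fiber.exists_smul_eq_one_tmul p f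
        obtain ⟨r₂, hr₂, s₂, hs₂⟩ := Ideal.Fiber.exists_smul_eq_one_tmul p g
        rw [Algebra.smul_def] at hs₁ hs₂
        have hs₁' : algebraMap R (p.Fiber S) r₁ * f = algebraMap S (p.Fiber S) s₁ := hs₁
        have hs₂' : algebraMap R (p.Fiber S) r₂ * g = algebraMap S (p.Fiber S) s₂ := hs₂
        have h12 : (s₁ * s₂) ∈ q := by
          rw [hmem, Groth.Agent.Lib.helper28.fiber_smul_eq, map_mul, ← hs₁', ← hs₂']
          have : algebraMap R (p.Fiber S) r₁ * f * (algebraMap R (p.Fiber S) r₂ * g) =
              (algebraMap R (p.Fiber S) r₁ * algebraMap R (p.Fiber S) r₂) * (f * g) := by ring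
          rw [this, mul_smul, hfg, smul_zero]
        rcases hqp.mem_or_mem h12 with h1 | h1
        · left
          rw [hQ]
          rw [hmem, Groth.Agent.Lib.helper28.fiber_smul_eq, ← hs₁', mul_smul] at h1
          exact (Groth.Agent.Lib.helper28.isUnit_algebraMap_fiber p hr₁).smul_eq_zero.mp h1
        · right
          rw [hQ]
          rw [hmem, Groth.Agent.Lib.helper28.fiber_smul_eq, ← hs₂', mul_smul] at h1
          exact (Groth.Agent.Lib.helper28.isUnit_algebraMap_fiber p hr₂).smul_eq_zero.mp h1
    refine ⟨(Submodule.span (p.Fiber S) {x'}).annihilator, ⟨hprime, x', rfl⟩, ?_⟩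
    ext s
    rw [Ideal.mem_comap, hQ, hmem, hsm]
  · rintro ⟨Q, ⟨hQp, x, hx⟩, hQq⟩
    have hx' : ∃ x' : (p.Fiber S) ⊗[S] N, Q = (Submodule.span (p.Fiber S) {x'}).annihilator :=
      ⟨x, hx⟩
    clear hx x
    obtain ⟨x', hx⟩ := hx'
    refine ⟨inferInstance, (x' : (p.Fiber S) ⊗[S] N), ?_⟩
    ext s
    rw [← hQq, Ideal.mem_comap, hx, Submodule.mem_annihilator_span_singleton,
      Submodule.mem_annihilator_span_singleton]
    exact (hsm s x').symm

end Groth.Agent.S9664
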