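import Groth.Statements.S9665
import Mathlib
import Groth.Agent.Lib.Helper28.FiberMod
-- import your own Groth.Agent.* helpers here

set_option autoImplicit false
universe u
open CAlg

namespace Groth.Agent.S9665

open TensorProduct
attribute [local instance] Algebra.TensorProduct.rightAlgebra

/-- Part (2): (A_fin ⊆ A): let R → S be a ring map, N an S-module, q a prime of S and p the prime of R
below q; an associated prime of a module is a prime ideal equal to the annihilator of some element.
If q is an associated prime of the S-module N/pN, then q is an associated prime of the S-module N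
⊗_R κ(p) (the fibre module over p, an S-module by restriction of scalars). -/
theorem result {R S : Type u} [CommRing R] [CommRing S] [Algebra R S] (N : Type u) [AddCommGroup N] [Module S N] [Module R N] [IsScalarTower R S N]
    (p : Ideal R) [p.IsPrime] (q : Ideal S) [q.IsPrime] (hq : q.comap (algebraMap R S) = p)
    (h : q ∈ FlatCA.ass S (N ⧸ (p.map (algebraMap R S)) • (⊤ : Submodule S N))) :
    q ∈ FlatCA.ass S (FlatCA.fiberMod p S N) := by
  obtain ⟨hqp, m, hm⟩ := h
  obtain ⟨n, rfl⟩ := Submodule.Quotient.mk_surjective _ m
  refine ⟨hqp, (FlatCA.toFiberMod p S N n), ?_⟩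
  have hmem : ∀ t : S, t ∈ q ↔ t • n ∈ p • (⊤ : Submodule R N) := by
    intro t
    rw [hm, Submodule.mem_annihilator_span_singleton, ← Submodule.Quotient.mk_smul,
      Submodule.Quotient.mk_eq_zero, Groth.Agent.Lib.helper28.mem_smul_top_iff]
  ext s
  rw [Submodule.mem_annihilator_span_singleton]
  show s ∈ q ↔ s • ((1 : p.Fiber S) ⊗ₜ[S] n) = 0
  rw [Groth.Agent.Lib.helper28.fiber_smul_one_tmul,
    Groth.Agent.Lib.helper28.fiber_one_tmul_eq_zero_iff]
  constructor
  · intro hs
    exact ⟨1, fun h1 => (Ideal.IsPrime.ne_top ‹p.IsPrime›) (p.eq_top_of_isUnit_mem h1 isUnit_one),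
      by rw [one_smul]; exact (hmem s).mp hs⟩
  · rintro ⟨r, hr, hrs⟩
    have h2 : algebraMap R S r * s ∈ q := by
      rw [hmem, mul_smul, algebraMap_smul]; exact hrs
    rcases hqp.mem_or_mem h2 with h1 | h1
    · exact absurd (by rw [← hq]; exact h1) hr
    · exact h1

end Groth.Agent.S9665
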