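import Groth.Statements.S9666
import Mathlib
import Groth.Agent.Lib.Helper28.FiberMod
-- import your own Groth.Agent.* helpers here

set_option autoImplicit false
universe u
open CAlg

namespace Groth.Agent.S9666

open TensorProduct
attribute [local instance] Algebra.TensorProduct.rightAlgebra

/-- Part (3): (A ⊆ A_fin): let R → S be a ring map with S Noetherian, N an S-module, q a prime of S and
p the prime of R below q; an associated prime of a module is a prime ideal equal to the annihilator
of some element. If q is an associated prime of the S-module N ⊗_R κ(p) (the fibre module over p, an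
S-module by restriction of scalars), then q is an associated prime of the S-module N/pN. -/
theorem result {R S : Type u} [CommRing R] [CommRing S] [Algebra R S] (N : Type u) [AddCommGroup N] [Module S N] [Module R N] [IsScalarTower R S N] [IsNoetherianRing S]
    (p : Ideal R) [p.IsPrime] (q : Ideal S) [q.IsPrime] (hq : q.comap (algebraMap R S) = p)
    (h : q ∈ FlatCA.ass S (FlatCA.fiberMod p S N)) :
    q ∈ FlatCA.ass S (N ⧸ (p.map (algebraMap R S)) • (⊤ : Submodule S N)) := by
  obtain ⟨hqp, x, hx⟩ := h
  have hx' : ∃ x' : (p.Fiber S) ⊗[S] N, q = (Submodule.span S {x'}).annihilator := ⟨x, hx⟩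
  clear hx x
  obtain ⟨x', hx⟩ := hx'
  obtain ⟨r₀, hr₀, n, hn⟩ := Groth.Agent.Lib.helper28.exists_unit_smul_eq_one_tmul N p x'
  -- membership in q
  have hmem : ∀ s : S, s ∈ q ↔ ∃ r : R, r ∉ p ∧ r • (s • n) ∈ p • (⊤ : Submodule R N) := by
    intro s
    rw [hx, Submodule.mem_annihilator_span_singleton,
      ← Groth.Agent.Lib.helper28.fiber_one_tmul_eq_zero_iff (S := S),
      ← Groth.Agent.Lib.helper28.fiber_smul_one_tmul, ← hn]
    rw [Groth.Agent.Lib.helper28.fiber_smul_eq, Groth.Agent.Lib.helper28.fiber_smul_eq,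
      smul_smul, mul_comm, ← smul_smul]
    exact ((Groth.Agent.Lib.helper28.isUnit_algebraMap_fiber p hr₀).smul_eq_zero).symm
  obtain ⟨T, hT⟩ := (isNoetherianRing_iff_ideal_fg S).mp inferInstance q
  have hchoice : ∀ t : S, t ∈ T → ∃ r : R, r ∉ p ∧ r • (t • n) ∈ p • (⊤ : Submodule R N) := by
    intro t ht
    exact (hmem t).mp (hT ▸ Ideal.subset_span ht)
  classical
  choose! ρ hρ1 hρ2 using hchoice
  have hprod : (∏ t ∈ T, ρ t) ∉ p := by
    intro hmemp
    obtain ⟨t, ht, htp⟩ := (Ideal.IsPrime.prod_mem_iff (hp := ‹p.IsPrime›)).mp hmemp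
    exact hρ1 t ht htp
  refine ⟨hqp, Submodule.Quotient.mk ((∏ t ∈ T, ρ t) • n), ?_⟩
  apply le_antisymm
  · rw [← hT, Ideal.span_le]
    intro t ht
    rw [SetLike.mem_coe, Submodule.mem_annihilator_span_singleton, ← Submodule.Quotient.mk_smul,
      Submodule.Quotient.mk_eq_zero, Groth.Agent.Lib.helper28.mem_smul_top_iff, smul_comm,
      ← Finset.mul_prod_erase T ρ ht, mul_comm, mul_smul]
    exact Submodule.smul_mem _ _ (hρ2 t ht)
  · intro s hs
    rw [Submodule.mem_annihilator_span_singleton, ← Submodule.Quotient.mk_smul,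
      Submodule.Quotient.mk_eq_zero, Groth.Agent.Lib.helper28.mem_smul_top_iff, smul_comm] at hs
    exact (hmem s).mpr ⟨_, hprod, hs⟩

end Groth.Agent.S9666
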