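import Groth.Statements.S9667
import Mathlib
-- import your own Groth.Agent.* helpers here

set_option autoImplicit false
universe u
open CAlg

namespace Groth.Agent.S9667


open TensorProduct in
theorem lTensor_smul {R S : Type u} [CommRing R] [CommRing S] [Algebra R S] (N : Type u)
    [AddCommGroup N] [Module S N] [Module R N] [IsScalarTower R S N]
    {M M' : Type u} [AddCommGroup M] [Module R M] [AddCommGroup M'] [Module R M']
    (f : M' →ₗ[R] M) (s : S) (w : N ⊗[R] M') :
    (LinearMap.lTensor N f) (s • w) = s • (LinearMap.lTensor N f) w := by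
  induction w using TensorProduct.induction_on with
  | zero => simp
  | tmul n m => simp [TensorProduct.smul_tmul']
  | add x y hx hy => rw [smul_add, map_add, map_add, smul_add, hx, hy]

open TensorProduct in
theorem lTensor_eq_zero_of_fg {R : Type u} [CommRing R] (N M : Type u) [AddCommGroup N]
    [Module R N] [AddCommGroup M] [Module R M] {P : Submodule R M} (hP : P.FG) (t : N ⊗[R] P)
    (h : LinearMap.lTensor N P.subtype t = 0) :
    ∃ (Q : Submodule R M) (hPQ : P ≤ Q), Q.FG ∧ LinearMap.lTensor N (Submodule.inclusion hPQ) t = 0 := by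
  have h1 : LinearMap.rTensor N P.subtype (TensorProduct.comm R N P t) = 0 := by
    rw [LinearMap.rTensor_comm, h, map_zero]
  obtain ⟨Q, hPQ, hQ, h2⟩ := TensorProduct.eq_zero_of_fg_of_subtype_eq_zero hP h1
  refine ⟨Q, hPQ, hQ, ?_⟩
  rw [LinearMap.rTensor_comm] at h2
  exact (TensorProduct.comm R N Q).injective (by rw [h2, map_zero])

open TensorProduct in
theorem exists_fg_lift {R S : Type u} [CommRing R] [CommRing S] [Algebra R S] (N : Type u)
    [AddCommGroup N] [Module S N] [Module R N] [IsScalarTower R S N]
    (M : Type u) [AddCommGroup M] [Module R M] (z : N ⊗[R] M) (T : Finset S)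
    (hT : ∀ s ∈ T, s • z = 0) :
    ∃ (M' : Submodule R M) (z' : N ⊗[R] M'), M'.FG ∧ LinearMap.lTensor N M'.subtype z' = z ∧
      ∀ s ∈ T, s • z' = 0 := by
  classical
  induction T using Finset.induction_on with
  | empty =>
    obtain ⟨M', hM', hsub⟩ := TensorProduct.exists_finite_submodule_right_of_setFinite
      ({z} : Set (N ⊗[R] M)) (Set.finite_singleton z)
    obtain ⟨z', hz'⟩ := hsub (Set.mem_singleton z)
    exact ⟨M', z', (Module.Finite.iff_fg).mp hM', hz', by simp⟩
  | insert s₀ T hs₀ ih =>
    obtain ⟨M', z', hM', hz', hT'⟩ := ih (fun s hs => hT s (Finset.mem_insert_of_mem hs))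
    have h0 : LinearMap.lTensor N M'.subtype (s₀ • z') = 0 := by
      rw [lTensor_smul, hz']
      exact hT s₀ (Finset.mem_insert_self _ _)
    obtain ⟨Q, hPQ, hQ, h2⟩ := lTensor_eq_zero_of_fg N M hM' (s₀ • z') h0
    refine ⟨Q, LinearMap.lTensor N (Submodule.inclusion hPQ) z', hQ, ?_, ?_⟩
    · rw [← LinearMap.comp_apply, ← LinearMap.lTensor_comp, Submodule.subtype_comp_inclusion, hz']
    · intro s hs
      rcases Finset.mem_insert.mp hs with rfl | hs
      · rw [← lTensor_smul, h2]
      · rw [← lTensor_smul, hT' s hs, map_zero]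

open TensorProduct in
/-- Part (3): (B = B_fin): let R → S be a ring map with S Noetherian, N an S-module, M an R-module and q
a prime of S; an associated prime of a module is a prime ideal equal to the annihilator of some
element. If q is an associated prime of the S-module N ⊗_R M, then there is a finitely generated
R-submodule M' ⊆ M such that q is an associated prime of the S-module N ⊗_R M'. -/
theorem result {R S : Type u} [CommRing R] [CommRing S] [Algebra R S] (N : Type u) [AddCommGroup N] [Module S N] [Module R N] [IsScalarTower R S N] [IsNoetherianRing S]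
    (M : Type u) [AddCommGroup M] [Module R M] (q : Ideal S) [q.IsPrime] (h : q ∈ FlatCA.ass S (N ⊗[R] M)) :
    ∃ M' : Submodule R M, M'.FG ∧ q ∈ FlatCA.ass S (N ⊗[R] ↥M') := by
  obtain ⟨hq, z, hz⟩ := h
  obtain ⟨T, hT⟩ := (isNoetherianRing_iff_ideal_fg S).mp inferInstance q
  have hTz : ∀ s ∈ T, s • z = 0 := by
    intro s hs
    have : s ∈ q := by rw [← hT]; exact Ideal.subset_span hs
    rw [hz, Submodule.mem_annihilator_span_singleton] at this
    exact this
  obtain ⟨M', z', hM', hz', hT'⟩ := exists_fg_lift N M z T hTz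
  refine ⟨M', hM', hq, z', ?_⟩
  apply le_antisymm
  · rw [← hT, Ideal.span_le]
    intro s hs
    exact (Submodule.mem_annihilator_span_singleton _ _).mpr (hT' s hs)
  · intro s hs
    rw [Submodule.mem_annihilator_span_singleton] at hs
    rw [hz, Submodule.mem_annihilator_span_singleton, ← hz', ← lTensor_smul, hs, map_zero]

end Groth.Agent.S9667
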