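import Groth.Statements.S9668
import Mathlib
-- import your own Groth.Agent.* helpers here

set_option autoImplicit false
universe u
open CAlg

namespace Groth.Agent.S9668


open TensorProduct in
theorem lTensor_smul {R S : Type u} [CommRing R] [CommRing S] [Algebra R S] (N : Type u)
    [AddCommGroup N] [Module S N] [Module R N] [IsScalarTower R S N]
    {M M' : Type u} [AddCommGroup M] [Module R M] [AddCommGroup M'] [Module R M']
    (f : M' →ₗ[R] M) (s : S) (w : N ⊗[R] M') :
    (LinearMap.lTensor N f) (s • w) = s • (LinearMap.lTensor N f) w := by
  induction w using TensorProduct.induction_on with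
  | zero => simp
  | tmul n m => simp [TensorProduct.smul_tmul']
  | add x y hx hy => rw [smul_add, map_add, map_add, smul_add, hx, hy]

open TensorProduct in
/-- Part (4): (B = B_fin): let R → S be a ring map, N an S-module flat over R, M an R-module and q a
prime of S; an associated prime of a module is a prime ideal equal to the annihilator of some
element. If q is an associated prime of the S-module N ⊗_R M, then there is a finitely generated
R-submodule M' ⊆ M such that q is an associated prime of the S-module N ⊗_R M'. -/
theorem result {R S : Type u} [CommRing R] [CommRing S] [Algebra R S] (N : Type u) [AddCommGroup N] [Module S N] [Module R N] [IsScalarTower R S N] [Module.Flat R N]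
    (M : Type u) [AddCommGroup M] [Module R M] (q : Ideal S) [q.IsPrime] (h : q ∈ FlatCA.ass S (N ⊗[R] M)) :
    ∃ M' : Submodule R M, M'.FG ∧ q ∈ FlatCA.ass S (N ⊗[R] ↥M') := by
  obtain ⟨hq, z, hz⟩ := h
  obtain ⟨M', hM', hsub⟩ := TensorProduct.exists_finite_submodule_right_of_setFinite
    ({z} : Set (N ⊗[R] M)) (Set.finite_singleton z)
  obtain ⟨z', hz'⟩ := hsub (Set.mem_singleton z)
  have hinj : Function.Injective (LinearMap.lTensor N M'.subtype) :=
    Module.Flat.lTensor_preserves_injective_linearMap _ M'.injective_subtype
  refine ⟨M', (Module.Finite.iff_fg).mp hM', hq, z', ?_⟩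
  rw [hz]
  ext s
  rw [Submodule.mem_annihilator_span_singleton, Submodule.mem_annihilator_span_singleton, ← hz',
    ← lTensor_smul]
  constructor
  · intro h0
    apply hinj
    rw [h0, map_zero]
  · intro h0
    rw [h0, map_zero]

end Groth.Agent.S9668
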