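import Groth.Statements.S9669
import Mathlib
import Groth.Agent.Lib.Helper28.FiberMod
import Groth.Agent.S9665
-- import your own Groth.Agent.* helpers here

set_option autoImplicit false
universe u
open CAlg

namespace Groth.Agent.S9669

open TensorProduct
attribute [local instance] Algebra.TensorProduct.rightAlgebra

/-- Part (4): (A = A_fin = A'_fin): let R → S be a ring map, N an S-module flat over R and p a prime of
R; an associated prime of a module is a prime ideal equal to the annihilator of some element. Then
the set of associated primes of the S-module N/pN equals the set of associated primes of the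
S-module N ⊗_R κ(p) (the fibre module over p, an S-module by restriction of scalars), and every
prime in this set lies over p. -/
theorem result {R S : Type u} [CommRing R] [CommRing S] [Algebra R S] (N : Type u) [AddCommGroup N] [Module S N] [Module R N] [IsScalarTower R S N] [Module.Flat R N] (p : Ideal R) [p.IsPrime] :
    FlatCA.ass S (N ⧸ (p.map (algebraMap R S)) • (⊤ : Submodule S N)) = FlatCA.ass S (FlatCA.fiberMod p S N) ∧
      ∀ q ∈ FlatCA.ass S (N ⧸ (p.map (algebraMap R S)) • (⊤ : Submodule S N)), q.comap (algebraMap R S) = p := by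
  have hmemq : ∀ (q : Ideal S) (n : N),
      q = (Submodule.span S {(Submodule.Quotient.mk n :
        N ⧸ (p.map (algebraMap R S)) • (⊤ : Submodule S N))}).annihilator →
      ∀ t : S, t ∈ q ↔ t • n ∈ p • (⊤ : Submodule R N) := by
    intro q n hm t
    rw [hm, Submodule.mem_annihilator_span_singleton, ← Submodule.Quotient.mk_smul,
      Submodule.Quotient.mk_eq_zero, Groth.Agent.Lib.helper28.mem_smul_top_iff]
  have hlies : ∀ q ∈ FlatCA.ass S (N ⧸ (p.map (algebraMap R S)) • (⊤ : Submodule S N)),
      q.comap (algebraMap R S) = p := by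
    rintro q ⟨hqp, m, hm⟩
    obtain ⟨n, rfl⟩ := Submodule.Quotient.mk_surjective _ m
    have hmem := hmemq q n hm
    ext a
    rw [Ideal.mem_comap, hmem, algebraMap_smul]
    constructor
    · intro ha
      by_contra hap
      have hn := Groth.Agent.Lib.helper28.mem_smul_top_of_smul_mem_of_flat p N hap ha
      apply hqp.ne_top
      rw [Ideal.eq_top_iff_one, hmem, one_smul]
      exact hn
    · intro ha
      exact Submodule.smul_mem_smul ha Submodule.mem_top
  refine ⟨?_, hlies⟩
  ext q
  constructor
  · intro hqa
    have hqp : q.IsPrime := hqa.1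
    exact Groth.Agent.S9665.result N p q (hlies q hqa) hqa
  · rintro ⟨hqp, x, hx⟩
    have hx' : ∃ x' : (p.Fiber S) ⊗[S] N, q = (Submodule.span S {x'}).annihilator := ⟨x, hx⟩
    clear hx x
    obtain ⟨x', hx⟩ := hx'
    obtain ⟨n, hn⟩ := Groth.Agent.Lib.helper28.exists_forall_smul_eq_zero_iff N p x'
    refine ⟨hqp, Submodule.Quotient.mk n, ?_⟩
    ext s
    rw [hx, Submodule.mem_annihilator_span_singleton, Submodule.mem_annihilator_span_singleton,
      hn, ← Submodule.Quotient.mk_smul, Submodule.Quotient.mk_eq_zero,
      Groth.Agent.Lib.helper28.mem_smul_top_iff]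
    constructor
    · rintro ⟨r, hr, hrs⟩
      exact Groth.Agent.Lib.helper28.mem_smul_top_of_smul_mem_of_flat p N hr hrs
    · intro hs
      exact ⟨1, fun h1 => (Ideal.IsPrime.ne_top ‹p.IsPrime›)
        (p.eq_top_of_isUnit_mem h1 isUnit_one), by rw [one_smul]; exact hs⟩

end Groth.Agent.S9669
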