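import Groth.Statements.S9670
import Mathlib
import Groth.Agent.Lib.Helper28.FiberMod
import Groth.Agent.S9668
import Groth.Agent.S9669
-- import your own Groth.Agent.* helpers here

set_option autoImplicit false
universe u
open CAlg

namespace Groth.Agent.S9670

open TensorProduct

theorem ass_of_exact {S : Type u} [CommRing S] {A B C : Type u} [AddCommGroup A] [Module S A]
    [AddCommGroup B] [Module S B] [AddCommGroup C] [Module S C]
    (f : A → B) (g : B → C) (hf : Function.Injective f) (hf0 : f 0 = 0)
    (hfg : ∀ b, g b = 0 ↔ b ∈ Set.range f)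
    (hfs : ∀ (s : S) a, f (s • a) = s • f a) (hgs : ∀ (s : S) b, g (s • b) = s • g b)
    (q : Ideal S) (h : q ∈ FlatCA.ass S B) : q ∈ FlatCA.ass S A ∨ q ∈ FlatCA.ass S C := by
  obtain ⟨hqp, b, hb⟩ := h
  have hmem : ∀ t : S, t ∈ q ↔ t • b = 0 := fun t => by
    rw [hb, Submodule.mem_annihilator_span_singleton]
  by_cases hcase : ∃ s : S, s ∉ q ∧ s • b ∈ Set.range f
  · obtain ⟨s, hs, a, ha⟩ := hcase
    left
    refine ⟨hqp, a, ?_⟩
    ext t
    rw [Submodule.mem_annihilator_span_singleton]
    constructor
    · intro ht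
      apply hf
      rw [hfs, ha, hf0, smul_comm, (hmem t).mp ht, smul_zero]
    · intro ht
      have h1 : t • s • b = 0 := by rw [← ha, ← hfs, ht, hf0]
      rw [smul_smul, ← hmem] at h1
      exact (hqp.mem_or_mem h1).resolve_right hs
  · push Not at hcase
    right
    refine ⟨hqp, g b, ?_⟩
    ext t
    rw [Submodule.mem_annihilator_span_singleton, ← hgs, hfg]
    constructor
    · intro ht
      exact ⟨0, by rw [hf0, (hmem t).mp ht]⟩
    · intro ht
      by_contra htq
      exact hcase t htq ht

open TensorProduct in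
theorem ass_tensor_quotient {R S : Type u} [CommRing R] [CommRing S] [Algebra R S] (N : Type u)
    [AddCommGroup N] [Module S N] [Module R N] [IsScalarTower R S N] (p' : Ideal R)
    (q : Ideal S) (h : q ∈ FlatCA.ass S (N ⊗[R] (R ⧸ p'))) :
    q ∈ FlatCA.ass S (N ⧸ (p'.map (algebraMap R S)) • (⊤ : Submodule S N)) := by
  obtain ⟨hqp, z, hz⟩ := h
  obtain ⟨n, rfl⟩ : ∃ n : N, n ⊗ₜ[R] (1 : R ⧸ p') = z := by
    refine ⟨(TensorProduct.tensorQuotEquivQuotSMul N p' z).out, ?_⟩
    apply (TensorProduct.tensorQuotEquivQuotSMul N p').injective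
    have := TensorProduct.tensorQuotEquivQuotSMul_tmul_mk (M := N) p'
      ((TensorProduct.tensorQuotEquivQuotSMul N p' z).out) 1
    rw [map_one, one_smul] at this
    rw [this]
    exact Quotient.out_eq _
  refine ⟨hqp, Submodule.Quotient.mk n, ?_⟩
  rw [hz]
  ext s
  rw [Submodule.mem_annihilator_span_singleton, Submodule.mem_annihilator_span_singleton,
    ← Submodule.Quotient.mk_smul, Submodule.Quotient.mk_eq_zero,
    Groth.Agent.Lib.helper28.mem_smul_top_iff, TensorProduct.smul_tmul']
  have h1 := TensorProduct.tensorQuotEquivQuotSMul_tmul_mk (M := N) p' (s • n) 1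
  rw [map_one, one_smul] at h1
  rw [← Submodule.Quotient.mk_eq_zero, ← h1]
  exact (LinearEquiv.map_eq_zero_iff _).symm

open TensorProduct in
theorem hmain {R S : Type u} [CommRing R] [CommRing S] [Algebra R S] (N : Type u) [AddCommGroup N]
    [Module S N] [Module R N] [IsScalarTower R S N] [IsNoetherianRing R] [Module.Flat R N]
    (M : Type u) [AddCommGroup M] [Module R M] [Module.Finite R M] :
    ∀ q : Ideal S, q ∈ FlatCA.ass S (N ⊗[R] M) → ∃ p' : Ideal R, p'.IsPrime ∧
      q ∈ FlatCA.ass S (N ⧸ (p'.map (algebraMap R S)) • (⊤ : Submodule S N)) := by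
  induction ‹Module.Finite R M› using
    IsNoetherianRing.induction_on_isQuotientEquivQuotientPrime R with
  | subsingleton M =>
    rintro q ⟨hqp, z, hz⟩
    exfalso
    apply hqp.ne_top
    have hall : ∀ z' : N ⊗[R] M, z' = 0 := by
      intro z'
      induction z' using TensorProduct.induction_on with
      | zero => rfl
      | tmul n m => rw [Subsingleton.elim m 0, TensorProduct.tmul_zero]
      | add x y hx hy => rw [hx, hy, add_zero]
    rw [hz, hall z]
    ext s
    simp [Submodule.annihilator_bot]
  | quotient M p' f =>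
    intro q hqa
    refine ⟨p'.1, p'.2, ass_tensor_quotient N p'.1 q ?_⟩
    obtain ⟨hqp, z, hz⟩ := hqa
    refine ⟨hqp, LinearMap.lTensor N f.toLinearMap z, ?_⟩
    rw [hz]
    ext s
    rw [Submodule.mem_annihilator_span_singleton, Submodule.mem_annihilator_span_singleton,
      ← Groth.Agent.S9668.lTensor_smul]
    have hinj : Function.Injective (LinearMap.lTensor N f.toLinearMap) :=
      (LinearEquiv.lTensor N f).injective
    constructor
    · intro h0
      rw [h0, map_zero]
    · intro h0
      exact hinj (by rw [h0, map_zero])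
  | exact M₁ M₂ M₃ f g hf hg hfg h₁ h₃ =>
    intro q hqa
    have hinj := Module.Flat.lTensor_preserves_injective_linearMap (M := N) f hf
    have hex := lTensor_exact N hfg hg
    rcases ass_of_exact (LinearMap.lTensor N f) (LinearMap.lTensor N g) hinj (map_zero _)
      (fun b => hex b) (Groth.Agent.S9668.lTensor_smul N f)
      (Groth.Agent.S9668.lTensor_smul N g) q hqa with h' | h'
    · exact h₁ q h'
    · exact h₃ q h'

open TensorProduct in
/-- Part (5): (B_fin ⊆ A_fin): let R → S be a ring map with R Noetherian, N an S-module flat over R, M a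
finite R-module, q a prime of S and p the prime of R below q; an associated prime of a module is a
prime ideal equal to the annihilator of some element. If q is an associated prime of the S-module N
⊗_R M, then q is an associated prime of the S-module N/pN. -/
theorem result {R S : Type u} [CommRing R] [CommRing S] [Algebra R S] (N : Type u) [AddCommGroup N] [Module S N] [Module R N] [IsScalarTower R S N] [IsNoetherianRing R] [Module.Flat R N]
    (M : Type u) [AddCommGroup M] [Module R M] [Module.Finite R M] (p : Ideal R) [p.IsPrime] (q : Ideal S) [q.IsPrime] (hq : q.comap (algebraMap R S) = p)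
    (h : q ∈ FlatCA.ass S (N ⊗[R] M)) :
    q ∈ FlatCA.ass S (N ⧸ (p.map (algebraMap R S)) • (⊤ : Submodule S N)) := by
  obtain ⟨p', hp', hq'⟩ := hmain N M q h
  have hlie := (Groth.Agent.S9669.result N p').2 q hq'
  rw [hq] at hlie
  subst hlie
  exact hq'

end Groth.Agent.S9670
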