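import Groth.Statements.S9671
import Mathlib
import Groth.Agent.Lib.Helper12.ProjClosed1

set_option autoImplicit false
universe u
open CAlg

namespace Groth.Agent.S9671

open MvPolynomial
open Groth.Agent.Lib.helper12.ProjClosed

attribute [local instance] MvPolynomial.gradedAlgebra

section constr
variable {R R' : Type u} [CommRing R] [CommRing R'] [Algebra R R'] {n : ℕ}
  (ev : MvPolynomial (Fin (n + 1)) R →ₐ[R] R')

/-- generators of the ideal: homogeneous forms of positive degree killed by `ev`. -/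
def Jset : Set (MvPolynomial (Fin (n + 1)) R) :=
  {p | ∃ d : ℕ, 1 ≤ d ∧ p.IsHomogeneous d ∧ ev p = 0}

lemma Jset_hom : ∀ p ∈ Jset ev,
    SetLike.IsHomogeneousElem (homogeneousSubmodule (Fin (n + 1)) R) p := by
  rintro p ⟨d, -, hp, -⟩
  exact ⟨d, hp⟩

/-- the homogeneous ideal -/
noncomputable def Jh : HomogeneousIdeal (homogeneousSubmodule (Fin (n + 1)) R) :=
  ⟨Ideal.span (Jset ev), Ideal.homogeneous_span _ _ (Jset_hom ev)⟩

lemma Jh_le_ker : ∀ p ∈ (Jh ev).toIdeal, ev p = 0 := by
  have h : Ideal.span (Jset ev) ≤ RingHom.ker ev.toRingHom := by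
    rw [Ideal.span_le]
    rintro p ⟨d, -, -, hp⟩
    exact RingHom.mem_ker.2 hp
  intro p hp
  exact RingHom.mem_ker.1 (h hp)

lemma Jh_constantCoeff : ∀ p ∈ (Jh ev).toIdeal, constantCoeff p = 0 := by
  have h : Ideal.span (Jset ev) ≤ RingHom.ker (constantCoeff (σ := Fin (n + 1)) (R := R)) := by
    rw [Ideal.span_le]
    rintro p ⟨d, hd, hp, -⟩
    refine RingHom.mem_ker.2 ?_
    rw [constantCoeff_eq]
    refine hp.coeff_eq_zero ?_
    rw [map_zero]
    omega
  intro p hp
  exact RingHom.mem_ker.1 (h hp)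

lemma mem_Jh_of {p : MvPolynomial (Fin (n + 1)) R} {d : ℕ} (hp : p.IsHomogeneous d)
    (hd : 1 ≤ d) (h0 : ev p = 0) : p ∈ (Jh ev).toIdeal :=
  Ideal.subset_span ⟨d, hd, hp, h0⟩

/-- the graded ring -/
abbrev SS : Type u := MvPolynomial (Fin (n + 1)) R ⧸ (Jh ev).toIdeal

/-- its grading -/
noncomputable abbrev gr : ℕ → Submodule R (SS ev) :=
  qGr (homogeneousSubmodule (Fin (n + 1)) R) (Jh ev)

/-- evaluation on the quotient -/
noncomputable def evbar : SS ev →ₐ[R] R' :=
  Ideal.Quotient.liftₐ (Jh ev).toIdeal ev (Jh_le_ker ev)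

lemma evbar_mk (p : MvPolynomial (Fin (n + 1)) R) :
    evbar ev (Ideal.Quotient.mk (Jh ev).toIdeal p) = ev p := rfl

/-- the degree one element -/
noncomputable def ff : SS ev := Ideal.Quotient.mk (Jh ev).toIdeal (X 0)

lemma ff_mem : ff ev ∈ gr ev 1 := mk_mem_qGr _ _ (isHomogeneous_X R 0)

variable (hev0 : ev (X 0) = 1)

include hev0 in
lemma evbar_ff : evbar ev (ff ev) = 1 := hev0

/-- the map from the localization -/
noncomputable def LL : Localization.Away (ff ev) →+* R' :=
  IsLocalization.Away.lift (ff ev) (g := (evbar ev).toRingHom)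
    (by
      show IsUnit (evbar ev (ff ev))
      rw [evbar_ff ev hev0]
      exact isUnit_one)

lemma LL_algebraMap (a : SS ev) :
    LL ev hev0 (algebraMap (SS ev) (Localization.Away (ff ev)) a) = evbar ev a :=
  IsLocalization.Away.lift_eq _ _ a

lemma LL_mk (a : SS ev) (k : ℕ) :
    LL ev hev0 (Localization.mk a ⟨ff ev ^ k, ⟨k, rfl⟩⟩) = evbar ev a := by
  have h0 := IsLocalization.mk'_spec (Localization.Away (ff ev)) a
    (⟨ff ev ^ k, ⟨k, rfl⟩⟩ : Submonoid.powers (ff ev))
  have h1 := congrArg (LL ev hev0) h0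
  rw [map_mul, LL_algebraMap, LL_algebraMap, ← Localization.mk_eq_mk'_apply] at h1
  have h2 : evbar ev ((⟨ff ev ^ k, ⟨k, rfl⟩⟩ : Submonoid.powers (ff ev)) : SS ev) = 1 := by
    show evbar ev (ff ev ^ k) = 1
    rw [map_pow, evbar_ff ev hev0, one_pow]
  rw [h2, mul_one] at h1
  exact h1

/-- the comparison ring map -/
noncomputable def e0 : HomogeneousLocalization.Away (gr ev) (ff ev) →+* R' :=
  (LL ev hev0).comp
    (algebraMap (HomogeneousLocalization.Away (gr ev) (ff ev)) (Localization.Away (ff ev)))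

lemma e0_mk (k : ℕ) (a : SS ev) (ha : a ∈ gr ev (k • 1)) :
    e0 ev hev0 (HomogeneousLocalization.Away.mk (gr ev) (ff_mem ev) k a ha) = evbar ev a := by
  show LL ev hev0 (HomogeneousLocalization.val
    (HomogeneousLocalization.Away.mk (gr ev) (ff_mem ev) k a ha)) = _
  rw [HomogeneousLocalization.Away.val_mk]
  exact LL_mk ev hev0 a k

lemma e0_injective : Function.Injective (e0 ev hev0) := by
  refine (injective_iff_map_eq_zero _).2 fun z hz => ?_
  obtain ⟨k, a, ha, rfl⟩ := HomogeneousLocalization.Away.mk_surjective (gr ev) (ff_mem ev) z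
  rw [e0_mk] at hz
  obtain ⟨p, hp, rfl⟩ := ha
  have hp0 : ev p = 0 := hz
  have hmem : p * X 0 ∈ (Jh ev).toIdeal :=
    mem_Jh_of ev (d := k • 1 + 1)
      (((mem_homogeneousSubmodule _ _).1 hp).mul (isHomogeneous_X R 0))
      (Nat.le_add_left 1 _) (by rw [map_mul, hp0, zero_mul])
  apply HomogeneousLocalization.val_injective
  rw [HomogeneousLocalization.Away.val_mk, HomogeneousLocalization.val_zero,
    Localization.mk_eq_mk'_apply, IsLocalization.mk'_eq_zero_iff]
  refine ⟨⟨ff ev, Submonoid.mem_powers _⟩, ?_⟩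
  show ff ev * Ideal.Quotient.mk (Jh ev).toIdeal p = 0
  rw [ff, ← map_mul, mul_comm]
  exact Ideal.Quotient.eq_zero_iff_mem.2 hmem

lemma e0_surjective (hsurj : ∀ y : R', ∃ d p, IsHomogeneous p d ∧ ev p = y) :
    Function.Surjective (e0 ev hev0) := by
  intro y
  obtain ⟨d, p, hp, rfl⟩ := hsurj y
  have hmem : Ideal.Quotient.mk (Jh ev).toIdeal p ∈ gr ev (d • 1) := by
    rw [smul_eq_mul, mul_one]
    exact mk_mem_qGr _ _ hp
  exact ⟨HomogeneousLocalization.Away.mk (gr ev) (ff_mem ev) d _ hmem,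
    e0_mk ev hev0 d _ hmem⟩

end constr

lemma hom_lift {R R' : Type u} [CommRing R] [CommRing R'] [Algebra R R'] {n : ℕ}
    (ev : MvPolynomial (Fin (n + 1)) R →ₐ[R] R') (f : MvPolynomial (Fin n) R →ₐ[R] R')
    (hev0 : ev (X 0) = 1) (hevs : ∀ i : Fin n, ev (X i.succ) = f (X i))
    (q : MvPolynomial (Fin n) R) :
    ∃ d p, IsHomogeneous p d ∧ ev p = f q := by
  induction q using MvPolynomial.induction_on with
  | C a =>
    exact ⟨0, C a, isHomogeneous_C _ a, by rw [algHom_C, algHom_C]⟩
  | add q q' hq hq' =>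
    obtain ⟨d, p, hp, h1⟩ := hq
    obtain ⟨d', p', hp', h1'⟩ := hq'
    refine ⟨d + d', p * X 0 ^ d' + p' * X 0 ^ d, ?_, ?_⟩
    · refine IsHomogeneous.add (hp.mul (isHomogeneous_X_pow 0 d')) ?_
      have h := hp'.mul (isHomogeneous_X_pow (R := R) (0 : Fin (n + 1)) d)
      rwa [add_comm d' d] at h
    · rw [map_add, map_mul, map_mul, map_pow, map_pow, hev0, one_pow, one_pow, mul_one, mul_one,
        h1, h1', map_add]
  | mul_X q i hq =>
    obtain ⟨d, p, hp, h1⟩ := hq
    refine ⟨d + 1, p * X i.succ, hp.mul (isHomogeneous_X R i.succ), ?_⟩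
    rw [map_mul, map_mul, hevs, h1]


/-- Let R be a ring and R' an R-algebra of finite type. Then there are an ℕ-graded R-algebra S such that
R → S₀ is bijective and S is generated as an R-algebra by a finite set of degree-1 elements, an
element f ∈ S₁, and a ring isomorphism e between the degree-zero part S_(f) of the localization S_f
and R' which matches r/1 with the image of r in R' for every r ∈ R (so R' is identified with S_(f)
as an R-algebra). The published statement also produces, from a finite R'-module, a finite graded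
S-module whose degree-zero localization at f recovers it; that half is not part of this row. -/
theorem result (R R' : Type u) [CommRing R] [CommRing R'] [Algebra R R'] [Algebra.FiniteType R R'] :
    ∃ (S : Type u) (_ : CommRing S) (_ : Algebra R S) (𝒜 : ℕ → Submodule R S) (_ : GradedAlgebra 𝒜) (f : S) (_ : f ∈ 𝒜 1) (s : Finset S)
      (e : HomogeneousLocalization.Away 𝒜 f ≃+* R'),
      Function.Injective (algebraMap R S) ∧ (∀ x ∈ 𝒜 0, x ∈ Set.range (algebraMap R S)) ∧
      (↑s ⊆ (𝒜 1 : Set S)) ∧ Algebra.adjoin R (s : Set S) = ⊤ ∧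
      ∀ r : R, (e.symm (algebraMap R R' r)).val = algebraMap S (Localization.Away f) (algebraMap R S r) := by
  classical
  obtain ⟨n, f, hf⟩ := Algebra.FiniteType.iff_quotient_mvPolynomial''.1
    (inferInstance : Algebra.FiniteType R R')
  obtain ⟨ev, hev0, hevs⟩ : ∃ ev : MvPolynomial (Fin (n + 1)) R →ₐ[R] R',
      ev (X 0) = 1 ∧ ∀ i : Fin n, ev (X i.succ) = f (X i) := by
    refine ⟨aeval (Fin.cons 1 (fun i => f (X i))), ?_, fun i => ?_⟩
    · rw [aeval_X, Fin.cons_zero]
    · rw [aeval_X, Fin.cons_succ]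
  have hsurj : ∀ y : R', ∃ d p, IsHomogeneous p d ∧ ev p = y := by
    intro y
    obtain ⟨q, rfl⟩ := hf y
    exact hom_lift ev f hev0 hevs q
  refine ⟨SS ev, inferInstance, inferInstance, gr ev, qGradedAlgebra _ (Jh ev), ff ev, ff_mem ev,
    Finset.univ.image (fun i => Ideal.Quotient.mk (Jh ev).toIdeal (X i)),
    RingEquiv.ofBijective (e0 ev hev0) ⟨e0_injective ev hev0, e0_surjective ev hev0 hsurj⟩,
    ?_, ?_, ?_, ?_, ?_⟩
  · refine (injective_iff_map_eq_zero _).2 fun r hr => ?_
    have hr' : Ideal.Quotient.mk (Jh ev).toIdeal (C r) = 0 := hr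
    have h1 : (C r : MvPolynomial (Fin (n + 1)) R) ∈ (Jh ev).toIdeal :=
      Ideal.Quotient.eq_zero_iff_mem.1 hr'
    have h2 := Jh_constantCoeff ev _ h1
    rwa [constantCoeff_C] at h2
  · rintro _ ⟨p, hp, rfl⟩
    have hp' : p.IsHomogeneous 0 := hp
    have h1 : p = C (coeff 0 p) :=
      (homogeneousComponent_eq_self hp').symm.trans (homogeneousComponent_zero p)
    refine ⟨coeff 0 p, ?_⟩
    show Ideal.Quotient.mk (Jh ev).toIdeal (C (coeff 0 p)) = Ideal.Quotient.mk (Jh ev).toIdeal p
    exact congrArg _ h1.symm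
  · intro y hy
    rw [Finset.coe_image] at hy
    obtain ⟨i, -, rfl⟩ := hy
    exact mk_mem_qGr _ _ (isHomogeneous_X R i)
  · have h1 : Algebra.adjoin R (Set.range (X : Fin (n + 1) → MvPolynomial (Fin (n + 1)) R)) = ⊤ :=
      MvPolynomial.adjoin_range_X
    have h2 := congrArg (Subalgebra.map (Ideal.Quotient.mkₐ R (Jh ev).toIdeal)) h1
    rw [AlgHom.map_adjoin, Algebra.map_top,
      (AlgHom.range_eq_top _).2 (Ideal.Quotient.mkₐ_surjective R _), ← Set.range_comp] at h2
    rw [Finset.coe_image, Finset.coe_univ, Set.image_univ]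
    exact h2
  · intro r
    have hmem : algebraMap R (SS ev) r ∈ gr ev (0 • 1) := by
      rw [zero_smul, Algebra.algebraMap_eq_smul_one]
      exact Submodule.smul_mem _ _ (SetLike.one_mem_graded _)
    have h1 : e0 ev hev0 (HomogeneousLocalization.Away.mk (gr ev) (ff_mem ev) 0 _ hmem) =
        algebraMap R R' r := (e0_mk ev hev0 0 _ hmem).trans ((evbar ev).commutes r)
    have h2 : (RingEquiv.ofBijective (e0 ev hev0)
        ⟨e0_injective ev hev0, e0_surjective ev hev0 hsurj⟩).symm (algebraMap R R' r) =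
        HomogeneousLocalization.Away.mk (gr ev) (ff_mem ev) 0 _ hmem := by
      rw [RingEquiv.symm_apply_eq]
      exact h1.symm
    rw [h2, HomogeneousLocalization.Away.val_mk, ← Localization.mk_one_eq_algebraMap]
    congr 1


end Groth.Agent.S9671
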