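import Groth.Statements.S9676
import Mathlib
import Groth.Agent.S9675
import Groth.Agent.Lib.Helper8.RelNormC
import Groth.Agent.Lib.Helper8.DvrNorm
-- import your own Groth.Agent.* helpers here

set_option autoImplicit false
universe u
open CategoryTheory CategoryTheory.Limits AlgebraicGeometry
open Mor

namespace Groth.Agent.S9676

open Groth.Agent.Lib.helper8

/-- The key geometric lemma: if `x' ∈ V` is not in the image of `g` and `t` is a section over the affine
open `V` such that `x'` is the only generization of `x'` in `V(t)`, then, near `x'`, `t` is invertible on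
the preimage. -/
theorem exists_mul_eq {N Y : Scheme.{u}} (g : Y ⟶ N) {V : N.Opens} (hV : IsAffineOpen V)
    (hW : IsCompact ((g ⁻¹ᵁ V : Y.Opens) : Set Y))
    (hWqs : IsQuasiSeparated ((g ⁻¹ᵁ V : Y.Opens) : Set Y))
    (x' : N) (hx'V : x' ∈ V) (hx' : ∀ y : Y, g y ≠ x')
    (t : Γ(N, V))
    (ht : ∀ q : Ideal Γ(N, V), q.IsPrime → q ≤ (hV.primeIdealOf ⟨x', hx'V⟩).asIdeal → t ∈ q →
      q = (hV.primeIdealOf ⟨x', hx'V⟩).asIdeal) :
    ∃ s, s ∉ (hV.primeIdealOf ⟨x', hx'V⟩).asIdeal ∧
      ∃ b, (g.app V).hom t * b = (g.app V).hom s := by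
  classical
  set p' := hV.primeIdealOf ⟨x', hx'V⟩ with hp'
  have hp'x : hV.fromSpec p' = x' := hV.fromSpec_primeIdealOf ⟨x', hx'V⟩
  obtain ⟨S, hSfin, hSeq⟩ := isCompact_iff_finite_and_eq_biUnion_affineOpens.mp hW
  have hle : ∀ i : Y.affineOpens, i ∈ S → (i : Y.Opens) ≤ g ⁻¹ᵁ V := by
    intro i hi
    rw [hSeq]
    exact le_iSup₂ (f := fun (i : Y.affineOpens) (_ : i ∈ S) => (i : Y.Opens)) i hi
  have hex : ∀ i : Y.affineOpens, i ∈ S → ∃ si : Γ(N, V), si ∉ p'.asIdeal ∧
      ∀ hi' : (i : Y.Opens) ≤ g ⁻¹ᵁ V,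
        ∃ bi : Γ(Y, i), (g.appLE V i hi').hom si = bi * (g.appLE V i hi').hom t := by
    intro i hi
    set φi := (g.appLE V i (hle i hi)).hom with hφi
    let I : Ideal Γ(N, V) := Ideal.comap φi (Ideal.span {φi t})
    have hI : ¬ I ≤ p'.asIdeal := by
      intro hIp
      obtain ⟨q, hq, hqp⟩ := Ideal.exists_minimalPrimes_le hIp
      obtain ⟨P, hP, hIP, hPq⟩ := Ideal.exists_comap_eq_of_mem_minimalPrimes φi q hq
      have htq : t ∈ q := by
        rw [← hPq]
        exact hIP (Ideal.mem_span_singleton_self _)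
      have hqeq : q = p'.asIdeal := ht q hq.1.1 hqp htq
      apply hx' (i.2.fromSpec ⟨P, hP⟩)
      have h1 := IsAffineOpen.SpecMap_appLE_fromSpec g hV i.2 (hle i hi)
      have h2 : (Spec.map (g.appLE V i (hle i hi)) ≫ hV.fromSpec) ⟨P, hP⟩ =
          (i.2.fromSpec ≫ g) ⟨P, hP⟩ := by rw [h1]
      rw [Scheme.Hom.comp_apply, Scheme.Hom.comp_apply] at h2
      rw [← h2, ← hp'x]
      congr 1
      apply PrimeSpectrum.ext
      rw [← hqeq, ← hPq]
      rfl
    obtain ⟨si, hsiI, hsip⟩ := Set.not_subset.mp hI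
    refine ⟨si, hsip, fun hi' => ?_⟩
    obtain ⟨bi, hbi⟩ := Ideal.mem_span_singleton'.mp (Ideal.mem_comap.mp hsiI)
    exact ⟨bi, hbi.symm⟩
  choose! sfun hsfun using hex
  let s : Γ(N, V) := ∏ i ∈ hSfin.toFinset, sfun i
  have hsp : s ∉ p'.asIdeal := by
    intro hs
    obtain ⟨i, hi, his⟩ := Ideal.IsPrime.prod_mem_iff.mp hs
    exact (hsfun i (hSfin.mem_toFinset.mp hi)).1 his
  set φ := (g.app V).hom with hφ
  -- basic open inclusion
  have hD : Y.basicOpen (φ s) ≤ Y.basicOpen (φ t) := by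
    intro y hy
    have hyW : y ∈ g ⁻¹ᵁ V := Y.basicOpen_le _ hy
    rw [hSeq] at hyW
    simp only [TopologicalSpace.Opens.mem_iSup] at hyW
    obtain ⟨i, hi, hyi⟩ := hyW
    obtain ⟨bi, hbi⟩ := (hsfun i hi).2 (hle i hi)
    -- `s = sfun i * rest`
    have hs_eq : s = sfun i * ∏ j ∈ hSfin.toFinset.erase i, sfun j :=
      (Finset.mul_prod_erase _ _ (hSfin.mem_toFinset.mpr hi)).symm
    have h1 : (g.appLE V i (hle i hi)).hom s =
        ((g.appLE V i (hle i hi)).hom (∏ j ∈ hSfin.toFinset.erase i, sfun j) * bi) *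
          (g.appLE V i (hle i hi)).hom t := by
      rw [hs_eq, map_mul, hbi]
      ring
    have h2 : ∀ a : Γ(N, V), (g.appLE V i (hle i hi)).hom a =
        (Y.presheaf.map (homOfLE (hle i hi)).op).hom (φ a) := fun a => rfl
    have h3 : y ∈ Y.basicOpen ((g.appLE V i (hle i hi)).hom s) := by
      rw [h2, Scheme.basicOpen_res]
      exact ⟨hyi, hy⟩
    rw [h1, Scheme.basicOpen_mul] at h3
    have h4 := h3.2
    rw [h2, Scheme.basicOpen_res] at h4
    exact h4.2
  -- `t` is a unit on `D(φ s)`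
  have hDW : Y.basicOpen (φ s) ≤ g ⁻¹ᵁ V := Y.basicOpen_le _
  have hunit : IsUnit ((Y.presheaf.map (homOfLE hDW).op).hom (φ t)) := by
    have h1 := RingedSpace.isUnit_res_basicOpen Y.toRingedSpace (φ t)
    have h2 := h1.map (Y.presheaf.map (homOfLE hD).op).hom
    convert h2 using 1
    change _ = (Y.presheaf.map (homOfLE (Y.basicOpen_le (φ t))).op ≫
      Y.presheaf.map (homOfLE hD).op).hom (φ t)
    rw [← Functor.map_comp]
    rfl
  obtain ⟨z, hz⟩ := hunit.exists_right_inv
  obtain ⟨n, b, hb⟩ := exists_eq_pow_mul_of_isCompact_of_isQuasiSeparated Y (g ⁻¹ᵁ V) hW hWqs (φ s) z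
  dsimp only [TopCat.Presheaf.restrictOpenCommRingCat_apply] at hb
  have hres : (φ t * b) |_ Y.basicOpen (φ s) = ((φ s) ^ n) |_ Y.basicOpen (φ s) := by
    dsimp only [TopCat.Presheaf.restrictOpenCommRingCat_apply]
    rw [map_mul, map_pow]
    erw [hb]
    calc (Y.presheaf.map (homOfLE hDW).op).hom (φ t) *
          ((Y.presheaf.map (homOfLE hDW).op).hom (φ s) ^ n * z)
        = (Y.presheaf.map (homOfLE hDW).op).hom (φ s) ^ n *
          ((Y.presheaf.map (homOfLE hDW).op).hom (φ t) * z) := by ring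
      _ = (Y.presheaf.map (homOfLE hDW).op).hom (φ s) ^ n := by rw [hz, mul_one]
  obtain ⟨m, hm⟩ := exists_of_res_eq_of_qcqs hW hWqs hres
  refine ⟨s ^ (m + n), ?_, φ s ^ m * b, ?_⟩
  · intro h
    exact hsp (Ideal.IsPrime.mem_of_pow_mem inferInstance _ h)
  · rw [map_pow, pow_add, ← hm]
    ring


theorem main {X Y : Scheme.{u}} (f : Y ⟶ X)
    [LocallyOfFiniteType f] [QuasiCompact f] [QuasiSeparated f] [IsReduced Y]
    (hX : ∀ U : X.affineOpens, CAlg.IsNagata Γ(X, U))
    (x' : ↥f.normalization) (hdim : ringKrullDim (f.normalization.presheaf.stalk x') = 1)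
    (hx' : x' ∉ Set.range f.toNormalization.base) :
    ∃ _ : IsDomain (f.normalization.presheaf.stalk x'),
      IsDiscreteValuationRing (f.normalization.presheaf.stalk x') := by
  classical
  haveI hfinite : IsFinite f.fromNormalization := Groth.Agent.S9675.result f hX
  obtain ⟨U, hU, hxU, -⟩ := TopologicalSpace.Opens.isBasis_iff_nbhd.mp X.isBasis_affineOpens
    (show f.fromNormalization x' ∈ (⊤ : X.Opens) from trivial)
  have hUaff : IsAffineOpen U := hU
  set V : f.normalization.Opens := f.fromNormalization ⁻¹ᵁ U with hVdef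
  have hV : IsAffineOpen V := hUaff.preimage f.fromNormalization
  have hx'V : x' ∈ V := hxU
  haveI : IsNoetherianRing Γ(X, U) := (hX ⟨U, hU⟩).1
  have hfin : (f.fromNormalization.app U).hom.Finite :=
    IsFinite.finite_app f.fromNormalization U hUaff
  haveI : IsNoetherianRing Γ(f.normalization, V) := by
    letI := (f.fromNormalization.app U).hom.toAlgebra
    haveI : Module.Finite Γ(X, U) Γ(f.normalization, V) := hfin
    exact IsNoetherianRing.of_finite Γ(X, U) _
  obtain ⟨hinj, hcl, -⟩ := RelNorm.app_closed f hUaff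
  have hWeq : f ⁻¹ᵁ U = f.toNormalization ⁻¹ᵁ V := by
    simp [hVdef, ← Scheme.Hom.comp_preimage]
  have hW : IsCompact ((f.toNormalization ⁻¹ᵁ V : Y.Opens) : Set Y) := by
    rw [← hWeq]
    exact f.isCompact_preimage hUaff.isCompact
  have hWqs : IsQuasiSeparated ((f.toNormalization ⁻¹ᵁ V : Y.Opens) : Set Y) := by
    rw [← hWeq]
    exact f.isQuasiSeparated_preimage hUaff.isQuasiSeparated
  letI : Algebra Γ(f.normalization, V) (f.normalization.presheaf.stalk x') :=
    TopCat.Presheaf.algebra_section_stalk f.normalization.presheaf (⟨x', hx'V⟩ : V)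
  haveI : IsLocalization.AtPrime (f.normalization.presheaf.stalk x')
      (hV.primeIdealOf ⟨x', hx'V⟩).asIdeal := hV.isLocalization_stalk ⟨x', hx'V⟩
  exact DvrNorm.isDVR_localization (A := Γ(f.normalization, V))
    (B := Γ(Y, f.toNormalization ⁻¹ᵁ V))
    (R := f.normalization.presheaf.stalk x')
    (f.toNormalization.app V).hom hinj hcl (hV.primeIdealOf ⟨x', hx'V⟩).asIdeal hdim
    (fun t ht => exists_mul_eq f.toNormalization hV hW hWqs x' hx'V
      (fun y hy => hx' ⟨y, hy⟩) t ht)


/-- Let f : Y ⟶ X be of finite type with Y reduced and every affine open of X having Nagata coordinate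
ring, and let X' be the normalization of X in Y. If x' is a point of X' whose local ring has
dimension 1 and over which the fibre of Y ⟶ X' is empty, then the local ring of X' at x' is a
discrete valuation ring. (Such an f is automatically quasi-separated; the binder is carried only to
form the relative normalization.) -/
theorem result {X Y : Scheme.{u}} (f : Y ⟶ X)
    [LocallyOfFiniteType f] [QuasiCompact f] [QuasiSeparated f] [IsReduced Y]
    (hX : ∀ U : X.affineOpens, CAlg.IsNagata Γ(X, U))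
    (x' : ↥f.normalization) (hdim : ringKrullDim (f.normalization.presheaf.stalk x') = 1)
    (hx' : x' ∉ Set.range f.toNormalization.base) :
    ∃ _ : IsDomain (f.normalization.presheaf.stalk x'),
      IsDiscreteValuationRing (f.normalization.presheaf.stalk x') := by
  exact main f hX x' hdim hx'

end Groth.Agent.S9676
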