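import Groth.Statements.S9682
import Mathlib
import Groth.Agent.Lib.Helper3.QFinTop

set_option autoImplicit false
universe u
open CategoryTheory CategoryTheory.Limits AlgebraicGeometry
open Mor

namespace Groth.Agent.S9682

open AlgebraicGeometry CategoryTheory in
/-- a generization of a generic point of an irreducible component is that point. -/
theorem eq_of_specializes_generic {T : Type u} [TopologicalSpace T] [T0Space T] (η y : T)
    (hη : closure {η} ∈ irreducibleComponents T) (h : y ⤳ η) : y = η := by
  have h1 : closure {η} ⊆ closure {y} := h.closure_subset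
  have h2 : closure {y} ⊆ closure {η} := hη.2 isIrreducible_singleton.closure h1
  have h3 : η ⤳ y := by
    rw [specializes_iff_mem_closure]; exact h2 (subset_closure rfl)
  exact (h.antisymm h3).eq

open AlgebraicGeometry CategoryTheory in
theorem exists_generic_specializes {T : Type u} [TopologicalSpace T] [QuasiSober T] (x : T) :
    ∃ ξ : T, closure {ξ} ∈ irreducibleComponents T ∧ ξ ⤳ x := by
  obtain ⟨ξ, hξ⟩ := QuasiSober.sober (isIrreducible_irreducibleComponent (x := x))
    isClosed_irreducibleComponent
  refine ⟨ξ, ?_, ?_⟩
  · rw [hξ.def]; exact irreducibleComponent_mem_irreducibleComponents x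
  · rw [specializes_iff_mem_closure, hξ.def]; exact mem_irreducibleComponent

/-- Take f : X ⟶ Y locally of finite type and η the generic point of some irreducible component of Y.
Three conditions turn out to coincide: (1) each point of X mapping to η is the generic point of some
irreducible component of X; (2) f is quasi-finite at every point over η; (3) f is quasi-finite at
each point over η that is generic in some irreducible component of X. Stated as (1) iff (2) together
with (1) iff (3). -/
theorem result {X Y : Scheme.{u}} (f : X ⟶ Y)
    [LocallyOfFiniteType f] (η : Y) (hη : closure {η} ∈ irreducibleComponents ↥Y) :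
    ((∀ x : X, f.base x = η → closure {x} ∈ irreducibleComponents ↥X) ↔
      (∀ x : X, f.base x = η → f.QuasiFiniteAt x)) ∧
    ((∀ x : X, f.base x = η → closure {x} ∈ irreducibleComponents ↥X) ↔
      (∀ x : X, f.base x = η → closure {x} ∈ irreducibleComponents ↥X → f.QuasiFiniteAt x)) := by
  have h12 : (∀ x : X, f.base x = η → closure {x} ∈ irreducibleComponents ↥X) →
      (∀ x : X, f.base x = η → f.QuasiFiniteAt x) := by
    intro h1 x hx
    refine Groth.Agent.Lib.helper3.QFinTop.quasiFiniteAt_of_forall_specializes f x ?_ ?_
    · intro x' _ hs
      exact eq_of_specializes_generic x x' (h1 x hx) hs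
    · intro x' hx' hs
      have hx'η : f.base x' = η := hx'.trans hx
      exact (eq_of_specializes_generic x' x (h1 x' hx'η) hs).symm
  have h31 : (∀ x : X, f.base x = η → closure {x} ∈ irreducibleComponents ↥X → f.QuasiFiniteAt x) →
      (∀ x : X, f.base x = η → closure {x} ∈ irreducibleComponents ↥X) := by
    intro h3 x hx
    obtain ⟨ξ, hξ, hs⟩ := exists_generic_specializes x
    have hfs : f.base ξ ⤳ f.base x := hs.map f.continuous
    rw [hx] at hfs
    have hξη : f.base ξ = η := eq_of_specializes_generic η _ hη hfs
    have hqf := h3 ξ hξη hξ
    have : x = ξ := Groth.Agent.Lib.helper3.QFinTop.eq_of_specializes_of_quasiFiniteAt f hqf x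
      (hx.trans hξη.symm) (Or.inr hs)
    rw [this]; exact hξ
  refine ⟨⟨h12, fun h2 => h31 (fun x hx _ => h2 x hx)⟩, ⟨fun h1 x hx _ => h12 h1 x hx, h31⟩⟩

end Groth.Agent.S9682
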