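import Groth.Statements.S9685
import Mathlib
import Groth.Agent.Lib.Helper3.DimIneqSch2
import Groth.Agent.Lib.Helper3.DimIneqGen
import Groth.Agent.Lib.Helper3.SpecDimUp
import Groth.Agent.S9686

set_option autoImplicit false
universe u
open CategoryTheory CategoryTheory.Limits AlgebraicGeometry
open Mor

namespace Groth.Agent.S9685

open Groth.Agent.Lib.helper3.DimIneq in
theorem td_quotientMap_bot {A B : Type u} [CommRing A] [CommRing B] [IsDomain B] (φ : A →+* B)
    (hinj : Function.Injective φ) (q : Ideal B) (hq : q = ⊥) :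
    td (Ideal.quotientMap q φ le_rfl) = td φ := by
  subst hq
  haveI : IsDomain (B ⧸ (⊥ : Ideal B)) := Ideal.Quotient.isDomain _
  haveI : Nontrivial A := ⟨⟨0, 1, fun h => zero_ne_one (α := B) (by
    have := congrArg φ h; simpa using this)⟩⟩
  symm
  refine td_eq_of_square φ (Ideal.Quotient.mk ⊥) (Ideal.Quotient.mk ((⊥ : Ideal B).comap φ))
    (Ideal.quotientMap ⊥ φ le_rfl) ?_ hinj ?_ ?_ Ideal.quotientMap_injective
    (isAlgebraic_of_surjective _ Ideal.Quotient.mk_surjective)
    (isAlgebraic_of_surjective _ Ideal.Quotient.mk_surjective)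
  · ext a; rfl
  · rw [RingHom.injective_iff_ker_eq_bot, Ideal.mk_ker]
  · rw [RingHom.injective_iff_ker_eq_bot, Ideal.mk_ker, ← RingHom.ker_eq_comap_bot]
    exact (RingHom.injective_iff_ker_eq_bot φ).mp hinj

/-- Let X and Y be integral schemes with Y locally Noetherian and f : X ⟶ Y dominant and locally of
finite type. If n is the transcendence degree of the function field of X over the function field of
Y (computed on residue fields at the generic points), then dim X ≤ dim Y + n, and equality holds
when the underlying map of f is closed. -/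
theorem result {X Y : Scheme.{u}} [IsIntegral X] [IsIntegral Y]
    [IsLocallyNoetherian Y] (f : X ⟶ Y) [IsDominant f] [LocallyOfFiniteType f] (n : ℕ)
    (hn : letI := (f.residueFieldMap (genericPoint ↥X)).hom.toAlgebra
      Algebra.trdeg (Y.residueField (f.base (genericPoint ↥X))) (X.residueField (genericPoint ↥X)) = n) :
    topologicalKrullDim ↥X ≤ topologicalKrullDim ↥Y + n ∧
      (IsClosedMap f.base → topologicalKrullDim ↥X = topologicalKrullDim ↥Y + n) := by
  have hgen : ∀ ξ : X, closure {ξ} ∈ irreducibleComponents ↥X → ξ = genericPoint ↥X := by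
    intro ξ hξ
    rw [irreducibleComponents_eq_singleton, Set.mem_singleton_iff] at hξ
    have h1 : IsGenericPoint ξ (Set.univ : Set X) := hξ
    exact h1.eq (genericPoint_spec X)
  have ha : topologicalKrullDim ↥X ≤ topologicalKrullDim ↥Y + n := by
    refine Groth.Agent.S9686.result f n (fun ξ hξ => ?_)
    have := hgen ξ hξ
    subst this
    exact le_of_eq hn
  refine ⟨ha, fun hcl => le_antisymm ha ?_⟩
  -- generic points
  have hfη : f.base (genericPoint ↥X) = genericPoint ↥Y := by
    have h1 : IsGenericPoint (f.base (genericPoint ↥X)) (closure (f.base '' Set.univ)) :=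
      (genericPoint_spec X).image f.continuous
    rw [Set.image_univ, f.denseRange.closure_range] at h1
    exact h1.eq (genericPoint_spec Y)
  obtain ⟨V, hV, hηV, -⟩ :=
    exists_isAffineOpen_mem_and_subset (x := f.base (genericPoint ↥X)) (U := ⊤) trivial
  obtain ⟨U, hU, hηU, hUV⟩ :=
    exists_isAffineOpen_mem_and_subset (x := genericPoint ↥X) (U := f ⁻¹ᵁ V) hηV
  haveI : Nonempty U := ⟨⟨_, hηU⟩⟩
  haveI : Nonempty V := ⟨⟨_, hηV⟩⟩
  have hft : (f.appLE V U hUV).hom.FiniteType := LocallyOfFiniteType.finiteType_appLE f hV hU hUV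
  -- primes of the generic points are zero
  have hqX : (hU.primeIdealOf ⟨genericPoint ↥X, hηU⟩).asIdeal = ⊥ := by
    have := hU.primeIdealOf_genericPoint
    rw [genericPoint_eq_bot_of_affine] at this
    exact congrArg PrimeSpectrum.asIdeal this
  have hηV' : genericPoint ↥Y ∈ V := hfη ▸ hηV
  have hqY : (hV.primeIdealOf ⟨genericPoint ↥Y, hηV'⟩).asIdeal = ⊥ := by
    have := hV.primeIdealOf_genericPoint
    rw [genericPoint_eq_bot_of_affine] at this
    exact congrArg PrimeSpectrum.asIdeal this
  have hqY' : ∀ (y : Y) (hy : y ∈ V), y = genericPoint ↥Y →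
      (hV.primeIdealOf ⟨y, hy⟩).asIdeal = ⊥ := by
    rintro y hy rfl
    exact hqY
  have hI : ∀ (z : X) (hz : z ∈ U), (hU.primeIdealOf ⟨z, hz⟩).asIdeal.comap (f.appLE V U hUV).hom =
      (hV.primeIdealOf ⟨f.base z, hUV hz⟩).asIdeal := fun z hz =>
    congrArg PrimeSpectrum.asIdeal
      (IsAffineOpen.comap_primeIdealOf_appLE (f := f) (x := z) V hV U hU hUV hz)
  have hker : RingHom.ker (f.appLE V U hUV).hom = ⊥ := by
    rw [RingHom.ker_eq_comap_bot, ← hqX, hI _ hηU]
    exact hqY' _ _ hfη
  have hinj : Function.Injective (f.appLE V U hUV).hom :=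
    (RingHom.injective_iff_ker_eq_bot _).mpr hker
  have htd : Groth.Agent.Lib.helper3.DimIneq.td (f.appLE V U hUV).hom = n := by
    rw [← td_quotientMap_bot _ hinj _ hqX,
      Groth.Agent.Lib.helper3.DimIneq.td_quotientMap_eq f hV hU hUV _ hηU]
    exact hn
  obtain ⟨q, hqp, hqc, hqn⟩ :=
    Groth.Agent.Lib.helper3.DimIneq.exists_prime_over_bot _ hinj hft n htd
  obtain ⟨xn, hxnU, hxnq⟩ := Groth.Agent.Lib.helper3.DimIneq.exists_point_of_prime hU q
  have hfx : f.base xn = genericPoint ↥Y := by
    have h1 : f.base xn ⤳ genericPoint ↥Y :=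
      (Groth.Agent.Lib.helper3.DimIneq.specializes_iff_primeIdealOf_le hV _ _
        (hUV hxnU) hηV').mpr (by rw [← hI _ hxnU, hxnq, hqc]; exact bot_le)
    have h2 : genericPoint ↥Y ⤳ f.base xn := genericPoint_specializes _
    exact (h1.antisymm h2).eq
  have hco : (n : ℕ∞) ≤ Order.coheight xn := by
    have h1 := ringKrullDim_stalk_eq_coheight xn
    have h2 := Groth.Agent.Lib.helper3.DimIneq.ringKrullDim_stalk_eq_height hU xn hxnU
    rw [h1, hxnq] at h2
    rw [WithBot.coe_injective h2]
    exact hqn
  have hht : Order.height (genericPoint ↥Y) ≤ Order.height xn := by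
    have := Groth.Agent.Lib.helper3.SpecDimUp.height_le_of_specializingMap f.continuous
      hcl.specializingMap xn
    rwa [hfx] at this
  rw [Groth.Agent.Lib.helper11.SpecDim.topologicalKrullDim_eq_krullDim,
    Groth.Agent.Lib.helper11.SpecDim.topologicalKrullDim_eq_krullDim]
  have hY : Order.krullDim ↥Y = (Order.height (genericPoint ↥Y) : WithBot ℕ∞) :=
    (Order.height_top_eq_krullDim (α := ↥Y)).symm
  haveI : Nonempty ↥X := ⟨xn⟩
  have hX : ((Order.height xn + Order.coheight xn : ℕ∞) : WithBot ℕ∞) ≤ Order.krullDim ↥X := by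
    rw [Order.krullDim_eq_iSup_height_add_coheight_of_nonempty]
    exact WithBot.coe_le_coe.mpr (le_iSup (fun a : ↥X => Order.height a + Order.coheight a) xn)
  refine le_trans ?_ hX
  rw [hY]
  have : (Order.height (genericPoint ↥Y) + (n : ℕ∞) : ℕ∞) ≤ Order.height xn + Order.coheight xn :=
    add_le_add hht hco
  exact_mod_cast this

end Groth.Agent.S9685
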