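import Groth.Statements.S9689
import Mathlib
import Groth.Agent.Lib.Helper13.Br8
import Groth.Agent.S2351
-- import your own Groth.Agent.* helpers here

set_option autoImplicit false
universe u
open CategoryTheory CategoryTheory.Limits AlgebraicGeometry
open Mor

namespace Groth.Agent.S9689

/-- For an integral scheme X: if every local ring of X is geometrically unibranch, then the
normalization morphism X^ν ⟶ X is a universal homeomorphism. (The published statement assumes only X
irreducible; this row takes X integral, which loses nothing since the normalization of X equals that
of its reduction.) (The quasi-compactness and quasi-separatedness binders on Spec K(X) ⟶ X always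
hold; they are only needed to form the normalization.) -/
theorem result (X : Scheme.{u}) [IsIntegral X] [QuasiCompact (X.fromSpecStalk (genericPoint ↥X))] [QuasiSeparated (X.fromSpecStalk (genericPoint ↥X))]
    (hX : ∀ x : X, CAlg2.IsGeomUnibranch (X.presheaf.stalk x)) :
    FlatMor.IsUnivHomeo (Curv2.normalizationι X) := by
  haveI hinj : UniversallyInjective (X.fromSpecStalk (genericPoint ↥X)).fromNormalization :=
    Groth.Agent.Lib.helper13.Br.universallyInjective_fromNormalization X hX
  haveI hsurj : Surjective (X.fromSpecStalk (genericPoint ↥X)).fromNormalization :=
    (Groth.Agent.S2351.result X).2.2.1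
  haveI hcl : UniversallyClosed (X.fromSpecStalk (genericPoint ↥X)).fromNormalization :=
    inferInstance
  intro X' Y' i₁ i₂ f' hpb
  have h1 : UniversallyInjective f' :=
    MorphismProperty.of_isPullback (P := @UniversallyInjective) hpb.flip hinj
  have h2 : Surjective f' :=
    MorphismProperty.of_isPullback (P := @Surjective) hpb.flip hsurj
  have h3 : UniversallyClosed f' :=
    MorphismProperty.of_isPullback (P := @UniversallyClosed) hpb.flip hcl
  show IsHomeomorph f'
  rw [isHomeomorph_iff_continuous_isClosedMap_bijective]
  exact ⟨f'.continuous, f'.isClosedMap, f'.injective, f'.surjective⟩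

end Groth.Agent.S9689
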