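import Groth.Statements.S9692
import Mathlib
import Groth.Agent.Lib.Helper12.Segre2
-- import your own Groth.Agent.* helpers here

set_option autoImplicit false
universe u
open CategoryTheory CategoryTheory.Limits AlgebraicGeometry
open Mor

namespace Groth.Agent.S9692

/-- A composition of H-projective morphisms (closed immersions into a projective space P^n over the
target, followed by the projection) is H-projective. -/
theorem result {X Y Z : Scheme.{u}} (f : X ⟶ Y) (g : Y ⟶ Z)
    (hf : RelProj.IsHProjective f) (hg : RelProj.IsHProjective g) :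
    RelProj.IsHProjective (f ≫ g) := by
  obtain ⟨n, i, hi, hif⟩ := hf
  obtain ⟨m, j, hj, hjg⟩ := hg
  obtain ⟨φ, hφ, hφb⟩ := Groth.Agent.Lib.helper12.Segre.exists_segre_embedding Z n m
  let T := specULiftZIsTerminal.{u}
  let p0 := CohB1.ProjSpace.toSpec n (ULift.{u} ℤ)
  -- the map `P^n_Y ⟶ P^n_Z`
  let q : CohB1.ProjSpaceOver n Y ⟶ CohB1.ProjSpaceOver n Z :=
    pullback.lift (pullback.fst p0 (T.from Y)) (pullback.snd p0 (T.from Y) ≫ g)
      (T.hom_ext _ _)
  have hq1 : q ≫ pullback.fst p0 (T.from Z) = pullback.fst p0 (T.from Y) := pullback.lift_fst _ _ _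
  have hq2 : q ≫ CohB1.ProjSpaceOver.toBase n Z = CohB1.ProjSpaceOver.toBase n Y ≫ g :=
    pullback.lift_snd _ _ _
  have hsq : IsPullback q (CohB1.ProjSpaceOver.toBase n Y) (CohB1.ProjSpaceOver.toBase n Z) g := by
    have hright : IsPullback (pullback.fst p0 (T.from Z)) (CohB1.ProjSpaceOver.toBase n Z) p0
        (T.from Z) := IsPullback.of_hasPullback _ _
    have houter : IsPullback (q ≫ pullback.fst p0 (T.from Z)) (CohB1.ProjSpaceOver.toBase n Y)
        p0 (g ≫ T.from Z) := by
      rw [hq1, show g ≫ T.from Z = T.from Y from T.hom_ext _ _]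
      exact IsPullback.of_hasPullback _ _
    exact IsPullback.of_right houter hq2 hright
  -- the map `P^n_Y ⟶ P^n_Z ×_Z P^m_Z`, a base change of `j`
  let k : CohB1.ProjSpaceOver n Y ⟶
      pullback (CohB1.ProjSpaceOver.toBase n Z) (CohB1.ProjSpaceOver.toBase m Z) :=
    pullback.lift q (CohB1.ProjSpaceOver.toBase n Y ≫ j) (by rw [hq2, Category.assoc, hjg])
  have hk1 : k ≫ pullback.fst _ _ = q := pullback.lift_fst _ _ _
  have hk2 : k ≫ pullback.snd _ _ = CohB1.ProjSpaceOver.toBase n Y ≫ j := pullback.lift_snd _ _ _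
  have hkpb : IsPullback k (CohB1.ProjSpaceOver.toBase n Y)
      (pullback.snd (CohB1.ProjSpaceOver.toBase n Z) (CohB1.ProjSpaceOver.toBase m Z)) j := by
    have hright : IsPullback
        (pullback.fst (CohB1.ProjSpaceOver.toBase n Z) (CohB1.ProjSpaceOver.toBase m Z))
        (pullback.snd (CohB1.ProjSpaceOver.toBase n Z) (CohB1.ProjSpaceOver.toBase m Z))
        (CohB1.ProjSpaceOver.toBase n Z) (CohB1.ProjSpaceOver.toBase m Z) :=
      IsPullback.of_hasPullback _ _
    have houter : IsPullback (k ≫ pullback.fst _ _) (CohB1.ProjSpaceOver.toBase n Y)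
        (CohB1.ProjSpaceOver.toBase n Z) (j ≫ CohB1.ProjSpaceOver.toBase m Z) := by
      rw [hk1, hjg]
      exact hsq
    exact IsPullback.of_right houter hk2 hright
  have hkcl : IsClosedImmersion k :=
    MorphismProperty.of_isPullback (P := @IsClosedImmersion) hkpb.flip hj
  refine ⟨n * m + n + m, i ≫ k ≫ φ, inferInstance, ?_⟩
  rw [Category.assoc, Category.assoc, hφb, ← Category.assoc k, hk1, hq2, ← Category.assoc, hif]

end Groth.Agent.S9692
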