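import Groth.Statements.S9693


set_option autoImplicit false
universe u
open CategoryTheory CategoryTheory.Limits AlgebraicGeometry
open Mor

namespace Groth.Agent.S9693

/-- A base change of an H-projective morphism (a closed immersion into some P^n over the base followed
by the projection) is H-projective. -/
theorem result {X S S' : Scheme.{u}} (f : X ⟶ S) (hf : RelProj.IsHProjective f)
    (g : S' ⟶ S) : RelProj.IsHProjective (pullback.snd f g) := by
  obtain ⟨n, i, hi, hfac⟩ := hf
  -- notation
  let T := specULiftZIsTerminal.{u}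
  let p0 := CohB1.ProjSpace.toSpec n (ULift.{u} ℤ)
  -- the map `P^n_{S'} ⟶ P^n_S`
  let q : CohB1.ProjSpaceOver n S' ⟶ CohB1.ProjSpaceOver n S :=
    pullback.lift (pullback.fst p0 (T.from S')) (pullback.snd p0 (T.from S') ≫ g)
      (T.hom_ext _ _)
  have hq1 : q ≫ pullback.fst p0 (T.from S) = pullback.fst p0 (T.from S') := pullback.lift_fst _ _ _
  have hq2 : q ≫ CohB1.ProjSpaceOver.toBase n S = CohB1.ProjSpaceOver.toBase n S' ≫ g :=
    pullback.lift_snd _ _ _
  -- the square `P^n_{S'}, P^n_S, S', S` is a pullback
  have hsq : IsPullback q (CohB1.ProjSpaceOver.toBase n S') (CohB1.ProjSpaceOver.toBase n S) g := by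
    have hright : IsPullback (pullback.fst p0 (T.from S)) (CohB1.ProjSpaceOver.toBase n S) p0
        (T.from S) := IsPullback.of_hasPullback _ _
    have houter : IsPullback (q ≫ pullback.fst p0 (T.from S)) (CohB1.ProjSpaceOver.toBase n S')
        p0 (g ≫ T.from S) := by
      rw [hq1, show g ≫ T.from S = T.from S' from T.hom_ext _ _]
      exact IsPullback.of_hasPullback _ _
    exact IsPullback.of_right houter hq2 hright
  -- the lifted closed immersion
  let i' : pullback f g ⟶ CohB1.ProjSpaceOver n S' :=
    hsq.lift (pullback.fst f g ≫ i) (pullback.snd f g)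
      (by rw [Category.assoc, hfac, pullback.condition])
  have hi'1 : i' ≫ q = pullback.fst f g ≫ i := hsq.lift_fst _ _ _
  have hi'2 : i' ≫ CohB1.ProjSpaceOver.toBase n S' = pullback.snd f g := hsq.lift_snd _ _ _
  refine ⟨n, i', ?_, hi'2⟩
  -- `i'` is a base change of `i`
  have hleft : IsPullback i' (pullback.fst f g) q i := by
    have houter : IsPullback (i' ≫ CohB1.ProjSpaceOver.toBase n S') (pullback.fst f g) g
        (i ≫ CohB1.ProjSpaceOver.toBase n S) := by
      rw [hi'2, hfac]
      exact (IsPullback.of_hasPullback f g).flip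
    exact IsPullback.of_right houter hi'1 hsq.flip
  exact MorphismProperty.of_isPullback (P := @IsClosedImmersion) hleft.flip hi

end Groth.Agent.S9693
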