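import Groth.Statements.S9694
import Mathlib
import Groth.Agent.Lib.Helper12.UCAffine2
import Groth.Agent.Lib.Helper11.IsoLocus

set_option autoImplicit false
universe u
open CategoryTheory CategoryTheory.Limits AlgebraicGeometry
open Mor

namespace Groth.Agent.S9694

/-- Let f : X ⟶ S be universally closed, L an O_X-module ample relative to f and s a global section of
L, viewed as a morphism O_X ⟶ L. Then the open subscheme X_s of X where s generates L is affine over
S: the inclusion of X_s followed by f is an affine morphism. -/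
theorem result {X S : Scheme.{u}} (f : X ⟶ S) [UniversallyClosed f]
    (L : X.Modules) (hL : RelAmple.IsRelAmple f L) (s : Coh.structureModule X ⟶ L) :
    IsAffineHom ((CohB1.genLocus L s).ι ≫ f) := by
  set U := CohB1.genLocus L s with hUdef
  constructor
  intro V hV
  rw [← U.ι.isAffineOpen_iff_of_isOpenImmersion]
  have hVaff : IsAffine V.toScheme := hV
  have hUC : UniversallyClosed (f ∣_ V) :=
    IsZariskiLocalAtTarget.restrict (P := @UniversallyClosed) inferInstance V
  have hamp : CohB1.IsAmple (L.restrict (f ⁻¹ᵁ V).ι) := hL.2 ⟨V, hV⟩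
  have h1 := Groth.Agent.Lib.Helper12.UCAffine.isAffineOpen_genLocus_of_universallyClosed
    (f ∣_ V) (L.restrict (f ⁻¹ᵁ V).ι) hamp
    ((Scheme.Modules.restrictUnitIso (f ⁻¹ᵁ V).ι).inv ≫
      (Scheme.Modules.restrictFunctor (f ⁻¹ᵁ V).ι).map s)
  rw [Groth.Agent.Lib.helper11.IsoLocus.genLocus_restrict,
    ← (f ⁻¹ᵁ V).ι.isAffineOpen_iff_of_isOpenImmersion] at h1
  have e : U.ι ''ᵁ ((U.ι ≫ f) ⁻¹ᵁ V) = (f ⁻¹ᵁ V).ι ''ᵁ ((f ⁻¹ᵁ V).ι ⁻¹ᵁ CohB1.genLocus L s) := by
    rw [Scheme.Hom.comp_preimage, Scheme.Hom.image_preimage_eq_opensRange_inf,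
      Scheme.Hom.image_preimage_eq_opensRange_inf, Scheme.Opens.opensRange_ι,
      Scheme.Opens.opensRange_ι, inf_comm]
  rw [e]
  exact h1

end Groth.Agent.S9694
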