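import Groth.Statements.S9695
import Mathlib
import Groth.Agent.Lib.Helper12.VAmple5
import Groth.Agent.Lib.Helper12.AmpleCoprod
-- import your own Groth.Agent.* helpers here

set_option autoImplicit false
universe u
open CategoryTheory CategoryTheory.Limits AlgebraicGeometry
open Mor

namespace Groth.Agent.S9695

/-- Suppose f : X ⟶ S is a morphism of finite type and L is an invertible O_X-module. Then L is
f-relatively ample exactly when S can be covered by open subsets V with the following property: for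
every such V there is an integer d ≥ 1 for which the tensor power L^{⊗d}, restricted to f⁻¹(V), is
isomorphic to the pullback of O(1) under some V-immersion of f⁻¹(V) into a projective space P^n_V. -/
theorem result {X S : Scheme.{u}} (f : X ⟶ S)
    [LocallyOfFiniteType f] [QuasiCompact f] (L : X.Modules) (hLinv : PicF.IsInvertible L) :
    RelAmple.IsRelAmple f L ↔
      ∃ (ι : Type u) (V : ι → S.Opens), (⨆ j, V j) = ⊤ ∧
        ∀ j, ∃ d : ℕ, 0 < d ∧
          RelAmple.IsRelVeryAmplePn (f ∣_ V j) ((CohB1.tensorPow L d).restrict (f ⁻¹ᵁ V j).ι) := by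
  constructor
  · intro h
    refine ⟨S.affineOpens, fun j => j.1, iSup_affineOpens_eq_top S, fun j => ?_⟩
    have hA : CohB1.IsAmple (L.restrict (f ⁻¹ᵁ j.1).ι) := h.2 j
    obtain ⟨n₀, hn⟩ :=
      Groth.Agent.Lib.helper12.VAmple4.isRelVeryAmplePn_tensorPow_eventually (f ∣_ j.1) hA
    refine ⟨n₀ + 1, Nat.succ_pos _, ?_⟩
    exact Groth.Agent.Lib.helper12.VAmple4.isRelVeryAmplePn_of_iso _
      (Groth.Agent.Lib.helper12.AmplePow.restrictTensorPowIso (f ⁻¹ᵁ j.1).ι L (n₀ + 1)).symm
      (hn _ (Nat.le_succ _))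
  · rintro ⟨ι, V, hV, h⟩
    rw [Groth.Agent.Lib.helper12.AmpleLocal.isRelAmple_iff_of_openCover f L V hV]
    intro j
    obtain ⟨d, hd, hva⟩ := h j
    have h1 := Groth.Agent.Lib.helper12.VAmple5.isRelAmple_of_isRelVeryAmplePn (f ∣_ V j) hva
    have h2 : RelAmple.IsRelAmple (f ∣_ V j) (CohB1.tensorPow (L.restrict (f ⁻¹ᵁ V j).ι) d) :=
      Groth.Agent.Lib.helper12.AmpleCoprod.isRelAmple_of_iso _
        (Groth.Agent.Lib.helper12.AmplePow.restrictTensorPowIso (f ⁻¹ᵁ V j).ι L d) h1
    exact (Groth.Agent.Lib.helper12.AmplePow.isRelAmple_tensorPow_iff _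
      (Groth.Agent.Lib.helper11.InvMod.isInvertible_restrict _ hLinv) d hd).mpr h2

end Groth.Agent.S9695
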