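import Groth.Statements.S9696
import Mathlib
import Groth.Agent.Lib.Helper18.PullbackStalk
import Groth.Agent.Lib.Helper18.StalkEtale3

set_option autoImplicit false
universe u
open CategoryTheory CategoryTheory.Limits AlgebraicGeometry
open Mor

namespace Groth.Agent.S9696

open Groth.Agent.Lib.Helper18.PullbackStalk H18Stalk

/-- Let f : X ⟶ S be flat and locally of finite presentation and g : S' ⟶ S any morphism, with base
change f' : X ×_S S' ⟶ S' and projection g' : X ×_S S' ⟶ X. Then the open set of points where f' is
etale is the inverse image under g' of the open set of points where f is etale. -/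
theorem result {X S S' : Scheme.{u}} (f : X ⟶ S) [Flat f]
    [LocallyOfFinitePresentation f] (g : S' ⟶ S) (x' : ↑(pullback f g)) :
    (∃ U' : (pullback f g).Opens, x' ∈ U' ∧ Etale (U'.ι ≫ pullback.snd f g)) ↔
      (∃ U : X.Opens, (pullback.fst f g).base x' ∈ U ∧ Etale (U.ι ≫ f)) := by
  rw [exists_etale_nhd_iff_fp, exists_etale_nhd_iff_fp]
  have h1 : ((pullback.snd f g).stalkMap x').hom.Flat := Flat.stalkMap _ _
  have h2 : (f.stalkMap (pullback.fst f g x')).hom.Flat := Flat.stalkMap _ _
  rw [unram_stalk_iff_pullback f g x']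
  exact ⟨fun h => ⟨h2, h.2⟩, fun h => ⟨h1, h.2⟩⟩

end Groth.Agent.S9696
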