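import Groth.Statements.S9700
import Mathlib
import Groth.Agent.S19891
import Groth.Agent.Lib.Helper4.ValRefined

set_option autoImplicit false
universe u
open CategoryTheory CategoryTheory.Limits AlgebraicGeometry
open Mor

namespace Groth.Agent.S9700

/-- Let f : X ⟶ S and h : U ⟶ X be quasi-compact with h(U) dense in X. Suppose each valuative square
over f, whose map Spec K ⟶ X factors through h, has a unique diagonal lift. Then f is universally
closed, and f is also separated provided it is quasi-separated. -/
theorem result {U X S : Scheme.{u}} (f : X ⟶ S) (h : U ⟶ X)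
    [QuasiCompact f] [QuasiCompact h] (hd : DenseRange h.base)
    (H : ∀ sq : ValuativeCommSq f, (∃ i : Spec (.of sq.K) ⟶ U, i ≫ h = sq.i₁) →
      Nonempty (Unique sq.commSq.LiftStruct)) :
    UniversallyClosed f ∧ (QuasiSeparated f → IsSeparated f) := by
  have HR : Groth.Agent.Lib.helper4.ValRefined.Refined h f := by
    intro z R φ hφ
    let sq : ValuativeCommSq f :=
      { R := ↥R
        K := U.residueField z
        i₁ := U.fromSpecResidueField z ≫ h
        i₂ := φ
        commSq := ⟨by rw [Category.assoc]; exact hφ.symm⟩ }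
    obtain ⟨hu⟩ := H sq ⟨U.fromSpecResidueField z, rfl⟩
    refine ⟨hu.default.l, ⟨hu.default.fac_left, hu.default.fac_right⟩, ?_⟩
    rintro l' ⟨h1, h2⟩
    have := hu.uniq ⟨l', h1, h2⟩
    exact congrArg CommSq.LiftStruct.l this
  refine ⟨Groth.Agent.Lib.helper4.ValRefined.universallyClosed_of_refined h f hd HR, ?_⟩
  intro hqs
  have hC : ∀ (z : ↥U) (R : ValuationSubring ↑(U.residueField z))
      (φ : Spec (CommRingCat.of ↥R) ⟶ S),
      Spec.map (CommRingCat.ofHom R.subtype) ≫ φ = U.fromSpecResidueField z ≫ h ≫ f →
      ∀ φ₁ φ₂ : Spec (CommRingCat.of ↥R) ⟶ X,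
        Spec.map (CommRingCat.ofHom R.subtype) ≫ φ₁ = U.fromSpecResidueField z ≫ h → φ₁ ≫ f = φ →
        Spec.map (CommRingCat.ofHom R.subtype) ≫ φ₂ = U.fromSpecResidueField z ≫ h → φ₂ ≫ f = φ →
        φ₁ = φ₂ :=
    fun z R φ hφ φ₁ φ₂ h1 h1' h2 h2' => (HR z R φ hφ).unique ⟨h1, h1'⟩ ⟨h2, h2'⟩
  have hqc : QuasiCompact (pullback.diagonal f) := inferInstance
  have hqg : QuasiCompact (h ≫ pullback.diagonal f) := inferInstance
  have hcl : IsClosed (Set.range (pullback.diagonal f).base) := by
    rw [← closure_subset_iff_isClosed]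
    intro w' hw'
    have hw'' : w' ∈ closure (Set.range (h ≫ pullback.diagonal f).base) := by
      have h1 : Set.range (pullback.diagonal f).base ⊆
          closure (Set.range (h ≫ pullback.diagonal f).base) := by
        rw [Scheme.Hom.comp_base, TopCat.coe_comp, Set.range_comp, ← Set.image_univ,
          ← hd.closure_range]
        exact image_closure_subset_closure_image (pullback.diagonal f).continuous
      exact closure_minimal h1 isClosed_closure hw'
    obtain ⟨z, hz⟩ := Groth.Agent.S19891.exists_specializes_of_mem_closure_range _ w' hw''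
    obtain ⟨R, m, hm1, hm2⟩ := Groth.Agent.S19891.exists_valuationSubring_of_specializes _ z w' hz
    have hφ : ∀ pr : pullback f f ⟶ X, pullback.diagonal f ≫ pr = 𝟙 X →
        Spec.map (CommRingCat.ofHom R.subtype) ≫ (m ≫ pr) = U.fromSpecResidueField z ≫ h := by
      intro pr hpr
      rw [← Category.assoc, hm2, Category.assoc, Category.assoc, hpr, Category.comp_id]
    have h12 : m ≫ pullback.fst f f = m ≫ pullback.snd f f := by
      refine hC z R ((m ≫ pullback.fst f f) ≫ f) ?_ _ _ (hφ _ (pullback.diagonal_fst f)) rfl
        (hφ _ (pullback.diagonal_snd f)) ?_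
      · rw [← Category.assoc, hφ _ (pullback.diagonal_fst f), Category.assoc]
      · rw [Category.assoc, Category.assoc, pullback.condition]
    have hm : m = (m ≫ pullback.fst f f) ≫ pullback.diagonal f := by
      apply pullback.hom_ext
      · rw [Category.assoc, pullback.diagonal_fst, Category.comp_id]
      · rw [Category.assoc, pullback.diagonal_snd, Category.comp_id, h12]
    refine ⟨(m ≫ pullback.fst f f).base (IsLocalRing.closedPoint R), ?_⟩
    have e := congrArg (fun ψ => ψ.base (IsLocalRing.closedPoint R)) hm
    exact e.symm.trans hm1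
  have : IsClosedImmersion (pullback.diagonal f) := IsClosedImmersion.of_isPreimmersion _ hcl
  exact ⟨this⟩

end Groth.Agent.S9700
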