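import Groth.Statements.S9703
import Mathlib
import Groth.Agent.Lib.Helper12.SplitCover2

set_option autoImplicit false
universe u
open CategoryTheory CategoryTheory.Limits AlgebraicGeometry
open Mor

namespace Groth.Agent.S9703

/-- Let f : Y ⟶ X be finite with X affine. Then there exist a surjective finite locally free b : X' ⟶ X,
a finite locally free c : Z' ⟶ X' and a closed immersion i of Y' = X' ×_X Y into Z' over X' such
that Z' is, as a set, the union of finitely many closed subschemes each mapping isomorphically onto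
X'. (The published statement also records that Y' ⟶ Y is surjective finite locally free, which
follows by base change; this row omits it.) -/
theorem result {X Y : Scheme.{u}} [IsAffine X] (f : Y ⟶ X)
    [IsFinite f] :
    ∃ (X' : Scheme.{u}) (b : X' ⟶ X) (Z' : Scheme.{u}) (c : Z' ⟶ X') (i : pullback f b ⟶ Z'),
      Mor2.IsFinLocFree b ∧ Surjective b ∧ Mor2.IsFinLocFree c ∧ IsClosedImmersion i ∧
      i ≫ c = pullback.snd f b ∧
      ∃ (m : ℕ) (Zj : Fin m → Scheme.{u}) (ιj : ∀ j, Zj j ⟶ Z'),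
        (∀ j, IsClosedImmersion (ιj j)) ∧ (∀ j, IsIso (ιj j ≫ c)) ∧
        (⋃ j, Set.range (ιj j).base) = Set.univ := by
  classical
  have hY : IsAffine Y := isAffine_of_isAffineHom f
  have hφ : (f.appTop).hom.Finite :=
    ((HasAffineProperty.iff_of_isAffine (P := @IsFinite)).mp inferInstance).2
  let _ : Algebra Γ(X, ⊤) Γ(Y, ⊤) := (f.appTop).hom.toAlgebra
  have hfinAB : Module.Finite Γ(X, ⊤) Γ(Y, ⊤) := hφ
  obtain ⟨A', _, _, hgood, D, hDsurj⟩ :=
    Groth.Agent.Lib.helper12.SplitCover.alg_main (A := Γ(X, ⊤)) (B := Γ(Y, ⊤))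
  -- the ring maps as morphisms
  let α : Γ(X, ⊤) ⟶ CommRingCat.of A' := CommRingCat.ofHom (algebraMap Γ(X, ⊤) A')
  let inl : Γ(Y, ⊤) ⟶ CommRingCat.of (TensorProduct Γ(X, ⊤) Γ(Y, ⊤) A') :=
    CommRingCat.ofHom Algebra.TensorProduct.includeLeftRingHom
  let inr : CommRingCat.of A' ⟶ CommRingCat.of (TensorProduct Γ(X, ⊤) Γ(Y, ⊤) A') :=
    CommRingCat.ofHom (Algebra.TensorProduct.includeRight :
      A' →ₐ[Γ(X, ⊤)] TensorProduct Γ(X, ⊤) Γ(Y, ⊤) A').toRingHom
  have hpo : IsPushout (f.appTop) α inl inr :=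
    CommRingCat.isPushout_tensorProduct Γ(X, ⊤) Γ(Y, ⊤) A'
  have hpb0 : IsPullback (Spec.map inl) (Spec.map inr) (Spec.map f.appTop) (Spec.map α) :=
    isPullback_SpecMap_of_isPushout _ _ _ _ hpo
  let b : Spec (CommRingCat.of A') ⟶ X := Spec.map α ≫ X.isoSpec.inv
  have hpb : IsPullback (Spec.map inl ≫ Y.isoSpec.inv) (Spec.map inr) f b := by
    refine IsPullback.of_iso hpb0 (Iso.refl _) Y.isoSpec.symm (Iso.refl _) X.isoSpec.symm
      ?_ ?_ ?_ ?_
    · simp
    · simp
    · simpa using Scheme.isoSpec_inv_naturality f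
    · simp [b]
  let c : Spec (CommRingCat.of D.C) ⟶ Spec (CommRingCat.of A') := Spec.map (CommRingCat.ofHom D.g)
  let i : pullback f b ⟶ Spec (CommRingCat.of D.C) :=
    hpb.isoPullback.inv ≫ Spec.map (CommRingCat.ofHom D.ψ)
  have hψg : CommRingCat.ofHom D.g ≫ CommRingCat.ofHom D.ψ = inr := by
    rw [← CommRingCat.ofHom_comp, D.hψ]
  -- enumerate the sections
  obtain ⟨m, e⟩ : ∃ m : ℕ, Nonempty (Fin m ≃ D.S) := by
    have := D.hS_fin.to_subtype
    exact ⟨Nat.card D.S, ⟨(Finite.equivFin D.S).symm⟩⟩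
  obtain ⟨e⟩ := e
  refine ⟨Spec (CommRingCat.of A'), b, Spec (CommRingCat.of D.C), c, i, ?_, ?_, ?_, ?_, ?_,
    m, fun _ => Spec (CommRingCat.of A'), fun j => Spec.map (CommRingCat.ofHom (e j).1), ?_, ?_, ?_⟩
  · refine ⟨?_, ?_, ?_⟩
    · have : IsFinite (Spec.map α) := (IsFinite.SpecMap_iff α).mpr hgood.1
      infer_instance
    · have : Flat (Spec.map α) := Flat.SpecMap_iff.mpr hgood.2.1
      infer_instance
    · have : LocallyOfFinitePresentation (Spec.map α) :=
        (LocallyOfFinitePresentation.SpecMap_iff α).mpr hgood.2.2.1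
      infer_instance
  · have : Surjective (Spec.map α) :=
      ⟨RingHom.IsIntegral.comap_surjective hgood.1.to_isIntegral hgood.2.2.2⟩
    infer_instance
  · exact ⟨(IsFinite.SpecMap_iff _).mpr D.hg_fin, Flat.SpecMap_iff.mpr D.hg_flat,
      (LocallyOfFinitePresentation.SpecMap_iff _).mpr D.hg_fp⟩
  · have : IsClosedImmersion (Spec.map (CommRingCat.ofHom D.ψ)) :=
      IsClosedImmersion.spec_of_surjective _ hDsurj
    infer_instance
  · show (hpb.isoPullback.inv ≫ Spec.map (CommRingCat.ofHom D.ψ)) ≫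
      Spec.map (CommRingCat.ofHom D.g) = pullback.snd f b
    rw [Category.assoc, ← Spec.map_comp, hψg]
    exact hpb.isoPullback_inv_snd
  · intro j
    refine IsClosedImmersion.spec_of_surjective _ (fun a => ⟨D.g a, ?_⟩)
    exact congrArg (fun φ : A' →+* A' => φ a) (D.hS_sec _ (e j).2)
  · intro j
    have : Spec.map (CommRingCat.ofHom (e j).1) ≫ c = 𝟙 _ := by
      show Spec.map _ ≫ Spec.map _ = _
      rw [← Spec.map_comp, ← CommRingCat.ofHom_comp, D.hS_sec _ (e j).2]
      exact Spec.map_id _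
    rw [this]; infer_instance
  · rw [Set.eq_univ_iff_forall]
    intro z
    obtain ⟨s, hs, hker⟩ := D.hS_cov z.asIdeal z.isPrime
    rw [Set.mem_iUnion]
    refine ⟨e.symm ⟨s, hs⟩, ?_⟩
    show z ∈ Set.range (Spec.map (CommRingCat.ofHom (e (e.symm ⟨s, hs⟩)).1))
    rw [Equiv.apply_symm_apply]
    have hsurj : Function.Surjective s := fun a =>
      ⟨D.g a, congrArg (fun φ : A' →+* A' => φ a) (D.hS_sec _ hs)⟩
    have := range_comap_of_surjective _ s hsurj
    change z ∈ Set.range (PrimeSpectrum.comap s)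
    rw [this]
    exact hker


end Groth.Agent.S9703
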