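import Groth.Statements.S9707
import Groth.Agent.S12688
import Groth.Agent.Lib.Helper28.ProjBundlePn
import Groth.Agent.Lib.Helper28.RLpsiTwist
import Groth.Agent.Lib.Helper12.AmpleBasis
-- import your own Groth.Agent.* helpers here

set_option autoImplicit false
universe u
open CategoryTheory CategoryTheory.Limits AlgebraicGeometry
open Mor

namespace Groth.Agent.S9707

/-- Let S be affine, f : X ⟶ S of finite type and L an invertible O_X-module very ample relative to f
(isomorphic to the inverse image of O(1) along an S-immersion into the projective bundle of a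
quasi-coherent O_S-module). Then there exist n ≥ 0 and an immersion i : X ⟶ P^n_S over S with L ≅
i^* O(1). -/
theorem result {X S : Scheme.{u}} [IsAffine S] (f : X ⟶ S)
    [LocallyOfFiniteType f] [QuasiCompact f] (L : X.Modules) (hLinv : PicF.IsInvertible L)
    (hL : RelProj.IsRelVeryAmple f L) : RelAmple.IsRelVeryAmplePn f L := by
  have hLq : L.IsQuasicoherent :=
    Groth.Agent.Lib.helper12.AmpleBasis.isQuasicoherent_of_isInvertible hLinv
  obtain ⟨𝒮L, jL, hjL⟩ := Groth.Agent.Lib.helper28.SymGradedExists.exists_isGrSymAlg L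
  obtain ⟨PL, pL, chartL, hPL⟩ := Groth.Agent.Lib.helper28.RelProjExists.exists_relProj 𝒮L
  obtain ⟨E, hEq, hEft, ι, hinj, 𝒯, jE, h𝒯, u, hu, hsurj, hall⟩ :=
    Groth.Agent.S12688.result (Or.inl ⟨inferInstance, inferInstance⟩) f L hLinv hLq 𝒮L jL hjL pL
      chartL hPL hL
  have hEq' : E.IsQuasicoherent := hEq
  obtain ⟨P, p, chart, hP⟩ := Groth.Agent.Lib.helper28.RelProjExists.exists_relProj 𝒯
  obtain ⟨r, hr₀, -⟩ := Groth.Agent.Lib.helper28.ProjQGlue.existsUnique_glue u (p := p)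
    (chart := chart) (p' := pL) (chart' := chartL) hP hPL
  have hr : RelProj.IsProjQMapOn u p chart pL chartL (RelProj.domQ u pL chartL) r :=
    (Groth.Agent.Lib.helper28.ProjQComp.isProjQMapOn_iff u r).mpr hr₀
  obtain ⟨hdom, himmr⟩ := hall P p chart hP r hr
  obtain ⟨O1, lam, hO1⟩ :=
    Groth.Agent.Lib.helper28.RelTwistExists.exists_isRelTwist 𝒯 p chart hP 1
  have h1 : 𝒯.IsGenDegOne :=
    Groth.Agent.Lib.helper28.ProjBundleQuot.isGenDegOne_of_isGrSymAlg E 𝒯 jE h𝒯
  have hsurj' : ∀ x : X, ∃ (U : S.Opens) (hU : IsAffineOpen U)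
      (e : 𝒯.presheaf.obj (Opposite.op U)) (_ : e ∈ 𝒯.deg U hU 1) (V : X.Opens)
      (hV : IsAffineOpen V) (hVU : V ≤ f ⁻¹ᵁ U), x ∈ V ∧
        ((𝒮L.deg V hV 1 : AddSubgroup (𝒮L.presheaf.obj (Opposite.op V))) :
          Set (𝒮L.presheaf.obj (Opposite.op V))) ⊆
          (Ideal.span {(u.appLE U V hVU).hom e} : Set (𝒮L.presheaf.obj (Opposite.op V))) := by
    intro x
    obtain ⟨U, hU, e', V, hV, hVU, hxV, hspan⟩ := hsurj x
    exact ⟨U, hU, _, h𝒯.2 U hU e', V, hV, hVU, hxV, hspan⟩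
  obtain ⟨hpLiso, hιiso, i, hieq, hip, ⟨e⟩⟩ :=
    Groth.Agent.Lib.helper28.RLpsiTwist.exists_pullback_iso f L hLinv 𝒮L jL hjL pL chartL hPL 𝒯 h1
      u hsurj' p chart hP r hr O1 lam hO1
  have himm : IsImmersion i := by
    rw [hieq]
    infer_instance
  obtain ⟨n, k, hk, hksnd, ⟨τ⟩⟩ := Groth.Agent.Lib.helper28.ProjBundlePn.isRelVeryAmplePn E 𝒯 jE
    h𝒯 hEft p chart hP O1 lam hO1
  refine ⟨n, i ≫ k, inferInstance, ?_, ⟨?_⟩⟩
  · refine (Category.assoc _ _ _).trans ?_
    rw [hksnd, hip]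
  · exact e ≪≫ (Scheme.Modules.pullback i).mapIso τ ≪≫
      (Scheme.Modules.pullbackComp i k).app _

end Groth.Agent.S9707
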