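import Groth.Statements.S9709
import Mathlib.AlgebraicGeometry.Morphisms.Integral
import Mathlib.RingTheory.Ideal.GoingUp

set_option autoImplicit false
universe u
open CategoryTheory CategoryTheory.Limits AlgebraicGeometry
open Mor

namespace Groth.Agent.S9709

/-- Let f : X ⟶ S be an integral morphism. Then every point x of X is closed in its fibre: a point of
f⁻¹(f x) specialising from x equals x. -/
theorem result {X S : Scheme.{u}} (f : X ⟶ S) [IsIntegralHom f] (x : X) :
    closure {x} ∩ f.base ⁻¹' {f.base x} = {x} := by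
  apply Set.eq_of_subset_of_subset
  · rintro x' ⟨hx', hfx'⟩
    have hspec : x ⤳ x' := specializes_iff_mem_closure.mpr hx'
    have hfx : f x' = f x := hfx'
    obtain ⟨_, ⟨U, hU, rfl⟩, hxU, -⟩ := S.isBasis_affineOpens.exists_subset_of_mem_open
      (Set.mem_univ (f x)) isOpen_univ
    have hV : IsAffineOpen (f ⁻¹ᵁ U) := hU.preimage f
    have hxV : x ∈ f ⁻¹ᵁ U := hxU
    have hx'V : x' ∈ f ⁻¹ᵁ U := by
      change f x' ∈ U
      rw [hfx]; exact hxU
    -- the two primes
    set p := hV.primeIdealOf ⟨x, hxV⟩ with hp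
    set p' := hV.primeIdealOf ⟨x', hx'V⟩ with hp'
    have hle : p ≤ p' := by
      rw [PrimeSpectrum.le_iff_specializes]
      have h1 : (⟨x, hxV⟩ : (f ⁻¹ᵁ U : X.Opens)) ⤳ ⟨x', hx'V⟩ :=
        (subtype_specializes_iff _ _).mpr hspec
      exact h1.map hV.isoSpec.hom.continuous
    have hc : p.asIdeal.comap (f.appLE U (f ⁻¹ᵁ U) le_rfl).hom =
        p'.asIdeal.comap (f.appLE U (f ⁻¹ᵁ U) le_rfl).hom := by
      have e1 := IsAffineOpen.comap_primeIdealOf_appLE (f := f) (x := x) U hU (f ⁻¹ᵁ U) hV le_rfl hxV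
      have e2 := IsAffineOpen.comap_primeIdealOf_appLE (f := f) (x := x') U hU (f ⁻¹ᵁ U) hV le_rfl hx'V
      have e3 : hU.primeIdealOf ⟨f x, hxU⟩ = hU.primeIdealOf ⟨f x', hx'V⟩ := by
        congr 1
        exact Subtype.ext hfx.symm
      have := congrArg PrimeSpectrum.asIdeal (e1.trans (e3.trans e2.symm))
      exact this
    have hint : (f.appLE U (f ⁻¹ᵁ U) le_rfl).hom.IsIntegral := by
      rw [← Scheme.Hom.app_eq_appLE]
      exact f.isIntegral_app U hU
    have hpp' : p = p' := by
      by_contra hne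
      have hlt : p.asIdeal < p'.asIdeal := lt_of_le_of_ne hle (fun h => hne (PrimeSpectrum.ext h))
      algebraize [(f.appLE U (f ⁻¹ᵁ U) le_rfl).hom]
      have : Algebra.IsIntegral Γ(S, U) Γ(X, f ⁻¹ᵁ U) := ⟨hint⟩
      have := Ideal.IsIntegral.comap_lt_comap (R := Γ(S, U)) hlt
      exact absurd hc (ne_of_lt this)
    have : (⟨x', hx'V⟩ : (f ⁻¹ᵁ U : X.Opens)) = ⟨x, hxV⟩ := by
      have hinj : Function.Injective hV.isoSpec.hom := by
        have : IsIso hV.isoSpec.hom := inferInstance
        exact (ConcreteCategory.bijective_of_isIso hV.isoSpec.hom.base).1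
      exact hinj hpp'.symm
    exact congrArg Subtype.val this
  · rintro _ rfl
    exact ⟨subset_closure rfl, rfl⟩

end Groth.Agent.S9709
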