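import Groth.Statements.S9712
import Mathlib
import Groth.Agent.Lib.Helper12.VAmple6
-- import your own Groth.Agent.* helpers here

set_option autoImplicit false
universe u
open CategoryTheory CategoryTheory.Limits AlgebraicGeometry
open Mor

namespace Groth.Agent.S9712

/-- A morphism f : X ⟶ S is locally quasi-projective (S is covered by opens U with f⁻¹(U) ⟶ U
quasi-projective) if and only if S is covered by opens U such that f⁻¹(U) ⟶ U is H-quasi-projective
(a quasi-compact immersion into some P^n_U followed by the projection). -/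
theorem result {X S : Scheme.{u}} (f : X ⟶ S) :
    (∀ s : S, ∃ U : S.Opens, s ∈ U ∧ RelProj.IsQuasiProjective (f ∣_ U)) ↔
      (∀ s : S, ∃ U : S.Opens, s ∈ U ∧ RelProj.IsHQuasiProjective (f ∣_ U)) := by
  constructor
  · intro h s
    obtain ⟨U, hsU, hft, hqc, L, hL⟩ := h s
    obtain ⟨V', hV', hsV', -⟩ := exists_isAffineOpen_mem_and_subset
      (X := (↑U : Scheme.{u})) (x := ⟨s, hsU⟩) (U := ⊤) trivial
    refine ⟨U.ι ''ᵁ V', ⟨⟨s, hsU⟩, hsV', rfl⟩, ?_⟩
    have hA : CohB1.IsAmple (L.restrict ((f ∣_ U) ⁻¹ᵁ V').ι) := hL.2 ⟨V', hV'⟩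
    have hH : RelProj.IsHQuasiProjective (f ∣_ U ∣_ V') :=
      Groth.Agent.Lib.helper12.VAmple6.isHQuasiProjective_of_isAmple (f ∣_ U ∣_ V') hA
    exact Groth.Agent.Lib.helper12.VAmple6.isHQuasiProjective_of_arrow_iso
      (morphismRestrictRestrict f U V') hH
  · intro h s
    obtain ⟨U, hsU, hH⟩ := h s
    exact ⟨U, hsU, Groth.Agent.Lib.helper12.VAmple6.isQuasiProjective_of_isHQuasiProjective hH⟩

end Groth.Agent.S9712
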