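import Groth.Statements.S9716
import Mathlib
import Groth.Agent.Lib.Helper16.PushFLF

set_option autoImplicit false
set_option linter.style.haveILetI false
universe u
open CategoryTheory AlgebraicGeometry
open Mor

namespace Groth.Agent.S9716

open Groth.Agent.Lib.helper16.FLF Groth.Agent.Lib.helper16.PushFLF in
/-- sections of `f_* O_X` over an affine open are a finite projective module over the base, for the algebra
structure given by `f`. -/
theorem finite_projective_of_isFinLocFree {X S : Scheme.{u}} (f : X ⟶ S)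
    (hflf : FlatMod.IsFinLocFree ((Scheme.Modules.pushforward f).obj (Coh.structureModule X)))
    {U : S.Opens} (hU : IsAffineOpen U) :
    letI : Algebra Γ(S, U) Γ(X, f ⁻¹ᵁ U) := (f.app U).hom.toAlgebra
    Module.Finite Γ(S, U) Γ(X, f ⁻¹ᵁ U) ∧ Module.Projective Γ(S, U) Γ(X, f ⁻¹ᵁ U) := by
  letI : Algebra Γ(S, U) Γ(X, f ⁻¹ᵁ U) := (f.app U).hom.toAlgebra
  obtain ⟨h1, h2⟩ := projective_sections_of_isFinLocFree _ hflf hU
  let e : Γ((Scheme.Modules.pushforward f).obj (Coh.structureModule X), U) ≃ₗ[Γ(S, U)]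
      Γ(X, f ⁻¹ᵁ U) :=
    { toFun := fun m => m
      invFun := fun m => m
      map_add' := fun _ _ => rfl
      map_smul' := fun _ _ => rfl
      left_inv := fun _ => rfl
      right_inv := fun _ => rfl }
  exact ⟨Module.Finite.equiv e, Module.Projective.of_equiv e⟩

/-- (1) ⇔ (2): a morphism f : X ⟶ S is affine with direct image f_*O_X a finite locally free O_S-module
(locally on S isomorphic to a finite direct sum of copies of the structure sheaf, of possibly
varying rank) if and only if f is finite, flat and locally of finite presentation. -/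
theorem result {X S : Scheme.{u}} (f : X ⟶ S) :
    (IsAffineHom f ∧ FlatMod.IsFinLocFree ((Scheme.Modules.pushforward f).obj (Coh.structureModule X))) ↔
      Mor2.IsFinLocFree f := by
  constructor
  · rintro ⟨haff, hflf⟩
    haveI := haff
    have key : ∀ (U : S.Opens) (hU : IsAffineOpen U),
        (f.app U).hom.Finite ∧ (f.app U).hom.Flat ∧ (f.app U).hom.FinitePresentation := by
      intro U hU
      obtain ⟨h1, h2⟩ := finite_projective_of_isFinLocFree f hflf hU
      letI : Algebra Γ(S, U) Γ(X, f ⁻¹ᵁ U) := (f.app U).hom.toAlgebra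
      haveI := h1
      haveI := h2
      haveI : Module.FinitePresentation Γ(S, U) Γ(X, f ⁻¹ᵁ U) :=
        Module.finitePresentation_of_projective _ _
      refine ⟨h1, ?_, ?_⟩
      · show Module.Flat Γ(S, U) Γ(X, f ⁻¹ᵁ U)
        infer_instance
      · show Algebra.FinitePresentation Γ(S, U) Γ(X, f ⁻¹ᵁ U)
        infer_instance
    refine ⟨⟨fun U hU => (key U hU).1⟩, ?_, ?_⟩
    · refine ⟨fun {U} hU {V} hV e => ?_⟩
      have h1 : (f.app U).hom.Flat := (key U hU).2.1
      have hW : IsAffineOpen (f ⁻¹ᵁ U) := hU.preimage f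
      have h2 : ((𝟙 X : X ⟶ X).appLE (f ⁻¹ᵁ U) V e).hom.Flat :=
        (𝟙 X : X ⟶ X).flat_appLE hW hV e
      have h3 : f.appLE U V e = f.app U ≫ (𝟙 X : X ⟶ X).appLE (f ⁻¹ᵁ U) V e := by
        simp only [Scheme.Hom.appLE, Scheme.Hom.id_app, Category.id_comp]
        rfl
      rw [h3, CommRingCat.hom_comp]
      exact RingHom.Flat.comp h1 h2
    · refine ⟨fun {U} hU {V} hV e => ?_⟩
      have h1 : (f.app U).hom.FinitePresentation := (key U hU).2.2
      have hW : IsAffineOpen (f ⁻¹ᵁ U) := hU.preimage f
      have h2 : ((𝟙 X : X ⟶ X).appLE (f ⁻¹ᵁ U) V e).hom.FinitePresentation :=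
        (𝟙 X : X ⟶ X).finitePresentation_appLE hW hV e
      have h3 : f.appLE U V e = f.app U ≫ (𝟙 X : X ⟶ X).appLE (f ⁻¹ᵁ U) V e := by
        simp only [Scheme.Hom.appLE, Scheme.Hom.id_app, Category.id_comp]
        rfl
      rw [h3, CommRingCat.hom_comp]
      exact RingHom.FinitePresentation.comp h2 h1
  · intro hf
    haveI : IsFinite f := hf.1
    exact ⟨inferInstance, Groth.Agent.Lib.helper16.PushFLF.isFinLocFree_pushforward f hf _
      (Groth.Agent.Lib.helper16.FLF.isFinLocFree_structureModule X)⟩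

end Groth.Agent.S9716
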