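import Groth.Statements.S9719
import Groth.Agent.S9707
import Groth.Agent.S12474
import Groth.Agent.Lib.Helper11.InvMod
-- import your own Groth.Agent.* helpers here

set_option autoImplicit false
universe u
open CategoryTheory CategoryTheory.Limits AlgebraicGeometry
open Mor

namespace Groth.Agent.S9719

/-- (1) ⇒ (2): let f : X ⟶ S be of finite type and L an invertible O_X-module which is very ample
relative to f (isomorphic to the inverse image of O(1) along an S-immersion into the projective
bundle of a quasi-coherent O_S-module). Then there is an open covering of S by opens V such that,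
for each V, the restriction of L to f⁻¹(V) is isomorphic to the inverse image of O(1) along some
immersion of f⁻¹(V) into a projective space P^n_V over V. (The converse implication of the published
statement is not stated here.) -/
theorem result {X S : Scheme.{u}} (f : X ⟶ S)
    [LocallyOfFiniteType f] [QuasiCompact f] (L : X.Modules) (hLinv : PicF.IsInvertible L)
    (hL : RelProj.IsRelVeryAmple f L) :
    ∃ (ι : Type u) (V : ι → S.Opens), (⨆ j, V j) = ⊤ ∧
      ∀ j, RelAmple.IsRelVeryAmplePn (f ∣_ V j) (L.restrict (f ⁻¹ᵁ V j).ι) := by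
  refine ⟨S.affineOpens, fun V => V.1, ?_, fun V => ?_⟩
  · exact iSup_affineOpens_eq_top S
  · have hV : IsAffineOpen V.1 := V.2
    have : IsAffine (↑V.1 : Scheme.{u}) := hV
    have hinv : PicF.IsInvertible (L.restrict (f ⁻¹ᵁ V.1).ι) :=
      Groth.Agent.Lib.helper11.InvMod.isInvertible_restrict (f ⁻¹ᵁ V.1).ι hLinv
    have hva := Groth.Agent.S12474.result f V.1.ι (f ⁻¹ᵁ V.1).ι (f ∣_ V.1)
      (isPullback_morphismRestrict f V.1).flip L hLinv hL
    have hva' : RelProj.IsRelVeryAmple (f ∣_ V.1) (L.restrict (f ⁻¹ᵁ V.1).ι) := by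
      obtain ⟨E, hE, 𝒮, j, hj, P, p, chart, hP, O1, lam, hO1, i, hi, hip, ⟨e⟩⟩ := hva
      exact ⟨E, hE, 𝒮, j, hj, P, p, chart, hP, O1, lam, hO1, i, hi, hip,
        ⟨(Scheme.Modules.restrictFunctorIsoPullback (f ⁻¹ᵁ V.1).ι).app L ≪≫ e⟩⟩
    exact Groth.Agent.S9707.result (f ∣_ V.1) (L.restrict (f ⁻¹ᵁ V.1).ι) hinv hva'

end Groth.Agent.S9719
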