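import Groth.Statements.S9720
import Mathlib
import Groth.Agent.S9714
import Groth.Agent.Lib.Helper18.PullbackSquare

set_option autoImplicit false
universe u
open CategoryTheory CategoryTheory.Limits AlgebraicGeometry
open Mor

namespace Groth.Agent.S9720

open Groth.Agent.Lib.Helper18.PullbackStalk H18Stalk

/-- Let f : X ⟶ S be locally of finite type such that for every point s of S the fibre X_s is isomorphic
over κ(s) to a coproduct of schemes Spec K_i, each K_i a finite separable extension field of κ(s).
In that case f is formally unramified (so unramified, being locally of finite type). -/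
theorem result {X S : Scheme.{u}} (f : X ⟶ S) [LocallyOfFiniteType f]
    (H : ∀ s : S, ∃ (ι : Type u) (K : ι → Type u) (_ : ∀ i, Field (K i))
      (_ : ∀ i, Algebra (S.residueField s) (K i)),
      (∀ i, FiniteDimensional (S.residueField s) (K i) ∧ Algebra.IsSeparable (S.residueField s) (K i)) ∧
        ∃ e : f.fiber s ≅ ∐ (fun i => Spec (CommRingCat.of (K i))),
          e.hom ≫ Sigma.desc (fun i => Spec.map (CommRingCat.ofHom (algebraMap (S.residueField s) (K i)))) =
            f.fiberToSpecResidueField s) :
    FormallyUnramified f := by
  have key : ∀ x : X, ∃ U : X.Opens, x ∈ U ∧ FormallyUnramified (U.ι ≫ f) := by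
    intro x
    rw [exists_unramified_nhd_iff]
    obtain ⟨ι, K, _, _, hK, e, he⟩ := H (f x)
    have hb := Groth.Agent.S9714.backward (S.residueField (f x))
      (f.fiberToSpecResidueField (f x)) ι K hK e he
    have hb1 := hb.1
    have hb2 := hb.2
    have HP : IsPullback (f.fiberι (f x)) (f.fiberToSpecResidueField (f x)) f
        (S.fromSpecResidueField (f x)) := IsPullback.of_hasPullback _ _
    have h1 := FormallyUnramified.stalkMap (f.fiberToSpecResidueField (f x)) (f.asFiber x)
    have h2 := (unram_stalk_iff_of_isPullback HP (f.asFiber x)).mp h1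
    have h3 : f.fiberι (f x) (f.asFiber x) = x := f.fiberι_asFiber x
    rw [h3] at h2
    exact h2
  choose U hxU hU using key
  refine IsZariskiLocalAtSource.of_iSup_eq_top (P := @FormallyUnramified) U ?_ hU
  exact top_le_iff.mp fun x _ => by simpa using ⟨x, hxU x⟩

end Groth.Agent.S9720
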