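import Groth.Statements.S9723
import Mathlib
-- import your own Groth.Agent.* helpers here

set_option autoImplicit false
universe u
open FlatMor

namespace Groth.Agent.S9723

open AlgebraicGeometry CategoryTheory in
/-- Let f : X ⟶ S be formally étale (unique infinitesimal lifting against square-zero thickenings of
affine schemes), and let U be an open subscheme of X and V an open subscheme of S such that f maps U
into V. Then the restricted morphism U ⟶ V is formally étale. -/
theorem result {X S : Scheme.{u}} (f : X ⟶ S) (hf : MoreMor.IsFormallyEtaleHom f)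
    (U : X.Opens) (V : S.Opens) (h : U ≤ f ⁻¹ᵁ V) : MoreMor.IsFormallyEtaleHom (f.resLE V U h) := by
  intro A _ I hI a b hab
  -- surjectivity of Spec(A/I) → Spec A on points
  have hsurj : Function.Surjective
      (Spec.map (CommRingCat.ofHom (Ideal.Quotient.mk I))).base := by
    intro y
    have hIy : I ≤ y.asIdeal := by
      apply Ideal.IsPrime.le_of_pow_le (n := 2)
      rw [hI]
      exact bot_le
    have : y ∈ Set.range (PrimeSpectrum.comap (Ideal.Quotient.mk I)) := by
      rw [range_comap_of_surjective _ _ Ideal.Quotient.mk_surjective,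
        Ideal.mk_ker]
      exact hIy
    obtain ⟨z, hz⟩ := this
    exact ⟨z, hz⟩
  have hcomm : Spec.map (CommRingCat.ofHom (Ideal.Quotient.mk I)) ≫ (b ≫ V.ι) = (a ≫ U.ι) ≫ f := by
    rw [← Category.assoc, hab, Category.assoc, Category.assoc, Scheme.Hom.resLE_comp_ι]
  obtain ⟨l', ⟨hl'1, hl'2⟩, hl'u⟩ := hf A I hI (a ≫ U.ι) (b ≫ V.ι) hcomm
  have hrange : Set.range l'.base ⊆ Set.range U.ι.base := by
    rintro _ ⟨y, rfl⟩
    obtain ⟨z, rfl⟩ := hsurj y
    refine ⟨a.base z, ?_⟩
    have := congrArg (fun g => g.base z) hl'1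
    simpa using this.symm
  refine ⟨IsOpenImmersion.lift U.ι l' hrange, ⟨?_, ?_⟩, ?_⟩
  · rw [← cancel_mono U.ι, Category.assoc, IsOpenImmersion.lift_fac, hl'1]
  · rw [← cancel_mono V.ι, Category.assoc, Scheme.Hom.resLE_comp_ι, IsOpenImmersion.lift_fac_assoc,
      hl'2]
  · rintro l₂ ⟨h1, h2⟩
    apply IsOpenImmersion.lift_uniq
    apply hl'u
    refine ⟨?_, ?_⟩
    · rw [← Category.assoc, h1]
    · rw [Category.assoc, ← Scheme.Hom.resLE_comp_ι f h, ← Category.assoc, h2]

end Groth.Agent.S9723
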