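import Groth.Statements.S9725
import Groth.Agent.LibSmoothSlice29
import Groth.Agent.LibSmoothSliceRing29
import Groth.Agent.Lib.Helper16.RelCartier
-- import your own Groth.Agent.* helpers here

set_option autoImplicit false
universe u
open FlatMor

namespace Groth.Agent.S9725

open AlgebraicGeometry CategoryTheory Limits in
/-- Let f : X ⟶ S be a morphism and x a point such that f is smooth on an open neighbourhood of x, and
let h be an element of the maximal ideal of the local ring O_{X,x} such that the image of dh in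
Ω_{O_{X,x}/O_{S,f x}} ⊗ κ(x) (the fibre at x of the sheaf of differentials of X over S) is nonzero.
Then there are an affine open U ∋ x and a nonzerodivisor h' of Γ(X, U) with germ h at x such that
the closed subscheme V(h') of U, an effective Cartier divisor through x, is smooth over S. -/
theorem result {X S : Scheme.{u}} (f : X ⟶ S) (x : X)
    (W : X.Opens) (hxW : x ∈ W) (hW : Smooth (W.ι ≫ f))
    (h : ↑(X.presheaf.stalk x)) (hm : h ∈ IsLocalRing.maximalIdeal ↑(X.presheaf.stalk x))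
    (hd : letI := (f.stalkMap x).hom.toAlgebra
      (1 : IsLocalRing.ResidueField ↑(X.presheaf.stalk x)) ⊗ₜ[↑(X.presheaf.stalk x)]
          (KaehlerDifferential.D ↑(S.presheaf.stalk (f x)) ↑(X.presheaf.stalk x) h) ≠ 0) :
    ∃ (U : X.Opens) (hU : IsAffineOpen U) (hx : x ∈ U) (h' : Γ(X, U)), X.presheaf.germ U x hx h' = h ∧
      h' ∈ nonZeroDivisors Γ(X, U) ∧
      Smooth (Spec.map (CommRingCat.ofHom (Ideal.Quotient.mk (Ideal.span {h'}))) ≫ hU.fromSpec ≫ f) := by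
  classical
  -- base chart
  obtain ⟨_, ⟨V, hV, rfl⟩, hsV, -⟩ :=
    S.isBasis_affineOpens.exists_subset_of_mem_open (Set.mem_univ (f x)) isOpen_univ
  have hsV' : f x ∈ V := hsV
  -- a representative of `h`
  obtain ⟨U', hxU', s, hs⟩ := TopCat.Presheaf.exists_germ_eq X.presheaf h
  obtain ⟨U₁, hU₁, hxU₁, hle⟩ : ∃ U₁ : X.Opens, IsAffineOpen U₁ ∧ x ∈ U₁ ∧
      U₁ ≤ U' ⊓ (W ⊓ f ⁻¹ᵁ V) :=
    TopologicalSpace.Opens.isBasis_iff_nbhd.mp X.isBasis_affineOpens
      (show x ∈ U' ⊓ (W ⊓ f ⁻¹ᵁ V) from ⟨hxU', hxW, hsV'⟩)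
  have hU₁W : U₁ ≤ W := hle.trans (inf_le_right.trans inf_le_left)
  have e₁ : U₁ ≤ f ⁻¹ᵁ V := hle.trans (inf_le_right.trans inf_le_right)
  set h₁ : Γ(X, U₁) := (X.presheaf.map (homOfLE (hle.trans inf_le_left)).op).hom s with hh₁def
  have hh₁ : (X.presheaf.germ U₁ x hxU₁).hom h₁ = h := by
    rw [hh₁def]
    exact (TopCat.Presheaf.germ_res_apply X.presheaf (homOfLE (hle.trans inf_le_left)) x hxU₁ s).trans hs
  have hsm₁ : (f.appLE V U₁ e₁).hom.Smooth :=
    Groth.Agent.LibSmoothSlice29.smooth_appLE_of_le f W hW hV hU₁ hU₁W e₁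
  -- the stalk algebra
  letI algSt : Algebra (S.presheaf.stalk (f x)) (X.presheaf.stalk x) := (f.stalkMap x).hom.toAlgebra
  haveI : IsLocalHom (algebraMap (S.presheaf.stalk (f x)) (X.presheaf.stalk x)) :=
    show IsLocalHom (f.stalkMap x).hom from inferInstance
  -- the fibre model
  set L := Groth.Agent.Lib.helper17.FibreStalk.FibRing f x with hL
  set ψ : X.presheaf.stalk x →+* L := Ideal.Quotient.mk _ with hψ
  have hψh : ψ h ≠ 0 := by
    intro h0
    apply hd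
    refine Groth.Agent.LibSmoothSliceRing29.tmul_D_eq_zero_of_mem_map h ?_
    rw [hψ, Ideal.Quotient.eq_zero_iff_mem] at h0
    exact h0
  haveI hdomL : IsDomain L := by
    letI algAB : Algebra Γ(S, V) Γ(X, U₁) := (f.appLE V U₁ e₁).hom.toAlgebra
    haveI : Algebra.Smooth Γ(S, V) Γ(X, U₁) := hsm₁
    let r : Ideal Γ(X, U₁) := (hU₁.primeIdealOf ⟨x, hxU₁⟩).asIdeal
    let p : Ideal Γ(S, V) := (hV.primeIdealOf ⟨f x, e₁ hxU₁⟩).asIdeal
    haveI : r.LiesOver p := ⟨by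
      have := IsAffineOpen.comap_primeIdealOf_appLE (f := f) (x := x) V hV U₁ hU₁ e₁ hxU₁
      exact (congrArg PrimeSpectrum.asIdeal this).symm⟩
    letI a1 : Algebra Γ(X, U₁) (X.presheaf.stalk x) :=
      X.presheaf.algebra_section_stalk (⟨x, hxU₁⟩ : U₁)
    haveI l1 : IsLocalization.AtPrime (X.presheaf.stalk x) r := hU₁.isLocalization_stalk ⟨x, hxU₁⟩
    have hker : RingHom.ker ψ = (p.map (algebraMap Γ(S, V) Γ(X, U₁))).map
        (algebraMap Γ(X, U₁) (X.presheaf.stalk x)) := by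
      rw [hψ, Ideal.mk_ker]
      exact Groth.Agent.LibFibStalk29.fibIdeal_eq f x hV e₁ hxU₁
    exact Groth.Agent.LibSmoothSlice29.isDomain_fibModel_of_smooth p r (X.presheaf.stalk x) L ψ
      Ideal.Quotient.mk_surjective hker
  have hwr : RingTheory.Sequence.IsWeaklyRegular L
      ([h₁].map (ψ.comp (X.presheaf.germ U₁ x hxU₁).hom)) := by
    rw [List.map_singleton, RingTheory.Sequence.isWeaklyRegular_cons_iff]
    refine ⟨?_, RingTheory.Sequence.IsWeaklyRegular.nil _ _⟩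
    rw [RingHom.comp_apply, hh₁]
    exact (IsRegular.of_ne_zero hψh).isSMulRegular
  obtain ⟨g₁, hxg₁, hRF⟩ :=
    Groth.Agent.LibSmoothSlice29.exists_basicOpen_regFlat_of_fibModel_seq' f x hU₁ hV e₁ hxU₁
      hsm₁.flat hsm₁.finitePresentation L ψ Ideal.Quotient.mk_surjective Ideal.mk_ker [h₁] hwr
  -- the chart `U₂ = D(g₁)`
  have hU₂ : IsAffineOpen (X.basicOpen g₁) := hU₁.basicOpen g₁
  have hU₂W : X.basicOpen g₁ ≤ W := (X.basicOpen_le g₁).trans hU₁W
  have e₂ : X.basicOpen g₁ ≤ f ⁻¹ᵁ V := (X.basicOpen_le g₁).trans e₁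
  set h₂ : Γ(X, X.basicOpen g₁) := (X.presheaf.map (homOfLE (X.basicOpen_le g₁)).op).hom h₁ with hh₂def
  have hh₂ : (X.presheaf.germ (X.basicOpen g₁) x hxg₁).hom h₂ = h := by
    rw [hh₂def]
    exact (TopCat.Presheaf.germ_res_apply X.presheaf (homOfLE (X.basicOpen_le g₁)) x hxg₁ h₁).trans hh₁
  have hsm₂ : (f.appLE V (X.basicOpen g₁) e₂).hom.Smooth :=
    Groth.Agent.LibSmoothSlice29.smooth_appLE_of_le f W hW hV hU₂ hU₂W e₂
  letI alg₂ : Algebra Γ(S, V) Γ(X, X.basicOpen g₁) := (f.appLE V (X.basicOpen g₁) e₂).hom.toAlgebra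
  haveI sm₂ : Algebra.Smooth Γ(S, V) Γ(X, X.basicOpen g₁) := hsm₂
  rw [List.map_singleton] at hRF
  obtain ⟨hreg, -⟩ := hRF
  have hnzd₂ : h₂ ∈ nonZeroDivisors Γ(X, X.basicOpen g₁) := by
    have hnzd : IsSMulRegular Γ(X, X.basicOpen g₁) h₂ :=
      ((RingTheory.Sequence.isWeaklyRegular_cons_iff _ h₂ []).mp hreg).1
    exact ((Commute.isRegular_iff (fun b => Commute.all h₂ b)).mpr
      (IsSMulRegular.isLeftRegular hnzd)).mem_nonZeroDivisors
  -- the functional
  letI aA : Algebra Γ(S, V) (S.presheaf.stalk (f x)) := (S.presheaf.germ V (f x) hsV').hom.toAlgebra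
  letI aB : Algebra Γ(X, X.basicOpen g₁) (X.presheaf.stalk x) :=
    (X.presheaf.germ (X.basicOpen g₁) x hxg₁).hom.toAlgebra
  letI aAB : Algebra Γ(S, V) (X.presheaf.stalk x) :=
    ((X.presheaf.germ (X.basicOpen g₁) x hxg₁).hom.comp (f.appLE V (X.basicOpen g₁) e₂).hom).toAlgebra
  haveI : IsScalarTower Γ(S, V) Γ(X, X.basicOpen g₁) (X.presheaf.stalk x) :=
    IsScalarTower.of_algebraMap_eq (fun _ => rfl)
  haveI : IsScalarTower Γ(S, V) (S.presheaf.stalk (f x)) (X.presheaf.stalk x) := by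
    apply IsScalarTower.of_algebraMap_eq'
    have := Groth.Agent.LibFibReg29.appLE_germ f (X.basicOpen g₁) V e₂ x hxg₁
    exact congrArg CommRingCat.Hom.hom this
  have hd₂ : (1 : IsLocalRing.ResidueField ↑(X.presheaf.stalk x)) ⊗ₜ[↑(X.presheaf.stalk x)]
      (KaehlerDifferential.D ↑(S.presheaf.stalk (f x)) ↑(X.presheaf.stalk x)
        (algebraMap Γ(X, X.basicOpen g₁) (X.presheaf.stalk x) h₂)) ≠ 0 := by
    rw [show algebraMap Γ(X, X.basicOpen g₁) (X.presheaf.stalk x) h₂ = h from hh₂]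
    exact hd
  obtain ⟨l, hl⟩ := Groth.Agent.LibSmoothSliceRing29.exists_functional_isUnit
    (A := Γ(S, V)) (B := Γ(X, X.basicOpen g₁)) (A' := S.presheaf.stalk (f x))
    (B' := X.presheaf.stalk x) h₂ hd₂
  set g₂ : Γ(X, X.basicOpen g₁) := l (KaehlerDifferential.D Γ(S, V) Γ(X, X.basicOpen g₁) h₂) with hg₂
  have hxg₂ : x ∈ X.basicOpen g₂ := by
    rw [Scheme.mem_basicOpen _ _ x hxg₁]
    exact hl
  -- the final chart `U = D(g₂)`
  have hU : IsAffineOpen (X.basicOpen g₂) := hU₂.basicOpen g₂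
  have hUW : X.basicOpen g₂ ≤ W := (X.basicOpen_le g₂).trans hU₂W
  have e : X.basicOpen g₂ ≤ f ⁻¹ᵁ V := (X.basicOpen_le g₂).trans e₂
  set h' : Γ(X, X.basicOpen g₂) := (X.presheaf.map (homOfLE (X.basicOpen_le g₂)).op).hom h₂ with hh'def
  have hh' : (X.presheaf.germ (X.basicOpen g₂) x hxg₂).hom h' = h := by
    rw [hh'def]
    exact (TopCat.Presheaf.germ_res_apply X.presheaf (homOfLE (X.basicOpen_le g₂)) x hxg₂ h₂).trans hh₂
  have hsm : (f.appLE V (X.basicOpen g₂) e).hom.Smooth :=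
    Groth.Agent.LibSmoothSlice29.smooth_appLE_of_le f W hW hV hU hUW e
  letI alg₃ : Algebra Γ(S, V) Γ(X, X.basicOpen g₂) := (f.appLE V (X.basicOpen g₂) e).hom.toAlgebra
  haveI sm₃ : Algebra.Smooth Γ(S, V) Γ(X, X.basicOpen g₂) := hsm
  letI alg₂₃ : Algebra Γ(X, X.basicOpen g₁) Γ(X, X.basicOpen g₂) :=
    (X.presheaf.map (homOfLE (X.basicOpen_le g₂)).op).hom.toAlgebra
  haveI : IsScalarTower Γ(S, V) Γ(X, X.basicOpen g₁) Γ(X, X.basicOpen g₂) := by
    apply IsScalarTower.of_algebraMap_eq'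
    have := Scheme.Hom.appLE_map f e₂ (homOfLE (X.basicOpen_le g₂)).op
    exact (congrArg CommRingCat.Hom.hom this).symm
  haveI : IsLocalization.Away g₂ Γ(X, X.basicOpen g₂) := hU₂.isLocalization_basicOpen g₂
  obtain ⟨l₃, hl₃⟩ := Groth.Agent.LibSmoothSliceRing29.exists_functional_of_isLocalization
    (A := Γ(S, V)) (B := Γ(X, X.basicOpen g₁)) (B₁ := Γ(X, X.basicOpen g₂))
    (Submonoid.powers g₂) l
  have hunit : IsUnit (l₃ (KaehlerDifferential.D Γ(S, V) Γ(X, X.basicOpen g₂) h')) := by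
    rw [show h' = algebraMap Γ(X, X.basicOpen g₁) Γ(X, X.basicOpen g₂) h₂ from rfl, hl₃]
    exact IsLocalization.Away.algebraMap_isUnit g₂
  have hfs : Algebra.FormallySmooth Γ(S, V) (Γ(X, X.basicOpen g₂) ⧸ Ideal.span {h'}) :=
    Groth.Agent.LibSmoothSliceRing29.formallySmooth_quotient_span_singleton h' l₃ hunit
  refine ⟨X.basicOpen g₂, hU, hxg₂, h', hh', ?_, ?_⟩
  · exact IsLocalization.map_nonZeroDivisors_le (Submonoid.powers g₂) Γ(X, X.basicOpen g₂)
      (Submonoid.mem_map_of_mem _ hnzd₂)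
  · have h1 : hU.fromSpec ≫ f = Spec.map (f.appLE V (X.basicOpen g₂) e) ≫ hV.fromSpec :=
      (IsAffineOpen.SpecMap_appLE_fromSpec f hV hU e).symm
    rw [h1, ← Category.assoc, ← Spec.map_comp]
    haveI : Smooth (Spec.map (f.appLE V (X.basicOpen g₂) e ≫
        CommRingCat.ofHom (Ideal.Quotient.mk (Ideal.span {h'})))) := by
      rw [HasRingHomProperty.Spec_iff (P := @Smooth)]
      have hcomp : (f.appLE V (X.basicOpen g₂) e ≫
          CommRingCat.ofHom (Ideal.Quotient.mk (Ideal.span {h'}))).hom =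
          algebraMap Γ(S, V) (Γ(X, X.basicOpen g₂) ⧸ Ideal.span {h'}) := rfl
      rw [hcomp, RingHom.smooth_algebraMap]
      exact ⟨hfs, Algebra.FinitePresentation.quotient ⟨{h'}, by simp⟩⟩
    infer_instance

end Groth.Agent.S9725
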