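import Groth.Statements.S9724
import Groth.Agent.S9725
import Groth.Agent.LibSmoothSliceRing29c
import Groth.Agent.LibSmoothSlice29b
-- import your own Groth.Agent.* helpers here

set_option autoImplicit false
universe u
open FlatMor

namespace Groth.Agent.S9724

open AlgebraicGeometry CategoryTheory Limits in
/-- Let f : X ⟶ S be a morphism and x a point such that f is smooth on an open neighbourhood of x, the
residue field extension κ(x)/κ(f x) is separable (formally smooth), and x is not the generic point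
of any irreducible component of the fibre over f x, i.e. (the fibre being smooth over a field near
x) the maximal ideal of the local ring of the fibre at x is nonzero. Then there are an affine open U
∋ x and a nonzerodivisor h' of Γ(X, U) vanishing at x such that the closed subscheme V(h') of U, an
effective Cartier divisor through x, is smooth over S. -/
theorem result {X S : Scheme.{u}} (f : X ⟶ S) (x : X)
    (W : X.Opens) (hxW : x ∈ W) (hW : Smooth (W.ι ≫ f))
    (hsep : letI := (f.residueFieldMap x).hom.toAlgebra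
      Algebra.FormallySmooth (S.residueField (f x)) (X.residueField x))
    (hgen : IsLocalRing.maximalIdeal ↑((f.fiber (f x)).presheaf.stalk (f.asFiber x)) ≠ ⊥) :
    ∃ (U : X.Opens) (hU : IsAffineOpen U) (hx : x ∈ U) (h' : Γ(X, U)), h' ∈ nonZeroDivisors Γ(X, U) ∧
      X.presheaf.germ U x hx h' ∈ IsLocalRing.maximalIdeal ↑(X.presheaf.stalk x) ∧
      Smooth (Spec.map (CommRingCat.ofHom (Ideal.Quotient.mk (Ideal.span {h'}))) ≫ hU.fromSpec ≫ f) := by
  classical
  obtain ⟨_, ⟨V, hV, rfl⟩, hsV, -⟩ :=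
    S.isBasis_affineOpens.exists_subset_of_mem_open (Set.mem_univ (f x)) isOpen_univ
  have hsV' : f x ∈ V := hsV
  obtain ⟨U₁, hU₁, hxU₁, hle⟩ : ∃ U₁ : X.Opens, IsAffineOpen U₁ ∧ x ∈ U₁ ∧ U₁ ≤ W ⊓ f ⁻¹ᵁ V :=
    TopologicalSpace.Opens.isBasis_iff_nbhd.mp X.isBasis_affineOpens
      (show x ∈ W ⊓ f ⁻¹ᵁ V from ⟨hxW, hsV'⟩)
  have hU₁W : U₁ ≤ W := hle.trans inf_le_left
  have e₁ : U₁ ≤ f ⁻¹ᵁ V := hle.trans inf_le_right
  have hsm₁ : (f.appLE V U₁ e₁).hom.Smooth :=
    Groth.Agent.LibSmoothSlice29.smooth_appLE_of_le f W hW hV hU₁ hU₁W e₁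
  letI algSt : Algebra (S.presheaf.stalk (f x)) (X.presheaf.stalk x) := (f.stalkMap x).hom.toAlgebra
  haveI : IsLocalHom (algebraMap (S.presheaf.stalk (f x)) (X.presheaf.stalk x)) :=
    show IsLocalHom (f.stalkMap x).hom from inferInstance
  set L := Groth.Agent.Lib.helper17.FibreStalk.FibRing f x with hL
  set ψ : X.presheaf.stalk x →+* L := Ideal.Quotient.mk _ with hψ
  haveI hnoeth : IsNoetherianRing L := by
    letI algAB : Algebra Γ(S, V) Γ(X, U₁) := (f.appLE V U₁ e₁).hom.toAlgebra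
    haveI : Algebra.Smooth Γ(S, V) Γ(X, U₁) := hsm₁
    let r : Ideal Γ(X, U₁) := (hU₁.primeIdealOf ⟨x, hxU₁⟩).asIdeal
    let p : Ideal Γ(S, V) := (hV.primeIdealOf ⟨f x, e₁ hxU₁⟩).asIdeal
    haveI : r.LiesOver p := ⟨by
      have := IsAffineOpen.comap_primeIdealOf_appLE (f := f) (x := x) V hV U₁ hU₁ e₁ hxU₁
      exact (congrArg PrimeSpectrum.asIdeal this).symm⟩
    letI a1 : Algebra Γ(X, U₁) (X.presheaf.stalk x) :=
      X.presheaf.algebra_section_stalk (⟨x, hxU₁⟩ : U₁)
    haveI l1 : IsLocalization.AtPrime (X.presheaf.stalk x) r := hU₁.isLocalization_stalk ⟨x, hxU₁⟩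
    have hker : RingHom.ker ψ = (p.map (algebraMap Γ(S, V) Γ(X, U₁))).map
        (algebraMap Γ(X, U₁) (X.presheaf.stalk x)) := by
      rw [hψ, Ideal.mk_ker]
      exact Groth.Agent.LibFibStalk29.fibIdeal_eq f x hV e₁ hxU₁
    exact Groth.Agent.LibSmoothSlice29b.isNoetherianRing_fibModel p r (X.presheaf.stalk x) L ψ
      Ideal.Quotient.mk_surjective hker
  obtain ⟨eq⟩ := Groth.Agent.Lib.helper17.FibreStalk.nonempty_asFiber_stalk_equiv f x
  have hne : IsLocalRing.maximalIdeal L ≠ ⊥ := by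
    intro hbot
    apply hgen
    rw [eq_bot_iff]
    intro y hy
    have h1 : eq.symm y ∈ IsLocalRing.maximalIdeal L := by
      rw [IsLocalRing.mem_maximalIdeal, mem_nonunits_iff] at hy ⊢
      intro hu
      apply hy
      simpa using hu.map eq
    rw [hbot, Ideal.mem_bot] at h1
    rw [Ideal.mem_bot]
    simpa using congrArg eq h1
  obtain ⟨h, hm, hJ⟩ := Groth.Agent.LibSmoothSliceRing29c.exists_mem_maximalIdeal_notMem_sup
    ((IsLocalRing.maximalIdeal (S.presheaf.stalk (f x))).map (f.stalkMap x).hom)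
    (IsNoetherian.noetherian _) hne
  letI algRes : Algebra (IsLocalRing.ResidueField (S.presheaf.stalk (f x)))
      (IsLocalRing.ResidueField (X.presheaf.stalk x)) := (f.residueFieldMap x).hom.toAlgebra
  haveI : Algebra.FormallySmooth (IsLocalRing.ResidueField (S.presheaf.stalk (f x)))
      (IsLocalRing.ResidueField (X.presheaf.stalk x)) := hsep
  have hd := Groth.Agent.LibSmoothSliceRing29c.tmul_D_ne_zero_of_formallySmooth_residue
    (A' := S.presheaf.stalk (f x)) (B' := X.presheaf.stalk x) rfl h hm hJ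
  obtain ⟨U, hU, hx, h', hgerm, hnzd, hsm⟩ := Groth.Agent.S9725.result f x W hxW hW h hm hd
  exact ⟨U, hU, hx, h', hnzd, by rw [hgerm]; exact hm, hsm⟩

end Groth.Agent.S9724
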