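import Groth.Statements.S9727
import Groth.Agent.Lib.Helper9.EtFib2

set_option autoImplicit false
universe u
open FlatMor

namespace Groth.Agent.S9727

open AlgebraicGeometry CategoryTheory Limits in
/-- Let f : X ⟶ S be a morphism, x a point of X with image s, and (V, v) ⟶ (X_s, x) an étale
neighbourhood of x in its fibre. Then there is an étale neighbourhood (U, u) ⟶ (X, x) whose fibre
U_s over s admits a morphism of étale neighbourhoods (U_s, u) ⟶ (V, v) over X_s which is an open
immersion. -/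
theorem result {X S V : Scheme.{u}} (f : X ⟶ S) (x : X)
    (g : V ⟶ f.fiber (f x)) [Etale g] (v : V) (hv : g v = f.asFiber x) :
    ∃ (U : Scheme.{u}) (p : U ⟶ X) (u : U) (m : (p ≫ f).fiber (f x) ⟶ V) (u' : ↑((p ≫ f).fiber (f x))),
      Etale p ∧ p u = x ∧ IsOpenImmersion m ∧ m ≫ g = MoreMor.fiberMap p f (f x) ∧
      (p ≫ f).fiberι (f x) u' = u ∧ m u' = v := by
  let ℓ := S.fromSpecStalk (f x)
  let cc : Spec (S.residueField (f x)) ⟶ Spec (S.presheaf.stalk (f x)) :=
    Spec.map (S.residue (f x))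
  let ι := f.fiberι (f x)
  let q := f.fiberToSpecResidueField (f x)
  have hσ : S.fromSpecResidueField (f x) = cc ≫ ℓ := rfl
  let k' : f.fiber (f x) ⟶ pullback f ℓ := pullback.lift ι (q ≫ cc) (by
    rw [Category.assoc, ← hσ]
    exact f.fiber_fac (f x))
  have hk'1 : k' ≫ pullback.fst f ℓ = ι := pullback.lift_fst _ _ _
  have hk'2 : k' ≫ pullback.snd f ℓ = q ≫ cc := pullback.lift_snd _ _ _
  have hfib : IsPullback ι q f (S.fromSpecResidueField (f x)) :=
    IsPullback.of_hasPullback f (S.fromSpecResidueField (f x))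
  have hk' : IsPullback k' q (pullback.snd f ℓ) cc := by
    refine IsPullback.of_right ?_ hk'2 (IsPullback.of_hasPullback f ℓ)
    rw [hk'1, ← hσ]
    exact hfib
  have : IsClosedImmersion k' :=
    MorphismProperty.of_isPullback (P := @IsClosedImmersion) hk'.flip inferInstance
  have hL : Groth.Agent.Lib.helper9.EtFib.LiftsEt ι := by
    have hcomp : Groth.Agent.Lib.helper9.EtFib.LiftsEt (k' ≫ pullback.fst f ℓ) :=
      Groth.Agent.Lib.helper9.EtFib.LiftsEt.comp
        (Groth.Agent.Lib.helper9.EtFib.liftsEt_of_isClosedImmersion k')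
        (Groth.Agent.Lib.helper9.EtFib.liftsEt_fst_fromSpecStalk f (f x))
    rwa [hk'1] at hcomp
  obtain ⟨U, p, hp, m₀, hm₀, e₀, ⟨q₀, hq₀⟩⟩ := hL g v
  have hQ : IsPullback (pullback.fst p ι) (pullback.snd p ι ≫ q) (p ≫ f)
      (S.fromSpecResidueField (f x)) :=
    (IsPullback.of_hasPullback p ι).paste_vert hfib
  let e : pullback p ι ≅ (p ≫ f).fiber (f x) := hQ.isoPullback
  have he1 : e.hom ≫ (p ≫ f).fiberι (f x) = pullback.fst p ι := hQ.isoPullback_hom_fst
  have he2 : e.hom ≫ (p ≫ f).fiberToSpecResidueField (f x) = pullback.snd p ι ≫ q :=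
    hQ.isoPullback_hom_snd
  refine ⟨U, p, pullback.fst p ι q₀, e.inv ≫ m₀, e.hom q₀, hp, ?_, inferInstance, ?_, ?_, ?_⟩
  · have h1 : p (pullback.fst p ι q₀) = ι (pullback.snd p ι q₀) := by
      rw [← Scheme.Hom.comp_apply, ← Scheme.Hom.comp_apply, pullback.condition]
    rw [h1, ← e₀, Scheme.Hom.comp_apply, hq₀, hv]
    exact f.fiberι_asFiber x
  · have hfm1 : MoreMor.fiberMap p f (f x) ≫ ι = (p ≫ f).fiberι (f x) ≫ p :=
      pullback.lift_fst _ _ _
    have hfm2 : MoreMor.fiberMap p f (f x) ≫ q = (p ≫ f).fiberToSpecResidueField (f x) :=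
      pullback.lift_snd _ _ _
    rw [Category.assoc, e₀]
    apply hfib.hom_ext
    · rw [hfm1, Category.assoc, ← pullback.condition, ← he1, Category.assoc,
        Iso.inv_hom_id_assoc]
    · rw [hfm2, Category.assoc, ← he2, Iso.inv_hom_id_assoc]
  · rw [← Scheme.Hom.comp_apply, he1]
  · rw [Scheme.Hom.comp_apply, ← Scheme.Hom.comp_apply e.hom e.inv, Iso.hom_inv_id]
    exact hq₀

end Groth.Agent.S9727
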