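import Groth.Statements.S9728
import Groth.Agent.LibRegImmSmoothDesc29
import Groth.Agent.LibSecRegApp29
-- import your own Groth.Agent.* helpers here

set_option autoImplicit false
universe u
open FlatMor

namespace Groth.Agent.S9728

open AlgebraicGeometry CategoryTheory Limits in
/-- Given S-schemes U, P, P' with P and P' smooth over S, immersions i : U ⟶ P and i' : U ⟶ P'
compatible with the structure maps to S, and a point u of U, some restriction of i to an open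
neighbourhood of u is a Koszul-regular immersion exactly when some restriction of i' to an open
neighbourhood of u is. -/
theorem result {S U P P' : Scheme.{u}} (q : U ⟶ S)
    (p : P ⟶ S) (p' : P' ⟶ S) [Smooth p] [Smooth p'] (i : U ⟶ P) (i' : U ⟶ P') [IsImmersion i] [IsImmersion i']
    (hi : i ≫ p = q) (hi' : i' ≫ p' = q) (u : U) :
    (∃ V : U.Opens, u ∈ V ∧ RegImm.IsRegularImmersion RegImm.Kind.koszul (V.ι ≫ i)) ↔
      (∃ V : U.Opens, u ∈ V ∧ RegImm.IsRegularImmersion RegImm.Kind.koszul (V.ι ≫ i')) := by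
  have key : ∀ {P₁ P₂ : Scheme.{u}} (p₁ : P₁ ⟶ S) (p₂ : P₂ ⟶ S) [Smooth p₁] [Smooth p₂]
      (i₁ : U ⟶ P₁) (i₂ : U ⟶ P₂) [IsImmersion i₁] [IsImmersion i₂] (_ : i₁ ≫ p₁ = q)
      (_ : i₂ ≫ p₂ = q) (V : U.Opens),
      RegImm.IsRegularImmersion RegImm.Kind.koszul (V.ι ≫ i₁) →
      RegImm.IsRegularImmersion RegImm.Kind.koszul (V.ι ≫ i₂) := by
    intro P₁ P₂ p₁ p₂ _ _ i₁ i₂ _ _ h₁ h₂ V hV
    have w : (V.ι ≫ i₁) ≫ p₁ = (V.ι ≫ i₂) ≫ p₂ := by
      rw [Category.assoc, Category.assoc, h₁, h₂]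
    have hl := Groth.Agent.LibSecRegApp29.isRegularImmersion_koszul_lift (V.ι ≫ i₁) p₁ p₂
      (V.ι ≫ i₂) w hV
    exact Groth.Agent.LibRegImmSmoothDesc29.isRegularImmersion_koszul_of_comp_smooth
      (pullback.lift (V.ι ≫ i₁) (V.ι ≫ i₂) w) (pullback.snd p₁ p₂) (V.ι ≫ i₂)
      (pullback.lift_snd _ _ _) hl
  constructor
  · rintro ⟨V, hu, hV⟩
    exact ⟨V, hu, key p p' i i' hi hi' V hV⟩
  · rintro ⟨V, hu, hV⟩
    exact ⟨V, hu, key p' p i' i hi' hi V hV⟩

end Groth.Agent.S9728
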