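import Groth.Statements.S9735
import Groth.Agent.Lib.Helper29.CommonFieldExt
import Mathlib.AlgebraicGeometry.Morphisms.Flat

set_option autoImplicit false
universe u
open FlatMor

namespace Groth.Agent.S9735

section Helpers

open AlgebraicGeometry CategoryTheory Limits TensorProduct Groth.Agent.Lib.helper29

/-- Descent of `geometrically P` along a field extension, for properties `P` that descend along
flat surjective morphisms. -/
theorem geometrically_descent_flat (P : ObjectProperty Scheme.{u})
    (hP : ∀ {Z₁ Z₂ : Scheme.{u}} (π : Z₁ ⟶ Z₂) [Surjective π] [Flat π], P Z₁ → P Z₂)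
    {k k' : Type u} [Field k] [Field k'] (φ : CommRingCat.of k ⟶ CommRingCat.of k')
    {Z Z' : Scheme.{u}} (h : Z ⟶ Spec (.of k)) (h' : Z' ⟶ Spec (.of k')) (b' : Z' ⟶ Z)
    (sq : IsPullback b' h' h (Spec.map φ)) (H : geometrically P h') : geometrically P h := by
  intro K _ x W fst snd hW
  obtain ⟨ψ, rfl⟩ := Spec.map_surjective x
  obtain ⟨L, _, a, b, hab⟩ := exists_common_field_ext ψ.hom φ.hom
  have hab' : Spec.map (CommRingCat.ofHom a) ≫ Spec.map ψ =
      Spec.map (CommRingCat.ofHom b) ≫ Spec.map φ := by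
    rw [← Spec.map_comp, ← Spec.map_comp]
    congr 1
    ext x
    exact RingHom.congr_fun hab x
  have : Surjective (pullback.fst snd (Spec.map (CommRingCat.ofHom a))) := inferInstance
  have : Flat (Spec.map (CommRingCat.ofHom a)) := inferInstance
  have : Flat (pullback.fst snd (Spec.map (CommRingCat.ofHom a))) := inferInstance
  apply hP (pullback.fst snd (Spec.map (CommRingCat.ofHom a)))
  have h1 : IsPullback (pullback.fst snd (Spec.map (CommRingCat.ofHom a)) ≫ fst)
      (pullback.snd snd (Spec.map (CommRingCat.ofHom a))) h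
      (Spec.map (CommRingCat.ofHom a) ≫ Spec.map ψ) :=
    (IsPullback.of_hasPullback snd (Spec.map (CommRingCat.ofHom a))).paste_horiz hW
  have comm : (pullback.fst snd (Spec.map (CommRingCat.ofHom a)) ≫ fst) ≫ h =
      (pullback.snd snd (Spec.map (CommRingCat.ofHom a)) ≫ Spec.map (CommRingCat.ofHom b)) ≫
        Spec.map φ := by
    rw [h1.w, Category.assoc, hab']
  have h2 : IsPullback (sq.lift _ _ comm ≫ b')
      (pullback.snd snd (Spec.map (CommRingCat.ofHom a))) h
      (Spec.map (CommRingCat.ofHom b) ≫ Spec.map φ) := by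
    rw [sq.lift_fst, ← hab']
    exact h1
  have h3 := IsPullback.of_right h2 (sq.lift_snd _ _ comm) sq
  exact H (Spec.map (CommRingCat.ofHom b)) (sq.lift _ _ comm)
    (pullback.snd snd (Spec.map (CommRingCat.ofHom a))) h3

/-- Reducedness descends along flat surjective morphisms. -/
theorem isReduced_of_flat_surjective {Z₁ Z₂ : Scheme.{u}} (π : Z₁ ⟶ Z₂) [Surjective π] [Flat π]
    (h : IsReduced Z₁) : IsReduced Z₂ := by
  have : ∀ z : Z₂, _root_.IsReduced (Z₂.presheaf.stalk z) := by
    intro z
    obtain ⟨w, rfl⟩ := π.surjective z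
    have hinj : Function.Injective (π.stalkMap w).hom := by
      algebraize [(π.stalkMap w).hom]
      have : Module.FaithfullyFlat (Z₂.presheaf.stalk (π w)) (Z₁.presheaf.stalk w) :=
        @Module.FaithfullyFlat.of_flat_of_isLocalHom _ _ _ _ _ _ _
          (Flat.stalkMap π w) (π.toLRSHom.prop w)
      exact ‹RingHom.FaithfullyFlat _›.injective
    exact isReduced_of_injective (π.stalkMap w).hom hinj
  exact isReduced_of_isReduced_stalk Z₂

/-- Flat-descent version of `geometrically_fibre_iff`. -/
theorem geometrically_fibre_iff_flat (P : ObjectProperty Scheme.{u})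
    (hP : ∀ {Z₁ Z₂ : Scheme.{u}} (π : Z₁ ⟶ Z₂) [Surjective π] [Flat π], P Z₁ → P Z₂)
    {X Y X' Y' : Scheme.{u}} (f : X ⟶ Y) (g : Y' ⟶ Y) (f' : X' ⟶ Y')
    (g' : X' ⟶ X) (hc : IsPullback g' f' f g) (y' : Y') :
    geometrically P (f'.fiberToSpecResidueField y') ↔
      geometrically P (f.fiberToSpecResidueField (g y')) := by
  obtain ⟨ℓ, hℓ⟩ := exists_fibre_isPullback f g f' g' hc y'
  constructor
  · intro H
    exact geometrically_descent_flat P hP (g.residueFieldMap y') _ _ ℓ hℓ H
  · intro H
    exact MorphismProperty.of_isPullback hℓ H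

end Helpers

open AlgebraicGeometry CategoryTheory Limits in
/-- Given a morphism f : X ⟶ Y and any g : Y' ⟶ Y, let f' : X' ⟶ Y' be obtained from f by pulling back
along g (a cartesian square with g' : X' ⟶ X). A point y' of Y' has geometrically reduced fibre
under f' exactly when g y' has geometrically reduced fibre under f. -/
theorem result {X Y X' Y' : Scheme.{u}} (f : X ⟶ Y) (g : Y' ⟶ Y) (f' : X' ⟶ Y') (g' : X' ⟶ X)
    (hc : IsPullback g' f' f g) :
    {y' : ↑Y' | GeometricallyReduced (f'.fiberToSpecResidueField y')} =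
      g ⁻¹' {y : ↑Y | GeometricallyReduced (f.fiberToSpecResidueField y)} := by
  ext y'
  simp only [Set.mem_ofPred_eq, Set.mem_preimage]
  rw [geometricallyReduced_iff, geometricallyReduced_iff]
  exact geometrically_fibre_iff_flat _ (fun {Z₁ Z₂} π _ _ h => isReduced_of_flat_surjective π h)
    f g f' g' hc y'

end Groth.Agent.S9735
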