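import Groth.Statements.S9736
import Groth.Agent.LibRelGCIDescent29
import Groth.Agent.LibSyntFPModel29

set_option autoImplicit false
universe u
open FlatMor

namespace Groth.Agent.S9736

open AlgebraicGeometry CategoryTheory Limits in
/-- Let f : X ⟶ S be a standard syntomic morphism of affine schemes. Then f is the base change of a
morphism of finite type f₀ : X₀ ⟶ S₀ between affine schemes with S₀ of finite type over ℤ and f₀
standard syntomic. -/
theorem result {X S : Scheme.{u}} (f : X ⟶ S) [IsAffine X] [IsAffine S] (hf : Synt.IsStandardSyntomic f) :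
    ∃ (X₀ S₀ : Scheme.{u}) (f₀ : X₀ ⟶ S₀) (g : S ⟶ S₀) (g' : X ⟶ X₀), IsAffine X₀ ∧ IsAffine S₀ ∧ IsPullback g' f f₀ g ∧
      Algebra.FiniteType ℤ Γ(S₀, ⊤) ∧ LocallyOfFiniteType f₀ ∧ Synt.IsStandardSyntomic f₀ := by
  classical
  obtain ⟨R, _, n, c, F, hF, e₁, e₂, hcomm⟩ := hf
  have hfg : (⊥ : Subalgebra ℤ R).FG := Subalgebra.fg_bot
  have hS := Groth.Agent.LibSyntFPModel29.aSys (⊥ : Subalgebra ℤ R) hfg
  obtain ⟨k, F₀, hF₀, hk⟩ := Groth.Agent.LibASys29.ASys.exists_isRelGCI' hS n c F hF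
  -- the stage ring
  let R₀ : Type u := Groth.Agent.LibSyntFPModel29.Stage (⊥ : Subalgebra ℤ R) k
  have hFF : F = Groth.Agent.LibRelGCI29.Fbar R F₀ := by
    funext l
    rw [← hF₀ l]
    rfl
  subst hFF
  set S₀' := Synt.RelGCIRing R₀ n c F₀ with hS₀'
  set S' := Synt.RelGCIRing R n c (Groth.Agent.LibRelGCI29.Fbar R F₀) with hS'
  let e : TensorProduct R₀ R S₀' ≃ₐ[R] S' := Groth.Agent.LibRelGCI29.tensorEquiv R F₀
  have sq0 : IsPullback
      (Spec.map (CommRingCat.ofHom
        (Algebra.TensorProduct.includeRight : S₀' →ₐ[R₀] TensorProduct R₀ R S₀').toRingHom))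
      (Spec.map (CommRingCat.ofHom (algebraMap R (TensorProduct R₀ R S₀'))))
      (Spec.map (CommRingCat.ofHom (algebraMap R₀ S₀')))
      (Spec.map (CommRingCat.ofHom (algebraMap R₀ R))) :=
    (isPullback_SpecMap_of_isPushout _ _ _ _ (CommRingCat.isPushout_tensorProduct R₀ R S₀')).flip
  have hw : Spec.map (CommRingCat.ofHom (R := TensorProduct R₀ R S₀') (S := S')
        (e : TensorProduct R₀ R S₀' →ₐ[R] S').toRingHom) ≫
      Spec.map (CommRingCat.ofHom (algebraMap R (TensorProduct R₀ R S₀'))) =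
      Spec.map (CommRingCat.ofHom (algebraMap R S')) ≫ 𝟙 _ := by
    rw [Category.comp_id, ← Spec.map_comp, ← CommRingCat.ofHom_comp]
    congr 2
    ext x
    exact e.commutes x
  haveI : IsIso (Spec.map (CommRingCat.ofHom (R := TensorProduct R₀ R S₀') (S := S')
      (e : TensorProduct R₀ R S₀' →ₐ[R] S').toRingHom)) := by
    have : IsIso (CommRingCat.ofHom (R := TensorProduct R₀ R S₀') (S := S')
        (e : TensorProduct R₀ R S₀' →ₐ[R] S').toRingHom) :=
      (ConcreteCategory.isIso_iff_bijective _).mpr e.bijective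
    infer_instance
  have sqiso := IsPullback.of_horiz_isIso ⟨hw⟩
  have sq1 : IsPullback e₁.hom f (Spec.map (CommRingCat.ofHom (algebraMap R S'))) e₂.hom :=
    IsPullback.of_horiz_isIso ⟨hcomm⟩
  have sqall := sq1.paste_horiz (sqiso.paste_horiz sq0)
  have hft₀ : Algebra.FiniteType ℤ R₀ := (Subalgebra.fg_iff_finiteType _).mp k.2.2
  refine ⟨Spec (CommRingCat.of S₀'), Spec (CommRingCat.of R₀),
    Spec.map (CommRingCat.ofHom (algebraMap R₀ S₀')), _, _, inferInstance, inferInstance, sqall,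
    ?_, ?_, ?_⟩
  · exact Algebra.FiniteType.equiv hft₀
      (Scheme.ΓSpecIso (CommRingCat.of R₀)).symm.commRingCatIsoToRingEquiv.toIntAlgEquiv
  · exact Groth.Agent.LibRelGCIAway29.locallyOfFiniteType_spec R₀ n c F₀
  · exact ⟨R₀, inferInstance, n, c, F₀, hk, Iso.refl _, Iso.refl _, by
      simp only [Iso.refl_hom, Category.id_comp, Category.comp_id]⟩

end Groth.Agent.S9736
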