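import Groth.Statements.S9749
import Mathlib
-- import your own Groth.Agent.* helpers here

set_option autoImplicit false
universe u
open Flatn

namespace Groth.Agent.S9749


theorem relFP_of_retract (R S : Type u) [CommRing R] [CommRing S] [Algebra R S] (N M : Type u)
    [AddCommGroup N] [Module S N] [AddCommGroup M] [Module S M]
    (ι : N →ₗ[S] M) (π : M →ₗ[S] N) (h : ∀ x, π (ι x) = x)
    (hM : FlatCA.RelFinitePresentation R S M) : FlatCA.RelFinitePresentation R S N := by
  obtain ⟨n, φ, hφ, hfp⟩ := hM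
  refine ⟨n, φ, hφ, ?_⟩
  letI : Module (MvPolynomial (Fin n) R) M := Module.compHom M φ.toRingHom
  letI : Module (MvPolynomial (Fin n) R) N := Module.compHom N φ.toRingHom
  have hfp' : Module.FinitePresentation (MvPolynomial (Fin n) R) M := hfp
  -- π as a P-linear map
  let π' : M →ₗ[MvPolynomial (Fin n) R] N :=
    { toFun := π
      map_add' := π.map_add
      map_smul' := fun p x => π.map_smul (φ.toRingHom p) x }
  let ι' : N →ₗ[MvPolynomial (Fin n) R] M :=
    { toFun := ι
      map_add' := ι.map_add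
      map_smul' := fun p x => ι.map_smul (φ.toRingHom p) x }
  have hπs : Function.Surjective π' := fun x => ⟨ι x, h x⟩
  have hker : (LinearMap.ker π').FG := by
    have : LinearMap.ker π' = LinearMap.range (LinearMap.id - ι' ∘ₗ π') := by
      ext x
      constructor
      · intro hx
        refine ⟨x, ?_⟩
        have hx' : π x = 0 := hx
        show x - ι (π x) = x
        rw [hx', map_zero, sub_zero]
      · rintro ⟨y, rfl⟩
        show π (y - ι (π y)) = 0
        rw [map_sub, h, sub_self]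
    rw [this, LinearMap.range_eq_map]
    exact (Module.Finite.fg_top).map _
  exact Module.finitePresentation_of_surjective π' hπs hker

open AlgebraicGeometry CategoryTheory Limits in
/-- For f : X ⟶ S locally of finite type and quasi-coherent O_X-modules F, F', relative finite
presentation over S of the biproduct F ⊞ F' implies the same property for each summand. -/
theorem result {X S : Scheme.{u}} (f : X ⟶ S) [LocallyOfFiniteType f] (F F' : X.Modules) [Coh.IsQCoh F] [Coh.IsQCoh F']
    (h : Flatn.IsRelFP f (F ⊞ F')) : Flatn.IsRelFP f F ∧ Flatn.IsRelFP f F' := by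
  obtain ⟨𝒱, h𝒱, hV⟩ := h
  constructor
  · refine ⟨𝒱, h𝒱, fun V hVmem => ?_⟩
    obtain ⟨𝒰, h𝒰, hU⟩ := hV V hVmem
    refine ⟨𝒰, h𝒰, fun U hUmem hle => ?_⟩
    have h1 := hU U hUmem hle
    unfold Flatn.RelFPOn at h1 ⊢
    letI := (f.appLE (V : S.Opens) (U : X.Opens) hle).hom.toAlgebra
    refine relFP_of_retract _ _ _ _
      ((biprod.inl : F ⟶ F ⊞ F').val.app (Opposite.op U.1)).hom
      ((biprod.fst : F ⊞ F' ⟶ F).val.app (Opposite.op U.1)).hom (fun x => ?_) h1
    have h2 : (biprod.inl : F ⟶ F ⊞ F') ≫ (biprod.fst : F ⊞ F' ⟶ F) = 𝟙 F := biprod.inl_fst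
    have h3 : (biprod.inl : F ⟶ F ⊞ F').val.app (Opposite.op U.1) ≫
        (biprod.fst : F ⊞ F' ⟶ F).val.app (Opposite.op U.1) = 𝟙 _ :=
      congrArg (fun α => α.val.app (Opposite.op U.1)) h2
    exact congrArg (fun g => g.hom x) h3
  · refine ⟨𝒱, h𝒱, fun V hVmem => ?_⟩
    obtain ⟨𝒰, h𝒰, hU⟩ := hV V hVmem
    refine ⟨𝒰, h𝒰, fun U hUmem hle => ?_⟩
    have h1 := hU U hUmem hle
    unfold Flatn.RelFPOn at h1 ⊢
    letI := (f.appLE (V : S.Opens) (U : X.Opens) hle).hom.toAlgebra
    refine relFP_of_retract _ _ _ _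
      ((biprod.inr : F' ⟶ F ⊞ F').val.app (Opposite.op U.1)).hom
      ((biprod.snd : F ⊞ F' ⟶ F').val.app (Opposite.op U.1)).hom (fun x => ?_) h1
    have h2 : (biprod.inr : F' ⟶ F ⊞ F') ≫ (biprod.snd : F ⊞ F' ⟶ F') = 𝟙 F' := biprod.inr_snd
    have h3 : (biprod.inr : F' ⟶ F ⊞ F').val.app (Opposite.op U.1) ≫
        (biprod.snd : F ⊞ F' ⟶ F').val.app (Opposite.op U.1) = 𝟙 _ :=
      congrArg (fun α => α.val.app (Opposite.op U.1)) h2
    exact congrArg (fun g => g.hom x) h3

end Groth.Agent.S9749
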