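import Groth.Statements.S9754
-- import your own Groth.Agent.* helpers here
import Groth.Agent.S9753
import Groth.Agent.S9727
import Groth.Agent.Lib.Helper9.FibreNbhd1

set_option backward.isDefEq.respectTransparency false
set_option linter.style.haveILetI false

set_option autoImplicit false
universe u
open Brnch

namespace Groth.Agent.S9754

open AlgebraicGeometry CategoryTheory Limits
open Groth.Agent.Lib.helper9.FibreNbhd

/-- For an étale neighbourhood, the number of components of the fibre through the point is bounded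
by the geometric branch number of the fibre. -/
theorem encard_le {X S U : Scheme.{u}} (f : X ⟶ S) (x : X) (g : U ⟶ X) (u : U)
    (het : Etale g) (hgu : g u = x) :
    {Z : Set ↑((g ≫ f).fiber (f x)) | Z ∈ irreducibleComponents ↑((g ≫ f).fiber (f x)) ∧
        ∃ u' ∈ Z, (g ≫ f).fiberι (f x) u' = u}.encard ≤
      Brnch.numGeomBranchesAt (f.fiber (f x)) (f.asFiber x) := by
  have hu : (g ≫ f) u = f x := by rw [Scheme.Hom.comp_apply, hgu]
  obtain ⟨u₀, hu₀⟩ := exists_fiber_point (g ≫ f) (f x) u hu
  rw [← hu₀, setOf_components_eq (g ≫ f) (f x) u₀]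
  refine Groth.Agent.S9753.encard_le_numGeomBranchesAt (MoreMor.fiberMap g f (f x)) u₀
    (f.asFiber x) inferInstance ?_
  apply fiberMap_apply_eq
  rw [hu₀, hgu]

/-- Approximating the geometric branch number of the fibre by étale neighbourhoods of `(X, x)`. -/
theorem exists_nbhd_le {X S : Scheme.{u}} (f : X ⟶ S) (x : X) (j : ℕ)
    (hj : (j : ℕ∞) ≤ Brnch.numGeomBranchesAt (f.fiber (f x)) (f.asFiber x)) :
    ∃ (U : Scheme.{u}) (g : U ⟶ X) (u : U), (Etale g ∧ g u = x) ∧
      (j : ℕ∞) ≤ {Z : Set ↑((g ≫ f).fiber (f x)) |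
        Z ∈ irreducibleComponents ↑((g ≫ f).fiber (f x)) ∧
        ∃ u' ∈ Z, (g ≫ f).fiberι (f x) u' = u}.encard := by
  obtain ⟨W, gW, w, ⟨hgW, hgWw⟩, hle⟩ :=
    Groth.Agent.S9753.exists_nbhd_le (f.fiber (f x)) (f.asFiber x) j hj
  obtain ⟨U, p, u, m, u', hp, hpu, hm, hmg, hu', hmu'⟩ :=
    Groth.Agent.S9727.result f x gW w hgWw
  refine ⟨U, p, u, ⟨hp, hpu⟩, ?_⟩
  rw [← hu', setOf_components_eq (p ≫ f) (f x) u', encard_components_of_isOpenImmersion m u', hmu']
  exact hle

open AlgebraicGeometry CategoryTheory Limits in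
/-- For a morphism f : X ⟶ S and a point x of X over s = f x, the geometric branch count of the fibre
X_s at x equals the supremum, over étale neighbourhoods (U, u) of (X, x), of how many irreducible
components of U_s (the fibre of U ⟶ X ⟶ S over s) contain the point of U_s lying over u. -/
theorem result {X S : Scheme.{u}} (f : X ⟶ S) (x : X) :
    Brnch.numGeomBranchesAt (f.fiber (f x)) (f.asFiber x) = ⨆ (U : Scheme.{u}) (g : U ⟶ X) (u : U) (_ : Etale g ∧ g u = x),
      {Z : Set ↑((g ≫ f).fiber (f x)) | Z ∈ irreducibleComponents ↑((g ≫ f).fiber (f x)) ∧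
        ∃ u' ∈ Z, (g ≫ f).fiberι (f x) u' = u}.encard := by
  apply le_antisymm
  · apply ENat.forall_natCast_le_iff_le.1
    intro j hj
    obtain ⟨U, g, u, hg, hle⟩ := exists_nbhd_le f x j hj
    refine hle.trans ?_
    exact le_iSup_of_le U (le_iSup_of_le g (le_iSup_of_le u (le_iSup_of_le hg le_rfl)))
  · refine iSup_le fun U => iSup_le fun g => iSup_le fun u => iSup_le fun hg => ?_
    exact encard_le f x g u hg.1 hg.2

end Groth.Agent.S9754
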