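import Groth.Statements.S9755
-- import your own Groth.Agent.* helpers here
import Groth.Agent.S9752
import Groth.Agent.S9727
import Groth.Agent.Lib.Helper9.FibreNbhd2

set_option backward.isDefEq.respectTransparency false
set_option linter.style.haveILetI false

set_option autoImplicit false
universe u
open Brnch

namespace Groth.Agent.S9755

open AlgebraicGeometry CategoryTheory Limits
open Groth.Agent.Lib.helper9.FibreNbhd

/-- For an elementary étale neighbourhood, the number of components of the fibre through the point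
is bounded by the branch number of the fibre. -/
theorem encard_le {X S U : Scheme.{u}} (f : X ⟶ S) (x : X) (g : U ⟶ X) (u : U)
    (h : Hens2.IsEtaleNbhd g u x) :
    {Z : Set ↑((g ≫ f).fiber (f x)) | Z ∈ irreducibleComponents ↑((g ≫ f).fiber (f x)) ∧
        ∃ u' ∈ Z, (g ≫ f).fiberι (f x) u' = u}.encard ≤
      Brnch.numBranchesAt (f.fiber (f x)) (f.asFiber x) := by
  have hgu : g u = x := h.base_eq
  have hu : (g ≫ f) u = f x := by rw [Scheme.Hom.comp_apply, hgu]
  obtain ⟨u₀, hu₀⟩ := exists_fiber_point (g ≫ f) (f x) u hu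
  have h' := isEtaleNbhd_fiberMap g f x u h u₀ hu₀
  rw [← hu₀, setOf_components_eq (g ≫ f) (f x) u₀]
  exact Groth.Agent.S9752.encard_le_numBranchesAt (MoreMor.fiberMap g f (f x)) u₀
    (f.asFiber x) h'

/-- Approximating the branch number of the fibre by elementary étale neighbourhoods of `(X, x)`. -/
theorem exists_nbhd_le {X S : Scheme.{u}} (f : X ⟶ S) (x : X) (j : ℕ)
    (hj : (j : ℕ∞) ≤ Brnch.numBranchesAt (f.fiber (f x)) (f.asFiber x)) :
    ∃ (U : Scheme.{u}) (g : U ⟶ X) (u : U), Hens2.IsEtaleNbhd g u x ∧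
      (j : ℕ∞) ≤ {Z : Set ↑((g ≫ f).fiber (f x)) |
        Z ∈ irreducibleComponents ↑((g ≫ f).fiber (f x)) ∧
        ∃ u' ∈ Z, (g ≫ f).fiberι (f x) u' = u}.encard := by
  obtain ⟨W, gW, w, hW, hle⟩ :=
    Groth.Agent.S9752.exists_nbhd_le (f.fiber (f x)) (f.asFiber x) j hj
  haveI := hW.etale
  obtain ⟨U, p, u, m, u', hp, hpu, hm, hmg, hu', hmu'⟩ :=
    Groth.Agent.S9727.result f x gW w hW.base_eq
  have hbij : Function.Bijective ((MoreMor.fiberMap p f (f x)).residueFieldMap u') :=
    bijective_residueFieldMap_of_openImmersion_comp m gW _ hmg u' w hmu' hW.residue_bijective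
  refine ⟨U, p, u, isEtaleNbhd_of_fiberMap p f x u hpu u' hu' hbij, ?_⟩
  rw [← hu', setOf_components_eq (p ≫ f) (f x) u', encard_components_of_isOpenImmersion m u', hmu']
  exact hle

open AlgebraicGeometry CategoryTheory Limits in
/-- For f : X ⟶ S and x ∈ X lying over s, the branch number of the fibre X_s at x equals the supremum,
over elementary étale neighbourhoods (U, u) of (X, x) (étale, u ↦ x, trivial residue field
extension), of how many irreducible components of U_s contain the point of U_s above u. -/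
theorem result {X S : Scheme.{u}} (f : X ⟶ S) (x : X) :
    Brnch.numBranchesAt (f.fiber (f x)) (f.asFiber x) = ⨆ (U : Scheme.{u}) (g : U ⟶ X) (u : U) (_ : Hens2.IsEtaleNbhd g u x),
      {Z : Set ↑((g ≫ f).fiber (f x)) | Z ∈ irreducibleComponents ↑((g ≫ f).fiber (f x)) ∧
        ∃ u' ∈ Z, (g ≫ f).fiberι (f x) u' = u}.encard := by
  apply le_antisymm
  · apply ENat.forall_natCast_le_iff_le.1
    intro j hj
    obtain ⟨U, g, u, hg, hle⟩ := exists_nbhd_le f x j hj
    refine hle.trans ?_
    exact le_iSup_of_le U (le_iSup_of_le g (le_iSup_of_le u (le_iSup_of_le hg le_rfl)))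
  · refine iSup_le fun U => iSup_le fun g => iSup_le fun u => iSup_le fun hg => ?_
    exact encard_le f x g u hg

end Groth.Agent.S9755
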