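import Groth.Statements.S9756
import Groth.Agent.LibFibRegSeq29
import Groth.Agent.Lib.Helper16.RelCartier
-- import your own Groth.Agent.* helpers here

set_option autoImplicit false
universe u
open FlatMor

namespace Groth.Agent.S9756

open AlgebraicGeometry CategoryTheory Limits in
/-- Let f : X ⟶ S be locally of finite presentation and flat at a point x, and assume the local ring of
the fibre X_{f x} at x has depth at least 1. Then there are an affine open U ∋ x and a
nonzerodivisor h' of Γ(X, U) vanishing at x such that the closed subscheme V(h') of U, an effective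
Cartier divisor through x, is flat and locally of finite presentation over S. The published
statement concludes that V(h') ⟶ S is of finite presentation; this row concludes only that it is
flat and locally of finite presentation, which is what the published argument (slicing by a lift of
a fibrewise nonzerodivisor) yields, and which is equivalent when S is quasi-separated, V(h') being
affine. -/
theorem result {X S : Scheme.{u}} (f : X ⟶ S) [LocallyOfFinitePresentation f] (x : X)
    (hflat : (f.stalkMap x).hom.Flat)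
    (hdepth : 1 ≤ LocCoh.depth ↑((f.fiber (f x)).presheaf.stalk (f.asFiber x)) ↑((f.fiber (f x)).presheaf.stalk (f.asFiber x))) :
    ∃ (U : X.Opens) (hU : IsAffineOpen U) (hx : x ∈ U) (h' : Γ(X, U)), h' ∈ nonZeroDivisors Γ(X, U) ∧
      X.presheaf.germ U x hx h' ∈ IsLocalRing.maximalIdeal ↑(X.presheaf.stalk x) ∧
      Flat (Spec.map (CommRingCat.ofHom (Ideal.Quotient.mk (Ideal.span {h'}))) ≫ hU.fromSpec ≫ f) ∧
      LocallyOfFinitePresentation (Spec.map (CommRingCat.ofHom (Ideal.Quotient.mk (Ideal.span {h'}))) ≫ hU.fromSpec ≫ f) := by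
  classical
  obtain ⟨V, hV, U₁, hU₁, e₁, hxU₁, hB₁⟩ :=
    Groth.Agent.LibFibRegSeq29.exists_flat_chart f x hflat
  -- a regular element of the maximal ideal of the local ring of the fibre
  obtain ⟨eq⟩ := Groth.Agent.Lib.helper17.FibreStalk.nonempty_asFiber_stalk_equiv f x
  set F := ↑((f.fiber (f x)).presheaf.stalk (f.asFiber x)) with hF
  obtain ⟨t, htm, htreg⟩ : ∃ t : F, t ∈ IsLocalRing.maximalIdeal F ∧ IsSMulRegular F t := by
    unfold LocCoh.depth LocCoh.idealDepth at hdepth
    have hne : IsLocalRing.maximalIdeal F • (⊤ : Submodule F F) ≠ ⊤ := by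
      rw [smul_eq_mul, Ideal.mul_top]
      exact (IsLocalRing.maximalIdeal.isMaximal F).ne_top
    rw [if_neg hne] at hdepth
    by_contra hcon
    push Not at hcon
    have hle : (⨆ (rs : List F) (_ : RingTheory.Sequence.IsWeaklyRegular F rs ∧
        ∀ r ∈ rs, r ∈ IsLocalRing.maximalIdeal F), (rs.length : ℕ∞)) ≤ 0 := by
      refine iSup_le fun rs => iSup_le fun hrs => ?_
      cases rs with
      | nil => simp
      | cons a rs =>
        exfalso
        have h1 := ((RingTheory.Sequence.isWeaklyRegular_cons_iff F a rs).mp hrs.1).1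
        exact hcon a (hrs.2 a (List.mem_cons_self)) h1
    have : (1 : ℕ∞) ≤ 0 := hdepth.trans hle
    simp at this
  -- transport to `FibRing f x`
  set L := Groth.Agent.Lib.helper17.FibreStalk.FibRing f x with hL
  have ht' : IsSMulRegular L (eq.symm t) := by
    intro a b hab
    have : t • eq a = t • eq b := by
      have h2 := congrArg eq hab
      simpa [smul_eq_mul, map_mul] using h2
    exact eq.injective (htreg this)
  have ht'm : eq.symm t ∈ IsLocalRing.maximalIdeal L := by
    rw [IsLocalRing.mem_maximalIdeal, mem_nonunits_iff]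
    intro hu
    have : IsUnit t := by simpa using hu.map eq
    exact htm this
  -- lift to a section over `U₁`
  obtain ⟨t'', ht''⟩ := Ideal.Quotient.mk_surjective (eq.symm t)
  letI a1 : Algebra Γ(X, U₁) (X.presheaf.stalk x) :=
    X.presheaf.algebra_section_stalk (⟨x, hxU₁⟩ : U₁)
  haveI l1 : IsLocalization.AtPrime (X.presheaf.stalk x) (hU₁.primeIdealOf ⟨x, hxU₁⟩).asIdeal :=
    hU₁.isLocalization_stalk ⟨x, hxU₁⟩
  obtain ⟨⟨s, u⟩, hsu⟩ := IsLocalization.surj (hU₁.primeIdealOf ⟨x, hxU₁⟩).asIdeal.primeCompl t''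
  have hsu' : t'' * (X.presheaf.germ U₁ x hxU₁).hom u.1 = (X.presheaf.germ U₁ x hxU₁).hom s := hsu
  have huu : IsUnit ((X.presheaf.germ U₁ x hxU₁).hom u.1) :=
    IsLocalization.map_units (X.presheaf.stalk x) u
  set ψ : X.presheaf.stalk x →+* L := Ideal.Quotient.mk _ with hψ
  have hψs : ψ ((X.presheaf.germ U₁ x hxU₁).hom s) =
      eq.symm t * ψ ((X.presheaf.germ U₁ x hxU₁).hom u.1) := by
    rw [← hsu', map_mul, hψ, ht'']
  have hψu : IsUnit (ψ ((X.presheaf.germ U₁ x hxU₁).hom u.1)) := huu.map ψ
  have hsreg : IsSMulRegular L (ψ ((X.presheaf.germ U₁ x hxU₁).hom s)) := by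
    rw [hψs]
    exact ht'.mul (IsUnit.isSMulRegular L hψu)
  have hsm : ψ ((X.presheaf.germ U₁ x hxU₁).hom s) ∈ IsLocalRing.maximalIdeal L := by
    rw [hψs]
    exact Ideal.mul_mem_right _ _ ht'm
  have hwr : RingTheory.Sequence.IsWeaklyRegular L
      ([s].map (ψ.comp (X.presheaf.germ U₁ x hxU₁).hom)) := by
    rw [List.map_singleton, RingTheory.Sequence.isWeaklyRegular_cons_iff]
    exact ⟨hsreg, RingTheory.Sequence.IsWeaklyRegular.nil _ _⟩
  obtain ⟨g, hxg, hRF⟩ := Groth.Agent.LibFibRegSeq29.exists_basicOpen_regFlat_of_fibModel_seq f x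
    hU₁ hV e₁ hxU₁ hB₁ L ψ Ideal.Quotient.mk_surjective Ideal.mk_ker [s] hwr
  have hU : IsAffineOpen (X.basicOpen g) := hU₁.basicOpen g
  have e : X.basicOpen g ≤ f ⁻¹ᵁ V := (X.basicOpen_le g).trans e₁
  letI alg : Algebra Γ(S, V) Γ(X, X.basicOpen g) := (f.appLE V (X.basicOpen g) e).hom.toAlgebra
  set h' : Γ(X, X.basicOpen g) := (X.presheaf.map (homOfLE (X.basicOpen_le g)).op).hom s with hh'
  rw [List.map_singleton] at hRF
  obtain ⟨hreg, hfl⟩ := hRF
  have hnzd : IsSMulRegular Γ(X, X.basicOpen g) h' :=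
    ((RingTheory.Sequence.isWeaklyRegular_cons_iff _ h' []).mp hreg).1
  have hfl1 : Module.Flat Γ(S, V) (Γ(X, X.basicOpen g) ⧸ Ideal.span {h'}) := by
    have := hfl 1
    rw [List.take_of_length_le (by simp), Ideal.ofList_singleton] at this
    exact this
  refine ⟨X.basicOpen g, hU, hxg, h', ?_, ?_, ?_, ?_⟩
  · exact ((Commute.isRegular_iff (fun b => Commute.all h' b)).mpr
      (IsSMulRegular.isLeftRegular hnzd)).mem_nonZeroDivisors
  · -- the germ lies in the maximal ideal
    have hgerm : X.presheaf.germ (X.basicOpen g) x hxg h' = (X.presheaf.germ U₁ x hxU₁).hom s := by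
      rw [hh']
      exact TopCat.Presheaf.germ_res_apply X.presheaf (homOfLE (X.basicOpen_le g)) x hxg s
    rw [hgerm]
    by_contra hnot
    have hunit : IsUnit ((X.presheaf.germ U₁ x hxU₁).hom s) :=
      IsLocalRing.notMem_maximalIdeal.mp hnot
    exact hsm (hunit.map ψ)
  · have h1 : hU.fromSpec ≫ f = Spec.map (f.appLE V (X.basicOpen g) e) ≫ hV.fromSpec :=
      (IsAffineOpen.SpecMap_appLE_fromSpec f hV hU e).symm
    rw [h1, ← Category.assoc, ← Spec.map_comp]
    haveI : Flat (Spec.map (f.appLE V (X.basicOpen g) e ≫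
        CommRingCat.ofHom (Ideal.Quotient.mk (Ideal.span {h'})))) := by
      rw [HasRingHomProperty.Spec_iff (P := @Flat)]
      exact (Groth.Agent.Lib.helper16.RelCartier.flat_comp_mk_iff _).mpr hfl1
    infer_instance
  · have h1 : hU.fromSpec ≫ f = Spec.map (f.appLE V (X.basicOpen g) e) ≫ hV.fromSpec :=
      (IsAffineOpen.SpecMap_appLE_fromSpec f hV hU e).symm
    rw [h1, ← Category.assoc, ← Spec.map_comp]
    haveI : LocallyOfFinitePresentation (Spec.map (f.appLE V (X.basicOpen g) e ≫
        CommRingCat.ofHom (Ideal.Quotient.mk (Ideal.span {h'})))) := by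
      rw [HasRingHomProperty.Spec_iff (P := @LocallyOfFinitePresentation)]
      have hfp : (f.appLE V (X.basicOpen g) e).hom.FinitePresentation :=
        HasRingHomProperty.appLE (P := @LocallyOfFinitePresentation) f inferInstance ⟨V, hV⟩
          ⟨_, hU⟩ e
      have hq : (Ideal.Quotient.mk (Ideal.span {h'})).FinitePresentation :=
        RingHom.FinitePresentation.of_surjective _ Ideal.Quotient.mk_surjective (by
          rw [Ideal.mk_ker]
          exact ⟨{h'}, by simp⟩)
      exact hq.comp hfp
    infer_instance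

end Groth.Agent.S9756
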