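import Groth.Statements.S9759
import Groth.Agent.LibFPModelExplicit29
-- import your own Groth.Agent.* helpers here

set_option autoImplicit false
universe u
open FlatMor

namespace Groth.Agent.S9759

open AlgebraicGeometry CategoryTheory Limits in
/-- Let f : X ⟶ S be a flat morphism of finite presentation between affine schemes. Then f is the base
change of a morphism of finite type f₀ : X₀ ⟶ S₀ between affine schemes with S₀ of finite type over
ℤ and f₀ flat. -/
theorem result {X S : Scheme.{u}} (f : X ⟶ S) [IsAffine X] [IsAffine S] [LocallyOfFinitePresentation f] [Flat f] :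
    ∃ (X₀ S₀ : Scheme.{u}) (f₀ : X₀ ⟶ S₀) (g : S ⟶ S₀) (g' : X ⟶ X₀), IsAffine X₀ ∧ IsAffine S₀ ∧ IsPullback g' f f₀ g ∧
      Algebra.FiniteType ℤ Γ(S₀, ⊤) ∧ LocallyOfFiniteType f₀ ∧ Flat f₀ := by
  obtain ⟨B₀, C₀, _, _, _, t, ψ, h1, h2, h3, h4⟩ :=
    Groth.Agent.LibFPModelExplicit29.exists_spec_model_flat f
  refine ⟨Spec (CommRingCat.of C₀), Spec (CommRingCat.of B₀),
    Spec.map (CommRingCat.ofHom (algebraMap B₀ C₀)), t, ψ, inferInstance, inferInstance, h4, ?_,
    ?_, ?_⟩
  · exact Algebra.FiniteType.equiv h1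
      (Scheme.ΓSpecIso (CommRingCat.of B₀)).symm.commRingCatIsoToRingEquiv.toIntAlgEquiv
  · rw [HasRingHomProperty.Spec_iff (P := @LocallyOfFiniteType)]
    have : Algebra.FiniteType B₀ C₀ := inferInstance
    exact RingHom.finiteType_algebraMap.mpr this
  · rw [HasRingHomProperty.Spec_iff (P := @Flat)]
    exact RingHom.flat_algebraMap_iff.mpr h2

end Groth.Agent.S9759
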