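import Groth.Statements.S9760
import Groth.Agent.Lib.Helper3.ModelSch

set_option autoImplicit false
universe u
open FlatMor

namespace Groth.Agent.S9760

open AlgebraicGeometry CategoryTheory Limits in
/-- Given affine schemes X and S, a finitely presented morphism f : X ⟶ S, and a finitely presented
quasi-coherent O_X-module F, the morphism f is a pullback, along some g' : X ⟶ X₀, of a finite type
morphism f₀ : X₀ ⟶ S₀ of affine schemes with Γ(S₀) of finite type over ℤ, and there is a coherent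
O_{X₀}-module F₀ whose pullback along g' is isomorphic to F. -/
theorem result {X S : Scheme.{u}} (f : X ⟶ S) [IsAffine X] [IsAffine S] [LocallyOfFinitePresentation f]
    (F : X.Modules) [Coh.IsQCoh F] (hF : CohB1.IsFP F) :
    ∃ (X₀ S₀ : Scheme.{u}) (f₀ : X₀ ⟶ S₀) (g : S ⟶ S₀) (g' : X ⟶ X₀), IsAffine X₀ ∧ IsAffine S₀ ∧ IsPullback g' f f₀ g ∧
      Algebra.FiniteType ℤ Γ(S₀, ⊤) ∧ LocallyOfFiniteType f₀ ∧
      ∃ F₀ : X₀.Modules, Coh.IsCoh F₀ ∧ Nonempty ((Scheme.Modules.pullback g').obj F₀ ≅ F) := by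
  obtain ⟨A₀, B₀, _, _, _, M₀, _, _, _, _, t, ψ, hft, hfp, hfin, hpb, hiso⟩ :=
    Groth.Agent.Lib.helper3.ModelSch.exists_spec_model_module f F hF
  refine ⟨Spec (CommRingCat.of B₀), Spec (CommRingCat.of A₀),
    Spec.map (CommRingCat.ofHom (algebraMap A₀ B₀)), t, ψ, inferInstance, inferInstance, hpb,
    ?_, ?_, tilde (ModuleCat.of B₀ M₀), ?_, hiso⟩
  · exact Algebra.FiniteType.equiv hft
      (Scheme.ΓSpecIso (CommRingCat.of A₀)).symm.commRingCatIsoToRingEquiv.toIntAlgEquiv
  · rw [HasRingHomProperty.Spec_iff (P := @LocallyOfFiniteType)]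
    have : Algebra.FiniteType A₀ B₀ := inferInstance
    exact RingHom.finiteType_algebraMap.mpr this
  · obtain ⟨G, hG⟩ := Groth.Agent.Lib.helper16.CohFinite.exists_generatingSections_tilde
      (R := CommRingCat.of B₀) (ModuleCat.of B₀ M₀)
    haveI := hG
    exact ⟨inferInstance,
      Groth.Agent.Lib.helper16.CohFinite.isFiniteType_of_generatingSections
        (X := Spec (CommRingCat.of B₀)) (tilde (ModuleCat.of B₀ M₀)) G⟩

end Groth.Agent.S9760
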