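import Groth.Statements.S9761
import Groth.Agent.Lib.Helper3.FlatModelSch

set_option autoImplicit false
universe u
open FlatMor

namespace Groth.Agent.S9761

open AlgebraicGeometry CategoryTheory Limits in
/-- For a finitely presented morphism f : X ⟶ S of affine schemes and a quasi-coherent, finitely
presented O_X-module F that is flat over S, f is the base change along some g' : X ⟶ X₀ of a finite
type morphism f₀ : X₀ ⟶ S₀ of affine schemes with S₀ of finite type over ℤ, and some coherent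
O_{X₀}-module F₀, flat over S₀, satisfies g'^*F₀ ≅ F. -/
theorem result {X S : Scheme.{u}} (f : X ⟶ S) [IsAffine X] [IsAffine S] [LocallyOfFinitePresentation f]
    (F : X.Modules) [Coh.IsQCoh F] (hF : CohB1.IsFP F) (hfl : FlatMod.IsFlatOver f F) :
    ∃ (X₀ S₀ : Scheme.{u}) (f₀ : X₀ ⟶ S₀) (g : S ⟶ S₀) (g' : X ⟶ X₀), IsAffine X₀ ∧ IsAffine S₀ ∧ IsPullback g' f f₀ g ∧
      Algebra.FiniteType ℤ Γ(S₀, ⊤) ∧ LocallyOfFiniteType f₀ ∧
      ∃ F₀ : X₀.Modules, Coh.IsCoh F₀ ∧ FlatMod.IsFlatOver f₀ F₀ ∧ Nonempty ((Scheme.Modules.pullback g').obj F₀ ≅ F) := by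
  obtain ⟨A₀, B₀, _, _, _, M₀, _, _, _, _, t, ψ, hft, hfp, hfin, hflat, hpb, hiso⟩ :=
    Groth.Agent.Lib.helper3.FlatModelSch.exists_spec_model_flat_module f F hF hfl
  refine ⟨Spec (CommRingCat.of B₀), Spec (CommRingCat.of A₀),
    Spec.map (CommRingCat.ofHom (algebraMap A₀ B₀)), t, ψ, inferInstance, inferInstance, hpb,
    ?_, ?_, tilde (ModuleCat.of B₀ M₀), ?_, ?_, hiso⟩
  · exact Algebra.FiniteType.equiv hft
      (Scheme.ΓSpecIso (CommRingCat.of A₀)).symm.commRingCatIsoToRingEquiv.toIntAlgEquiv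
  · rw [HasRingHomProperty.Spec_iff (P := @LocallyOfFiniteType)]
    have : Algebra.FiniteType A₀ B₀ := inferInstance
    exact RingHom.finiteType_algebraMap.mpr this
  · obtain ⟨G, hG⟩ := Groth.Agent.Lib.helper16.CohFinite.exists_generatingSections_tilde
      (R := CommRingCat.of B₀) (ModuleCat.of B₀ M₀)
    haveI := hG
    exact ⟨inferInstance,
      Groth.Agent.Lib.helper16.CohFinite.isFiniteType_of_generatingSections
        (X := Spec (CommRingCat.of B₀)) (tilde (ModuleCat.of B₀ M₀)) G⟩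
  · exact (Groth.Agent.Lib.helper17.FlatOver2.tilde_isFlatOver_iff A₀ B₀ M₀).mpr hflat

end Groth.Agent.S9761
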