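import Groth.Statements.S9762
import Mathlib
import Groth.Agent.Lib.Helper13.UR2
import Groth.Agent.Lib.Helper13.WT9
-- import your own Groth.Agent.* helpers here

set_option autoImplicit false
universe u
open FlatMor

namespace Groth.Agent.S9762

open AlgebraicGeometry CategoryTheory Limits in
/-- Quasi-finiteness at a point in terms of the scheme-theoretic fibre over an arbitrary name of
the image point. -/
lemma quasiFiniteAt_iff_isOpen_singleton {X Y : Scheme.{u}} (f : X ⟶ Y) [LocallyOfFiniteType f]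
    (x : X) (y : Y) (h : f x = y) (z : ↑(f.fiber y)) (hz : f.fiberι y z = x) :
    f.QuasiFiniteAt x ↔ IsOpen ({z} : Set ↑(f.fiber y)) := by
  subst h
  have : z = f.asFiber x := by
    apply (f.fiberHomeo (f x)).injective
    apply Subtype.ext
    rw [Scheme.Hom.fiberHomeo_apply, hz, Scheme.Hom.fiberHomeo_apply, Scheme.Hom.fiberι_asFiber]
  rw [this]
  exact Scheme.Hom.quasiFiniteAt_iff_isOpen_singleton_asFiber

open AlgebraicGeometry CategoryTheory Limits in
/-- Quasi-finiteness at a point means the point is isolated in its (set-theoretic) fibre. -/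
lemma quasiFiniteAt_iff_exists_opens {X Y : Scheme.{u}} (f : X ⟶ Y) [LocallyOfFiniteType f]
    (x : X) :
    f.QuasiFiniteAt x ↔ ∃ O : X.Opens, x ∈ O ∧ ∀ x' ∈ O, f x' = f x → x' = x := by
  rw [Scheme.Hom.quasiFiniteAt_iff_isOpen_singleton_asFiber, ← (f.fiberHomeo (f x)).isOpen_image]
  simp only [Set.image_singleton, Scheme.Hom.asFiber, Homeomorph.apply_symm_apply]
  rw [isOpen_induced_iff]
  constructor
  · rintro ⟨O, hO, hOeq⟩
    refine ⟨⟨O, hO⟩, ?_, ?_⟩
    · have : (⟨x, rfl⟩ : f ⁻¹' {f x}) ∈ Subtype.val ⁻¹' O := by rw [hOeq]; rfl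
      exact this
    · intro x' hx' hfx'
      have : (⟨x', hfx'⟩ : f ⁻¹' {f x}) ∈ Subtype.val ⁻¹' O := hx'
      rw [hOeq] at this
      exact congrArg Subtype.val this
  · rintro ⟨O, hxO, hO⟩
    refine ⟨O, O.2, ?_⟩
    ext ⟨x', hx'⟩
    constructor
    · intro h
      exact Subtype.ext (hO x' h hx')
    · intro h
      have h' : x' = x := congrArg Subtype.val h
      subst h'
      exact hxO

open AlgebraicGeometry CategoryTheory Limits in
/-- Quasi-finiteness at a point descends along étale base change. -/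
lemma quasiFiniteAt_fst_of_snd {X S U : Scheme.{u}} (f : X ⟶ S) [LocallyOfFiniteType f]
    (g : U ⟶ S) [Etale g] (w : ↑(pullback f g)) (h : (pullback.snd f g).QuasiFiniteAt w) :
    f.QuasiFiniteAt (pullback.fst f g w) := by
  obtain ⟨O', hwO', hO'⟩ := (quasiFiniteAt_iff_exists_opens _ w).mp h
  haveI : LocallyQuasiFinite g :=
    Groth.Agent.Lib.helper13.UR.locallyQuasiFinite_of_formallyUnramified g
  obtain ⟨U₀, huU₀, hU₀⟩ := (quasiFiniteAt_iff_exists_opens g (pullback.snd f g w)).mp
    (g.quasiFiniteAt _)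
  rw [quasiFiniteAt_iff_exists_opens]
  have hopen : IsOpen (pullback.fst f g '' ((O' : Set ↑(pullback f g)) ∩
      (pullback.snd f g ⁻¹' (U₀ : Set U)))) :=
    (pullback.fst f g).isOpenMap _ (O'.2.inter (U₀.2.preimage (pullback.snd f g).continuous))
  refine ⟨⟨_, hopen⟩, ⟨w, ⟨hwO', huU₀⟩, rfl⟩, ?_⟩
  rintro _ ⟨w', ⟨hw'O', hw'U₀⟩, rfl⟩ hfx
  have hcond : ∀ z : ↑(pullback f g), f (pullback.fst f g z) = g (pullback.snd f g z) := fun z ↦ by
    show (pullback.fst f g ≫ f) z = (pullback.snd f g ≫ g) z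
    rw [pullback.condition]
  have h1 : pullback.snd f g w' = pullback.snd f g w := by
    apply hU₀ _ hw'U₀
    rw [← hcond, ← hcond, hfx]
  rw [hO' w' hw'O' h1]

open AlgebraicGeometry CategoryTheory Limits in
/-- Transport a property respecting isomorphisms from an open `W'` to its trace on a larger open. -/
lemma comp_ι_of_le (P : MorphismProperty Scheme.{u}) [P.RespectsIso] {X Y : Scheme.{u}} (f : X ⟶ Y)
    (X₀ W' : X.Opens) (hle : W' ≤ X₀) (h : P (W'.ι ≫ f)) :
    P ((X₀.ι ⁻¹ᵁ W').ι ≫ X₀.ι ≫ f) := by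
  have hrange : Set.range ((X₀.ι ⁻¹ᵁ W').ι ≫ X₀.ι) = Set.range W'.ι := by
    rw [Scheme.Opens.range_ι]
    ext p
    constructor
    · rintro ⟨a, rfl⟩
      exact a.2
    · intro hp
      exact ⟨⟨⟨p, hle hp⟩, hp⟩, rfl⟩
  have e := IsOpenImmersion.isoOfRangeEq_hom_fac ((X₀.ι ⁻¹ᵁ W').ι ≫ X₀.ι) W'.ι hrange
  rw [← Category.assoc, ← e, Category.assoc]
  exact (MorphismProperty.cancel_left_of_respectsIso P _ _).mpr h


open AlgebraicGeometry CategoryTheory Limits in
/-- For f : X ⟶ S separated and locally of finite type, and a point s of S such that only finitely many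
points of the fibre over s are isolated, some elementary étale neighbourhood (U, u) of (S, s) admits
an open and closed V ⊆ U ×_S X, finite over U, such that no point of the fibre over u lying outside
V is isolated in that fibre. The published statement also asserts that the complement of V has empty
fibre over u when the fibre over s is finite; this row omits that clause. -/
theorem result {X S : Scheme.{u}} (f : X ⟶ S) [LocallyOfFiniteType f] [IsSeparated f] (s : S)
    (hfin : {x : ↑(f.fiber s) | IsOpen ({x} : Set ↑(f.fiber s))}.Finite) :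
    ∃ (U : Scheme.{u}) (g : U ⟶ S) (u : U), Hens2.IsEtaleNbhd g u s ∧
      ∃ V : (pullback f g).Opens, IsClopen (V : Set ↑(pullback f g)) ∧ IsFinite (V.ι ≫ pullback.snd f g) ∧
        ∀ w : ↑((pullback.snd f g).fiber u), (pullback.snd f g).fiberι u w ∉ V →
          ¬ IsOpen ({w} : Set ↑((pullback.snd f g).fiber u)) := by
  classical
  haveI : Finite {x : ↑(f.fiber s) | IsOpen ({x} : Set ↑(f.fiber s))} := hfin.to_subtype
  let e : Fin (Nat.card {x : ↑(f.fiber s) | IsOpen ({x} : Set ↑(f.fiber s))}) ≃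
      {x : ↑(f.fiber s) | IsOpen ({x} : Set ↑(f.fiber s))} := (Finite.equivFin _).symm
  let x : Fin (Nat.card {x : ↑(f.fiber s) | IsOpen ({x} : Set ↑(f.fiber s))}) → ↑X :=
    fun i ↦ f.fiberι s (e i).1
  have hs : ∀ i, f (x i) = s := fun i ↦ (f.fiberHomeo s (e i).1).2
  have hx : ∀ i, f.QuasiFiniteAt (x i) := fun i ↦
    (quasiFiniteAt_iff_isOpen_singleton f (x i) s (hs i) (e i).1 rfl).mpr (e i).2
  obtain ⟨U, g, u, hg, hgu, hbij, V, v, hgood⟩ :=
    Groth.Agent.Lib.helper13.EL.exists_etale_nbhd_of_quasiFiniteAt_finite (f := f) s x hs hx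
  have hmemV : ∀ i, v i ∈ (⨆ i, V i : (pullback f g).Opens) := fun i ↦
    TopologicalSpace.Opens.mem_iSup.mpr ⟨i, (hgood i).mem⟩
  refine ⟨U, g, u, ⟨hg, hgu, hbij⟩, ⨆ i, V i, ⟨?_, (⨆ i, V i).2⟩, ?_, ?_⟩
  · have : ((⨆ i, V i : (pullback f g).Opens) : Set ↑(pullback f g)) =
        ⋃ i, (V i : Set ↑(pullback f g)) := by
      ext p
      simp
    rw [this]
    exact isClosed_iUnion_of_finite fun i ↦ (hgood i).closed inferInstance
  · -- finiteness of the union
    haveI : LocallyQuasiFinite ((⨆ i, V i).ι ≫ pullback.snd f g) :=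
      Groth.Agent.Lib.helper13.UR.of_iSup_opens (pullback.snd f g) @LocallyQuasiFinite V
        (fun i ↦ by haveI := (hgood i).finite; infer_instance)
    haveI : UniversallyClosed ((⨆ i, V i).ι ≫ pullback.snd f g) := by
      refine Groth.Agent.Lib.helper13.WT.universallyClosed_of_finite_cover _
        (fun i ↦ (⨆ i, V i).ι ⁻¹ᵁ V i) (fun i ↦ ?_) (fun p ↦ ?_)
      · haveI := (hgood i).finite
        exact comp_ι_of_le @UniversallyClosed (pullback.snd f g) (⨆ i, V i) (V i)
          (le_iSup V i) inferInstance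
      · obtain ⟨i, hi⟩ := TopologicalSpace.Opens.mem_iSup.mp p.2
        exact ⟨i, hi⟩
    haveI : IsProper ((⨆ i, V i).ι ≫ pullback.snd f g) := {}
    exact IsFinite.of_isProper_of_locallyQuasiFinite _
  · intro w hw hopen
    apply hw
    have hw'u : pullback.snd f g ((pullback.snd f g).fiberι u w) = u :=
      ((pullback.snd f g).fiberHomeo u w).2
    have h1 : (pullback.snd f g).QuasiFiniteAt ((pullback.snd f g).fiberι u w) :=
      (quasiFiniteAt_iff_isOpen_singleton (pullback.snd f g) _ u hw'u w rfl).mpr hopen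
    haveI := hg
    have h2 := quasiFiniteAt_fst_of_snd f g _ h1
    have hfs : f (pullback.fst f g ((pullback.snd f g).fiberι u w)) = s := by
      have h3 : f (pullback.fst f g ((pullback.snd f g).fiberι u w)) =
          g (pullback.snd f g ((pullback.snd f g).fiberι u w)) := by
        show (pullback.fst f g ≫ f) _ = (pullback.snd f g ≫ g) _
        rw [pullback.condition]
      rw [h3, hw'u, hgu]
    have hy : f.fiberι s ((f.fiberHomeo s).symm ⟨_, hfs⟩) =
        pullback.fst f g ((pullback.snd f g).fiberι u w) := f.fiberι_fiberHomeo_symm s _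
    have hyopen : IsOpen ({(f.fiberHomeo s).symm ⟨_, hfs⟩} : Set ↑(f.fiber s)) :=
      (quasiFiniteAt_iff_isOpen_singleton f _ s hfs _ hy).mp h2
    have hxi : x (e.symm ⟨_, hyopen⟩) = pullback.fst f g ((pullback.snd f g).fiberι u w) := by
      show f.fiberι s (e (e.symm ⟨_, hyopen⟩)).1 = _
      rw [e.apply_symm_apply]
      exact hy
    have hwv : (pullback.snd f g).fiberι u w = v (e.symm ⟨_, hyopen⟩) := by
      apply Groth.Agent.Lib.helper13.EL.eq_of_fst_eq_of_snd_eq
      · rw [hw'u]; exact hbij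
      · rw [(hgood _).fst_eq, hxi]
      · rw [hw'u, (hgood _).snd_eq]
    rw [hwv]
    exact hmemV _

end Groth.Agent.S9762
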