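import Groth.Statements.S9766
import Mathlib
import Groth.Agent.Lib.Helper17.FibreStalk
import Groth.Agent.Lib.Helper17.CMComp

set_option autoImplicit false
set_option linter.style.haveILetI false
universe u
open FlatMor

namespace Groth.Agent.S9766

open AlgebraicGeometry CategoryTheory Limits in
/-- For morphisms f : X ⟶ Y, g : Y ⟶ Z and a point x of X whose fibre under f ≫ g is locally Noetherian,
Cohen–Macaulayness of f at x (flat at x with Cohen–Macaulay local ring of the fibre at x) together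
with that of g at f x implies that f ≫ g is Cohen–Macaulay at x. The published statement assumes all
fibres of f, g and g ∘ f locally Noetherian; this row assumes only that the fibre of f ≫ g through x
is, which is all the argument uses. -/
theorem result {X Y Z : Scheme.{u}} (f : X ⟶ Y) (g : Y ⟶ Z) (x : X)
    (hN : IsLocallyNoetherian ((f ≫ g).fiber (g (f x))))
    (hf : MoreMor.IsCMAt f x) (hg : MoreMor.IsCMAt g (f x)) : MoreMor.IsCMAt (f ≫ g) x := by
  obtain ⟨hf1, hf2⟩ := hf
  obtain ⟨hg1, hg2⟩ := hg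
  have hcomp : (f ≫ g).stalkMap x = g.stalkMap (f x) ≫ f.stalkMap x := Scheme.Hom.stalkMap_comp f g x
  letI algAB : Algebra (Z.presheaf.stalk ((f ≫ g) x)) (Y.presheaf.stalk (f x)) :=
    (g.stalkMap (f x)).hom.toAlgebra
  letI algBC : Algebra (Y.presheaf.stalk (f x)) (X.presheaf.stalk x) := (f.stalkMap x).hom.toAlgebra
  letI algAC : Algebra (Z.presheaf.stalk ((f ≫ g) x)) (X.presheaf.stalk x) :=
    ((f ≫ g).stalkMap x).hom.toAlgebra
  haveI : IsScalarTower (Z.presheaf.stalk ((f ≫ g) x)) (Y.presheaf.stalk (f x))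
      (X.presheaf.stalk x) :=
    IsScalarTower.of_algebraMap_eq' congr($(hcomp).hom)
  haveI : IsLocalHom (algebraMap (Z.presheaf.stalk ((f ≫ g) x)) (Y.presheaf.stalk (f x))) :=
    inferInstanceAs (IsLocalHom (g.stalkMap (f x)).hom)
  haveI : IsLocalHom (algebraMap (Y.presheaf.stalk (f x)) (X.presheaf.stalk x)) :=
    inferInstanceAs (IsLocalHom (f.stalkMap x).hom)
  haveI : Module.Flat (Y.presheaf.stalk (f x)) (X.presheaf.stalk x) := hf1
  obtain ⟨ef⟩ := Groth.Agent.Lib.helper17.FibreStalk.nonempty_asFiber_stalk_equiv f x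
  obtain ⟨eg⟩ := Groth.Agent.Lib.helper17.FibreStalk.nonempty_asFiber_stalk_equiv g (f x)
  obtain ⟨efg⟩ := Groth.Agent.Lib.helper17.FibreStalk.nonempty_asFiber_stalk_equiv (f ≫ g) x
  have hC : LocCoh.IsCohenMacaulayLocalRing (X.presheaf.stalk x ⧸
      (IsLocalRing.maximalIdeal (Y.presheaf.stalk (f x))).map
        (algebraMap (Y.presheaf.stalk (f x)) (X.presheaf.stalk x))) :=
    Groth.Agent.S9808.cm_of_ringEquiv ef.symm
  have hB : LocCoh.IsCohenMacaulayLocalRing (Y.presheaf.stalk (f x) ⧸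
      (IsLocalRing.maximalIdeal (Z.presheaf.stalk ((f ≫ g) x))).map
        (algebraMap (Z.presheaf.stalk ((f ≫ g) x)) (Y.presheaf.stalk (f x)))) :=
    Groth.Agent.S9808.cm_of_ringEquiv eg.symm
  haveI hN2 : IsLocallyNoetherian ((f ≫ g).fiber ((f ≫ g) x)) := hN
  have hNst : IsNoetherianRing (((f ≫ g).fiber ((f ≫ g) x)).presheaf.stalk ((f ≫ g).asFiber x)) :=
    inferInstance
  have hN' : IsNoetherianRing (X.presheaf.stalk x ⧸
      (IsLocalRing.maximalIdeal (Z.presheaf.stalk ((f ≫ g) x))).map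
        (algebraMap (Z.presheaf.stalk ((f ≫ g) x)) (X.presheaf.stalk x))) :=
    isNoetherianRing_of_ringEquiv _ efg.symm
  have hAC := Groth.Agent.Lib.helper17.CMComp.cm_fibre_comp (Z.presheaf.stalk ((f ≫ g) x))
    (Y.presheaf.stalk (f x)) (X.presheaf.stalk x) hB hC hN'
  refine ⟨?_, Groth.Agent.S9808.cm_of_ringEquiv efg⟩
  rw [hcomp]
  exact RingHom.Flat.comp hg1 hf1

end Groth.Agent.S9766
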