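import Groth.Statements.S9767
import Mathlib
import Groth.Agent.Lib.Helper17.FibreStalk
import Groth.Agent.Lib.Helper17.CMComp

set_option autoImplicit false
set_option linter.style.haveILetI false
universe u
open FlatMor

namespace Groth.Agent.S9767

open AlgebraicGeometry CategoryTheory Limits in
/-- For f : X ⟶ Y, g : Y ⟶ Z and a point x of X such that the fibre of f through x and the fibre of g
through f x are locally Noetherian, suppose the stalk map of f at x is flat and f ≫ g is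
Cohen–Macaulay at x; then Cohen–Macaulayness passes to f at x and to g at the image point f x. The
published statement assumes all fibres of f, g and g ∘ f locally Noetherian; this row assumes only
the fibres of f and g through x and f x. -/
theorem result {X Y Z : Scheme.{u}} (f : X ⟶ Y) (g : Y ⟶ Z) (x : X)
    (hNf : IsLocallyNoetherian (f.fiber (f x))) (hNg : IsLocallyNoetherian (g.fiber (g (f x))))
    (h : MoreMor.IsCMAt (f ≫ g) x) (hfl : (f.stalkMap x).hom.Flat) : MoreMor.IsCMAt f x ∧ MoreMor.IsCMAt g (f x) := by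
  obtain ⟨h1, h2⟩ := h
  have hcomp : (f ≫ g).stalkMap x = g.stalkMap (f x) ≫ f.stalkMap x := Scheme.Hom.stalkMap_comp f g x
  letI algAB : Algebra (Z.presheaf.stalk ((f ≫ g) x)) (Y.presheaf.stalk (f x)) :=
    (g.stalkMap (f x)).hom.toAlgebra
  letI algBC : Algebra (Y.presheaf.stalk (f x)) (X.presheaf.stalk x) := (f.stalkMap x).hom.toAlgebra
  letI algAC : Algebra (Z.presheaf.stalk ((f ≫ g) x)) (X.presheaf.stalk x) :=
    ((f ≫ g).stalkMap x).hom.toAlgebra
  haveI : IsScalarTower (Z.presheaf.stalk ((f ≫ g) x)) (Y.presheaf.stalk (f x))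
      (X.presheaf.stalk x) :=
    IsScalarTower.of_algebraMap_eq' congr($(hcomp).hom)
  haveI : IsLocalHom (algebraMap (Z.presheaf.stalk ((f ≫ g) x)) (Y.presheaf.stalk (f x))) :=
    inferInstanceAs (IsLocalHom (g.stalkMap (f x)).hom)
  haveI : IsLocalHom (algebraMap (Y.presheaf.stalk (f x)) (X.presheaf.stalk x)) :=
    inferInstanceAs (IsLocalHom (f.stalkMap x).hom)
  haveI : Module.Flat (Y.presheaf.stalk (f x)) (X.presheaf.stalk x) := hfl
  haveI : Module.Flat (Z.presheaf.stalk ((f ≫ g) x)) (X.presheaf.stalk x) := h1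
  haveI : Module.FaithfullyFlat (Y.presheaf.stalk (f x)) (X.presheaf.stalk x) :=
    Module.FaithfullyFlat.of_flat_of_isLocalHom
  have hflAB : Module.Flat (Z.presheaf.stalk ((f ≫ g) x)) (Y.presheaf.stalk (f x)) :=
    Groth.Agent.Lib.helper17.CMComp.flat_of_comp_of_faithfullyFlat _ _ (X.presheaf.stalk x)
  obtain ⟨ef⟩ := Groth.Agent.Lib.helper17.FibreStalk.nonempty_asFiber_stalk_equiv f x
  obtain ⟨eg⟩ := Groth.Agent.Lib.helper17.FibreStalk.nonempty_asFiber_stalk_equiv g (f x)
  obtain ⟨efg⟩ := Groth.Agent.Lib.helper17.FibreStalk.nonempty_asFiber_stalk_equiv (f ≫ g) x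
  have hAC : LocCoh.IsCohenMacaulayLocalRing (X.presheaf.stalk x ⧸
      (IsLocalRing.maximalIdeal (Z.presheaf.stalk ((f ≫ g) x))).map
        (algebraMap (Z.presheaf.stalk ((f ≫ g) x)) (X.presheaf.stalk x))) :=
    Groth.Agent.S9808.cm_of_ringEquiv efg.symm
  have hNst : IsNoetherianRing ((g.fiber (g (f x))).presheaf.stalk (g.asFiber (f x))) :=
    inferInstance
  have hN' : IsNoetherianRing (Y.presheaf.stalk (f x) ⧸
      (IsLocalRing.maximalIdeal (Z.presheaf.stalk ((f ≫ g) x))).map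
        (algebraMap (Z.presheaf.stalk ((f ≫ g) x)) (Y.presheaf.stalk (f x)))) :=
    isNoetherianRing_of_ringEquiv _ eg.symm
  obtain ⟨hB, hC⟩ := Groth.Agent.Lib.helper17.CMComp.cm_fibre_of_comp
    (Z.presheaf.stalk ((f ≫ g) x)) (Y.presheaf.stalk (f x)) (X.presheaf.stalk x) hAC hN'
  exact ⟨⟨hfl, @Groth.Agent.S9808.cm_of_ringEquiv _ _ _ _ ef hC⟩, ⟨hflAB, @Groth.Agent.S9808.cm_of_ringEquiv _ _ _ _ eg hB⟩⟩

end Groth.Agent.S9767
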