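import Groth.Statements.S9769
import Groth.Agent.Lib.Helper11.FibFlat4

set_option autoImplicit false
universe u
open FlatMor

namespace Groth.Agent.S9769

open AlgebraicGeometry CategoryTheory Limits in
/-- Let f : X ⟶ S be locally of finite presentation and F a finitely presented O_X-module which is flat
over S. Then the formation of the locus of points of X near which F is free (equivalently, for
finitely presented F, where the stalk of F is a free module) commutes with arbitrary base change:
for a cartesian square with g' : X' ⟶ X over S' ⟶ S, the free locus of (g')^*F is the preimage of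
that of F. The published statement also asserts that this locus is open; this row states only that
its formation commutes with base change. -/
theorem result {X S X' S' : Scheme.{u}} (f : X ⟶ S) [LocallyOfFinitePresentation f]
    (F : X.Modules) (hF : CohB1.IsFP F) (hfl : FlatMod.IsFlatOver f F)
    (g : S' ⟶ S) (f' : X' ⟶ S') (g' : X' ⟶ X) (hc : IsPullback g' f' f g) :
    {x' : ↑X' | Module.Free ↑(X'.presheaf.stalk x') ↑(((Scheme.Modules.pullback g').obj F).presheaf.stalk x')} =
      g' ⁻¹' {x : ↑X | Module.Free ↑(X.presheaf.stalk x) ↑(F.presheaf.stalk x)} := by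
  haveI hq : F.IsQuasicoherent := by
    haveI : SheafOfModules.IsFinitePresentation (R := X.ringCatSheaf) F := hF
    infer_instance
  haveI hPq : ((Scheme.Modules.pullback g').obj F).IsQuasicoherent :=
    Groth.Agent.Lib.helper16.QCohPullback.isQuasicoherent_pullback g' F
  ext x'
  simp only [Set.mem_setOf_eq, Set.mem_preimage]
  constructor
  · intro hfree
    haveI := Groth.Agent.Lib.helper3.FibCritSch.finitePresentation_stalk F hF (g' x')
    rcases subsingleton_or_nontrivial ↑(F.presheaf.stalk (g' x')) with hs | hn
    · exact Module.Free.of_subsingleton _ _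
    · have h0 : FlatMod.IsFlatAt ((Scheme.Modules.pullback g').obj F) x' := by
        unfold FlatMod.IsFlatAt
        infer_instance
      have h1 : FlatMod.IsFlatOverAt (𝟙 X') ((Scheme.Modules.pullback g').obj F) x' :=
        (Groth.Agent.Lib.helper17.FlatOver7.isFlatOverAt_id_iff _ x').mpr h0
      have h2 : Groth.Agent.Lib.helper11.FibFlat.QF (𝟙 X') f' ((Scheme.Modules.pullback g').obj F) x' :=
        Groth.Agent.Lib.helper11.FibFlat.QF_of_isFlatOverAt _ _ _ _ h1
      have h3 : Groth.Agent.Lib.helper11.FibFlat.QF (𝟙 X) f F (g' x') :=
        (Groth.Agent.Lib.helper11.FibFlat.QF_baseChange hc (IsPullback.id_vert g') F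
          ((Scheme.Modules.pullback g').obj F) (Iso.refl _) x').mp h2
      haveI : LocallyOfFinitePresentation (𝟙 X ≫ f) := by
        rw [Category.id_comp]; infer_instance
      have h4 : FlatMod.IsFlatOverAt (𝟙 X ≫ f) F (g' x') :=
        (Groth.Agent.Lib.helper17.FlatOver7.isFlatOver_congr (Category.id_comp f) F).mpr hfl _
      have h5 := Groth.Agent.Lib.helper11.FibFlat.isFlatOverAt_of_QF (𝟙 X) f F hF (g' x') h4 h3
      have h6 : FlatMod.IsFlatAt F (g' x') :=
        (Groth.Agent.Lib.helper17.FlatOver7.isFlatOverAt_id_iff F _).mp h5
      haveI : Module.Flat ↑(X.presheaf.stalk (g' x')) ↑(F.presheaf.stalk (g' x')) := h6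
      exact Module.free_of_flat_of_isLocalRing
  · intro hfree
    letI algα : Algebra (X.presheaf.stalk (g' x')) (X'.presheaf.stalk x') :=
      (g'.stalkMap x').hom.toAlgebra
    letI modN : Module (X.presheaf.stalk (g' x'))
        (((Scheme.Modules.pullback g').obj F).presheaf.stalk x') :=
      FlatMod.moduleStalkOver g' ((Scheme.Modules.pullback g').obj F) x'
    haveI : IsScalarTower (X.presheaf.stalk (g' x')) (X'.presheaf.stalk x')
        (((Scheme.Modules.pullback g').obj F).presheaf.stalk x') :=
      Groth.Agent.Lib.helper17.StalkPullback.isScalarTower_moduleStalkOver g' _ x'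
    obtain ⟨ψ, hψ⟩ := Groth.Agent.Lib.helper17.StalkPullback.exists_isBaseChange_stalk_pullback g' F x'
    haveI : Module.Free ↑(X.presheaf.stalk (g' x')) ↑(F.presheaf.stalk (g' x')) := hfree
    exact Module.Free.of_equiv hψ.equiv

end Groth.Agent.S9769
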