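import Groth.Statements.S9778
import Mathlib
import Groth.Agent.Lib.Helper13.EL8
-- import your own Groth.Agent.* helpers here

set_option autoImplicit false
universe u
open FlatMor

namespace Groth.Agent.S9778

open AlgebraicGeometry CategoryTheory Limits in
lemma isFinite_of_le_of_isClosed {P U : Scheme.{u}} (π : P ⟶ U) (V' V : P.Opens) (hle : V' ≤ V)
    (hcl : IsClosed (V' : Set P)) (h : IsFinite (V.ι ≫ π)) : IsFinite (V'.ι ≫ π) := by
  have h1 : IsClosedImmersion (P.homOfLE hle) := by
    apply IsClosedImmersion.of_isPreimmersion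
    have : Set.range (P.homOfLE hle) = V.ι ⁻¹' (V' : Set P) := by
      ext z
      constructor
      · rintro ⟨y, rfl⟩
        show (V.ι (P.homOfLE hle y)) ∈ V'
        rw [← Scheme.Hom.comp_apply, Scheme.homOfLE_ι]
        exact y.2
      · intro hz
        exact ⟨⟨z.1, hz⟩, Subtype.ext (Scheme.homOfLE_apply hle ⟨z.1, hz⟩)⟩
    rw [this]
    exact hcl.preimage V.ι.continuous
  rw [← P.homOfLE_ι hle, Category.assoc]
  infer_instance

open AlgebraicGeometry CategoryTheory Limits in
/-- Let f : X ⟶ S be separated and locally of finite type, s a point of S and x_1, …, x_n pairwise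
distinct points of X over s at which f is quasi-finite (isolated points of the fibre). Then there
are an étale morphism g : U ⟶ S with a point u over s and finitely many pairwise disjoint open and
closed subschemes V_{i,j} of X_U = X ×_S U, each finite over U and containing exactly one point
v_{i,j} over u, with v_{i,j} mapping to x_i and κ(v_{i,j}) purely inseparable over κ(u), such that
every point of X_U over u mapping to some x_i lies in one of the V_{i,j} (so the open and closed
complement W of their union has no point over u mapping to any x_i). -/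
theorem result {X S : Scheme.{u}} (f : X ⟶ S) [LocallyOfFiniteType f] [IsSeparated f] (s : S)
    {ι : Type} [Finite ι] (x : ι → ↑X) (hinj : Function.Injective x) (hs : ∀ i, f (x i) = s) (hx : ∀ i, f.QuasiFiniteAt (x i)) :
    ∃ (U : Scheme.{u}) (g : U ⟶ S) (u : U), Etale g ∧ g u = s ∧
      ∃ (J : ι → Type) (_ : ∀ i, Finite (J i)) (V : ∀ i, J i → (pullback f g).Opens) (v : ∀ i, J i → ↑(pullback f g)),
        (∀ i j, IsClopen ((V i j : Set ↑(pullback f g)))) ∧
        (∀ i j i' j', ((V i j : Set ↑(pullback f g)) ∩ (V i' j')).Nonempty → i = i' ∧ HEq j j') ∧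
        (∀ i j, v i j ∈ V i j ∧ IsFinite ((V i j).ι ≫ pullback.snd f g) ∧ pullback.snd f g (v i j) = u ∧
          (∀ w : ↑(pullback f g), w ∈ V i j → pullback.snd f g w = u → w = v i j) ∧
          (letI := ((pullback.snd f g).residueFieldMap (v i j)).hom.toAlgebra
           IsPurelyInseparable ↑(U.residueField (pullback.snd f g (v i j))) ↑((pullback f g).residueField (v i j))) ∧
          pullback.fst f g (v i j) = x i) ∧
        (∀ (w : ↑(pullback f g)) (i : ι), pullback.snd f g w = u → pullback.fst f g w = x i → ∃ j, w ∈ V i j) := by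
  classical
  obtain ⟨U, g, u, hg, hgu, J, hJ, V, v, hgood, hPI, hvinj, hex⟩ :=
    Groth.Agent.Lib.helper13.EL.exists_etale_nbhd_purelyInseparable (f := f) s x hs hx
  -- distinctness of the centres
  have hdist : ∀ i j i' j', v i j ∈ V i' j' → (⟨i, j⟩ : Σ i, J i) = ⟨i', j'⟩ := by
    intro i j i' j' hmem
    have h1 : v i j = v i' j' := (hgood i' j').uniq _ hmem (hgood i j).snd_eq
    have hi : i = i' := by
      apply hinj
      rw [← (hgood i j).fst_eq, ← (hgood i' j').fst_eq, h1]
    subst hi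
    rw [hvinj i h1]
  have hclV : ∀ i j, IsClosed ((V i j : (pullback f g).Opens) : Set ↑(pullback f g)) :=
    fun i j ↦ (hgood i j).closed inferInstance
  -- shrink to make the opens pairwise disjoint
  let B : (Σ i, J i) → Set ↑(pullback f g) := fun k ↦
    ⋃ k' : {k' : Σ i, J i // k' ≠ k}, ((V k'.1.1 k'.1.2 : (pullback f g).Opens) : Set ↑(pullback f g))
  have hBopen : ∀ k, IsOpen (B k) := fun k ↦ isOpen_iUnion fun k' ↦ (V k'.1.1 k'.1.2).2
  have hBclosed : ∀ k, IsClosed (B k) := fun k ↦ isClosed_iUnion_of_finite fun k' ↦ hclV _ _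
  let V' : ∀ i, J i → (pullback f g).Opens := fun i j ↦
    ⟨(V i j : Set ↑(pullback f g)) \ B ⟨i, j⟩, (V i j).2.sdiff (hBclosed _)⟩
  have hV'le : ∀ i j, V' i j ≤ V i j := fun i j z hz ↦ hz.1
  have hV'cl : ∀ i j, IsClosed ((V' i j : (pullback f g).Opens) : Set ↑(pullback f g)) :=
    fun i j ↦ (hclV i j).sdiff (hBopen _)
  have hvV' : ∀ i j, v i j ∈ V' i j := by
    intro i j
    refine ⟨(hgood i j).mem, ?_⟩
    rintro ⟨_, ⟨⟨⟨i', j'⟩, hne⟩, rfl⟩, hmem⟩
    exact hne (hdist i j i' j' hmem).symm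
  refine ⟨U, g, u, hg, hgu, J, hJ, V', v, fun i j ↦ ⟨hV'cl i j, (V' i j).2⟩, ?_, ?_, ?_⟩
  · rintro i j i' j' ⟨z, hz, hz'⟩
    by_contra hne
    have hne' : (⟨i', j'⟩ : Σ i, J i) ≠ ⟨i, j⟩ := by
      intro h
      apply hne
      obtain ⟨rfl, h2⟩ := Sigma.mk.inj_iff.mp h
      exact ⟨rfl, h2.symm⟩
    exact hz.2 (Set.mem_iUnion.mpr ⟨⟨⟨i', j'⟩, hne'⟩, hz'.1⟩)
  · intro i j
    refine ⟨hvV' i j, isFinite_of_le_of_isClosed _ _ _ (hV'le i j) (hV'cl i j) (hgood i j).finite,
      (hgood i j).snd_eq, fun w hw hwu ↦ (hgood i j).uniq w (hV'le i j hw) hwu, hPI i j,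
      (hgood i j).fst_eq⟩
  · intro w i hwu hwx
    obtain ⟨j, rfl⟩ := hex w i hwu hwx
    exact ⟨j, hvV' i j⟩

end Groth.Agent.S9778
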