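import Groth.Statements.S9787
import Groth.Agent.Lib.Helper28.SmoothBlowUp
import Groth.Agent.Lib.Helper7.KoszulLow
import Groth.Agent.LibKoszulAtComp29
import Groth.Agent.S8656

set_option autoImplicit false
universe u
open CategoryTheory CategoryTheory.Limits AlgebraicGeometry TopologicalSpace
open FlatMor

namespace Groth.Agent.S9787

/-- For a smooth q : X ⟶ S and a closed immersion i : Z ⟶ X whose composite with q is smooth, any
blowing up b : X' ⟶ X of the ideal sheaf of Z (given by its universal property) is smooth over S,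
and so is its exceptional divisor. The published statement also identifies the exceptional divisor
over Z with the projective bundle of the conormal sheaf, with O(1) the restriction of O_{X'}(−E);
this row proves only the two smoothness claims. -/
theorem result {Z X X' S : Scheme.{u}} (q : X ⟶ S) [Smooth q] (i : Z ⟶ X) [IsClosedImmersion i]
    [Smooth (i ≫ q)] (b : X' ⟶ X) (hb : BlowUp.IsBlowUp b i.ker) :
    Smooth (b ≫ q) ∧ Smooth ((BlowUp.exceptional b i.ker).subschemeι ≫ b ≫ q) := by
  have hloc : ∀ x : X, ∃ (U : X.Opens) (hU : IsAffineOpen U) (r : ℕ) (f : Fin r → Γ(X, U)),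
      x ∈ U ∧ i.ker.ideal ⟨U, hU⟩ = Ideal.span (Set.range f) ∧ CAlgX.IsH1Regular f := by
    intro x
    by_cases hx : x ∈ i.ker.support
    · have hx' : x ∈ Set.range i := by
        rw [← SetLike.mem_coe, Scheme.Hom.support_ker i,
          i.isClosedEmbedding.isClosed_range.closure_eq] at hx
        exact hx
      obtain ⟨z, rfl⟩ := hx'
      have hK := Groth.Agent.S8656.result (i ≫ q)
        (fun z => Groth.Agent.LibKoszulAtComp29.isKoszulAt_of_smooth _ z) q i rfl
      obtain ⟨U, hzU, -, rs, hrs, hker⟩ := hK.2 z
      have hrs' : LCI.IsKoszulRegularSeq Γ(X, U.1) rs := hrs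
      refine ⟨U.1, U.2, rs.length, rs.get, hzU, ?_,
        Groth.Agent.Lib.helper7.KoszulLow.isH1Regular_of_isKoszulRegularSeq _ rs hrs'⟩
      change i.ker.ideal U = _
      rw [Scheme.Hom.ker_apply, hker, Set.range_list_get]
    · exact Groth.Agent.Lib.helper28.SmoothBlowUp.exists_h1_generators_of_notMem_support _ x hx
  exact ⟨Groth.Agent.Lib.helper28.SmoothBlowUp.smooth_blowUp_comp q i b hb hloc,
    Groth.Agent.Lib.helper28.SmoothBlowUp.smooth_exceptional_comp q i b hb hloc⟩

end Groth.Agent.S9787
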