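import Groth.Statements.S9791
import Mathlib
import Groth.Agent.Lib.Helper13.Normal2
import Groth.Agent.Lib.Helper17.NormBC2

set_option autoImplicit false
universe u
open CategoryTheory CategoryTheory.Limits AlgebraicGeometry
open FlatMor

namespace Groth.Agent.S9791

open Groth.Agent.Lib.helper13.Normal Groth.Agent.Lib.helper17.NormBC

theorem map_genericPoint_of_flat {X Y : Scheme.{u}} (f : X ⟶ Y) [Flat f] [IsIntegral X]
    [IsIntegral Y] : f (genericPoint X) = genericPoint Y := by
  have hg : GeneralizingMap f := Flat.generalizingMap f
  obtain ⟨x', hx', hfx'⟩ := hg (genericPoint_specializes (f (genericPoint X)))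
  have : x' = genericPoint X := (hx'.antisymm (genericPoint_specializes x')).eq
  rw [← hfx', this]

theorem result' {X Y : Scheme.{u}} (f : X ⟶ Y) [Smooth f] [IsIntegral X] [IsIntegral Y]
    [QuasiCompact (X.fromSpecStalk (genericPoint X))] [QuasiSeparated (X.fromSpecStalk (genericPoint X))]
    [QuasiCompact (Y.fromSpecStalk (genericPoint Y))] [QuasiSeparated (Y.fromSpecStalk (genericPoint Y))] :
    ∃! e : (X.fromSpecStalk (genericPoint X)).normalization ≅
        pullback f (Y.fromSpecStalk (genericPoint Y)).fromNormalization,
      e.hom ≫ pullback.fst f (Y.fromSpecStalk (genericPoint Y)).fromNormalization =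
        (X.fromSpecStalk (genericPoint X)).fromNormalization := by
  set jX := X.fromSpecStalk (genericPoint X) with hjX
  set jY := Y.fromSpecStalk (genericPoint Y) with hjY
  have hπ : f (genericPoint X) = genericPoint Y := map_genericPoint_of_flat f
  -- the generic fibre is normal
  have hK : Pi1.IsNormalScheme (Spec (Y.presheaf.stalk (genericPoint Y))) :=
    Spec_of_isNormalDomain _ ⟨inferInstanceAs (IsDomain Y.functionField),
      inferInstanceAs (IsIntegrallyClosed Y.functionField)⟩
  have hn : Pi1.IsNormalScheme (pullback jY f) := Groth.Agent.Lib.helper13.Normal.of_smooth (pullback.fst jY f) hK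
  obtain ⟨IB, hIB⟩ := exists_iso_normalization_genericFibre f hπ hn
  -- Mathlib: normalization commutes with smooth base change
  let IA : (pullback.snd jY f).normalization ≅ pullback jY.fromNormalization f :=
    asIso (jY.normalizationPullback f)
  have hIA : IA.hom ≫ pullback.snd jY.fromNormalization f = (pullback.snd jY f).fromNormalization :=
    jY.normalizationPullback_snd f
  let S := pullbackSymmetry jY.fromNormalization f
  have hS : S.hom ≫ pullback.fst f jY.fromNormalization = pullback.snd jY.fromNormalization f :=
    pullbackSymmetry_hom_comp_fst _ _
  let e : jX.normalization ≅ pullback f jY.fromNormalization := IB ≪≫ IA ≪≫ S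
  have he : e.hom ≫ pullback.fst f jY.fromNormalization = jX.fromNormalization := by
    show (IB.hom ≫ IA.hom ≫ S.hom) ≫ pullback.fst f jY.fromNormalization = jX.fromNormalization
    rw [Category.assoc, Category.assoc, hS, hIA, hIB]
  refine ⟨e, he, ?_⟩
  intro e' he'
  have hfst : pullback.fst f jY.fromNormalization = e.inv ≫ jX.fromNormalization := by
    rw [← he, Iso.inv_hom_id_assoc]
  -- uniqueness
  have hu : (jX.toNormalization ≫ e'.hom ≫ e.inv) ≫ jX.fromNormalization = jX := by
    have h1 : e.inv ≫ jX.fromNormalization = pullback.fst f jY.fromNormalization := hfst.symm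
    rw [Category.assoc, Category.assoc, h1]
    have h2 : e'.hom ≫ pullback.fst f jY.fromNormalization = jX.fromNormalization := he'
    rw [h2, jX.toNormalization_fromNormalization]
  have hu' := eq_toNormalization_of_comp_fromNormalization _ hu
  have H₁ : jX.toNormalization ≫ e'.hom = jX.toNormalization ≫ e.hom := by
    have := congrArg (· ≫ e.hom) hu'
    simpa only [Category.assoc, Iso.inv_hom_id, Category.comp_id] using this
  have hhom : e'.hom = e.hom :=
    Scheme.Hom.normalization.hom_ext jX e'.hom e.hom
      (pullback.fst f jY.fromNormalization) H₁ he' he
  exact Iso.ext hhom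

/-- In the case of integral schemes: let f : X ⟶ Y be a smooth morphism with X and Y integral, and let
X^ν ⟶ X and Y^ν ⟶ Y be the normalizations (in the function fields). Then X^ν is isomorphic over X to
the fibre product X ×_Y Y^ν, and such an isomorphism is unique. (The published statement requires
only that each quasi-compact open subset of Y meet finitely many irreducible components of Y, and
also derives this for X; this row assumes X and Y integral, the case in which the normalization used
here is defined. The quasi-compactness and quasi-separatedness binders on Spec K(X) → X and Spec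
K(Y) → Y always hold and are needed only to form the normalization.) -/
theorem result {X Y : Scheme.{u}} (f : X ⟶ Y) [Smooth f] [IsIntegral X] [IsIntegral Y]
    [QuasiCompact (X.fromSpecStalk (genericPoint X))] [QuasiSeparated (X.fromSpecStalk (genericPoint X))]
    [QuasiCompact (Y.fromSpecStalk (genericPoint Y))] [QuasiSeparated (Y.fromSpecStalk (genericPoint Y))] :
    ∃! e : Curv2.normalization X ≅ pullback f (Curv2.normalizationι Y),
      e.hom ≫ pullback.fst f (Curv2.normalizationι Y) = Curv2.normalizationι X := by
  exact result' f

end Groth.Agent.S9791
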