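import Groth.Statements.S9792
import Mathlib

set_option autoImplicit false
universe u
open CategoryTheory AlgebraicGeometry TopologicalSpace
open Props

namespace Groth.Agent.S9792

attribute [local instance] specializationOrder in
/-- In a locally Noetherian scheme the coheight of any point (for the specialization order) is
finite. -/
lemma coheight_lt_top (X : Scheme.{u}) [IsLocallyNoetherian X] (x : X) :
    Order.coheight x < ⊤ := by
  have h := AlgebraicGeometry.ringKrullDim_stalk_eq_coheight x
  have h2 : ringKrullDim (X.presheaf.stalk x) < ⊤ := ringKrullDim_lt_top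
  rw [h] at h2
  exact WithBot.coe_lt_coe.mp (by simpa using h2)

attribute [local instance] specializationOrder in
/-- In a Noetherian T0 space, the specialization order is well-founded. -/
lemma wellFoundedLT_of_noetherianSpace (X : Type*) [TopologicalSpace X] [T0Space X]
    [NoetherianSpace X] : WellFoundedLT X := by
  have hf : StrictMono (fun x : X => Closeds.closure ({x} : Set X)) := by
    intro x y hxy
    have hle : y ⤳ x := hxy.le
    refine lt_of_le_of_ne ?_ ?_
    · change closure {x} ⊆ closure {y}
      exact closure_minimal (Set.singleton_subset_iff.mpr hle.mem_closure) isClosed_closure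
    · intro heq
      have h1 : closure ({x} : Set X) = closure {y} := congrArg (fun c : Closeds X => (c : Set X)) heq
      have h2 : y ∈ closure ({x} : Set X) := h1 ▸ subset_closure (Set.mem_singleton y)
      have h3 : x ⤳ y := specializes_iff_mem_closure.mpr h2
      exact hxy.not_ge h3
  exact hf.wellFoundedLT

/-- In a Noetherian scheme, every infinite set of points contains an infinite subset no two distinct
members of which are related by specialization. -/
theorem result (S : Scheme.{u}) [IsNoetherian S]
    (T : Set S) (hT : T.Infinite) :
    ∃ T' : Set S, T' ⊆ T ∧ T'.Infinite ∧ ∀ a ∈ T', ∀ b ∈ T', a ⤳ b → a = b := by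
  let _ := specializationOrder S
  have hwf : WellFoundedLT S := wellFoundedLT_of_noetherianSpace S
  by_contra hcon
  push Not at hcon
  -- `T` (as a subtype) is well quasi-ordered
  have hwfT : WellFoundedLT T := (Subtype.strictMono_coe _).wellFoundedLT
  have hwqo : WellQuasiOrderedLE T := by
    rw [wellQuasiOrderedLE_iff]
    refine ⟨hwfT, fun s hs => ?_⟩
    by_contra hsinf
    have hsinf' : (Subtype.val '' s : Set S).Infinite :=
      (Set.infinite_image_iff Subtype.val_injective.injOn).mpr hsinf
    obtain ⟨a, ⟨a', ha's, rfl⟩, b, ⟨b', hb's, rfl⟩, hab, hne⟩ :=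
      hcon (Subtype.val '' s) (by rintro _ ⟨x, _, rfl⟩; exact x.2) hsinf'
    have hne' : b' ≠ a' := fun h => hne (h ▸ rfl)
    exact hs hb's ha's hne' hab
  -- an injective sequence in T
  have : Infinite T := hT.to_subtype
  let f : ℕ → T := Infinite.natEmbedding T
  have hfinj : Function.Injective f := (Infinite.natEmbedding T).injective
  obtain ⟨g, hg⟩ := (wellQuasiOrdered_le (α := T)).exists_monotone_subseq f
  -- `f ∘ g` is strictly monotone: an infinite strictly ascending chain of generizations
  have hmono : StrictMono (fun n => ((f (g n) : T) : S)) := by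
    apply strictMono_nat_of_lt_succ
    intro n
    have h1 : f (g n) ≤ f (g (n + 1)) := hg n (n + 1) (Nat.le_succ n)
    have h2 : f (g n) ≠ f (g (n + 1)) := fun h =>
      absurd (g.injective (hfinj h)) (Nat.succ_ne_self n).symm
    exact lt_of_le_of_ne h1 (fun h => h2 (Subtype.ext h))
  -- contradiction with finite coheight
  have hco : Order.coheight ((f (g 0) : T) : S) < ⊤ := coheight_lt_top S _
  have htop : Order.coheight ((f (g 0) : T) : S) = ⊤ := by
    rw [Order.coheight_eq_top_iff]
    intro n
    refine ⟨LTSeries.mk n (fun i : Fin (n + 1) => ((f (g i) : T) : S))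
      (fun i j hij => hmono hij), rfl, rfl⟩
  exact hco.ne htop

end Groth.Agent.S9792
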