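import Groth.Statements.S9793
import Mathlib

set_option autoImplicit false
universe u
open CategoryTheory AlgebraicGeometry TopologicalSpace
open Props

namespace Groth.Agent.S9793

attribute [local instance] specializationOrder in
/-- In a locally Noetherian scheme the coheight of any point (for the specialization order) is
finite. -/
lemma coheight_lt_top (X : Scheme.{u}) [IsLocallyNoetherian X] (x : X) :
    Order.coheight x < ⊤ := by
  have h := AlgebraicGeometry.ringKrullDim_stalk_eq_coheight x
  have h2 : ringKrullDim (X.presheaf.stalk x) < ⊤ := ringKrullDim_lt_top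
  rw [h] at h2
  exact WithBot.coe_lt_coe.mp (by simpa using h2)

/-- Let S be a Noetherian scheme and T a set of points of S. Every point of T is a specialization of
some point of T which admits no non-trivial generization lying in T. -/
theorem result (S : Scheme.{u}) [IsNoetherian S]
    (T : Set S) (t : S) (ht : t ∈ T) :
    ∃ t₀ ∈ T, (∀ t' ∈ T, t' ⤳ t₀ → t' = t₀) ∧ t₀ ⤳ t := by
  let _ := specializationOrder S
  -- the set of generizations of t lying in T
  let G : Set S := {t' | t' ∈ T ∧ t' ⤳ t}
  have hG : G.Nonempty := ⟨t, ht, specializes_rfl⟩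
  -- choose an element of minimal coheight
  obtain ⟨t₀, ht₀G, hmin⟩ := WellFounded.has_min
    (InvImage.wf (fun x : S => Order.coheight x) wellFounded_lt) G hG
  refine ⟨t₀, ht₀G.1, ?_, ht₀G.2⟩
  intro t' ht' hsp
  have ht'G : t' ∈ G := ⟨ht', hsp.trans ht₀G.2⟩
  have hle : t₀ ≤ t' := hsp
  by_contra hne
  have hlt : t₀ < t' := lt_of_le_of_ne hle (Ne.symm hne)
  exact hmin t' ht'G (Order.coheight_strictAnti hlt (coheight_lt_top S t'))

end Groth.Agent.S9793
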