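import Groth.Statements.S9794
import Groth.Agent.S9793
import Mathlib

set_option autoImplicit false
universe u
open CategoryTheory AlgebraicGeometry TopologicalSpace
open Props

namespace Groth.Agent.S9794

/-- In a Noetherian scheme, an infinite dense set of points contains a countable subset which is dense. -/
theorem result (S : Scheme.{u}) [IsNoetherian S]
    (T : Set S) (hT : T.Infinite) (hd : Dense T) :
    ∃ E : Set S, E ⊆ T ∧ E.Countable ∧ Dense E := by
  classical
  have : Nonempty S := ⟨hT.nonempty.some⟩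
  -- `s` is good if it lies in the closure of a countable subset of `T`
  let T' : Set S := {s | ∃ E : Set S, E ⊆ T ∧ E.Countable ∧ s ∈ closure E}
  have hTT' : T ⊆ T' := fun t ht =>
    ⟨{t}, by simpa using ht, Set.countable_singleton t, subset_closure rfl⟩
  -- closures of countable sets of good points consist of good points
  have hb : ∀ E' : Set S, E' ⊆ T' → E'.Countable → closure E' ⊆ T' := by
    intro E' hE' hc
    have hE'' : ∀ s ∈ E', ∃ E : Set S, E ⊆ T ∧ E.Countable ∧ s ∈ closure E := hE'
    choose! F hF using hE''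
    intro x hx
    refine ⟨⋃ s ∈ E', F s, ?_, ?_, ?_⟩
    · exact Set.iUnion₂_subset fun s hs => (hF s hs).1
    · exact hc.biUnion fun s hs => (hF s hs).2.1
    · have : E' ⊆ closure (⋃ s ∈ E', F s) := fun s hs =>
        closure_mono (Set.subset_biUnion_of_mem hs) (hF s hs).2.2
      exact closure_minimal this isClosed_closure hx
  -- maximal good points
  let T'₀ : Set S := {t | t ∈ T' ∧ ∀ t' ∈ T', t' ⤳ t → t' = t}
  have hfin : T'₀.Finite := by
    by_contra hinf
    have hinf' : T'₀.Infinite := hinf
    let emb := hinf'.natEmbedding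
    let E' : Set S := Set.range (fun n => (emb n : S))
    have hE'sub : E' ⊆ T'₀ := by rintro _ ⟨n, rfl⟩; exact (emb n).2
    have hE'c : E'.Countable := Set.countable_range _
    have hE'inf : E'.Infinite :=
      Set.infinite_range_of_injective (Subtype.val_injective.comp emb.injective)
    obtain ⟨𝒮, h𝒮fin, h𝒮cl, h𝒮irr, h𝒮U⟩ :=
      NoetherianSpace.exists_finite_set_isClosed_irreducible (isClosed_closure (s := E'))
    -- generic points
    have hgp : ∀ Z ∈ 𝒮, ∃ z : S, IsGenericPoint z Z := fun Z hZ =>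
      QuasiSober.sober (h𝒮irr Z hZ) (h𝒮cl Z hZ)
    choose! gp hgp using hgp
    have hsub : E' ⊆ gp '' 𝒮 := by
      intro e he
      have he' : e ∈ closure E' := subset_closure he
      rw [h𝒮U] at he'
      obtain ⟨Z, hZ, heZ⟩ := he'
      refine ⟨Z, hZ, ?_⟩
      have hzT' : gp Z ∈ T' := by
        apply hb E' (hE'sub.trans (fun t ht => ht.1)) hE'c
        rw [h𝒮U]
        exact ⟨Z, hZ, (hgp Z hZ).mem⟩
      have hspec : gp Z ⤳ e := (hgp Z hZ).specializes heZ
      exact (hE'sub he).2 (gp Z) hzT' hspec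
    exact hE'inf ((h𝒮fin.image gp).subset hsub)
  -- choose countable sets for the finitely many maximal points
  have hch : ∀ s ∈ T'₀, ∃ E : Set S, E ⊆ T ∧ E.Countable ∧ s ∈ closure E := fun s hs => hs.1
  choose! F hF using hch
  refine ⟨⋃ s ∈ T'₀, F s, Set.iUnion₂_subset fun s hs => (hF s hs).1,
    hfin.countable.biUnion fun s hs => (hF s hs).2.1, ?_⟩
  have hTsub : T ⊆ closure (⋃ s ∈ T'₀, F s) := by
    intro t ht
    obtain ⟨t₀, ht₀, hmax, hspec⟩ := Groth.Agent.S9793.result S T' t (hTT' ht)
    have ht₀' : t₀ ∈ T'₀ := ⟨ht₀, hmax⟩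
    have h1 : t₀ ∈ closure (⋃ s ∈ T'₀, F s) :=
      closure_mono (Set.subset_biUnion_of_mem ht₀') (hF t₀ ht₀').2.2
    exact hspec.mem_closed isClosed_closure h1
  exact dense_closure.mp (hd.mono hTsub)

end Groth.Agent.S9794
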