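import Groth.Statements.S9795
import Groth.Agent.Lib.Helper17.ZeroDim

set_option autoImplicit false
universe u
open CategoryTheory AlgebraicGeometry TopologicalSpace
open Props

namespace Groth.Agent.S9795

/-- For a domain `R` with fraction field `K`, the image of any point of `Spec K` in `Spec R`
specializes to every point. -/
lemma comap_fractionRing_specializes (R K : Type u) [CommRing R] [IsDomain R] [Field K]
    [Algebra R K] [IsFractionRing R K] (pt : PrimeSpectrum K) (s : PrimeSpectrum R) :
    PrimeSpectrum.comap (algebraMap R K) pt ⤳ s := by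
  rw [← PrimeSpectrum.le_iff_specializes]
  change (PrimeSpectrum.comap (algebraMap R K) pt).asIdeal ≤ s.asIdeal
  have h0 : pt.asIdeal = ⊥ := by
    have := pt.isPrime
    exact (Ideal.eq_bot_or_top pt.asIdeal).resolve_right this.ne_top
  have : (PrimeSpectrum.comap (algebraMap R K) pt).asIdeal = ⊥ := by
    rw [PrimeSpectrum.comap_asIdeal, h0, ← RingHom.ker_eq_comap_bot,
      (RingHom.injective_iff_ker_eq_bot _).mp (IsFractionRing.injective R K)]
  rw [this]
  exact bot_le

lemma specMap_fractionRing_specializes (R K : Type u) [CommRing R] [IsDomain R] [Field K]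
    [Algebra R K] [IsFractionRing R K] (pt : Spec (.of K)) (s : Spec (.of R)) :
    (Spec.map (CommRingCat.ofHom (algebraMap R K))) pt ⤳ s :=
  comap_fractionRing_specializes R K pt s

/-- A quasi-separated scheme of dimension at most zero is separated. -/
theorem result (X : Scheme.{u}) [QuasiSeparatedSpace X]
    (h : topologicalKrullDim X ≤ 0) : X.IsSeparated := by
  have hT2 : T2Space X := Groth.Agent.Lib.helper17.t2Space_of_quasiSeparatedSpace h
  constructor
  have hqs : QuasiSeparated (Limits.terminal.from X) :=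
    (quasiSeparatedSpace_iff_quasiSeparated X).mp inferInstance
  apply IsSeparated.of_valuativeCriterion
  intro S
  constructor
  rintro ⟨l₁, hl₁, hl₁'⟩ ⟨l₂, hl₂, hl₂'⟩
  ext : 1
  dsimp at *
  -- a point of `Spec K`
  obtain ⟨pt⟩ : Nonempty (Spec (.of S.K)) := inferInstanceAs (Nonempty (PrimeSpectrum S.K))
  let x : X := S.i₁ pt
  -- every point of `Spec R` is mapped to `x` by `l₁` and `l₂`
  have key : ∀ (l : Spec (.of S.R) ⟶ X),
      Spec.map (CommRingCat.ofHom (algebraMap S.R S.K)) ≫ l = S.i₁ → ∀ s, l s = x := by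
    intro l hl s
    have hsp := (specMap_fractionRing_specializes S.R S.K pt s).map l.continuous
    have hx : l ((Spec.map (CommRingCat.ofHom (algebraMap S.R S.K))) pt) = x := by
      rw [← Scheme.Hom.comp_apply, hl]
    rw [hx] at hsp
    exact hsp.eq.symm
  obtain ⟨U, hU, hxU, -⟩ := exists_isAffineOpen_mem_and_subset (x := x) (U := ⊤) trivial
  have hr : ∀ (l : Spec (.of S.R) ⟶ X),
      Spec.map (CommRingCat.ofHom (algebraMap S.R S.K)) ≫ l = S.i₁ →
      Set.range l ⊆ Set.range U.ι := by
    rintro l hl _ ⟨s, rfl⟩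
    rw [key l hl s, Scheme.Opens.range_ι]
    exact hxU
  have : IsAffine (U : Scheme) := hU
  let l₁' := IsOpenImmersion.lift U.ι l₁ (hr l₁ hl₁)
  let l₂' := IsOpenImmersion.lift U.ι l₂ (hr l₂ hl₂)
  have h₁ : l₁' ≫ U.ι = l₁ := IsOpenImmersion.lift_fac _ _ _
  have h₂ : l₂' ≫ U.ι = l₂ := IsOpenImmersion.lift_fac _ _ _
  -- use the valuative criterion for the separated scheme `U`
  have huniq := IsSeparated.valuativeCriterion (Limits.terminal.from (U : Scheme))
  let i₁' : Spec (.of S.K) ⟶ (U : Scheme) :=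
    Spec.map (CommRingCat.ofHom (algebraMap S.R S.K)) ≫ l₁'
  let S' : ValuativeCommSq (Limits.terminal.from (U : Scheme)) :=
    ⟨S.R, S.K, i₁', Limits.terminal.from _, ⟨Limits.terminal.hom_ext _ _⟩⟩
  have hss : Subsingleton S'.commSq.LiftStruct := huniq S'
  let L₁ : S'.commSq.LiftStruct := ⟨l₁', rfl, Limits.terminal.hom_ext _ _⟩
  let L₂ : S'.commSq.LiftStruct := ⟨l₂', by
    rw [← cancel_mono U.ι]
    simp only [Category.assoc, i₁', S', h₁, h₂, hl₁, hl₂], Limits.terminal.hom_ext _ _⟩
  have hL : L₁ = L₂ := Subsingleton.elim _ _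
  have hl' : l₁' = l₂' := congrArg CommSq.LiftStruct.l hL
  rw [← h₁, ← h₂, hl']

end Groth.Agent.S9795
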