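import Groth.Statements.S9800
import Mathlib

set_option autoImplicit false
universe u
open CategoryTheory AlgebraicGeometry TopologicalSpace
open Props

namespace Groth.Agent.S9800

attribute [local instance] specializationOrder in
lemma coheight_le_topologicalKrullDim (X : Scheme.{u}) (x : X) :
    (Order.coheight x : WithBot ℕ∞) ≤ topologicalKrullDim X := by
  rw [← Order.coheight_orderIso (irreducibleSetEquivPoints (α := X)).symm x]
  exact Order.coheight_le_krullDim _

/-- A locally Noetherian normal scheme of dimension at most one is regular, that is, all of its local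
rings are regular local rings. -/
theorem result (X : Scheme.{u})
    [IsLocallyNoetherian X] (hN : Pi1.IsNormalScheme X) (hd : topologicalKrullDim X ≤ 1) (x : X) :
    IsRegularLocalRing (X.presheaf.stalk x) := by
  obtain ⟨hdom, hic⟩ := hN x
  have hdim : ringKrullDim (X.presheaf.stalk x) ≤ 1 := by
    rw [AlgebraicGeometry.ringKrullDim_stalk_eq_coheight]
    exact (coheight_le_topologicalKrullDim X x).trans hd
  have h1 : Ring.KrullDimLE 1 (X.presheaf.stalk x) := Ring.krullDimLE_iff.mpr hdim
  have h2 : Ring.DimensionLEOne (X.presheaf.stalk x) :=
    ⟨fun {p} hp hp' => Ring.krullDimLE_one_iff_of_noZeroDivisors.mp h1 p hp hp'⟩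
  have : IsDedekindDomain (X.presheaf.stalk x) := { }
  exact IsRegularLocalRing.of_isRegularRing_of_isLocalRing _

end Groth.Agent.S9800
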