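import Groth.Statements.S9801
import Groth.Agent.S9800
import Groth.Agent.Lib.Helper24.SerreNormal4
import Groth.Agent.Lib.Helper26.Depth7
-- import your own Groth.Agent.* helpers here

set_option autoImplicit false
universe u
open CategoryTheory AlgebraicGeometry TopologicalSpace
open Props

namespace Groth.Agent.S9801

/-- A locally Noetherian normal scheme of dimension at most two is Cohen-Macaulay, that is, all of its
local rings are Cohen-Macaulay local rings. -/
theorem result (X : Scheme.{u})
    [IsLocallyNoetherian X] (hN : Pi1.IsNormalScheme X) (hd : topologicalKrullDim X ≤ 2) (x : X) :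
    LocCoh.IsCohenMacaulayLocalRing (X.presheaf.stalk x) := by
  obtain ⟨hdom, hic⟩ := hN x
  have hdim : ringKrullDim (X.presheaf.stalk x) ≤ 2 := by
    rw [AlgebraicGeometry.ringKrullDim_stalk_eq_coheight]
    exact (Groth.Agent.S9800.coheight_le_topologicalKrullDim X x).trans hd
  have h1 := Groth.Agent.Lib.Helper24.SerreNormal.sk_two_of_normal (X.presheaf.stalk x)
  rw [min_eq_right hdim] at h1
  have h2 := Groth.Agent.Lib.helper26.Depth.depth_self_le_ringKrullDim (X.presheaf.stalk x)
  exact { supportDim_eq_depth := by
            rw [Module.supportDim_self_eq_ringKrullDim]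
            exact le_antisymm h1 h2 }

end Groth.Agent.S9801
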