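import Groth.Statements.S9804
import Mathlib

set_option autoImplicit false
universe u
open CategoryTheory AlgebraicGeometry TopologicalSpace
open Props

namespace Groth.Agent.S9804

/-- If `X` is qcqs and `X.basicOpen r` is affine then `D(r) ⊆ Spec Γ(X, ⊤)` lies in the image of
`X ⟶ Spec Γ(X, ⊤)`. -/
lemma basicOpen_subset_range_toSpecΓ (X : Scheme.{u}) [CompactSpace X] [QuasiSeparatedSpace X]
    (r : Γ(X, ⊤)) (hr : IsAffineOpen (X.basicOpen r)) :
    (PrimeSpectrum.basicOpen r : Set (PrimeSpectrum Γ(X, ⊤))) ⊆ Set.range X.toSpecΓ := by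
  intro p hp
  have e := Scheme.Opens.toSpecΓ_SpecMap_presheaf_map_top (X.basicOpen r)
  have hloc := isLocalization_basicOpen_of_qcqs (X := X) (U := ⊤) isCompact_univ
    isQuasiSeparated_univ r
  have hrange := PrimeSpectrum.localization_away_comap_range (Γ(X, X.basicOpen r)) r
  rw [← hrange] at hp
  obtain ⟨q, rfl⟩ := hp
  have hiso : IsIso (X.basicOpen r).toSpecΓ := by
    have : (X.basicOpen r).toSpecΓ = hr.isoSpec.hom := by
      simp [IsAffineOpen.isoSpec_hom]
    rw [this]
    infer_instance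
  obtain ⟨z, hz⟩ := (X.basicOpen r).toSpecΓ.surjective q
  refine ⟨(X.basicOpen r).ι z, ?_⟩
  rw [← Scheme.Hom.comp_apply, ← e, Scheme.Hom.comp_apply, hz]
  rfl

/-- For quasi-affine schemes U and V and an open immersion j : U → V, the scheme U is the fibre product
of the composite U → V → Spec Γ(V, O_V) and the morphism Spec Γ(U, O_U) → Spec Γ(V, O_V) induced by
restriction of sections along j: the square whose sides are the identity of U, the canonical
morphism U → Spec Γ(U, O_U), that composite and that induced morphism is cartesian. -/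
theorem result {U V : Scheme.{u}} (j : U ⟶ V)
    [IsOpenImmersion j] [U.IsQuasiAffine] [V.IsQuasiAffine] :
    IsPullback (𝟙 U) U.toSpecΓ (j ≫ V.toSpecΓ) (Spec.map j.appTop) := by
  have hnat : U.toSpecΓ ≫ Spec.map j.appTop = j ≫ V.toSpecΓ := (Scheme.toSpecΓ_naturality j).symm
  refine IsOpenImmersion.isPullback _ _ _ _ (by rw [Category.id_comp, hnat]) ?_
  apply le_antisymm
  · -- the hard inclusion
    intro p hp
    obtain ⟨u, hu⟩ := hp
    -- a basic open `D(r)` around `g u` inside the (open) range of `g = j ≫ V.toSpecΓ`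
    obtain ⟨_, ⟨r, rfl⟩, hur, hrsub⟩ :=
      PrimeSpectrum.isTopologicalBasis_basic_opens.exists_subset_of_mem_open
        (show (j ≫ V.toSpecΓ) u ∈ ((j ≫ V.toSpecΓ).opensRange : Set _) from ⟨u, rfl⟩)
        (j ≫ V.toSpecΓ).opensRange.2
    -- `U.basicOpen (j.appTop r)` is affine
    have hDaff := IsAffineOpen.Spec_basicOpen r
    have haff1 : IsAffineOpen ((j ≫ V.toSpecΓ) ⁻¹ᵁ (PrimeSpectrum.basicOpen r)) :=
      hDaff.preimage_of_isOpenImmersion (j ≫ V.toSpecΓ) hrsub
    have heq : (j ≫ V.toSpecΓ) ⁻¹ᵁ (PrimeSpectrum.basicOpen r) = U.basicOpen (j.appTop r) := by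
      have h1 : (j ≫ V.toSpecΓ) ⁻¹ᵁ (PrimeSpectrum.basicOpen r) =
          j ⁻¹ᵁ (V.toSpecΓ ⁻¹ᵁ (PrimeSpectrum.basicOpen r)) := rfl
      rw [h1, Scheme.toSpecΓ_preimage_basicOpen, Scheme.preimage_basicOpen_top]
    rw [heq] at haff1
    -- `p ∈ D(j.appTop r)`
    have hp : p ∈ (PrimeSpectrum.basicOpen (j.appTop r) : Set (PrimeSpectrum Γ(U, ⊤))) := by
      have h1 : (Spec.map j.appTop) p ∈ (PrimeSpectrum.basicOpen r : Set (PrimeSpectrum Γ(V, ⊤))) := by
        rw [← hu]; exact hur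
      exact h1
    exact basicOpen_subset_range_toSpecΓ U (j.appTop r) haff1 hp
  · rintro _ ⟨u, rfl⟩
    refine ⟨u, ?_⟩
    rw [← Scheme.Hom.comp_apply, hnat]

end Groth.Agent.S9804
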