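import Groth.Statements.S9807
import Groth.Agent.S4713
import Groth.Agent.Lib.Helper24.NagataCrit
-- import your own Groth.Agent.* helpers here

set_option autoImplicit false
universe u
open CategoryTheory AlgebraicGeometry TopologicalSpace
open Props

namespace Groth.Agent.S9807

/-- A locally Noetherian scheme is regular (all local rings regular) as soon as its local rings at
closed points are regular, and conversely. -/
theorem result (X : Scheme.{u}) [IsLocallyNoetherian X] :
    (∀ x : X, IsRegularLocalRing (X.presheaf.stalk x)) ↔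
      ∀ x : X, IsClosed ({x} : Set X) → IsRegularLocalRing (X.presheaf.stalk x) := by
  constructor
  · intro h x _
    exact h x
  · intro h x
    obtain ⟨x0, hx0, hx0cl⟩ := Groth.Agent.S4713.result X (closure {x}) isClosed_closure
      ⟨x, subset_closure (Set.mem_singleton x)⟩
    have hspec : x ⤳ x0 := specializes_iff_mem_closure.mpr hx0
    obtain ⟨W, hW, hx0W, -⟩ :=
      exists_isAffineOpen_mem_and_subset (X := X) (x := x0) (U := ⊤) trivial
    have hxW : x ∈ W := hspec.mem_open W.2 hx0W
    let q : Ideal Γ(X, W) := (hW.primeIdealOf ⟨x, hxW⟩).asIdeal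
    let p : Ideal Γ(X, W) := (hW.primeIdealOf ⟨x0, hx0W⟩).asIdeal
    have hqp : q ≤ p := by
      change hW.primeIdealOf ⟨x, hxW⟩ ≤ hW.primeIdealOf ⟨x0, hx0W⟩
      rw [PrimeSpectrum.le_iff_specializes]
      have hemb : Topology.IsOpenEmbedding hW.fromSpec := hW.fromSpec.isOpenEmbedding
      refine (hemb.toIsInducing.specializes_iff (x := hW.primeIdealOf ⟨x, hxW⟩)
        (y := hW.primeIdealOf ⟨x0, hx0W⟩)).mp ?_
      rw [hW.fromSpec_primeIdealOf, hW.fromSpec_primeIdealOf]
      exact hspec
    letI := X.presheaf.algebra_section_stalk (⟨x, hxW⟩ : W)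
    letI := X.presheaf.algebra_section_stalk (⟨x0, hx0W⟩ : W)
    haveI iq : IsLocalization.AtPrime (X.presheaf.stalk x) q := hW.isLocalization_stalk ⟨x, hxW⟩
    haveI ip : IsLocalization.AtPrime (X.presheaf.stalk x0) p :=
      hW.isLocalization_stalk ⟨x0, hx0W⟩
    let eq : Localization.AtPrime q ≃ₐ[Γ(X, W)] X.presheaf.stalk x :=
      IsLocalization.algEquiv q.primeCompl _ _
    let ep : Localization.AtPrime p ≃ₐ[Γ(X, W)] X.presheaf.stalk x0 :=
      IsLocalization.algEquiv p.primeCompl _ _
    haveI : IsRegularLocalRing (X.presheaf.stalk x0) := h x0 hx0cl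
    haveI : IsRegularLocalRing (Localization.AtPrime p) :=
      IsRegularLocalRing.of_ringEquiv ep.symm.toRingEquiv
    haveI : IsRegularLocalRing (Localization.AtPrime q) :=
      Groth.Agent.Lib.Helper24.NagataCrit.isRegularLocalRing_atPrime_of_le Γ(X, W) p q hqp
    exact IsRegularLocalRing.of_ringEquiv eq.toRingEquiv

end Groth.Agent.S9807
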