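import Groth.Statements.S9809
-- import your own Groth.Agent.* helpers here
import Groth.Agent.Lib.Helper9.SHConn1
import Groth.Agent.Lib.Helper9.GRPt6
import Groth.Agent.Lib.Helper9.Purity
import Groth.Agent.S9236

set_option backward.isDefEq.respectTransparency false
set_option linter.style.haveILetI false

set_option autoImplicit false
universe u
open CategoryTheory AlgebraicGeometry TopologicalSpace
open Props

namespace Groth.Agent.S9809

open Groth.Agent.Lib.Helper24.StrictHens in
/-- If the stalk at `x` has a unique prime, `closure {x}` is an irreducible component. -/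
theorem closure_mem_irreducibleComponents_of_forall_prime_eq (X : Scheme.{u}) (x : X)
    (h : ∀ p : Ideal (X.presheaf.stalk x), p.IsPrime → p = IsLocalRing.maximalIdeal _) :
    closure ({x} : Set X) ∈ irreducibleComponents X := by
  obtain ⟨T, hT, hsub⟩ := exists_mem_irreducibleComponents_subset_of_isIrreducible
    (closure ({x} : Set X)) isIrreducible_singleton.closure
  obtain ⟨ξ, hξ⟩ := QuasiSober.sober hT.1 (isClosed_of_mem_irreducibleComponents T hT)
  have hxT : x ∈ T := hsub (subset_closure rfl)
  have hξx : ξ ⤳ x := hξ.specializes hxT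
  have hr : ξ ∈ Set.range (X.fromSpecStalk x) := by
    rw [Scheme.range_fromSpecStalk]; exact hξx
  obtain ⟨P, hP⟩ := hr
  have hPm : P = IsLocalRing.closedPoint _ := PrimeSpectrum.ext (h P.asIdeal P.isPrime)
  rw [hPm, Scheme.fromSpecStalk_closedPoint] at hP
  rw [← hP] at hξ
  rw [hξ.def]
  exact hT

/-- If `closure {x}` is an irreducible component, the stalk at `x` has a unique prime. -/
theorem prime_eq_maximalIdeal_of_closure_mem (X : Scheme.{u}) (x : X)
    (hx : closure ({x} : Set X) ∈ irreducibleComponents X) (p : Ideal (X.presheaf.stalk x))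
    [hp : p.IsPrime] : p = IsLocalRing.maximalIdeal _ := by
  have hgen : IsGenericPoint x (closure ({x} : Set X)) := isGenericPoint_closure
  let P : Spec (X.presheaf.stalk x) := (⟨p, hp⟩ : PrimeSpectrum (X.presheaf.stalk x))
  have h1 : X.fromSpecStalk x P ⤳ x := by
    have : X.fromSpecStalk x P ∈ Set.range (X.fromSpecStalk x) := ⟨P, rfl⟩
    rw [Scheme.range_fromSpecStalk] at this
    exact this
  have h2 := Groth.Agent.Lib.helper9.SmBranch.eq_of_specializes_genericPoint hx hgen h1
  have h3 : X.fromSpecStalk x P =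
      X.fromSpecStalk x (IsLocalRing.closedPoint (X.presheaf.stalk x)) := by
    rw [h2, Scheme.fromSpecStalk_closedPoint]
  have h4 := (X.fromSpecStalk x).isEmbedding.injective h3
  exact congrArg PrimeSpectrum.asIdeal h4

/-- A Noetherian scheme is geometrically unibranch (all local rings geometrically unibranch) if and only
if at every point which is not the generic point of an irreducible component, the punctured spectrum
of a strict henselization of the local ring is connected. -/
theorem result
    (X : Scheme.{u}) [IsNoetherian X] :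
    (∀ x : X, CAlg2.IsGeomUnibranch (X.presheaf.stalk x)) ↔
      ∀ (x : X), closure ({x} : Set X) ∉ irreducibleComponents X →
        ∀ (Ash : Type u) [CommRing Ash] [IsLocalRing Ash] [Algebra (X.presheaf.stalk x) Ash]
          [IsLocalHom (algebraMap (X.presheaf.stalk x) Ash)]
          [Hensel.IsStrictHenselization (X.presheaf.stalk x) Ash],
          ConnectedSpace ↥({IsLocalRing.closedPoint Ash}ᶜ : Set (PrimeSpectrum Ash)) := by
  classical
  constructor
  · intro hGU x hx Ash _ _ _ _ _
    have hone : (minimalPrimes Ash).encard = 1 := by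
      have h1 := Groth.Agent.S9238.result (X.presheaf.stalk x) Ash
      have h2 := (Groth.Agent.S9236.result (X.presheaf.stalk x)).2 (hGU x)
      rw [h2] at h1
      exact h1
    obtain ⟨P₀, hP₀⟩ := Set.encard_eq_one.1 hone
    have hP₀mem : P₀ ∈ minimalPrimes Ash := hP₀ ▸ Set.mem_singleton _
    haveI hP₀p : P₀.IsPrime := hP₀mem.1.1
    have hle : ∀ Q : Ideal Ash, Q.IsPrime → P₀ ≤ Q := by
      intro Q hQ
      obtain ⟨Q', hQ', hle⟩ := Ideal.exists_minimalPrimes_le (bot_le : (⊥ : Ideal Ash) ≤ Q)
      have : Q' = P₀ := by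
        have : Q' ∈ ({P₀} : Set (Ideal Ash)) := hP₀ ▸ hQ'
        exact this
      exact this ▸ hle
    have hP₀ne : P₀ ≠ IsLocalRing.maximalIdeal Ash := by
      intro heq
      apply hx
      apply closure_mem_irreducibleComponents_of_forall_prime_eq
      intro p hp
      haveI := Groth.Agent.Lib.Helper24.StrictHens.faithfullyFlat_of_isStrictHenselization
        (X.presheaf.stalk x) Ash
      obtain ⟨Q, hQ⟩ := PrimeSpectrum.comap_surjective_of_faithfullyFlat
        (A := X.presheaf.stalk x) (B := Ash) ⟨p, hp⟩
      have hQm : Q.asIdeal = IsLocalRing.maximalIdeal Ash :=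
        le_antisymm (IsLocalRing.le_maximalIdeal Q.isPrime.ne_top) (heq ▸ hle Q.asIdeal Q.isPrime)
      have h3 := congrArg PrimeSpectrum.asIdeal hQ
      have h4 : Ideal.comap (algebraMap (X.presheaf.stalk x) Ash) Q.asIdeal = p := h3
      rw [← h4, hQm]
      exact IsLocalRing.maximalIdeal_comap (algebraMap (X.presheaf.stalk x) Ash)
    -- the generic point of the punctured spectrum
    let p₀ : ↥({IsLocalRing.closedPoint Ash}ᶜ : Set (PrimeSpectrum Ash)) :=
      ⟨⟨P₀, hP₀p⟩, by
        intro h
        apply hP₀ne
        exact congrArg PrimeSpectrum.asIdeal h⟩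
    have hdense : closure ({p₀} : Set ↥({IsLocalRing.closedPoint Ash}ᶜ :
        Set (PrimeSpectrum Ash))) = Set.univ := by
      rw [Set.eq_univ_iff_forall]
      intro u
      rw [← specializes_iff_mem_closure, ← Topology.IsInducing.subtypeVal.specializes_iff,
        ← PrimeSpectrum.le_iff_specializes]
      exact hle u.1.asIdeal u.1.isPrime
    have hirr : IsIrreducible (Set.univ : Set ↥({IsLocalRing.closedPoint Ash}ᶜ :
        Set (PrimeSpectrum Ash))) := hdense ▸ isIrreducible_singleton.closure
    haveI : IrreducibleSpace ↥({IsLocalRing.closedPoint Ash}ᶜ : Set (PrimeSpectrum Ash)) :=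
      (irreducibleSpace_def _).2 hirr
    infer_instance
  · intro hconn
    by_contra hbad
    push Not at hbad
    obtain ⟨x₀, hx₀⟩ := hbad
    obtain ⟨x, hxbad, hmin⟩ := WellFounded.has_min
      (InvImage.wf (fun x : X => ringKrullDim (X.presheaf.stalk x)) wellFounded_lt)
      {x | ¬ CAlg2.IsGeomUnibranch (X.presheaf.stalk x)} ⟨x₀, hx₀⟩
    have hnb : Brnch.numGeomBranches (X.presheaf.stalk x) ≠ 1 := fun h =>
      hxbad ((Groth.Agent.S9236.result (X.presheaf.stalk x)).1 h)
    have hcard := Groth.Agent.S9238.result (X.presheaf.stalk x)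
      (Groth.Agent.Lib.Helper24.StrictHens.SH (X.presheaf.stalk x))
    haveI : IsNoetherianRing (X.presheaf.stalk x) := inferInstance
    haveI : IsNoetherianRing (Groth.Agent.Lib.Helper24.StrictHens.SH (X.presheaf.stalk x)) :=
      (Groth.Agent.Lib.Helper24.HensNoeth.isNoetherianRing_iff_of_isStrictHenselization
        (X.presheaf.stalk x) _).1 inferInstance
    have hmS := Groth.Agent.Lib.Helper24.StrictHens.map_maximalIdeal_of_isStrictHenselization
      (X.presheaf.stalk x) (Groth.Agent.Lib.Helper24.StrictHens.SH (X.presheaf.stalk x))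
    by_cases hgen : closure ({x} : Set X) ∈ irreducibleComponents X
    · apply hnb
      rw [← hcard]
      show (minimalPrimes (Groth.Agent.Lib.Helper24.StrictHens.SH (X.presheaf.stalk x))).encard = 1
      have hall : ∀ Q : Ideal (Groth.Agent.Lib.Helper24.StrictHens.SH (X.presheaf.stalk x)),
          Q.IsPrime → Q = IsLocalRing.maximalIdeal _ := by
        intro Q hQ
        have h1 : Q.comap (algebraMap (X.presheaf.stalk x)
            (Groth.Agent.Lib.Helper24.StrictHens.SH (X.presheaf.stalk x))) =
            IsLocalRing.maximalIdeal _ :=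
          prime_eq_maximalIdeal_of_closure_mem X x hgen _
        refine le_antisymm (IsLocalRing.le_maximalIdeal hQ.ne_top) ?_
        rw [← hmS, Ideal.map_le_iff_le_comap, h1]
      have hset : minimalPrimes (Groth.Agent.Lib.Helper24.StrictHens.SH (X.presheaf.stalk x)) =
          {IsLocalRing.maximalIdeal _} := by
        ext P
        constructor
        · intro hP
          exact hall P hP.1.1
        · intro hP
          rw [Set.mem_singleton_iff] at hP
          rw [hP]
          exact ⟨⟨inferInstance, bot_le⟩, fun Q hQ _ => (hall Q hQ.1).ge⟩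
      rw [hset, Set.encard_singleton]
    · haveI := hconn x hgen (Groth.Agent.Lib.Helper24.StrictHens.SH (X.presheaf.stalk x))
      have h2 : 1 < (minimalPrimes
          (Groth.Agent.Lib.Helper24.StrictHens.SH (X.presheaf.stalk x))).encard := by
        have h1 : 1 ≤ (minimalPrimes
            (Groth.Agent.Lib.Helper24.StrictHens.SH (X.presheaf.stalk x))).encard := by
          have := Groth.Agent.Lib.helper9.SmBranch.one_le_numGeomBranches (X.presheaf.stalk x)
          rw [← hcard] at this
          exact this
        refine lt_of_le_of_ne h1 (fun h => hnb ?_)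
        rw [← hcard]
        exact h.symm
      obtain ⟨P₁, P₂, hP₁, hP₂, hne⟩ := Set.one_lt_encard_iff.1 h2
      haveI hP₁p : P₁.IsPrime := hP₁.1.1
      haveI hP₂p : P₂.IsPrime := hP₂.1.1
      have hP₁ne : P₁ ≠ IsLocalRing.maximalIdeal _ := by
        intro heq
        have h3 : P₂ ≤ P₁ := heq ▸ IsLocalRing.le_maximalIdeal hP₂p.ne_top
        exact hne (le_antisymm (hP₁.2 ⟨hP₂p, bot_le⟩ h3) h3)
      have hP₂ne : P₂ ≠ IsLocalRing.maximalIdeal _ := by
        intro heq
        have h3 : P₁ ≤ P₂ := heq ▸ IsLocalRing.le_maximalIdeal hP₁p.ne_top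
        exact hne (le_antisymm h3 (hP₂.2 ⟨hP₁p, bot_le⟩ h3))
      -- the topological argument
      have hfin : (minimalPrimes
          (Groth.Agent.Lib.Helper24.StrictHens.SH (X.presheaf.stalk x))).Finite :=
        minimalPrimes.finite_of_isNoetherianRing _
      let U := ↥({IsLocalRing.closedPoint
        (Groth.Agent.Lib.Helper24.StrictHens.SH (X.presheaf.stalk x))}ᶜ :
          Set (PrimeSpectrum (Groth.Agent.Lib.Helper24.StrictHens.SH (X.presheaf.stalk x))))
      let t : Set U := Subtype.val ⁻¹' (PrimeSpectrum.zeroLocus (P₁ : Set _))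
      let t' : Set U := ⋃ P' ∈ (minimalPrimes
          (Groth.Agent.Lib.Helper24.StrictHens.SH (X.presheaf.stalk x)) \ {P₁}),
        Subtype.val ⁻¹' (PrimeSpectrum.zeroLocus (P' : Set _))
      have ht : IsClosed t :=
        (PrimeSpectrum.isClosed_zeroLocus _).preimage continuous_subtype_val
      have ht' : IsClosed t' := by
        refine Set.Finite.isClosed_biUnion (hfin.subset Set.sdiff_subset) ?_
        intro P' _
        exact (PrimeSpectrum.isClosed_zeroLocus _).preimage continuous_subtype_val
      have hcover : (Set.univ : Set U) ⊆ t ∪ t' := by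
        intro u _
        obtain ⟨P'', hP'', hle⟩ := Ideal.exists_minimalPrimes_le
          (bot_le : (⊥ : Ideal _) ≤ u.1.asIdeal)
        by_cases h : P'' = P₁
        · left
          show u.1 ∈ PrimeSpectrum.zeroLocus (P₁ : Set _)
          rw [PrimeSpectrum.mem_zeroLocus]
          exact h ▸ hle
        · right
          refine Set.mem_biUnion (x := P'') ⟨hP'', h⟩ ?_
          show u.1 ∈ PrimeSpectrum.zeroLocus (P'' : Set _)
          rw [PrimeSpectrum.mem_zeroLocus]
          exact hle
      have hne1 : ((Set.univ : Set U) ∩ t).Nonempty := by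
        refine ⟨⟨⟨P₁, hP₁p⟩, fun h => hP₁ne (congrArg PrimeSpectrum.asIdeal h)⟩, trivial, ?_⟩
        show (⟨P₁, hP₁p⟩ : PrimeSpectrum _) ∈ PrimeSpectrum.zeroLocus (P₁ : Set _)
        rw [PrimeSpectrum.mem_zeroLocus]
      have hne2 : ((Set.univ : Set U) ∩ t').Nonempty := by
        refine ⟨⟨⟨P₂, hP₂p⟩, fun h => hP₂ne (congrArg PrimeSpectrum.asIdeal h)⟩, trivial, ?_⟩
        refine Set.mem_biUnion (x := P₂) ⟨hP₂, fun h => hne h.symm⟩ ?_
        show (⟨P₂, hP₂p⟩ : PrimeSpectrum _) ∈ PrimeSpectrum.zeroLocus (P₂ : Set _)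
        rw [PrimeSpectrum.mem_zeroLocus]
      obtain ⟨u, -, hu1, hu2⟩ := isPreconnected_closed_iff.1 isPreconnected_univ t t' ht ht'
        hcover hne1 hne2
      obtain ⟨P', ⟨hP', hP'ne⟩, hu3⟩ := Set.mem_iUnion₂.1 hu2
      have h₁ : P₁ ≤ u.1.asIdeal := (PrimeSpectrum.mem_zeroLocus _ _).1 hu1
      have h₂ : P' ≤ u.1.asIdeal := (PrimeSpectrum.mem_zeroLocus _ _).1 hu3
      have hQne : u.1.asIdeal ≠ IsLocalRing.maximalIdeal _ := by
        intro h
        apply u.2
        exact PrimeSpectrum.ext h
      haveI hQp : u.1.asIdeal.IsPrime := u.1.isPrime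
      have hK := Groth.Agent.Lib.helper9.SHConn.numGeomBranches_localization_comap_ne_one
        (X.presheaf.stalk x) u.1.asIdeal P₁ P' hP₁ hP'
        (fun h => hP'ne (Set.mem_singleton_iff.2 h.symm)) h₁ h₂
      -- the generization
      let q : Spec (X.presheaf.stalk x) :=
        (⟨u.1.asIdeal.comap (algebraMap (X.presheaf.stalk x)
          (Groth.Agent.Lib.Helper24.StrictHens.SH (X.presheaf.stalk x))), inferInstance⟩ :
          PrimeSpectrum (X.presheaf.stalk x))
      obtain ⟨e⟩ := Groth.Agent.Lib.helper9.GRPt.nonempty_stalk_fromSpecStalk_equiv X x q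
      have hbad' : ¬ CAlg2.IsGeomUnibranch (X.presheaf.stalk (X.fromSpecStalk x q)) := by
        intro hGU'
        have h3 := (Groth.Agent.S9236.result _).2 hGU'
        rw [Groth.Agent.Lib.helper9.SmBranch.numGeomBranches_eq_of_ringEquiv e] at h3
        exact hK h3
      apply hmin (X.fromSpecStalk x q) hbad'
      show ringKrullDim (X.presheaf.stalk (X.fromSpecStalk x q)) <
        ringKrullDim (X.presheaf.stalk x)
      rw [Groth.Agent.Lib.helper9.ringKrullDim_stalk_fromSpecStalk X x q,
        ← IsLocalRing.maximalIdeal_height_eq_ringKrullDim]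
      have hlt : q.asIdeal < IsLocalRing.maximalIdeal (X.presheaf.stalk x) := by
        refine lt_of_le_of_ne (IsLocalRing.le_maximalIdeal q.isPrime.ne_top) ?_
        intro heq
        apply hQne
        refine le_antisymm (IsLocalRing.le_maximalIdeal hQp.ne_top) ?_
        rw [← hmS, Ideal.map_le_iff_le_comap]
        exact heq.ge
      haveI : q.asIdeal.IsPrime := q.isPrime
      exact_mod_cast Ideal.height_strict_mono_of_isPrime hlt

end Groth.Agent.S9809
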