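import Groth.Statements.S9822
import Mathlib.AlgebraicGeometry.Limits

set_option autoImplicit false
universe u
open CategoryTheory CategoryTheory.Limits AlgebraicGeometry TopologicalSpace Opposite
open Props

namespace Groth.Agent.S9822

/-- A scheme is irreducible if and only if it is nonempty and every nonempty affine open subset is
irreducible. -/
theorem result (X : Scheme.{u}) :
    IrreducibleSpace X ↔ Nonempty X ∧ ∀ U : X.Opens, IsAffineOpen U → (U : Set X).Nonempty → IsIrreducible (U : Set X) := by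
  constructor
  · intro h
    refine ⟨inferInstance, fun U _ hne => ⟨hne, ?_⟩⟩
    exact (PreirreducibleSpace.isPreirreducible_univ (X := X)).open_subset U.2 (Set.subset_univ _)
  · rintro ⟨hne, h⟩
    have hpre : PreirreducibleSpace X := by
      refine ⟨fun u v hu hv ⟨x, _, hxu⟩ ⟨y, _, hyv⟩ => ?_⟩
      obtain ⟨_, ⟨U', hU', rfl⟩, hxU', hU'u⟩ := X.isBasis_affineOpens.exists_subset_of_mem_open hxu hu
      obtain ⟨_, ⟨V', hV', rfl⟩, hyV', hV'v⟩ := X.isBasis_affineOpens.exists_subset_of_mem_open hyv hv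
      by_cases hdisj : Disjoint U' V'
      · exfalso
        have haff : IsAffineOpen (U' ⊔ V') := hU'.sup_of_disjoint hV' hdisj
        have hirr := h (U' ⊔ V') haff ⟨x, Or.inl hxU'⟩
        obtain ⟨z, -, hz⟩ := hirr.2 U' V' U'.2 V'.2 ⟨x, Or.inl hxU', hxU'⟩ ⟨y, Or.inr hyV', hyV'⟩
        exact (Set.disjoint_iff.mp ((Opens.coe_disjoint).mpr hdisj)) hz
      · rw [← Opens.coe_disjoint, Set.not_disjoint_iff] at hdisj
        obtain ⟨z, hz1, hz2⟩ := hdisj
        exact ⟨z, Set.mem_univ _, hU'u hz1, hV'v hz2⟩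
    exact ⟨hne⟩

end Groth.Agent.S9822
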