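import Groth.Statements.S9823
import Groth.Agent.Lib.Helper16.FTIdeal

set_option autoImplicit false
universe u
open CategoryTheory CategoryTheory.Limits AlgebraicGeometry TopologicalSpace Opposite
open Props

namespace Groth.Agent.S9823


open Groth.Agent.Lib.helper16.FTIdeal Groth.Agent.Lib.helper16.BlowSep

theorem isCompact_of_ft (X : Scheme.{u}) [CompactSpace X] (U : X.Opens) (I : X.IdealSheafData)
    (hI : ∀ V : X.affineOpens, (I.ideal V).FG) (hs : (I.support : Set X) = (U : Set X)ᶜ) :
    IsCompact (U : Set X) := by
  classical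
  obtain ⟨S, hS, hcov⟩ := (isCompact_iff_finite_and_eq_biUnion_affineOpens
    (U := (⊤ : X.Opens))).mp isCompact_univ
  choose G hG using hI
  have heq : (U : Set X) = ⋃ V ∈ S, ⋃ f ∈ G V, (X.basicOpen f : Set X) := by
    ext x
    simp only [Set.mem_iUnion]
    constructor
    · intro hxU
      have hx : x ∈ (⊤ : X.Opens) := Set.mem_univ x
      rw [hcov] at hx
      simp only [TopologicalSpace.Opens.mem_iSup] at hx
      obtain ⟨V, hVS, hxV⟩ := hx
      have hns : x ∉ I.support := by
        intro h
        have : x ∈ (I.support : Set X) := h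
        rw [hs] at this
        exact this hxU
      rw [← ideal_le_ptIdeal_iff I V x hxV, ← hG V, Ideal.span_le] at hns
      rw [Set.not_subset] at hns
      obtain ⟨f, hfG, hf⟩ := hns
      refine ⟨V, hVS, f, hfG, ?_⟩
      by_contra h
      exact hf ((mem_ptIdeal hxV f).mpr h)
    · rintro ⟨V, hVS, f, hfG, hxf⟩
      have hxV : x ∈ V.1 := X.basicOpen_le f hxf
      by_contra hxU
      have : x ∈ (I.support : Set X) := by
        rw [hs]
        exact hxU
      have h2 := (ideal_le_ptIdeal_iff I V x hxV).mpr this
      have h3 : f ∈ I.ideal V := by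
        rw [← hG V]
        exact Ideal.subset_span hfG
      exact (mem_ptIdeal hxV f).mp (h2 h3) hxf
  rw [heq]
  exact hS.isCompact_biUnion fun V _ =>
    (G V).finite_toSet.isCompact_biUnion fun f _ => (V.2.basicOpen f).isCompact



/-- In a quasi-compact quasi-separated scheme, an open subset is quasi-compact exactly when its
complement is the support of some quasi-coherent ideal sheaf of finite type. -/
theorem result (X : Scheme.{u}) [CompactSpace X] [QuasiSeparatedSpace X]
    (U : X.Opens) :
    IsCompact (U : Set X) ↔
      ∃ I : X.IdealSheafData, (∀ V : X.affineOpens, (I.ideal V).FG) ∧ (I.support : Set X) = (U : Set X)ᶜ := by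
  constructor
  · intro hU
    obtain ⟨𝓙, hft, hs⟩ := exists_ft_ideal_support U hU
    exact ⟨𝓙, hft, hs⟩
  · rintro ⟨I, hI, hs⟩
    exact isCompact_of_ft X U I hI hs

end Groth.Agent.S9823
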