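import Groth.Statements.S9825
import Groth.Agent.Lib.Helper16.FLF7

set_option autoImplicit false
universe u
open CategoryTheory CategoryTheory.Limits AlgebraicGeometry TopologicalSpace Opposite
open Props

namespace Groth.Agent.S9825

/-- A quasi-coherent module on a scheme is finite locally free if and only if it is of finite type with
free stalks and locally constant fibre rank. -/
theorem result (X : Scheme.{u}) (M : X.Modules) [Coh.IsQCoh M] :
    FlatMod.IsFinLocFree M ↔ CohB1.IsFT M ∧ (∀ x : X, Module.Free (X.presheaf.stalk x) (M.presheaf.stalk x)) ∧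
      IsLocallyConstant (fun x : X => Module.finrank (IsLocalRing.ResidueField (X.presheaf.stalk x))
          (TensorProduct (X.presheaf.stalk x) (IsLocalRing.ResidueField (X.presheaf.stalk x)) (M.presheaf.stalk x))) := by
  open Groth.Agent.Lib.helper16.FLF in
  haveI : M.IsQuasicoherent := ‹Coh.IsQCoh M›
  constructor
  · intro hM
    exact ⟨isFiniteType_of_isFinLocFree M hM, fun x => (free_stalk_of_isFinLocFree M hM x).1,
      isLocallyConstant_fibreRank_of_isFinLocFree M hM⟩
  · rintro ⟨hft, hfree, hlc⟩
    exact isFinLocFree_of_free_stalks_of_isLocallyConstant M hft hfree hlc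

end Groth.Agent.S9825
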