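import Groth.Statements.S9830
import Mathlib

set_option autoImplicit false
universe u
open CategoryTheory AlgebraicGeometry TopologicalSpace
open Props

namespace Groth.Agent.S9830

theorem key (X : Scheme.{u}) [T2Space X] {R K : Type u} [CommRing R] [IsDomain R] [Field K]
    [Algebra R K] [IsFractionRing R K] (l₁ l₂ : Spec (CommRingCat.of R) ⟶ X)
    (h : Spec.map (CommRingCat.ofHom (algebraMap R K)) ≫ l₁ =
      Spec.map (CommRingCat.ofHom (algebraMap R K)) ≫ l₂) : l₁ = l₂ := by
  set φ := Spec.map (CommRingCat.ofHom (algebraMap R K)) with hφ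
  have hdom : IsDominant φ := by
    constructor
    have : DenseRange (PrimeSpectrum.comap (algebraMap R K)) := by
      rw [PrimeSpectrum.denseRange_comap_iff_ker_le_nilRadical]
      rw [(RingHom.injective_iff_ker_eq_bot _).1 (IsFractionRing.injective R K)]
      exact bot_le
    exact this
  have : Subsingleton ↥(Spec (CommRingCat.of K)) :=
    inferInstanceAs (Subsingleton (PrimeSpectrum K))
  have : Nonempty ↥(Spec (CommRingCat.of K)) :=
    inferInstanceAs (Nonempty (PrimeSpectrum K))
  let η : ↥(Spec (CommRingCat.of K)) := Classical.arbitrary _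
  have hcl : ∀ z : ↥(Spec (CommRingCat.of R)), φ η ⤳ z := by
    intro z
    rw [specializes_iff_mem_closure]
    have h1 : Set.range φ = {φ η} := by
      ext y
      constructor
      · rintro ⟨w, rfl⟩
        rw [Subsingleton.elim w η]; rfl
      · rintro rfl
        exact ⟨η, rfl⟩
    rw [← h1]
    exact hdom.denseRange z
  set x := l₁ (φ η) with hx
  have hconst : ∀ (l : Spec (CommRingCat.of R) ⟶ X), φ ≫ l = φ ≫ l₁ → ∀ z, l z = x := by
    intro l hl z
    have h1 : l (φ η) ⤳ l z := (hcl z).map l.continuous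
    have h2 : l (φ η) = x := by
      rw [hx, ← Scheme.Hom.comp_apply, hl, Scheme.Hom.comp_apply]
    rw [← h2]
    exact h1.eq.symm
  obtain ⟨_, ⟨U, hU, rfl⟩, hxU, -⟩ :=
    (X.isBasis_affineOpens).exists_subset_of_mem_open (Set.mem_univ x) isOpen_univ
  obtain ⟨U', rfl⟩ : ∃ U' : X.Opens, U' = U := ⟨U, rfl⟩
  have hr : ∀ (l : Spec (CommRingCat.of R) ⟶ X), φ ≫ l = φ ≫ l₁ →
      Set.range l ⊆ Set.range U'.ι := by
    intro l hl
    rintro _ ⟨z, rfl⟩
    rw [hconst l hl z, Scheme.Opens.range_ι]
    exact hxU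
  let l₁' := IsOpenImmersion.lift U'.ι l₁ (hr l₁ rfl)
  let l₂' := IsOpenImmersion.lift U'.ι l₂ (hr l₂ h.symm)
  have e₁ : l₁' ≫ U'.ι = l₁ := IsOpenImmersion.lift_fac _ _ _
  have e₂ : l₂' ≫ U'.ι = l₂ := IsOpenImmersion.lift_fac _ _ _
  have h' : φ ≫ l₁' = φ ≫ l₂' := by
    rw [← cancel_mono U'.ι, Category.assoc, Category.assoc, e₁, e₂, h]
  have : IsAffine U' := hU
  have h3 : l₁' = l₂' :=
    ext_of_isDominant_of_isSeparated (Limits.terminal.from _) (Limits.terminal.hom_ext _ _) φ h'
  rw [← e₁, ← e₂, h3]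

/-- A scheme whose underlying space is Hausdorff is separated. (The published statement assumes X of
dimension zero; a Hausdorff scheme always has dimension at most zero, so this row omits that
hypothesis.) -/
theorem result (X : Scheme.{u}) [T2Space X] : X.IsSeparated := by
  have : QuasiSeparatedSpace X := ⟨fun U V _ hU _ hV => hU.inter hV⟩
  have : QuasiSeparated (Limits.terminal.from X) := inferInstance
  refine ⟨IsSeparated.of_valuativeCriterion _ ?_⟩
  intro S
  refine ⟨fun l₁ l₂ => ?_⟩
  ext1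
  exact key X l₁.l l₂.l (l₁.fac_left.trans l₂.fac_left.symm)

end Groth.Agent.S9830
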