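import Groth.Statements.S9833
import Mathlib
import Groth.Agent.S4710
import Groth.Agent.S9400
-- import your own Groth.Agent.* helpers here

set_option autoImplicit false
universe u
open CategoryTheory AlgebraicGeometry TopologicalSpace
open Props

namespace Groth.Agent.S9833

/-- N-2 is invariant under ring isomorphisms. -/
theorem isN2_of_ringEquiv {A B : Type u} [CommRing A] [IsDomain A] [CommRing B] [IsDomain B]
    (e : A ≃+* B) (hA : CAlg.IsN2 A) : CAlg.IsN2 B := by
  letI : Algebra A B := e.toRingHom.toAlgebra
  haveI h0 : IsLocalization (⊥ : Submonoid A) A := IsLocalization.self bot_le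
  haveI : IsLocalization (⊥ : Submonoid A) B :=
    IsLocalization.isLocalization_of_algEquiv (⊥ : Submonoid A)
      (AlgEquiv.ofRingEquiv (f := e) (fun a => rfl) : A ≃ₐ[A] B)
  exact Groth.Agent.Lib.helper22.isN2_of_isLocalization hA (⊥ : Submonoid A) B

/-- Being Nagata is invariant under ring isomorphisms. -/
theorem isNagata_of_ringEquiv {A B : Type u} [CommRing A] [CommRing B] (e : A ≃+* B)
    (hA : CAlg.IsNagata A) : CAlg.IsNagata B := by
  obtain ⟨hN, hq⟩ := hA
  refine ⟨isNoetherianRing_of_ringEquiv A e, fun q hqp => ?_⟩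
  haveI : (q.comap (e : A →+* B)).IsPrime := Ideal.comap_isPrime _ q
  have hmap : q = (q.comap (e : A →+* B)).map (e : A →+* B) :=
    (Ideal.map_comap_of_surjective _ e.surjective q).symm
  exact isN2_of_ringEquiv (Ideal.quotientEquiv (q.comap (e : A →+* B)) q e hmap)
    (hq (q.comap (e : A →+* B)))


/-- If a scheme has an affine open covering by spectra of Nagata rings, then the coordinate ring of
every affine open is Nagata. -/
theorem result (X : Scheme.{u}) {ι : Type u} (U : ι → X.Opens)
    (hU : iSup U = ⊤) (haff : ∀ i, IsAffineOpen (U i)) (hN : ∀ i, CAlg.IsNagata Γ(X, U i))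
    (V : X.Opens) (hV : IsAffineOpen V) : CAlg.IsNagata Γ(X, V) := by
  classical
  let P : X.affineOpens → Prop := fun W => CAlg.IsNagata Γ(X, W.1)
  have key : P ⟨V, hV⟩ := by
    refine of_affine_open_cover (P := P) (fun i => (⟨U i, haff i⟩ : X.affineOpens)) hU ⟨V, hV⟩
      ?_ ?_ ?_
    · intro W f hW
      haveI : IsLocalization.Away f Γ(X, X.basicOpen f) := W.2.isLocalization_basicOpen f
      have h1 := Groth.Agent.S4710.result Γ(X, W.1) hW (Submonoid.powers f)
      exact isNagata_of_ringEquiv
        (IsLocalization.algEquiv (Submonoid.powers f) (Localization (Submonoid.powers f))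
          Γ(X, X.basicOpen f)).toRingEquiv h1
    · intro W s hs h
      have hspan : Ideal.span (Set.range (fun i : s => (i : Γ(X, W.1)))) = ⊤ := by
        rw [Subtype.range_coe_subtype]
        exact hs
      refine Groth.Agent.S9400.result Γ(X, W.1) (fun i : s => (i : Γ(X, W.1))) hspan (fun i => ?_)
      haveI : IsLocalization.Away (i : Γ(X, W.1)) Γ(X, X.basicOpen (i : Γ(X, W.1))) :=
        W.2.isLocalization_basicOpen _
      exact isNagata_of_ringEquiv
        (IsLocalization.algEquiv (Submonoid.powers (i : Γ(X, W.1)))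
          Γ(X, X.basicOpen (i : Γ(X, W.1))) (Localization.Away (i : Γ(X, W.1)))).toRingEquiv (h i)
    · intro i
      exact hN i
  exact key

end Groth.Agent.S9833
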