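import Groth.Statements.S9834
import Mathlib
import Groth.Agent.S9398
import Groth.Agent.S9399

set_option autoImplicit false
universe u
open CategoryTheory AlgebraicGeometry TopologicalSpace
open Props

namespace Groth.Agent.S9834

section helpers
open CategoryTheory AlgebraicGeometry TopologicalSpace

section helpers

lemma isUJ_of_isLocalization {A : Type u} [CommRing A] (hA : CAlg.IsUniversallyJapanese A)
    (M : Submonoid A) (B : Type u) [CommRing B] [Algebra A B] [IsLocalization M B] :
    CAlg.IsUniversallyJapanese B := by
  have : Algebra.EssFiniteType A B := Algebra.EssFiniteType.of_isLocalization B M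
  exact Groth.Agent.S9398.result A hA B

lemma isUJ_of_ringEquiv {A B : Type u} [CommRing A] [CommRing B] (e : A ≃+* B)
    (hA : CAlg.IsUniversallyJapanese A) : CAlg.IsUniversallyJapanese B := by
  let _ : Algebra A B := e.toRingHom.toAlgebra
  have : Algebra.FiniteType A B := Algebra.FiniteType.of_surjective (Algebra.ofId A B)
    (fun b => ⟨e.symm b, e.apply_symm_apply b⟩)
  exact Groth.Agent.S9398.result A hA B

lemma isUJ_of_away_cover (R : Type u) [CommRing R]
    {ι : Type u} [Finite ι] (f : ι → R) (hf : Ideal.span (Set.range f) = ⊤)
    (Rf : ι → Type u) [∀ i, CommRing (Rf i)] [∀ i, Algebra R (Rf i)]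
    [∀ i, IsLocalization.Away (f i) (Rf i)]
    (h : ∀ i, CAlg.IsUniversallyJapanese (Rf i)) :
    CAlg.IsUniversallyJapanese R := by
  apply Groth.Agent.S9399.result R f hf
  intro i
  exact isUJ_of_ringEquiv
    (IsLocalization.algEquiv (Submonoid.powers (f i)) (Rf i) (Localization.Away (f i))).toRingEquiv
    (h i)

end helpers


end helpers

/-- If a scheme has an affine open covering by spectra of universally Japanese rings, then the
coordinate ring of every affine open is universally Japanese. -/
theorem result (X : Scheme.{u}) {ι : Type u} (U : ι → X.Opens)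
    (hU : iSup U = ⊤) (haff : ∀ i, IsAffineOpen (U i)) (hJ : ∀ i, CAlg.IsUniversallyJapanese Γ(X, U i))
    (V : X.Opens) (hV : IsAffineOpen V) : CAlg.IsUniversallyJapanese Γ(X, V) := by
  classical
  let P : X.affineOpens → Prop := fun W => CAlg.IsUniversallyJapanese Γ(X, W.1)
  have key : P ⟨V, hV⟩ := by
    refine of_affine_open_cover (P := P) (fun i => (⟨U i, haff i⟩ : X.affineOpens)) hU ⟨V, hV⟩
      ?_ ?_ ?_
    · intro W f hW
      have : IsLocalization.Away f Γ(X, X.basicOpen f) := W.2.isLocalization_basicOpen f
      exact isUJ_of_isLocalization hW (Submonoid.powers f) Γ(X, X.basicOpen f)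
    · intro W s hs h
      have : ∀ i : s, IsLocalization.Away i.1 Γ(X, X.basicOpen i.1) := fun i =>
        W.2.isLocalization_basicOpen i.1
      have hspan : Ideal.span (Set.range (fun i : s => i.1)) = ⊤ := by
        rw [Subtype.range_coe_subtype]
        exact hs
      exact isUJ_of_away_cover Γ(X, W.1) (fun i : s => i.1) hspan
        (fun i => Γ(X, X.basicOpen i.1)) (fun i => h i)
    · intro i
      exact hJ i
  exact key

end Groth.Agent.S9834
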