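import Groth.Statements.S9835
import Mathlib
import Groth.Agent.S9392
import Groth.Agent.S9394
-- import your own Groth.Agent.* helpers here

set_option autoImplicit false
universe u
open CategoryTheory AlgebraicGeometry TopologicalSpace
open Props

namespace Groth.Agent.S9835

/-- If an integral scheme has an affine open covering by spectra of Japanese (N-2) domains, then the
coordinate ring of every nonempty affine open is a Japanese domain. -/
theorem result (X : Scheme.{u}) [IsIntegral X] {ι : Type u}
    (U : ι → X.Opens) [∀ i, Nonempty (U i)] (hU : iSup U = ⊤) (haff : ∀ i, IsAffineOpen (U i))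
    (hJ : ∀ i, CAlg.IsN2 Γ(X, U i)) (V : X.Opens) [Nonempty V] (hV : IsAffineOpen V) :
    CAlg.IsN2 Γ(X, V) := by
  classical
  let P : X.affineOpens → Prop := fun W => ∀ hne : Nonempty W.1,
    @CAlg.IsN2 Γ(X, W.1) _ (@IsIntegral.component_integral X _ W.1 hne)
  have key : P ⟨V, hV⟩ := by
    refine of_affine_open_cover (P := P) (fun i => (⟨U i, haff i⟩ : X.affineOpens)) hU ⟨V, hV⟩
      ?_ ?_ ?_
    · -- localization
      intro W f hW hne
      have hneW : Nonempty W.1 := by
        obtain ⟨⟨x, hx⟩⟩ := hne
        exact ⟨⟨x, X.basicOpen_le f hx⟩⟩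
      haveI : IsDomain Γ(X, W.1) := @IsIntegral.component_integral X _ W.1 hneW
      haveI : IsDomain Γ(X, X.basicOpen f) :=
        @IsIntegral.component_integral X _ (X.basicOpen f) hne
      haveI : IsLocalization.Away f Γ(X, X.basicOpen f) := W.2.isLocalization_basicOpen f
      exact Groth.Agent.S9392.result Γ(X, W.1) (Submonoid.powers f) Γ(X, X.basicOpen f) (hW hneW)
    · -- gluing
      intro W s hs h hne
      haveI : IsDomain Γ(X, W.1) := @IsIntegral.component_integral X _ W.1 hne
      let ι := {f : Γ(X, W.1) // f ∈ s ∧ f ≠ 0}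
      haveI : Finite ι := by
        have : Finite {f : Γ(X, W.1) // f ∈ s} := inferInstance
        exact Finite.of_injective (fun i : ι => (⟨i.1, i.2.1⟩ : {f : Γ(X, W.1) // f ∈ s}))
          (fun a b hab => Subtype.ext (congrArg (fun z : {f : Γ(X, W.1) // f ∈ s} => z.1) hab))
      have hspan : Ideal.span (Set.range (fun i : ι => i.1)) = ⊤ := by
        have h1 : Set.range (fun i : ι => i.1) = (s : Set Γ(X, W.1)) \ {0} := by
          ext f
          constructor
          · rintro ⟨i, rfl⟩
            exact ⟨i.2.1, i.2.2⟩
          · rintro ⟨h1, h2⟩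
            exact ⟨⟨f, h1, h2⟩, rfl⟩
        rw [h1, Ideal.span_sdiff_singleton_zero, hs]
      have hne' : ∀ i : ι, Nonempty (X.basicOpen i.1) := by
        intro i
        by_contra hcon
        apply i.2.2
        rw [← basicOpen_eq_bot_iff]
        ext x
        simp only [TopologicalSpace.Opens.coe_bot, Set.mem_empty_iff_false, iff_false]
        intro hx
        exact hcon ⟨⟨x, hx⟩⟩
      haveI : ∀ i : ι, IsDomain Γ(X, X.basicOpen i.1) := fun i =>
        @IsIntegral.component_integral X _ (X.basicOpen i.1) (hne' i)
      haveI : ∀ i : ι, IsLocalization.Away i.1 Γ(X, X.basicOpen i.1) := fun i =>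
        W.2.isLocalization_basicOpen i.1
      exact Groth.Agent.S9394.result Γ(X, W.1) (fun i : ι => i.1) hspan
        (fun i => Γ(X, X.basicOpen i.1)) (fun i => h ⟨i.1, i.2.1⟩ (hne' i))
    · intro i hne
      exact hJ i
  exact key inferInstance

end Groth.Agent.S9835
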