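import Groth.Statements.S9838
import Mathlib
import Groth.Agent.Lib.Helper16.QCohAffinePush

set_option autoImplicit false
open CategoryTheory CategoryTheory.Limits AlgebraicGeometry Opposite
universe u
open Desc

namespace Groth.Agent.S9838

section helpers
open CategoryTheory CategoryTheory.Limits AlgebraicGeometry TopologicalSpace

open Opposite
open Groth.Agent.Lib.helper16.CohFinite Groth.Agent.Lib.helper16.QCohPush
  Groth.Agent.Lib.helper16.QCohAffinePush

/-- sections of the pushforward along a finite morphism of a module with finite sections -/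
theorem finite_push_sections {X Y : Scheme.{u}} (f : X ⟶ Y) [IsFinite f] (F : X.Modules)
    {V : Y.Opens} (hV : IsAffineOpen V) (h : Module.Finite Γ(X, f ⁻¹ᵁ V) Γ(F, f ⁻¹ᵁ V)) :
    Module.Finite Γ(Y, V) Γ(push f F, V) := by
  have hfin : (f.app V).hom.Finite := IsFinite.finite_app f V hV
  letI : Algebra Γ(Y, V) Γ(X, f ⁻¹ᵁ V) := (f.app V).hom.toAlgebra
  haveI : Module.Finite Γ(Y, V) Γ(X, f ⁻¹ᵁ V) := hfin
  letI : Module Γ(X, f ⁻¹ᵁ V) Γ(push f F, V) := inferInstanceAs (Module Γ(X, f ⁻¹ᵁ V) Γ(F, f ⁻¹ᵁ V))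
  haveI : Module.Finite Γ(X, f ⁻¹ᵁ V) Γ(push f F, V) := h
  haveI : IsScalarTower Γ(Y, V) Γ(X, f ⁻¹ᵁ V) Γ(push f F, V) :=
    ⟨fun a b m => by
      change ((f.app V).hom a * b) • (show Γ(F, f ⁻¹ᵁ V) from m) = (f.app V).hom a • (b • (show Γ(F, f ⁻¹ᵁ V) from m))
      rw [mul_smul]⟩
  exact Module.Finite.trans Γ(X, f ⁻¹ᵁ V) Γ(push f F, V)

/-- converse: finiteness over the base implies finiteness over the source -/
theorem finite_sections_of_push {X Y : Scheme.{u}} (f : X ⟶ Y) (F : X.Modules)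
    {V : Y.Opens} (h : Module.Finite Γ(Y, V) Γ(push f F, V)) :
    Module.Finite Γ(X, f ⁻¹ᵁ V) Γ(F, f ⁻¹ᵁ V) := by
  letI : Algebra Γ(Y, V) Γ(X, f ⁻¹ᵁ V) := (f.app V).hom.toAlgebra
  letI : Module Γ(X, f ⁻¹ᵁ V) Γ(push f F, V) := inferInstanceAs (Module Γ(X, f ⁻¹ᵁ V) Γ(F, f ⁻¹ᵁ V))
  haveI : IsScalarTower Γ(Y, V) Γ(X, f ⁻¹ᵁ V) Γ(push f F, V) :=
    ⟨fun a b m => by
      change ((f.app V).hom a * b) • (show Γ(F, f ⁻¹ᵁ V) from m) = (f.app V).hom a • (b • (show Γ(F, f ⁻¹ᵁ V) from m))
      rw [mul_smul]⟩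
  exact Module.Finite.of_restrictScalars_finite Γ(Y, V) Γ(X, f ⁻¹ᵁ V) Γ(push f F, V)

theorem main {X Y : Scheme.{u}} (f : X ⟶ Y) [IsFinite f]
    (F : X.Modules) [F.IsQuasicoherent] :
    SheafOfModules.IsFiniteType (R := X.ringCatSheaf) F ↔
      SheafOfModules.IsFiniteType (R := Y.ringCatSheaf) ((Scheme.Modules.pushforward f).obj F) := by
  haveI : (push f F).IsQuasicoherent := isQuasicoherent_push f F
  constructor
  · intro hF
    refine isFiniteType_of_finite_sections (push f F) (fun V : Y.affineOpens => V.1) (fun V => V.2)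
      (iSup_affineOpens_eq_top Y) (fun V => ?_)
    exact finite_push_sections f F V.2 (finite_sections_of_isFiniteType F hF (V.2.preimage f))
  · intro hF
    refine isFiniteType_of_finite_sections F (fun V : Y.affineOpens => f ⁻¹ᵁ V.1)
      (fun V => V.2.preimage f) ?_ (fun V => ?_)
    · have h := iSup_affineOpens_eq_top Y
      apply_fun (fun W => f ⁻¹ᵁ W) at h
      rw [Scheme.Hom.preimage_iSup] at h
      simpa using h
    · exact finite_sections_of_push f F (finite_sections_of_isFiniteType (push f F) hF V.2)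


end helpers


/-- Let f : X ⟶ Y be a finite morphism of schemes and F a quasi-coherent O_X-module. The pushforward
f_*F is of finite type as an O_Y-module exactly when F itself is of finite type as an O_X-module. -/
theorem result {X Y : Scheme.{u}} (f : X ⟶ Y) [IsFinite f]
    (F : X.Modules) [F.IsQuasicoherent] :
    SheafOfModules.IsFiniteType (R := X.ringCatSheaf) F ↔
      SheafOfModules.IsFiniteType (R := Y.ringCatSheaf) ((Scheme.Modules.pushforward f).obj F) := by
  exact main f F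

end Groth.Agent.S9838
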