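import Groth.Statements.S9839
import Groth.Agent.Lib.Helper4.DescOpen

set_option autoImplicit false
open CategoryTheory CategoryTheory.Limits AlgebraicGeometry Opposite
universe u
open Desc

namespace Groth.Agent.S9839

/-- Let f i : T i ⟶ T be an fpqc covering family of a scheme T (a family in the fpqc precoverage) and W
i ⊆ T i open subsets such that for all i, j the inverse images of W i and W j under the two
projections of T i ×_T T j coincide. Then there is a unique open subset W ⊆ T with (f i)⁻¹(W) = W i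
for every i. -/
theorem result {ι : Type u} {T : Scheme.{u}} {Ti : ι → Scheme.{u}}
    (f : ∀ i, Ti i ⟶ T) (hf : Presieve.ofArrows Ti f ∈ Scheme.fpqcPrecoverage T)
    (W : ∀ i, (Ti i).Opens)
    (hW : ∀ i j, (pullback.fst (f i) (f j)) ⁻¹ᵁ (W i) = (pullback.snd (f i) (f j)) ⁻¹ᵁ (W j)) :
    ∃! V : T.Opens, ∀ i, (f i) ⁻¹ᵁ V = W i := by
  classical
  let Uset : Set T := ⋃ i, (f i) '' (W i : Set (Ti i))
  have key : ∀ i, (f i) ⁻¹' Uset = (W i : Set (Ti i)) := by
    intro i
    apply Set.Subset.antisymm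
    · intro x hx
      obtain ⟨j, y, hyW, hy⟩ := Set.mem_iUnion.mp hx
      obtain ⟨t, ht1, ht2⟩ := Scheme.Pullback.exists_preimage_pullback (f := f i) (g := f j) x y hy.symm
      have h1 : t ∈ (pullback.snd (f i) (f j)) ⁻¹ᵁ (W j) := by
        change (pullback.snd (f i) (f j)) t ∈ W j
        rw [ht2]; exact hyW
      rw [← hW i j] at h1
      have h2 : (pullback.fst (f i) (f j)) t ∈ W i := h1
      rw [ht1] at h2
      exact h2
    · intro x hx
      exact Set.mem_iUnion.mpr ⟨i, x, hx, rfl⟩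
  have hopen : IsOpen Uset :=
    Groth.Agent.Lib.Helper4.DescOpen.isOpen_of_fpqc f hf Uset (fun i => by
      rw [key]; exact (W i).2)
  have hsurj : ∀ x : T, ∃ i, ∃ y : Ti i, (f i) y = x := by
    intro x
    have hf' : Presieve.ofArrows Ti f ∈
        Scheme.propQCPrecoverage (@Flat : MorphismProperty Scheme.{u}) T := hf
    obtain ⟨i, y, hy⟩ := ((Scheme.ofArrows_mem_precoverage_iff (P := @Flat)).mp hf'.2).1 x
    exact ⟨i, y, hy⟩
  refine ⟨⟨Uset, hopen⟩, fun i => ?_, fun V hV => ?_⟩
  · ext x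
    exact Set.ext_iff.mp (key i) x
  · ext x
    obtain ⟨i, y, rfl⟩ := hsurj x
    have h1 : (f i) y ∈ V ↔ y ∈ W i := by
      rw [← hV i]; rfl
    have h2 : (f i) y ∈ Uset ↔ y ∈ W i := Set.ext_iff.mp (key i) y
    exact h1.trans h2.symm

end Groth.Agent.S9839
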