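import Groth.Statements.S9841
import Groth.Agent.Lib.Helper24.SmoothReduced
-- import your own Groth.Agent.* helpers here

set_option autoImplicit false
open CategoryTheory CategoryTheory.Limits AlgebraicGeometry Opposite
universe u
open Desc

namespace Groth.Agent.S9841

/-- Being reduced is local in the smooth topology: for a jointly surjective family of smooth morphisms f
i : X i ⟶ S, the scheme S is reduced if and only if every X i is reduced. -/
theorem result {ι : Type u} {S : Scheme.{u}} {X : ι → Scheme.{u}} (f : ∀ i, X i ⟶ S)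
    (hf : Presieve.ofArrows X f ∈ Scheme.precoverage @Smooth S) :
    IsReduced S ↔ ∀ i, IsReduced (X i) := by
  obtain ⟨hsurj, hsm⟩ := (Scheme.ofArrows_mem_precoverage_iff (P := @Smooth)).1 hf
  constructor
  · intro hS i
    haveI : Smooth (f i) := hsm i
    haveI : ∀ x : X i, _root_.IsReduced ((X i).presheaf.stalk x) := fun x => by
      obtain ⟨U, hU, hyU, -⟩ := exists_isAffineOpen_mem_and_subset (X := S) (x := (f i) x)
        (U := ⊤) trivial
      obtain ⟨V, hV, hxV, hVU⟩ := exists_isAffineOpen_mem_and_subset (X := X i) (x := x)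
        (U := (f i) ⁻¹ᵁ U) hyU
      have hφ : ((f i).appLE U V hVU).hom.Smooth := Smooth.smooth_appLE (f i) hU hV hVU
      algebraize [((f i).appLE U V hVU).hom]
      haveI : Algebra.Smooth Γ(S, U) Γ(X i, V) := inferInstance
      haveI : _root_.IsReduced Γ(X i, V) :=
        Groth.Agent.Lib.Helper24.SmoothReduced.isReduced_of_smooth Γ(S, U) Γ(X i, V)
      let q : Ideal Γ(X i, V) := (hV.primeIdealOf ⟨x, hxV⟩).asIdeal
      letI := (X i).presheaf.algebra_section_stalk (⟨x, hxV⟩ : V)
      haveI iX : IsLocalization.AtPrime ((X i).presheaf.stalk x) q :=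
        hV.isLocalization_stalk ⟨x, hxV⟩
      let eX : Localization.AtPrime q ≃ₐ[Γ(X i, V)] (X i).presheaf.stalk x :=
        IsLocalization.algEquiv q.primeCompl _ _
      exact isReduced_of_injective eX.symm.toRingEquiv.toRingHom eX.symm.injective
    exact isReduced_of_isReduced_stalk (X i)
  · intro hX
    haveI : ∀ s : S, _root_.IsReduced (S.presheaf.stalk s) := fun s => by
      obtain ⟨i, x, rfl⟩ := hsurj s
      haveI : Smooth (f i) := hsm i
      haveI := hX i
      have hflat : ((f i).stalkMap x).hom.Flat := Flat.stalkMap (f i) x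
      algebraize [((f i).stalkMap x).hom]
      haveI hloc : IsLocalHom (algebraMap (S.presheaf.stalk ((f i) x)) ((X i).presheaf.stalk x)) :=
        inferInstanceAs <| IsLocalHom ((f i).stalkMap x).hom
      haveI : Module.FaithfullyFlat (S.presheaf.stalk ((f i) x)) ((X i).presheaf.stalk x) :=
        Module.FaithfullyFlat.of_flat_of_isLocalHom
      exact isReduced_of_injective (algebraMap (S.presheaf.stalk ((f i) x)) ((X i).presheaf.stalk x))
        (FaithfulSMul.algebraMap_injective _ _)
    exact isReduced_of_isReduced_stalk S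

end Groth.Agent.S9841
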