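import Groth.Statements.S9842
import Mathlib
-- import your own Groth.Agent.* helpers here

set_option autoImplicit false
open CategoryTheory CategoryTheory.Limits AlgebraicGeometry Opposite
universe u
open Desc

namespace Groth.Agent.S9842

/-- Let E/k be a field extension, Y a scheme over k and f : X ⟶ Y a morphism. Writing Y_E = Y ×_k Spec
E, the morphism f is dominant if and only if its base change X ×_Y Y_E ⟶ Y_E is dominant. -/
theorem result {k E : Type u} [Field k] [Field E] [Algebra k E]
    {X Y : Scheme.{u}} (f : X ⟶ Y) (q : Y ⟶ Spec (.of k)) :
    IsDominant f ↔
      IsDominant (pullback.snd f (pullback.fst q (Spec.map (CommRingCat.ofHom (algebraMap k E))))) := by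
  set φ := Spec.map (CommRingCat.ofHom (algebraMap k E)) with hφ
  set g := pullback.fst q φ with hg
  have hUO : UniversallyOpen φ := inferInstance
  have hgUO : UniversallyOpen g := inferInstance
  have hφs : Surjective φ := by
    constructor
    intro y
    obtain ⟨x⟩ : Nonempty (Spec (CommRingCat.of E)) := inferInstance
    exact ⟨x, Subsingleton.elim _ _⟩
  have hgs : Surjective g := inferInstance
  have hrange : Set.range (pullback.snd f g) = g ⁻¹' Set.range f :=
    Scheme.Pullback.range_snd f g
  rw [isDominant_iff, isDominant_iff, DenseRange, DenseRange, hrange]
  constructor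
  · intro h
    exact h.preimage g.isOpenMap
  · intro h
    have := g.surjective.denseRange.dense_image g.continuous h
    rwa [Set.image_preimage_eq _ g.surjective] at this

end Groth.Agent.S9842
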