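import Groth.Statements.S9843
-- import your own Groth.Agent.* helpers here

set_option autoImplicit false
open CategoryTheory CategoryTheory.Limits AlgebraicGeometry Opposite
universe u
open Desc

namespace Groth.Agent.S9843

/-- Being dominant is fppf local on the base: for every fppf covering family Y i ⟶ Y (flat, locally of
finite presentation, jointly surjective), a morphism X ⟶ Y is dominant if and only if all its base
changes X ×_Y Y i ⟶ Y i are. -/
theorem result :
    MorphismProperty.IsLocalAtTarget (@IsDominant : MorphismProperty Scheme.{u}) Scheme.fppfPrecoverage := by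
  refine .mk_of_iff_of_zeroHypercover fun {X Y} f 𝒰 => ?_
  have h𝒰 : Presieve.ofArrows 𝒰.X 𝒰.f ∈
      Scheme.precoverage (@Flat ⊓ @LocallyOfFinitePresentation) Y := 𝒰.mem₀
  rw [Scheme.ofArrows_mem_precoverage_iff] at h𝒰
  obtain ⟨hsurj, hP⟩ := h𝒰
  have hrange : ∀ i, Set.range (pullback.snd f (𝒰.f i)) = (𝒰.f i) ⁻¹' (Set.range f) := by
    intro i
    ext w
    simp only [Set.mem_range, Set.mem_preimage]
    constructor
    · rintro ⟨z, rfl⟩
      refine ⟨pullback.fst f (𝒰.f i) z, ?_⟩
      rw [← Scheme.Hom.comp_apply, ← Scheme.Hom.comp_apply, pullback.condition]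
    · rintro ⟨x, hx⟩
      obtain ⟨z, -, hz2⟩ := Scheme.Pullback.exists_preimage_pullback
        (f := f) (g := 𝒰.f i) x w hx
      exact ⟨z, hz2⟩
  constructor
  · intro hf i
    have : Flat (𝒰.f i) := (hP i).1
    have : LocallyOfFinitePresentation (𝒰.f i) := (hP i).2
    refine ⟨?_⟩
    rw [DenseRange, hrange i]
    exact hf.denseRange.preimage (𝒰.f i).isOpenMap
  · intro h
    refine ⟨?_⟩
    rw [DenseRange, dense_iff_closure_eq, Set.eq_univ_iff_forall]
    intro y
    obtain ⟨i, w, rfl⟩ := hsurj y
    have hw : w ∈ closure ((𝒰.f i) ⁻¹' (Set.range f)) := by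
      rw [← hrange i]
      exact (h i).denseRange w
    exact closure_mono (Set.image_preimage_subset _ _)
      (image_closure_subset_closure_image (𝒰.f i).continuous ⟨w, hw, rfl⟩)

end Groth.Agent.S9843
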