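import Groth.Statements.S9845
-- import your own Groth.Agent.* helpers here

set_option autoImplicit false
open CategoryTheory CategoryTheory.Limits AlgebraicGeometry Opposite
universe u
open Desc

namespace Groth.Agent.S9845

/-- Being an open morphism (open underlying map) is fppf local on the source: for every fppf covering
family g i : X i ⟶ X, a morphism f : X ⟶ Y has open underlying map if and only if every composite g
i ≫ f does. -/
theorem result :
    MorphismProperty.IsLocalAtSource (topologically (fun f => IsOpenMap f) : MorphismProperty Scheme.{u})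
      Scheme.fppfPrecoverage := by
  have : (topologically (fun f => IsOpenMap f) : MorphismProperty Scheme.{u}).RespectsIso :=
    topologically_respectsIso _ (fun e => e.isOpenMap) (fun _ _ hf hg => hg.comp hf)
  refine .mk_of_iff_of_zeroHypercover fun {X Y} f 𝒰 => ?_
  have h𝒰 : Presieve.ofArrows 𝒰.X 𝒰.f ∈
      Scheme.precoverage (@Flat ⊓ @LocallyOfFinitePresentation) X := 𝒰.mem₀
  rw [Scheme.ofArrows_mem_precoverage_iff] at h𝒰
  obtain ⟨hsurj, hP⟩ := h𝒰
  constructor
  · intro hf i
    have : Flat (𝒰.f i) := (hP i).1
    have : LocallyOfFinitePresentation (𝒰.f i) := (hP i).2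
    have hf' : IsOpenMap f := hf
    show IsOpenMap (𝒰.f i ≫ f)
    rw [Scheme.Hom.comp_base, TopCat.coe_comp]
    exact hf'.comp (𝒰.f i).isOpenMap
  · intro h U hU
    have : (f '' U : Set Y) = ⋃ i, (𝒰.f i ≫ f) '' ((𝒰.f i) ⁻¹' U) := by
      ext y
      simp only [Set.mem_image, Set.mem_iUnion, Set.mem_preimage]
      constructor
      · rintro ⟨x, hx, rfl⟩
        obtain ⟨i, w, rfl⟩ := hsurj x
        exact ⟨i, w, hx, rfl⟩
      · rintro ⟨i, w, hw, rfl⟩
        exact ⟨_, hw, rfl⟩
    rw [this]
    exact isOpen_iUnion fun i => h i _ (hU.preimage (𝒰.f i).continuous)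

end Groth.Agent.S9845
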