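import Groth.Statements.S9846
-- import your own Groth.Agent.* helpers here

set_option autoImplicit false
open CategoryTheory CategoryTheory.Limits AlgebraicGeometry Opposite
universe u
open Desc

namespace Groth.Agent.S9846

/-- Being universally open is fppf local on the source: for every fppf covering family g i : X i ⟶ X, a
morphism f : X ⟶ Y is universally open if and only if every composite g i ≫ f is. -/
theorem result :
    MorphismProperty.IsLocalAtSource (@UniversallyOpen : MorphismProperty Scheme.{u}) Scheme.fppfPrecoverage := by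
  refine .mk_of_iff_of_zeroHypercover fun {X Y} f 𝒰 => ?_
  have h𝒰 : Presieve.ofArrows 𝒰.X 𝒰.f ∈
      Scheme.precoverage (@Flat ⊓ @LocallyOfFinitePresentation) X := 𝒰.mem₀
  rw [Scheme.ofArrows_mem_precoverage_iff] at h𝒰
  obtain ⟨hsurj, hP⟩ := h𝒰
  constructor
  · intro hf i
    have : Flat (𝒰.f i) := (hP i).1
    have : LocallyOfFinitePresentation (𝒰.f i) := (hP i).2
    infer_instance
  · intro h
    rw [UniversallyOpen.eq]
    intro X' Y' i₁ i₂ f' hsq U hU
    have hopen : ∀ i, IsOpenMap (pullback.fst i₁ (𝒰.f i) ≫ f') := by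
      intro i
      have hi := h i
      rw [UniversallyOpen.eq] at hi
      exact hi _ _ _ ((IsPullback.of_hasPullback i₁ (𝒰.f i)).paste_horiz hsq)
    have : (f' '' U : Set Y') =
        ⋃ i, (pullback.fst i₁ (𝒰.f i) ≫ f') '' ((pullback.fst i₁ (𝒰.f i)) ⁻¹' U) := by
      ext y
      simp only [Set.mem_image, Set.mem_iUnion, Set.mem_preimage]
      constructor
      · rintro ⟨x, hx, rfl⟩
        obtain ⟨i, w, hw⟩ := hsurj (i₁ x)
        obtain ⟨z, hz1, -⟩ := Scheme.Pullback.exists_preimage_pullback
          (f := i₁) (g := 𝒰.f i) x w hw.symm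
        exact ⟨i, z, by rwa [hz1], by rw [Scheme.Hom.comp_apply, hz1]⟩
      · rintro ⟨i, w, hw, rfl⟩
        exact ⟨_, hw, rfl⟩
    rw [this]
    exact isOpen_iUnion fun i => hopen i _ (hU.preimage (pullback.fst i₁ (𝒰.f i)).continuous)

end Groth.Agent.S9846
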