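import Groth.Statements.S9847
import Groth.Agent.Lib.Helper5.EtaleLocalSource

set_option autoImplicit false
open CategoryTheory CategoryTheory.Limits AlgebraicGeometry Opposite
universe u
open Desc

namespace Groth.Agent.S9847

/-- Being etale is etale local on the source: for every etale covering family g i : X i ⟶ X (etale,
jointly surjective), a morphism f : X ⟶ Y is etale if and only if every composite g i ≫ f is. -/
theorem result :
    MorphismProperty.IsLocalAtSource (@Etale : MorphismProperty Scheme.{u}) Scheme.etalePrecoverage := by
  refine Groth.Agent.Lib.helper5.EtLocSrc.isLocalAtSource_etalePrecoverage _ ?_ ?_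
  · intro X Y Z e g he hg
    have := he; have := hg
    infer_instance
  · intro X' X Y f g hf hs h
    have := hf; have := hs; have := h
    exact Groth.Agent.Lib.helper5.EtSrc.etale_of_etale_comp f g

end Groth.Agent.S9847
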