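import Groth.Statements.S9862
import Groth.Agent.Lib.Helper17.SyntLocal
import Groth.Agent.Lib.Helper17.LciCM
import Groth.Agent.Lib.Helper17.FieldCM
import Groth.Agent.Lib.Helper24.FlatDepth4

set_option autoImplicit false
set_option linter.style.haveILetI false
open CategoryTheory CategoryTheory.Limits AlgebraicGeometry Opposite
universe u
open Desc

namespace Groth.Agent.S9862

/-- Being Cohen-Macaulay is local in the syntomic topology: for a jointly surjective family of syntomic
morphisms f i : X i ⟶ S, the scheme S is locally Noetherian with Cohen-Macaulay local rings if and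
only if every X i is. -/
theorem result {ι : Type u} {S : Scheme.{u}} {X : ι → Scheme.{u}} (f : ∀ i, X i ⟶ S)
    (hsurj : ∀ s : S, ∃ i, s ∈ Set.range (f i).base) (hsyn : ∀ i, Synt.IsSyntomicMor (f i)) :
    (IsLocallyNoetherian S ∧ ∀ s : S, LocCoh.IsCohenMacaulayLocalRing (S.presheaf.stalk s)) ↔
      ∀ i, IsLocallyNoetherian (X i) ∧ ∀ x : X i, LocCoh.IsCohenMacaulayLocalRing ((X i).presheaf.stalk x) := by
  refine Groth.Agent.Lib.helper17.SyntLocal.syntomic_local
    (fun R _ => LocCoh.IsCohenMacaulayLocalRing R) ?_ ?_ ?_ f hsurj hsyn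
  · intro R R' _ _ e h
    haveI := h
    exact Groth.Agent.S9808.cm_of_ringEquiv e
  · intro A B _ _ _ _ hsy hA q hq
    obtain ⟨hfl, hfp, hfib⟩ := hsy
    haveI : LocCoh.IsCohenMacaulayRing A := { isCohenMacaulayLocalRing_localization := hA }
    haveI : Algebra.FiniteType A B := inferInstance
    haveI : IsNoetherianRing B := Algebra.FiniteType.isNoetherianRing A B
    have hB : LocCoh.IsCohenMacaulayRing B :=
      Groth.Agent.Lib.helper17.FieldCM.isCohenMacaulayRing_of_flat_of_fibres A B
        (fun p hp => Groth.Agent.Lib.helper17.LciCM.isCohenMacaulayRing_of_isLCIOver _ _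
          (hfib ⟨p, hp⟩))
    exact hB.isCohenMacaulayLocalRing_localization q
  · intro R S _ _ _ _ _ _ _ _ _ h
    haveI := h
    exact ((Groth.Agent.Lib.Helper24.FlatDepth.cm_iff_of_flat R S).mp h).1

end Groth.Agent.S9862
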