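import Groth.Statements.S9863
import Groth.Agent.Lib.Helper17.SyntLocal
import Groth.Agent.Lib.Helper17.SkSynt

set_option autoImplicit false
set_option linter.style.haveILetI false
open CategoryTheory CategoryTheory.Limits AlgebraicGeometry Opposite
universe u
open Desc

namespace Groth.Agent.S9863

/-- The property 'locally Noetherian and (S_k)' is local in the syntomic topology: for a jointly
surjective family of syntomic morphisms f i : X i ⟶ S and k a natural number, S is locally
Noetherian with all local rings satisfying Serre's condition (S_k) if and only if every X i is. -/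
theorem result {ι : Type u} {S : Scheme.{u}} {X : ι → Scheme.{u}} (f : ∀ i, X i ⟶ S)
    (hsurj : ∀ s : S, ∃ i, s ∈ Set.range (f i).base) (hsyn : ∀ i, Synt.IsSyntomicMor (f i)) (k : ℕ) :
    (IsLocallyNoetherian S ∧ ∀ s : S, LocCoh.HasSk k (S.presheaf.stalk s) (S.presheaf.stalk s)) ↔
      ∀ i, IsLocallyNoetherian (X i) ∧ ∀ x : X i, LocCoh.HasSk k ((X i).presheaf.stalk x) ((X i).presheaf.stalk x) := by
  have hiso : ∀ (R R' : Type u) [CommRing R] [CommRing R'], (R ≃+* R') →
      (IsNoetherianRing R → LocCoh.HasSk k R R) → (IsNoetherianRing R' → LocCoh.HasSk k R' R') := by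
    intro R R' _ _ e h hN'
    haveI : IsNoetherianRing R := isNoetherianRing_of_ringEquiv R' e.symm
    exact Groth.Agent.Lib.Helper24.FibreFF.hasSk_of_faithfullyFlat_ringHom k e.symm.toRingHom
      (RingHom.FaithfullyFlat.of_bijective e.symm.bijective) (h inferInstance)
  have hasc : ∀ (A B : Type u) [CommRing A] [CommRing B] [Algebra A B] [IsNoetherianRing A],
      Synt.IsSyntomic A B → (∀ (p : Ideal A) [p.IsPrime], IsNoetherianRing (Localization.AtPrime p) →
        LocCoh.HasSk k (Localization.AtPrime p) (Localization.AtPrime p)) →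
      ∀ (q : Ideal B) [q.IsPrime], IsNoetherianRing (Localization.AtPrime q) →
        LocCoh.HasSk k (Localization.AtPrime q) (Localization.AtPrime q) := by
    intro A B _ _ _ _ hsy hA q hq _
    have hA' : LocCoh.HasSk k A A := by
      rw [Groth.Agent.Lib.Helper24.HensDepth.hasSk_iff_skAt]
      intro p hp
      exact Groth.Agent.Lib.helper17.SkSynt.skAt_of_hasSk_localization k A p
        (hA p (IsLocalization.isNoetherianRing p.primeCompl _ inferInstance))
    obtain ⟨hNB, hB⟩ := Groth.Agent.Lib.helper17.SkSynt.hasSk_of_isSyntomic k A B hsy hA'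
    exact Groth.Agent.Lib.Helper24.SerreNormal.hasSk_localization B q k hB
  have hdesc : ∀ (R S : Type u) [CommRing R] [CommRing S] [Algebra R S] [IsLocalRing R]
      [IsLocalRing S] [IsNoetherianRing R] [IsNoetherianRing S] [IsLocalHom (algebraMap R S)]
      [Module.Flat R S], (IsNoetherianRing S → LocCoh.HasSk k S S) →
        (IsNoetherianRing R → LocCoh.HasSk k R R) := by
    intro R S _ _ _ _ _ _ _ _ _ h _
    haveI : Module.FaithfullyFlat R S := Module.FaithfullyFlat.of_flat_of_isLocalHom
    exact Groth.Agent.Lib.Helper24.SkDescent.hasSk_of_faithfullyFlat k R S (h inferInstance)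
  have key := Groth.Agent.Lib.helper17.SyntLocal.syntomic_local
    (fun R _ => IsNoetherianRing R → LocCoh.HasSk k R R) hiso hasc hdesc f hsurj hsyn
  constructor
  · rintro ⟨hN, hS⟩
    have h1 := key.mp ⟨hN, fun s _ => hS s⟩
    intro i
    haveI := (h1 i).1
    exact ⟨(h1 i).1, fun x => (h1 i).2 x inferInstance⟩
  · intro h
    have h1 := key.mpr (fun i => ⟨(h i).1, fun x _ => (h i).2 x⟩)
    haveI := h1.1
    exact ⟨h1.1, fun s => h1.2 s inferInstance⟩

end Groth.Agent.S9863
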