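import Groth.Statements.S9867
import Groth.Agent.Lib.Helper4.AffineDescent
import Groth.Agent.Lib.Helper4.FppfFamDescent

set_option autoImplicit false
open CategoryTheory CategoryTheory.Limits AlgebraicGeometry Opposite
universe u
open Desc

namespace Groth.Agent.S9867

/-- Being finite locally free (finite, flat and locally of finite presentation), and being finite
locally free of a given degree d, are fpqc local on the base; the descent directions, stated as
descent along surjective flat quasi-compact morphisms: if the base change of f along such a morphism
is finite locally free then so is f, and if moreover that base change has constant rank d (Mathlib's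
rank function of a finite flat morphism) then f has constant rank d. (With Zariski-locality on the
target these give the statements for arbitrary fpqc coverings; stability under base change is the
other direction.) -/
theorem result :
    MorphismProperty.DescendsAlong (fun _ _ f => Mor2.IsFinLocFree f : MorphismProperty Scheme.{u})
      (@Surjective ⊓ @Flat ⊓ @QuasiCompact : MorphismProperty Scheme.{u}) ∧
    ∀ d : ℕ, MorphismProperty.DescendsAlong (fun _ _ f => Mor2.IsFinLocFreeOfDeg d f : MorphismProperty Scheme.{u})
      (@Surjective ⊓ @Flat ⊓ @QuasiCompact : MorphismProperty Scheme.{u}) := by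
  have hfin := Groth.Agent.Lib.Helper4.AffineDescent.isFinite_descendsAlong_fpqc.{u}
  have hflat := Groth.Agent.Lib.helper4.FppfFamDescent.flat_descendsAlong_fpqc.{u}
  have h1 : MorphismProperty.DescendsAlong (fun _ _ f => Mor2.IsFinLocFree f : MorphismProperty Scheme.{u})
      (@Surjective ⊓ @Flat ⊓ @QuasiCompact : MorphismProperty Scheme.{u}) := by
    refine ⟨fun {A X Y Z fst snd f g} h hf hfst => ?_⟩
    exact ⟨MorphismProperty.of_isPullback_of_descendsAlong (P := @IsFinite) h hf hfst.1,
      MorphismProperty.of_isPullback_of_descendsAlong (P := @Flat) h hf hfst.2.1,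
      MorphismProperty.of_isPullback_of_descendsAlong (P := @LocallyOfFinitePresentation) h hf hfst.2.2⟩
  refine ⟨h1, fun d => ⟨fun {A X Y Z fst snd f g} h hf hfst => ?_⟩⟩
  have hg : Mor2.IsFinLocFree g := h1.of_isPullback h hf hfst.1
  refine ⟨hg, fun z => ?_⟩
  haveI : Surjective f := hf.1.1
  obtain ⟨x, rfl⟩ := f.surjective z
  haveI : IsFinite g := hg.1
  haveI : Flat g := hg.2.1
  rw [← Scheme.Hom.finrank_of_isPullback snd fst g f h.flip x]
  exact hfst.2 x

end Groth.Agent.S9867
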