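import Groth.Statements.S9871
import Mathlib

set_option autoImplicit false
universe u
open CategoryTheory CategoryTheory.Limits AlgebraicGeometry
open AlgSp

namespace Groth.Agent.S9871

section Aux
open CategoryTheory CategoryTheory.Limits

variable {C : Type*} [Category C]

/-- The restriction `R'` of a relation `R` along `g` is the base change of `g` along
`U' ×_{g,U,s} R ⟶ R ⟶ U`. -/
theorem isPullback_restrict_aux {R U R' U' : C} (s t : R ⟶ U) (g : U' ⟶ U) (s' t' : R' ⟶ U')
    (r : R' ⟶ R) [HasPullback g s] (w1 : t' ≫ g = r ≫ t) (w2 : s' ≫ g = r ≫ s)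
    (hlift : ∀ (T : C) (a b : T ⟶ U') (ρ : T ⟶ R), a ≫ g = ρ ≫ t → b ≫ g = ρ ≫ s →
      ∃ l : T ⟶ R', l ≫ t' = a ∧ l ≫ s' = b ∧ l ≫ r = ρ)
    (hext : ∀ (T : C) (l₁ l₂ : T ⟶ R'), l₁ ≫ t' = l₂ ≫ t' → l₁ ≫ s' = l₂ ≫ s' →
      l₁ ≫ r = l₂ ≫ r → l₁ = l₂) :
    IsPullback (pullback.lift s' r w2) t' (pullback.snd g s ≫ t) g := by
  refine ⟨⟨by rw [pullback.lift_snd_assoc, w1]⟩, ⟨PullbackCone.IsLimit.mk _
    (fun c => (hlift c.pt c.snd (c.fst ≫ pullback.fst g s) (c.fst ≫ pullback.snd g s)
      (by rw [Category.assoc]; exact c.condition.symm)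
      (by rw [Category.assoc, Category.assoc, pullback.condition])).choose) ?_ ?_ ?_⟩⟩
  · intro c
    obtain ⟨h1, h2, h3⟩ := (hlift c.pt c.snd (c.fst ≫ pullback.fst g s) (c.fst ≫ pullback.snd g s)
      (by rw [Category.assoc]; exact c.condition.symm)
      (by rw [Category.assoc, Category.assoc, pullback.condition])).choose_spec
    apply pullback.hom_ext
    · rw [Category.assoc, pullback.lift_fst, h2]
    · rw [Category.assoc, pullback.lift_snd, h3]
  · intro c
    exact (hlift c.pt c.snd (c.fst ≫ pullback.fst g s) (c.fst ≫ pullback.snd g s)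
      (by rw [Category.assoc]; exact c.condition.symm)
      (by rw [Category.assoc, Category.assoc, pullback.condition])).choose_spec.1
  · intro c m hm1 hm2
    obtain ⟨h1, h2, h3⟩ := (hlift c.pt c.snd (c.fst ≫ pullback.fst g s) (c.fst ≫ pullback.snd g s)
      (by rw [Category.assoc]; exact c.condition.symm)
      (by rw [Category.assoc, Category.assoc, pullback.condition])).choose_spec
    apply hext
    · rw [hm2, h1]
    · rw [h2, ← hm1, Category.assoc, pullback.lift_fst]
    · rw [h3, ← hm1, Category.assoc, pullback.lift_snd]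

end Aux


/-- Let `s, t : R ⟶ U` be an etale equivalence relation on a scheme `U` over `S` and let `g : U' ⟶ U` be
an etale morphism over `S`. Let `s', t' : R' ⟶ U'` be the restriction to `U'`: `R'`, with `(t', s')`
and `R' ⟶ R`, is the fibre product of `U' ×_S U'` and `R` over `U ×_S U`. Then `s', t'` is again an
etale equivalence relation. -/
theorem result (S : Scheme.{u}) {R U R' U' : Over S} (s t : R ⟶ U)
    (g : U' ⟶ U) (s' t' : R' ⟶ U') (r : R' ⟶ R)
    (hsq : IsPullback (prod.lift t' s') r (prod.map g g) (prod.lift t s))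
    (h : AlgSp.IsEtaleEqvRel s t) [Etale g.left] :
    AlgSp.IsEtaleEqvRel s' t' := by
  have w1 : t' ≫ g = r ≫ t := by
    have := congrArg (fun k => k ≫ prod.fst) hsq.w
    simp only [Category.assoc, Limits.prod.map_fst, Limits.prod.lift_fst] at this
    rw [Limits.prod.lift_fst_assoc] at this
    exact this
  have w2 : s' ≫ g = r ≫ s := by
    have := congrArg (fun k => k ≫ prod.snd) hsq.w
    simp only [Category.assoc, Limits.prod.map_snd, Limits.prod.lift_snd] at this
    rw [Limits.prod.lift_snd_assoc] at this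
    exact this
  have hlift : ∀ (T : Over S) (a b : T ⟶ U') (ρ : T ⟶ R), a ≫ g = ρ ≫ t → b ≫ g = ρ ≫ s →
      ∃ l : T ⟶ R', l ≫ t' = a ∧ l ≫ s' = b ∧ l ≫ r = ρ := by
    intro T a b ρ ha hb
    have hw : prod.lift a b ≫ prod.map g g = ρ ≫ prod.lift t s := by
      apply Limits.prod.hom_ext
      · rw [Category.assoc, Category.assoc, Limits.prod.map_fst, Limits.prod.lift_fst,
          Limits.prod.lift_fst_assoc, ha]
      · rw [Category.assoc, Category.assoc, Limits.prod.map_snd, Limits.prod.lift_snd,
          Limits.prod.lift_snd_assoc, hb]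
    refine ⟨hsq.lift (prod.lift a b) ρ hw, ?_, ?_, hsq.lift_snd _ _ hw⟩
    · have := congrArg (fun k => k ≫ prod.fst) (hsq.lift_fst (prod.lift a b) ρ hw)
      simp only [Category.assoc, Limits.prod.lift_fst] at this
      exact this
    · have := congrArg (fun k => k ≫ prod.snd) (hsq.lift_fst (prod.lift a b) ρ hw)
      simp only [Category.assoc, Limits.prod.lift_snd] at this
      exact this
  have hext : ∀ (T : Over S) (l₁ l₂ : T ⟶ R'), l₁ ≫ t' = l₂ ≫ t' → l₁ ≫ s' = l₂ ≫ s' →
      l₁ ≫ r = l₂ ≫ r → l₁ = l₂ := by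
    intro T l₁ l₂ h1 h2 h3
    apply hsq.hom_ext
    · apply Limits.prod.hom_ext
      · rw [Category.assoc, Category.assoc, Limits.prod.lift_fst, h1]
      · rw [Category.assoc, Category.assoc, Limits.prod.lift_snd, h2]
    · exact h3
  have sqA := isPullback_restrict_aux s t g s' t' r w1 w2 hlift hext
  have sqB := isPullback_restrict_aux t s g t' s' r w2 w1
    (fun T a b ρ ha hb => by
      obtain ⟨l, h1, h2, h3⟩ := hlift T b a ρ hb ha
      exact ⟨l, h2, h1, h3⟩)
    (fun T l₁ l₂ h1 h2 h3 => hext T l₁ l₂ h2 h1 h3)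
  have hetS : Etale s.left := h.etale_left
  have hetT : Etale t.left := h.etale_right
  have key : ∀ {A B : Over S} (m : A ⟶ B) {X Y : Over S} (q : X ⟶ Y) (f : B ⟶ Y) (p : A ⟶ X),
      IsPullback m p f q → Etale q.left → Etale m.left := by
    intro A B m X Y q f p sq hq
    have sq' : IsPullback m.left p.left f.left q.left := sq.map (Over.forget S)
    exact MorphismProperty.of_isPullback (P := @Etale) sq'.flip hq
  refine { injective := ?_, equivalence := ?_, etale_left := ?_, etale_right := ?_ }
  · intro T l₁ l₂ h1 h2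
    refine hext T l₁ l₂ h1 h2 ?_
    apply h.injective
    · rw [Category.assoc, Category.assoc, ← w1, ← Category.assoc, ← Category.assoc, h1]
    · rw [Category.assoc, Category.assoc, ← w2, ← Category.assoc, ← Category.assoc, h2]
  · intro T
    have keyE : ∀ a b : T ⟶ U', (∃ l : T ⟶ R', l ≫ t' = a ∧ l ≫ s' = b) ↔
        ∃ ρ : T ⟶ R, ρ ≫ t = a ≫ g ∧ ρ ≫ s = b ≫ g := by
      intro a b
      constructor
      · rintro ⟨l, rfl, rfl⟩
        exact ⟨l ≫ r, by rw [Category.assoc, Category.assoc, w1],
          by rw [Category.assoc, Category.assoc, w2]⟩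
      · rintro ⟨ρ, h1, h2⟩
        obtain ⟨l, h1', h2', -⟩ := hlift T a b ρ h1.symm h2.symm
        exact ⟨l, h1', h2'⟩
    have hE := h.equivalence T
    exact ⟨fun x => (keyE x x).2 (hE.refl _),
      fun {x y} hxy => (keyE y x).2 (hE.symm ((keyE x y).1 hxy)),
      fun {x y z} hxy hyz => (keyE x z).2 (hE.trans ((keyE x y).1 hxy) ((keyE y z).1 hyz))⟩
  · -- s' = lift ≫ fst
    have e : s' = pullback.lift s' r w2 ≫ pullback.fst g s := (pullback.lift_fst _ _ _).symm
    have h1 : Etale (pullback.lift s' r w2).left := key _ g _ t' sqA inferInstance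
    have h2 : Etale (pullback.fst g s).left :=
      key _ s g (pullback.snd g s) (IsPullback.of_hasPullback g s) hetS
    rw [e, Over.comp_left]
    infer_instance
  · have e : t' = pullback.lift t' r w1 ≫ pullback.fst g t := (pullback.lift_fst _ _ _).symm
    have h1 : Etale (pullback.lift t' r w1).left := key _ g _ s' sqB inferInstance
    have h2 : Etale (pullback.fst g t).left :=
      key _ t g (pullback.snd g t) (IsPullback.of_hasPullback g t) hetT
    rw [e, Over.comp_left]
    infer_instance

end Groth.Agent.S9871
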