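import Groth.Statements.S9872
import Groth.Agent.S9885
import Mathlib.CategoryTheory.Sites.RegularEpi

set_option autoImplicit false
universe u
open CategoryTheory CategoryTheory.Limits AlgebraicGeometry
open AlgSp

namespace Groth.Agent.S9872

/-- Let `F` be an algebraic space over `S`, `p : h_U ⟶ F` representable etale and representable
surjective with `U` a scheme over `S`, and let `s, t : R ⟶ U` over `S` be such that `h_R`, with
`h_t` and `h_s`, is the fibre product `h_U ×_F h_U`. Then `s, t` is an etale equivalence relation on
`U` over `S`, and `p` exhibits `F` as the coequalizer of `h_t, h_s : h_R ⟶ h_U` in fppf sheaves of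
sets over `S`. -/
theorem result (S : Scheme.{u}) (F : AlgSp.Sp S) (hF : AlgSp.IsAlgSpace F)
    {R U : Over S} (p : (AlgSp.yon S).obj U ⟶ F) (he : AlgSp.RepWith @Etale p)
    (hs : AlgSp.RepWith @Surjective p) (s t : R ⟶ U)
    (sq : IsPullback ((AlgSp.yon S).map t) ((AlgSp.yon S).map s) p p) :
    AlgSp.IsEtaleEqvRel s t ∧ Nonempty (IsColimit (Cofork.ofπ p sq.w)) := by
  have hflat : AlgSp.RepWith @Flat p := ⟨he.1, fun _ _ g fst snd sq' => by
    have : Etale snd.left := he.2 g fst snd sq'
    exact (inferInstance : Flat snd.left)⟩
  have hlfp : AlgSp.RepWith @LocallyOfFinitePresentation p := ⟨he.1, fun _ _ g fst snd sq' => by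
    have : Etale snd.left := he.2 g fst snd sq'
    exact (inferInstance : LocallyOfFinitePresentation snd.left)⟩
  have hls : Sheaf.IsLocallySurjective p := Groth.Agent.S9885.result S _ _ p hflat hlfp hs
  haveI : Epi p := (Sheaf.isLocallySurjective_iff_epi p).1 hls
  haveI : IsRegularEpi p := IsRegularEpiCategory.regularEpiOfEpi p
  have hk : IsKernelPair p ((AlgSp.yon S).map t) ((AlgSp.yon S).map s) := sq
  refine ⟨?_, ⟨hk.toCoequalizer'⟩⟩
  exact
    { injective := fun T r r' h1 h2 => by
        apply (AlgSp.yon S).map_injective
        apply sq.hom_ext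
        · rw [← Functor.map_comp, ← Functor.map_comp, h1]
        · rw [← Functor.map_comp, ← Functor.map_comp, h2]
      equivalence := fun T => by
        have key : ∀ x y : T ⟶ U, (∃ r : T ⟶ R, r ≫ t = x ∧ r ≫ s = y) ↔
            (AlgSp.yon S).map x ≫ p = (AlgSp.yon S).map y ≫ p := by
          intro x y
          constructor
          · rintro ⟨r, rfl, rfl⟩
            rw [Functor.map_comp, Functor.map_comp, Category.assoc, Category.assoc, sq.w]
          · intro h
            obtain ⟨r, hr⟩ := (AlgSp.yon S).map_surjective (sq.lift _ _ h)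
            refine ⟨r, ?_, ?_⟩
            · apply (AlgSp.yon S).map_injective
              rw [Functor.map_comp, hr, sq.lift_fst]
            · apply (AlgSp.yon S).map_injective
              rw [Functor.map_comp, hr, sq.lift_snd]
        exact ⟨fun x => (key x x).2 rfl, fun {x y} h => (key y x).2 ((key x y).1 h).symm,
          fun {x y z} h1 h2 => (key x z).2 (((key x y).1 h1).trans ((key y z).1 h2))⟩
      etale_left := he.2 p _ s sq
      etale_right := he.2 p _ t sq.flip }

end Groth.Agent.S9872
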