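import Groth.Statements.S9873
import Groth.Agent.Lib.Helper1.BootE

set_option autoImplicit false
universe u
open CategoryTheory CategoryTheory.Limits AlgebraicGeometry
open AlgSp

namespace Groth.Agent.S9873

open Groth.Agent.H1.Boot

theorem main (S : Scheme.{u}) (X : AlgSp.Space S) (F : AlgSp.Sp S)
    (f : X.obj ⟶ F) (he : AlgSp.RepWith @Etale f) (hs : AlgSp.RepWith @Surjective f) :
    AlgSp.IsAlgSpace F := by
  obtain ⟨U, p₀, hp₀e, hp₀s⟩ := X.property.atlas
  let a : (yon S).obj U ⟶ F := p₀ ≫ f
  have hae : RepWith @Etale a := (RepWith (S := S) @Etale).comp_mem _ _ hp₀e he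
  have has : RepWith @Surjective a := (RepWith (S := S) @Surjective).comp_mem _ _ hp₀s hs
  haveI : Epi a := Groth.Agent.Lib.helper5.epi_of_etale_surjective a hae has
  obtain ⟨R, snd, fst, sq⟩ := hae.rep a
  obtain ⟨r₁, rfl⟩ := (yon S).map_surjective fst
  have h1 : Etale r₁.left := hae.2 a ((yon S).map snd) r₁ sq.flip
  haveI : LocallyOfFiniteType r₁.left := inferInstance
  exact ⟨representable_diag_of_kernelPair a r₁ snd sq, U, a, hae, has⟩

/-- Let `X` be an algebraic space over `S`, `F` an fppf sheaf of sets over `S`, and `f : X ⟶ F` a map of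
sheaves which is representable by schemes, etale and surjective (in the representable sense). Then
`F` is an algebraic space over `S`; in particular an fppf sheaf receiving a representable etale
surjective map from a scheme is an algebraic space. -/
theorem result (S : Scheme.{u}) (X : AlgSp.Space S) (F : AlgSp.Sp S)
    (f : X.obj ⟶ F) (he : AlgSp.RepWith @Etale f) (hs : AlgSp.RepWith @Surjective f) :
    AlgSp.IsAlgSpace F := by
  exact main S X F f he hs

end Groth.Agent.S9873
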