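import Groth.Statements.S9876
import Groth.Agent.Lib.Helper1.AlgSpBootstrap

set_option autoImplicit false
universe u
open CategoryTheory CategoryTheory.Limits AlgebraicGeometry
open AlgSp

namespace Groth.Agent.S9876

/-- Let `X` be an algebraic space over `S` and `G` a presheaf of sets on schemes over `S` with a map `a
: G ⟶ X` of presheaves which is representable by schemes. Then `G` is an fppf sheaf and an algebraic
space over `S`. -/
theorem result (S : Scheme.{u}) (X : AlgSp.Space S)
    (G : AlgSp.PSp S) (a : G ⟶ X.obj.obj) (ha : (AlgSp.pyon S).relativelyRepresentable a) :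
    AlgSp.IsAlgSpaceP G := by
  have hrep : AlgSp.RepBySp a := by
    intro U ξ F' fst snd sq
    obtain ⟨V, v, fst', sq'⟩ := ha ξ
    exact (Groth.Agent.H1.AlgSpBootstrap.isAlgSpaceP_pyon V).of_iso (sq'.isoIsPullback _ _ sq)
  exact Groth.Agent.H1.AlgSpBootstrap.isAlgSpaceP_of_repBySp a hrep
    ((AlgSp.isAlgSpaceP_obj_iff X.obj).2 X.property)

end Groth.Agent.S9876
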