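import Groth.Statements.S9879
import Groth.Agent.Lib.Helper5.AlgSpCoprod3

set_option autoImplicit false
universe u
open CategoryTheory CategoryTheory.Limits AlgebraicGeometry
open AlgSp

namespace Groth.Agent.S9879

/-- Let `U` be a scheme over `S` and `F_i` a family of fppf sheaves of sets over `S` whose coproduct in
sheaves is isomorphic to `h_U`. Then each `F_i` is representable by a scheme `V_i` over `S` such
that `V_i ⟶ U` (the morphism inducing `h_{V_i} ≅ F_i ⟶ ∐ F_i ≅ h_U`) is an open and closed
immersion, and `U` is the coproduct of the `V_i` in schemes. -/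
theorem result (S : Scheme.{u}) (U : Over S) {ι : Type u}
    (F : ι → AlgSp.Sp S) (c : Cofan F) (hc : IsColimit c) (e : c.pt ≅ (AlgSp.yon S).obj U) :
    ∃ (V : ι → Over S) (g : ∀ i, V i ⟶ U) (ei : ∀ i, (AlgSp.yon S).obj (V i) ≅ F i),
      (∀ i, IsOpenImmersion (g i).left ∧ IsClosedImmersion (g i).left) ∧
      (∀ i, (ei i).hom ≫ c.inj i ≫ e.hom = (AlgSp.yon S).map (g i)) ∧
      Nonempty (IsColimit (Cofan.mk U.left (fun i => (g i).left))) := by
  have hrep := fun i => Groth.Agent.Lib.helper5.Coprod.repWith_openClosed_inj F c hc i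
  choose V g fst sq using fun i => (hrep i).1 e.inv
  have hiso : ∀ i, IsIso (fst i) := fun i => (sq i).isIso_fst_of_isIso
  have hP := fun i => (hrep i).2 e.inv (fst i) (g i) (sq i)
  have hw : ∀ i, fst i ≫ c.inj i ≫ e.hom = (AlgSp.yon S).map (g i) := by
    intro i
    rw [← Category.assoc, (sq i).w, Category.assoc, e.inv_hom_id, Category.comp_id]
  refine ⟨V, g, fun i => asIso (fst i), fun i => hP i, fun i => hw i, ?_⟩
  have : ∀ i, IsOpenImmersion (g i).left := fun i => (hP i).1
  apply nonempty_isColimit_cofanMk_of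
  · -- covering
    set W : U.left.Opens := ⨆ i, (g i).left.opensRange with hW
    have hle : ∀ i, Set.range (g i).left ⊆ Set.range W.ι := by
      intro i
      rw [Scheme.Opens.range_ι]
      intro x hx
      have : (g i).left.opensRange ≤ W := le_iSup (fun i => (g i).left.opensRange) i
      exact this hx
    let g' : ∀ i, V i ⟶ Over.mk (W.ι ≫ U.hom) := fun i =>
      Over.homMk (IsOpenImmersion.lift W.ι (g i).left (hle i)) (by
        simp only [Over.mk_left, Over.mk_hom]
        rw [← Category.assoc, IsOpenImmersion.lift_fac]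
        exact Over.w (g i))
    have hg' : ∀ i, g' i ≫ (Over.homMk W.ι rfl : Over.mk (W.ι ≫ U.hom) ⟶ U) = g i := by
      intro i
      ext1
      simp only [Over.comp_left]
      exact IsOpenImmersion.lift_fac _ _ _
    let d : c.pt ⟶ (AlgSp.yon S).obj (Over.mk (W.ι ≫ U.hom)) :=
      hc.desc (Cofan.mk _ (fun i => inv (fst i) ≫ (AlgSp.yon S).map (g' i)))
    have hd : d ≫ (AlgSp.yon S).map ((Over.homMk W.ι rfl : Over.mk (W.ι ≫ U.hom) ⟶ U)) = e.hom := by
      apply hc.hom_ext
      rintro ⟨i⟩
      rw [← Category.assoc, hc.fac]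
      simp only [Cofan.mk_pt, Cofan.mk_ι_app, Category.assoc]
      rw [← Functor.map_comp, hg', ← hw i, IsIso.inv_hom_id_assoc]
      rfl
    let s : U ⟶ Over.mk (W.ι ≫ U.hom) := (AlgSp.yon S).preimage (e.inv ≫ d)
    have hs : s ≫ (Over.homMk W.ι rfl : Over.mk (W.ι ≫ U.hom) ⟶ U) = 𝟙 U := by
      apply (AlgSp.yon S).map_injective
      rw [Functor.map_comp, Functor.map_preimage, Category.assoc, hd, e.inv_hom_id]
      exact ((AlgSp.yon S).map_id U).symm
    rw [eq_top_iff]
    intro x _
    have hx : (s.left ≫ W.ι) x = x := by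
      have := congrArg (fun k => k.left) hs
      simp only [Over.comp_left, Over.id_left] at this
      have h2 : s.left ≫ W.ι = 𝟙 U.left := this
      rw [h2]
      rfl
    rw [← hx, Scheme.Hom.comp_apply]
    exact (s.left x).2
  · -- disjointness
    intro i j hij
    rw [Function.onFun, disjoint_iff]
    ext x
    simp only [TopologicalSpace.Opens.coe_inf, Scheme.Hom.coe_opensRange, Set.mem_inter_iff,
      TopologicalSpace.Opens.coe_bot, Set.mem_empty_iff_false, iff_false, not_and]
    rintro ⟨a, ha⟩ ⟨b, hb⟩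
    obtain ⟨z, hz1, hz2⟩ := Scheme.Pullback.exists_preimage_pullback a b (ha.trans hb.symm)
    let Z : Over S := Over.mk (pullback.fst (g i).left (g j).left ≫ (V i).hom)
    let p1 : Z ⟶ V i := Over.homMk (pullback.fst (g i).left (g j).left) rfl
    let p2 : Z ⟶ V j := Over.homMk (pullback.snd (g i).left (g j).left) (by
      simp only [Over.mk_left, Over.mk_hom, Z]
      rw [← Over.w (g i), ← Over.w (g j), ← Category.assoc, ← Category.assoc, pullback.condition])
    have hp : p1 ≫ g i = p2 ≫ g j := by
      ext1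
      simp only [Over.comp_left]
      exact pullback.condition
    have hemp := Groth.Agent.Lib.helper5.Coprod.isEmpty_of_inj_eq F c hc (i := i) (j := j) (Ne.symm hij)
      (Z := Z) ((AlgSp.yon S).map p1 ≫ fst i) ((AlgSp.yon S).map p2 ≫ fst j) (by
        simp only [Category.assoc]
        rw [(sq i).w, (sq j).w, ← Category.assoc, ← Category.assoc, ← Functor.map_comp,
          ← Functor.map_comp, hp])
    exact hemp.false z

end Groth.Agent.S9879
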