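import Groth.Statements.S9883
-- import your own Groth.Agent.* helpers here

set_option autoImplicit false
universe u
open CategoryTheory CategoryTheory.Limits AlgebraicGeometry
open AlgSp

namespace Groth.Agent.S9883

/-- fppf descent along a single flat, locally finitely presented, surjective morphism. -/
theorem descend {P : MorphismProperty Scheme.{u}} [P.IsLocalAtTarget Scheme.fppfPrecoverage]
    {X Y Y' X' : Scheme.{u}} {f : X ⟶ Y} {t : Y' ⟶ Y} [Flat t] [LocallyOfFinitePresentation t]
    [Surjective t] {a : X' ⟶ X} {b : X' ⟶ Y'} (sq : IsPullback a b f t) (hb : P b) : P f := by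
  refine MorphismProperty.IsLocalAtTarget.of_forall_pullbackSnd (K := Scheme.fppfPrecoverage)
    (t.singleton_mem_fppfPrecoverage) ?_
  rintro U g' _ ⟨⟩
  rw [← sq.isoPullback_inv_snd]
  exact (P.cancel_left_of_respectsIso _ _).2 hb

/-- Let `f : Y ⟶ X` be a morphism of algebraic spaces over `S` which is representable by schemes, let `q
: h_U ⟶ X` be representable etale and surjective with `U` a scheme over `S`, and let `h_V ⟶ Y`, `g :
V ⟶ U` be a base change of `f` along `q`. Let `P` be a property of morphisms of schemes which is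
stable under base change and fppf local on the base. Then `f` has `P` (in the representable sense)
if and only if `g` has `P`. -/
theorem result (S : Scheme.{u}) (X Y : AlgSp.Space S) (f : Y.obj ⟶ X.obj)
    (hf : AlgSp.Representable f) {U V : Over S} (q : (AlgSp.yon S).obj U ⟶ X.obj)
    (hqe : AlgSp.RepWith @Etale q) (hqs : AlgSp.RepWith @Surjective q)
    (fst : (AlgSp.yon S).obj V ⟶ Y.obj) (g : V ⟶ U) (sq : IsPullback fst ((AlgSp.yon S).map g) f q)
    (P : MorphismProperty Scheme.{u}) [P.IsStableUnderBaseChange] [P.IsLocalAtTarget Scheme.fppfPrecoverage] :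
    AlgSp.RepWith P f ↔ P g.left := by
  constructor
  · intro h
    exact h.2 q fst g sq
  · intro hg
    refine ⟨hf, ?_⟩
    intro T W h fst_h s sqh
    -- pull back the chart `q` along `h`
    obtain ⟨T', t, fst_q, sqq⟩ := hqe.rep h
    obtain ⟨β, rfl⟩ := (AlgSp.yon S).map_surjective fst_q
    have hte : Etale t.left := hqe.2 _ _ t sqq
    have hts : Surjective t.left := hqs.2 _ _ t sqq
    -- the fibre product of `s` and `t` in `Over S`
    have sq1 : IsPullback (pullback.fst s t) (pullback.snd s t) s t := IsPullback.of_hasPullback s t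
    have sq2 := (sq1.map (AlgSp.yon S)).paste_horiz sqh
    have e : (AlgSp.yon S).map t ≫ h = (AlgSp.yon S).map β ≫ q := sqq.w.symm
    rw [e] at sq2
    obtain ⟨c, hc⟩ := (AlgSp.yon S).map_surjective
      (sq.lift ((AlgSp.yon S).map (pullback.fst s t) ≫ fst_h)
        ((AlgSp.yon S).map (pullback.snd s t) ≫ (AlgSp.yon S).map β) (by rw [sq2.w, Category.assoc]))
    have hc1 : (AlgSp.yon S).map c ≫ fst = (AlgSp.yon S).map (pullback.fst s t) ≫ fst_h := by
      rw [hc, sq.lift_fst]
    have hc2 : (AlgSp.yon S).map c ≫ (AlgSp.yon S).map g =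
        (AlgSp.yon S).map (pullback.snd s t) ≫ (AlgSp.yon S).map β := by
      rw [hc, sq.lift_snd]
    rw [← hc1] at sq2
    have sq3 : IsPullback ((AlgSp.yon S).map c) ((AlgSp.yon S).map (pullback.snd s t))
        ((AlgSp.yon S).map g) ((AlgSp.yon S).map β) := IsPullback.of_right sq2 hc2 sq
    have sq4 : IsPullback c (pullback.snd s t) g β :=
      IsPullback.of_map (AlgSp.yon S) ((AlgSp.yon S).map_injective (by simpa using hc2)) sq3
    have sq5 := sq4.map (Over.forget S)
    have hb : P (pullback.snd s t).left := P.of_isPullback sq5 hg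
    have sq6 : IsPullback (pullback.fst s t).left (pullback.snd s t).left s.left t.left :=
      sq1.map (Over.forget S)
    have i1 : Flat t.left := inferInstance
    have i2 : LocallyOfFinitePresentation t.left := inferInstance
    exact @descend P _ _ _ _ _ _ _ i1 i2 hts _ _ sq6 hb

end Groth.Agent.S9883
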