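import Groth.Statements.S9884
import Mathlib

set_option autoImplicit false
universe u
open CategoryTheory CategoryTheory.Limits AlgebraicGeometry
open AlgSp

namespace Groth.Agent.S9884

instance fppf_hasIsos : Scheme.fppfPrecoverage.{u}.HasIsos := by
  have : (@Flat ⊓ @LocallyOfFinitePresentation : MorphismProperty Scheme.{u}).ContainsIdentities :=
    ⟨fun X => ⟨inferInstanceAs (Flat (𝟙 X)), inferInstanceAs (LocallyOfFinitePresentation (𝟙 X))⟩⟩
  unfold Scheme.fppfPrecoverage Scheme.precoverage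
  infer_instance

/-- A section of `G` over `U` lifts to `H` locally for the fppf topology. -/
theorem exists_cover_lift (S : Scheme.{u}) (G H : AlgSp.Sp S) (b : H ⟶ G)
    [Sheaf.IsLocallySurjective b] (U : Over S) (g : (AlgSp.yon S).obj U ⟶ G) :
    ∃ R ∈ Scheme.fppfPrecoverage U.left, ∀ ⦃T' : Scheme.{u}⦄ (g' : T' ⟶ U.left), R g' →
      ∃ t : (AlgSp.yon S).obj (Over.mk (g' ≫ U.hom)) ⟶ H,
        t ≫ b = (AlgSp.yon S).map (Over.homMk g' : Over.mk (g' ≫ U.hom) ⟶ U) ≫ g := by
  have hmem : Presheaf.imageSieve b.hom ((AlgSp.J S).uliftYonedaEquiv g) ∈ AlgSp.J S U :=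
    Presheaf.imageSieve_mem (AlgSp.J S) b.hom (U := Opposite.op U) _
  rw [GrothendieckTopology.mem_over_iff,
    Precoverage.mem_toGrothendieck_iff_of_isStableUnderComposition] at hmem
  obtain ⟨R, hR, hle⟩ := hmem
  refine ⟨R, hR, fun T' g' hg' => ?_⟩
  have h1 := hle _ g' hg'
  rw [Sieve.overEquiv_iff] at h1
  obtain ⟨t, ht⟩ := h1
  refine ⟨(AlgSp.J S).uliftYonedaEquiv.symm t, ?_⟩
  apply (AlgSp.J S).uliftYonedaEquiv.injective
  rw [GrothendieckTopology.uliftYonedaEquiv_comp, Equiv.apply_symm_apply,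
    ← GrothendieckTopology.uliftYonedaEquiv_naturality]
  exact ht

theorem aux_step (S : Scheme.{u}) (F G H : AlgSp.Sp S) (a : F ⟶ G) (b : H ⟶ G) (Q : AlgSp.Sp S)
    (b' : Q ⟶ F) (a' : Q ⟶ H) (sq : IsPullback b' a' a b) (P : MorphismProperty Scheme.{u})
    (h : AlgSp.RepWith P a') (U V : Over S) (g : (AlgSp.yon S).obj U ⟶ G)
    (fst : (AlgSp.yon S).obj V ⟶ F) (snd : V ⟶ U) (hV : IsPullback fst ((AlgSp.yon S).map snd) a g)
    (T : Over S) (φ : T ⟶ U) (t : (AlgSp.yon S).obj T ⟶ H)
    (ht : t ≫ b = (AlgSp.yon S).map φ ≫ g) [P.RespectsIso] [HasPullback snd.left φ.left] :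
    P (pullback.snd snd.left φ.left) := by
  -- pull back `snd` along `φ` in `Over S`
  have hpb : IsPullback (pullback.fst snd φ) (pullback.snd snd φ) snd φ :=
    IsPullback.of_hasPullback snd φ
  have hpb' := hpb.map (AlgSp.yon S)
  have hpaste : IsPullback ((AlgSp.yon S).map (pullback.fst snd φ) ≫ fst)
      ((AlgSp.yon S).map (pullback.snd snd φ)) a ((AlgSp.yon S).map φ ≫ g) :=
    hpb'.paste_horiz hV
  rw [← ht] at hpaste
  -- factor through the square `sq`
  have hk : ((AlgSp.yon S).map (pullback.fst snd φ) ≫ fst) ≫ a =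
      ((AlgSp.yon S).map (pullback.snd snd φ) ≫ t) ≫ b := by
    rw [hpaste.w, Category.assoc]
  let k := sq.lift _ _ hk
  have hk1 : k ≫ b' = (AlgSp.yon S).map (pullback.fst snd φ) ≫ fst := sq.lift_fst _ _ hk
  have hk2 : k ≫ a' = (AlgSp.yon S).map (pullback.snd snd φ) ≫ t := sq.lift_snd _ _ hk
  have hleft : IsPullback k ((AlgSp.yon S).map (pullback.snd snd φ)) a' t := by
    refine IsPullback.of_right ?_ hk2 sq
    rw [hk1]
    exact hpaste
  have hPsnd : P (pullback.snd snd φ).left := h.2 t k (pullback.snd snd φ) hleft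
  have hsch : IsPullback (pullback.fst snd φ).left (pullback.snd snd φ).left snd.left φ.left :=
    hpb.map (Over.forget S)
  rw [← hsch.isoPullback_hom_snd] at hPsnd
  exact (P.cancel_left_of_respectsIso _ _).mp hPsnd

/-- Let `a : F ⟶ G` be a map of fppf sheaves of sets over `S` which is representable by schemes, `b : H
⟶ G` a surjective map of sheaves, and `a' : H ×_G F ⟶ H` the base change of `a` along `b` (a
pullback square in sheaves). Let `P` be a property of morphisms of schemes stable under base change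
and fppf local on the base. If `a'` has `P` in the representable sense, then so does `a`. (The
published statement is for presheaves, with `b` inducing a surjection of fppf sheafifications; this
row is the case of sheaves.) -/
theorem result (S : Scheme.{u}) (F G H : AlgSp.Sp S) (a : F ⟶ G)
    (ha : AlgSp.Representable a) (b : H ⟶ G) [Sheaf.IsLocallySurjective b] (Q : AlgSp.Sp S) (b' : Q ⟶ F)
    (a' : Q ⟶ H) (sq : IsPullback b' a' a b) (P : MorphismProperty Scheme.{u}) [P.IsStableUnderBaseChange]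
    [P.IsLocalAtTarget Scheme.fppfPrecoverage] (h : AlgSp.RepWith P a') : AlgSp.RepWith P a := by
  refine ⟨ha, ?_⟩
  intro U V g fst snd hV
  obtain ⟨R, hR, hlift⟩ := exists_cover_lift S G H b U g
  refine MorphismProperty.IsLocalAtTarget.of_forall_pullbackSnd (P := P) hR ?_
  intro T' g' _ hg'
  obtain ⟨t, ht⟩ := hlift g' hg'
  exact aux_step S F G H a b Q b' a' sq P h U V g fst snd hV (Over.mk (g' ≫ U.hom))
    (Over.homMk g') t ht

end Groth.Agent.S9884
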