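import Groth.Statements.S9886
import Mathlib

set_option autoImplicit false
universe u
open CategoryTheory CategoryTheory.Limits AlgebraicGeometry
open AlgSp

namespace Groth.Agent.S9886

/-- Let `F` be an fppf sheaf of sets over `S` and `P` a property of morphisms of schemes stable under
base change. Assume that for all schemes `U`, `V` over `S` and all `a : h_U ⟶ F`, `b : h_V ⟶ F` the
fibre product `h_U ×_F h_V` is represented by some scheme `W` over `S` with its projections induced
by morphisms `W ⟶ U`, `W ⟶ V`, and that for every such represented fibre product the morphism `W ⟶ U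
×_S V` has `P`. Then the diagonal `F ⟶ F × F` is representable by schemes and has `P`. (The
published statement is for a presheaf of sets `F` and a property `P` that is also fppf local on the
base; this row takes `F` an fppf sheaf and `P` only stable under base change.) -/
theorem result (S : Scheme.{u}) (F : AlgSp.Sp S) (P : MorphismProperty Scheme.{u})
    [P.IsStableUnderBaseChange]
    (h₁ : ∀ ⦃U V : Over S⦄ (a : (AlgSp.yon S).obj U ⟶ F) (b : (AlgSp.yon S).obj V ⟶ F),
      ∃ (W : Over S) (fst : W ⟶ U) (snd : W ⟶ V), IsPullback ((AlgSp.yon S).map fst) ((AlgSp.yon S).map snd) a b)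
    (h₂ : ∀ ⦃U V W : Over S⦄ (a : (AlgSp.yon S).obj U ⟶ F) (b : (AlgSp.yon S).obj V ⟶ F) (fst : W ⟶ U)
      (snd : W ⟶ V), IsPullback ((AlgSp.yon S).map fst) ((AlgSp.yon S).map snd) a b → P (prod.lift fst snd).left) :
    AlgSp.RepWith P (Limits.diag F) := by
  refine ⟨?_, ?_⟩
  · refine Functor.relativelyRepresentable.diag_of_map_from_obj (fun U a V b => ?_)
    obtain ⟨W, fst, snd, hW⟩ := h₁ a b
    exact ⟨W, snd, (AlgSp.yon S).map fst, hW⟩
  · intro T V g fst snd hV
    set a : (AlgSp.yon S).obj T ⟶ F := g ≫ prod.fst with ha
    set b : (AlgSp.yon S).obj T ⟶ F := g ≫ prod.snd with hb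
    obtain ⟨W, p, q, hW⟩ := h₁ a b
    have hP : P (prod.lift p q).left := h₂ a b p q hW
    -- the two components of the square `hV`
    have hfa : fst = (AlgSp.yon S).map snd ≫ a := by
      have := congrArg (· ≫ prod.fst) hV.w
      simpa only [Category.assoc, Limits.diag, prod.lift_fst, Category.comp_id] using this
    have hfb : fst = (AlgSp.yon S).map snd ≫ b := by
      have := congrArg (· ≫ prod.snd) hV.w
      simpa only [Category.assoc, Limits.diag, prod.lift_snd, Category.comp_id] using this
    let v' : (AlgSp.yon S).obj V ⟶ (AlgSp.yon S).obj W :=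
      hW.lift ((AlgSp.yon S).map snd) ((AlgSp.yon S).map snd) (by rw [← hfa, ← hfb])
    let v : V ⟶ W := (AlgSp.yon S).preimage v'
    have hv : (AlgSp.yon S).map v = v' := (AlgSp.yon S).map_preimage v'
    have hvp : v ≫ p = snd := by
      apply (AlgSp.yon S).map_injective
      rw [Functor.map_comp, hv]
      exact hW.lift_fst _ _ _
    have hvq : v ≫ q = snd := by
      apply (AlgSp.yon S).map_injective
      rw [Functor.map_comp, hv]
      exact hW.lift_snd _ _ _
    have e : v ≫ prod.lift p q = snd ≫ Limits.diag T := by
      apply Limits.prod.hom_ext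
      · simp only [Category.assoc, prod.lift_fst, Limits.diag, Category.comp_id, hvp]
      · simp only [Category.assoc, prod.lift_snd, Limits.diag, Category.comp_id, hvq]
    have e' : (AlgSp.yon S).map v ≫ (AlgSp.yon S).map (prod.lift p q) =
        (AlgSp.yon S).map snd ≫ (AlgSp.yon S).map (Limits.diag T) := by
      rw [← Functor.map_comp, ← Functor.map_comp, e]
    have hcone : ∀ (c : PullbackCone ((AlgSp.yon S).map (prod.lift p q))
        ((AlgSp.yon S).map (Limits.diag T))),
        c.fst ≫ (AlgSp.yon S).map p = c.snd ∧ c.fst ≫ (AlgSp.yon S).map q = c.snd := by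
      intro c
      have hid : (AlgSp.yon S).map (𝟙 T) = 𝟙 _ := (AlgSp.yon S).map_id T
      constructor
      · have := congrArg (· ≫ (AlgSp.yon S).map prod.fst) c.condition
        simp only [Category.assoc, ← Functor.map_comp, prod.lift_fst, Limits.diag] at this
        rw [hid, Category.comp_id] at this
        exact this
      · have := congrArg (· ≫ (AlgSp.yon S).map prod.snd) c.condition
        simp only [Category.assoc, ← Functor.map_comp, prod.lift_snd, Limits.diag] at this
        rw [hid, Category.comp_id] at this
        exact this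
    have hlift : ∀ (c : PullbackCone ((AlgSp.yon S).map (prod.lift p q))
        ((AlgSp.yon S).map (Limits.diag T))),
        (c.snd ≫ a) ≫ Limits.diag F = c.snd ≫ g := by
      intro c
      obtain ⟨h1, h2⟩ := hcone c
      apply Limits.prod.hom_ext
      · simp only [Category.assoc, Limits.diag, prod.lift_fst, Category.comp_id, ha]
      · simp only [Category.assoc, Limits.diag, prod.lift_snd, Category.comp_id]
        rw [← hb]
        calc c.snd ≫ a = (c.fst ≫ (AlgSp.yon S).map p) ≫ a := by rw [h1]
          _ = c.fst ≫ (AlgSp.yon S).map q ≫ b := by rw [Category.assoc, hW.w]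
          _ = c.snd ≫ b := by rw [← Category.assoc, h2]
    have H : IsPullback ((AlgSp.yon S).map v) ((AlgSp.yon S).map snd)
        ((AlgSp.yon S).map (prod.lift p q)) ((AlgSp.yon S).map (Limits.diag T)) := by
      refine ⟨⟨e'⟩, ⟨PullbackCone.IsLimit.mk e' (fun c => hV.lift (c.snd ≫ a) c.snd (hlift c))
        ?_ ?_ ?_⟩⟩
      · intro c
        obtain ⟨h1, h2⟩ := hcone c
        apply hW.hom_ext
        · rw [Category.assoc, hv, hW.lift_fst, hV.lift_snd, h1]
        · rw [Category.assoc, hv, hW.lift_snd, hV.lift_snd, h2]
      · intro c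
        exact hV.lift_snd _ _ _
      · intro c m _ hm2
        apply hV.hom_ext
        · rw [hV.lift_fst, hfa, ← Category.assoc, hm2]
        · rw [hV.lift_snd]; exact hm2
    have H' : IsPullback v snd (prod.lift p q) (Limits.diag T) := IsPullback.of_map (AlgSp.yon S) e H
    exact P.of_isPullback (H'.map (Over.forget S)) hP

end Groth.Agent.S9886
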