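import Groth.Statements.S9891
import Mathlib

set_option autoImplicit false
universe u
open CategoryTheory CategoryTheory.Limits AlgebraicGeometry
open AlgSp

namespace Groth.Agent.S9891

universe v₁ v₂ u₁ u₂

/-- General form: for a fully faithful functor preserving pullbacks, the relative diagonal of a
relatively representable morphism is relatively representable. -/
theorem diagonal_relativelyRepresentable {C : Type u₁} [Category.{v₁} C] {D : Type u₂}
    [Category.{v₂} D] (Φ : C ⥤ D) [Φ.Full] [Φ.Faithful] [HasPullbacks C] [HasPullbacks D]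
    [PreservesLimitsOfShape WalkingCospan Φ] {X Y : D} (a : X ⟶ Y)
    (ha : Φ.relativelyRepresentable a) : Φ.relativelyRepresentable (pullback.diagonal a) := by
  intro U g
  have hy : (g ≫ pullback.fst a a) ≫ a = (g ≫ pullback.snd a a) ≫ a := by
    rw [Category.assoc, Category.assoc, pullback.condition]
  set g₁ := g ≫ pullback.fst a a with hg₁
  set g₂ := g ≫ pullback.snd a a with hg₂
  set y := g₁ ≫ a with hyd
  have h1 : g₁ ≫ a = Φ.map (𝟙 U) ≫ y := by rw [Φ.map_id, Category.id_comp]
  have h2 : g₂ ≫ a = Φ.map (𝟙 U) ≫ y := by rw [Φ.map_id, Category.id_comp]; exact hy.symm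
  let s₁ : U ⟶ ha.pullback y := ha.lift g₁ (𝟙 U) h1
  let s₂ : U ⟶ ha.pullback y := ha.lift g₂ (𝟙 U) h2
  have hs₁f : Φ.map s₁ ≫ ha.fst y = g₁ := ha.lift_fst g₁ (𝟙 U) h1
  have hs₂f : Φ.map s₂ ≫ ha.fst y = g₂ := ha.lift_fst g₂ (𝟙 U) h2
  have hs₁s : s₁ ≫ ha.snd y = 𝟙 U := ha.lift_snd g₁ (𝟙 U) h1
  have hs₂s : s₂ ≫ ha.snd y = 𝟙 U := ha.lift_snd g₂ (𝟙 U) h2
  have hfs : pullback.fst s₁ s₂ = pullback.snd s₁ s₂ := by
    have := congrArg (· ≫ ha.snd y) (pullback.condition (f := s₁) (g := s₂))
    simpa only [Category.assoc, hs₁s, hs₂s, Category.comp_id] using this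
  have hP : IsPullback (Φ.map (pullback.fst s₁ s₂)) (Φ.map (pullback.snd s₁ s₂)) (Φ.map s₁)
      (Φ.map s₂) := (IsPullback.of_hasPullback s₁ s₂).map Φ
  set e := pullback.fst s₁ s₂ with he
  have heq : Φ.map e ≫ g₁ = Φ.map e ≫ g₂ := by
    rw [← hs₁f, ← hs₂f, ← Category.assoc, ← Category.assoc, hP.w, ← hfs]
  refine ⟨pullback s₁ s₂, e, Φ.map e ≫ g₁, ?_⟩
  have w : (Φ.map e ≫ g₁) ≫ pullback.diagonal a = Φ.map e ≫ g := by
    apply pullback.hom_ext
    · simp only [Category.assoc, pullback.diagonal_fst, Category.comp_id, hg₁]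
    · simp only [Category.assoc, pullback.diagonal_snd, Category.comp_id]
      rw [heq, hg₂]
  have key : ∀ (c : PullbackCone (pullback.diagonal a) g),
      c.snd ≫ Φ.map s₁ = c.snd ≫ Φ.map s₂ := by
    intro c
    have hc1 : c.fst = c.snd ≫ g₁ := by
      have := congrArg (· ≫ pullback.fst a a) c.condition
      simpa only [Category.assoc, pullback.diagonal_fst, Category.comp_id] using this
    have hc2 : c.fst = c.snd ≫ g₂ := by
      have := congrArg (· ≫ pullback.snd a a) c.condition
      simpa only [Category.assoc, pullback.diagonal_snd, Category.comp_id] using this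
    apply (ha.isPullback y).hom_ext
    · rw [Category.assoc, Category.assoc, hs₁f, hs₂f, ← hc1, ← hc2]
    · rw [Category.assoc, Category.assoc, ← Φ.map_comp, ← Φ.map_comp, hs₁s, hs₂s]
  refine ⟨⟨w⟩, ⟨PullbackCone.IsLimit.mk w (fun c => hP.lift c.snd c.snd (key c)) ?_ ?_ ?_⟩⟩
  · intro c
    have hc1 : c.fst = c.snd ≫ g₁ := by
      have := congrArg (· ≫ pullback.fst a a) c.condition
      simpa only [Category.assoc, pullback.diagonal_fst, Category.comp_id] using this
    rw [← Category.assoc, hP.lift_fst, hc1]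
  · intro c
    exact hP.lift_fst _ _ _
  · intro c m _ hm2
    apply hP.hom_ext
    · rw [hP.lift_fst]; exact hm2
    · rw [hP.lift_snd, ← hfs]; exact hm2

/-- Let `a : F ⟶ G` be a map of presheaves of sets on schemes over `S` which is representable by
schemes. Then the relative diagonal `F ⟶ F ×_G F` is representable by schemes. -/
theorem result (S : Scheme.{u}) (F G : AlgSp.PSp S) (a : F ⟶ G)
    (ha : (AlgSp.pyon S).relativelyRepresentable a) :
    (AlgSp.pyon S).relativelyRepresentable (pullback.diagonal a) :=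
  diagonal_relativelyRepresentable (AlgSp.pyon S) a ha

end Groth.Agent.S9891
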