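import Groth.Statements.S9892
import Mathlib

set_option autoImplicit false
universe u
open CategoryTheory CategoryTheory.Limits AlgebraicGeometry
open AlgSp

namespace Groth.Agent.S9892

/-- Let `a : F ⟶ G` be a map of presheaves of sets on schemes over `S` which is representable by
schemes. If `G` is a sheaf for the fppf topology, then so is `F`. -/
theorem result (S : Scheme.{u}) (F G : AlgSp.PSp S) (a : F ⟶ G)
    (ha : (AlgSp.pyon S).relativelyRepresentable a) (hG : Presheaf.IsSheaf (AlgSp.J S) G) :
    Presheaf.IsSheaf (AlgSp.J S) F := by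
  classical
  rw [isSheaf_iff_isSheaf_of_type] at hG ⊢
  intro U R hR x hx
  have hy : (Presieve.FamilyOfElements.map x a).Compatible :=
    Presieve.FamilyOfElements.Compatible.map a hx
  obtain ⟨ξ, hξ, hξuniq⟩ := hG R hR _ hy
  obtain ⟨V, snd, fst, sq⟩ := ha (uliftYonedaEquiv.symm ξ)
  have sqW : ∀ W : Over S, IsPullback (fst.app (Opposite.op W))
      (((AlgSp.pyon S).map snd).app (Opposite.op W)) (a.app (Opposite.op W))
      ((uliftYonedaEquiv.symm ξ : (AlgSp.pyon S).obj U ⟶ G).app (Opposite.op W)) :=
    fun W => sq.map ((evaluation _ _).obj (Opposite.op W))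
  have hV : Presieve.IsSheaf (AlgSp.J S) ((AlgSp.pyon S).obj V) :=
    (isSheaf_iff_isSheaf_of_type _ _).1 ((AlgSp.yon S).obj V).property
  -- the value of `g` on `f`
  have hg : ∀ {W : Over S} (f : W ⟶ U),
      (uliftYonedaEquiv.symm ξ : (AlgSp.pyon S).obj U ⟶ G).app (Opposite.op W) (ULift.up f) =
        G.map f.op ξ := by
    intro W f
    simp
  -- local lifts
  have hex : ∀ {W : Over S} (f : W ⟶ U) (hf : R.arrows f),
      ∃ z : ((AlgSp.pyon S).obj V).obj (Opposite.op W),
        fst.app (Opposite.op W) z = x f hf ∧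
          ((AlgSp.pyon S).map snd).app (Opposite.op W) z = ULift.up f := by
    intro W f hf
    refine Limits.Types.exists_of_isPullback (sqW W) (x f hf) (ULift.up f) ?_
    rw [hg]
    exact (hξ f hf).symm
  choose z hz1 hz2 using @hex
  -- compatibility of the local lifts
  have hzc : Presieve.FamilyOfElements.Compatible
      (P := (AlgSp.pyon S).obj V) (R := R.arrows) (fun W f hf => z f hf) := by
    intro W₁ W₂ Z g₁ g₂ f₁ f₂ h₁ h₂ e
    apply Limits.Types.ext_of_isPullback (sqW Z)
    · rw [NatTrans.naturality_apply, NatTrans.naturality_apply, hz1, hz1]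
      exact hx g₁ g₂ h₁ h₂ e
    · rw [NatTrans.naturality_apply, NatTrans.naturality_apply, hz2, hz2]
      change ULift.up (g₁ ≫ f₁) = ULift.up (g₂ ≫ f₂)
      rw [e]
  obtain ⟨z₀, hz₀, -⟩ := hV R hR _ hzc
  refine ⟨fst.app (Opposite.op U) z₀, ?_, ?_⟩
  · intro W f hf
    rw [← NatTrans.naturality_apply, hz₀ f hf, hz1]
  · intro t ht
    -- `a t = ξ`
    have hat : a.app (Opposite.op U) t = ξ :=
      hξuniq _ (Presieve.FamilyOfElements.IsAmalgamation.map a ht)
    have hat' : a.app (Opposite.op U) (fst.app (Opposite.op U) z₀) = ξ := by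
      apply hξuniq
      intro W f hf
      change G.map f.op (a.app (Opposite.op U) (fst.app (Opposite.op U) z₀)) = a.app _ (x f hf)
      rw [← NatTrans.naturality_apply, ← NatTrans.naturality_apply, hz₀ f hf, hz1]
    have hid : (uliftYonedaEquiv.symm ξ : (AlgSp.pyon S).obj U ⟶ G).app (Opposite.op U)
        (ULift.up (𝟙 U)) = ξ := by
      rw [hg]; simp
    obtain ⟨w, hw1, hw2⟩ := Limits.Types.exists_of_isPullback (sqW U) t (ULift.up (𝟙 U))
      (by rw [hat, hid])
    have hwz : w = z₀ := by
      apply (hV R hR).isSeparatedFor.ext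
      intro W f hf
      apply Limits.Types.ext_of_isPullback (sqW W)
      · rw [NatTrans.naturality_apply, NatTrans.naturality_apply, hw1, ht f hf,
          ← NatTrans.naturality_apply, hz₀ f hf, hz1]
      · rw [NatTrans.naturality_apply, hw2, hz₀ f hf, hz2]
        change ULift.up (f ≫ 𝟙 U) = ULift.up f
        rw [Category.comp_id]
    rw [← hw1, hwz]

end Groth.Agent.S9892
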