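import Groth.Statements.S9898
import Groth.Agent.Lib.Helper1.SliceE
import Groth.Agent.Lib.Helper1.SliceJ

set_option autoImplicit false
universe u
open CategoryTheory CategoryTheory.Limits AlgebraicGeometry
open AlgSp

namespace Groth.Agent.S9898

open Groth.Agent.H1.Slice

variable {S S' : Scheme.{u}} (g : S ⟶ S')

lemma isAlgSpace_sig_iff (F : AlgSp.Sp S) :
    AlgSp.IsAlgSpace ((sigSh g Scheme.fppfTopology).obj F) ↔ AlgSp.IsAlgSpace F :=
  (isAlgSpace_iff _).trans ((isAlgEl_sig_iff Scheme.fppfTopology _ _).trans (isAlgSpace_iff _).symm)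

/-- The functor sending an algebraic space over `S` to its extension, over `h_S`. -/
noncomputable def Phi : AlgSp.Space S ⥤ Over ((AlgSp.ofScheme S').obj (Over.mk g)) where
  obj F := Over.mk (Y := ⟨(sigSh g Scheme.fppfTopology).obj F.obj,
      (isAlgSpace_sig_iff g F.obj).2 F.property⟩)
    (ObjectProperty.homMk (sigStr g Scheme.fppfTopology F.obj))
  map α := Over.homMk (ObjectProperty.homMk ((sigSh g Scheme.fppfTopology).map α.hom)) (by
    apply ObjectProperty.hom_ext
    exact sigSh_map_sigStr g Scheme.fppfTopology α.hom)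
  map_id F := by
    ext : 1
    apply ObjectProperty.hom_ext
    exact (sigSh g Scheme.fppfTopology).map_id F.obj
  map_comp α β := by
    ext : 1
    apply ObjectProperty.hom_ext
    exact (sigSh g Scheme.fppfTopology).map_comp α.hom β.hom

instance : (Phi g).Faithful where
  map_injective := by
    intro F G α β h
    apply ObjectProperty.hom_ext
    apply sigSh_map_injective g Scheme.fppfTopology
    have h1 := congrArg (fun t => t.left.hom) h
    exact h1

instance : (Phi g).Full where
  map_surjective := by
    intro F G φ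
    have hφ : φ.left.hom ≫ sigStr g Scheme.fppfTopology G.obj =
        sigStr g Scheme.fppfTopology F.obj := by
      have h1 := Over.w φ
      exact congrArg (fun t => t.hom) h1
    refine ⟨ObjectProperty.homMk (sigPreimage g Scheme.fppfTopology φ.left.hom hφ), ?_⟩
    ext : 1
    apply ObjectProperty.hom_ext
    exact sigSh_map_sigPreimage g Scheme.fppfTopology φ.left.hom hφ

instance : (Phi g).EssSurj where
  mem_essImage Y := by
    let π : Y.left.obj ⟶ (AlgSp.yon S').obj (Over.mk g) := Y.hom.hom
    let F₀ : AlgSp.Sp S := fibSh g Scheme.fppfTopology π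
    let θ : (sigSh g Scheme.fppfTopology).obj F₀ ≅ Y.left.obj :=
      asIso (sigTheta g Scheme.fppfTopology π)
    have hF₀ : AlgSp.IsAlgSpace F₀ :=
      (isAlgSpace_sig_iff g F₀).1 (Y.left.property.of_iso θ.symm)
    refine ⟨⟨F₀, hF₀⟩, ⟨Over.isoMk (ObjectProperty.isoMk _ θ) ?_⟩⟩
    apply ObjectProperty.hom_ext
    exact sigTheta_comp g Scheme.fppfTopology π

instance : (Phi g).IsEquivalence where

theorem main :
    ∃ E : AlgSp.Space S ≌ Over ((AlgSp.ofScheme S').obj (Over.mk g)),
      Nonempty (E.functor ⋙ Over.forget _ ⋙ ObjectProperty.ι (AlgSp.IsAlgSpace (S := S')) ≅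
        ObjectProperty.ι (AlgSp.IsAlgSpace (S := S)) ⋙ ((Over.map g).sheafPullback (Type (u + 1)) (AlgSp.J S) (AlgSp.J S'))) := by
  refine ⟨(Phi g).asEquivalence, ⟨?_⟩⟩
  refine Iso.trans ?_ (Functor.isoWhiskerLeft _ (sigIso g Scheme.fppfTopology).symm)
  exact NatIso.ofComponents (fun F => Iso.refl _) (by
    intro F G α
    simp
    rfl)

/-- Let `g : S ⟶ S'` be a morphism of schemes and `j_!` the left adjoint of the restriction functor from
fppf sheaves of sets on schemes over `S'` to those on schemes over `S`. Then there is an equivalence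
between the category of algebraic spaces over `S` and the category of pairs (an algebraic space `F'`
over `S'`, a morphism `F' ⟶ h_S` of algebraic spaces over `S'`), i.e. the over category of `h_S` in
algebraic spaces over `S'`, sending `F` to `j_! F`: the equivalence composed with the forgetful
functor to sheaves over `S'` is isomorphic to `j_!` on underlying sheaves. (Only this compatibility
is pinned; the structure maps `j_! F ⟶ h_S` are not.) -/
theorem result {S S' : Scheme.{u}} (g : S ⟶ S') :
    ∃ E : AlgSp.Space S ≌ Over ((AlgSp.ofScheme S').obj (Over.mk g)),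
      Nonempty (E.functor ⋙ Over.forget _ ⋙ ObjectProperty.ι (AlgSp.IsAlgSpace (S := S')) ≅
        ObjectProperty.ι (AlgSp.IsAlgSpace (S := S)) ⋙ ((Over.map g).sheafPullback (Type (u + 1)) (AlgSp.J S) (AlgSp.J S'))) := by
  exact main g

end Groth.Agent.S9898
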