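import Groth.Statements.S9902
import Mathlib
import Groth.Agent.Lib.Helper15.AlgSpDiag

set_option autoImplicit false
universe u
open CategoryTheory CategoryTheory.Limits AlgebraicGeometry
open AlgSp

namespace Groth.Agent.S9902

/-- A section of `f` is a base change of the diagonal of `f`. -/
lemma isPullback_section {C : Type*} [Category C] [HasPullbacks C] {X T : C} (f : X ⟶ T)
    (s : T ⟶ X) (hs : s ≫ f = 𝟙 T) :
    IsPullback s s (pullback.diagonal f)
      (pullback.lift (f ≫ s) (𝟙 X) (by rw [Category.assoc, hs, Category.comp_id, Category.id_comp])) := by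
  refine IsPullback.mk' ?_ ?_ ?_
  · apply pullback.hom_ext
    · simp [pullback.lift_fst, reassoc_of% hs]
    · simp [pullback.lift_snd]
  · intro A φ φ' e _
    have := congrArg (fun k => k ≫ f) e
    simpa [hs] using this
  · intro A a b e
    have e1 := congrArg (fun k => k ≫ pullback.fst f f) e
    have e2 := congrArg (fun k => k ≫ pullback.snd f f) e
    simp only [Category.assoc, pullback.diagonal_fst, pullback.diagonal_snd, Category.comp_id,
      pullback.lift_fst, pullback.lift_snd] at e1 e2
    refine ⟨b ≫ f, ?_, ?_⟩
    · rw [Category.assoc, ← e1]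
    · rw [Category.assoc, ← e1, e2]


/-- Let s be a section of a morphism f : X -> T of algebraic spaces. Then s is representable by schemes
and, in the representable sense, a separated monomorphism that is locally of finite type and locally
quasi-finite; when f is separated s is a closed immersion, and when f is quasi-separated s is
quasi-compact. (The published lemma also shows that s is an immersion when f is locally separated;
this row omits that clause.) -/
theorem result {S : Scheme.{u}} {X T : AlgSp.Space S} (f : X ⟶ T) (s : T ⟶ X)
    (hs : s ≫ f = 𝟙 T) :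
    AlgSp.Representable s.hom ∧
    AlgSp.RepWith @LocallyOfFiniteType s.hom ∧
    AlgSp.RepWith (@LocallyQuasiFinite ⊓ @LocallyOfFiniteType) s.hom ∧
    AlgSp.RepWith @IsSeparated s.hom ∧
    AlgSp.RepWith (MorphismProperty.monomorphisms Scheme.{u}) s.hom ∧
    (AlgSp.IsSeparatedMor f.hom → AlgSp.RepWith @IsClosedImmersion s.hom) ∧
    (AlgSp.IsQuasiSeparatedMor f.hom → AlgSp.RepWith @QuasiCompact s.hom) := by
  obtain ⟨k0, k1, k2, k3, k4⟩ :=
    Groth.Agent.Lib.helper15.AlgSpDiag.repWith_diagonal_properties X.property f.hom
  have hs' : s.hom ≫ f.hom = 𝟙 T.obj := congrArg (fun k => k.hom) hs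
  have sq := isPullback_section f.hom s.hom hs'
  refine ⟨?_, ?_, ?_, ?_, ?_, ?_, ?_⟩
  · exact (Functor.relativelyRepresentable.isStableUnderBaseChange (AlgSp.yon S)).of_isPullback sq k0
  · exact (AlgSp.repWith_isStableUnderBaseChange _).of_isPullback sq k1
  · exact (AlgSp.repWith_isStableUnderBaseChange _).of_isPullback sq k4
  · exact (AlgSp.repWith_isStableUnderBaseChange _).of_isPullback sq k3
  · exact (AlgSp.repWith_isStableUnderBaseChange _).of_isPullback sq k2
  · intro hsep
    exact (AlgSp.repWith_isStableUnderBaseChange _).of_isPullback sq hsep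
  · intro hsep
    exact (AlgSp.repWith_isStableUnderBaseChange _).of_isPullback sq hsep

end Groth.Agent.S9902
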