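import Groth.Statements.S9903
import Mathlib
import Groth.Agent.Lib.Helper15.AlgSpDiag

set_option autoImplicit false
universe u
open CategoryTheory CategoryTheory.Limits AlgebraicGeometry
open AlgSp

namespace Groth.Agent.S9903

set_option backward.isDefEq.respectTransparency.types false in
lemma diag_iff (Q : MorphismProperty Scheme.{u}) [Q.IsStableUnderBaseChange]
    [IsZariskiLocalAtTarget Q] {S : Scheme.{u}} {X Y : AlgSp.Sp S} (hX : AlgSp.IsAlgSpace X)
    (f : X ⟶ Y) :
    (AlgSp.RepWith Q (pullback.diagonal f) ↔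
      ∀ (Z : Over S), IsAffine Z.left → ∀ (g : (AlgSp.yon S).obj Z ⟶ Y) (P : AlgSp.Sp S)
        (fst : P ⟶ X) (snd : P ⟶ (AlgSp.yon S).obj Z), IsPullback fst snd f g →
        AlgSp.RepWith Q (pullback.diagonal snd)) := by
  constructor
  · intro h Z _ g P fst snd sq
    exact (AlgSp.repWith_isStableUnderBaseChange _).of_isPullback
      (Groth.Agent.Lib.helper15.AlgSpDiag.isPullback_diagonal_of_isPullback sq) h
  · intro h
    exact Groth.Agent.Lib.helper15.AlgSpDiag.repWith_diagonal_of_affine Q f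
      (Groth.Agent.Lib.helper15.AlgSpDiag.repWith_diagonal_properties hX f).1 h

set_option backward.isDefEq.respectTransparency.types false in
lemma sep_iff {S : Scheme.{u}} {X Y : AlgSp.Sp S} (hX : AlgSp.IsAlgSpace X) (f : X ⟶ Y) :
    (AlgSp.IsSeparatedMor f ↔
      ∀ (Z : Over S), IsAffine Z.left → ∀ (g : (AlgSp.yon S).obj Z ⟶ Y) (P : AlgSp.Sp S)
        (fst : P ⟶ X) (snd : P ⟶ (AlgSp.yon S).obj Z), IsPullback fst snd f g →
        AlgSp.IsSeparatedMor snd) :=
  diag_iff @IsClosedImmersion hX f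

set_option backward.isDefEq.respectTransparency.types false in
lemma qsep_iff {S : Scheme.{u}} {X Y : AlgSp.Sp S} (hX : AlgSp.IsAlgSpace X) (f : X ⟶ Y) :
    (AlgSp.IsQuasiSeparatedMor f ↔
      ∀ (Z : Over S), IsAffine Z.left → ∀ (g : (AlgSp.yon S).obj Z ⟶ Y) (P : AlgSp.Sp S)
        (fst : P ⟶ X) (snd : P ⟶ (AlgSp.yon S).obj Z), IsPullback fst snd f g →
        AlgSp.IsQuasiSeparatedMor snd) :=
  diag_iff @QuasiCompact hX f


/-- (1) ⇔ (3): a morphism of algebraic spaces is separated (resp. quasi-separated) if and only if its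
base change to every affine scheme over the target is. -/
theorem result {S : Scheme.{u}} {X Y : AlgSp.Space S} (f : X ⟶ Y) :
    (AlgSp.IsSeparatedMor f.hom ↔
      ∀ (Z : Over S), IsAffine Z.left → ∀ (g : (AlgSp.yon S).obj Z ⟶ Y.obj) (P : AlgSp.Sp S)
        (fst : P ⟶ X.obj) (snd : P ⟶ (AlgSp.yon S).obj Z), IsPullback fst snd f.hom g →
        AlgSp.IsSeparatedMor snd) ∧
    (AlgSp.IsQuasiSeparatedMor f.hom ↔
      ∀ (Z : Over S), IsAffine Z.left → ∀ (g : (AlgSp.yon S).obj Z ⟶ Y.obj) (P : AlgSp.Sp S)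
        (fst : P ⟶ X.obj) (snd : P ⟶ (AlgSp.yon S).obj Z), IsPullback fst snd f.hom g →
        AlgSp.IsQuasiSeparatedMor snd) := by
  exact ⟨sep_iff X.property f.hom, qsep_iff X.property f.hom⟩

end Groth.Agent.S9903
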