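import Groth.Statements.S9905
import Mathlib
import Groth.Agent.Lib.Helper15.AlgSpDiag

set_option autoImplicit false
universe u
open CategoryTheory CategoryTheory.Limits AlgebraicGeometry
open AlgSp

namespace Groth.Agent.S9905

set_option backward.isDefEq.respectTransparency.types false in
lemma sep_iff {S : Scheme.{u}} {X Y : AlgSp.Sp S} (f : X ⟶ Y)
    (hf : AlgSp.Representable f) :
    AlgSp.IsSeparatedMor f ↔ AlgSp.RepWith @IsSeparated f := by
  unfold AlgSp.IsSeparatedMor
  refine (Groth.Agent.Lib.helper15.AlgSpDiag.repWith_diagonal_iff @IsClosedImmersion f hf).trans ?_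
  constructor
  · intro h
    exact ⟨hf, fun U V c p g sq => (isSeparated_iff _).2 (h c p g sq)⟩
  · intro h U V c p g sq
    exact (isSeparated_iff _).1 (h.2 c p g sq)

set_option backward.isDefEq.respectTransparency.types false in
lemma qsep_iff {S : Scheme.{u}} {X Y : AlgSp.Sp S} (f : X ⟶ Y)
    (hf : AlgSp.Representable f) :
    AlgSp.IsQuasiSeparatedMor f ↔ AlgSp.RepWith @QuasiSeparated f := by
  unfold AlgSp.IsQuasiSeparatedMor
  refine (Groth.Agent.Lib.helper15.AlgSpDiag.repWith_diagonal_iff @QuasiCompact f hf).trans ?_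
  constructor
  · intro h
    exact ⟨hf, fun U V c p g sq => (quasiSeparated_iff _).2 (h c p g sq)⟩
  · intro h U V c p g sq
    exact (quasiSeparated_iff _).1 (h.2 c p g sq)


/-- For a morphism of algebraic spaces representable by schemes, separated in the diagonal sense agrees
with separated in the representable sense, and likewise for quasi-separated. -/
theorem result {S : Scheme.{u}} {X Y : AlgSp.Space S} (f : X ⟶ Y)
    (hf : AlgSp.Representable f.hom) :
    (AlgSp.IsSeparatedMor f.hom ↔ AlgSp.RepWith @IsSeparated f.hom) ∧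
    (AlgSp.IsQuasiSeparatedMor f.hom ↔ AlgSp.RepWith @QuasiSeparated f.hom) := by
  exact ⟨sep_iff f.hom hf, qsep_iff f.hom hf⟩

end Groth.Agent.S9905
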