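import Groth.Statements.S9914
import Groth.Agent.Lib.Helper11.AlgSpBasic

set_option autoImplicit false
universe u
open CategoryTheory CategoryTheory.Limits AlgebraicGeometry
open AlgSp

namespace Groth.Agent.S9914

/-- The target of a surjective morphism of algebraic spaces with quasi-compact source is quasi-compact. -/
theorem result {S : Scheme.{u}} {X Y : AlgSp.Space S} (f : X ⟶ Y)
    (hf : AlgSp.IsSurjectiveMor f.hom) (hX : AlgSp.IsQuasiCompactSp X.obj) : AlgSp.IsQuasiCompactSp Y.obj := by
  obtain ⟨U, p, hpe, hps, hU⟩ := hX
  have hU' : CompactSpace ↥U.left := hU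
  have hXc : CompactSpace (Points X.obj) := by
    constructor
    rw [← (Groth.Agent.Lib.helper11.surjective_ofPt p hps).range_eq]
    exact isCompact_range (Points.continuous_ofPt p)
  have hYc : CompactSpace (Points Y.obj) := by
    constructor
    have hf' : Function.Surjective (Points.map f.hom) := hf
    rw [← hf'.range_eq]
    exact isCompact_range (Points.continuous_map f.hom)
  obtain ⟨W, q, hqe, hqs⟩ := Y.property.atlas
  obtain ⟨V, r, hV, hre, hrs⟩ :=
    Groth.Agent.Lib.helper11.exists_affine_chart_of_compactSpace q hqe hqs
  exact ⟨V, r, hre, hrs, inferInstance⟩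

end Groth.Agent.S9914
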