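import Groth.Statements.S9915
import Groth.Agent.Lib.Helper7.AlgSpFibre

set_option autoImplicit false
universe u
open CategoryTheory CategoryTheory.Limits AlgebraicGeometry
open AlgSp

namespace Groth.Agent.S9915

/-- In a commutative triangle of algebraic spaces with f : X -> Y surjective, if X -> Z is quasi-compact
then Y -> Z is quasi-compact. -/
theorem result {S : Scheme.{u}} {X Y Z : AlgSp.Space S} (f : X ⟶ Y)
    (p : X ⟶ Z) (q : Y ⟶ Z) (comm : f ≫ q = p) (hf : AlgSp.IsSurjectiveMor f.hom)
    (hp : AlgSp.IsQuasiCompactMor p.hom) : AlgSp.IsQuasiCompactMor q.hom := by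
  intro Z₁ Z₁' hZ₁ hZ₁c g fst snd sq
  have sq1 : IsPullback (pullback.fst f.hom fst) (pullback.snd f.hom fst) f.hom fst :=
    IsPullback.of_hasPullback f.hom fst
  have sq2 : IsPullback (pullback.fst f.hom fst) (pullback.snd f.hom fst ≫ snd)
      (f.hom ≫ q.hom) g := sq1.paste_vert sq
  have hcomm : f.hom ≫ q.hom = p.hom := by
    rw [← comm]; rfl
  rw [hcomm] at sq2
  have hX' : IsQuasiCompactSp (pullback f.hom fst) := hp hZ₁ hZ₁c g _ _ sq2
  have hc1 : CompactSpace (Points (pullback f.hom fst)) :=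
    Groth.Agent.Lib.helper7.AlgSpFibre.compactSpace_of_isQuasiCompactSp hX'
  have hsurj : Function.Surjective (Points.map (pullback.snd f.hom fst)) :=
    Groth.Agent.Lib.helper7.AlgSpFibre.surjective_of_isPullback sq1 hf
  have hc2 : CompactSpace (Points Z₁') :=
    Groth.Agent.Lib.helper7.AlgSpFibre.compactSpace_of_surjective _ hsurj
  have hat : Groth.Agent.Lib.helper7.AlgSpFibre.HasAtlas Z₁' :=
    Groth.Agent.Lib.helper7.AlgSpFibre.hasAtlas_of_isPullback Z.property.diag Y.property.atlas
      hZ₁.atlas sq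
  exact Groth.Agent.Lib.helper7.AlgSpFibre.isQuasiCompactSp_of_compactSpace hat

end Groth.Agent.S9915
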