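import Groth.Statements.S9918
import Groth.Agent.Lib.Helper5.AlgSpQCFam

set_option autoImplicit false
universe u
open CategoryTheory CategoryTheory.Limits AlgebraicGeometry
open AlgSp

namespace Groth.Agent.S9918

/-- (5) ⇒ (1): quasi-compactness of a morphism of algebraic spaces descends along a surjective etale
base change of algebraic spaces. -/
theorem result {S : Scheme.{u}} {X Y Y' X' : AlgSp.Space S}
    (f : X ⟶ Y) (g : Y' ⟶ Y) (fst : X' ⟶ X) (f' : X' ⟶ Y') (sq : IsPullback fst.hom f'.hom f.hom g.hom)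
    (hg : AlgSp.IsEtaleMor g.hom) (hgs : AlgSp.IsSurjectiveMor g.hom) (hf' : AlgSp.IsQuasiCompactMor f'.hom) :
    AlgSp.IsQuasiCompactMor f.hom := by
  obtain ⟨A, a', ha'e, ha's⟩ := Y'.property.atlas
  have hce : AlgSp.RepWith @Etale (a' ≫ g.hom) := hg a' ha'e
  have hcs : AlgSp.RepWith @Surjective (a' ≫ g.hom) := by
    refine Groth.Agent.Lib.helper11.repWith_surjective_of_surjective _ hce.rep ?_
    intro y
    obtain ⟨y', rfl⟩ := hgs y
    obtain ⟨u, rfl⟩ := Groth.Agent.Lib.helper11.surjective_ofPt a' ha's y'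
    exact ⟨u, (AlgSp.Points.map_ofPt a' g.hom u).symm⟩
  have sqX : IsPullback (pullback.fst f'.hom a') (pullback.snd f'.hom a') f'.hom a' :=
    IsPullback.of_hasPullback _ _
  exact Groth.Agent.Lib.helper5.isQuasiCompactMor_of_etale_cover X.property.atlas Y.property.diag
    f.hom (a' ≫ g.hom) hce hcs (sqX.paste_horiz sq)
    (Groth.Agent.Lib.helper5.isQuasiCompactMor_of_isPullback sqX hf')

end Groth.Agent.S9918
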