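import Groth.Statements.S9921
import Groth.Agent.S9920
import Groth.Agent.Lib.Helper15.AlgSpDiag

set_option autoImplicit false
universe u
open CategoryTheory CategoryTheory.Limits AlgebraicGeometry
open AlgSp

namespace Groth.Agent.S9921

/-- the diagonal of a fibre product is a base change of the product of the diagonals -/
theorem isPullback_diag_of_isPullback {C : Type*} [Category C] [HasBinaryProducts C]
    {X Y Z P : C} {f : X ⟶ Y} {g : Z ⟶ Y} {fst : P ⟶ X} {snd : P ⟶ Z}
    (sq : IsPullback fst snd f g) :
    IsPullback (prod.lift fst snd) (Limits.diag P) (prod.map (Limits.diag X) (Limits.diag Z))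
      (prod.lift (prod.map fst fst) (prod.map snd snd)) := by
  refine IsPullback.mk' ?_ ?_ ?_
  · apply Limits.prod.hom_ext <;> apply Limits.prod.hom_ext <;> simp [Limits.diag, prod.lift_fst, prod.lift_snd]
  · intro T φ φ' h1 _
    apply sq.hom_ext
    · have := congrArg (fun k => k ≫ prod.fst) h1
      simpa [prod.lift_fst, prod.lift_snd] using this
    · have := congrArg (fun k => k ≫ prod.snd) h1
      simpa [prod.lift_fst, prod.lift_snd] using this
  · intro T a b h
    have h11 := congrArg (fun k => k ≫ prod.fst ≫ prod.fst) h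
    have h12 := congrArg (fun k => k ≫ prod.fst ≫ prod.snd) h
    have h21 := congrArg (fun k => k ≫ prod.snd ≫ prod.fst) h
    have h22 := congrArg (fun k => k ≫ prod.snd ≫ prod.snd) h
    simp [Limits.diag, prod.lift_fst, prod.lift_snd, prod.lift_fst_assoc, prod.lift_snd_assoc] at h11 h12 h21 h22
    have e : b ≫ prod.fst = b ≫ prod.snd := by
      apply sq.hom_ext
      · rw [Category.assoc, Category.assoc, ← h11, ← h12]
      · rw [Category.assoc, Category.assoc, ← h21, ← h22]
    refine ⟨b ≫ prod.fst, ?_, ?_⟩
    · apply Limits.prod.hom_ext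
      · simp [h11, prod.lift_fst, prod.lift_snd]
      · simp [h21, prod.lift_fst, prod.lift_snd]
    · apply Limits.prod.hom_ext
      · simp [Limits.diag, prod.lift_fst, prod.lift_snd]
      · simp [Limits.diag, e, prod.lift_fst, prod.lift_snd]

/-- Over a base scheme with quasi-separated underlying space, a fibre product of algebraic spaces that
are quasi-compact and quasi-separated over S is again quasi-compact and quasi-separated over S. (The
published statement takes quasi-separatedness in the absolute sense; this row takes it over S and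
assumes S quasi-separated.) -/
theorem result {S : Scheme.{u}} [QuasiSeparatedSpace ↥S] {X Y Z P : AlgSp.Space S}
    (f : X ⟶ Y) (g : Z ⟶ Y) (fst : P ⟶ X) (snd : P ⟶ Z) (sq : IsPullback fst.hom snd.hom f.hom g.hom)
    (hX : AlgSp.IsQuasiCompactSp X.obj ∧ AlgSp.IsQuasiSeparatedSp X.obj)
    (hY : AlgSp.IsQuasiCompactSp Y.obj ∧ AlgSp.IsQuasiSeparatedSp Y.obj)
    (hZ : AlgSp.IsQuasiCompactSp Z.obj ∧ AlgSp.IsQuasiSeparatedSp Z.obj) :
    AlgSp.IsQuasiCompactSp P.obj ∧ AlgSp.IsQuasiSeparatedSp P.obj := by
  refine ⟨?_, ?_⟩
  · have hg : IsQuasiCompactMor g.hom :=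
      Groth.Agent.S9920.main Z.property Y.property g.hom hZ.1 hY.2
    exact hg X.property hX.1 f.hom snd.hom fst.hom sq.flip
  · have h1 : RepWith @QuasiCompact (prod.map (Limits.diag X.obj) (Limits.diag Z.obj)) :=
      Groth.Agent.Lib.helper15.AlgSpDiag.prod_map_mem (RepWith (S := S) @QuasiCompact) _ _ hX.2 hZ.2
    exact (AlgSp.repWith_isStableUnderBaseChange (S := S) @QuasiCompact).of_isPullback
      (isPullback_diag_of_isPullback sq) h1

end Groth.Agent.S9921
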