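import Groth.Statements.S9926
import Groth.Agent.S9925
import Groth.Agent.S9915
import Groth.Agent.S10276
import Groth.Agent.Lib.Helper1.Diagonal
import Groth.Agent.Lib.Helper7.AlgSpQC
import Groth.Agent.Lib.Helper5.AlgSpQCFam
import Groth.Agent.Lib.Helper5.AlgSpUniv3

set_option autoImplicit false
universe u
open CategoryTheory CategoryTheory.Limits AlgebraicGeometry
open AlgSp

namespace Groth.Agent.S9926

section cat

variable {C : Type*} [Category C] [HasPullbacks C]

set_option backward.isDefEq.respectTransparency false in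
theorem isPullback_map_left {X Y B W : C} (f : X ⟶ Y) (q : Y ⟶ B) (r : W ⟶ B) :
    IsPullback (pullback.fst (f ≫ q) r)
      (pullback.map (f ≫ q) r q r f (𝟙 W) (𝟙 B) (by simp) (by simp)) f (pullback.fst q r) := by
  have h1 : IsPullback (pullback.snd (f ≫ q) r) (pullback.fst (f ≫ q) r) r (f ≫ q) :=
    (IsPullback.of_hasPullback (f ≫ q) r).flip
  have h2 : IsPullback (pullback.snd q r) (pullback.fst q r) r q := (IsPullback.of_hasPullback q r).flip
  have e : pullback.map (f ≫ q) r q r f (𝟙 W) (𝟙 B) (by simp) (by simp) ≫ pullback.snd q r =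
      pullback.snd (f ≫ q) r := by simp
  rw [← e] at h1
  exact (IsPullback.of_right h1 (by simp) h2).flip

set_option backward.isDefEq.respectTransparency false in
theorem isPullback_map_right {X Y B W : C} (f : X ⟶ Y) (q : Y ⟶ B) (r : W ⟶ B) :
    IsPullback (pullback.snd r (f ≫ q))
      (pullback.map r (f ≫ q) r q (𝟙 W) f (𝟙 B) (by simp) (by simp)) f (pullback.snd r q) := by
  have h1 : IsPullback (pullback.fst r (f ≫ q)) (pullback.snd r (f ≫ q)) r (f ≫ q) :=
    IsPullback.of_hasPullback r (f ≫ q)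
  have h2 : IsPullback (pullback.fst r q) (pullback.snd r q) r q := IsPullback.of_hasPullback r q
  have e : pullback.map r (f ≫ q) r q (𝟙 W) f (𝟙 B) (by simp) (by simp) ≫ pullback.fst r q =
      pullback.fst r (f ≫ q) := by simp
  rw [← e] at h1
  exact (IsPullback.of_right h1 (by simp) h2).flip

set_option backward.isDefEq.respectTransparency false in
theorem diagonal_map_map {X Y B : C} (f : X ⟶ Y) (q : Y ⟶ B) :
    pullback.diagonal (f ≫ q) ≫
      pullback.map (f ≫ q) (f ≫ q) q (f ≫ q) f (𝟙 X) (𝟙 B) (by simp) (by simp) ≫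
      pullback.map q (f ≫ q) q q (𝟙 Y) f (𝟙 B) (by simp) (by simp) = f ≫ pullback.diagonal q := by
  apply pullback.hom_ext <;> simp

end cat

variable {S : Scheme.{u}}

/-- If `a ≫ b` is universally closed and `a` is surjective, then `b` is universally closed. -/
theorem isUnivClosedMor_of_comp_surjective {F G H : Sp S} (a : F ⟶ G) (b : G ⟶ H)
    (hab : IsUnivClosedMor (a ≫ b)) (ha : IsSurjectiveMor a) : IsUnivClosedMor b := by
  intro Z Z' hZ g fst snd sq
  have sqW : IsPullback (pullback.fst a fst) (pullback.snd a fst) a fst := IsPullback.of_hasPullback _ _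
  have sq2 := sqW.paste_vert sq
  have hcl : IsClosedMap (Points.map (pullback.snd a fst ≫ snd)) := hab hZ g _ _ sq2
  have hsurj : IsSurjectiveMor (pullback.snd a fst) :=
    Groth.Agent.Lib.helper5.isSurjectiveMor_of_isPullback sqW.flip ha
  intro C hC
  have : Points.map snd '' C =
      Points.map (pullback.snd a fst ≫ snd) '' (Points.map (pullback.snd a fst) ⁻¹' C) := by
    ext z
    constructor
    · rintro ⟨c, hc, rfl⟩
      obtain ⟨w, rfl⟩ := hsurj c
      exact ⟨w, hc, Points.map_comp _ _ _⟩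
    · rintro ⟨w, hw, rfl⟩
      exact ⟨_, hw, (Points.map_comp _ _ _).symm⟩
  rw [this]
  exact hcl _ (hC.preimage (Points.continuous_map _))

theorem main {X Y B : AlgSp.Space S} (f : X ⟶ Y) (p : X ⟶ B)
    (q : Y ⟶ B) (comm : f ≫ q = p) (hs : AlgSp.IsSurjectiveMor f.hom) (hc : AlgSp.IsUnivClosedMor f.hom) :
    (AlgSp.IsQuasiSeparatedMor p.hom → AlgSp.IsQuasiSeparatedMor q.hom) ∧
    (AlgSp.IsSeparatedMor p.hom → AlgSp.IsSeparatedMor q.hom) := by
  subst comm
  show (IsQuasiSeparatedMor (f.hom ≫ q.hom) → IsQuasiSeparatedMor q.hom) ∧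
    (IsSeparatedMor (f.hom ≫ q.hom) → IsSeparatedMor q.hom)
  set f₀ := f.hom
  set q₀ := q.hom
  have hXX : IsAlgSpace (pullback (f₀ ≫ q₀) (f₀ ≫ q₀)) :=
    Groth.Agent.Lib.helper5.isAlgSpace_of_isPullback B.property.diag X.property X.property
      (IsPullback.of_hasPullback _ _)
  have hYX : IsAlgSpace (pullback q₀ (f₀ ≫ q₀)) :=
    Groth.Agent.Lib.helper5.isAlgSpace_of_isPullback B.property.diag Y.property X.property
      (IsPullback.of_hasPullback _ _)
  have hYY : IsAlgSpace (pullback q₀ q₀) :=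
    Groth.Agent.Lib.helper5.isAlgSpace_of_isPullback B.property.diag Y.property Y.property
      (IsPullback.of_hasPullback _ _)
  let m₁ := pullback.map (f₀ ≫ q₀) (f₀ ≫ q₀) q₀ (f₀ ≫ q₀) f₀ (𝟙 X.obj) (𝟙 B.obj) (by simp) (by simp)
  let m₂ := pullback.map q₀ (f₀ ≫ q₀) q₀ q₀ (𝟙 Y.obj) f₀ (𝟙 B.obj) (by simp) (by simp)
  have sq₁ : IsPullback (pullback.fst (f₀ ≫ q₀) (f₀ ≫ q₀)) m₁ f₀ (pullback.fst q₀ (f₀ ≫ q₀)) :=
    isPullback_map_left f₀ q₀ (f₀ ≫ q₀)
  have sq₂ : IsPullback (pullback.snd q₀ (f₀ ≫ q₀)) m₂ f₀ (pullback.snd q₀ q₀) :=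
    isPullback_map_right f₀ q₀ q₀
  have hm₁ : IsUnivClosedMor m₁ := Groth.Agent.Lib.helper18.univSp_of_isPullback sq₁ hc
  have hm₂ : IsUnivClosedMor m₂ := Groth.Agent.Lib.helper18.univSp_of_isPullback sq₂ hc
  have hff : IsUnivClosedMor (m₁ ≫ m₂) := Groth.Agent.S10276.isUnivClosedMor_comp hYX hYY.diag hm₁ hm₂
  have hcomm : pullback.diagonal (f₀ ≫ q₀) ≫ m₁ ≫ m₂ = f₀ ≫ pullback.diagonal q₀ := by
    exact diagonal_map_map f₀ q₀
  let XX : AlgSp.Space S := ⟨pullback (f₀ ≫ q₀) (f₀ ≫ q₀), hXX⟩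
  let YY : AlgSp.Space S := ⟨pullback q₀ q₀, hYY⟩
  let ff : XX ⟶ YY := ObjectProperty.homMk (m₁ ≫ m₂)
  let dq : Y ⟶ YY := ObjectProperty.homMk (pullback.diagonal q₀)
  constructor
  · intro h
    have h1 : IsQuasiCompactMor (pullback.diagonal (f₀ ≫ q₀)) :=
      Groth.Agent.Lib.helper7.AlgSpQC.isQuasiCompactMor_of_repWith h
    have h2 : IsQuasiCompactMor (m₁ ≫ m₂) := Groth.Agent.S9925.result ff hff
    have h3 : IsQuasiCompactMor (pullback.diagonal (f₀ ≫ q₀) ≫ m₁ ≫ m₂) :=
      Groth.Agent.Lib.helper5.isQuasiCompactMor_comp hXX hYY.diag h1 h2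
    rw [hcomm] at h3
    have h4 : IsQuasiCompactMor (pullback.diagonal q₀) :=
      Groth.Agent.S9915.result f (f ≫ dq) dq rfl hs h3
    exact Groth.Agent.Lib.helper7.AlgSpQC.repWith_of_isQuasiCompactMor
      (Groth.Agent.H1.Diagonal.representable_diagonal Y.property.diag q₀) h4
  · intro h
    have h1 : IsUnivClosedMor (pullback.diagonal (f₀ ≫ q₀)) :=
      Groth.Agent.Lib.helper18.isUnivClosedMor_of_repWith_isClosedImmersion _ h
    have h3 : IsUnivClosedMor (pullback.diagonal (f₀ ≫ q₀) ≫ m₁ ≫ m₂) :=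
      Groth.Agent.S10276.isUnivClosedMor_comp hXX hYY.diag h1 hff
    rw [hcomm] at h3
    have h4 : IsUnivClosedMor (pullback.diagonal q₀) := isUnivClosedMor_of_comp_surjective _ _ h3 hs
    exact Groth.Agent.H1.Diagonal.repWith_isClosedImmersion_diagonal_of_univClosed Y.property B.property
      q₀ h4

/-- Let B be an algebraic space and f : X -> Y a morphism over B that is surjective and universally
closed. Quasi-separatedness of X over B forces quasi-separatedness of Y over B, and likewise for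
separatedness. (The published lemma also has absolute versions; this row states the versions over
B.) -/
theorem result {S : Scheme.{u}} {X Y B : AlgSp.Space S} (f : X ⟶ Y) (p : X ⟶ B)
    (q : Y ⟶ B) (comm : f ≫ q = p) (hs : AlgSp.IsSurjectiveMor f.hom) (hc : AlgSp.IsUnivClosedMor f.hom) :
    (AlgSp.IsQuasiSeparatedMor p.hom → AlgSp.IsQuasiSeparatedMor q.hom) ∧
    (AlgSp.IsSeparatedMor p.hom → AlgSp.IsSeparatedMor q.hom) := by
  exact main f p q comm hs hc

end Groth.Agent.S9926
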