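import Groth.Statements.S9927
-- import your own Groth.Agent.* helpers here

set_option autoImplicit false
universe u
open CategoryTheory CategoryTheory.Limits AlgebraicGeometry
open AlgSp

namespace Groth.Agent.S9927

/-- The sieve generated by an etale surjective morphism over `S` is covering for the fppf topology. -/
theorem cover_mem {S : Scheme.{u}} {W T : Over S} (w : W ⟶ T) [Etale w.left] [Surjective w.left] :
    Sieve.ofArrows (fun _ : PUnit.{1} => W) (fun _ => w) ∈ (AlgSp.J S) T := by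
  rw [GrothendieckTopology.mem_over_iff, Sieve.overEquiv_ofArrows]
  have h := Precoverage.generate_mem_toGrothendieck (w.left.singleton_mem_fppfPrecoverage)
  have e : Presieve.singleton w.left = Presieve.ofArrows (fun _ : PUnit.{1} => W.left)
      (fun _ => w.left) := (Presieve.ofArrows_pUnit.{0} w.left).symm
  rw [e] at h
  exact h

/-- Maps from a representable sheaf to a sheaf that agree on an etale surjective cover agree. -/
theorem eq_of_cover {S : Scheme.{u}} {F : AlgSp.Sp S} {W T : Over S} (w : W ⟶ T) [Etale w.left]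
    [Surjective w.left] (a b : (AlgSp.yon S).obj T ⟶ F)
    (h : (AlgSp.yon S).map w ≫ a = (AlgSp.yon S).map w ≫ b) : a = b := by
  apply (AlgSp.J S).uliftYonedaEquiv.injective
  have hsh : Presieve.IsSheaf (AlgSp.J S) F.obj := (isSheaf_iff_isSheaf_of_type _ _).1 F.property
  refine (hsh.isSeparated _ (cover_mem w)).ext ?_
  rintro Y g ⟨Z, k, _, ⟨⟨⟩⟩, rfl⟩
  rw [GrothendieckTopology.uliftYonedaEquiv_naturality,
    GrothendieckTopology.uliftYonedaEquiv_naturality, Functor.map_comp, Category.assoc,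
    Category.assoc, h]

/-- (4) ⇒ (1): being a monomorphism descends along a surjective etale base change from a scheme. -/
theorem result {S : Scheme.{u}} {X Y : AlgSp.Space S} (f : X ⟶ Y) (V : Over S)
    (p : (AlgSp.yon S).obj V ⟶ Y.obj) (hp : AlgSp.RepWith @Etale p) (hps : AlgSp.RepWith @Surjective p)
    {P : AlgSp.Sp S} (fst : P ⟶ X.obj) (snd : P ⟶ (AlgSp.yon S).obj V) (sq : IsPullback fst snd f.hom p)
    [Mono snd] : Mono f.hom := by
  refine ⟨fun {Z} a b hab => ?_⟩
  apply GrothendieckTopology.hom_ext_uliftYoneda.{u + 1, u, u + 1} (J := AlgSp.J S)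
  intro T c
  have hab' : (c ≫ a) ≫ f.hom = (c ≫ b) ≫ f.hom := by simp only [Category.assoc, hab]
  obtain ⟨hrep, hEt⟩ := (AlgSp.repWith_iff _ p).1 hp
  obtain ⟨_, hSurj⟩ := (AlgSp.repWith_iff _ p).1 hps
  obtain ⟨W, w, fst2, sq2⟩ := hrep ((c ≫ a) ≫ f.hom)
  have hw1 : Etale w.left := hEt _ fst2 w sq2
  have hw2 : Surjective w.left := hSurj _ fst2 w sq2
  have key : (AlgSp.yon S).map w ≫ (c ≫ a) = (AlgSp.yon S).map w ≫ (c ≫ b) := by
    obtain ⟨la, hla1, hla2⟩ := sq.exists_lift ((AlgSp.yon S).map w ≫ (c ≫ a)) fst2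
      (by rw [Category.assoc, sq2.w])
    obtain ⟨lb, hlb1, hlb2⟩ := sq.exists_lift ((AlgSp.yon S).map w ≫ (c ≫ b)) fst2
      (by rw [Category.assoc, ← hab', sq2.w])
    have : la = lb := by rw [← cancel_mono snd, hla2, hlb2]
    rw [← hla1, ← hlb1, this]
  exact eq_of_cover w (c ≫ a) (c ≫ b) key

end Groth.Agent.S9927
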