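import Groth.Statements.S9932
import Groth.Agent.Lib.Helper5.AlgSpImmDesc2
import Groth.Agent.Lib.Helper5.AlgSpEtFpqc
import Groth.Agent.S10531

set_option autoImplicit false
universe u
open CategoryTheory CategoryTheory.Limits AlgebraicGeometry
open AlgSp

namespace Groth.Agent.S9932

/-- (4) ⇒ (1): for P = closed immersion, open immersion or immersion, being representable with P
descends along a surjective etale base change from a scheme. -/
theorem result {S : Scheme.{u}} (P : MorphismProperty Scheme.{u})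
    (hP : P = @IsClosedImmersion ∨ P = @IsOpenImmersion ∨ P = @IsImmersion) {X Y : AlgSp.Space S} (f : X ⟶ Y)
    (V : Over S) (p : (AlgSp.yon S).obj V ⟶ Y.obj) (hp : AlgSp.RepWith @Etale p) (hps : AlgSp.RepWith @Surjective p)
    {P₀ : AlgSp.Sp S} (fst : P₀ ⟶ X.obj) (snd : P₀ ⟶ (AlgSp.yon S).obj V) (sq : IsPullback fst snd f.hom p)
    (h : AlgSp.RepWith P snd) : AlgSp.RepWith P f.hom := by
  have hcov := Groth.Agent.Lib.helper5.EtFpqc.isFpqcCover_of_chart Y.property V p hp hps
  have hP₀ : IsAlgSpace P₀ := Groth.Agent.Lib.helper5.isAlgSpace_of_isPullback Y.property.diag X.property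
    (IsAlgSpace.yon_obj V) sq
  rcases hP with rfl | rfl | rfl
  · exact (Groth.Agent.S10534.result S (ι := PUnit.{u + 1}) (fun _ => (AlgSp.yon S).obj V) (fun _ => p)
      Y.property (fun _ => IsAlgSpace.yon_obj V) hcov f.hom X.property (fun _ => P₀) (fun _ => snd)
      (fun _ => fst) (fun _ => hP₀) (fun _ => sq)).2 (fun _ => h)
  · exact (Groth.Agent.S10531.result S (ι := PUnit.{u + 1}) (fun _ => (AlgSp.yon S).obj V) (fun _ => p)
      Y.property (fun _ => IsAlgSpace.yon_obj V) hcov f.hom X.property (fun _ => P₀) (fun _ => snd)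
      (fun _ => fst) (fun _ => hP₀) (fun _ => sq)).2 (fun _ => h)
  · have h1 : IsEtaleMor p := fun U φ hφ => (RepWith (S := S) @Etale).comp_mem _ _ hφ hp
    have h2 : LocP @Etale p := Groth.Agent.S10265.locP_etale_of_isEtaleMor p h1
    have hfl : LocP @Flat p := Groth.Agent.S10265.locP_mono (fun X Y f hf => by
      have : Etale f := hf
      exact inferInstanceAs (Flat f)) h2
    have hlfp : LocP @LocallyOfFinitePresentation p := Groth.Agent.S10265.locP_mono (fun X Y f hf => by
      have : Etale f := hf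
      exact inferInstanceAs (LocallyOfFinitePresentation f)) h2
    have hsurj := Groth.Agent.Lib.helper5.surjective_map_of_repWith_surjective p hps
    have hfppf : IsFppfCover (S := S) (ι := PUnit.{u + 1}) (fun _ => (AlgSp.yon S).obj V) (fun _ => p) :=
      ⟨fun _ => ⟨hfl, hlfp⟩, fun x => ⟨PUnit.unit, hsurj x⟩⟩
    exact (Groth.Agent.Lib.helper5.ImmDesc.isLocalOnBase_fppf_repWith_isImmersion (S := S)
      (ι := PUnit.{u + 1}) (fun _ => (AlgSp.yon S).obj V) (fun _ => p)
      Y.property (fun _ => IsAlgSpace.yon_obj V) hfppf f.hom X.property (fun _ => P₀) (fun _ => snd)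
      (fun _ => fst) (fun _ => hP₀) (fun _ => sq)).2 (fun _ => h)

end Groth.Agent.S9932
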