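import Groth.Statements.S9933
import Groth.Agent.Lib.Helper1.MonoSp
import Groth.Agent.Lib.Helper1.LocPStable
import Groth.Agent.Lib.Helper1.SevenProps
import Groth.Agent.S10269

set_option autoImplicit false
universe u
open CategoryTheory CategoryTheory.Limits AlgebraicGeometry
open AlgSp

namespace Groth.Agent.S9933

open Groth.Agent.Lib.helper5

variable {S : Scheme.{u}}

theorem mono_left_of_isPullback {F G : Sp S} (a : F ⟶ G) [Mono a] {T T' : Over S}
    (g : (yon S).obj T ⟶ G) (fst : (yon S).obj T' ⟶ F) (snd : T' ⟶ T)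
    (sq : IsPullback fst ((yon S).map snd) a g) : Mono snd.left := by
  haveI : Mono ((yon S).map snd) := sq.mono_snd_of_mono
  haveI : Mono snd := (yon S).mono_of_mono_map inferInstance
  infer_instance

theorem part1 {Z Y X : Sp S} (hZ : IsAlgSpace Z) (hY : IsAlgSpace Y) (hX : IsAlgSpace X)
    (a : Z ⟶ Y) (b : Y ⟶ X) (H1 : Representable (a ≫ b))
    (H2 : RepWith @LocallyOfFiniteType (a ≫ b))
    (H5 : RepWith (MorphismProperty.monomorphisms Scheme.{u}) (a ≫ b)) :
    Representable a ∧ RepWith @LocallyOfFiniteType a ∧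
      RepWith (@LocallyQuasiFinite ⊓ @LocallyOfFiniteType) a ∧
      RepWith @IsSeparated a ∧ RepWith (MorphismProperty.monomorphisms Scheme.{u}) a := by
  haveI : Mono (a ≫ b) := Groth.Agent.Lib.helper7.mono_of_repWith le_rfl H5
  haveI : Mono a := mono_of_mono a b
  have hP := LocPBC.locPData_lft.{u}
  have hl0 : LocP @LocallyOfFiniteType (a ≫ b) :=
    (Groth.Agent.H1.Seven.locP_iff_repWith hP hZ hX _ H1).2 H2
  have hl : LocP @LocallyOfFiniteType a :=
    Groth.Agent.H1.LocPStable.locP_of_comp (P := @LocallyOfFiniteType)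
      (fun f g he hs h => hP.descend f g he hs h) (fun f g hf hg => hP.post f g hf hg)
      (fun f g h => by have := h; exact locallyOfFiniteType_of_comp f g) hX a b hl0
  have hrep : Representable a := by
    intro T ξ
    obtain ⟨I, j, k, sq, -, -⟩ := Groth.Agent.H1.MonoSp.exists_rep_of_mono_lft hZ hY a hl ξ
    exact ⟨I, j, k, sq⟩
  have key : ∀ ⦃T T' : Over S⦄ (g : (yon S).obj T ⟶ Y) (fst : (yon S).obj T' ⟶ Z) (snd : T' ⟶ T),
      IsPullback fst ((yon S).map snd) a g → Mono snd.left ∧ LocallyOfFiniteType snd.left :=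
    fun T T' g fst snd sq => ⟨mono_left_of_isPullback a g fst snd sq,
      Groth.Agent.S10269.prop_of_isPullback hP hZ hY a hl g fst snd sq⟩
  refine ⟨hrep, ⟨hrep, fun T T' g fst snd sq => (key g fst snd sq).2⟩, ⟨hrep, ?_⟩, ⟨hrep, ?_⟩,
    ⟨hrep, fun T T' g fst snd sq => (key g fst snd sq).1⟩⟩
  · intro T T' g fst snd sq
    obtain ⟨h1, h2⟩ := key g fst snd sq
    haveI := h1
    haveI := h2
    have h3 : LocallyQuasiFinite snd.left := inferInstance
    exact ⟨h3, h2⟩
  · intro T T' g fst snd sq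
    obtain ⟨h1, h2⟩ := key g fst snd sq
    haveI := h1
    show IsSeparated snd.left
    infer_instance

theorem part2 {Z Y X : Sp S} (a : Z ⟶ Y) (b : Y ⟶ X)
    (H : RepWith @IsClosedImmersion (a ≫ b)) (hb : IsSeparatedMor b) :
    RepWith @IsClosedImmersion a := by
  have sq1 := pullback_lift_diagonal_isPullback a b
  have h1 : RepWith @IsClosedImmersion (pullback.lift (𝟙 Z) a (by simp) : Z ⟶ pullback (a ≫ b) b) :=
    (RepWith (S := S) @IsClosedImmersion).of_isPullback sq1 hb
  have h2 : RepWith @IsClosedImmersion (pullback.snd (a ≫ b) b) :=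
    (RepWith (S := S) @IsClosedImmersion).of_isPullback (IsPullback.of_hasPullback (a ≫ b) b) H
  have := (RepWith (S := S) @IsClosedImmersion).comp_mem _ _ h1 h2
  rwa [pullback.lift_snd] at this

theorem main {Z Y X : AlgSp.Space S} (a : Z ⟶ Y) (b : Y ⟶ X) :
    ((AlgSp.Representable (a ≫ b).hom ∧ AlgSp.RepWith @LocallyOfFiniteType (a ≫ b).hom ∧
        AlgSp.RepWith (@LocallyQuasiFinite ⊓ @LocallyOfFiniteType) (a ≫ b).hom ∧
        AlgSp.RepWith @IsSeparated (a ≫ b).hom ∧
        AlgSp.RepWith (MorphismProperty.monomorphisms Scheme.{u}) (a ≫ b).hom) →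
      (AlgSp.Representable a.hom ∧ AlgSp.RepWith @LocallyOfFiniteType a.hom ∧
        AlgSp.RepWith (@LocallyQuasiFinite ⊓ @LocallyOfFiniteType) a.hom ∧
        AlgSp.RepWith @IsSeparated a.hom ∧
        AlgSp.RepWith (MorphismProperty.monomorphisms Scheme.{u}) a.hom)) ∧
    (AlgSp.RepWith @IsClosedImmersion (a ≫ b).hom → AlgSp.IsSeparatedMor b.hom →
      AlgSp.RepWith @IsClosedImmersion a.hom) :=
  ⟨fun ⟨H1, H2, _, _, H5⟩ => part1 Z.property Y.property X.property a.hom b.hom H1 H2 H5,
    fun H hb => part2 a.hom b.hom H hb⟩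

/-- Permanence for Z -> Y -> X: the five representable finiteness/separation properties of Z -> X pass
to Z -> Y, and a closed immersion Z -> X with Y -> X separated gives a closed immersion Z -> Y. -/
theorem result {S : Scheme.{u}} {Z Y X : AlgSp.Space S} (a : Z ⟶ Y) (b : Y ⟶ X) :
    ((AlgSp.Representable (a ≫ b).hom ∧ AlgSp.RepWith @LocallyOfFiniteType (a ≫ b).hom ∧
        AlgSp.RepWith (@LocallyQuasiFinite ⊓ @LocallyOfFiniteType) (a ≫ b).hom ∧
        AlgSp.RepWith @IsSeparated (a ≫ b).hom ∧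
        AlgSp.RepWith (MorphismProperty.monomorphisms Scheme.{u}) (a ≫ b).hom) →
      (AlgSp.Representable a.hom ∧ AlgSp.RepWith @LocallyOfFiniteType a.hom ∧
        AlgSp.RepWith (@LocallyQuasiFinite ⊓ @LocallyOfFiniteType) a.hom ∧
        AlgSp.RepWith @IsSeparated a.hom ∧
        AlgSp.RepWith (MorphismProperty.monomorphisms Scheme.{u}) a.hom)) ∧
    (AlgSp.RepWith @IsClosedImmersion (a ≫ b).hom → AlgSp.IsSeparatedMor b.hom →
      AlgSp.RepWith @IsClosedImmersion a.hom) := by
  exact main a b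

end Groth.Agent.S9933
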