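import Groth.Statements.S9934
import Groth.Agent.Lib.Helper11.AlgSpBasic
import Mathlib.AlgebraicGeometry.Morphisms.ClosedImmersion
import Mathlib.AlgebraicGeometry.Morphisms.Immersion

set_option autoImplicit false
universe u
open CategoryTheory CategoryTheory.Limits AlgebraicGeometry
open AlgSp

namespace Groth.Agent.S9934

open Groth.Agent.Lib.helper11 Groth.Agent.Lib.helper10

variable {S : Scheme.{u}}

/-- the preimage of the range of `|i|` in a scheme `T` is the range of the base change -/
theorem preimage_range {F G : Sp S} (i : F ⟶ G) {T V : Over S} (g : (yon S).obj T ⟶ G)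
    (fst : (yon S).obj V ⟶ F) (snd : V ⟶ T) (sq : IsPullback fst ((yon S).map snd) i g) :
    Points.ofPt g ⁻¹' Set.range (Points.map i) = Set.range snd.left := by
  ext t
  constructor
  · rintro ⟨z, hz⟩
    obtain ⟨v, -, hv⟩ := exists_of_isPullback_scheme sq z t hz
    exact ⟨v, hv⟩
  · rintro ⟨v, rfl⟩
    refine ⟨Points.ofPt fst v, ?_⟩
    rw [Points.map_ofPt, sq.w, ofPt_yon_map_comp]

theorem main {Z X : AlgSp.Space S} (i : Z ⟶ X)
    (hi : AlgSp.RepWith @IsImmersion i.hom) :
    AlgSp.RepWith @IsClosedImmersion i.hom ↔ IsClosed (Set.range (AlgSp.Points.map i.hom)) := by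
  constructor
  · intro h
    rw [← isOpen_compl_iff, Points.isOpen_iff]
    intro T g
    obtain ⟨V, snd, fst, sq⟩ := h.1 g
    have hc : IsClosedImmersion snd.left := h.2 _ _ _ sq
    rw [Set.preimage_compl, preimage_range i.hom g fst snd sq, isOpen_compl_iff]
    exact snd.left.isClosedEmbedding.isClosed_range
  · intro h
    refine ⟨hi.1, fun T T' g fst snd sq => ?_⟩
    have him : IsImmersion snd.left := hi.2 _ _ _ sq
    have hcl : IsClosed (Set.range snd.left) := by
      rw [← preimage_range i.hom g fst snd sq]
      exact h.preimage (Points.continuous_ofPt g)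
    have hpre : IsPreimmersion snd.left := inferInstance
    exact IsClosedImmersion.of_isPreimmersion snd.left hcl

/-- An immersion of algebraic spaces is a closed immersion exactly when its image on points is closed. -/
theorem result {S : Scheme.{u}} {Z X : AlgSp.Space S} (i : Z ⟶ X)
    (hi : AlgSp.RepWith @IsImmersion i.hom) :
    AlgSp.RepWith @IsClosedImmersion i.hom ↔ IsClosed (Set.range (AlgSp.Points.map i.hom)) := by
  exact main i hi

end Groth.Agent.S9934
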