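import Groth.Statements.S9935
import Groth.Agent.Lib.Helper1.ClosedSub2
import Groth.Agent.Lib.Helper7.AlgSpQC
import Groth.Agent.Lib.Helper5.AlgSpEtFpqc
import Groth.Agent.S10193
import Groth.Agent.S9928
import Groth.Agent.S10531

set_option autoImplicit false
universe u
open CategoryTheory CategoryTheory.Limits AlgebraicGeometry
open AlgSp

namespace Groth.Agent.S9935

open Groth.Agent.H1.ClosedSub Groth.Agent.Lib.helper5

variable {S : Scheme.{u}}

theorem mono_of_closed {F G : Sp S} (i : F ⟶ G) (hi : RepWith @IsClosedImmersion i) : Mono i :=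
  Groth.Agent.S9928.mono_of_repWith_mono i
    (Groth.Agent.S10194.repWith_mono (fun _ _ f hf => by
      have : IsClosedImmersion f := hf
      exact inferInstanceAs (IsImmersion f)) hi)

theorem main {Z X : AlgSp.Space S}
    (i : Z ⟶ X) (hi : AlgSp.RepWith @IsImmersion i.hom) (hq : AlgSp.IsQuasiCompactMor i.hom) :
    ∃ (Zbar : AlgSp.Space S) (j : Z ⟶ Zbar) (c : Zbar ⟶ X), j ≫ c = i ∧
      AlgSp.RepWith @IsOpenImmersion j.hom ∧ AlgSp.RepWith @IsClosedImmersion c.hom := by
  obtain ⟨U, R, s, t, p, hp⟩ := exists_presentation X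
  have hst : (yon S).map t ≫ p = (yon S).map s ≫ p := hp.isPullback.w
  have hse : Etale s.left := hp.eqvRel.etale_left
  have hte : Etale t.left := hp.eqvRel.etale_right
  obtain ⟨ZU, c, fst, sqZ⟩ := hi.rep p
  have hcimm : IsImmersion c.left := hi.2 _ _ _ sqZ
  have hcqc : QuasiCompact c.left :=
    (Groth.Agent.Lib.helper7.AlgSpQC.repWith_of_isQuasiCompactMor hi.1 hq).2 _ _ _ sqZ
  have hcmono : Mono c.left := inferInstance
  -- the scheme theoretic image of `ZU` in `U`
  have hker : c.left.imageι.ker = c.left.ker := Scheme.IdealSheafData.ker_subschemeι _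
  have hinv : c.left.imageι.ker.comap s.left = c.left.imageι.ker.comap t.left := by
    rw [hker]
    exact comap_ker_eq_of_quasiCompact hst i.hom c fst sqZ
  obtain ⟨Zbar, cb, q, hcl, sq⟩ := exists_closedSub_of_comap_eq X s t p hp c.left.imageι hinv
  have hmono : Mono cb.hom := mono_of_closed cb.hom hcl
  -- the open immersion `ZU ⟶ image`, over `S`
  let C : Over S := Over.mk (c.left.imageι ≫ U.hom)
  let ιC : C ⟶ U := Over.homMk c.left.imageι rfl
  let τ : ZU ⟶ C := Over.homMk c.left.toImage (by
    show c.left.toImage ≫ c.left.imageι ≫ U.hom = ZU.hom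
    rw [Scheme.Hom.toImage_imageι_assoc, Over.w c])
  have hτ : τ ≫ ιC = c := by
    apply Over.OverMorphism.ext
    exact c.left.toImage_imageι
  have hτo : IsOpenImmersion τ.left := inferInstanceAs (IsOpenImmersion c.left.toImage)
  have hιm : Mono ((yon S).map ιC) := by
    have : Mono ιC := by
      have : Mono ((Over.forget S).map ιC) := by
        show Mono c.left.imageι
        infer_instance
      exact (Over.forget S).mono_of_mono_map this
    infer_instance
  -- `fst` is an etale surjective chart of `Z`
  have hfe : RepWith @Etale fst :=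
    (repWith_isStableUnderBaseChange (S := S) @Etale).of_isPullback sqZ.flip hp.etale
  have hfs : RepWith @Surjective fst :=
    (repWith_isStableUnderBaseChange (S := S) @Surjective).of_isPullback sqZ.flip hp.surjective
  have hepi : Epi fst := Groth.Agent.S10193.epi_of_chart fst hfe hfs
  have hgV : ((yon S).map τ ≫ q) ≫ cb.hom = fst ≫ i.hom := by
    rw [Category.assoc, sq.w, ← Category.assoc, ← Functor.map_comp, hτ, sqZ.w]
  obtain ⟨j, hj⟩ := Groth.Agent.S10193.exists_factor_of_chart cb.hom i.hom fst _ hgV
  have hfq : (yon S).map τ ≫ q = fst ≫ j := by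
    rw [← cancel_mono cb.hom, hgV, Category.assoc, hj]
  -- the pullback square over `Zbar`
  have sq1 : IsPullback (𝟙 _) ((yon S).map τ) ((yon S).map c) ((yon S).map ιC) := by
    rw [← hτ, Functor.map_comp]
    exact IsPullback.of_horiz_isIso_mono ⟨by simp⟩
  have sq2 : IsPullback fst ((yon S).map τ) i.hom ((yon S).map ιC ≫ p) := by
    have := sq1.paste_horiz sqZ
    rwa [Category.id_comp] at this
  have sq3 : IsPullback fst ((yon S).map τ) j q := by
    rw [← hj, ← sq.w] at sq2
    exact (Groth.Agent.S9888.isPullback_comp_mono_iff cb.hom).1 sq2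
  -- descend the open immersion
  have hqe : RepWith @Etale q :=
    (repWith_isStableUnderBaseChange (S := S) @Etale).of_isPullback sq.flip hp.etale
  have hqs : RepWith @Surjective q :=
    (repWith_isStableUnderBaseChange (S := S) @Surjective).of_isPullback sq.flip hp.surjective
  have hjo : RepWith @IsOpenImmersion j := by
    refine (Groth.Agent.S10531.result S (fun _ : PUnit.{u + 1} => (yon S).obj C) (fun _ => q)
      Zbar.property (fun _ => IsAlgSpace.yon_obj _)
      (EtFpqc.isFpqcCover_of_chart Zbar.property C q hqe hqs) j Z.property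
      (fun _ => (yon S).obj ZU) (fun _ => (yon S).map τ) (fun _ => fst)
      (fun _ => IsAlgSpace.yon_obj _) (fun _ => sq3)).2 (fun _ => ?_)
    exact (repWith_yon_map_iff @IsOpenImmersion τ).2 hτo
  exact ⟨Zbar, ObjectProperty.homMk j, cb, ObjectProperty.hom_ext _ hj, hjo, hcl⟩

/-- A quasi-compact immersion of algebraic spaces factors as an open immersion followed by a closed
immersion. -/
theorem result {S : Scheme.{u}} {Z X : AlgSp.Space S}
    (i : Z ⟶ X) (hi : AlgSp.RepWith @IsImmersion i.hom) (hq : AlgSp.IsQuasiCompactMor i.hom) :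
    ∃ (Zbar : AlgSp.Space S) (j : Z ⟶ Zbar) (c : Zbar ⟶ X), j ≫ c = i ∧
      AlgSp.RepWith @IsOpenImmersion j.hom ∧ AlgSp.RepWith @IsClosedImmersion c.hom := by
  exact main i hi hq

end Groth.Agent.S9935
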