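import Groth.Statements.S9939
-- import your own Groth.Agent.* helpers here

set_option autoImplicit false
universe u
open CategoryTheory CategoryTheory.Limits AlgebraicGeometry
open AlgSp

namespace Groth.Agent.S9939

/-- For a morphism of algebraic spaces representable by schemes, representable universal injectivity is
equivalent to injectivity on K-valued points for every field K. -/
theorem result {S : Scheme.{u}} {X Y : AlgSp.Space S} (f : X ⟶ Y)
    (hf : AlgSp.Representable f.hom) :
    AlgSp.RepWith @UniversallyInjective f.hom ↔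
      ∀ (K : Type u) [Field K] (str : Spec (CommRingCat.of K) ⟶ S),
        Function.Injective (fun a : (AlgSp.yon S).obj (Over.mk str) ⟶ X.obj => a ≫ f.hom) := by
  constructor
  · intro h K _ str a a' haa
    change a ≫ f.hom = a' ≫ f.hom at haa
    obtain ⟨V, v, fst, sq⟩ := h.rep (a ≫ f.hom)
    have hv : UniversallyInjective v.left := h.2 _ fst v sq
    obtain ⟨l, hl1, hl2⟩ := sq.exists_lift a (𝟙 _) (by simp)
    obtain ⟨l', hl1', hl2'⟩ := sq.exists_lift a' (𝟙 _) (by simp [haa])
    obtain ⟨m, rfl⟩ := (AlgSp.yon S).map_surjective l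
    obtain ⟨m', rfl⟩ := (AlgSp.yon S).map_surjective l'
    have e1 : m ≫ v = 𝟙 _ := by
      apply (AlgSp.yon S).map_injective
      rw [Functor.map_comp, hl2]
      exact ((AlgSp.yon S).map_id _).symm
    have e2 : m' ≫ v = 𝟙 _ := by
      apply (AlgSp.yon S).map_injective
      rw [Functor.map_comp, hl2']
      exact ((AlgSp.yon S).map_id _).symm
    have key : ∀ (K : Type u) [Field K],
        Function.Injective (fun g : Spec (.of K) ⟶ V.left ↦ g ≫ v.left) :=
      ((tfae_universallyInjective v.left).out 0 1).1 hv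
    have : m.left = m'.left := key K (by
      change m.left ≫ v.left = m'.left ≫ v.left
      rw [← Over.comp_left, ← Over.comp_left, e1, e2])
    have hm : m = m' := Over.OverMorphism.ext this
    rw [← hl1, ← hl1', hm]
  · intro h
    refine ⟨hf, ?_⟩
    intro U V g fst snd sq
    change UniversallyInjective snd.left
    have goal : ∀ (K : Type u) [Field K],
        Function.Injective (fun g : Spec (.of K) ⟶ V.left ↦ g ≫ snd.left) := ?_
    · exact ((tfae_universallyInjective snd.left).out 0 1).2 goal
    intro K _ φ₁ φ₂ hφ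
    change φ₁ ≫ snd.left = φ₂ ≫ snd.left at hφ
    have hw : snd.left ≫ U.hom = V.hom := Over.w snd
    let T : Over S := Over.mk ((φ₁ ≫ snd.left) ≫ U.hom)
    let ψ : T ⟶ U := Over.homMk (φ₁ ≫ snd.left) rfl
    let φ₁' : T ⟶ V := Over.homMk φ₁ (by
      change φ₁ ≫ V.hom = (φ₁ ≫ snd.left) ≫ U.hom
      rw [← hw, Category.assoc])
    let φ₂' : T ⟶ V := Over.homMk φ₂ (by
      change φ₂ ≫ V.hom = (φ₁ ≫ snd.left) ≫ U.hom
      rw [← hw, hφ, Category.assoc])
    have h1 : φ₁' ≫ snd = ψ := Over.OverMorphism.ext rfl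
    have h2 : φ₂' ≫ snd = ψ := Over.OverMorphism.ext hφ.symm
    have key : (AlgSp.yon S).map φ₁' ≫ fst = (AlgSp.yon S).map φ₂' ≫ fst := by
      apply h K ((φ₁ ≫ snd.left) ≫ U.hom)
      change ((AlgSp.yon S).map φ₁' ≫ fst) ≫ f.hom = ((AlgSp.yon S).map φ₂' ≫ fst) ≫ f.hom
      rw [Category.assoc, Category.assoc, sq.w, ← Category.assoc, ← Category.assoc,
        ← Functor.map_comp, ← Functor.map_comp, h1, h2]
    have : (AlgSp.yon S).map φ₁' = (AlgSp.yon S).map φ₂' := by
      apply sq.hom_ext key
      rw [← Functor.map_comp, ← Functor.map_comp, h1, h2]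
    have := (AlgSp.yon S).map_injective this
    exact congrArg (fun t => t.left) this

end Groth.Agent.S9939
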