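import Groth.Statements.S9940
import Groth.Agent.Lib.Helper5.AlgSpUniv3

set_option autoImplicit false
universe u
open CategoryTheory CategoryTheory.Limits AlgebraicGeometry
open AlgSp

namespace Groth.Agent.S9940

/-- (4) ⇒ (1): universal injectivity of a morphism of algebraic spaces descends along a surjective base
change from a scheme. -/
theorem result {S : Scheme.{u}} {X Y : AlgSp.Space S} (f : X ⟶ Y)
    (Z : Over S) (g : (AlgSp.yon S).obj Z ⟶ Y.obj) (hg : AlgSp.IsSurjectiveMor g) {P : AlgSp.Sp S}
    (fst : P ⟶ X.obj) (snd : P ⟶ (AlgSp.yon S).obj Z) (sq : IsPullback fst snd f.hom g)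
    (h : AlgSp.IsUnivInjectiveMor snd) : AlgSp.IsUnivInjectiveMor f.hom :=
  Groth.Agent.Lib.helper5.univSp_of_cover (R := AlgSp.IsSurjectiveMor)
    (Q := fun _ _ f => Function.Injective (AlgSp.Points.map f))
    (fun sq hg => Groth.Agent.Lib.helper5.isSurjectiveMor_of_isPullback sq hg)
    (fun sq hb hs => Groth.Agent.Lib.helper5.injective_of_isPullback_of_surjective sq hb hs)
    Y.property.diag f.hom g hg sq h

end Groth.Agent.S9940
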