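import Groth.Statements.S9942
import Groth.Agent.Lib.Helper5.AlgSpEtFpqc2
import Groth.Agent.S10533

set_option autoImplicit false
universe u
open CategoryTheory CategoryTheory.Limits AlgebraicGeometry
open AlgSp

namespace Groth.Agent.S9942

/-- A morphism from a sheaf isomorphic to an affine scheme to an affine scheme is affine. -/
theorem isAffineMor_of_iso_yon {S : Scheme.{u}} {W V : Over S} (hW : IsAffine W.left)
    (hV : IsAffine V.left) {P : Sp S} (e : (AlgSp.yon S).obj W ≅ P) (q : P ⟶ (AlgSp.yon S).obj V) :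
    IsAffineMor q := by
  intro Z hZ g
  obtain ⟨g', rfl⟩ := (AlgSp.yon S).map_surjective g
  obtain ⟨w, hw⟩ := (AlgSp.yon S).map_surjective (e.hom ≫ q)
  have sq0 : IsPullback (pullback.fst w g') (pullback.snd w g') w g' := IsPullback.of_hasPullback _ _
  have sq0l : IsPullback (pullback.fst w g').left (pullback.snd w g').left w.left g'.left :=
    sq0.map (Over.forget S)
  have sq1 := sq0.map (AlgSp.yon S)
  have h1 : IsPullback e.hom ((AlgSp.yon S).map w) q (𝟙 _) :=
    IsPullback.of_horiz_isIso ⟨by rw [hw, Category.comp_id]⟩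
  have h2 := sq1.paste_horiz h1
  rw [Category.comp_id] at h2
  exact ⟨pullback w g', pullback.snd w g', _, h2, IsAffine.of_isPullback sq0l⟩

/-- (3) ⇒ (2): if X x_Y V is an affine scheme for every affine scheme V etale over Y, then f : X -> Y is
affine. -/
theorem result {S : Scheme.{u}} {X Y : AlgSp.Space S} (f : X ⟶ Y)
    (h : ∀ (V : Over S), IsAffine V.left → ∀ (b : (AlgSp.yon S).obj V ⟶ Y.obj), AlgSp.RepWith @Etale b →
      ∀ (P : AlgSp.Sp S) (fst : P ⟶ X.obj) (snd : P ⟶ (AlgSp.yon S).obj V), IsPullback fst snd f.hom b →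
      ∃ (W : Over S), IsAffine W.left ∧ Nonempty ((AlgSp.yon S).obj W ≅ P)) :
    AlgSp.IsAffineMor f.hom := by
  obtain ⟨V₀, b₀, hb₀e, hb₀s⟩ := Y.property.atlas
  have hcov := Groth.Agent.Lib.helper5.EtFpqc.isFpqcCover_affineOpens Y.property V₀ b₀ hb₀e hb₀s
  have hbk : ∀ k : V₀.left.affineOpens, RepWith @Etale
      ((AlgSp.yon S).map (Groth.Agent.Lib.helper5.OpenSub.subOverι V₀ k.1) ≫ b₀) := by
    intro k
    refine (RepWith (S := S) @Etale).comp_mem _ _ ((repWith_yon_map_iff _ _).2 ?_) hb₀e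
    show Etale k.1.ι
    infer_instance
  have sqk : ∀ k : V₀.left.affineOpens, IsPullback
      (pullback.fst f.hom ((AlgSp.yon S).map (Groth.Agent.Lib.helper5.OpenSub.subOverι V₀ k.1) ≫ b₀))
      (pullback.snd f.hom ((AlgSp.yon S).map (Groth.Agent.Lib.helper5.OpenSub.subOverι V₀ k.1) ≫ b₀))
      f.hom ((AlgSp.yon S).map (Groth.Agent.Lib.helper5.OpenSub.subOverι V₀ k.1) ≫ b₀) :=
    fun k => IsPullback.of_hasPullback _ _
  refine (Groth.Agent.S10533.result S (ι := V₀.left.affineOpens)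
    (fun k => (AlgSp.yon S).obj (Groth.Agent.Lib.helper5.OpenSub.subOver V₀ k.1))
    (fun k => (AlgSp.yon S).map (Groth.Agent.Lib.helper5.OpenSub.subOverι V₀ k.1) ≫ b₀)
    Y.property (fun _ => IsAlgSpace.yon_obj _) hcov f.hom X.property
    (fun k => pullback f.hom ((AlgSp.yon S).map (Groth.Agent.Lib.helper5.OpenSub.subOverι V₀ k.1) ≫ b₀))
    (fun k => pullback.snd _ _) (fun k => pullback.fst _ _)
    (fun k => Groth.Agent.Lib.helper5.isAlgSpace_of_isPullback Y.property.diag X.property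
      (IsAlgSpace.yon_obj _) (sqk k)) sqk).2 ?_
  intro k
  have hVk : IsAffine (Groth.Agent.Lib.helper5.OpenSub.subOver V₀ k.1).left := k.2
  obtain ⟨W, hW, ⟨e⟩⟩ := h (Groth.Agent.Lib.helper5.OpenSub.subOver V₀ k.1) hVk _ (hbk k) _ _ _ (sqk k)
  exact isAffineMor_of_iso_yon hW hVk e _

end Groth.Agent.S9942
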