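import Groth.Statements.S9945
import Groth.Agent.S9942
import Groth.Agent.S10185
import Groth.Agent.S5067

set_option autoImplicit false
universe u
open CategoryTheory CategoryTheory.Limits AlgebraicGeometry
open AlgSp

namespace Groth.Agent.S9945

/-- Over a base scheme with quasi-separated underlying space, every morphism from the spectrum of an
Artinian ring to an algebraic space quasi-separated over S is affine. (The published statement
assumes X quasi-separated in the absolute sense over any base; this row assumes the base
quasi-separated and X quasi-separated over it, which on such bases is the same condition.) -/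
theorem result {S : Scheme.{u}} [QuasiSeparatedSpace ↥S] (X : AlgSp.Space S)
    (hX : AlgSp.IsQuasiSeparatedSp X.obj) (A : Type u) [CommRing A] [IsArtinianRing A]
    (str : Spec (CommRingCat.of A) ⟶ S) (a : (AlgSp.yon S).obj (Over.mk str) ⟶ X.obj) :
    AlgSp.IsAffineMor a := by
  have hA : AlgSp.IsAlgSpace ((AlgSp.yon S).obj (Over.mk str)) := AlgSp.IsAlgSpace.yon_obj _
  refine Groth.Agent.S9942.result (X := ⟨_, hA⟩) (Y := X) (ObjectProperty.homMk a) ?_
  intro V hV b hb P fst snd sq
  obtain ⟨W, p, q, sqW⟩ := hb.rep a
  have het : Etale p.left := hb.2 a q p sqW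
  obtain ⟨q', rfl⟩ := (AlgSp.yon S).map_surjective q
  haveI : CompactSpace ↥(Over.mk str).left := by
    change CompactSpace ↥(Spec (CommRingCat.of A))
    infer_instance
  haveI : CompactSpace ↥V.left := by
    haveI := hV
    infer_instance
  haveI : CompactSpace ↥W.left :=
    Groth.Agent.S10185.result X hX V (Over.mk str) W b a q' p sqW
  haveI : IsLocallyArtinian (Over.mk str).left := by
    change IsLocallyArtinian (Spec (CommRingCat.of A))
    infer_instance
  haveI : LocallyQuasiFinite p.left := Groth.Agent.S5067.locallyQuasiFinite_of_unramified p.left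
  haveI : IsLocallyArtinian W.left := IsLocallyArtinian.of_locallyQuasiFinite p.left
  haveI : IsArtinianScheme W.left := ⟨⟩
  refine ⟨W, inferInstance, ⟨?_⟩⟩
  exact IsPullback.isoIsPullback _ _ sqW.flip sq

end Groth.Agent.S9945
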