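import Groth.Statements.S9946
import Groth.Agent.Lib.Helper5.AlgSpQAffDesc2
import Groth.Agent.Lib.Helper5.AlgSpEtFpqc
import Groth.Agent.Lib.Helper1.ZarRep

set_option autoImplicit false
universe u
open CategoryTheory CategoryTheory.Limits AlgebraicGeometry
open AlgSp

namespace Groth.Agent.S9946

/-- (3) ⇒ (1): if the base change of f along a surjective etale map from a scheme is quasi-affine, then
f is representable by schemes and quasi-affine. -/
theorem result {S : Scheme.{u}} {X Y : AlgSp.Space S} (f : X ⟶ Y)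
    (V : Over S) (p : (AlgSp.yon S).obj V ⟶ Y.obj) (hp : AlgSp.RepWith @Etale p) (hps : AlgSp.RepWith @Surjective p)
    {P : AlgSp.Sp S} (fst : P ⟶ X.obj) (snd : P ⟶ (AlgSp.yon S).obj V) (sq : IsPullback fst snd f.hom p)
    (h : AlgSp.IsQuasiAffineMor snd) : AlgSp.Representable f.hom ∧ AlgSp.IsQuasiAffineMor f.hom := by
  have hcov := Groth.Agent.Lib.helper5.EtFpqc.isFpqcCover_of_chart Y.property V p hp hps
  have hP : IsAlgSpace P := Groth.Agent.Lib.helper5.isAlgSpace_of_isPullback Y.property.diag X.property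
    (IsAlgSpace.yon_obj V) sq
  have hq : AlgSp.IsQuasiAffineMor f.hom :=
    (Groth.Agent.Lib.helper5.QAffDesc.isLocalOnBase_fpqc_isQuasiAffineMor (ι := PUnit.{u + 1})
      (fun _ => (AlgSp.yon S).obj V) (fun _ => p)
      Y.property (fun _ => IsAlgSpace.yon_obj V) hcov f.hom X.property (fun _ => P) (fun _ => snd)
      (fun _ => fst) (fun _ => hP) (fun _ => sq)).2 (fun _ => h)
  refine ⟨(Groth.Agent.H1.ZarRep.repWith_of_affine f.hom @QuasiCompact (fun Z hZ g => ?_)).1, hq⟩
  obtain ⟨W, i, fst', sq', hW⟩ := hq hZ g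
  have : IsAffine Z.left := hZ
  exact ⟨W, i, fst', sq', (inferInstance : QuasiCompact i.left)⟩

end Groth.Agent.S9946
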