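import Groth.Statements.S9949
import Mathlib.AlgebraicGeometry.Morphisms.LocalFlatDescent

set_option autoImplicit false
universe u
open CategoryTheory CategoryTheory.Limits AlgebraicGeometry
open AlgSp

namespace Groth.Agent.S9949

variable {S : Scheme.{u}}

/-- Target descent of `LocP P` along one etale surjective chart of the target, for `P` descending
along fppf covers. -/
theorem locP_of_target_cover (P : MorphismProperty Scheme.{u})
    [MorphismProperty.DescendsAlong P (@Surjective ⊓ @Flat ⊓ @LocallyOfFinitePresentation)]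
    {X Y : Sp S} (f : X ⟶ Y) (V : Over S)
    (p : (yon S).obj V ⟶ Y) (hp : RepWith @Etale p) (hps : RepWith @Surjective p)
    {Q : Sp S} (fst : Q ⟶ X) (snd : Q ⟶ (yon S).obj V) (sq : IsPullback fst snd f p)
    (h : LocP P snd) : LocP P f := by
  intro A B a b k ha hb hsq
  obtain ⟨B', r, t', sqB⟩ := hp.1 b
  have hr_et : Etale r.left := hp.2 _ _ _ sqB
  have hr_surj : Surjective r.left := hps.2 _ _ _ sqB
  obtain ⟨t, rfl⟩ := (yon S).map_surjective t'
  have ht_et : Etale t.left := hb.2 _ _ _ sqB.flip
  have sqA0 := IsPullback.of_hasPullback k r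
  have sqA := sqA0.map (yon S)
  have big := sqA.flip.paste_horiz sqB
  have hl : ((yon S).map (pullback.fst k r) ≫ a) ≫ f =
      (yon S).map (pullback.snd k r ≫ t) ≫ p := by
    rw [Category.assoc, hsq, ← Category.assoc, sqA.w, Functor.map_comp, Category.assoc,
      Category.assoc, sqB.w]
  have hsq2 : IsPullback (sq.lift _ _ hl) ((yon S).map (pullback.fst k r)) fst a := by
    refine IsPullback.of_right ?_ (sq.lift_fst _ _ _) sq.flip
    rw [sq.lift_snd, hsq, Functor.map_comp]
    exact big
  have ha'' : RepWith @Etale (sq.lift _ _ hl) :=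
    (RepWith (S := S) @Etale).of_isPullback hsq2.flip ha
  have hk' : P (pullback.snd k r).left := by
    refine h (sq.lift _ _ hl) ((yon S).map t) (pullback.snd k r) ha''
      ((repWith_yon_map_iff @Etale t).2 ht_et) ?_
    rw [sq.lift_snd, Functor.map_comp]
  have sqS := sqA0.map (Over.forget S)
  have hflat : Flat r.left := inferInstance
  have hlfp : LocallyOfFinitePresentation r.left := inferInstance
  exact MorphismProperty.of_isPullback_of_descendsAlong (P := P)
    (Q := @Surjective ⊓ @Flat ⊓ @LocallyOfFinitePresentation) sqS.flip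
    ⟨⟨hr_surj, hflat⟩, hlfp⟩ hk'

/-- (5) ⇒ (1): being locally of finite type descends along a surjective etale base change from a scheme. -/
theorem result {S : Scheme.{u}} {X Y : AlgSp.Space S} (f : X ⟶ Y) (V : Over S)
    (p : (AlgSp.yon S).obj V ⟶ Y.obj) (hp : AlgSp.RepWith @Etale p) (hps : AlgSp.RepWith @Surjective p)
    {P : AlgSp.Sp S} (fst : P ⟶ X.obj) (snd : P ⟶ (AlgSp.yon S).obj V) (sq : IsPullback fst snd f.hom p)
    (h : AlgSp.LocP @LocallyOfFiniteType snd) : AlgSp.LocP @LocallyOfFiniteType f.hom := by
  exact locP_of_target_cover @LocallyOfFiniteType f.hom V p hp hps fst snd sq h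

end Groth.Agent.S9949
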