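import Groth.Statements.S9950
import Groth.Agent.S1179

set_option autoImplicit false
universe u
open CategoryTheory CategoryTheory.Limits AlgebraicGeometry
open AlgSp

namespace Groth.Agent.S9950

theorem main {S : Scheme.{u}} {X Y : AlgSp.Space S} (f : X ⟶ Y) (U : Over S)
    (φ : (AlgSp.yon S).obj U ⟶ X.obj) (hφ : AlgSp.RepWith @Etale φ) (hφs : AlgSp.RepWith @Surjective φ)
    (h : AlgSp.LocP @LocallyOfFiniteType (φ ≫ f.hom)) : AlgSp.LocP @LocallyOfFiniteType f.hom := by
  intro A V a b k ha hb hsq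
  obtain ⟨W, r, β', sq⟩ := hφ.1 a
  have hr : Etale r.left := hφ.2 _ _ _ sq
  have hrs : Surjective r.left := hφs.2 _ _ _ sq
  obtain ⟨β, rfl⟩ := (yon S).map_surjective β'
  have hβ : Etale β.left := ha.2 _ _ _ sq.flip
  have hcomp : LocallyOfFiniteType (r ≫ k).left := by
    refine h ((yon S).map β) b (r ≫ k) ((repWith_yon_map_iff @Etale β).2 hβ) hb ?_
    rw [Functor.map_comp, Category.assoc, ← hsq, ← Category.assoc, ← Category.assoc, sq.w]
  rw [Over.comp_left] at hcomp
  exact Groth.Agent.S1179.locallyOfFiniteType_of_etale_comp r.left k.left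

/-- (6) ⇒ (1): if f ∘ φ is locally of finite type for one surjective etale chart φ of the source, then f
is locally of finite type. -/
theorem result {S : Scheme.{u}} {X Y : AlgSp.Space S} (f : X ⟶ Y) (U : Over S)
    (φ : (AlgSp.yon S).obj U ⟶ X.obj) (hφ : AlgSp.RepWith @Etale φ) (hφs : AlgSp.RepWith @Surjective φ)
    (h : AlgSp.LocP @LocallyOfFiniteType (φ ≫ f.hom)) : AlgSp.LocP @LocallyOfFiniteType f.hom := by
  exact main f U φ hφ hφs h

end Groth.Agent.S9950
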