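import Groth.Statements.S9954
import Groth.Agent.S10289
import Groth.Agent.Lib.Helper5.AlgSpLocPBC
import Groth.Agent.Lib.Helper5.AlgSpLocPInst
import Mathlib.AlgebraicGeometry.AlgClosed.Basic
import Mathlib.FieldTheory.IsAlgClosed.AlgebraicClosure

set_option autoImplicit false
universe u
open CategoryTheory CategoryTheory.Limits AlgebraicGeometry
open AlgSp

namespace Groth.Agent.S9954

open Groth.Agent.Lib.helper11 Groth.Agent.Lib.helper10 IsLocalRing
open Groth.Agent.S10289

variable {S : Scheme.{u}}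

set_option backward.isDefEq.respectTransparency.types false in
set_option maxHeartbeats 800000 in
theorem forward {X Y : AlgSp.Space S} (f : X ⟶ Y)
    (hf : AlgSp.LocP @LocallyOfFiniteType f.hom) (hs : AlgSp.IsSurjectiveMor f.hom)
    (k : Type u) [Field k] [IsAlgClosed k] (str : Spec (CommRingCat.of k) ⟶ S)
    (y : (AlgSp.yon S).obj (Over.mk str) ⟶ Y.obj) :
    ∃ x : (AlgSp.yon S).obj (Over.mk str) ⟶ X.obj, x ≫ f.hom = y := by
  have sqP : IsPullback (pullback.fst f.hom y) (pullback.snd f.hom y) f.hom y :=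
    IsPullback.of_hasPullback _ _
  generalize pullback.fst f.hom y = fst at sqP
  generalize pullback.snd f.hom y = snd at sqP
  generalize pullback f.hom y = P at fst snd sqP
  let Z : Over S := Over.mk str
  have hP : IsAlgSpace P :=
    Groth.Agent.Lib.helper5.isAlgSpace_of_isPullback Y.property.diag X.property (IsAlgSpace.yon_obj Z) sqP
  have hlft : LocP @LocallyOfFiniteType snd :=
    Groth.Agent.Lib.helper5.LocPBC.locP_of_isPullback Groth.Agent.Lib.helper5.LocPBC.locPData_lft X.property Y.property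
      (IsAlgSpace.yon_obj Z) sqP hf
  obtain ⟨x₀, hx₀⟩ := hs (Points.map y (Points.schemeHomeo Z (closedPoint k)))
  obtain ⟨x', hx'1, hx'2⟩ := exists_point_of_isPullback sqP x₀ (Points.schemeHomeo Z (closedPoint k)) hx₀
  obtain ⟨U, a, u', hU, ha, hau'⟩ := exists_affine_chart hP x'
  obtain ⟨h, hh⟩ := (yon S).map_surjective (a ≫ snd)
  have hhlft : LocallyOfFiniteType h.left :=
    hlft a (𝟙 _) h ha (repWith_id @Etale Z) (by rw [Category.comp_id, hh])
  have hJ0 : JacobsonSpace ↥(Spec (CommRingCat.of k)) := inferInstance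
  have hJ : JacobsonSpace ↥U.left := @LocallyOfFiniteType.jacobsonSpace _ _ h.left hhlft hJ0
  obtain ⟨c, -, hc⟩ := nonempty_inter_closedPoints (X := ↥U.left) (Z := Set.univ) ⟨u', trivial⟩
    isOpen_univ.isLocallyClosed
  have hc' : IsClosed {c} := hc
  let σ : Spec (CommRingCat.of k) ⟶ U.left := pointOfClosedPoint (K := k) h.left c hc'
  have hσ : σ ≫ h.left = 𝟙 _ := pointOfClosedPoint_comp (K := k) h.left c hc'
  have hw : σ ≫ U.hom = Z.hom := by
    rw [← Over.w h, ← Category.assoc, hσ, Category.id_comp]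
  let σ' : Z ⟶ U := Over.homMk σ hw
  have hσ' : σ' ≫ h = 𝟙 Z := by
    ext1
    exact hσ
  refine ⟨(yon S).map σ' ≫ a ≫ fst, ?_⟩
  rw [Category.assoc, Category.assoc, sqP.w, ← Category.assoc a, ← hh, ← Category.assoc,
    ← Functor.map_comp, hσ', CategoryTheory.Functor.map_id, Category.id_comp]

theorem backward {X Y : AlgSp.Space S} (f : X ⟶ Y)
    (H : ∀ (k : Type u) [Field k] [IsAlgClosed k] (str : Spec (CommRingCat.of k) ⟶ S)
        (y : (AlgSp.yon S).obj (Over.mk str) ⟶ Y.obj),
        ∃ x : (AlgSp.yon S).obj (Over.mk str) ⟶ X.obj, x ≫ f.hom = y) :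
    AlgSp.IsSurjectiveMor f.hom := by
  intro y₀
  induction y₀ using AlgSp.Points.ind with
  | h p =>
  let k := AlgebraicClosure p.K
  let φ : p.K →+* k := algebraMap p.K k
  let strk : Spec (CommRingCat.of k) ⟶ S := Spec.map (CommRingCat.ofHom φ) ≫ p.str
  let a : Over.mk strk ⟶ p.pt := Over.homMk (Spec.map (CommRingCat.ofHom φ)) rfl
  obtain ⟨x, hx⟩ := H k strk ((yon S).map a ≫ p.toHom)
  refine ⟨Points.mk (fieldPtOfHom strk x), ?_⟩
  rw [Points.map_mk, fieldPtOfHom_map, hx]
  exact mk_fieldPtOfHom_comp p strk a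

theorem main {X Y : AlgSp.Space S} (f : X ⟶ Y)
    (hf : AlgSp.LocP @LocallyOfFiniteType f.hom) :
    AlgSp.IsSurjectiveMor f.hom ↔
      ∀ (k : Type u) [Field k] [IsAlgClosed k] (str : Spec (CommRingCat.of k) ⟶ S)
        (y : (AlgSp.yon S).obj (Over.mk str) ⟶ Y.obj),
        ∃ x : (AlgSp.yon S).obj (Over.mk str) ⟶ X.obj, x ≫ f.hom = y :=
  ⟨fun hs k _ _ str y => forward f hf hs k str y, backward f⟩

/-- A morphism locally of finite type is surjective if and only if it is surjective on k-valued points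
for every algebraically closed field k over the base. -/
theorem result {S : Scheme.{u}} {X Y : AlgSp.Space S} (f : X ⟶ Y)
    (hf : AlgSp.LocP @LocallyOfFiniteType f.hom) :
    AlgSp.IsSurjectiveMor f.hom ↔
      ∀ (k : Type u) [Field k] [IsAlgClosed k] (str : Spec (CommRingCat.of k) ⟶ S)
        (y : (AlgSp.yon S).obj (Over.mk str) ⟶ Y.obj),
        ∃ x : (AlgSp.yon S).obj (Over.mk str) ⟶ X.obj, x ≫ f.hom = y := by
  exact main f hf

end Groth.Agent.S9954
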