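import Groth.Statements.S9955
import Groth.Agent.S10289
import Groth.Agent.Lib.Helper5.AlgSpLocPBC
import Groth.Agent.Lib.Helper5.AlgSpLocPInst
import Groth.Agent.Lib.Helper1.SevenProps
import Mathlib.AlgebraicGeometry.Noetherian
import Mathlib.Topology.Sober

set_option autoImplicit false
universe u
open CategoryTheory CategoryTheory.Limits AlgebraicGeometry
open AlgSp

namespace Groth.Agent.S9955

open Groth.Agent.Lib.helper11 Groth.Agent.Lib.helper10 IsLocalRing TopologicalSpace

theorem finite_of_noetherian_t1_quasiSober (α : Type*) [TopologicalSpace α] [NoetherianSpace α]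
    [T1Space α] [QuasiSober α] : Finite α := by
  have hfin : (irreducibleComponents α).Finite := NoetherianSpace.finite_irreducibleComponents
  have hsub : ∀ Z ∈ irreducibleComponents α, Z.Subsingleton := by
    intro Z hZ
    have hirr : IsIrreducible Z := hZ.1
    have hcl : IsClosed Z := isClosed_of_mem_irreducibleComponents Z hZ
    obtain ⟨η, hη⟩ := QuasiSober.sober hirr hcl
    have : Z = {η} := by
      rw [← hη.def, closure_singleton]
    rw [this]
    exact Set.subsingleton_singleton
  have hcov : (Set.univ : Set α) = ⋃₀ irreducibleComponents α := by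
    rw [sUnion_irreducibleComponents]
  have : (Set.univ : Set α).Finite := by
    rw [hcov]
    exact hfin.sUnion fun Z hZ => (hsub Z hZ).finite
  exact Set.finite_univ_iff.mp this

theorem discrete_of_t1_locNoeth (W : Scheme.{u}) [IsLocallyNoetherian W] [T1Space W] :
    DiscreteTopology W := by
  rw [discreteTopology_iff_isOpen_singleton]
  intro w
  obtain ⟨U, hU, hwU, -⟩ := exists_isAffineOpen_mem_and_subset (X := W) (x := w) (U := ⊤) trivial
  have hN : IsNoetherianRing Γ(W, U) := IsLocallyNoetherian.component_noetherian ⟨U, hU⟩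
  have : NoetherianSpace U := noetherianSpace_of_isAffineOpen U hU
  have : T1Space U := U.ι.isEmbedding.t1Space
  have hfin : Finite U := finite_of_noetherian_t1_quasiSober U
  have : DiscreteTopology U := inferInstance
  have h1 : IsOpen ({⟨w, hwU⟩} : Set U) := isOpen_discrete _
  have h2 := U.ι.isOpenEmbedding.isOpenMap _ h1
  rw [Set.image_singleton] at h2
  exact h2

theorem isClosed_of_orbit {W R : Scheme.{u}} (s t : R ⟶ W) [LocallyQuasiFinite s]
    [LocallyOfFiniteType t] [JacobsonSpace W] (O : Set W) (hO : IsOpen O)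
    (horb : ∀ w₁ ∈ O, ∀ w₂ ∈ O, ∃ r : R, s r = w₁ ∧ t r = w₂) (w : W) (hw : w ∈ O) :
    IsClosed ({w} : Set W) := by
  obtain ⟨w₀, hw₀O, hw₀c⟩ := nonempty_inter_closedPoints (X := W) ⟨w, hw⟩ hO.isLocallyClosed
  obtain ⟨r, hr1, hr2⟩ := horb w₀ hw₀O w hw
  have hw₀c' : IsClosed ({w₀} : Set W) := hw₀c
  have hfib : IsClosed (s ⁻¹' {w₀}) := IsClosed.preimage s.continuous hw₀c'
  have hdisc := (s.isDiscrete_preimage_singleton w₀).to_subtype
  have hrm : r ∈ s ⁻¹' {w₀} := hr1
  have hcl : IsClosed ({⟨r, hrm⟩} : Set (s ⁻¹' {w₀})) := isClosed_discrete _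
  obtain ⟨C, hC, hCeq⟩ := isClosed_induced_iff.mp hcl
  have heq : ({r} : Set R) = C ∩ s ⁻¹' {w₀} := by
    ext z
    constructor
    · rintro rfl
      refine ⟨?_, hrm⟩
      have : (⟨z, hrm⟩ : s ⁻¹' {w₀}) ∈ Subtype.val ⁻¹' C := by rw [hCeq]; rfl
      exact this
    · rintro ⟨hzC, hzm⟩
      have : (⟨z, hzm⟩ : s ⁻¹' {w₀}) ∈ Subtype.val ⁻¹' C := hzC
      rw [hCeq] at this
      exact congrArg Subtype.val this
  have hr : IsClosed ({r} : Set R) := heq ▸ hC.inter hfib
  have := t.closePoints_subset_preimage_closedPoints hr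
  rw [← hr2]
  exact this

variable {S : Scheme.{u}}

theorem discrete_chart (k : Type u) [Field k] (str : Spec (CommRingCat.of k) ⟶ S) {P : Sp S}
    (snd : P ⟶ (yon S).obj (Over.mk str)) (hlft : LocP @LocallyOfFiniteType snd)
    [DiscreteTopology (Points P)] {W : Over S} (a : (yon S).obj W ⟶ P) (ha : RepWith @Etale a) :
    DiscreteTopology W.left := by
  let Z : Over S := Over.mk str
  obtain ⟨g, hg⟩ := (yon S).map_surjective (a ≫ snd)
  have hglft : LocallyOfFiniteType g.left :=
    hlft a (𝟙 _) g ha (repWith_id @Etale Z) (by rw [Category.comp_id, hg])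
  have hN0 : IsLocallyNoetherian (Spec (CommRingCat.of k)) := inferInstance
  have hN : IsLocallyNoetherian W.left :=
    @LocallyOfFiniteType.isLocallyNoetherian _ _ g.left hglft hN0
  have hJ0 : JacobsonSpace ↥(Spec (CommRingCat.of k)) := inferInstance
  have hJ : JacobsonSpace ↥W.left := @LocallyOfFiniteType.jacobsonSpace _ _ g.left hglft hJ0
  obtain ⟨R, s, t', hR⟩ := ha.1 a
  obtain ⟨t, rfl⟩ := (yon S).map_surjective t'
  have hs : Etale s.left := ha.2 _ _ _ hR
  have ht : Etale t.left := ha.2 _ _ _ hR.flip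
  have hsq : LocallyQuasiFinite s.left := Groth.Agent.S10265.lqf_of_etale s.left
  have hT1 : T1Space W.left := by
    refine ⟨fun w => ?_⟩
    refine isClosed_of_orbit s.left t.left (Points.ofPt a ⁻¹' {Points.ofPt a w})
      ((isOpen_discrete _).preimage (Points.continuous_ofPt a)) ?_ w rfl
    intro w₁ hw₁ w₂ hw₂
    have h12 : Points.ofPt a w₂ = Points.ofPt a w₁ := by
      rw [Set.mem_preimage, Set.mem_singleton_iff] at hw₁ hw₂
      rw [hw₁, hw₂]
    obtain ⟨r, hr1, hr2⟩ := exists_of_isPullback_schemes hR w₂ w₁ h12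
    exact ⟨r, hr2, hr1⟩
  exact discrete_of_t1_locNoeth W.left

set_option backward.isDefEq.respectTransparency.types false in
set_option maxHeartbeats 800000 in
theorem forward {X Y : AlgSp.Space S} (f : X ⟶ Y)
    (h : AlgSp.LocP ((@LocallyQuasiFinite : MorphismProperty Scheme.{u}) ⊓ @LocallyOfFiniteType) f.hom)
    (k : Type u) [Field k] (str : Spec (CommRingCat.of k) ⟶ S) (y : (AlgSp.yon S).obj (Over.mk str) ⟶ Y.obj)
    (P : AlgSp.Sp S) (fst : P ⟶ X.obj) (snd : P ⟶ (AlgSp.yon S).obj (Over.mk str))
    (sq : IsPullback fst snd f.hom y) : DiscreteTopology (AlgSp.Points P) := by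
  let Z : Over S := Over.mk str
  have hP : IsAlgSpace P :=
    Groth.Agent.Lib.helper5.isAlgSpace_of_isPullback Y.property.diag X.property (IsAlgSpace.yon_obj Z) sq
  have hq : LocP ((@LocallyQuasiFinite : MorphismProperty Scheme.{u}) ⊓ @LocallyOfFiniteType) snd :=
    Groth.Agent.Lib.helper5.LocPBC.locP_of_isPullback Groth.Agent.Lib.helper5.LocPBC.locPData_lqf
      X.property Y.property (IsAlgSpace.yon_obj Z) sq h
  obtain ⟨U, a, hae, has⟩ := hP.atlas
  obtain ⟨g, hg⟩ := (yon S).map_surjective (a ≫ snd)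
  have hgq : ((@LocallyQuasiFinite : MorphismProperty Scheme.{u}) ⊓ @LocallyOfFiniteType) g.left :=
    hq a (𝟙 _) g hae (repWith_id @Etale Z) (by rw [Category.comp_id, hg])
  have hgqf : LocallyQuasiFinite g.left := hgq.1
  have hd : DiscreteTopology U.left := by
    have h1 := g.left.isDiscrete_preimage_singleton (closedPoint k)
    have hsub : Subsingleton ↥(Spec (CommRingCat.of k)) := inferInstance
    have huniv : Set.univ = g.left ⁻¹' {closedPoint k} := by
      ext x
      simp only [Set.mem_preimage, Set.mem_univ, true_iff]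
      exact hsub.elim _ _
    have h2 : _root_.IsDiscrete (Set.univ : Set U.left) := by
      convert h1 using 1
      exact huniv
    exact isDiscrete_univ_iff.mp h2
  rw [discreteTopology_iff_isOpen_singleton]
  intro x
  have h1 : IsOpen (Points.ofPt a '' (Points.ofPt a ⁻¹' {x})) :=
    isOpenMap_ofPt a hae _ (isOpen_discrete _)
  rwa [Set.image_preimage_eq _ (surjective_ofPt a has)] at h1

set_option backward.isDefEq.respectTransparency.types false in
set_option maxHeartbeats 1600000 in
theorem backward {X Y : AlgSp.Space S} (f : X ⟶ Y)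
    (hf : AlgSp.LocP @LocallyOfFiniteType f.hom)
    (H : ∀ (k : Type u) [Field k] (str : Spec (CommRingCat.of k) ⟶ S) (y : (AlgSp.yon S).obj (Over.mk str) ⟶ Y.obj)
        (P : AlgSp.Sp S) (fst : P ⟶ X.obj) (snd : P ⟶ (AlgSp.yon S).obj (Over.mk str)),
        IsPullback fst snd f.hom y → DiscreteTopology (AlgSp.Points P)) :
    AlgSp.LocP ((@LocallyQuasiFinite : MorphismProperty Scheme.{u}) ⊓ @LocallyOfFiniteType) f.hom := by
  obtain ⟨V, b, hbe, hbs⟩ := Y.property.atlas
  have sqXV : IsPullback (pullback.fst f.hom b) (pullback.snd f.hom b) f.hom b :=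
    IsPullback.of_hasPullback _ _
  generalize pullback.fst f.hom b = fstV at sqXV
  generalize pullback.snd f.hom b = sndV at sqXV
  generalize pullback f.hom b = XV at fstV sndV sqXV
  have hXV : IsAlgSpace XV :=
    Groth.Agent.Lib.helper5.isAlgSpace_of_isPullback Y.property.diag X.property (IsAlgSpace.yon_obj V) sqXV
  obtain ⟨U, a₀, ha₀e, ha₀s⟩ := hXV.atlas
  obtain ⟨h, hh⟩ := (yon S).map_surjective (a₀ ≫ sndV)
  have hfstV : RepWith @Etale fstV := (RepWith (S := S) @Etale).of_isPullback sqXV.flip hbe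
  have hfstVs : RepWith @Surjective fstV := (RepWith (S := S) @Surjective).of_isPullback sqXV.flip hbs
  have ha : RepWith @Etale (a₀ ≫ fstV) := (repWith_isMultiplicative (S := S) @Etale).comp_mem _ _ ha₀e hfstV
  have has : RepWith @Surjective (a₀ ≫ fstV) :=
    (repWith_isMultiplicative (S := S) @Surjective).comp_mem _ _ ha₀s hfstVs
  have comm : (a₀ ≫ fstV) ≫ f.hom = (yon S).map h ≫ b := by
    rw [Category.assoc, sqXV.w, ← Category.assoc, hh]
  have hhlft : LocallyOfFiniteType h.left := hf _ b h ha hbe comm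
  refine Groth.Agent.H1.Seven.locP_of_one_chart Groth.Agent.Lib.helper5.LocPBC.locPData_lqf f.hom
    (a₀ ≫ fstV) b h ha has hbe comm ⟨?_, hhlft⟩
  rw [locallyQuasiFinite_iff_isDiscrete_preimage_singleton]
  intro v
  let k : Type u := V.left.residueField v
  let str : Spec (CommRingCat.of k) ⟶ S := V.left.fromSpecResidueField v ≫ V.hom
  let ι : Over.mk str ⟶ V := Over.homMk (V.left.fromSpecResidueField v) rfl
  have sqP : IsPullback (pullback.fst f.hom ((yon S).map ι ≫ b)) (pullback.snd f.hom ((yon S).map ι ≫ b))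
      f.hom ((yon S).map ι ≫ b) := IsPullback.of_hasPullback _ _
  generalize pullback.fst f.hom ((yon S).map ι ≫ b) = fstv at sqP
  generalize pullback.snd f.hom ((yon S).map ι ≫ b) = sndv at sqP
  generalize pullback f.hom ((yon S).map ι ≫ b) = Pv at fstv sndv sqP
  have hdisc : DiscreteTopology (Points Pv) := H k str _ Pv fstv sndv sqP
  have hsndlft : LocP @LocallyOfFiniteType sndv :=
    Groth.Agent.Lib.helper5.LocPBC.locP_of_isPullback Groth.Agent.Lib.helper5.LocPBC.locPData_lft
      X.property Y.property (IsAlgSpace.yon_obj _) sqP hf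
  obtain ⟨m, hm1, hm2⟩ := sqXV.exists_lift fstv (sndv ≫ (yon S).map ι) (by rw [sqP.w, Category.assoc])
  have sqL : IsPullback m sndv sndV ((yon S).map ι) :=
    IsPullback.of_right (by rw [hm1]; exact sqP) hm2 sqXV
  let Uv : Over S := Over.mk (pullback.fst h.left (V.left.fromSpecResidueField v) ≫ U.hom)
  let pr₁ : Uv ⟶ U := Over.homMk (pullback.fst h.left (V.left.fromSpecResidueField v)) rfl
  let pr₂ : Uv ⟶ Over.mk str := Over.homMk (pullback.snd h.left (V.left.fromSpecResidueField v)) (by
    show pullback.snd h.left (V.left.fromSpecResidueField v) ≫ V.left.fromSpecResidueField v ≫ V.hom =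
      pullback.fst h.left (V.left.fromSpecResidueField v) ≫ U.hom
    rw [← Category.assoc, ← pullback.condition, Category.assoc, Over.w h])
  have sq0 : IsPullback pr₁ pr₂ h ι := by
    apply IsPullback.of_map (Over.forget S)
    · apply (Over.forget S).map_injective
      simp only [Functor.map_comp]
      exact pullback.condition
    · exact IsPullback.of_hasPullback h.left (V.left.fromSpecResidueField v)
  have sq1 := sq0.map (yon S)
  obtain ⟨av, hav1, hav2⟩ := sqL.exists_lift ((yon S).map pr₁ ≫ a₀) ((yon S).map pr₂)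
    (by rw [Category.assoc, ← hh, sq1.w])
  have sqT : IsPullback ((yon S).map pr₁) av a₀ m :=
    IsPullback.of_bot (by rw [hav2, ← hh]; exact sq1) hav1.symm sqL
  have have_ : RepWith @Etale av := (RepWith (S := S) @Etale).of_isPullback sqT ha₀e
  have hUvd : DiscreteTopology Uv.left := discrete_chart k str sndv hsndlft av have_
  have h3 := (isDiscrete_univ_iff.mpr hUvd).image (h.left.fiberι v).isEmbedding.toIsInducing
  rw [Set.image_univ] at h3
  have h4 := Scheme.Hom.range_fiberι h.left v
  rw [← h4]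
  exact h3

theorem main {X Y : AlgSp.Space S} (f : X ⟶ Y)
    (hf : AlgSp.LocP @LocallyOfFiniteType f.hom) :
    AlgSp.LocP ((@LocallyQuasiFinite : MorphismProperty Scheme.{u}) ⊓ @LocallyOfFiniteType) f.hom ↔
      ∀ (k : Type u) [Field k] (str : Spec (CommRingCat.of k) ⟶ S) (y : (AlgSp.yon S).obj (Over.mk str) ⟶ Y.obj)
        (P : AlgSp.Sp S) (fst : P ⟶ X.obj) (snd : P ⟶ (AlgSp.yon S).obj (Over.mk str)),
        IsPullback fst snd f.hom y → DiscreteTopology (AlgSp.Points P) :=
  ⟨fun h k _ str y P fst snd sq => forward f h k str y P fst snd sq, backward f hf⟩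

/-- A morphism locally of finite type is locally quasi-finite if and only if all its fibres over
field-valued points have discrete spaces of points. -/
theorem result {S : Scheme.{u}} {X Y : AlgSp.Space S} (f : X ⟶ Y)
    (hf : AlgSp.LocP @LocallyOfFiniteType f.hom) :
    AlgSp.LocP ((@LocallyQuasiFinite : MorphismProperty Scheme.{u}) ⊓ @LocallyOfFiniteType) f.hom ↔
      ∀ (k : Type u) [Field k] (str : Spec (CommRingCat.of k) ⟶ S) (y : (AlgSp.yon S).obj (Over.mk str) ⟶ Y.obj)
        (P : AlgSp.Sp S) (fst : P ⟶ X.obj) (snd : P ⟶ (AlgSp.yon S).obj (Over.mk str)),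
        IsPullback fst snd f.hom y → DiscreteTopology (AlgSp.Points P) := by
  exact main f hf

end Groth.Agent.S9955
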