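import Groth.Statements.S9956
import Groth.Agent.Lib.Helper1.LocPStable
import Groth.Agent.S1179
import Groth.Agent.S10265

set_option autoImplicit false
universe u
open CategoryTheory CategoryTheory.Limits AlgebraicGeometry
open AlgSp

namespace Groth.Agent.S9956

theorem main {S : Scheme.{u}} {X Y Z : AlgSp.Space S} (f : X ⟶ Y) (g : Y ⟶ Z)
    (h : AlgSp.LocP ((@LocallyQuasiFinite : MorphismProperty Scheme.{u}) ⊓ @LocallyOfFiniteType) (f ≫ g).hom) :
    AlgSp.LocP ((@LocallyQuasiFinite : MorphismProperty Scheme.{u}) ⊓ @LocallyOfFiniteType) f.hom := by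
  refine Groth.Agent.H1.LocPStable.locP_of_comp ?_ ?_ ?_ Z.property f.hom g.hom h
  · intro X' X Y f g hf hs h
    have h1 : LocallyQuasiFinite (f ≫ g) := h.1
    have h2 : LocallyOfFiniteType (f ≫ g) := h.2
    have := Groth.Agent.S1179.result f g
    exact ⟨this.1, this.2⟩
  · intro X Y Z f g hf hg
    have h1 : LocallyQuasiFinite f := hf.1
    have h2 : LocallyOfFiniteType f := hf.2
    have h3 : LocallyQuasiFinite g := Groth.Agent.S10265.lqf_of_etale g
    exact ⟨inferInstance, inferInstance⟩
  · intro X Y Z f g h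
    have h1 : LocallyQuasiFinite (f ≫ g) := h.1
    have h2 : LocallyOfFiniteType (f ≫ g) := h.2
    exact ⟨LocallyQuasiFinite.of_comp f g, locallyOfFiniteType_of_comp f g⟩

/-- For morphisms X -> Y -> Z of algebraic spaces, local quasi-finiteness of the composite implies that
of the first map (locally quasi-finite includes locally of finite type, etale locally on source and
target). -/
theorem result {S : Scheme.{u}} {X Y Z : AlgSp.Space S} (f : X ⟶ Y) (g : Y ⟶ Z)
    (h : AlgSp.LocP ((@LocallyQuasiFinite : MorphismProperty Scheme.{u}) ⊓ @LocallyOfFiniteType) (f ≫ g).hom) :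
    AlgSp.LocP ((@LocallyQuasiFinite : MorphismProperty Scheme.{u}) ⊓ @LocallyOfFiniteType) f.hom := by
  exact main f g h

end Groth.Agent.S9956
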