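import Groth.Statements.S9957
import Groth.Agent.S9951
import Groth.Agent.S10265
import Groth.Agent.Lib.Helper1.AlgSpBootstrap

set_option autoImplicit false
universe u
open CategoryTheory CategoryTheory.Limits AlgebraicGeometry
open AlgSp

namespace Groth.Agent.S9957

variable {S : Scheme.{u}}

/-- The source of a quasi-separated morphism to a sheaf quasi-separated over `S` is quasi-separated over `S`. -/
theorem isQuasiSeparatedSp_of_isQuasiSeparatedMor {F G : Sp S} (f : F ⟶ G)
    (hf : IsQuasiSeparatedMor f) (hG : IsQuasiSeparatedSp G) : IsQuasiSeparatedSp F := by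
  have sq := Groth.Agent.H1.AlgSpBootstrap.isPullback_diag_prod_map (IsPullback.of_hasPullback f f)
  have h1 : RepWith @QuasiCompact (prod.lift (pullback.fst f f) (pullback.snd f f)) :=
    (RepWith (S := S) @QuasiCompact).of_isPullback sq hG
  have h2 : Limits.diag F = pullback.diagonal f ≫ prod.lift (pullback.fst f f) (pullback.snd f f) := by
    apply Limits.prod.hom_ext <;> simp
  show RepWith @QuasiCompact (Limits.diag F)
  rw [h2]
  exact (repWith_isMultiplicative (S := S) @QuasiCompact).comp_mem _ _ hf h1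

theorem main {X Y : AlgSp.Space S} (f : X ⟶ Y)
    (hf : AlgSp.IsFinitePresentationMor f.hom)
    (hY : AlgSp.IsQuasiCompactSp Y.obj ∧ AlgSp.IsQuasiSeparatedSp Y.obj ∧ AlgSp.IsLocNoethSp Y.obj) :
    AlgSp.IsQuasiCompactSp X.obj ∧ AlgSp.IsQuasiSeparatedSp X.obj ∧ AlgSp.IsLocNoethSp X.obj := by
  obtain ⟨hlfp, hqc, hqs⟩ := hf
  obtain ⟨hYc, hYs, hYn⟩ := hY
  refine ⟨?_, isQuasiSeparatedSp_of_isQuasiSeparatedMor f.hom hqs hYs, ?_⟩
  · exact hqc Y.property hYc (𝟙 _) (𝟙 _) f.hom (IsPullback.of_id_fst)
  · refine Groth.Agent.S9951.main f ?_ hYn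
    refine Groth.Agent.S10265.locP_mono ?_ hlfp
    intro A B g hg
    have : LocallyOfFinitePresentation g := hg
    exact inferInstanceAs (LocallyOfFiniteType g)

/-- The source of a morphism of finite presentation whose target is Noetherian is itself Noetherian,
Noetherian meaning quasi-compact, quasi-separated over S and locally Noetherian. (The published
statement uses quasi-separatedness in the absolute sense; this row uses quasi-separatedness over S
in hypothesis and conclusion.) -/
theorem result {S : Scheme.{u}} {X Y : AlgSp.Space S} (f : X ⟶ Y)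
    (hf : AlgSp.IsFinitePresentationMor f.hom)
    (hY : AlgSp.IsQuasiCompactSp Y.obj ∧ AlgSp.IsQuasiSeparatedSp Y.obj ∧ AlgSp.IsLocNoethSp Y.obj) :
    AlgSp.IsQuasiCompactSp X.obj ∧ AlgSp.IsQuasiSeparatedSp X.obj ∧ AlgSp.IsLocNoethSp X.obj := by
  exact main f hf hY

end Groth.Agent.S9957
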