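import Groth.Statements.S9958
import Groth.Agent.Lib.Helper1.LocNoeth

set_option autoImplicit false
universe u
open CategoryTheory CategoryTheory.Limits AlgebraicGeometry
open AlgSp

namespace Groth.Agent.S9958

theorem main {S : Scheme.{u}} {X Y : AlgSp.Space S} (f : X ⟶ Y)
    (hY : AlgSp.IsLocNoethSp Y.obj) (hf : AlgSp.LocP @LocallyOfFiniteType f.hom) :
    AlgSp.LocP @LocallyOfFinitePresentation f.hom := by
  intro A B a b h ha hb hsq
  have hB : IsLocallyNoetherian B.left :=
    Groth.Agent.H1.LocNoeth.isLocallyNoetherian_of_chart hY b hb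
  have : LocallyOfFiniteType h.left := hf a b h ha hb hsq
  infer_instance

/-- Over a locally Noetherian algebraic space, locally of finite type implies locally of finite
presentation. -/
theorem result {S : Scheme.{u}} {X Y : AlgSp.Space S} (f : X ⟶ Y)
    (hY : AlgSp.IsLocNoethSp Y.obj) (hf : AlgSp.LocP @LocallyOfFiniteType f.hom) :
    AlgSp.LocP @LocallyOfFinitePresentation f.hom := by
  exact main f hY hf

end Groth.Agent.S9958
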