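import Groth.Statements.S9961
import Groth.Agent.Lib.Helper7.AlgSpCharts

set_option autoImplicit false
universe u
open CategoryTheory CategoryTheory.Limits AlgebraicGeometry
open AlgSp

namespace Groth.Agent.S9961

/-- Open immersions between algebraic spaces are locally finitely presented (etale locally on source and
target). -/
theorem result {S : Scheme.{u}} {X Y : AlgSp.Space S} (f : X ⟶ Y)
    (hf : AlgSp.RepWith @IsOpenImmersion f.hom) : AlgSp.LocP @LocallyOfFinitePresentation f.hom := by
  intro U V a b h ha hb comm
  obtain ⟨φ, hφ, -, hlfp⟩ :=
    Groth.Agent.Lib.helper7.exists_factor_of_charts hf.rep a b h ha hb comm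
  have hj : IsOpenImmersion (hf.rep.snd b).left := hf.property_snd b
  have : h.left = φ.left ≫ (hf.rep.snd b).left := by rw [← Over.comp_left, hφ]
  rw [this]
  infer_instance

end Groth.Agent.S9961
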