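import Groth.Statements.S9963
import Groth.Agent.Lib.Helper1.LocPFlatBC
import Groth.Agent.Lib.Helper5.AlgSpAffine
import Groth.Agent.Lib.Helper5.AlgSpUniv3
import Groth.Agent.Lib.Helper7.AlgSpQC

set_option autoImplicit false
universe u
open CategoryTheory CategoryTheory.Limits AlgebraicGeometry
open AlgSp

namespace Groth.Agent.S9963

open Groth.Agent.Lib.helper5 Groth.Agent.Lib.helper11 Topology

/-- Quotient maps descend along chart families. -/
theorem isQuotientMap_of_chartFam {ι : Type*} {A C : ι → Type*} {B D : Type*}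
    [∀ i, TopologicalSpace (A i)] [∀ i, TopologicalSpace (C i)] [TopologicalSpace B]
    [TopologicalSpace D] {a : ∀ i, A i → B} {s : ∀ i, A i → C i} {t : B → D} {b : ∀ i, C i → D}
    (h : ChartFam a s t b) (hs : ∀ i, IsQuotientMap (s i)) : IsQuotientMap t := by
  rw [isQuotientMap_iff]
  refine ⟨.of_isOpen_preimage_iff_isOpen fun W => ⟨fun hW => ?_, fun hW => hW.preimage h.t_cont⟩,
    fun d => ?_⟩
  · refine h.isOpen_of_preimage fun i => ?_
    rw [← (hs i).isOpen_preimage]
    have : s i ⁻¹' (b i ⁻¹' W) = a i ⁻¹' (t ⁻¹' W) := by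
      ext x
      simp only [Set.mem_preimage, h.comm]
    rw [this]
    exact hW.preimage (h.a_cont i)
  · obtain ⟨i, c, rfl⟩ := h.b_surj d
    obtain ⟨x, rfl⟩ := (hs i).surjective c
    exact ⟨a i x, h.comm i x⟩

variable {S : Scheme.{u}}

/-- The affine case: the base change of a flat, quasi-compact, surjective morphism of algebraic spaces
to an affine scheme is a quotient map on points. -/
theorem affine_case {X Y : Sp S} (hX : IsAlgSpace X) (hY : IsAlgSpace Y) (f : X ⟶ Y)
    (hfl : LocP @Flat f) (hqc : IsQuasiCompactMor f) (hs : IsSurjectiveMor f)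
    (Z : Over S) (hZ : IsAffine Z.left) (g : (yon S).obj Z ⟶ Y) (P : Sp S)
    (fst : P ⟶ X) (snd : P ⟶ (yon S).obj Z) (sq : IsPullback fst snd f g) :
    IsQuotientMap (Points.map snd) := by
  have hsfl : LocP @Flat snd :=
    Groth.Agent.H1.LocPFlatBC.locP_flat_of_isPullback hX hY (IsAlgSpace.yon_obj Z) sq hfl
  have hPc : IsQuasiCompactSp P :=
    hqc (IsAlgSpace.yon_obj Z) (Groth.Agent.Lib.helper7.AlgSpQC.isQuasiCompactSp_yon Z) g fst snd sq
  obtain ⟨U, c, hce, hcs, hU⟩ := hPc
  have hU' : CompactSpace ↥U.left := hU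
  obtain ⟨h, hh⟩ := (yon S).map_surjective (c ≫ snd)
  have hflat : Flat h.left := hsfl c (𝟙 _) h hce (repWith_id _ Z) (by rw [hh, Category.comp_id])
  have hqch : QuasiCompact h.left := HasAffineProperty.iff_of_isAffine.mpr hU'
  have hsnd : IsSurjectiveMor snd := isSurjectiveMor_of_isPullback sq.flip hs
  have hcomp : ∀ u : ↥U.left, Points.map snd (Points.ofPt c u) = Points.schemeHomeo Z (h.left u) := by
    intro u
    rw [Points.map_ofPt, ← hh, ofPt_yon_map]
    rfl
  have hsurj : Surjective h.left := by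
    refine ⟨fun z => ?_⟩
    obtain ⟨x, hx⟩ := hsnd (Points.schemeHomeo Z z)
    obtain ⟨u, rfl⟩ := surjective_ofPt c hcs x
    rw [hcomp] at hx
    exact ⟨u, (Points.schemeHomeo Z).injective hx⟩
  have hq : IsQuotientMap h.left := Flat.isQuotientMap_of_surjective h.left
  have hq2 : IsQuotientMap (Points.map snd ∘ Points.ofPt c) := by
    have : Points.map snd ∘ Points.ofPt c = Points.schemeHomeo Z ∘ h.left := funext hcomp
    rw [this]
    exact (Points.schemeHomeo Z).isQuotientMap.comp hq
  exact IsQuotientMap.of_comp (Points.continuous_ofPt c) (Points.continuous_map snd) hq2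

theorem main {X Y : AlgSp.Space S} (f : X ⟶ Y)
    (hfl : AlgSp.LocP @Flat f.hom) (hqc : AlgSp.IsQuasiCompactMor f.hom) (hs : AlgSp.IsSurjectiveMor f.hom) :
    AlgSp.IsSubmersiveMor f.hom ∧ AlgSp.IsUnivSubmersiveMor f.hom := by
  have h2 : AlgSp.IsUnivSubmersiveMor f.hom :=
    univSp_of_affine (fun {α β} _ _ k => IsQuotientMap k)
      (fun hc hs => isQuotientMap_of_chartFam hc hs) f.hom
      (fun Z hZ g P fst snd sq => affine_case X.property Y.property f.hom hfl hqc hs Z hZ g P fst snd sq)
  exact ⟨h2 Y.property (𝟙 _) (𝟙 _) f.hom (IsPullback.id_horiz f.hom), h2⟩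

/-- A morphism of algebraic spaces that is flat, quasi-compact and surjective is submersive, and
universally submersive. -/
theorem result {S : Scheme.{u}} {X Y : AlgSp.Space S} (f : X ⟶ Y)
    (hfl : AlgSp.LocP @Flat f.hom) (hqc : AlgSp.IsQuasiCompactMor f.hom) (hs : AlgSp.IsSurjectiveMor f.hom) :
    AlgSp.IsSubmersiveMor f.hom ∧ AlgSp.IsUnivSubmersiveMor f.hom := by
  exact main f hfl hqc hs

end Groth.Agent.S9963
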