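import Groth.Statements.S9964
import Groth.Agent.Lib.Helper1.ClosedSub
import Groth.Agent.S10193
import Groth.Agent.S9928

set_option autoImplicit false
universe u
open CategoryTheory CategoryTheory.Limits AlgebraicGeometry
open AlgSp

namespace Groth.Agent.S9964

open Groth.Agent.H1.ClosedSub

variable {S : Scheme.{u}}

theorem mono_of_closed {F G : Sp S} (i : F ⟶ G) (hi : RepWith @IsClosedImmersion i) : Mono i :=
  Groth.Agent.S9928.mono_of_repWith_mono i
    (Groth.Agent.S10194.repWith_mono (fun _ _ f hf => by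
      have : IsClosedImmersion f := hf
      exact inferInstanceAs (IsImmersion f)) hi)

/-- The ideal sheaves on the atlas `V` of the closed subspaces of `Y` through which `f` factors. -/
def idealSet {X Y : Sp S} (f : X ⟶ Y) {V : Over S} (p : (yon S).obj V ⟶ Y) :
    Set (Scheme.IdealSheafData V.left) :=
  {I | ∃ (Z' : Sp S) (i' : Z' ⟶ Y) (C : Over S) (c : C ⟶ V) (fst : (yon S).obj C ⟶ Z'),
    IsAlgSpace Z' ∧ RepWith @IsClosedImmersion i' ∧ (∃ f'' : X ⟶ Z', f'' ≫ i' = f) ∧
    IsPullback fst ((yon S).map c) i' p ∧ I = c.left.ker}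

theorem main {X Y : AlgSp.Space S} (f : X ⟶ Y) :
    ∃ (Z : AlgSp.Space S) (i : Z ⟶ Y), AlgSp.IsSchImage f.hom i.hom := by
  obtain ⟨V, R, s, t, p, hp⟩ := exists_presentation Y
  have hst : (yon S).map t ≫ p = (yon S).map s ≫ p := hp.isPullback.w
  let I₀ : Scheme.IdealSheafData V.left := sSup (idealSet f.hom p)
  have hker : I₀.subschemeι.ker = I₀ := I₀.ker_subschemeι
  -- invariance
  have hinv : I₀.subschemeι.ker.comap s.left = I₀.subschemeι.ker.comap t.left := by
    rw [hker]
    show (sSup (idealSet f.hom p)).comap s.left = (sSup (idealSet f.hom p)).comap t.left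
    rw [(Scheme.IdealSheafData.map_gc s.left).l_sSup, (Scheme.IdealSheafData.map_gc t.left).l_sSup]
    refine iSup_congr fun I => iSup_congr fun hI => ?_
    obtain ⟨Z', i', C, c, fst, -, hi', -, sq, rfl⟩ := hI
    have : IsClosedImmersion c.left := hi'.2 _ _ _ sq
    exact comap_ker_eq hst i' c fst sq
  obtain ⟨Z, i, q, hcl, sq⟩ := exists_closedSub_of_comap_eq Y s t p hp I₀.subschemeι hinv
  have hmono : Mono i.hom := mono_of_closed i.hom hcl
  refine ⟨Z, i, hcl, ?_, ?_⟩
  · -- `f` factors through `Z`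
    obtain ⟨A, a, hae, has⟩ := X.property.atlas
    obtain ⟨W, w1, w2, sqW⟩ := hp.etale.rep (a ≫ f.hom)
    obtain ⟨g0, rfl⟩ := (yon S).map_surjective w2
    have hw1e : Etale w1.left := hp.etale.2 _ _ _ sqW
    have hw1s : Surjective w1.left := hp.surjective.2 _ _ _ sqW
    have hepi1 : Epi ((yon S).map w1) := Groth.Agent.S10193.epi_of_chart _
      ((repWith_yon_map_iff @Etale w1).2 hw1e) ((repWith_yon_map_iff @Surjective w1).2 hw1s)
    have hepi2 : Epi a := Groth.Agent.S10193.epi_of_chart a hae has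
    have hepi : Epi ((yon S).map w1 ≫ a) := epi_comp _ _
    have hle : I₀.subschemeι.ker ≤ g0.left.ker := by
      rw [hker]
      refine sSup_le ?_
      rintro I ⟨Z', i', C, c, fst, -, hi', ⟨f'', hf''⟩, sq', rfl⟩
      obtain ⟨l, -, hl2⟩ := sq'.exists_lift ((yon S).map w1 ≫ a ≫ f'') ((yon S).map g0) (by
        rw [Category.assoc, Category.assoc, hf'', sqW.w])
      obtain ⟨l0, rfl⟩ := (yon S).map_surjective l
      have hl0 : l0 ≫ c = g0 := (yon S).map_injective (by rw [Functor.map_comp, hl2])
      rw [← hl0, Over.comp_left]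
      exact Scheme.Hom.le_ker_comp _ _
    let l₀ : W ⟶ Over.mk (I₀.subschemeι ≫ V.hom) :=
      Over.homMk (IsClosedImmersion.lift I₀.subschemeι g0.left hle) (by
        show IsClosedImmersion.lift I₀.subschemeι g0.left hle ≫ I₀.subschemeι ≫ V.hom = W.hom
        rw [IsClosedImmersion.lift_fac_assoc, Over.w g0])
    have hl₀ : l₀ ≫ (Over.homMk I₀.subschemeι rfl : Over.mk (I₀.subschemeι ≫ V.hom) ⟶ V) = g0 := by
      apply Over.OverMorphism.ext
      exact IsClosedImmersion.lift_fac _ _ _
    have hgV : ((yon S).map l₀ ≫ q) ≫ i.hom = ((yon S).map w1 ≫ a) ≫ f.hom := by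
      rw [Category.assoc, sq.w, ← Category.assoc, ← Functor.map_comp, hl₀, sqW.w, Category.assoc]
    obtain ⟨g, hg⟩ := Groth.Agent.S10193.exists_factor_of_chart i.hom f.hom ((yon S).map w1 ≫ a) _ hgV
    exact ⟨g, hg⟩
  · -- minimality
    intro Z' i' hZ' hi' hfac
    have hmono' : Mono i' := mono_of_closed i' hi'
    obtain ⟨C, c, fst, sq'⟩ := hi'.rep p
    have hcc : IsClosedImmersion c.left := hi'.2 _ _ _ sq'
    have hmem : c.left.ker ∈ idealSet f.hom p := ⟨Z', i', C, c, fst, hZ', hi', hfac, sq', rfl⟩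
    have hle : c.left.ker ≤ I₀.subschemeι.ker := by
      rw [hker]
      exact le_sSup hmem
    let m : Over.mk (I₀.subschemeι ≫ V.hom) ⟶ C :=
      Over.homMk (IsClosedImmersion.lift c.left I₀.subschemeι hle) (by
        show IsClosedImmersion.lift c.left I₀.subschemeι hle ≫ C.hom = I₀.subschemeι ≫ V.hom
        rw [← Over.w c, IsClosedImmersion.lift_fac_assoc])
    have hm : m ≫ c = (Over.homMk I₀.subschemeι rfl : Over.mk (I₀.subschemeι ≫ V.hom) ⟶ V) := by
      apply Over.OverMorphism.ext
      exact IsClosedImmersion.lift_fac _ _ _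
    have hqe : Epi q := Groth.Agent.S10193.epi_of_chart q
      ((repWith_isStableUnderBaseChange (S := S) @Etale).of_isPullback sq.flip hp.etale)
      ((repWith_isStableUnderBaseChange (S := S) @Surjective).of_isPullback sq.flip hp.surjective)
    have hgV : ((yon S).map m ≫ fst) ≫ i' = q ≫ i.hom := by
      rw [Category.assoc, sq'.w, ← Category.assoc, ← Functor.map_comp, hm, sq.w]
    exact Groth.Agent.S10193.exists_factor_of_chart i' i.hom q _ hgV

/-- Every morphism of algebraic spaces has a scheme theoretic image, a smallest closed subspace of the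
target through which it factors. -/
theorem result {S : Scheme.{u}} {X Y : AlgSp.Space S} (f : X ⟶ Y) :
    ∃ (Z : AlgSp.Space S) (i : Z ⟶ Y), AlgSp.IsSchImage f.hom i.hom := by
  exact main f

end Groth.Agent.S9964
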