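import Groth.Statements.S9972
import Groth.Agent.Lib.Helper5.AlgSpFibreProduct

set_option autoImplicit false
universe u
open CategoryTheory CategoryTheory.Limits AlgebraicGeometry
open AlgSp

namespace Groth.Agent.S9972

/-- Two morphisms to an algebraic space separated over B that agree on an open subspace whose scheme
theoretic closure is everything are equal. -/
theorem result {S : Scheme.{u}} {U X Y B : AlgSp.Space S} (q : Y ⟶ B)
    (hq : AlgSp.IsSeparatedMor q.hom) (f g : X ⟶ Y) (hfg : f ≫ q = g ≫ q) (j : U ⟶ X)
    (hj : AlgSp.RepWith @IsOpenImmersion j.hom) (hcl : AlgSp.IsSchImage j.hom (𝟙 X.obj)) (heq : j ≫ f = j ≫ g) :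
    f = g := by
  have hH : IsAlgSpace (pullback q.hom q.hom) :=
    Groth.Agent.Lib.helper5.isAlgSpace_of_isPullback B.property.diag Y.property Y.property
      (IsPullback.of_hasPullback q.hom q.hom)
  have hfg' : f.hom ≫ q.hom = g.hom ≫ q.hom := congrArg (fun t => t.hom) hfg
  let fg : X.obj ⟶ pullback q.hom q.hom := pullback.lift f.hom g.hom hfg'
  have sqE := IsPullback.of_hasPullback fg (pullback.diagonal q.hom)
  have hE : IsAlgSpace (pullback fg (pullback.diagonal q.hom)) :=
    Groth.Agent.Lib.helper5.isAlgSpace_of_isPullback hH.diag X.property Y.property sqE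
  have hi' : RepWith @IsClosedImmersion (pullback.fst fg (pullback.diagonal q.hom)) :=
    MorphismProperty.pullback_fst _ _ hq
  have heq' : j.hom ≫ f.hom = j.hom ≫ g.hom := congrArg (fun t => t.hom) heq
  obtain ⟨k, hk⟩ := hcl.2.2 (pullback.fst fg (pullback.diagonal q.hom)) hE hi'
    ⟨pullback.lift j.hom (j.hom ≫ f.hom) (by
      apply pullback.hom_ext
      · simp only [Category.assoc, fg, pullback.diagonal_fst, Category.comp_id]
        rw [pullback.lift_fst]
      · simp only [Category.assoc, fg, pullback.diagonal_snd, Category.comp_id]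
        rw [pullback.lift_snd, heq']), pullback.lift_fst _ _ _⟩
  have h1 : pullback.fst fg (pullback.diagonal q.hom) ≫ f.hom =
      pullback.fst fg (pullback.diagonal q.hom) ≫ g.hom := by
    have c := sqE.w
    have c1 := congrArg (fun t => t ≫ pullback.fst q.hom q.hom) c
    have c2 := congrArg (fun t => t ≫ pullback.snd q.hom q.hom) c
    simp only [Category.assoc, fg, pullback.lift_fst, pullback.lift_snd,
      pullback.diagonal_fst, pullback.diagonal_snd, Category.comp_id] at c1 c2
    rw [c1, c2]
  apply ObjectProperty.hom_ext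
  calc f.hom = (k ≫ pullback.fst fg (pullback.diagonal q.hom)) ≫ f.hom := by
        rw [hk, Category.id_comp]
    _ = (k ≫ pullback.fst fg (pullback.diagonal q.hom)) ≫ g.hom := by
        rw [Category.assoc, h1, Category.assoc]
    _ = g.hom := by rw [hk, Category.id_comp]

end Groth.Agent.S9972
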