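import Groth.Statements.S9977
import Groth.Agent.S9341
import Groth.Agent.S10289
import Groth.Agent.Lib.Helper5.AlgSpLocPBC
import Groth.Agent.Lib.Helper5.AlgSpLocPInst
import Groth.Agent.Lib.Helper1.SevenProps

set_option autoImplicit false
universe u
open CategoryTheory CategoryTheory.Limits AlgebraicGeometry
open AlgSp

namespace Groth.Agent.S9977

open Groth.Agent.Lib.helper11 Groth.Agent.Lib.helper10 IsLocalRing

variable {S : Scheme.{u}}

/-- "is a finite type point" -/
def IsFt (X : AlgSp.Space S) (x : AlgSp.Points X.obj) : Prop :=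
  ∃ (k : Type u) (_ : Field k) (str : Spec (CommRingCat.of k) ⟶ S) (ξ : (AlgSp.yon S).obj (Over.mk str) ⟶ X.obj),
    AlgSp.LocP @LocallyOfFiniteType ξ ∧ AlgSp.Points.ofPt ξ (IsLocalRing.closedPoint k) = x

/-- a finite type point of an etale chart maps to a finite type point -/
theorem isFt_of_chart (X : AlgSp.Space S) {U : Over S} (a : (yon S).obj U ⟶ X.obj) (ha : RepWith @Etale a)
    (u : U.left) (hu : LocallyOfFiniteType (U.left.fromSpecResidueField u)) :
    IsFt X (Points.ofPt a u) := by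
  let k : Type u := U.left.residueField u
  let str : Spec (CommRingCat.of k) ⟶ S := U.left.fromSpecResidueField u ≫ U.hom
  let j : Over.mk str ⟶ U := Over.homMk (U.left.fromSpecResidueField u) rfl
  refine ⟨k, inferInstance, str, (yon S).map j ≫ a, ?_, ?_⟩
  · refine Groth.Agent.H1.Seven.locP_of_one_chart Groth.Agent.Lib.helper5.LocPBC.locPData_lft _
      (𝟙 _) a j (repWith_id @Etale _) (repWith_id @Surjective _) ha (by rw [Category.id_comp]) hu
  · rw [ofPt_yon_map_comp]
    congr 1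
    exact Scheme.fromSpecResidueField_apply _ _

theorem part1 (X : AlgSp.Space S) (T : Set (AlgSp.Points X.obj)) (hT : IsLocallyClosed T) (hne : T.Nonempty) :
    ∃ x ∈ T, IsFt X x := by
  obtain ⟨U, a, hae, has⟩ := X.property.atlas
  obtain ⟨x₀, hx₀⟩ := hne
  obtain ⟨u₀, hu₀⟩ := surjective_ofPt a has x₀
  have hZ : IsLocallyClosed (Points.ofPt a ⁻¹' T) := hT.preimage (Points.continuous_ofPt a)
  obtain ⟨u, hu1, hu2⟩ := Groth.Agent.S9341.part1 U.left _ hZ ⟨u₀, by rw [Set.mem_preimage, hu₀]; exact hx₀⟩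
  exact ⟨Points.ofPt a u, hu1, isFt_of_chart X a hae u hu2⟩

theorem main (X : AlgSp.Space S) :
    (∀ T : Set (AlgSp.Points X.obj), IsLocallyClosed T → T.Nonempty →
      ∃ x ∈ T, (∃ (k : Type u) (_ : Field k) (str : Spec (CommRingCat.of k) ⟶ S) (ξ : (AlgSp.yon S).obj (Over.mk str) ⟶ X.obj),
        AlgSp.LocP @LocallyOfFiniteType ξ ∧ AlgSp.Points.ofPt ξ (IsLocalRing.closedPoint k) = x)) ∧
    (∀ T : Set (AlgSp.Points X.obj), IsClosed T →
      T ⊆ closure {x | x ∈ T ∧ (∃ (k : Type u) (_ : Field k) (str : Spec (CommRingCat.of k) ⟶ S) (ξ : (AlgSp.yon S).obj (Over.mk str) ⟶ X.obj),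
        AlgSp.LocP @LocallyOfFiniteType ξ ∧ AlgSp.Points.ofPt ξ (IsLocalRing.closedPoint k) = x)}) := by
  refine ⟨fun T hT hne => part1 X T hT hne, fun T hT t ht => ?_⟩
  rw [mem_closure_iff]
  intro W hW htW
  have hlc : IsLocallyClosed (W ∩ T) := ⟨W, T, hW, hT, rfl⟩
  obtain ⟨x, ⟨hxW, hxT⟩, hx⟩ := part1 X (W ∩ T) hlc ⟨t, htW, ht⟩
  exact ⟨x, hxW, hxT, hx⟩

/-- Every nonempty locally closed subset of |X| contains a finite type point, and finite type points are
dense in every closed subset. -/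
theorem result {S : Scheme.{u}} (X : AlgSp.Space S) :
    (∀ T : Set (AlgSp.Points X.obj), IsLocallyClosed T → T.Nonempty →
      ∃ x ∈ T, (∃ (k : Type u) (_ : Field k) (str : Spec (CommRingCat.of k) ⟶ S) (ξ : (AlgSp.yon S).obj (Over.mk str) ⟶ X.obj),
        AlgSp.LocP @LocallyOfFiniteType ξ ∧ AlgSp.Points.ofPt ξ (IsLocalRing.closedPoint k) = x)) ∧
    (∀ T : Set (AlgSp.Points X.obj), IsClosed T →
      T ⊆ closure {x | x ∈ T ∧ (∃ (k : Type u) (_ : Field k) (str : Spec (CommRingCat.of k) ⟶ S) (ξ : (AlgSp.yon S).obj (Over.mk str) ⟶ X.obj),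
        AlgSp.LocP @LocallyOfFiniteType ξ ∧ AlgSp.Points.ofPt ξ (IsLocalRing.closedPoint k) = x)}) := by
  exact main X

end Groth.Agent.S9977
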