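import Groth.Statements.S9975
import Groth.Agent.S9977
import Groth.Agent.Lib.Helper1.FtPts

set_option autoImplicit false
universe u
open CategoryTheory CategoryTheory.Limits AlgebraicGeometry
open AlgSp

namespace Groth.Agent.S9975

open Groth.Agent.Lib.helper11 Groth.Agent.Lib.helper10 IsLocalRing

variable {S : Scheme.{u}}

set_option backward.isDefEq.respectTransparency.types false in
set_option maxHeartbeats 800000 in
theorem forward (X : AlgSp.Space S) (k : Type u) [Field k] (str : Spec (CommRingCat.of k) ⟶ S)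
    (ξ : (AlgSp.yon S).obj (Over.mk str) ⟶ X.obj) (hξ : AlgSp.LocP @LocallyOfFiniteType ξ) :
    ∃ (U : Over S) (φ : (AlgSp.yon S).obj U ⟶ X.obj) (u : ↥U.left), AlgSp.RepWith @Etale φ ∧
        IsClosed ({u} : Set ↥U.left) ∧ AlgSp.Points.ofPt φ u = AlgSp.Points.ofPt ξ (IsLocalRing.closedPoint k) := by
  let Z : Over S := Over.mk str
  obtain ⟨U₀, a, hae, has⟩ := X.property.atlas
  obtain ⟨W, p₁, p₂', sqW⟩ := hae.1 ξ
  obtain ⟨p₂, rfl⟩ := (yon S).map_surjective p₂'
  have hp₁e : Etale p₁.left := hae.2 _ _ _ sqW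
  have hp₁s : Surjective p₁.left := has.2 _ _ _ sqW
  obtain ⟨w₀, -⟩ := p₁.left.surjective (closedPoint k)
  have hp₁lft : LocallyOfFiniteType p₁.left := inferInstance
  have hJ0 : JacobsonSpace ↥(Spec (CommRingCat.of k)) := inferInstance
  have hJ : JacobsonSpace ↥W.left := @LocallyOfFiniteType.jacobsonSpace _ _ p₁.left hp₁lft hJ0
  obtain ⟨w, -, hw⟩ := nonempty_inter_closedPoints (X := ↥W.left) (Z := Set.univ) ⟨w₀, trivial⟩
    isOpen_univ.isLocallyClosed
  have hw' : IsClosed ({w} : Set W.left) := hw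
  have hwft : LocallyOfFiniteType (W.left.fromSpecResidueField w) :=
    isClosed_singleton_iff_locallyOfFiniteType.mp hw'
  have hp₂lft : LocallyOfFiniteType p₂.left :=
    hξ ((yon S).map p₁) a p₂ ((repWith_yon_map_iff @Etale p₁).2 hp₁e) hae sqW.w.symm
  have hu₀ft := Groth.Agent.H1.FtPts.ft_map p₂.left w hwft
  obtain ⟨U, hU, hu₀U, hc⟩ := (Groth.Agent.H1.FtPts.ft_iff U₀.left (p₂.left w)).mp hu₀ft
  obtain ⟨hφe, hφpt⟩ := chart_comp a hae U.ι
  refine ⟨Over.mk (U.ι ≫ U₀.hom), (yon S).map (Over.homMk (U := Over.mk (U.ι ≫ U₀.hom)) U.ι rfl) ≫ a,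
    (⟨p₂.left w, hu₀U⟩ : ↥U), hφe, hc, ?_⟩
  rw [hφpt]
  have h1 : Points.ofPt a (p₂.left w) = Points.ofPt ξ (p₁.left w) := ofPt_comm sqW.w w
  have h2 : p₁.left w = closedPoint k := Subsingleton.elim (α := ↥(Spec (CommRingCat.of k))) _ _
  rw [← h2, ← h1]
  rfl

theorem main (X : AlgSp.Space S) (x : AlgSp.Points X.obj) :
    (∃ (k : Type u) (_ : Field k) (str : Spec (CommRingCat.of k) ⟶ S) (ξ : (AlgSp.yon S).obj (Over.mk str) ⟶ X.obj),
        AlgSp.LocP @LocallyOfFiniteType ξ ∧ AlgSp.Points.ofPt ξ (IsLocalRing.closedPoint k) = x) ↔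
      ∃ (U : Over S) (φ : (AlgSp.yon S).obj U ⟶ X.obj) (u : ↥U.left), AlgSp.RepWith @Etale φ ∧
        IsClosed ({u} : Set ↥U.left) ∧ AlgSp.Points.ofPt φ u = x := by
  constructor
  · rintro ⟨k, _, str, ξ, hξ, rfl⟩
    exact forward X k str ξ hξ
  · rintro ⟨U, φ, u, hφ, hu, rfl⟩
    have : IsClosedImmersion (U.left.fromSpecResidueField u) := isClosed_singleton_iff_isClosedImmersion.mp hu
    exact Groth.Agent.S9977.isFt_of_chart X φ hφ u inferInstance

/-- A point of an algebraic space is a finite type point (represented by a locally finite type morphism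
from the spectrum of a field) exactly when it is the image of a closed point of some etale scheme
chart. -/
theorem result {S : Scheme.{u}} (X : AlgSp.Space S) (x : AlgSp.Points X.obj) :
    (∃ (k : Type u) (_ : Field k) (str : Spec (CommRingCat.of k) ⟶ S) (ξ : (AlgSp.yon S).obj (Over.mk str) ⟶ X.obj),
        AlgSp.LocP @LocallyOfFiniteType ξ ∧ AlgSp.Points.ofPt ξ (IsLocalRing.closedPoint k) = x) ↔
      ∃ (U : Over S) (φ : (AlgSp.yon S).obj U ⟶ X.obj) (u : ↥U.left), AlgSp.RepWith @Etale φ ∧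
        IsClosed ({u} : Set ↥U.left) ∧ AlgSp.Points.ofPt φ u = x := by
  exact main X x

end Groth.Agent.S9975
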