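import Groth.Statements.S9976
import Groth.Agent.S10289
import Groth.Agent.Lib.Helper5.AlgSpLocPBC
import Groth.Agent.Lib.Helper5.AlgSpLocPInst
import Groth.Agent.Lib.Helper1.SevenProps
import Groth.Agent.Lib.Helper1.LocPStable
import Mathlib.AlgebraicGeometry.Morphisms.Finite

set_option autoImplicit false
universe u
open CategoryTheory CategoryTheory.Limits AlgebraicGeometry
open AlgSp

namespace Groth.Agent.S9976

open Groth.Agent.Lib.helper11 Groth.Agent.Lib.helper10 IsLocalRing
open Groth.Agent.S10289

variable {S : Scheme.{u}}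

/-- the residue field point of a finite type point of an etale chart is locally of finite type -/
theorem locP_lft_chart_pt {F : Sp S} {U : Over S} (a : (yon S).obj U ⟶ F) (ha : RepWith @Etale a)
    (u : U.left) (hu : LocallyOfFiniteType (U.left.fromSpecResidueField u)) :
    LocP @LocallyOfFiniteType ((yon S).map (Over.homMk (U.left.fromSpecResidueField u) rfl :
      Over.mk (U.left.fromSpecResidueField u ≫ U.hom) ⟶ U) ≫ a) :=
  Groth.Agent.H1.Seven.locP_of_one_chart Groth.Agent.Lib.helper5.LocPBC.locPData_lft _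
    (𝟙 _) a _ (repWith_id @Etale _) (repWith_id @Surjective _) ha (by rw [Category.id_comp]) hu

set_option backward.isDefEq.respectTransparency.types false in
set_option maxHeartbeats 800000 in
theorem main {X Y : AlgSp.Space S} (f : X ⟶ Y)
    (hf : AlgSp.LocP @LocallyOfFiniteType f.hom) (hs : AlgSp.IsSurjectiveMor f.hom) (y : AlgSp.Points Y.obj)
    (hy : ∃ (k : Type u) (_ : Field k) (str : Spec (CommRingCat.of k) ⟶ S) (ξ : (AlgSp.yon S).obj (Over.mk str) ⟶ Y.obj),
        AlgSp.LocP @LocallyOfFiniteType ξ ∧ AlgSp.Points.ofPt ξ (IsLocalRing.closedPoint k) = y) :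
    ∃ x : AlgSp.Points X.obj, AlgSp.Points.map f.hom x = y ∧
      ∃ (k : Type u) (_ : Field k) (str : Spec (CommRingCat.of k) ⟶ S) (ξ : (AlgSp.yon S).obj (Over.mk str) ⟶ X.obj),
        AlgSp.LocP @LocallyOfFiniteType ξ ∧ AlgSp.Points.ofPt ξ (IsLocalRing.closedPoint k) = x := by
  obtain ⟨k, _, str, ξ, hξ, rfl⟩ := hy
  have sqP : IsPullback (pullback.fst f.hom ξ) (pullback.snd f.hom ξ) f.hom ξ :=
    IsPullback.of_hasPullback _ _
  generalize pullback.fst f.hom ξ = fst at sqP
  generalize pullback.snd f.hom ξ = snd at sqP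
  generalize pullback f.hom ξ = P at fst snd sqP
  let Z : Over S := Over.mk str
  have hP : IsAlgSpace P :=
    Groth.Agent.Lib.helper5.isAlgSpace_of_isPullback Y.property.diag X.property (IsAlgSpace.yon_obj Z) sqP
  have hlft : LocP @LocallyOfFiniteType snd :=
    Groth.Agent.Lib.helper5.LocPBC.locP_of_isPullback Groth.Agent.Lib.helper5.LocPBC.locPData_lft X.property Y.property
      (IsAlgSpace.yon_obj Z) sqP hf
  have hlft1 : LocP @LocallyOfFiniteType fst :=
    Groth.Agent.Lib.helper5.LocPBC.locP_of_isPullback Groth.Agent.Lib.helper5.LocPBC.locPData_lft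
      (IsAlgSpace.yon_obj Z) Y.property X.property sqP.flip hξ
  have hpt : Points.map ξ (Points.schemeHomeo Z (closedPoint k)) = Points.ofPt ξ (closedPoint k) := by
    show Points.map ξ (Points.ofPt (𝟙 _) (closedPoint k)) = _
    rw [Points.map_ofPt, Category.id_comp]
  obtain ⟨x₀, hx₀⟩ := hs (Points.ofPt ξ (closedPoint k))
  obtain ⟨w, hw1, hw2⟩ := exists_point_of_isPullback sqP x₀ (Points.schemeHomeo Z (closedPoint k))
    (hx₀.trans hpt.symm)
  obtain ⟨U, a, u', hU, ha, hau'⟩ := exists_affine_chart hP w
  obtain ⟨g, hg⟩ := (yon S).map_surjective (a ≫ snd)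
  have hglft : LocallyOfFiniteType g.left :=
    hlft a (𝟙 _) g ha (repWith_id @Etale Z) (by rw [Category.comp_id, hg])
  have hJ0 : JacobsonSpace ↥(Spec (CommRingCat.of k)) := inferInstance
  have hJ : JacobsonSpace ↥U.left := @LocallyOfFiniteType.jacobsonSpace _ _ g.left hglft hJ0
  obtain ⟨c, -, hc⟩ := nonempty_inter_closedPoints (X := ↥U.left) (Z := Set.univ) ⟨u', trivial⟩
    isOpen_univ.isLocallyClosed
  have hc' : IsClosed ({c} : Set U.left) := hc
  have hcft : LocallyOfFiniteType (U.left.fromSpecResidueField c) :=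
    isClosed_singleton_iff_locallyOfFiniteType.mp hc'
  let k' : Type u := U.left.residueField c
  let str' : Spec (CommRingCat.of k') ⟶ S := U.left.fromSpecResidueField c ≫ U.hom
  let j : Over.mk str' ⟶ U := Over.homMk (U.left.fromSpecResidueField c) rfl
  have h1 : LocP @LocallyOfFiniteType ((yon S).map j ≫ a) := locP_lft_chart_pt a ha c hcft
  have h2 : LocP @LocallyOfFiniteType (((yon S).map j ≫ a) ≫ fst) :=
    Groth.Agent.H1.LocPStable.locP_comp
      (fun f g hf hs h => Groth.Agent.Lib.helper5.LocPBC.locPData_lft.descend f g hf hs h) hP _ _ h1 hlft1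
  have hjc : j.left (closedPoint k') = c := Scheme.fromSpecResidueField_apply _ _
  have h3 : Points.ofPt (((yon S).map j ≫ a) ≫ fst) (closedPoint k') = Points.map fst (Points.ofPt a c) := by
    rw [← Points.map_ofPt, ofPt_yon_map_comp, hjc]
  refine ⟨Points.map fst (Points.ofPt a c), ?_, k', inferInstance, str', _, h2, h3⟩
  rw [← Points.map_comp, sqP.w, Points.map_comp, ← hpt]
  congr 1
  apply (Points.schemeHomeo Z).symm.injective
  have hsub : Subsingleton ↥(Spec (CommRingCat.of k)) := inferInstance
  exact hsub.elim _ _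

/-- Under a surjective morphism locally of finite type, every finite type point of the target is the
image of a finite type point of the source. (The published lemma states that the two sets of finite
type points correspond exactly; the inclusion of the image in the finite type points of the target
holds for every morphism locally of finite type and is omitted here.) -/
theorem result {S : Scheme.{u}} {X Y : AlgSp.Space S} (f : X ⟶ Y)
    (hf : AlgSp.LocP @LocallyOfFiniteType f.hom) (hs : AlgSp.IsSurjectiveMor f.hom) (y : AlgSp.Points Y.obj)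
    (hy : ∃ (k : Type u) (_ : Field k) (str : Spec (CommRingCat.of k) ⟶ S) (ξ : (AlgSp.yon S).obj (Over.mk str) ⟶ Y.obj),
        AlgSp.LocP @LocallyOfFiniteType ξ ∧ AlgSp.Points.ofPt ξ (IsLocalRing.closedPoint k) = y) :
    ∃ x : AlgSp.Points X.obj, AlgSp.Points.map f.hom x = y ∧
      ∃ (k : Type u) (_ : Field k) (str : Spec (CommRingCat.of k) ⟶ S) (ξ : (AlgSp.yon S).obj (Over.mk str) ⟶ X.obj),
        AlgSp.LocP @LocallyOfFiniteType ξ ∧ AlgSp.Points.ofPt ξ (IsLocalRing.closedPoint k) = x := by
  exact main f hf hs y hy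

end Groth.Agent.S9976
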