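import Groth.Statements.S9980
import Groth.Agent.Lib.Helper5.ResidualSp2
import Groth.Agent.S9975
import Groth.Agent.S9976
import Groth.Agent.Lib.Helper1.LocPStable

set_option autoImplicit false
universe u
open CategoryTheory CategoryTheory.Limits AlgebraicGeometry
open AlgSp

namespace Groth.Agent.S9980

open Groth.Agent.Lib.helper11 Groth.Agent.Lib.helper10 IsLocalRing

variable {S : Scheme.{u}}

/-- "is a finite type point" -/
abbrev IsFt (X : AlgSp.Space S) (x : AlgSp.Points X.obj) : Prop :=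
  ∃ (k : Type u) (_ : Field k) (str : Spec (CommRingCat.of k) ⟶ S) (ξ : (AlgSp.yon S).obj (Over.mk str) ⟶ X.obj),
    AlgSp.LocP @LocallyOfFiniteType ξ ∧ AlgSp.Points.ofPt ξ (IsLocalRing.closedPoint k) = x

theorem locP_lft_comp {F G H : Sp S} (hG : IsAlgSpace G) (f : F ⟶ G) (g : G ⟶ H)
    (hf : LocP @LocallyOfFiniteType f) (hg : LocP @LocallyOfFiniteType g) :
    LocP @LocallyOfFiniteType (f ≫ g) :=
  Groth.Agent.H1.LocPStable.locP_comp
    (fun f g hf hs h => Groth.Agent.Lib.helper5.LocPBC.locPData_lft.descend f g hf hs h) hG f g hf hg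

theorem one_to_three (X : AlgSp.Space S) (x : AlgSp.Points X.obj) (h : IsFt X x) :
    ∃ (Z : AlgSp.Space S) (f : Z ⟶ X) (k : Type u) (_ : Field k) (str : Spec (CommRingCat.of k) ⟶ S)
        (z : (AlgSp.yon S).obj (Over.mk str) ⟶ Z.obj), AlgSp.RepWith @Etale z ∧ AlgSp.RepWith @Surjective z ∧
        AlgSp.LocP @LocallyOfFiniteType f.hom ∧ Mono f.hom ∧
        AlgSp.Points.ofPt (z ≫ f.hom) (IsLocalRing.closedPoint k) = x := by
  obtain ⟨U, φ, u, hφ, hu, rfl⟩ := (Groth.Agent.S9975.result X x).mp h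
  obtain ⟨Z, hZ, i, z, hm, hzi, hze, hzs⟩ :=
    Groth.Agent.Lib.helper5.ResidualSp.exists_residualSpace_of_chart φ hφ u
  have hci : IsClosedImmersion (U.left.fromSpecResidueField u) :=
    isClosed_singleton_iff_isClosedImmersion.mp hu
  have hlft : LocallyOfFiniteType (Groth.Agent.Lib.helper5.FieldQuot.ptι φ u).left := by
    change LocallyOfFiniteType (U.left.fromSpecResidueField u)
    infer_instance
  refine ⟨⟨Z, hZ⟩, ObjectProperty.homMk i, (FieldPt.ofPt φ u).K, (FieldPt.ofPt φ u).field,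
    (FieldPt.ofPt φ u).str, z, hze, hzs, ?_, hm, ?_⟩
  · exact Groth.Agent.H1.Seven.locP_of_one_chart Groth.Agent.Lib.helper5.LocPBC.locPData_lft i z φ
      (Groth.Agent.Lib.helper5.FieldQuot.ptι φ u) hze hzs hφ hzi hlft
  · change Points.ofPt (z ≫ i) _ = _
    rw [hzi, ← FieldPt.toHom_ofPt, Points.ofPt_toHom]
    rfl

theorem three_to_one (X : AlgSp.Space S) (x : AlgSp.Points X.obj)
    (h : ∃ (Z : AlgSp.Space S) (f : Z ⟶ X) (k : Type u) (_ : Field k) (str : Spec (CommRingCat.of k) ⟶ S)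
        (z : (AlgSp.yon S).obj (Over.mk str) ⟶ Z.obj), AlgSp.RepWith @Etale z ∧ AlgSp.RepWith @Surjective z ∧
        AlgSp.LocP @LocallyOfFiniteType f.hom ∧ Mono f.hom ∧
        AlgSp.Points.ofPt (z ≫ f.hom) (IsLocalRing.closedPoint k) = x) : IsFt X x := by
  obtain ⟨Z, f, k, hk, str, z, hze, hzs, hf, hm, hx⟩ := h
  refine ⟨k, hk, str, z ≫ f.hom, locP_lft_comp Z.property z f.hom ?_ hf, hx⟩
  exact Groth.Agent.Lib.helper5.FppfBoot.locP_of_repWith_etale @LocallyOfFiniteType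
    (fun f hf => by haveI : Etale f := hf; infer_instance) _ hze

theorem one_to_two (X : AlgSp.Space S) (x : AlgSp.Points X.obj) (h : IsFt X x) :
    ∃ (Z : AlgSp.Space S) (f : Z ⟶ X), Nonempty (Unique (AlgSp.Points Z.obj)) ∧
        AlgSp.LocP @LocallyOfFiniteType f.hom ∧ Set.range (AlgSp.Points.map f.hom) = {x} := by
  obtain ⟨k, hk, str, ξ, hξ, rfl⟩ := h
  have hsub : Subsingleton ↥(Spec (CommRingCat.of k)) := inferInstanceAs (Subsingleton (PrimeSpectrum k))
  refine ⟨(AlgSp.ofScheme S).obj (Over.mk str), ObjectProperty.homMk ξ, ?_, hξ, ?_⟩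
  · have hun : Unique ↥(Over.mk str).left :=
      { default := (closedPoint k : ↥(Spec (CommRingCat.of k))),
        uniq := fun a => @Subsingleton.elim _ hsub _ _ }
    exact ⟨@Equiv.unique _ _ hun (Points.schemeEquiv (Over.mk str)).symm⟩
  · change Set.range (Points.map ξ) = _
    ext y
    simp only [Set.mem_range, Set.mem_singleton_iff]
    constructor
    · rintro ⟨w, rfl⟩
      rw [map_eq_ofPt_toScheme]
      congr 1
      exact @Subsingleton.elim _ hsub _ _
    · rintro rfl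
      exact ⟨Points.ofScheme _ (closedPoint k : ↥(Spec (CommRingCat.of k))),
        (Points.ofPt_eq_map_ofScheme _ _).symm⟩

theorem two_to_one (X : AlgSp.Space S) (x : AlgSp.Points X.obj)
    (h : ∃ (Z : AlgSp.Space S) (f : Z ⟶ X), Nonempty (Unique (AlgSp.Points Z.obj)) ∧
        AlgSp.LocP @LocallyOfFiniteType f.hom ∧ Set.range (AlgSp.Points.map f.hom) = {x}) : IsFt X x := by
  obtain ⟨Z, f, ⟨hU⟩, hf, hr⟩ := h
  obtain ⟨z₀, -, k, hk, str, ξ, hξ, hz₀⟩ := (Groth.Agent.S9977.result Z).1 Set.univ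
    isOpen_univ.isLocallyClosed ⟨hU.default, trivial⟩
  refine ⟨k, hk, str, ξ ≫ f.hom, locP_lft_comp Z.property ξ f.hom hξ hf, ?_⟩
  have : Points.map f.hom (Points.ofPt ξ (closedPoint k)) ∈ Set.range (Points.map f.hom) := ⟨_, rfl⟩
  rw [hr, Points.map_ofPt] at this
  exact this

/-- Characterizations of finite type points via one-point algebraic spaces locally of finite type over X
and via monomorphisms from quotients of spectra of fields. -/
theorem result {S : Scheme.{u}} (X : AlgSp.Space S) (x : AlgSp.Points X.obj) :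
    ((∃ (k : Type u) (_ : Field k) (str : Spec (CommRingCat.of k) ⟶ S) (ξ : (AlgSp.yon S).obj (Over.mk str) ⟶ X.obj),
        AlgSp.LocP @LocallyOfFiniteType ξ ∧ AlgSp.Points.ofPt ξ (IsLocalRing.closedPoint k) = x) ↔
      ∃ (Z : AlgSp.Space S) (f : Z ⟶ X), Nonempty (Unique (AlgSp.Points Z.obj)) ∧
        AlgSp.LocP @LocallyOfFiniteType f.hom ∧ Set.range (AlgSp.Points.map f.hom) = {x}) ∧
    ((∃ (k : Type u) (_ : Field k) (str : Spec (CommRingCat.of k) ⟶ S) (ξ : (AlgSp.yon S).obj (Over.mk str) ⟶ X.obj),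
        AlgSp.LocP @LocallyOfFiniteType ξ ∧ AlgSp.Points.ofPt ξ (IsLocalRing.closedPoint k) = x) ↔
      ∃ (Z : AlgSp.Space S) (f : Z ⟶ X) (k : Type u) (_ : Field k) (str : Spec (CommRingCat.of k) ⟶ S)
        (z : (AlgSp.yon S).obj (Over.mk str) ⟶ Z.obj), AlgSp.RepWith @Etale z ∧ AlgSp.RepWith @Surjective z ∧
        AlgSp.LocP @LocallyOfFiniteType f.hom ∧ Mono f.hom ∧
        AlgSp.Points.ofPt (z ≫ f.hom) (IsLocalRing.closedPoint k) = x) := by
  exact ⟨⟨one_to_two X x, two_to_one X x⟩, ⟨one_to_three X x, three_to_one X x⟩⟩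

end Groth.Agent.S9980
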