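import Groth.Statements.S9987
import Groth.Agent.S10247
-- import your own Groth.Agent.* helpers here

set_option autoImplicit false
universe u
open CategoryTheory CategoryTheory.Limits AlgebraicGeometry Opposite
open AlgSp

namespace Groth.Agent.S9987

/-- For a closed immersion i : Z ⟶ X of algebraic spaces over S (representable, every base change to a
scheme a closed immersion), the comparison map O_X ⟶ i_* O_Z of sheaves of rings on the small etale
site of X is locally surjective. (The published statement also asserts that i_* O_Z is a
quasi-coherent O_X-module and that the kernel of O_X ⟶ i_* O_Z is a quasi-coherent sheaf of ideals;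
those two assertions are the closed-immersion cases of the general facts that direct images along
quasi-compact quasi-separated morphisms preserve quasi-coherence and that the kernel ideal of a
quasi-compact morphism is quasi-coherent, a closed immersion being quasi-compact and separated, and
only the surjectivity is stated here.) -/
theorem result {S : Scheme.{u}} {Z X : AlgSp.Space S} (i : Z ⟶ X)
    (hi : AlgSp.RepWith @IsClosedImmersion i.hom) :
    Presheaf.IsLocallySurjective (AlgSp.etTop X.obj) (AlgSp.bcRingHom hi.1).hom := by
  refine ⟨fun {E} t => ?_⟩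
  -- cover `E` by its affine opens
  have hmem : Sieve.ofArrows (fun W : E.obj.left.left.affineOpens => Groth.Agent.S10247.sub E W.1)
      (fun W => Groth.Agent.S10247.subι E W.1) ∈ AlgSp.etTop X.obj E := by
    refine AlgSp.ofArrows_mem_etTop _ _ (fun x => ?_)
    obtain ⟨W, hW, hxW, -⟩ := TopologicalSpace.Opens.isBasis_iff_nbhd.mp E.obj.left.left.isBasis_affineOpens
      (show x ∈ (⊤ : E.obj.left.left.Opens) from trivial)
    exact ⟨⟨W, hW⟩, ⟨x, hxW⟩, rfl⟩
  refine (AlgSp.etTop X.obj).superset_covering ?_ hmem
  rintro V k ⟨_, a, _, ⟨W⟩, rfl⟩
  refine Sieve.downward_closed _ ?_ a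
  -- the closed immersion `Z ×_X W ⟶ W` into an affine scheme is surjective on global functions
  have sq := hi.1.isPullback (Groth.Agent.S10247.sub E W.1).obj.hom
  haveI hcl : IsClosedImmersion (hi.1.snd (Groth.Agent.S10247.sub E W.1).obj.hom).left :=
    hi.2 _ _ _ sq
  haveI : IsAffine (Groth.Agent.S10247.sub E W.1).obj.left.left := W.2
  have hsurj : Function.Surjective
      (hi.1.snd (Groth.Agent.S10247.sub E W.1).obj.hom).left.appTop.hom :=
    (IsClosedImmersion.isAffine_surjective_of_isAffine
      (hi.1.snd (Groth.Agent.S10247.sub E W.1).obj.hom).left).2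
  obtain ⟨s, hs⟩ := hsurj (ULift.down ((((AlgSp.EtOver.bc hi.1).sheafPushforwardContinuous
    RingCat.{u + 1} (AlgSp.etTop X.obj) (AlgSp.etTop Z.obj)).obj (AlgSp.OEtRing Z.obj)).obj.map
      (Groth.Agent.S10247.subι E W.1).op t))
  exact ⟨ULift.up s, ULift.ext _ _ hs⟩

end Groth.Agent.S9987
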