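import Groth.Statements.S9993
import Groth.Agent.Lib.Helper5.AlgSpLocPFam
import Groth.Agent.Lib.Helper5.AlgSpOpenSub
import Groth.Agent.S10196
import Groth.Agent.Lib.Helper18.AlgSp

set_option autoImplicit false
universe u
open CategoryTheory CategoryTheory.Limits AlgebraicGeometry
open AlgSp

namespace Groth.Agent.S9993

/-- A morphism f : X ⟶ Y of algebraic spaces has P at the point x in the neighbourhood sense (some chart
diagram through x whose top arrow has P on an open neighbourhood of the chosen point) if and only if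
some open subspace X' of X through x has its restriction X' ⟶ Y in the class P etale locally on the
source and target. -/
theorem result {S : Scheme.{u}} (P : MorphismProperty Scheme.{u})
    (hP : P = @LocallyOfFiniteType ∨ P = @LocallyOfFinitePresentation ∨ P = @Flat ∨ P = @Smooth ∨ P = @Etale ∨
      (∀ ⦃A B : Scheme.{u}⦄ (g : A ⟶ B), P g ↔ (LocallyQuasiFinite g ∧ LocallyOfFiniteType g)) ∨
      (∀ ⦃A B : Scheme.{u}⦄ (g : A ⟶ B), P g ↔ (LocallyOfFiniteType g ∧ FormallyUnramified g)))
    {X Y : AlgSp.Space S} (f : X ⟶ Y) (x : AlgSp.Points X.obj) :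
    AlgSp.HasAtMor (fun U _ h u => ∃ W : U.Opens, u ∈ W ∧ P (W.ι ≫ h)) f.hom x ↔
      ∃ (X' : AlgSp.Space S) (j : X' ⟶ X), AlgSp.RepWith @IsOpenImmersion j.hom ∧
        x ∈ Set.range (AlgSp.Points.map j.hom) ∧ AlgSp.LocP P (j ≫ f).hom := by
  open Groth.Agent.Lib.helper5.LocPFam in
  obtain ⟨hPd, hPc⟩ := locPData_of_seven P hP
  have := isZariskiLocalAtSource_of_seven P hP
  constructor
  · rintro ⟨U, V, a, b, h, u, hae, hbe, comm, hu, W, hW, hP'⟩
    let m : Over.mk (W.ι ≫ U.hom) ⟶ U := Over.homMk W.ι rfl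
    have hme : RepWith @Etale ((yon S).map m ≫ a) :=
      (RepWith (S := S) @Etale).comp_mem _ _
        ((repWith_yon_map_iff @Etale m).2 (inferInstanceAs (Etale W.ι))) hae
    obtain ⟨X', j, hj1, hj2, hjm⟩ := Groth.Agent.Lib.helper5.OpenSub.exists_openSub X
      (Set.range (Points.ofPt ((yon S).map m ≫ a)))
      (Groth.Agent.Lib.helper11.isOpenMap_ofPt _ hme).isOpen_range
    obtain ⟨a', ha'1, ha'e, ha's, -⟩ := Groth.Agent.S10196.result ((yon S).map m ≫ a) hme j hj1 hj2
    refine ⟨X', j, hj1, ?_, ?_⟩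
    · rw [hj2]
      refine ⟨⟨u, hW⟩, ?_⟩
      rw [Groth.Agent.Lib.helper11.ofPt_yon_map_comp]
      exact hu
    · refine Groth.Agent.H1.Seven.locP_of_one_chart hPd (j ≫ f).hom a' b (m ≫ h) ha'e ha's hbe ?_ hP'
      change a' ≫ j.hom ≫ f.hom = _
      rw [← Category.assoc, ha'1, Category.assoc, comm, Functor.map_comp, Category.assoc]
  · rintro ⟨X', j, hj1, ⟨x', rfl⟩, hloc⟩
    obtain ⟨U, V, a', b, h, u, hae, hbe, comm, hu⟩ :=
      exists_chart_at_point X'.property Y.property (j ≫ f).hom x'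
    have hje : RepWith @Etale j.hom := Groth.Agent.Lib.helper18.repWith_mono
      (fun X Y g hg => by have : IsOpenImmersion g := hg; infer_instance) hj1
    refine ⟨U, V, a' ≫ j.hom, b, h, u, ?_, hbe, ?_, ?_, ⊤, trivial, ?_⟩
    · exact (RepWith (S := S) @Etale).comp_mem _ _ hae hje
    · rw [Category.assoc]
      exact comm
    · rw [← hu, Points.map_ofPt]
    · exact hPd.pre _ _ inferInstance (hloc a' b h hae hbe comm)

end Groth.Agent.S9993
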