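import Groth.Statements.S9994
import Groth.Agent.Lib.Helper5.AlgSpLocPFam

set_option autoImplicit false
universe u
open CategoryTheory CategoryTheory.Limits AlgebraicGeometry
open AlgSp

namespace Groth.Agent.S9994

/-- A morphism f : X ⟶ Y of algebraic spaces has P etale locally on the source and target if and only if
it has P at every point of |X| in the neighbourhood sense (some chart diagram through the point
whose top arrow has P on an open neighbourhood of the chosen point). -/
theorem result {S : Scheme.{u}} (P : MorphismProperty Scheme.{u})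
    (hP : P = @LocallyOfFiniteType ∨ P = @LocallyOfFinitePresentation ∨ P = @Flat ∨ P = @Smooth ∨ P = @Etale ∨
      (∀ ⦃A B : Scheme.{u}⦄ (g : A ⟶ B), P g ↔ (LocallyQuasiFinite g ∧ LocallyOfFiniteType g)) ∨
      (∀ ⦃A B : Scheme.{u}⦄ (g : A ⟶ B), P g ↔ (LocallyOfFiniteType g ∧ FormallyUnramified g)))
    {X Y : AlgSp.Space S} (f : X ⟶ Y) :
    AlgSp.LocP P f.hom ↔
      ∀ x : AlgSp.Points X.obj, AlgSp.HasAtMor (fun U _ h u => ∃ W : U.Opens, u ∈ W ∧ P (W.ι ≫ h)) f.hom x := by
  open Groth.Agent.Lib.helper5.LocPFam in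
  obtain ⟨hPd, hPc⟩ := locPData_of_seven P hP
  have := isZariskiLocalAtSource_of_seven P hP
  constructor
  · intro hf x
    obtain ⟨U, V, a, b, h, u, hae, hbe, comm, hu⟩ := exists_chart_at_point X.property Y.property f.hom x
    refine ⟨U, V, a, b, h, u, hae, hbe, comm, hu, ⊤, trivial, ?_⟩
    exact hPd.pre _ _ inferInstance (hf a b h hae hbe comm)
  · intro hx
    choose U V a b h u hae hbe comm hu W hW hP' using hx
    let m : ∀ x, Over.mk ((W x).ι ≫ (U x).hom) ⟶ U x := fun x => Over.homMk (W x).ι rfl
    refine locP_of_chart_family hPd f.hom (fun x => Over.mk ((W x).ι ≫ (U x).hom)) V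
      (fun x => (yon S).map (m x) ≫ a x) b (fun x => m x ≫ h x) (fun x => ?_) hbe (fun x => ?_)
      (fun x => ?_) (fun x => ?_)
    · exact (RepWith (S := S) @Etale).comp_mem _ _
        ((repWith_yon_map_iff @Etale (m x)).2 (inferInstanceAs (Etale (W x).ι))) (hae x)
    · rw [Category.assoc, comm x, Functor.map_comp, Category.assoc]
    · exact hP' x
    · refine ⟨x, ⟨u x, hW x⟩, ?_⟩
      rw [Groth.Agent.Lib.helper11.ofPt_yon_map_comp]
      exact hu x

end Groth.Agent.S9994
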